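import Cfsg.Agent.Lib.BlockExtendedMain
import Cfsg.Agent.Lib.BlockPairLocal
import Cfsg.Prelude.Def_BlockLocal

/-!
# Local blocks below an abelian defect group
-/

set_option autoImplicit false
set_option linter.style.haveILetI false
set_option linter.unusedSectionVars false
set_option linter.unusedFintypeInType false

namespace CfsgLib.Block

open Cfsg CfsgLib.Char
open scoped ComplexConjugate Classical

universe u

variable {G : Type u} [Group G] [Fintype G] {p : ℕ} [Fact p.Prime] {M : Ideal AlgInt}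

/-- Induction inside a subgroup as induction in that subgroup. -/
theorem inducedIn_iff {H K : Subgroup G} [Fintype H] [Fintype K] [Fintype (K.subgroupOf H)]
    (hKH : K ≤ H) {c : Set (IrrCharacter K)} (hc : IsPBlock M c) (f : Set (IrrCharacter H)) :
    IsInducedBlockIn M H K c f ↔ IsInducedBlock M (K.subgroupOf H)
      (irrMap (Subgroup.subgroupOfEquivOfLe hKH).symm '' c) f := by
  let L : Subgroup H := K.subgroupOf H
  let φ : K ≃* L := (Subgroup.subgroupOfEquivOfLe hKH).symm
  have key : ∀ (ξ : IrrCharacter K) (g : H), inducedCentralChar L (irrMap φ ξ : L → ℂ) g =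
      inducedCentralCharIn H K (ξ : K → ℂ) (g : G) := by
    intro ξ g
    unfold inducedCentralChar inducedCentralCharIn
    symm
    refine finsum_mem_eq_of_bijOn φ ⟨fun k hk => ?_, φ.injective.injOn, fun l hl => ?_⟩
      fun k _ => ?_
    · obtain ⟨x, hx⟩ := hk
      exact (isConj_iff.2 ⟨x, Subtype.ext hx⟩ : IsConj ((φ k : L) : H) g).symm
    · obtain ⟨x, hx⟩ := isConj_iff.1 (IsConj.symm hl)
      exact ⟨φ.symm l, ⟨x, congrArg Subtype.val hx⟩, φ.apply_symm_apply l⟩
    · show _ = (irrMap φ ξ : L → ℂ) (φ k) / (irrMap φ ξ : L → ℂ) 1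
      rw [irrMap_apply, ← map_one φ, irrMap_apply]
  constructor
  · rintro ⟨-, hf, hind⟩
    refine ⟨isPBlock_irrMap φ hc, hf, ?_⟩
    rintro _ ⟨ξ, hξ, rfl⟩ χ hχ g
    rw [key]
    exact hind ξ hξ χ hχ g
  · rintro ⟨-, hf, hind⟩
    refine ⟨hc, hf, fun ξ hξ χ hχ g => ?_⟩
    rw [← key]
    exact hind _ (Set.mem_image_of_mem _ hξ) χ hχ g

/-- Induction inside a subgroup, read off from residual idempotents. -/
theorem gconv_of_inducedIn (hM : IsPModular p M) {P H K : Subgroup G} [Fintype H]
    (hP : IsPGroup p P) (hKH : K ≤ H) (hPK : P ≤ K)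
    (hCK : Subgroup.centralizer (P : Set G) ≤ K) (hKN : K ≤ Subgroup.normalizer (P : Set G))
    {c : Set (IrrCharacter K)} {f : Set (IrrCharacter H)}
    (h : IsInducedBlockIn M H K c f) :
    gconv (trc P (bFn hM H f)) (bFn hM K c) = bFn hM K c := by
  obtain ⟨hc, hf, hind⟩ := h
  haveI := Fintype.ofFinite K
  let L : Subgroup H := K.subgroupOf H
  haveI := Fintype.ofFinite L
  let φ : K ≃* L := (Subgroup.subgroupOfEquivOfLe hKH).symm
  have hPH : P ≤ H := hPK.trans hKH
  have hL : IsInducedBlock M L (irrMap φ '' c) f := (inducedIn_iff hKH hc f).1 ⟨hc, hf, hind⟩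
  have hP' : IsPGroup p (P.subgroupOf H) :=
    hP.of_equiv (Subgroup.subgroupOfEquivOfLe hPH).symm
  have e := trc_gFn_gconv_bFn (G := H) hM (P := P.subgroupOf H) (L := L) hP'
    (fun x hx => Subgroup.mem_subgroupOf.2 (hCK ((mem_centralizer_subgroupOf hPH x).1 hx)))
    (fun x hx => Subgroup.mem_normalizer_iff.2 fun y => by
      simp only [Subgroup.mem_subgroupOf, Subgroup.coe_mul, Subgroup.coe_inv]
      exact Subgroup.mem_normalizer_iff.1 (hKN (Subgroup.mem_subgroupOf.1 hx)) (y : G))
    (fun x hx => Subgroup.mem_subgroupOf.2 (hPK (Subgroup.mem_subgroupOf.1 hx))) hL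
  have e1 : ext0 H (trc (P.subgroupOf H) (gFn hM f)) = trc P (bFn hM H f) := by
    funext g
    by_cases hg : g ∈ H
    · lift g to H using hg
      rw [ext0_coe, bFn_eq_ext0]
      simp only [trc, ext0_coe]
      exact if_congr (mem_centralizer_subgroupOf hPH g) rfl rfl
    · rw [trc, bFn_eq_ext0, show ext0 H (gFn hM f) g = 0 from dif_neg hg, ite_self]
      exact dif_neg hg
  have e2 : ext0 H (bFn hM L (irrMap φ '' c)) = bFn hM K c := by
    funext g
    by_cases hg : g ∈ H
    · lift g to H using hg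
      rw [ext0_coe, bFn_eq_ext0 hM L, bFn_eq_ext0 hM K]
      by_cases hk : (g : G) ∈ K
      · rw [show ext0 L (gFn hM (irrMap φ '' c)) g =
            gFn hM (irrMap φ '' c) ⟨g, Subgroup.mem_subgroupOf.2 hk⟩ from dif_pos _,
          show ext0 K (gFn hM c) (g : G) = gFn hM c ⟨g, hk⟩ from dif_pos hk]
        exact gFn_irrMap hM φ c ⟨g, hk⟩
      · rw [show ext0 L (gFn hM (irrMap φ '' c)) g = 0 from
            dif_neg (fun h => hk (Subgroup.mem_subgroupOf.1 h)),
          show ext0 K (gFn hM c) (g : G) = 0 from dif_neg hk]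
    · rw [bFn_eq_ext0 hM K, show ext0 K (gFn hM c) g = 0 from dif_neg fun h => hg (hKH h)]
      exact dif_neg hg
  have := congrArg (ext0 H) e
  rwa [ext0_gconv, e1, e2] at this

/-- Induction from the centralizer of an abelian `p`-subgroup to the centralizer of a subgroup
exists. -/
theorem exists_inducedIn (hM : IsPModular p M) {P Q : Subgroup G} (hP : IsPGroup p P)
    (hab : ∀ x ∈ P, ∀ y ∈ P, x * y = y * x) (hQP : Q ≤ P)
    {c : Set (IrrCharacter (Subgroup.centralizer (P : Set G)))} (hc : IsPBlock M c) :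
    ∃ f, IsInducedBlockIn M (Subgroup.centralizer (Q : Set G))
      (Subgroup.centralizer (P : Set G)) c f := by
  have hPH : P ≤ Subgroup.centralizer (Q : Set G) := fun x hx =>
    Subgroup.mem_centralizer_iff.2 fun u hu => hab u (hQP hu) x hx
  have hPK : P ≤ Subgroup.centralizer (P : Set G) := fun x hx =>
    Subgroup.mem_centralizer_iff.2 fun u hu => hab u hu x hx
  have hKH : Subgroup.centralizer (P : Set G) ≤ Subgroup.centralizer (Q : Set G) :=
    Subgroup.centralizer_le hQP
  haveI := Fintype.ofFinite ((Subgroup.centralizer (P : Set G)).subgroupOf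
    (Subgroup.centralizer (Q : Set G)))
  obtain ⟨f, hf⟩ := inducedBlockDefined_brauer hM
    (P := P.subgroupOf (Subgroup.centralizer (Q : Set G)))
    (H := (Subgroup.centralizer (P : Set G)).subgroupOf (Subgroup.centralizer (Q : Set G)))
    (hP.of_equiv (Subgroup.subgroupOfEquivOfLe hPH).symm)
    (fun x hx => Subgroup.mem_subgroupOf.2 ((mem_centralizer_subgroupOf hPH x).1 hx))
    (fun x hx => Subgroup.centralizer_le_normalizer _
      ((mem_centralizer_subgroupOf hPH x).2 (Subgroup.mem_subgroupOf.1 hx)))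
    (fun x hx => Subgroup.mem_subgroupOf.2 (hPK (Subgroup.mem_subgroupOf.1 hx)))
    (isPBlock_irrMap (Subgroup.subgroupOfEquivOfLe hKH).symm hc)
  exact ⟨f, (inducedIn_iff hKH hc f).2 hf⟩

variable {hM : IsPModular p M} {B : Set (IrrCharacter G)} {P Q : Subgroup G}
  {ψ : G → ResField M} {f : Set (IrrCharacter (Subgroup.centralizer (Q : Set G)))}

/-- Below an abelian defect group the maximal pair stays maximal. -/
theorem maxPair_local [Fintype (Subgroup.centralizer (Q : Set G))] (hψ : MaxPair hM B P ψ)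
    (hab : ∀ x ∈ P, ∀ y ∈ P, x * y = y * x) (hf : IsPBlock M f)
    (hc : Chain hM (Q, pFn hM Q f) (P, ψ)) :
    MaxPair hM (G := Subgroup.centralizer (Q : Set G)) f
      (P.subgroupOf (Subgroup.centralizer (Q : Set G)))
      (fun k : Subgroup.centralizer (Q : Set G) => ψ k) := by
  have hQP : Q ≤ P := hc.le
  have hPC : P ≤ Subgroup.centralizer (Q : Set G) := fun x hx =>
    Subgroup.mem_centralizer_iff.2 fun u hu => hab u (hQP hu) x hx
  have hCP : Subgroup.centralizer (P : Set G) ≤ Subgroup.centralizer (Q : Set G) :=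
    Subgroup.centralizer_le hQP
  have hPN : P ≤ Subgroup.normalizer (Q : Set G) :=
    hPC.trans (Subgroup.centralizer_le_normalizer _)
  obtain ⟨φ', hφ', -⟩ := existsUnique_nSub hψ.1.1 hQP hPN
  obtain rfl : φ' = pFn hM Q f := Chain.unique hψ.1.1 (Relation.ReflTransGen.single hφ') hc
  have hQ : PairIn hM B Q (pFn hM Q f) := (hc.pairIn_iff B).1 hψ.1
  have hin := pairIn_subgroupOf hψ.1.1 hPC hCP hf hφ'.2.2.2.2.2
  obtain ⟨x, -, hx⟩ := exists_conj_centralizer_defect hψ hf hQ
  refine maxPair_of_defectGroup hin ?_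
  have := isDefectGroup_centralizer hψ.1.1 hf hc
    (hx.trans ((Subgroup.card_le_of_le inf_le_left).trans (by rw [inf_eq_left.2 hPC])))
  rwa [inf_eq_left.2 hPC] at this

/-- A local block below an abelian defect group is nilpotent when the stabiliser of the maximal
pair acts on `P` without fixing `Q`. -/
theorem nilpotent_local [Fintype (Subgroup.centralizer (Q : Set G))] (hψ : MaxPair hM B P ψ)
    (hab : ∀ x ∈ P, ∀ y ∈ P, x * y = y * x) (hf : IsPBlock M f)
    (hc : Chain hM (Q, pFn hM Q f) (P, ψ))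
    (hfix : ∀ g ∈ Subgroup.normalizer (P : Set G), cnj g ψ = ψ →
      g ∈ Subgroup.centralizer (Q : Set G) → g ∈ Subgroup.centralizer (P : Set G)) :
    IsNilpotentBlock p M f := by
  have hmax := maxPair_local hψ hab hf hc
  have hQP : Q ≤ P := hc.le
  have hPH : P ≤ (Subgroup.centralizer (Q : Set G)) := fun x hx =>
    Subgroup.mem_centralizer_iff.2 fun u hu => hab u (hQP hu) x hx
  refine ⟨hf, fun R e hRe x hxN hst _ => ?_⟩
  obtain ⟨he, hR⟩ := (isBrauerPairOf_iff hM).1 hRe
  obtain ⟨y, hy⟩ := hmax.exists_conj_chain hR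
  have hcx : cnj x (pFn hM R e) = pFn hM R e := ((stabilizesBlock_iff hM he x).1 hst).2
  have hN1 : y * x * y⁻¹ ∈
      Subgroup.normalizer ((R.map (MulAut.conj y).toMonoidHom : Subgroup (Subgroup.centralizer (Q : Set G))) : Set (Subgroup.centralizer (Q : Set G))) := by
    refine Subgroup.mem_normalizer_iff.2 fun z => ?_
    have := Subgroup.mem_normalizer_iff.1 hxN (y⁻¹ * z * y)
    simp only [Subgroup.mem_map_equiv, MulAut.conj_symm_apply]
    rw [this]
    refine Iff.of_eq (congrArg (· ∈ R) ?_)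
    group
  have hfix1 : cnj (y * x * y⁻¹) (cnj y (pFn hM R e)) = cnj y (pFn hM R e) := by
    rw [cnj_cnj, inv_mul_cancel_right, ← cnj_cnj, hcx]
  obtain ⟨h, hh, hhN, hhψ⟩ := stab_decomposition hmax
    (fun u hu v hv => Subtype.ext
      (hab u (Subgroup.mem_subgroupOf.1 hu) v (Subgroup.mem_subgroupOf.1 hv))) hy hN1 hfix1
  set w := h * (y * x * y⁻¹)
  have hwN : (w : G) ∈ Subgroup.normalizer (P : Set G) := by
    have key : ∀ u ∈ P, (w : G) * u * (w : G)⁻¹ ∈ P := fun u hu => by
      have := (Subgroup.mem_normalizer_iff.1 hhN ⟨u, hPH hu⟩).1 (Subgroup.mem_subgroupOf.2 hu)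
      simpa [Subgroup.mem_subgroupOf] using this
    have e1 : P.map (MulAut.conj (w : G)).toMonoidHom = P := by
      refine Subgroup.eq_of_le_of_card_ge ?_ (by rw [card_map_conj])
      rintro _ ⟨u, hu, rfl⟩
      exact key u hu
    refine Subgroup.mem_normalizer_iff.2 fun u => ⟨key u, fun hu => ?_⟩
    rw [← e1] at hu
    obtain ⟨v, hv, hve⟩ := hu
    rwa [← MulEquiv.injective (MulAut.conj (w : G)) hve]
  have hwψ : cnj (w : G) ψ = ψ := by
    funext g
    by_cases hg : g ∈ Subgroup.centralizer (P : Set G)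
    · exact congrFun hhψ ⟨g, Subgroup.centralizer_le hQP hg⟩
    · rw [hψ.1.1.2.supp hg]
      exact hψ.1.1.2.supp fun hmem => hg ((centralizer_conj_iff hwN g).2 hmem)
  have hwC := hfix _ hwN hwψ w.2
  have hwR : w ∈ Subgroup.centralizer ((R.map (MulAut.conj y).toMonoidHom : Subgroup (Subgroup.centralizer (Q : Set G))) : Set (Subgroup.centralizer (Q : Set G))) :=
    Subgroup.mem_centralizer_iff.2 fun z hz => Subtype.ext
      (Subgroup.mem_centralizer_iff.1 hwC (z : G) (Subgroup.mem_subgroupOf.1 (hy.le hz)))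
  have hx1 : y * x * y⁻¹ ∈
      Subgroup.centralizer ((R.map (MulAut.conj y).toMonoidHom : Subgroup (Subgroup.centralizer (Q : Set G))) : Set (Subgroup.centralizer (Q : Set G))) := by
    have : y * x * y⁻¹ = h⁻¹ * w := by simp [w]
    rw [this]
    exact mul_mem (inv_mem hh) hwR
  rw [mem_centralizer_map_conj] at hx1
  simpa [mul_assoc] using hx1

end CfsgLib.Block
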