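import Cfsg.Agent.Lib.BlockMinDim

/-!
# The dimension of a block of the group algebra
-/

set_option autoImplicit false
set_option linter.style.haveILetI false
set_option linter.unusedSectionVars false
set_option linter.unusedFintypeInType false

namespace CfsgLib.Block

open Cfsg CfsgLib.Char
open scoped ComplexConjugate Classical

universe u

variable {G : Type u} [Group G] [Fintype G] {p : ℕ} {M : Ideal AlgInt}

theorem finrank_finset_sup_le_sum {k V : Type*} [Field k] [AddCommGroup V] [Module k V]
    [FiniteDimensional k V] {ι : Type*} (s : Finset ι) (W : ι → Submodule k V) :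
    Module.finrank k (s.sup W : Submodule k V) ≤ ∑ i ∈ s, Module.finrank k (W i) := by
  induction s using Finset.induction_on with
  | empty => simp
  | insert a t ha ih =>
    rw [Finset.sup_insert, Finset.sum_insert ha]
    exact (Submodule.finrank_add_le_finrank_add_finrank _ _).trans (Nat.add_le_add le_rfl ih)

theorem sum_blocks_sqSum (hM : IsPModular p M) :
    ∑ B ∈ allBlocks G M, (∑ᶠ χ ∈ B, charDegree (χ : G → ℂ) ^ 2) = Nat.card G := by
  apply Nat.cast_injective (R := ℂ)
  rw [Nat.cast_sum, ← sum_degree_sq (G := G)]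
  have h : ∀ B ∈ allBlocks G M, ((∑ᶠ χ ∈ B, charDegree (χ : G → ℂ) ^ 2 : ℕ) : ℂ) =
      ∑ χ : IrrCharacter G, indVal B χ * (χ : G → ℂ) 1 ^ 2 := by
    intro B _
    rw [finsum_mem_eq_toFinset_sum, Nat.cast_sum,
      ← Finset.sum_subset (Finset.subset_univ B.toFinset)]
    · refine Finset.sum_congr rfl fun χ hχ => ?_
      rw [indVal, if_pos (Set.mem_toFinset.1 hχ), one_mul, Nat.cast_pow,
        charDegree_cast χ.2.isCharacter']
    · intro χ _ hχ
      rw [indVal, if_neg (mt Set.mem_toFinset.2 hχ), zero_mul]
  rw [Finset.sum_congr rfl h, Finset.sum_comm]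
  refine Finset.sum_congr rfl fun χ _ => ?_
  rw [← Finset.sum_mul, sum_indVal_allBlocks hM, one_mul]

/-- The block of the group algebra has dimension the sum of the squares of the degrees. -/
theorem finrank_blockSpace_eq (hM : IsPModular p M) {B : Set (IrrCharacter G)}
    (hB : IsPBlock M B) :
    letI : Field (ResField M) := @Ideal.Quotient.field _ _ M hM.2.1
    Module.finrank (ResField M) (blockSpace hM B) =
      ∑ᶠ χ ∈ B, charDegree (χ : G → ℂ) ^ 2 := by
  letI : Field (ResField M) := @Ideal.Quotient.field _ _ M hM.2.1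
  show Module.finrank (ResField M) (blockSpace hM B) = _
  have htop : (⊤ : Submodule (ResField M) (G → ResField M)) ≤
      (allBlocks G M).sup (fun B => blockSpace hM B) := by
    intro f _
    have hf : f = ∑ B ∈ allBlocks G M, gconv (gFn hM B) f := by
      rw [← sum_gconv, sum_gFn, gone_gconv]
    rw [hf]
    refine Submodule.sum_mem _ fun C hC => ?_
    refine (Finset.le_sup (f := fun B => blockSpace hM B) hC) ?_
    show gconv (gFn hM C) (gconv (gFn hM C) f) = gconv (gFn hM C) f
    rw [← gconv_assoc, gFn_mul_gFn hM (mem_allBlocks.1 hC) (mem_allBlocks.1 hC), if_pos rfl]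
  have h1 : Nat.card G ≤ ∑ C ∈ allBlocks G M, Module.finrank (ResField M) (blockSpace hM C) := by
    refine le_trans ?_ (finrank_finset_sup_le_sum _ _)
    rw [top_le_iff.1 htop, finrank_top, Module.finrank_fintype_fun_eq_card,
      Nat.card_eq_fintype_card]
  have hle : ∀ C ∈ allBlocks G M, Module.finrank (ResField M) (blockSpace hM C) ≤
      ∑ᶠ χ ∈ C, charDegree (χ : G → ℂ) ^ 2 := fun C hC =>
    finrank_blockSpace_le hM (mem_allBlocks.1 hC)
  rw [← sum_blocks_sqSum (G := G) hM] at h1
  exact (Finset.sum_eq_sum_iff_of_le hle).1 (le_antisymm (Finset.sum_le_sum hle) h1) B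
    (mem_allBlocks.2 hB)

end CfsgLib.Block
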