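import Cfsg.Agent.Lib.BlockPrincipalNormal
import Cfsg.Agent.Lib.BlockSpaceDim
import Cfsg.Agent.Lib.BlockPairBridge

/-!
# The theorem of Alperin and Dade on principal blocks
-/

set_option autoImplicit false
set_option linter.style.haveILetI false
set_option linter.unusedSectionVars false
set_option linter.unusedFintypeInType false

namespace CfsgLib.Block

open Cfsg CfsgLib.Char
open scoped ComplexConjugate Classical

universe u

variable {G : Type u} [Group G] [Fintype G] {p : ℕ} {M : Ideal AlgInt}

section Conv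

variable {R : Type*} [CommRing R]

theorem sum_gconv_total (a b : G → R) : ∑ g, gconv a b g = (∑ g, a g) * ∑ g, b g := by
  simp only [gconv]
  rw [Finset.sum_comm, Finset.sum_mul]
  refine Finset.sum_congr rfl fun x _ => ?_
  rw [← Finset.mul_sum]
  exact congrArg (a x * ·) (Fintype.sum_equiv (Equiv.mulLeft x⁻¹) _ _ fun g => rfl)

theorem gconv_sub_right (a b c : G → R) : gconv a (b - c) = gconv a b - gconv a c := by
  funext g
  simp [gconv, mul_sub, Finset.sum_sub_distrib]

theorem gconv_sub_left (a b c : G → R) : gconv (a - b) c = gconv a c - gconv b c := by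
  funext g
  simp [gconv, sub_mul, Finset.sum_sub_distrib]

theorem gconv_add_right (a b c : G → R) : gconv a (b + c) = gconv a b + gconv a c := by
  funext g
  simp [gconv, mul_add, Finset.sum_add_distrib]

theorem invBy_sub {K : Subgroup G} {a b : G → R} (ha : InvBy K a) (hb : InvBy K b) :
    InvBy K (a - b) := fun k hk g => by rw [Pi.sub_apply, Pi.sub_apply, ha k hk, hb k hk]

theorem invBy_smul {K : Subgroup G} {a : G → R} (r : R) (ha : InvBy K a) :
    InvBy K (r • a) := fun k hk g => by rw [Pi.smul_apply, Pi.smul_apply, ha k hk]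

theorem gconv_smul_left (r : R) (a b : G → R) : gconv (r • a) b = r • gconv a b := by
  funext g
  simp [gconv, Finset.mul_sum, mul_assoc]

theorem gconv_smul_right (r : R) (a b : G → R) : gconv a (r • b) = r • gconv a b := by
  funext g
  simp [gconv, Finset.mul_sum, mul_left_comm]

variable {N : Subgroup G} [hN : N.Normal]

/-- The push forward of a function to the quotient. -/
noncomputable def sig (N : Subgroup G) (a : G → R) (q : G ⧸ N) : R :=
  ∑ g : G, if (g : G ⧸ N) = q then a g else 0

theorem sig_sub (a b : G → R) (q : G ⧸ N) : sig N (a - b) q = sig N a q - sig N b q := by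
  simp only [sig, ← Finset.sum_sub_distrib]
  refine Finset.sum_congr rfl fun g _ => ?_
  split <;> simp

theorem sig_smul (r : R) (a : G → R) (q : G ⧸ N) : sig N (r • a) q = r * sig N a q := by
  simp only [sig, Finset.mul_sum]
  refine Finset.sum_congr rfl fun g _ => ?_
  split <;> simp

theorem sum_sig (a : G → R) : ∑ q : G ⧸ N, sig N a q = ∑ g, a g := by
  simp only [sig]
  rw [Finset.sum_comm]
  exact Finset.sum_congr rfl fun g _ => by simp

theorem sum_eq_sig_of_supp {a : G → R} {q : G ⧸ N} (ha : ∀ g : G, (g : G ⧸ N) ≠ q → a g = 0) :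
    ∑ g, a g = sig N a q := by
  refine Finset.sum_congr rfl fun g _ => ?_
  split_ifs with h
  · rfl
  · exact ha g h

theorem supp_gconv {a b : G → R} {q r : G ⧸ N} (ha : ∀ g : G, (g : G ⧸ N) ≠ q → a g = 0)
    (hb : ∀ g : G, (g : G ⧸ N) ≠ r → b g = 0) (g : G) (hg : (g : G ⧸ N) ≠ q * r) :
    gconv a b g = 0 := by
  refine Finset.sum_eq_zero fun x _ => ?_
  by_cases hx : (x : G ⧸ N) = q
  · rw [hb _ ?_, mul_zero]
    intro h
    refine hg ?_
    rw [← hx, ← h, ← QuotientGroup.mk_mul, mul_inv_cancel_left]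
  · rw [ha x hx, zero_mul]

theorem supp_one_iff {a : G → R} :
    (∀ g : G, (g : G ⧸ N) ≠ 1 → a g = 0) ↔ ∀ g, g ∉ N → a g = 0 := by
  constructor <;> intro h g hg <;> refine h g ?_
  · rwa [Ne, QuotientGroup.eq_one_iff]
  · rwa [Ne, QuotientGroup.eq_one_iff] at hg

theorem sig_gconv (a b : G → R) (q : G ⧸ N) :
    sig N (gconv a b) q = ∑ x : G, a x * sig N b ((x : G ⧸ N)⁻¹ * q) := by
  simp only [sig, gconv]
  rw [Finset.sum_congr rfl fun (g : G) _ => show (if (g : G ⧸ N) = q then ∑ x : G, a x * b (x⁻¹ * g) else 0) =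
    ∑ x : G, if (g : G ⧸ N) = q then a x * b (x⁻¹ * g) else 0 by split <;> simp, Finset.sum_comm]
  refine Finset.sum_congr rfl fun x _ => ?_
  rw [Finset.mul_sum]
  refine Fintype.sum_equiv (Equiv.mulLeft x⁻¹) _ _ fun g => ?_
  show _ = a x * if ((x⁻¹ * g : G) : G ⧸ N) = _ then b (x⁻¹ * g) else 0
  rw [mul_ite, mul_zero]
  refine if_congr ?_ rfl rfl
  rw [QuotientGroup.mk_mul, QuotientGroup.mk_inv, mul_left_cancel_iff]

end Conv

section AD

variable (hM : IsPModular p M) {N : Subgroup G} [hN : N.Normal] [Fintype N]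

local notation "e0" => bFn hM N (principalBlock M N)
local notation "E0" => gFn hM (principalBlock M G)

theorem sum_e0 : ∑ g, e0 g = 1 := by
  rw [bFn_eq_ext0, sum_ext0, sum_gFn_principal]

theorem isBlockFn_e0 : IsBlockFn hM N e0 := ⟨_, isPBlock_principal M, rfl⟩

theorem cnj_e0 (x : G) : cnj x e0 = e0 := by
  have h1 : IsBlockFn hM N (cnj x e0) := isBlockFn_cnj hM x (fun g =>
    ⟨fun hg => by simpa using hN.conj_mem g hg x⁻¹,
      fun hg => by simpa [mul_assoc] using hN.conj_mem _ hg x⟩) (isBlockFn_e0 hM)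
  by_contra hne
  have h2 := congrArg (fun f : G → ResField M => ∑ g, f g) (h1.mul_ne (isBlockFn_e0 hM) hne)
  simp only [Pi.zero_apply, Finset.sum_const_zero] at h2
  rw [sum_gconv_total, sum_e0, mul_one] at h2
  have h3 : ∑ g, cnj x e0 g = 1 := by
    rw [← sum_e0 (N := N) hM]
    exact Fintype.sum_equiv (MulAut.conj x⁻¹).toEquiv _ _ fun g => by simp [cnj]
  haveI := nontrivial_resField hM
  exact one_ne_zero (h3.symm.trans h2)

theorem e0_classFunction (g x : G) : e0 (x * g * x⁻¹) = e0 g := by
  have := congrFun (cnj_e0 (N := N) hM x⁻¹) g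
  simpa [cnj] using this

theorem e0_mul_E0 : gconv e0 E0 = E0 := by
  rcases gconv_gFn_or hM e0 (e0_classFunction hM) (isBlockFn_e0 hM).mul_self
    (isPBlock_principal (G := G) M) with h | h
  · exact h
  · have h2 := congrArg (fun f : G → ResField M => ∑ g, f g) h
    simp only [Pi.zero_apply, Finset.sum_const_zero] at h2
    rw [sum_gconv_total, sum_e0, sum_gFn_principal, one_mul] at h2
    haveI := nontrivial_resField hM
    exact absurd h2 one_ne_zero

theorem sum_cosetPart_apply (a : G → ResField M) (q : G ⧸ N) :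
    ∑ g : G, cosetPart N a q g = sig N a q := by
  simp only [cosetPart, sig]

/-- The functions invariant under `N` in the component of the principal block of `N`. -/
def GoodFn (z : G → ResField M) : Prop := InvBy N z ∧ gconv e0 z = z ∧ gconv z e0 = z

/-- The augmentation kernel in the centre of the principal block of `N`. -/
def AugFn (a : G → ResField M) : Prop :=
  GoodFn hM (N := N) a ∧ (∀ g, g ∉ N → a g = 0) ∧ ∑ g, a g = 0

variable {hM}

theorem GoodFn.mul {a b : G → ResField M} (ha : GoodFn hM (N := N) a) (hb : GoodFn hM (N := N) b) :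
    GoodFn hM (N := N) (gconv a b) :=
  ⟨invBy_gconv ha.1 hb.1, by rw [← gconv_assoc, ha.2.1], by rw [gconv_assoc, hb.2.2]⟩

theorem GoodFn.sub {a b : G → ResField M} (ha : GoodFn hM (N := N) a) (hb : GoodFn hM (N := N) b) :
    GoodFn hM (N := N) (a - b) :=
  ⟨invBy_sub ha.1 hb.1, by rw [gconv_sub_right, ha.2.1, hb.2.1],
    by rw [gconv_sub_left, ha.2.2, hb.2.2]⟩

theorem GoodFn.smul {a : G → ResField M} (r : ResField M) (ha : GoodFn hM (N := N) a) :
    GoodFn hM (N := N) (r • a) :=
  ⟨invBy_smul r ha.1, by rw [gconv_smul_right, ha.2.1], by rw [gconv_smul_left, ha.2.2]⟩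

theorem gconv_e0_cosetPart {z : G → ResField M} (q : G ⧸ N) :
    gconv e0 (cosetPart N z q) = cosetPart N (gconv e0 z) q ∧
      gconv (cosetPart N z q) e0 = cosetPart N (gconv z e0) q := by
  constructor <;> funext g <;> simp only [gconv, cosetPart] <;> split_ifs with h
  · refine Finset.sum_congr rfl fun x _ => ?_
    by_cases hx : x ∈ N
    · rw [if_pos]
      rw [← h, QuotientGroup.mk_mul, QuotientGroup.mk_inv, (QuotientGroup.eq_one_iff x).2 hx,
        inv_one, one_mul]
    · rw [(isBlockFn_e0 hM).supp hx, zero_mul, zero_mul]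
  · refine Finset.sum_eq_zero fun x _ => ?_
    by_cases hx : x ∈ N
    · rw [if_neg, mul_zero]
      rwa [QuotientGroup.mk_mul, QuotientGroup.mk_inv, (QuotientGroup.eq_one_iff x).2 hx,
        inv_one, one_mul]
    · rw [(isBlockFn_e0 hM).supp hx, zero_mul]
  · refine Finset.sum_congr rfl fun x _ => ?_
    by_cases hx : x⁻¹ * g ∈ N
    · rw [if_pos (h ▸ QuotientGroup.eq.2 hx)]
    · rw [(isBlockFn_e0 hM).supp hx, mul_zero, mul_zero]
  · refine Finset.sum_eq_zero fun x _ => ?_
    by_cases hx : x⁻¹ * g ∈ N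
    · rw [if_neg (fun h' => h ((QuotientGroup.eq.2 hx).symm.trans h')), zero_mul]
    · rw [(isBlockFn_e0 hM).supp hx, mul_zero]

theorem GoodFn.cosetPart {z : G → ResField M} (hz : GoodFn hM (N := N) z) (q : G ⧸ N) :
    GoodFn hM (N := N) (CfsgLib.Block.cosetPart N z q) := by
  refine ⟨fun k hk g => ?_, ?_, ?_⟩
  · simp only [CfsgLib.Block.cosetPart]
    rw [hz.1 k hk, QuotientGroup.mk_mul, QuotientGroup.mk_mul, QuotientGroup.mk_inv,
      (QuotientGroup.eq_one_iff k).2 hk, one_mul, inv_one, mul_one]
  · rw [(gconv_e0_cosetPart q).1, hz.2.1]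
  · rw [(gconv_e0_cosetPart q).2, hz.2.2]

theorem nilClass_augFn : NilClass hM N e0 (AugFn hM (N := N)) where
  invBy _ h := h.1.1
  unit _ h := h.1.2
  mul a a' h h' := ⟨h.1.mul h'.1, supp_one_iff.1 fun g hg => supp_gconv (supp_one_iff.2 h.2.1)
    (supp_one_iff.2 h'.2.1) g (by rwa [one_mul]),
    by rw [sum_gconv_total, h.2.2, zero_mul]⟩
  evZero a h hsupp v hv θ := by
    by_cases hθ : θ ∈ principalBlock M N
    · rw [ev_eq_of_mem hM (isPBlock_principal M) hθ (trivIrr_mem_principal hM), ev_triv_eq_sum,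
        hv, ← sum_ext0 N, ext0_restrict hsupp, h.2.2]
    · have h1 : cred hM (v * bIdem hM (isPBlock_principal M)) = cred hM v := by
        rw [cred_mul_eq_gconv, hv, ← gFn_block]
        refine ext0_injective N ?_
        rw [ext0_gconv, ext0_restrict hsupp, ← bFn_eq_ext0, h.1.2.2]
      rw [← ev_congr_cred hM h1 θ, map_mul]
      refine mul_eq_zero_of_right _ ?_
      rw [ev_bIdem, if_neg hθ]

variable (hM)

/-- Left multiplication of the principal block idempotent by the group ring of `N`. -/
noncomputable def mulPrincipal : (N → ResField M) →ₗ[ResField M] (G → ResField M) where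
  toFun f := gconv (ext0 N f) E0
  map_add' f f' := by
    have h : ext0 N (f + f') = ext0 N f + ext0 N f' := by
      funext g
      by_cases hg : g ∈ N
      · simp [ext0, hg]
      · simp [ext0, hg]
    funext g
    simp [h, gconv, add_mul, Finset.sum_add_distrib]
  map_smul' c f := by
    have h : ext0 N (c • f) = c • ext0 N f := by
      funext g
      by_cases hg : g ∈ N
      · simp [ext0, hg]
      · simp [ext0, hg]
    simp [h, gconv_smul_left]

theorem gconv_mem_range {f : G → ResField M} (hf : ∀ g, g ∉ N → f g = 0) :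
    gconv f E0 ∈ LinearMap.range (mulPrincipal hM (N := N)) :=
  ⟨fun n : N => f n, by show gconv (ext0 N _) _ = _; rw [ext0_restrict hf]⟩

theorem gprod_congr {β : G → ResField M} {c c' : ℕ → G → ResField M} :
    ∀ n, (∀ i < n, c i = c' i) → gprod β c 0 n = gprod β c' 0 n
  | 0, _ => rfl
  | n + 1, h => by
    rw [gprod, gprod, gprod_congr n (fun i hi => h i (by omega)), Nat.zero_add, h n (by omega)]

theorem gprod_supp_good {c : ℕ → G → ResField M} :
    ∀ n, (∀ i < n, AugFn hM (N := N) (c i)) →
      (∀ g, g ∉ N → gprod e0 c 0 n g = 0) ∧ GoodFn hM (N := N) (gprod e0 c 0 n)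
  | 0, _ => ⟨fun g hg => (isBlockFn_e0 hM).supp hg,
      (isBlockFn_e0 hM).invBy, (isBlockFn_e0 hM).mul_self, (isBlockFn_e0 hM).mul_self⟩
  | n + 1, h => by
    obtain ⟨h1, h2⟩ := gprod_supp_good n fun i hi => h i (by omega)
    have h3 := h n (by omega)
    rw [gprod, Nat.zero_add]
    exact ⟨supp_one_iff.1 fun g hg => supp_gconv (supp_one_iff.2 h1) (supp_one_iff.2 h3.2.1) g
      (by rwa [one_mul]), h2.mul h3.1⟩

variable [Fact p.Prime]

/-- If the principal idempotent is equally distributed over the cosets of `N`, then the block of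
the group algebra is spanned over the group ring of `N` by its idempotent. -/
theorem mem_range_of_sig_eq {κ n : ResField M} (hsig : ∀ q : G ⧸ N, sig N E0 q = κ)
    (hκ : n * κ = 1) {z : G → ResField M} (hz : GoodFn hM (N := N) z) :
    gconv z E0 ∈ LinearMap.range (mulPrincipal hM (N := N)) := by
  have hE : GoodFn hM (N := N) E0 := ⟨invBy_gFn hM _ N, e0_mul_E0 hM,
    by rw [gconv_gFn_comm, e0_mul_E0]⟩
  have hEE : gconv E0 E0 = E0 := gFn_mul_self (isPBlock_principal M)
  have he : GoodFn hM (N := N) e0 :=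
    ⟨(isBlockFn_e0 hM).invBy, (isBlockFn_e0 hM).mul_self, (isBlockFn_e0 hM).mul_self⟩
  let u : G ⧸ N → G → ResField M := fun q => n • cosetPart N E0 q
  have hu : ∀ q, GoodFn hM (N := N) (u q) := fun q => (hE.cosetPart q).smul n
  have husupp : ∀ (q : G ⧸ N) (g : G), (g : G ⧸ N) ≠ q → u q g = 0 := fun q g hg => by
    simp [u, cosetPart, hg]
  have husum : ∀ q, ∑ g, u q g = 1 := fun q => by
    simp only [u, Pi.smul_apply, smul_eq_mul, ← Finset.mul_sum, sum_cosetPart_apply, hsig]
    exact hκ
  let x : G ⧸ N → G → ResField M := fun q => e0 - gconv (u q⁻¹) (u q)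
  have hxN : ∀ q, AugFn hM (N := N) (x q) := by
    intro q
    refine ⟨he.sub ((hu _).mul (hu _)), fun g hg => ?_, ?_⟩
    · show e0 g - gconv (u q⁻¹) (u q) g = 0
      rw [(isBlockFn_e0 hM).supp hg, supp_gconv (husupp q⁻¹) (husupp q) g ?_, sub_zero]
      rwa [inv_mul_cancel, Ne, QuotientGroup.eq_one_iff]
    · show ∑ g, (e0 g - gconv (u q⁻¹) (u q) g) = 0
      rw [Finset.sum_sub_distrib, sum_e0, sum_gconv_total, husum, husum, one_mul, sub_self]
  have hdec : ∀ (q : G ⧸ N) (f : G → ResField M), GoodFn hM (N := N) f →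
      f = gconv (gconv f (u q⁻¹)) (u q) + gconv f (x q) := by
    intro q f hf
    rw [gconv_assoc, ← gconv_add_right, show gconv (u q⁻¹) (u q) + x q = e0 from add_sub_cancel _ _,
      hf.2.2]
  have hback : ∀ (q : G ⧸ N) (f : G → ResField M) (g : G), g ∉ N →
      gconv (cosetPart N f q) (u q⁻¹) g = 0 := by
    intro q f g hg
    refine supp_gconv (q := q) (fun g' hg' => ?_) (husupp q⁻¹) g ?_
    · simp [cosetPart, hg']
    · rwa [mul_inv_cancel, Ne, QuotientGroup.eq_one_iff]
  suffices H : ∀ m j : ℕ, j + m = Fintype.card (IrrCharacter N) → ∀ c : ℕ → G → ResField M,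
      (∀ i < j, AugFn hM (N := N) (c i)) → ∀ z : G → ResField M, GoodFn hM (N := N) z →
      gconv (gconv (gprod e0 c 0 j) z) E0 ∈ LinearMap.range (mulPrincipal hM (N := N)) by
    have h0 := H (Fintype.card (IrrCharacter N)) 0 (by omega) (fun _ => e0)
      (fun i hi => absurd hi (by omega)) z hz
    rwa [gprod, hz.2.1] at h0
  intro m
  induction m with
  | zero =>
    intro j hj c hc z _
    rw [Nat.add_zero] at hj
    subst hj
    rw [NilClass.gprod_eq_zero_of_supp hM (isPBlock_principal M) nilClass_augFn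
      (fun i hi => ⟨hc i hi, (hc i hi).2.1⟩), zero_gconv, zero_gconv]
    exact Submodule.zero_mem _
  | succ m ih =>
    intro j hj c hc z hz
    obtain ⟨hwsupp, hwgood⟩ := gprod_supp_good hM j hc
    set w := gprod e0 c 0 j with hw
    have hnext : ∀ a, AugFn hM (N := N) a → ∀ f, GoodFn hM (N := N) f →
        gconv (gconv (gconv w a) f) E0 ∈ LinearMap.range (mulPrincipal hM (N := N)) := by
      intro a ha f hf
      have h1 : ∀ i < j + 1, AugFn hM (N := N) (Function.update c j a i) := by
        intro i hi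
        rcases eq_or_ne i j with rfl | hne
        · rw [Function.update_self]; exact ha
        · rw [Function.update_of_ne hne]; exact hc i (by omega)
      have h2 := ih (j + 1) (by omega) (Function.update c j a) h1 f hf
      rwa [gprod, Nat.zero_add, Function.update_self, gprod_congr (c' := c) j
        (fun i hi => Function.update_of_ne (by omega) _ _), ← hw] at h2
    rw [← sum_cosetPart (N := N) z, gconv_sum, sum_gconv]
    refine Submodule.sum_mem _ fun q _ => ?_
    set f := cosetPart N z q with hf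
    have hfgood : GoodFn hM (N := N) f := hz.cosetPart q
    set r := gconv f (u q⁻¹) with hr
    have hrsupp : ∀ g, g ∉ N → r g = 0 := hback q z
    have hrgood : GoodFn hM (N := N) r := hfgood.mul (hu _)
    rw [hdec q f hfgood, ← hr, gconv_add_right]
    have hadd : ∀ a b c : G → ResField M, gconv (a + b) c = gconv a c + gconv b c := by
      intro a b c; funext g; simp [gconv, add_mul, Finset.sum_add_distrib]
    rw [hadd]
    refine Submodule.add_mem _ ?_ ?_
    · set y := gconv (u q) E0 - E0 with hy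
      have hygood : GoodFn hM (N := N) y := ((hu q).mul hE).sub hE
      have hysig : ∀ q' : G ⧸ N, sig N y q' = 0 := by
        intro q'
        rw [hy, sig_sub, sig_gconv]
        simp only [hsig, ← Finset.sum_mul, husum, one_mul, sub_self]
      have hyE : gconv y E0 = y := by rw [hy, gconv_sub_left, gconv_assoc, hEE]
      have huE : gconv (u q) E0 = E0 + y := by rw [hy]; abel
      rw [gconv_assoc, gconv_assoc r, huE, gconv_add_right, gconv_add_right]
      have hwr : ∀ g, g ∉ N → gconv w r g = 0 := supp_one_iff.1 fun g hg =>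
        supp_gconv (supp_one_iff.2 hwsupp) (supp_one_iff.2 hrsupp) g (by rwa [one_mul])
      refine Submodule.add_mem _ ?_ ?_
      · rw [← gconv_assoc]; exact gconv_mem_range hM hwr
      · rw [← hyE, ← gconv_assoc r, ← gconv_assoc, ← sum_cosetPart (N := N) y, gconv_sum,
          gconv_sum, sum_gconv]
        refine Submodule.sum_mem _ fun q' _ => ?_
        set f' := cosetPart N y q' with hf'
        have hf'good : GoodFn hM (N := N) f' := hygood.cosetPart q'
        set a := gconv f' (u q'⁻¹) with ha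
        have haaug : AugFn hM (N := N) a := by
          refine ⟨hf'good.mul (hu _), hback q' y, ?_⟩
          rw [sum_gconv_total, hf', sum_cosetPart_apply, hysig, zero_mul]
        rw [hdec q' f' hf'good, ← ha, gconv_add_right, gconv_add_right, hadd]
        refine Submodule.add_mem _ ?_ ?_
        · rw [← gconv_assoc r a, gconv_comm_of_supp hrsupp haaug.1.1, gconv_assoc a r,
            ← gconv_assoc w a]
          exact hnext a haaug _ (hrgood.mul (hu _))
        · rw [← gconv_assoc r f', ← gconv_comm_of_supp (hxN q').2.1 (hrgood.mul hf'good).1,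
            ← gconv_assoc w (x q')]
          exact hnext _ (hxN q') _ (hrgood.mul hf'good)
    · rw [← gconv_comm_of_supp (hxN q).2.1 hfgood.1, ← gconv_assoc w (x q)]
      exact hnext _ (hxN q) f hfgood

/-- Without any invariance: the whole block of the group algebra is spanned. -/
theorem mem_range_of_sig_eq_all {κ n : ResField M} (hsig : ∀ q : G ⧸ N, sig N E0 q = κ)
    (hκ : n * κ = 1) {q : G ⧸ N} {f : G → ResField M}
    (hf : ∀ g : G, (g : G ⧸ N) ≠ q → f g = 0) :
    gconv f E0 ∈ LinearMap.range (mulPrincipal hM (N := N)) := by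
  have hE : GoodFn hM (N := N) E0 := ⟨invBy_gFn hM _ N, e0_mul_E0 hM,
    by rw [gconv_gFn_comm, e0_mul_E0]⟩
  let u : G ⧸ N → G → ResField M := fun q => n • cosetPart N E0 q
  have hu : ∀ q, GoodFn hM (N := N) (u q) := fun q => (hE.cosetPart q).smul n
  have husupp : ∀ (q : G ⧸ N) (g : G), (g : G ⧸ N) ≠ q → u q g = 0 := fun q g hg => by
    simp [u, cosetPart, hg]
  have husum : ∀ q, ∑ g, u q g = 1 := fun q => by
    simp only [u, Pi.smul_apply, smul_eq_mul, ← Finset.mul_sum, sum_cosetPart_apply, hsig]
    exact hκ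
  set x : G → ResField M := e0 - gconv (u q⁻¹) (u q) with hx
  have hxN : AugFn hM (N := N) x := by
    refine ⟨GoodFn.sub ⟨(isBlockFn_e0 hM).invBy, (isBlockFn_e0 hM).mul_self,
      (isBlockFn_e0 hM).mul_self⟩ ((hu _).mul (hu _)), fun g hg => ?_, ?_⟩
    · show e0 g - gconv (u q⁻¹) (u q) g = 0
      rw [(isBlockFn_e0 hM).supp hg, supp_gconv (husupp q⁻¹) (husupp q) g ?_, sub_zero]
      rwa [inv_mul_cancel, Ne, QuotientGroup.eq_one_iff]
    · show ∑ g, (e0 g - gconv (u q⁻¹) (u q) g) = 0
      rw [Finset.sum_sub_distrib, sum_e0, sum_gconv_total, husum, husum, one_mul, sub_self]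
  obtain ⟨a, ha⟩ : ∃ a, mulPrincipal hM a = gconv (u q) E0 := by
    exact LinearMap.mem_range.1 (mem_range_of_sig_eq hM hsig hκ (hu q))
  have H : ∀ m j : ℕ, j + m = Fintype.card (IrrCharacter N) →
      gconv (gconv f (gprod e0 (fun _ => x) 0 j)) E0 ∈
        LinearMap.range (mulPrincipal hM (N := N)) := by
    intro m
    induction m with
    | zero =>
      intro j hj
      rw [Nat.add_zero] at hj
      subst hj
      rw [NilClass.gprod_eq_zero_of_supp hM (isPBlock_principal M) nilClass_augFn
        (fun i _ => ⟨hxN, hxN.2.1⟩), gconv_zero, zero_gconv]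
      exact Submodule.zero_mem _
    | succ m ih =>
      intro j hj
      obtain ⟨hwsupp, hwgood⟩ := gprod_supp_good hM j (c := fun _ => x) fun _ _ => hxN
      have hj1 := ih (j + 1) (by omega)
      rw [gprod] at hj1
      set w := gprod e0 (fun _ => x) 0 j with hw
      have hsplit : gconv f w = gconv (gconv (gconv f w) (u q⁻¹)) (u q) + gconv f (gconv w x) := by
        rw [gconv_assoc (gconv f w), ← gconv_assoc f w x, ← gconv_add_right,
          show gconv (u q⁻¹) (u q) + x = e0 from add_sub_cancel _ _, gconv_assoc, hwgood.2.2]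
      rw [hsplit, show ∀ a b c : G → ResField M, gconv (a + b) c = gconv a c + gconv b c from
        fun a b c => by funext g; simp [gconv, add_mul, Finset.sum_add_distrib]]
      refine Submodule.add_mem _ ?_ hj1
      rw [gconv_assoc, ← ha]
      show gconv _ (gconv (ext0 N a) E0) ∈ _
      rw [← gconv_assoc]
      refine gconv_mem_range hM (supp_one_iff.1 fun g hg => supp_gconv (q := 1) (r := 1)
        (supp_one_iff.2 (supp_one_iff.1 fun g' hg' => supp_gconv (q := q) (r := q⁻¹)
          (fun g'' hg'' => supp_gconv (q := q) (r := 1) hf (supp_one_iff.2 hwsupp) g''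
            (by rwa [mul_one])) (husupp q⁻¹) g' (by rwa [mul_inv_cancel])))
        (supp_one_iff.2 fun g' hg' => by simp [ext0, hg']) g (by rwa [one_mul]))
  have h0 := H (Fintype.card (IrrCharacter N)) 0 (by omega)
  rwa [gprod, gconv_assoc, e0_mul_E0] at h0

end AD

end CfsgLib.Block
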