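import Cfsg.Agent.Lib.BlockAlperinDade
import Cfsg.Agent.Lib.BlockTrace
import Mathlib.GroupTheory.SchurZassenhaus

/-!
# Distribution of the principal idempotent over the cosets of a normal subgroup
-/

set_option autoImplicit false
set_option linter.style.haveILetI false
set_option linter.unusedSectionVars false
set_option linter.unusedFintypeInType false

namespace CfsgLib.Block

open Cfsg CfsgLib.Char
open scoped ComplexConjugate Classical

universe u

variable {G : Type u} [Group G] [Fintype G] {p : ℕ} [Fact p.Prime] {M : Ideal AlgInt}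

theorem le_of_isPGroup_of_not_dvd_index {N P : Subgroup G} [N.Normal] (hidx : ¬ p ∣ N.index)
    (hP : IsPGroup p P) : P ≤ N := by
  intro x hx
  obtain ⟨k, hk⟩ := hP ⟨x, hx⟩
  have hk' : x ^ p ^ k = 1 := congrArg Subtype.val hk
  rw [← QuotientGroup.eq_one_iff (N := N), ← orderOf_eq_one_iff]
  refine Nat.eq_one_of_dvd_coprimes (a := p ^ k) (b := N.index) ?_ ?_ ?_
  · exact Nat.Coprime.pow_left _ ((Fact.out : p.Prime).coprime_iff_not_dvd.2 hidx)
  · refine orderOf_dvd_of_pow_eq_one ?_
    rw [← QuotientGroup.mk_pow, hk', QuotientGroup.mk_one]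
  · rw [Subgroup.index_eq_card]
    exact orderOf_dvd_natCard _

/-- The centralizer of a Sylow subgroup is a product of its centre with a normal `p'`-subgroup. -/
theorem exists_centralizer_complement (P : Sylow p G) :
    ∃ K : Subgroup G, K ≤ Subgroup.centralizer ((P : Subgroup G) : Set G) ∧ ¬ p ∣ Nat.card K ∧
      (∀ c ∈ Subgroup.centralizer ((P : Subgroup G) : Set G), ∀ k, k ∈ K ↔ c * k * c⁻¹ ∈ K) ∧
      ∀ c ∈ Subgroup.centralizer ((P : Subgroup G) : Set G),
        ∃ z ∈ (P : Subgroup G), ∃ k ∈ K, c = z * k := by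
  set Q : Subgroup G := (P : Subgroup G) with hQ
  have hCN : Subgroup.centralizer (Q : Set G) ≤ Subgroup.normalizer (Q : Set G) := by
    intro c hc
    rw [Subgroup.mem_normalizer_iff]
    intro x
    constructor <;> intro hx
    · rwa [← Subgroup.mem_centralizer_iff.1 hc x hx, mul_inv_cancel_right]
    · have h := Subgroup.mem_centralizer_iff.1 hc _ hx
      rw [inv_mul_cancel_right] at h
      rwa [← mul_left_cancel h] at hx
  let C := Subgroup.centralizer (Q : Set G)
  let Z : Subgroup C := Q.subgroupOf C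
  have hcentral : ∀ z ∈ Z, ∀ c : C, c * z = z * c := fun z hz c => by
    apply Subtype.ext
    exact (Subgroup.mem_centralizer_iff.1 c.2 (z : G) hz).symm
  haveI : Z.Normal := ⟨fun z hz c => by rwa [hcentral z hz c, mul_inv_cancel_right]⟩
  have hdvd : ¬ p ∣ Z.index := by
    intro h
    refine P.not_dvd_index (dvd_trans h ?_)
    show Q.relIndex C ∣ Q.index
    refine dvd_trans ?_ (Subgroup.relIndex_dvd_index_of_le Subgroup.le_normalizer |>.trans dvd_rfl)
    haveI : (Q.subgroupOf (Subgroup.normalizer (Q : Set G))).Normal :=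
      Subgroup.normal_subgroupOf_iff_le_normalizer Subgroup.le_normalizer |>.2 le_rfl
    rw [← Subgroup.relIndex_subgroupOf (H := Q) hCN]
    exact Subgroup.relIndex_dvd_index_of_normal _ _
  obtain ⟨n, hn⟩ := IsPGroup.iff_card.1 P.isPGroup'
  have hcop : Nat.Coprime (Nat.card Z) Z.index := by
    have hZc : Nat.card Z ∣ Nat.card Q := Subgroup.card_comap_dvd_of_injective Q C.subtype
      C.subtype_injective
    refine Nat.Coprime.coprime_dvd_left hZc ?_
    rw [hn]
    exact Nat.Coprime.pow_left _ ((Fact.out : p.Prime).coprime_iff_not_dvd.2 hdvd)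
  obtain ⟨H, hH⟩ := Subgroup.exists_right_complement'_of_coprime hcop
  have hdec : ∀ c : C, ∃ z ∈ Z, ∃ k ∈ H, c = z * k := by
    intro c
    obtain ⟨⟨⟨z, hz⟩, ⟨k, hk⟩⟩, h⟩ := hH.2 c
    exact ⟨z, hz, k, hk, h.symm⟩
  have hnormal : ∀ c k : C, k ∈ H → c * k * c⁻¹ ∈ H := by
    intro c k hk
    obtain ⟨z, hz, k', hk', rfl⟩ := hdec c
    have : z * k' * k * (z * k')⁻¹ = k' * k * k'⁻¹ := by
      calc z * k' * k * (z * k')⁻¹ = z * (k' * k * k'⁻¹) * z⁻¹ := by group
        _ = (k' * k * k'⁻¹) * z * z⁻¹ := by rw [hcentral z hz (k' * k * k'⁻¹)]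
        _ = _ := mul_inv_cancel_right _ _
    rw [this]
    exact H.mul_mem (H.mul_mem hk' hk) (H.inv_mem hk')
  refine ⟨H.map C.subtype, Subgroup.map_subtype_le H, ?_, ?_, ?_⟩
  · rw [Subgroup.card_map_of_injective C.subtype_injective]
    intro h
    refine hdvd ?_
    rw [hH.symm.index_eq_card]
    exact h
  · intro c hc k
    constructor
    · rintro ⟨k', hk', rfl⟩
      exact ⟨_, hnormal ⟨c, hc⟩ k' hk', rfl⟩
    · rintro ⟨k', hk', he⟩
      refine ⟨_, hnormal ⟨c, hc⟩⁻¹ k' hk', ?_⟩
      show c⁻¹ * (k' : G) * (c⁻¹)⁻¹ = k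
      rw [show (k' : G) = c * k * c⁻¹ from he]
      group
  · intro c hc
    obtain ⟨z, hz, k, hk, h⟩ := hdec ⟨c, hc⟩
    exact ⟨(z : G), hz, (k : G), ⟨k, hk, rfl⟩, congrArg Subtype.val h⟩

variable (hM : IsPModular p M)

/-- The Brauer image of the principal block idempotent at a Sylow subgroup. -/
theorem trc_gFn_principal (P : Sylow p G) :
    trc (P : Subgroup G) (gFn hM (principalBlock M G)) = prinFn hM (P : Subgroup G) := by
  set C := Subgroup.centralizer ((P : Subgroup G) : Set G)
  set a := trc (P : Subgroup G) (gFn hM (principalBlock M G))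
  obtain ⟨hsupp, hinv, hsq⟩ := trc_props hM P.isPGroup' (invBy_gFn hM (principalBlock M G) _)
    (invBy_gFn hM _ _) (gFn_mul_self (isPBlock_principal M))
  conv_lhs => rw [← gconv_gone a, ← sum_blockFns hM C, gconv_sum]
  have hprin := (pairFn_principal hM (P := (P : Subgroup G)) P.isPGroup').2
  rw [Finset.sum_eq_single (prinFn hM (P : Subgroup G))]
  · exact (pairIn_principal hM P.isPGroup').2.2
  · intro β hβ hne
    have hβ' := (mem_blockFns hM C).1 hβ
    rcases hβ'.occ_or hsupp hinv hsq with h | h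
    · exact absurd ((pairIn_principal_iff hM).1
        ⟨⟨P.isPGroup', hβ'⟩, isPBlock_principal M, h⟩).2 hne
    · exact h
  · intro h
    exact absurd ((mem_blockFns hM C).2 hprin) h

/-- The principal block idempotent of the centralizer is invariant under the `p'`-part. -/
theorem prinFn_mul_left {Q K : Subgroup G} (hK : K ≤ Subgroup.centralizer (Q : Set G))
    (hKp : ¬ p ∣ Nat.card K)
    (hKn : ∀ c ∈ Subgroup.centralizer (Q : Set G), ∀ k, k ∈ K ↔ c * k * c⁻¹ ∈ K)
    {k : G} (hk : k ∈ K) (g : G) : prinFn hM Q (k * g) = prinFn hM Q g := by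
  set c : ResField M := res hM ⟨_, natCast_inv_mem hM hKp⟩ with hc
  have hcn : c * (Nat.card K : ResField M) = 1 := by
    rw [hc, ← map_natCast (res hM) (Nat.card K), ← map_mul, ← map_one (res hM)]
    refine congrArg _ (Subtype.ext ?_)
    show ((Nat.card K : ℂ))⁻¹ * (((Nat.card K : locRing hM)) : ℂ) = 1
    rw [SubringClass.coe_natCast, inv_mul_cancel₀ (Nat.cast_ne_zero.2 Nat.card_pos.ne')]
  let a : G → ResField M := fun g => if g ∈ K then c else 0
  have hfilter : (Finset.univ.filter fun g : G => g ∈ K).card = Nat.card K := by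
    rw [Nat.card_eq_fintype_card, Fintype.card_subtype]
  have hsum : ∑ g, a g = 1 := by
    simp only [a]
    rw [← Finset.sum_filter, Finset.sum_const, nsmul_eq_mul, hfilter, mul_comm, hcn]
  have hinv : InvBy (Subgroup.centralizer (Q : Set G)) a := fun x hx g => by
    simp only [a]
    exact if_congr (hKn x hx g).symm rfl rfl
  have hsq : gconv a a = a := by
    funext g
    simp only [gconv, a, ite_mul, zero_mul]
    rw [← Finset.sum_filter, Finset.sum_congr rfl (g := fun _ => c * if g ∈ K then c else 0)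
      fun x hx => congrArg (c * ·) (if_congr
        (K.mul_mem_cancel_left (K.inv_mem (Finset.mem_filter.1 hx).2)) rfl rfl),
      Finset.sum_const, nsmul_eq_mul, hfilter, ← mul_assoc, mul_comm _ c, hcn, one_mul]
  have h := (occ_principal_iff hM (fun g hg => by simp only [a]; rw [if_neg fun h => hg (hK h)])
    hinv hsq).2 hsum
  rw [← h]
  refine Fintype.sum_equiv (Equiv.mulLeft k⁻¹) _ _ fun x => ?_
  show a x * _ = a (k⁻¹ * x) * prinFn hM Q ((k⁻¹ * x)⁻¹ * g)
  rw [mul_inv_rev, inv_inv, mul_assoc]
  congr 1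
  simp only [a]
  exact if_congr (K.mul_mem_cancel_left (K.inv_mem hk)).symm rfl rfl

variable {N : Subgroup G} [hN : N.Normal]

/-- With `G = N C(P)` the principal idempotent is equally distributed over the cosets of `N`. -/
theorem sig_principal_const (hidx : ¬ p ∣ N.index) (P : Sylow p G)
    (hsup : N ⊔ Subgroup.centralizer ((P : Subgroup G) : Set G) = ⊤) (q : G ⧸ N) :
    sig N (gFn hM (principalBlock M G)) q = sig N (gFn hM (principalBlock M G)) 1 := by
  obtain ⟨K, hKC, hKp, hKn, hKdec⟩ := exists_centralizer_complement P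
  have hPN : (P : Subgroup G) ≤ N := le_of_isPGroup_of_not_dvd_index hidx P.isPGroup'
  have htr : ∀ q : G ⧸ N, sig N (gFn hM (principalBlock M G)) q =
      sig N (prinFn hM (P : Subgroup G)) q := by
    intro q
    rw [← sum_cosetPart_apply, ← sum_cosetPart_apply, ← trc_gFn_principal hM P,
      ← sum_trc_eq hM P.isPGroup' (P := (P : Subgroup G))]
    · refine Finset.sum_congr rfl fun g _ => ?_
      simp only [cosetPart, trc]
      split_ifs <;> rfl
    · intro k hk g
      simp only [cosetPart]
      rw [gFn_classFunction hM _ g k, QuotientGroup.mk_mul, QuotientGroup.mk_mul,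
        QuotientGroup.mk_inv, (QuotientGroup.eq_one_iff k).2 (hPN hk), one_mul, inv_one, mul_one]
  obtain ⟨g₀, rfl⟩ := QuotientGroup.mk_surjective q
  have hmem : g₀ ∈ N ⊔ Subgroup.centralizer ((P : Subgroup G) : Set G) := hsup ▸ Subgroup.mem_top _
  rw [← SetLike.mem_coe, Subgroup.normal_mul] at hmem
  obtain ⟨n, hn, c, hc, rfl⟩ := Set.mem_mul.1 hmem
  obtain ⟨z, hz, k, hk, rfl⟩ := hKdec c hc
  rw [htr, htr, QuotientGroup.mk_mul, QuotientGroup.mk_mul, (QuotientGroup.eq_one_iff n).2 hn,
    (QuotientGroup.eq_one_iff z).2 (hPN hz), one_mul, one_mul]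
  refine Fintype.sum_equiv (Equiv.mulLeft k⁻¹) _ _ fun g => ?_
  show _ = if ((k⁻¹ * g : G) : G ⧸ N) = 1 then prinFn hM (P : Subgroup G) (k⁻¹ * g) else 0
  refine if_congr ?_ (prinFn_mul_left hM hKC hKp hKn (K.inv_mem hk) g).symm rfl
  rw [QuotientGroup.mk_mul, QuotientGroup.mk_inv, inv_mul_eq_one, eq_comm]

variable [Fintype N]

include hM in
/-- The inequality behind the theorem of Alperin and Dade. -/
theorem sqSum_principal_le_of_supplement (hidx : ¬ p ∣ N.index) (P : Sylow p G)
    (hsup : N ⊔ Subgroup.centralizer ((P : Subgroup G) : Set G) = ⊤) :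
    sqSum (principalBlock M G) ≤ sqSum (principalBlock M N) := by
  letI : Field (ResField M) := @Ideal.Quotient.field _ _ M hM.2.1
  set κ := sig N (gFn hM (principalBlock M G)) 1
  have hκ : (N.index : ResField M) * κ = 1 := by
    rw [← sum_gFn_principal hM (G := G), ← sum_sig (N := N),
      Finset.sum_congr rfl fun q _ => sig_principal_const hM hidx P hsup q, Finset.sum_const,
      nsmul_eq_mul, Finset.card_univ, Subgroup.index_eq_card, Nat.card_eq_fintype_card]
  have he : GoodFn hM (N := N) (bFn hM N (principalBlock M N)) :=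
    ⟨(isBlockFn_e0 hM).invBy, (isBlockFn_e0 hM).mul_self, (isBlockFn_e0 hM).mul_self⟩
  have hsub : blockSpace hM (principalBlock M G) ≤
      (blockSpace hM (principalBlock M N)).map (mulPrincipal hM (N := N)) := by
    intro f hf
    -- first land in the range, coset by coset
    have hrange : f ∈ LinearMap.range (mulPrincipal hM (N := N)) := by
      rw [← (mem_blockSpace.1 hf), gconv_gFn_comm]
      have hf' : f = ∑ x : G, f x • (fun g => if g = x then (1 : ResField M) else 0) := by
        funext g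
        simp [Finset.sum_apply]
      rw [hf', sum_gconv]
      refine Submodule.sum_mem _ fun x _ => ?_
      rw [gconv_smul_left]
      refine Submodule.smul_mem _ _ ?_
      exact mem_range_of_sig_eq_all hM (sig_principal_const hM hidx P hsup) hκ (q := (x : G ⧸ N))
        fun g hg => if_neg fun h => hg (by rw [h])
    obtain ⟨a, rfl⟩ := hrange
    refine ⟨gconv (gFn hM (principalBlock M N)) a, ?_, ?_⟩
    · show gconv _ (gconv _ a) = gconv _ a
      rw [← gconv_assoc, gFn_mul_self (isPBlock_principal M)]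
    · show gconv (ext0 N _) _ = gconv (ext0 N a) _
      rw [gconv_gFn_comm, ext0_gconv, gconv_assoc, ← bFn_eq_ext0, e0_mul_E0]
  exact le_of_eq_of_le (finrank_blockSpace_eq hM (isPBlock_principal M)).symm
    (le_of_le_of_eq ((Submodule.finrank_mono hsub).trans (Submodule.finrank_map_le _ _))
      (finrank_blockSpace_eq hM (isPBlock_principal M)))

end CfsgLib.Block
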