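import Cfsg.Agent.Lib.BlockHeight

/-!
# The matrix `p ^ d [χ°, ψ]` of a block and the bound on the number of its characters
-/

set_option autoImplicit false

universe u

namespace CfsgLib.Block

open Cfsg CfsgLib.Char
open scoped ComplexConjugate Classical

variable {G : Type u} [Group G] [Fintype G] {p : ℕ} {M : Ideal AlgInt}

/-- The entries `p ^ d [χ°, ψ]`, as complex numbers. -/
noncomputable def blockMat (p : ℕ) (B : Set (IrrCharacter G)) (χ ψ : IrrCharacter G) : ℂ :=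
  classInner ((p : ℂ) ^ blockDefect p B • regPart p (χ : G → ℂ)) (ψ : G → ℂ)

theorem defect_add_min (hM : IsPModular p M) {B : Set (IrrCharacter G)} (hB : IsPBlock M B) :
    blockDefect p B + blockMin p B = (Nat.card G).factorization p := by
  rw [blockDefect_eq]
  have := blockMin_le_card hM hB
  omega

theorem exists_int_blockMat (hM : IsPModular p M) {B : Set (IrrCharacter G)} (hB : IsPBlock M B)
    {χ : IrrCharacter G} (hχ : χ ∈ B) (ψ : IrrCharacter G) :
    ∃ n : ℤ, blockMat p B χ ψ = n := by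
  refine exists_int_inner_regPart hM.1 χ ψ.2.isCharacter' ?_
  rw [← defect_add_min hM hB]
  exact Nat.add_le_add_left (blockMin_le hχ) _

theorem blockMat_mul_pow (hM : IsPModular p M) {B : Set (IrrCharacter G)} (hB : IsPBlock M B)
    (χ ψ : IrrCharacter G) :
    classInner (scaledReg p (χ : G → ℂ)) (ψ : G → ℂ) =
      (p : ℂ) ^ blockMin p B * blockMat p B χ ψ := by
  rw [blockMat, scaledReg_eq, CfsgLib.Char.inner_smul_left, CfsgLib.Char.inner_smul_left,
    ← mul_assoc, ← pow_add, add_comm (blockMin p B), defect_add_min hM hB]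

theorem blockMat_conj (B : Set (IrrCharacter G)) (χ ψ : IrrCharacter G) :
    conj (blockMat p B χ ψ) = blockMat p B ψ χ := by
  simp only [blockMat, CfsgLib.Char.inner_smul_left, classInner_regPart, map_mul, map_pow,
    map_inv₀, Complex.conj_natCast, map_sum, Complex.conj_conj]
  congr 2
  exact Finset.sum_congr rfl fun g _ => mul_comm _ _

theorem regPart_inner_self (χ ψ : IrrCharacter G) :
    classInner (regPart p (χ : G → ℂ)) (regPart p (ψ : G → ℂ)) =
      classInner (regPart p (χ : G → ℂ)) (ψ : G → ℂ) := by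
  simp only [classInner]
  congr 1
  refine Finset.sum_congr rfl fun g _ => ?_
  unfold regPart
  split_ifs <;> simp

/-- The matrix is `p ^ d` times an orthogonal projection. -/
theorem sum_blockMat_mul (hM : IsPModular p M) {B : Set (IrrCharacter G)} (hB : IsPBlock M B)
    {χ ψ : IrrCharacter G} (hψ : ψ ∈ B) :
    ∑ φ ∈ Finset.univ.filter (· ∈ B), blockMat p B χ φ * blockMat p B φ ψ =
      (p : ℂ) ^ blockDefect p B * blockMat p B χ ψ := by
  have h := congrArg (fun f => classInner (regPart p (χ : G → ℂ)) f)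
    (regPart_eq_sum_block hM hB hψ)
  simp only [regPart_inner_self, inner_sum_right, CfsgLib.Char.inner_smul_right, map_mul,
    conj_indVal, CfsgLib.Char.inner_conj_symm] at h
  conv_rhs => rw [blockMat, CfsgLib.Char.inner_smul_left, h]
  rw [Finset.sum_filter, Finset.mul_sum, Finset.mul_sum]
  refine Finset.sum_congr rfl fun φ _ => ?_
  rw [indVal]
  split_ifs with hφ
  · rw [← blockMat_conj B ψ φ]
    simp only [blockMat, CfsgLib.Char.inner_smul_left, map_mul, map_pow, Complex.conj_natCast,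
      CfsgLib.Char.inner_conj_symm]
    ring
  · ring

/-- The integer entries. -/
theorem exists_intMat (hM : IsPModular p M) {B : Set (IrrCharacter G)} (hB : IsPBlock M B) :
    ∃ A : IrrCharacter G → IrrCharacter G → ℤ,
      (∀ χ ∈ B, ∀ ψ, blockMat p B χ ψ = A χ ψ) ∧ (∀ χ ∈ B, ∀ ψ ∈ B, A χ ψ = A ψ χ) ∧
      ∀ χ ∈ B, ∀ ψ ∈ B, ∑ φ ∈ Finset.univ.filter (· ∈ B), A χ φ * A φ ψ =
        (p : ℤ) ^ blockDefect p B * A χ ψ := by
  have h : ∀ χ ψ : IrrCharacter G, ∃ n : ℤ, χ ∈ B → blockMat p B χ ψ = n := fun χ ψ => by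
    by_cases hχ : χ ∈ B
    · obtain ⟨n, hn⟩ := exists_int_blockMat hM hB hχ ψ
      exact ⟨n, fun _ => hn⟩
    · exact ⟨0, fun h => absurd h hχ⟩
  choose A hA using h
  refine ⟨A, fun χ hχ ψ => hA χ ψ hχ, fun χ hχ ψ hψ => ?_, fun χ hχ ψ hψ => ?_⟩
  · have h1 := blockMat_conj (p := p) B χ ψ
    rw [hA χ ψ hχ, hA ψ χ hψ, map_intCast] at h1
    exact_mod_cast h1
  · have h1 := sum_blockMat_mul hM hB (χ := χ) hψ
    rw [hA χ ψ hχ, Finset.sum_congr rfl fun φ hφ => by
      rw [hA χ φ hχ, hA φ ψ (Finset.mem_filter.1 hφ).2]] at h1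
    exact_mod_cast h1

/-- Divisibilities of the entries. -/
theorem intMat_divisibility (hM : IsPModular p M) {B : Set (IrrCharacter G)} (hB : IsPBlock M B)
    {χ ψ : IrrCharacter G} (hχ : χ ∈ B) (hψ : ψ ∈ B) {n : ℤ} (hn : blockMat p B χ ψ = n) :
    (p : ℤ) ^ blockHeight p B (χ : G → ℂ) ∣ n ∧
    (blockHeight p B (χ : G → ℂ) = 0 → n ≠ 0 ∧ padicValInt p n = blockHeight p B (ψ : G → ℂ)) ∧
    (blockHeight p B (χ : G → ℂ) ≠ 0 →
      (p : ℤ) ^ (blockHeight p B (ψ : G → ℂ) + 1) ∣ n) := by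
  haveI : Fact p.Prime := ⟨hM.1⟩
  set m := blockMin p B
  have hpm : ((p : ℤ) ^ m) ≠ 0 := pow_ne_zero _ (Int.natCast_ne_zero.2 hM.1.ne_zero)
  have hS : classInner (scaledReg p (χ : G → ℂ)) (ψ : G → ℂ) = (((p : ℤ) ^ m * n : ℤ) : ℂ) := by
    rw [blockMat_mul_pow hM hB, hn]; push_cast; rfl
  have hv : n ≠ 0 → padicValInt p ((p : ℤ) ^ m * n) = m + padicValInt p n := fun h0 => by
    rw [padicValInt.mul hpm h0, ← Nat.cast_pow, padicValInt.of_nat, padicValNat.prime_pow]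
  have hh : ∀ φ ∈ B, blockHeight p B ((φ : IrrCharacter G) : G → ℂ) + m =
      (charDegree (φ : G → ℂ)).factorization p := fun φ hφ => by
    rw [blockHeight_eq]
    have := blockMin_le (p := p) hφ
    omega
  have hχ' := hh χ hχ
  have hψ' := hh ψ hψ
  have hiff := (height_zero_iff_ev_regElt hM hB hχ hψ).trans (regRatio_ne_iff hM χ ψ hS)
  refine ⟨?_, fun h0 => ?_, fun hne => ?_⟩
  · obtain ⟨k, hk⟩ := exists_int_scaledReg_dvd hM.1 χ ψ.2.isCharacter'
    rw [hS] at hk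
    have hk' : (p : ℤ) ^ m * n = (p : ℤ) ^ (charDegree (χ : G → ℂ)).factorization p * k := by
      exact_mod_cast hk
    rw [← hχ', pow_add] at hk'
    exact ⟨k, mul_left_cancel₀ hpm (hk'.trans (by ring))⟩
  · obtain ⟨h1, h2⟩ := hiff.1 h0
    have hn0 : n ≠ 0 := right_ne_zero_of_mul h1
    rw [hv hn0] at h2
    exact ⟨hn0, by omega⟩
  · by_cases hn0 : n = 0
    · exact hn0 ▸ dvd_zero _
    refine (padicValInt_dvd_iff _ n).2 (Or.inr ?_)
    have h1 : padicValInt p ((p : ℤ) ^ m * n) ≠ (charDegree (ψ : G → ℂ)).factorization p :=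
      fun h => hne (hiff.2 ⟨mul_ne_zero hpm hn0, h⟩)
    have hmem := regRatio_mem hM χ ψ
    rw [hS, ← charDegree_cast ψ.2.isCharacter'] at hmem
    have h2 := pow_factorization_dvd_of_div_mem hM (charDegree_pos ψ).ne' hmem
    rw [Nat.cast_pow] at h2
    have h3 := ((padicValInt_dvd_iff _ _).1 h2).resolve_left (mul_ne_zero hpm hn0)
    rw [hv hn0] at h1 h3
    omega

theorem height_finsum_eq (B : Set (IrrCharacter G)) (f : IrrCharacter G → ℕ) :
    ∑ᶠ χ ∈ B, f χ = ∑ χ ∈ Finset.univ.filter (· ∈ B), f χ :=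
  finsum_mem_eq_sum_of_subset _ (fun x hx => by simp [hx.1]) (fun x hx => by simpa using hx)

theorem exists_height_zero (hM : IsPModular p M) {B : Set (IrrCharacter G)} (hB : IsPBlock M B) :
    ∃ χ ∈ B, blockHeight p B ((χ : IrrCharacter G) : G → ℂ) = 0 := by
  obtain ⟨χ, hχ, h⟩ := exists_eq_blockMin hM hB
  exact ⟨χ, hχ, (blockHeight_zero_iff hχ).2 h⟩

/-- The diagonal of the matrix. -/
theorem intMat_diag (A : IrrCharacter G → IrrCharacter G → ℤ) {B : Set (IrrCharacter G)} {d : ℕ}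
    (hsymm : ∀ χ ∈ B, ∀ ψ ∈ B, A χ ψ = A ψ χ)
    (hsq : ∀ χ ∈ B, ∀ ψ ∈ B, ∑ φ ∈ Finset.univ.filter (· ∈ B), A χ φ * A φ ψ =
        (p : ℤ) ^ d * A χ ψ) {χ : IrrCharacter G} (hχ : χ ∈ B) :
    ∑ φ ∈ (Finset.univ.filter (· ∈ B)).erase χ, A χ φ ^ 2 =
      (p : ℤ) ^ d * A χ χ - A χ χ ^ 2 := by
  rw [Finset.sum_erase_eq_sub (by simp [hχ]), ← hsq χ hχ χ hχ]
  congr 1
  exact Finset.sum_congr rfl fun φ hφ => by
    rw [hsymm φ (Finset.mem_filter.1 hφ).2 χ hχ, sq]

/-- The **Brauer-Feit bound**, with heights. -/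
theorem sum_height_le (hM : IsPModular p M) {B : Set (IrrCharacter G)} (hB : IsPBlock M B) :
    ∑ χ ∈ Finset.univ.filter (· ∈ B), p ^ (2 * blockHeight p B (χ : G → ℂ)) ≤
      p ^ (2 * blockDefect p B) / 4 + 1 := by
  haveI : Fact p.Prime := ⟨hM.1⟩
  obtain ⟨A, hA, hsymm, hsq⟩ := exists_intMat hM hB
  obtain ⟨χ, hχ, h0⟩ := exists_height_zero hM hB
  rw [← Finset.add_sum_erase _ _ (show χ ∈ Finset.univ.filter (· ∈ B) by simp [hχ]), h0, mul_zero,
    pow_zero, add_comm]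
  refine Nat.add_le_add_right ((Nat.le_div_iff_mul_le (by norm_num)).2 ?_) 1
  suffices h : ((∑ φ ∈ (Finset.univ.filter (· ∈ B)).erase χ,
      p ^ (2 * blockHeight p B (φ : G → ℂ)) : ℕ) : ℤ) * 4 ≤
      ((p : ℤ) ^ blockDefect p B) ^ 2 by
    rw [← Int.ofNat_le]
    push_cast at h ⊢
    rwa [mul_comm 2 (blockDefect p B), pow_mul]
  have h1 : ((∑ φ ∈ (Finset.univ.filter (· ∈ B)).erase χ,
      p ^ (2 * blockHeight p B (φ : G → ℂ)) : ℕ) : ℤ) ≤
      ∑ φ ∈ (Finset.univ.filter (· ∈ B)).erase χ, A χ φ ^ 2 := by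
    push_cast
    refine Finset.sum_le_sum fun φ hφ => ?_
    have hφB : φ ∈ B := (Finset.mem_filter.1 (Finset.mem_of_mem_erase hφ)).2
    obtain ⟨-, h2, -⟩ := intMat_divisibility hM hB hχ hφB (hA χ hχ φ)
    obtain ⟨hn0, hv⟩ := h2 h0
    have hd := padicValInt_dvd (p := p) (A χ φ)
    rw [hv] at hd
    rw [mul_comm, pow_mul]
    refine Int.le_of_dvd (by positivity) (pow_dvd_pow_of_dvd hd 2)
  rw [intMat_diag A hsymm hsq hχ] at h1
  nlinarith [sq_nonneg ((p : ℤ) ^ blockDefect p B - 2 * A χ χ)]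

theorem card_block_le (hM : IsPModular p M) {B : Set (IrrCharacter G)} (hB : IsPBlock M B) :
    Nat.card B ≤ p ^ (2 * blockDefect p B) / 4 + 1 := by
  refine le_trans ?_ (sum_height_le hM hB)
  rw [Nat.card_eq_fintype_card, Fintype.card_subtype, Finset.card_eq_sum_ones]
  refine Finset.sum_le_sum fun χ _ => ?_
  exact Nat.one_le_pow _ _ hM.1.pos

/-- A character of positive height: the height is at most `d - 2`. -/
theorem positive_height_data (hM : IsPModular p M) {B : Set (IrrCharacter G)} (hB : IsPBlock M B)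
    {χ : IrrCharacter G} (hχ : χ ∈ B) (hpos : blockHeight p B (χ : G → ℂ) ≠ 0) :
    blockHeight p B (χ : G → ℂ) + 2 ≤ blockDefect p B ∧
      4 * ((Finset.univ.filter (· ∈ B)).filter
          fun φ : IrrCharacter G => blockHeight p B (φ : G → ℂ) = 0).card ≤
        p ^ (2 * blockDefect p B - 2) := by
  haveI : Fact p.Prime := ⟨hM.1⟩
  obtain ⟨A, hA, hsymm, hsq⟩ := exists_intMat hM hB
  obtain ⟨φ₀, hφ₀, hz⟩ := exists_height_zero hM hB
  set h := blockHeight p B (χ : G → ℂ)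
  set d := blockDefect p B
  set Z := (Finset.univ.filter (· ∈ B)).filter
    fun φ : IrrCharacter G => blockHeight p B (φ : G → ℂ) = 0
  obtain ⟨y, hy⟩ := (intMat_divisibility hM hB hχ hχ (hA χ hχ χ)).2.2 hpos
  have hZ : ∀ φ ∈ Z, (p : ℤ) ^ (2 * h) ≤ A χ φ ^ 2 := by
    intro φ hφ
    simp only [Z, Finset.mem_filter, Finset.mem_univ, true_and] at hφ
    obtain ⟨-, h2, -⟩ := intMat_divisibility hM hB hφ.1 hχ (hA φ hφ.1 χ)
    obtain ⟨hn0, hv⟩ := h2 hφ.2
    have hd := padicValInt_dvd (p := p) (A φ χ)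
    rw [hv] at hd
    rw [hsymm χ hχ φ hφ.1, mul_comm, pow_mul]
    exact Int.le_of_dvd (by positivity) (pow_dvd_pow_of_dvd hd 2)
  have hZsub : Z ⊆ (Finset.univ.filter (· ∈ B)).erase χ := fun φ hφ => by
    simp only [Z, Finset.mem_filter] at hφ
    refine Finset.mem_erase.2 ⟨fun e => hpos (by simpa [e, h] using hφ.2), by simp [hφ.1.2]⟩
  have hsum : (Z.card : ℤ) * (p : ℤ) ^ (2 * h) ≤ (p : ℤ) ^ d * A χ χ - A χ χ ^ 2 := by
    rw [← intMat_diag A hsymm hsq hχ]
    refine le_trans ?_ (Finset.sum_le_sum_of_subset_of_nonneg hZsub fun φ _ _ => sq_nonneg _)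
    rw [← nsmul_eq_mul, ← Finset.sum_const]
    exact Finset.sum_le_sum hZ
  have hcard : 1 ≤ Z.card := Finset.card_pos.2 ⟨φ₀, by simp [Z, hφ₀, hz]⟩
  rw [hy] at hsum
  have hp2 : (2 : ℤ) ≤ p := by exact_mod_cast hM.1.two_le
  have hph : 0 < (p : ℤ) ^ h := pow_pos (by omega) _
  have e1 : (p : ℤ) ^ (2 * h) = ((p : ℤ) ^ h) ^ 2 := by rw [mul_comm, pow_mul]
  have e2 : (p : ℤ) ^ (h + 1) = (p : ℤ) ^ h * p := pow_succ _ _
  rw [e1, e2] at hsum
  have hpos' : 0 < (p : ℤ) ^ d * (p * y) - (p : ℤ) ^ h * (p * y) ^ 2 := by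
    have h1 : 0 < (Z.card : ℤ) * ((p : ℤ) ^ h) ^ 2 := by positivity
    have h2 : (p : ℤ) ^ h * ((p : ℤ) ^ d * (p * y) - (p : ℤ) ^ h * (p * y) ^ 2) > 0 := by
      nlinarith
    exact pos_of_mul_pos_right h2 hph.le
  have hy0 : 0 < y := by
    by_contra hy0
    have h1 : (p : ℤ) * y ≤ 0 := mul_nonpos_of_nonneg_of_nonpos (by omega) (by omega)
    have h2 : (p : ℤ) ^ d * (p * y) ≤ 0 := mul_nonpos_of_nonneg_of_nonpos (by positivity) h1
    have h3 : 0 ≤ (p : ℤ) ^ h * (p * y) ^ 2 := by positivity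
    omega
  have hlt : (p : ℤ) ^ (h + 1) < (p : ℤ) ^ d := by
    have hpy : 0 < (p : ℤ) * y := by positivity
    have h1 : (p : ℤ) ^ h * (p * y) < (p : ℤ) ^ d := by nlinarith
    have h2 : (p : ℤ) ^ h * p ≤ (p : ℤ) ^ h * (p * y) :=
      mul_le_mul_of_nonneg_left (le_mul_of_one_le_right (by omega) (by omega)) hph.le
    rw [e2]; omega
  have hhd : h + 1 < d := (pow_lt_pow_iff_right₀ (by omega : (1 : ℤ) < p)).1 hlt
  refine ⟨by omega, ?_⟩
  obtain ⟨e, he⟩ : ∃ e, d = h + e := ⟨d - h, by omega⟩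
  rw [he, pow_add] at hsum
  have hb : (Z.card : ℤ) ≤ (p : ℤ) ^ e * (p * y) - (p * y) ^ 2 := by
    have h2 : (Z.card : ℤ) * ((p : ℤ) ^ h) ^ 2 ≤
        ((p : ℤ) ^ e * (p * y) - (p * y) ^ 2) * ((p : ℤ) ^ h) ^ 2 := by
      calc _ ≤ _ := hsum
        _ = _ := by ring
    exact le_of_mul_le_mul_right h2 (by positivity)
  have h4 : 4 * (Z.card : ℤ) ≤ (p : ℤ) ^ (2 * e) := by
    rw [mul_comm 2 e, pow_mul]
    nlinarith [sq_nonneg ((p : ℤ) ^ e - 2 * (p * y))]
  refine le_trans (by exact_mod_cast h4) (Nat.pow_le_pow_right hM.1.pos ?_)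
  omega

theorem two_card_le_of_positive_height (hM : IsPModular p M) {B : Set (IrrCharacter G)}
    (hB : IsPBlock M B) {χ : IrrCharacter G} (hχ : χ ∈ B)
    (hpos : blockHeight p B (χ : G → ℂ) ≠ 0) :
    2 * Nat.card B ≤ p ^ (2 * blockDefect p B - 2) := by
  obtain ⟨hd, hZ⟩ := positive_height_data hM hB hχ hpos
  set F := Finset.univ.filter (· ∈ B)
  set P := F.filter fun φ : IrrCharacter G => ¬ blockHeight p B (φ : G → ℂ) = 0
  obtain ⟨χ₀, hχ₀, h0⟩ := exists_height_zero hM hB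
  have h1 : P.card * p ^ 2 + 1 ≤ p ^ (2 * blockDefect p B) / 4 + 1 := by
    refine le_trans ?_ (sum_height_le hM hB)
    have hins : insert χ₀ P ⊆ F := by
      intro x hx
      rcases Finset.mem_insert.1 hx with rfl | hx
      · simp [F, hχ₀]
      · exact (Finset.mem_filter.1 hx).1
    refine le_trans ?_ (Finset.sum_le_sum_of_subset hins)
    rw [Finset.sum_insert (by simp [P, h0]), h0, mul_zero, pow_zero, add_comm]
    refine Nat.add_le_add_left ?_ 1
    rw [← smul_eq_mul, ← Finset.sum_const]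
    exact Finset.sum_le_sum fun φ hφ => Nat.pow_le_pow_right hM.1.pos
      (by have := (Finset.mem_filter.1 hφ).2; omega)
  have h2 : P.card * p ^ 2 * 4 ≤ p ^ (2 * blockDefect p B) :=
    (Nat.le_div_iff_mul_le (by norm_num)).1 (by omega)
  have e : p ^ (2 * blockDefect p B) = p ^ (2 * blockDefect p B - 2) * p ^ 2 := by
    rw [← pow_add]; congr 1; omega
  have h3 : P.card * 4 ≤ p ^ (2 * blockDefect p B - 2) := by
    refine Nat.le_of_mul_le_mul_right ?_ (pow_pos hM.1.pos 2)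
    rw [← e]
    linarith
  have hk : Nat.card B =
      (F.filter fun φ : IrrCharacter G => blockHeight p B (φ : G → ℂ) = 0).card + P.card := by
    rw [Finset.card_filter_add_card_filter_not, Nat.card_eq_fintype_card, Fintype.card_subtype]
  omega

end CfsgLib.Block
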