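import Cfsg.Agent.Lib.BlockFirstMain

/-!
# The Brauer correspondence by idempotent coefficients
-/

set_option autoImplicit false
set_option linter.style.haveILetI false
set_option linter.unusedSectionVars false
set_option linter.unusedFintypeInType false

namespace CfsgLib.Block

open Cfsg CfsgLib.Char
open scoped ComplexConjugate Classical

universe u

variable {G : Type u} [Group G] [Fintype G] {p : ℕ} [Fact p.Prime] {M : Ideal AlgInt}
variable (hM : IsPModular p M)

/-- The residual idempotent coefficients agree iff the difference lies in the local ideal. -/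
theorem gFn_eq_gFn_iff {K : Type u} [Group K] [Fintype K] {B : Set (IrrCharacter G)}
    (hB : IsPBlock M B) {c : Set (IrrCharacter K)} (hc : IsPBlock M c) (x : G) (y : K) :
    gFn hM B x = gFn hM c y ↔ MemLocalIdeal M (blockCoeff B x - blockCoeff c y) := by
  have hx : blockCoeff B x ∈ locRing hM := by rw [blockCoeff_eq_coef]; exact indVal_mem hM hB x
  have hy : blockCoeff c y ∈ locRing hM := by rw [blockCoeff_eq_coef]; exact indVal_mem hM hc y
  rw [memLocalIdeal_sub_iff hM hx hy, gFn, gFn, dif_pos hx, dif_pos hy]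

variable {P N : Subgroup G} [Fintype N] (hP : IsPGroup p P)
  (hC : Subgroup.centralizer (P : Set G) ≤ N) (hNle : N ≤ Subgroup.normalizer (P : Set G))
  (hPN : P ≤ N)

include hP hC hNle hPN in
/-- A block of a local subgroup agreeing with a block on the centralizer induces it. -/
theorem induced_of_agree [(P.subgroupOf N).Normal] {B : Set (IrrCharacter G)} (hB : IsPBlock M B)
    {b : Set (IrrCharacter N)} (hb : IsPBlock M b)
    (hag : ∀ n : N, (n : G) ∈ Subgroup.centralizer (P : Set G) → gFn hM B n = gFn hM b n) :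
    IsInducedBlock M N b B := by
  obtain ⟨ξ, hξ⟩ := isPBlock_nonempty hM hb
  have hP' : IsPGroup p (P.subgroupOf N) := hP.of_equiv (Subgroup.subgroupOfEquivOfLe hPN).symm
  have hev : ev hM ξ (brLift hM hNle (bIdem hM hB)) = 1 := by
    rw [ev_congr_cred hM (v := brLift hM hNle (bIdem hM hB)) (w := bIdem hM hb) ?_ ξ, ev_bIdem,
      if_pos hξ]
    funext n
    rw [cred_brLift]
    split_ifs with h
    · have e := hag n h
      rwa [gFn_block hM hB, gFn_block hM hb] at e
    · exact (cred_bIdem_eq_zero_of_notMem hM _ hP' hb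
        fun h' => h ((mem_centralizer_subgroupOf hPN n).1 h')).symm
  have hmem : ξ ∈ brSet hM hP hC hNle hB := by
    show brLam hM hP hC hNle ξ (bIdem hM hB) = 1
    rw [brLam_apply, hev]
  rw [isPBlock_eq_blockOf hM hb hξ]
  exact (mem_brSet_iff hM hP hC hNle hPN hB ξ).1 hmem

variable (hN : N = Subgroup.normalizer (P : Set G))

include hP hC hNle hPN hN in
/-- The Brauer correspondence, from the group to the normalizer. -/
theorem brauer_corr_down {B : Set (IrrCharacter G)} (hB : IsPBlock M B)
    (hD : IsDefectGroup p M B P) :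
    ∃! b : Set (IrrCharacter N), IsPBlock M b ∧ p ^ blockDefect p b = Nat.card P ∧
      ∀ n : N, (n : G) ∈ Subgroup.centralizer (P : Set G) → gFn hM B n = gFn hM b n := by
  haveI : (P.subgroupOf N).Normal := (Subgroup.normal_subgroupOf_iff_le_normalizer hPN).2 hNle
  have hc := Nat.card_congr (Subgroup.subgroupOfEquivOfLe hPN).toEquiv
  obtain ⟨b, hb⟩ := exists_induced hM hP hC hNle hPN hB hD
  have hd := card_defect_of_induced hM hP hNle hPN hb hD
  refine ⟨b, ⟨hb.1, hd.trans hc, fun n hn => ?_⟩, fun b' hb' => ?_⟩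
  · rw [gFn_block hM hB, gFn_block hM hb.1]
    exact (cred_eq_of_induced hM hP hC hNle hPN hN hb hd hn).symm
  · exact eq_of_induced hM hP hC hNle hPN hN hb hd
      (induced_of_agree hM hP hC hNle hPN hB hb'.1 hb'.2.2)

include hP hC hNle hPN hN in
/-- The Brauer correspondence, from the normalizer to the group. -/
theorem brauer_corr_up {b : Set (IrrCharacter N)} (hb : IsPBlock M b)
    (hd : p ^ blockDefect p b = Nat.card P) :
    ∃! B : Set (IrrCharacter G), IsPBlock M B ∧ IsDefectGroup p M B P ∧
      ∀ n : N, (n : G) ∈ Subgroup.centralizer (P : Set G) → gFn hM B n = gFn hM b n := by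
  haveI : (P.subgroupOf N).Normal := (Subgroup.normal_subgroupOf_iff_le_normalizer hPN).2 hNle
  have hd' := hd.trans (Nat.card_congr (Subgroup.subgroupOfEquivOfLe hPN).toEquiv).symm
  obtain ⟨B, hB⟩ := inducedBlockDefined_brauer hM hP hC hNle hPN hb
  refine ⟨B, ⟨hB.2.1, defectGroup_of_induced hM hP hC hNle hPN hN hB hd', fun n hn => ?_⟩,
    fun B' hB' => isInducedBlock_unique hM N
      (induced_of_agree hM hP hC hNle hPN hB'.1 hb hB'.2.2) hB⟩
  rw [gFn_block hM hB.2.1, gFn_block hM hb]
  exact (cred_eq_of_induced hM hP hC hNle hPN hN hB hd' hn).symm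

/-- Transport of the idempotent coefficients. -/
theorem gFn_irrMap {K : Type u} [Group K] [Fintype K] {K' : Type u} [Group K'] [Fintype K']
    (φ : K ≃* K') (f : Set (IrrCharacter K)) (c : K) :
    gFn hM (irrMap φ '' f) (φ c) = gFn hM f c := by
  simp only [gFn, blockCoeff_irrMap]

end CfsgLib.Block
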