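import Cfsg.Agent.Lib.BlockDefect
import Mathlib.LinearAlgebra.Dimension.Constructions

/-!
# Blocks and classes of the same defect
-/

set_option autoImplicit false

universe u

namespace CfsgLib.Block

open Cfsg CfsgLib.Char
open scoped ComplexConjugate Classical

variable {G : Type u} [Group G] [Fintype G] {p : ℕ} {M : Ideal AlgInt}

/-- The defect of a class. -/
noncomputable def classDefect (p : ℕ) (g : G) : ℕ :=
  (Nat.card (Subgroup.centralizer ({g} : Set G))).factorization p

theorem classDefect_eq (p : ℕ) (g : G) :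
    classDefect p g = (Nat.card G).factorization p -
      ((Subgroup.centralizer ({g} : Set G)).index).factorization p := by
  rw [classDefect, ← Subgroup.card_mul_index (Subgroup.centralizer ({g} : Set G)),
    Nat.factorization_mul Nat.card_pos.ne' Subgroup.index_ne_zero_of_finite]
  simp

/-- A class which is nonzero on a block has at least its defect. -/
theorem blockDefect_le_classDefect (hM : IsPModular p M) {B : Set (IrrCharacter G)}
    (hB : IsPBlock M B) {χ : IrrCharacter G} (hχ : χ ∈ B) {g : G}
    (hg : ev hM χ (cl hM g) ≠ 0) : blockDefect p B ≤ classDefect p g := by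
  have hp := hM.1
  rw [classDefect_eq, blockDefect_eq]
  refine Nat.sub_le_sub_left ?_ _
  obtain ⟨θ, hθ, hθmin⟩ := exists_eq_blockMin hM hB
  rw [← hθmin]
  set K := (Subgroup.centralizer ({g} : Set G)).index with hK
  refine (hp.pow_dvd_iff_le_factorization (charDegree_pos θ).ne').1
    (pow_dvd_of_div_mem hM _ _ ?_)
  obtain ⟨u, hu⟩ := (isUnit_of_res_ne_zero hM (show res hM ⟨_, centralChar_mem hM θ g⟩ ≠ 0 by
    rw [← ev_cl]; exact ev_cl_ne_zero_of_mem hM hB hχ hθ hg)).exists_left_inv
  have hu' : (u : ℂ) * centralChar (θ : G → ℂ) g = 1 := congrArg Subtype.val hu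
  have h1 := centralChar_mul_degree θ g
  rw [← hK] at h1
  have hdeg : (charDegree (θ : G → ℂ) : ℂ) = (θ : G → ℂ) 1 :=
    CfsgLib.Block.charDegree_cast θ.2.isCharacter'
  have e : (charDegree (θ : G → ℂ) : ℂ) / (p : ℂ) ^ K.factorization p =
      ((ordCompl[p] K : ℕ) : ℂ) * (θ : G → ℂ) g * (u : ℂ) := by
    have hKe : (K : ℂ) = (p : ℂ) ^ K.factorization p * ((ordCompl[p] K : ℕ) : ℂ) := by
      exact_mod_cast (Nat.ordProj_mul_ordCompl_eq_self K p).symm
    rw [div_eq_iff (pow_ne_zero _ (Nat.cast_ne_zero.2 hp.ne_zero)), hdeg]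
    calc (θ : G → ℂ) 1 = (u : ℂ) * (centralChar (θ : G → ℂ) g * (θ : G → ℂ) 1) := by
          rw [← mul_assoc, hu', one_mul]
      _ = _ := by rw [h1, hKe]; ring
  rw [e]
  exact mul_mem (mul_mem (natCast_mem _ _) (irr_mem hM θ g)) u.2

/-- A class in the support of a block idempotent has at most its defect. -/
theorem classDefect_le_blockDefect [Fact p.Prime] (hM : IsPModular p M)
    {B : Set (IrrCharacter G)} (hB : IsPBlock M B) {g : G}
    (hg : cred hM (bIdem hM hB) g ≠ 0) : classDefect p g ≤ blockDefect p B := by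
  obtain ⟨D, hD⟩ := exists_defectGroup hM hB
  obtain ⟨S⟩ : Nonempty (Sylow p (Subgroup.centralizer ({g} : Set G))) := inferInstance
  set Q := (S : Subgroup (Subgroup.centralizer ({g} : Set G))).map
    (Subgroup.centralizer ({g} : Set G)).subtype with hQ
  have hQp : IsPGroup p Q := S.isPGroup'.map _
  have hne : BrauerNonzero hM hB Q := by
    refine ⟨g, Subgroup.mem_centralizer_iff.2 ?_, hg⟩
    rintro _ ⟨h, -, rfl⟩
    exact Subgroup.mem_centralizer_singleton_iff.1 h.2
  obtain ⟨x, hx⟩ := conjLE_defectGroup_of_brauerNonzero hM hB hD hQp hne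
  have hle := Subgroup.card_le_of_le hx
  rw [card_map_conj, card_defectGroup hM hB hD, hQ,
    Subgroup.card_map_of_injective (Subgroup.subtype_injective _),
    S.card_eq_multiplicity] at hle
  exact (Nat.pow_le_pow_iff_right (Fact.out : p.Prime).one_lt).1 hle

/-- Blocks whose idempotents see each other only at classes in a given set are no more numerous
than those classes. -/
theorem card_blocks_le_card_classes (hM : IsPModular p M)
    (S : Set (Set (IrrCharacter G))) (hS : ∀ B ∈ S, IsPBlock M B) (P : G → Prop)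
    (hP : ∀ B ∈ S, ∀ B' ∈ S, ∀ χ ∈ B, ∀ (hB' : IsPBlock M B') (g : G),
      cred hM (bIdem hM hB') g ≠ 0 → ev hM χ (cl hM g) ≠ 0 → P g) :
    Nat.card S ≤ Nat.card {C : ConjClasses G // ∃ g : G, ConjClasses.mk g = C ∧ P g} := by
  haveI : M.IsMaximal := hM.2.1
  letI : Field (ResField M) := @Ideal.Quotient.field _ _ M hM.2.1
  haveI : Fintype S := Fintype.ofFinite S
  haveI : Fintype {C : ConjClasses G // ∃ g : G, ConjClasses.mk g = C ∧ P g} := Fintype.ofFinite _
  choose χ hχ using fun B : S => isPBlock_nonempty hM (hS B B.2)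
  set w : S → ({C : ConjClasses G // ∃ g : G, ConjClasses.mk g = C ∧ P g} → ResField M) :=
    fun B C => ev hM (χ B) (cl hM (Quotient.out C.1)) with hw
  have hδ : ∀ B B' : S,
      ∑ C : {C : ConjClasses G // ∃ g : G, ConjClasses.mk g = C ∧ P g},
        cred hM (bIdem hM (hS B' B'.2)) (Quotient.out C.1) * w B C =
      if B = B' then 1 else 0 := by
    intro B B'
    have h1 := ev_eq_sum hM (bIdem hM (hS B' B'.2)) (χ B)
    rw [ev_bIdem] at h1
    rw [show (if B = B' then (1 : ResField M) else 0) =
      if χ B ∈ (B' : Set (IrrCharacter G)) then 1 else 0 by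
      refine if_congr ⟨fun h => h ▸ hχ B, fun h => ?_⟩ rfl rfl
      exact Subtype.ext (isPBlock_eq_of_mem hM (hS B B.2) (hS B' B'.2) (hχ B) h), h1]
    rw [← Finset.sum_subtype
      (Finset.univ.filter fun C : ConjClasses G => ∃ g : G, ConjClasses.mk g = C ∧ P g)
      (fun C => by simp) (fun C => cred hM (bIdem hM (hS B' B'.2)) (Quotient.out C) *
        ev hM (χ B) (cl hM (Quotient.out C)))]
    refine Finset.sum_subset (Finset.subset_univ _) fun C _ hC => ?_
    by_contra hne
    refine hC (Finset.mem_filter.2 ⟨Finset.mem_univ C, Quotient.out C, Quotient.out_eq C, ?_⟩)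
    exact hP B B.2 B' B'.2 (χ B) (hχ B) _ _ (left_ne_zero_of_mul hne) (right_ne_zero_of_mul hne)
  have hli : LinearIndependent (ResField M) w := by
    rw [Fintype.linearIndependent_iff]
    intro c hc B'
    have h0 : ∑ B : S, c B *
        ∑ C : {C : ConjClasses G // ∃ g : G, ConjClasses.mk g = C ∧ P g},
          cred hM (bIdem hM (hS B' B'.2)) (Quotient.out C.1) * w B C = 0 := by
      simp only [Finset.mul_sum]
      rw [Finset.sum_comm]
      refine Finset.sum_eq_zero fun C _ => ?_
      have := congrFun hc C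
      simp only [Finset.sum_apply, Pi.smul_apply, smul_eq_mul, Pi.zero_apply] at this
      calc _ = cred hM (bIdem hM (hS B' B'.2)) (Quotient.out C.1) * ∑ B : S, c B * w B C := by
            rw [Finset.mul_sum]
            exact Finset.sum_congr rfl fun B _ => by ring
        _ = 0 := by rw [this, mul_zero]
    simpa [hδ] using h0
  have h := hli.fintype_card_le_finrank
  rw [Module.finrank_pi] at h
  simpa [Nat.card_eq_fintype_card] using h

end CfsgLib.Block
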