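import Cfsg.Agent.Lib.CharBrauer2
import Cfsg.Agent.Lib.CharVirtual
import Cfsg.Agent.Lib.CharInt

/-!
# Applications of Brauer's theorems: sections and normal complements
-/

set_option autoImplicit false
set_option linter.style.haveILetI false
set_option linter.unusedSectionVars false

namespace CfsgLib.Char

open Cfsg
open scoped ComplexConjugate

universe u v

variable {G : Type u} [Group G]

/-- Exponent extracting the `n`-part. -/
def IsPartExp (m n a : ℕ) : Prop := m ∣ a ∧ a ≡ 1 [MOD n]

theorem exists_partExp {m n : ℕ} (h : m.Coprime n) : ∃ a, IsPartExp m n a := by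
  obtain ⟨a, ha, ha'⟩ := Nat.chineseRemainder h 0 1
  exact ⟨a, Nat.modEq_zero_iff_dvd.mp ha, ha'⟩

theorem IsPartExp.eq_one {m n a : ℕ} (ha : IsPartExp m n a) {x : G} (hx : x ^ m = 1) :
    x ^ a = 1 := by
  obtain ⟨k, hk⟩ := ha.1
  rw [hk, pow_mul, hx, one_pow]

theorem IsPartExp.eq_self {m n a : ℕ} (ha : IsPartExp m n a) {x : G} (hx : x ^ n = 1) :
    x ^ a = x := by
  rw [pow_eq_pow_mod a hx, ha.2, ← pow_eq_pow_mod 1 hx, pow_one]

theorem IsPartExp.pow_n {m n a : ℕ} (ha : IsPartExp m n a) {x : G} (hx : x ^ (m * n) = 1) :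
    (x ^ a) ^ n = 1 := by
  obtain ⟨k, hk⟩ := ha.1
  rw [← pow_mul, show a * n = m * n * k by rw [hk]; ring, pow_mul, hx, one_pow]

variable [Finite G]

theorem nilpotent_part_mul [Group.IsNilpotent G] {m n a : ℕ} (hcop : m.Coprime n)
    (hcard : Nat.card G ∣ m * n) (ha : IsPartExp m n a) (x y : G) :
    (x * y) ^ a = x ^ a * y ^ a := by
  have hn : ∀ {p : ℕ} [Fact p.Prime] (P : Sylow p G), (P : Subgroup G).Normal := fun {p} _ P =>
    (CfsgLib.Core.isNilpotent_iff_sylow_normal.mp inferInstance) p ‹_› P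
  obtain ⟨f, rfl⟩ := (Sylow.directProductOfNormal hn).surjective x
  obtain ⟨g, rfl⟩ := (Sylow.directProductOfNormal hn).surjective y
  rw [← map_mul, ← map_pow, ← map_pow, ← map_pow, ← map_mul]
  congr 1
  funext p P
  obtain ⟨q, hq⟩ := p
  have hqp := Nat.prime_of_mem_primeFactors hq
  haveI := Fact.mk hqp
  simp only [Pi.mul_apply, Pi.pow_apply]
  obtain ⟨k, hk⟩ := P.isPGroup'.exists_card_eq
  have hd : Nat.card P ∣ m * n := (Subgroup.card_subgroup_dvd_card _).trans hcard
  by_cases h : q ∣ m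
  · have h1 : Nat.card P ∣ m := (Nat.Coprime.dvd_mul_right (by
      rw [hk]; exact ((hqp.coprime_iff_not_dvd).mpr fun hqn =>
        hqp.ne_one (Nat.eq_one_of_dvd_coprimes hcop h hqn)).pow_left k)).mp hd
    have : ∀ z : P, z ^ a = 1 := fun z =>
      ha.eq_one (orderOf_dvd_iff_pow_eq_one.mp ((orderOf_dvd_natCard z).trans h1))
    rw [this, this, this, one_mul]
  · have h1 : Nat.card P ∣ n := (Nat.Coprime.dvd_mul_left (by
      rw [hk]; exact ((hqp.coprime_iff_not_dvd).mpr h).pow_left k)).mp hd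
    have : ∀ z : P, z ^ a = z := fun z =>
      ha.eq_self (orderOf_dvd_iff_pow_eq_one.mp ((orderOf_dvd_natCard z).trans h1))
    rw [this, this, this]

theorem isElementary_zpowers {p : ℕ} (hp : p.Prime) (g : G) :
    IsElementary p (Subgroup.zpowers g) := by
  obtain ⟨C, hCle, -, hC, hcop, k, hk⟩ := QE.of_zpowers hp g
  obtain ⟨y, hy⟩ := (Subgroup.isCyclic_iff_exists_zpowers_eq_top _).mp hC
  have hyg : y ∈ Subgroup.zpowers g := hCle (hy ▸ Subgroup.mem_zpowers y)
  refine ⟨⟨y, hyg⟩, ?_, ?_, k, ?_⟩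
  · rw [Subgroup.mem_center_iff]
    rintro ⟨_, i, rfl⟩
    obtain ⟨j, rfl⟩ := hyg
    exact Subtype.ext (((Commute.refl g).zpow_zpow i j).eq)
  · rw [Subgroup.orderOf_mk, ← Nat.card_zpowers, hy]; exact hcop
  · rw [← hk]
    have e : (Subgroup.zpowers (⟨y, hyg⟩ : Subgroup.zpowers g)).map (Subgroup.zpowers g).subtype = C := by
      rw [MonoidHom.map_zpowers]; exact hy
    have h2 := congrArg (fun S : Subgroup G => S.subgroupOf (Subgroup.zpowers g)) e
    simp only [Subgroup.subgroupOf,
      Subgroup.comap_map_eq_self_of_injective (Subgroup.zpowers g).subtype_injective] at h2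
    rw [h2]; rfl

variable [Fintype G]

/-- Averaging a character over a normal subgroup gives algebraic integers. -/
theorem avg_isIntegral (K : Subgroup G) [K.Normal] [Fintype K] {χ : G → ℂ} (hχ : IsCharacter G χ)
    (w : G) : IsIntegral ℤ ((Nat.card K : ℂ)⁻¹ * ∑ k : K, χ (k * w)) := by
  classical
  have hirr : ∀ ξ : IrrCharacter G,
      IsIntegral ℤ ((Nat.card K : ℂ)⁻¹ * ∑ k : K, (ξ : G → ℂ) (k * w)) := by
    rintro ⟨_, n, ρ, hρ, rfl⟩
    haveI := hρ
    set T : Module.End ℂ (Fin n → ℂ) := (Nat.card K : ℂ)⁻¹ • ∑ k : K, ρ (k : G) with hT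
    have hcomm : ∀ g : G, T * ρ g = ρ g * T := fun g => by
      rw [hT, smul_mul_assoc, mul_smul_comm, Finset.sum_mul, Finset.mul_sum]
      congr 1
      refine Fintype.sum_equiv (MulAut.conjNormal g⁻¹ : MulAut K).toEquiv _ _ fun k => ?_
      rw [← map_mul, ← map_mul]
      congr 1
      rw [MulEquiv.toEquiv_eq_coe, EquivLike.coe_coe, MulAut.conjNormal_apply, inv_inv]
      group
    obtain ⟨ω, hω⟩ := schur_scalar ρ T hcomm
    have hTT : T * T = T := by
      have h1 : ∀ k : K, ρ (k : G) * (∑ j : K, ρ (j : G)) = ∑ j : K, ρ (j : G) := fun k => by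
        rw [Finset.mul_sum]
        refine Fintype.sum_equiv (Equiv.mulLeft k) _ _ fun j => ?_
        rw [← map_mul]; rfl
      rw [hT, smul_mul_assoc, mul_smul_comm, Finset.sum_mul]
      simp only [h1, Finset.sum_const, Finset.card_univ, ← Nat.card_eq_fintype_card,
        ← Nat.cast_smul_eq_nsmul ℂ]
      rw [smul_smul (Nat.card K : ℂ)⁻¹ (Nat.card K : ℂ), inv_mul_cancel₀ (natCard_ne_zero K),
        one_smul]
    haveI := nontrivial_of_irreducible ρ
    have hω01 : ω = 0 ∨ ω = 1 := by
      rw [hω, smul_mul_smul_comm, one_mul] at hTT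
      have h := smul_left_injective ℂ (one_ne_zero : (1 : Module.End ℂ (Fin n → ℂ)) ≠ 0) hTT
      rcases eq_or_ne ω 0 with h0 | h0
      · exact .inl h0
      · exact .inr (mul_left_cancel₀ h0 (h.trans (mul_one ω).symm))
    have hval : (Nat.card K : ℂ)⁻¹ * ∑ k : K, ρ.character (k * w) = ω * ρ.character w := by
      show (Nat.card K : ℂ)⁻¹ * ∑ k : K, LinearMap.trace ℂ _ (ρ (k * w)) =
        ω * LinearMap.trace ℂ _ (ρ w)
      rw [← smul_eq_mul, ← smul_eq_mul, ← map_sum, ← map_smul, ← map_smul]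
      congr 1
      simp only [map_mul]
      rw [← Finset.sum_mul, ← smul_mul_assoc, ← hT, hω, smul_mul_assoc, one_mul]
    show IsIntegral ℤ ((Nat.card K : ℂ)⁻¹ * ∑ k : K, ρ.character (k * w))
    rw [hval]
    rcases hω01 with rfl | rfl
    · rw [zero_mul]; exact isIntegral_zero
    · rw [one_mul]; exact isIntegral_rep_char ρ w
  rw [show (Nat.card K : ℂ)⁻¹ * ∑ k : K, χ (k * w) = ∑ ξ : IrrCharacter G, classInner χ ξ *
      ((Nat.card K : ℂ)⁻¹ * ∑ k : K, (ξ : G → ℂ) (k * w)) by
    conv_lhs => rw [classFunction_eq_sum χ (isCharacter_classFunction hχ)]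
    simp only [Finset.sum_apply, Pi.smul_apply, smul_eq_mul, Finset.mul_sum]
    rw [Finset.sum_comm]
    exact Finset.sum_congr rfl fun ξ _ => Finset.sum_congr rfl fun k _ => by ring]
  refine IsIntegral.sum _ fun ξ _ => IsIntegral.mul ?_ (hirr ξ)
  obtain ⟨a, ha⟩ := inner_character_nat hχ ξ.2.isCharacter'
  rw [ha]
  exact isIntegral_natCast a

open scoped Classical in
/-- The indicator of a `π`-section, scaled by `n`. -/
noncomputable def sectionFn (n a : ℕ) (g : G) : G → ℂ :=
  fun x => if IsConj (x ^ a) g then (n : ℂ) else 0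

theorem sectionFn_integral {m n a : ℕ} (hcard : Nat.card G = m * n) (hcop : m.Coprime n)
    (ha : IsPartExp m n a) (g : G) (χ : IrrCharacter G) :
    IsIntegral ℤ (classInner (sectionFn n a g) (χ : G → ℂ)) := by
  classical
  have hcl : IsClassFunction G (sectionFn n a g) := fun x y => by
    have : IsConj ((y * x * y⁻¹) ^ a) g ↔ IsConj (x ^ a) g := by
      rw [conj_pow]
      exact ⟨(isConj_iff.mpr ⟨y, rfl⟩ : IsConj (x ^ a) _).trans,
        (isConj_iff.mpr ⟨y, rfl⟩ : IsConj (x ^ a) _).symm.trans⟩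
    simp only [sectionFn, this]
  suffices h : ∀ f ∈ elemSpan (G := G) Nat.Prime,
      IsIntegral ℤ (classInner (f * sectionFn n a g) (χ : G → ℂ)) by
    simpa [funext_iff, Pi.mul_def] using h _ brauer_one
  intro f hf
  induction hf using AddSubgroup.closure_induction with
  | mem f hf =>
    obtain ⟨q, E, φ, hq, hEe, hφ, rfl⟩ := hf
    rw [indFun_mul _ _ hcl, frobenius _ _ (isCharacter_classFunction χ.2.isCharacter')]
    haveI := isNilpotent_of_isElementary hq hEe
    have hEd : Nat.card E ∣ m * n := hcard ▸ E.card_subgroup_dvd_card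
    let π : E →* E := MonoidHom.mk' (fun e => e ^ a) fun x y => nilpotent_part_mul hcop hEd ha x y
    have hrange : Nat.card π.range ∣ n := by
      refine (Nat.Coprime.dvd_mul_left ?_).mp ((Subgroup.card_subgroup_dvd_card _).trans hEd)
      refine Nat.coprime_of_dvd fun p hp h1 h2 => ?_
      haveI := Fact.mk hp
      obtain ⟨⟨w, e, rfl⟩, hw⟩ := exists_prime_orderOf_dvd_card' p h1
      have h3 : (π e) ^ n = 1 := ha.pow_n (orderOf_dvd_iff_pow_eq_one.mp
        ((orderOf_dvd_natCard e).trans hEd))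
      rw [← Subgroup.orderOf_coe] at hw
      replace hw : orderOf (π e) = p := hw
      exact hp.ne_one (Nat.eq_one_of_dvd_coprimes hcop h2 (hw ▸ orderOf_dvd_of_pow_eq_one h3))
    have hidem : ∀ w : E, w ∈ π.range → π w = w := by
      rintro _ ⟨e, rfl⟩
      exact ha.eq_self (ha.pow_n (orderOf_dvd_iff_pow_eq_one.mp ((orderOf_dvd_natCard e).trans hEd)))
    obtain ⟨c, hc⟩ := hrange
    set ψ : E → ℂ := φ * fun e : E => conj ((χ : G → ℂ) e) with hψd
    have hψ : IsCharacter E ψ :=
      isCharacter_mul hφ (isCharacter_restrict (isCharacter_conj χ.2.isCharacter') E)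
    have hcE : Nat.card E = Nat.card π.ker * Nat.card π.range := by
      rw [Subgroup.card_eq_card_quotient_mul_card_subgroup π.ker,
        Nat.card_congr (QuotientGroup.quotientKerEquivRange π).toEquiv, mul_comm]
    have key : classInner (φ * fun e : E => sectionFn n a g (e : G)) (fun e : E => (χ : G → ℂ) e) =
        ∑ w ∈ Finset.univ.filter (fun w : E => w ∈ π.range ∧ IsConj (w : G) g),
          (c : ℂ) * ((Nat.card π.ker : ℂ)⁻¹ * ∑ k : π.ker, ψ (k * w)) := by
      rw [classInner, ← Finset.mul_sum]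
      have hterm : ∀ e : E, (φ * fun e : E => sectionFn n a g (e : G)) e * conj ((χ : G → ℂ) e) =
          if IsConj ((π e : E) : G) g then (n : ℂ) * ψ e else 0 := fun e => by
        show φ e * sectionFn n a g (e : G) * conj ((χ : G → ℂ) e) = _
        simp only [sectionFn, hψd, Pi.mul_apply]
        show φ e * (if IsConj ((e : G) ^ a) g then (n : ℂ) else 0) * conj ((χ : G → ℂ) e) = _
        rw [show ((π e : E) : G) = (e : G) ^ a from SubmonoidClass.coe_pow e a]
        split_ifs <;> ring
      rw [Finset.sum_congr rfl fun e _ => hterm e, ← Finset.sum_filter,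
        ← Finset.sum_fiberwise_of_maps_to (g := fun e => π e)
          (t := Finset.univ.filter fun w : E => w ∈ π.range ∧ IsConj (w : G) g) (fun e he => by
            simp only [Finset.mem_filter, Finset.mem_univ, true_and] at he ⊢
            exact ⟨⟨e, rfl⟩, he⟩), Finset.mul_sum, ← Finset.mul_sum]
      rw [Finset.mul_sum, Finset.mul_sum]
      refine Finset.sum_congr rfl fun w hw => ?_
      simp only [Finset.mem_filter, Finset.mem_univ, true_and] at hw
      rw [Finset.filter_filter, ← Finset.mul_sum]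
      have hfib : ∑ e ∈ Finset.univ.filter (fun e : E => IsConj ((π e : E) : G) g ∧ π e = w), ψ e =
          ∑ k : π.ker, ψ (k * w) := by
        symm
        refine Finset.sum_bij (fun k _ => (k : E) * w) (fun k _ => ?_)
          (fun k _ l _ e => Subtype.ext (mul_right_cancel e)) (fun e he => ?_) (fun k _ => rfl)
        · simp only [Finset.mem_filter, Finset.mem_univ, true_and]
          have : π ((k : E) * w) = w := by rw [map_mul, k.2, one_mul, hidem w hw.1]
          exact ⟨this.symm ▸ hw.2, this⟩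
        · simp only [Finset.mem_filter, Finset.mem_univ, true_and] at he
          exact ⟨⟨e * w⁻¹, by rw [MonoidHom.mem_ker, map_mul, map_inv, he.2, hidem w hw.1,
            mul_inv_cancel]⟩, Finset.mem_univ _, by simp⟩
      rw [hfib, hcE, hc, Nat.cast_mul, Nat.cast_mul, mul_inv]
      field_simp [natCard_ne_zero π.range, natCard_ne_zero π.ker]
      rw [mul_comm (Nat.card π.ker : ℂ), mul_assoc (Nat.card π.range : ℂ),
        mul_div_mul_left _ _ (natCard_ne_zero π.range)]
    rw [key]
    exact IsIntegral.sum _ fun w _ => (isIntegral_natCast c).mul (avg_isIntegral π.ker hψ w)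
  | zero => rw [zero_mul, inner_zero_left]; exact isIntegral_zero
  | add x y _ _ hx hy => rw [add_mul, inner_add_left]; exact hx.add hy
  | neg x _ hx => rw [neg_mul, inner_neg_left]; exact hx.neg

/-- The Brauer–Suzuki criterion for a normal complement to a Hall subgroup. -/
theorem exists_normal_complement (H : Subgroup G) (hHall : (Nat.card H).Coprime H.index)
    (hfus : ∀ x ∈ H, ∀ y ∈ H, IsConj x y → ∃ h ∈ H, h * x * h⁻¹ = y)
    (helem : ∀ (E : Subgroup G) (p : ℕ), p.Prime → IsElementary p E → Nat.card E ∣ Nat.card H →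
      ∃ g : G, E.map (MulAut.conj g).toMonoidHom ≤ H) :
    ∃ K : Subgroup G, K.Normal ∧ K ⊔ H = ⊤ ∧ K ⊓ H = ⊥ := by
  classical
  haveI := Fintype.ofFinite H
  set n := Nat.card H with hn
  set m := H.index with hm
  have hmn : Nat.card G = m * n := by rw [hn, hm, mul_comm, Subgroup.card_mul_index]
  have hcop : m.Coprime n := hHall.symm
  obtain ⟨a, ha⟩ := exists_partExp hcop
  have hGpow : ∀ x : G, x ^ (m * n) = 1 := fun x => hmn ▸ pow_card_eq_one'
  have hHpow : ∀ y : H, y ^ a = y := fun y => ha.eq_self pow_card_eq_one'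
  have hex : ∀ x : G, ∃ y : H, IsConj (x ^ a) (y : G) := fun x => by
    obtain ⟨g, hg⟩ := helem (Subgroup.zpowers (x ^ a)) 2 Nat.prime_two
      (isElementary_zpowers Nat.prime_two _)
      (by rw [Nat.card_zpowers]; exact orderOf_dvd_of_pow_eq_one (ha.pow_n (hGpow x)))
    exact ⟨⟨_, hg ⟨x ^ a, Subgroup.mem_zpowers _, rfl⟩⟩, isConj_iff.mpr ⟨g, rfl⟩⟩
  choose y hy using hex
  have hyH : ∀ (x : G) (z : H), IsConj (x ^ a) (z : G) → IsConj (y x) z := fun x z hz => by
    obtain ⟨h, hh, he⟩ := hfus _ (y x).2 _ z.2 ((hy x).symm.trans hz)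
    exact isConj_iff.mpr ⟨⟨h, hh⟩, Subtype.ext he⟩
  -- the extension of a class function
  set Θ : (H → ℂ) → G → ℂ := fun φ x => φ (y x) with hΘ
  have hclass : ∀ φ, IsClassFunction H φ → ∀ (x : G) (z : H), IsConj (x ^ a) (z : G) →
      Θ φ x = φ z := fun φ hφ x z hz => by
    obtain ⟨h, he⟩ := isConj_iff.mp (hyH x z hz)
    rw [hΘ, ← he]
    exact (hφ _ h).symm
  have hΘcl : ∀ φ, IsClassFunction H φ → IsClassFunction G (Θ φ) := fun φ hφ x g => by
    refine hclass φ hφ _ (y x) ((isConj_iff.mpr ⟨g⁻¹, ?_⟩).trans (hy x))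
    rw [conj_pow]; group
  have hgen : ∀ φ, IsCharacter H φ → IsGeneralizedCharacter G (Θ φ) := fun φ hφ => by
    refine brauer_characterization (hΘcl φ (isCharacter_classFunction hφ)) fun E p hp hEe => ?_
    haveI := isNilpotent_of_isElementary hp hEe
    have hEd : Nat.card E ∣ m * n := hmn ▸ E.card_subgroup_dvd_card
    let π : E →* E := MonoidHom.mk' (fun e => e ^ a) fun u v => nilpotent_part_mul hcop hEd ha u v
    have hF : Nat.card (π.range.map E.subtype) ∣ n := by
      rw [Subgroup.card_map_of_injective E.subtype_injective]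
      refine (Nat.Coprime.dvd_mul_left ?_).mp ((Subgroup.card_subgroup_dvd_card _).trans hEd)
      refine Nat.coprime_of_dvd fun q hq h1 h2 => ?_
      haveI := Fact.mk hq
      obtain ⟨⟨w, e, rfl⟩, hw⟩ := exists_prime_orderOf_dvd_card' q h1
      have h3 : (π e) ^ n = 1 := ha.pow_n (orderOf_dvd_iff_pow_eq_one.mp
        ((orderOf_dvd_natCard e).trans hEd))
      rw [← Subgroup.orderOf_coe] at hw
      replace hw : orderOf (π e) = q := hw
      exact hq.ne_one (Nat.eq_one_of_dvd_coprimes hcop h2 (hw ▸ orderOf_dvd_of_pow_eq_one h3))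
    obtain ⟨g, hg⟩ := helem (π.range.map E.subtype) p hp
      (isElementary_of_equiv (π.range.equivMapOfInjective E.subtype E.subtype_injective)
        (isElementary_subgroup hp hEe π.range)) hF
    let f : E →* H := (((MulAut.conj g).toMonoidHom.comp E.subtype).comp π).codRestrict H fun e =>
      hg ⟨_, ⟨π e, ⟨e, rfl⟩, rfl⟩, rfl⟩
    have he : (fun e : E => Θ φ e) = φ ∘ f := funext fun e => by
      refine hclass φ (isCharacter_classFunction hφ) _ (f e) (isConj_iff.mpr ⟨g, ?_⟩)
      show g * (e : G) ^ a * g⁻¹ = g * ((π e : E) : G) * g⁻¹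
      rw [show ((π e : E) : G) = (e : G) ^ a from SubmonoidClass.coe_pow e a]
    rw [he]
    exact isGenChar_of_isCharacter (isCharacter_comp hφ f)
  -- the sections have the generic size
  set s : H → ℕ := fun z => (Finset.univ.filter fun x : G => IsConj (y x) z).card with hs
  set cH : H → ℕ := fun z => Nat.card (Subgroup.centralizer ({z} : Set H)) with hcH
  have hconjc : ∀ z w : H, IsConj z w → cH z = cH w := fun z w h => by
    have h1 := column_orth_conj (IsConj.refl z)
    have h2 := column_orth_conj (IsConj.refl w)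
    have h3 : ∀ χ : IrrCharacter H, (χ : H → ℂ) z = (χ : H → ℂ) w := fun χ => (isConj_iff_irr_eq z w).mp h χ
    simp only [h3] at h1
    exact_mod_cast h1.symm.trans h2
  have horth : ∀ w z : H, ∑ χ : IrrCharacter H, (χ : H → ℂ) w * conj ((χ : H → ℂ) z) =
      if IsConj w z then (cH z : ℂ) else 0 := fun w z => by
    split_ifs with h
    · rw [column_orth_conj h, ← hconjc w z h]
    · exact column_orth_not_conj h
  have hsum1 : ∀ z : H, ∃ k : ℤ, (s z * cH z : ℂ) = (Nat.card G : ℂ) * k := fun z => by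
    have h1 : IsIntegral ℤ (∑ χ : IrrCharacter H, conj ((χ : H → ℂ) z) *
        classInner (Θ χ) (fun _ => 1)) := IsIntegral.sum _ fun χ _ => by
      obtain ⟨d, hd⟩ := inner_genChar_int (hgen χ χ.2.isCharacter') (isGenChar_of_isCharacter isCharacter_one)
      rw [hd]
      refine IsIntegral.mul ?_ (isIntegral_intCast d)
      exact isCharacter_isIntegral (isCharacter_conj χ.2.isCharacter') z
    have h2 : ∑ χ : IrrCharacter H, conj ((χ : H → ℂ) z) * classInner (Θ χ) (fun _ => 1) =
        ((s z * cH z : ℕ) : ℂ) / (Nat.card G : ℂ) := by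
      simp only [classInner, map_one, mul_one, Finset.mul_sum, hΘ]
      rw [Finset.sum_comm]
      have : ∀ x : G, ∑ χ : IrrCharacter H, conj ((χ : H → ℂ) z) * ((Nat.card G : ℂ)⁻¹ * (χ : H → ℂ) (y x)) =
          (Nat.card G : ℂ)⁻¹ * (if IsConj (y x) z then (cH z : ℂ) else 0) := fun x => by
        rw [← horth, Finset.mul_sum]
        exact Finset.sum_congr rfl fun χ _ => by ring
      rw [Finset.sum_congr rfl fun x _ => this x, ← Finset.mul_sum, ← Finset.sum_filter,
        Finset.sum_const, nsmul_eq_mul, div_eq_inv_mul, Nat.cast_mul]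
    rw [h2] at h1
    refine ⟨((s z * cH z / Nat.card G : ℕ) : ℤ), ?_⟩
    have hd := natCast_dvd_of_isIntegral_div Nat.card_pos h1
    rw [Int.cast_natCast, ← Nat.cast_mul, ← Nat.cast_mul, Nat.mul_div_cancel' hd]
  have hge : ∀ z : H, Nat.card G ≤ s z * cH z := fun z => by
    obtain ⟨k, hk⟩ := hsum1 z
    have hk' : ((s z * cH z : ℕ) : ℤ) = (Nat.card G : ℤ) * k := by exact_mod_cast hk
    refine Nat.le_of_dvd (Nat.mul_pos (Finset.card_pos.mpr ⟨(z : G), Finset.mem_filter.mpr
      ⟨Finset.mem_univ _, ?_⟩⟩) Nat.card_pos) (Int.natCast_dvd_natCast.mp ⟨k, hk'⟩)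
    exact hyH _ z (by rw [← SubmonoidClass.coe_pow, hHpow])
  have hkey : ∀ F : H → ℂ, IsClassFunction H F →
      ∑ z : H, F z * (s z * cH z : ℂ) = (n : ℂ) * ∑ x : G, F (y x) := fun F hF => by
    have h1 : ∀ z : H, F z * (s z * cH z : ℂ) =
        ∑ x : G, F (y x) * (if IsConj (y x) z then (cH z : ℂ) else 0) := fun z => by
      simp only [mul_ite, mul_zero]
      rw [← Finset.sum_filter, Finset.sum_congr rfl (g := fun _ => F z * (cH z : ℂ)) (fun x hx => by
        obtain ⟨h, he⟩ := isConj_iff.mp (Finset.mem_filter.mp hx).2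
        rw [← he, hF]), Finset.sum_const, nsmul_eq_mul]
      ring
    rw [Finset.sum_congr rfl fun z _ => h1 z, Finset.sum_comm, Finset.mul_sum]
    refine Finset.sum_congr rfl fun x _ => ?_
    rw [← Finset.mul_sum, mul_comm (n : ℂ)]
    congr 1
    have h2 : ∀ z : H, (if IsConj (y x) z then (cH z : ℂ) else 0) = classDelta (y x) z := fun z => by
      split_ifs with h
      · rw [classDelta_of_isConj h, ← hconjc _ _ h]
      · rw [classDelta_of_not_isConj h]
    simp only [h2, classDelta]
    rw [← Nat.cast_sum]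
    congr 1
    simp only [Nat.card_eq_fintype_card, Fintype.card_subtype, hn]
    rw [← Finset.card_eq_sum_card_fiberwise (fun _ _ => Finset.mem_univ _), Finset.card_univ]
    exact Fintype.card_of_subtype _ (by simp)
  have hseq : ∀ z : H, s z * cH z = Nat.card G := by
    have h1 := hkey (fun _ => 1) fun _ _ => rfl
    simp only [one_mul, Finset.sum_const, Finset.card_univ, nsmul_eq_mul, mul_one] at h1
    have h2 : ∑ z : H, s z * cH z = ∑ _z : H, Nat.card G := by
      rw [Finset.sum_const, Finset.card_univ, smul_eq_mul, ← Nat.card_eq_fintype_card]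
      rw [← Nat.card_eq_fintype_card (α := G)] at h1
      exact_mod_cast h1
    exact fun z => ((Finset.sum_eq_sum_iff_of_le fun z _ => hge z).mp h2.symm z (Finset.mem_univ z)).symm
  have havg : ∀ F : H → ℂ, IsClassFunction H F →
      (Nat.card G : ℂ) * ∑ z : H, F z = (n : ℂ) * ∑ x : G, F (y x) := fun F hF => by
    rw [← hkey F hF, Finset.mul_sum]
    refine Finset.sum_congr rfl fun z _ => ?_
    rw [← Nat.cast_mul, hseq]; ring
  have hinner : ∀ φ : H → ℂ, IsClassFunction H φ →
      classInner (Θ φ) (Θ φ) = classInner φ φ := fun φ hφ => by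
    have h := havg (fun z => φ z * conj (φ z)) fun z h => by simp only [hφ z h]
    simp only [classInner, hΘ]
    rw [← hn]
    have hn0 : (n : ℂ) ≠ 0 := natCard_ne_zero H
    field_simp [natCard_ne_zero G, hn0]
    linear_combination -h
  have hone : ∀ φ, IsClassFunction H φ → Θ φ 1 = φ 1 := fun φ hφ => hclass φ hφ 1 1 (by simp)
  have hirr : ∀ χ : IrrCharacter H, IsIrrCharacter G (Θ χ) := fun χ => by
    refine isIrr_of_genChar_norm_one (hgen χ χ.2.isCharacter')
      (by rw [hinner _ (isCharacter_classFunction χ.2.isCharacter'), irr_inner_self χ.2]) ?_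
    rw [hone _ (isCharacter_classFunction χ.2.isCharacter')]
    obtain ⟨d, hd⟩ := exists_degree χ.2.isCharacter'
    rw [hd, Complex.natCast_re]; exact Nat.cast_nonneg d
  set K := ⨅ χ : IrrCharacter H, charKer (hirr χ).isCharacter' with hK
  have hmem : ∀ x : G, x ∈ K ↔ y x = 1 := fun x => by
    rw [hK, Subgroup.mem_iInf, ← isConj_one_left, isConj_comm, isConj_iff_irr_eq]
    refine forall_congr' fun χ => ?_
    rw [mem_charKer, hone _ (isCharacter_classFunction χ.2.isCharacter')]
    exact eq_comm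
  haveI hKn : K.Normal := Subgroup.normal_iInf_normal fun χ => charKer_normal _
  have hKH : K ⊓ H = ⊥ := by
    rw [eq_bot_iff]
    rintro x ⟨hxK, hxH⟩
    have h1 := (hmem x).mp hxK
    have h2 := hyH x ⟨x, hxH⟩ (by
      have e : x ^ a = x := congrArg Subtype.val (hHpow ⟨x, hxH⟩)
      rw [e])
    rw [h1, isConj_one_right] at h2
    exact Subgroup.mem_bot.mpr (congrArg Subtype.val h2)
  refine ⟨K, hKn, ?_, hKH⟩
  refine Subgroup.eq_top_of_card_eq _ ?_
  rw [sup_comm, CfsgLib.Core.card_sup_of_disjoint (CfsgLib.Core.le_normalizer_normal _)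
    (by rw [inf_comm]; exact hKH)]
  have h1 := hseq 1
  have h2 : cH 1 = Nat.card H := by
    show Nat.card (Subgroup.centralizer ({(1 : H)} : Set H)) = _
    rw [Subgroup.centralizer_eq_top_iff_subset.mpr (by simp), Subgroup.card_top]
  have h3 : s 1 = Nat.card K := by
    show (Finset.univ.filter fun x : G => IsConj (y x) 1).card = _
    rw [← Nat.card_eq_finsetCard]
    exact Nat.card_congr (Equiv.subtypeEquivRight fun x => by
      rw [Finset.mem_filter, hmem, isConj_one_left]; simp)
  rw [h2, h3] at h1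
  rw [← h1, mul_comm]

end CfsgLib.Char
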