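import Cfsg.Agent.Lib.CharBrauer2
import Cfsg.Agent.Lib.CharBrauer3
import Cfsg.Agent.Lib.CharVirtual
import Cfsg.Agent.Lib.CharInt
import Mathlib.RingTheory.Polynomial.Cyclotomic.Roots
import Mathlib.RingTheory.RootsOfUnity.Complex
import Mathlib.Analysis.SpecialFunctions.Exp
import Mathlib.Data.ZMod.Units

/-!
# Galois conjugates of characters and the rationality tools
-/

set_option autoImplicit false
set_option linter.style.haveILetI false
set_option linter.unusedSectionVars false

namespace CfsgLib.Char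

open Cfsg Polynomial
open scoped ComplexConjugate

universe u

variable {G : Type u} [Group G]

/-- The function `g ↦ χ (g ^ k)`. -/
def powTwist (k : ℕ) (f : G → ℂ) : G → ℂ := fun g => f (g ^ k)

theorem exists_coprime_congr {d N : ℕ} (hN : 0 < N) (hdN : d ∣ N) {a : ℕ} (ha : a.Coprime d) :
    ∃ k : ℕ, k.Coprime N ∧ k ≡ a [MOD d] := by
  haveI : NeZero N := ⟨hN.ne'⟩
  obtain ⟨u, hu⟩ := ZMod.unitsMap_surjective hdN (ZMod.unitOfCoprime a ha)
  refine ⟨(u : ZMod N).val, ZMod.val_coe_unit_coprime u, ?_⟩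
  rw [← ZMod.natCast_eq_natCast_iff]
  have h := congrArg Units.val hu
  rw [ZMod.unitOfCoprime, ZMod.unitsMap_def, Units.coe_map] at h
  simp only [MonoidHom.coe_coe, RingHom.coe_coe] at h
  rw [← h, ZMod.castHom_apply, ZMod.natCast_val]

theorem coprime_mem_pow [Finite G] {k : ℕ} (hk : k.Coprime (Nat.card G)) (H : Subgroup G) {z : G} :
    z ^ k ∈ H ↔ z ∈ H := by
  refine ⟨fun h => ?_, fun h => H.pow_mem h k⟩
  obtain ⟨m, hm⟩ := exists_pow_eq_self_of_coprime (hk.coprime_dvd_right (orderOf_dvd_natCard z))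
  rw [← hm]
  exact H.pow_mem h m

theorem powTwist_indFun [Fintype G] {k : ℕ} (hk : k.Coprime (Nat.card G)) (H : Subgroup G)
    (f : H → ℂ) : powTwist k (indFun H f) = indFun H (fun h => f (h ^ k)) := by
  funext g
  simp only [powTwist, indFun_apply]
  congr 1
  refine Finset.sum_congr rfl fun x _ => ?_
  have e : x⁻¹ * g ^ k * x = (x⁻¹ * g * x) ^ k := by
    rw [show x⁻¹ * g * x = x⁻¹ * g * (x⁻¹)⁻¹ by rw [inv_inv], conj_pow, inv_inv]
  rw [e]
  by_cases h : x⁻¹ * g * x ∈ H
  · rw [extendByZero_mem _ ((coprime_mem_pow hk H).mpr h), extendByZero_mem _ h]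
    exact congrArg f (Subtype.ext rfl)
  · rw [extendByZero_not_mem _ (fun h' => h ((coprime_mem_pow hk H).mp h')),
      extendByZero_not_mem _ h]

theorem powTwist_isGenChar_of_char [Fintype G] {k : ℕ} (hk : k.Coprime (Nat.card G)) {χ : G → ℂ}
    (hχ : IsCharacter G χ) : IsGeneralizedCharacter G (powTwist k χ) := by
  suffices h : ∀ f ∈ monSpan (G := G), IsGeneralizedCharacter G (powTwist k f) from
    h χ (brauer_induction hχ)
  intro f hf
  induction hf using AddSubgroup.closure_induction with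
  | mem f hf =>
    obtain ⟨p, E, l, -, -, rfl⟩ := hf
    rw [powTwist_indFun hk]
    have : (fun h : E => (l (h ^ k) : ℂ)) = fun h => ((l ^ k) h : ℂ) := funext fun h => by
      rw [map_pow, MonoidHom.pow_apply]
    rw [this]
    exact isGenChar_indFun (isGenChar_of_isCharacter (isCharacter_hom _))
  | zero => exact isGenChar_of_isCharacter isCharacter_zero
  | add a b _ _ ha hb => exact isGenChar_add ha hb
  | neg a _ ha => exact isGenChar_neg ha

theorem inner_powTwist [Fintype G] {k : ℕ} (hk : k.Coprime (Nat.card G)) (φ ψ : G → ℂ) :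
    classInner (powTwist k φ) (powTwist k ψ) = classInner φ ψ := by
  simp only [classInner, powTwist]
  congr 1
  exact Fintype.sum_equiv (powCoprime hk.symm) _ _ fun g => rfl

theorem powTwist_irr [Finite G] {k : ℕ} (hk : k.Coprime (Nat.card G)) {χ : G → ℂ}
    (hχ : IsIrrCharacter G χ) : IsIrrCharacter G (powTwist k χ) := by
  haveI := Fintype.ofFinite G
  rcases genChar_norm_one (powTwist_isGenChar_of_char hk hχ.isCharacter')
    (by rw [inner_powTwist hk, irr_inner_self hχ]) with h | h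
  · exact h
  · exfalso
    obtain ⟨d, hd, hd1⟩ := exists_degree_pos hχ
    obtain ⟨e, he⟩ := exists_degree h.isCharacter'
    have h2 : (e : ℂ) = -(d : ℂ) := by rw [← he, ← hd1]; simp [powTwist]
    have h3 : ((e + d : ℕ) : ℂ) = 0 := by push_cast; rw [h2]; ring
    have h4 : e + d = 0 := by exact_mod_cast h3
    omega

theorem powTwist_char [Finite G] {k : ℕ} (hk : k.Coprime (Nat.card G)) {χ : G → ℂ}
    (hχ : IsCharacter G χ) : IsCharacter G (powTwist k χ) := by
  haveI := Fintype.ofFinite G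
  have he := classFunction_eq_sum χ (isCharacter_classFunction hχ)
  have : powTwist k χ = ∑ ξ : IrrCharacter G, classInner χ (ξ : G → ℂ) • powTwist k (ξ : G → ℂ) := by
    funext g
    conv_lhs => rw [he]
    simp [powTwist, Finset.sum_apply]
  rw [this]
  refine isCharacter_sum _ _ fun ξ _ => ?_
  obtain ⟨n, hn⟩ := inner_character_nat hχ ξ.2.isCharacter'
  rw [hn, Nat.cast_smul_eq_nsmul ℂ]
  exact isCharacter_nsmul (powTwist_irr hk ξ.2).isCharacter' n

/-- A character twisted on the `a`-part only. -/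
theorem exists_partial_twist [Finite G] {a b k : ℕ} (hab : Nat.card G = a * b)
    (hcop : a.Coprime b) (hk : k.Coprime a) {χ : G → ℂ} (hχ : IsCharacter G χ) :
    ∃ χ' : G → ℂ, IsCharacter G χ' ∧ (IsIrrCharacter G χ → IsIrrCharacter G χ') ∧
      (∀ g : G, orderOf g ∣ a → χ' g = χ (g ^ k)) ∧
      (∀ g : G, Nat.Coprime (orderOf g) a → χ' g = χ g) := by
  obtain ⟨m, hm1, hm2⟩ := Nat.chineseRemainder hcop k 1
  have h1 : m.Coprime a := by rw [Nat.Coprime, hm1.gcd_eq]; exact hk
  have h2 : m.Coprime b := by rw [Nat.Coprime, hm2.gcd_eq]; exact Nat.coprime_one_left b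
  have hm : m.Coprime (Nat.card G) := by rw [hab]; exact h1.mul_right h2
  refine ⟨powTwist m χ, powTwist_char hm hχ, fun h => powTwist_irr hm h, fun g hg => ?_, fun g hg => ?_⟩
  · exact congrArg χ (pow_eq_pow_iff_modEq.mpr (hm1.of_dvd hg))
  · have hb : orderOf g ∣ b := hg.dvd_of_dvd_mul_left (hab ▸ orderOf_dvd_natCard g)
    exact (congrArg χ (pow_eq_pow_iff_modEq.mpr (hm2.of_dvd hb))).trans (by rw [pow_one])

/-- Values along the generators of cyclic subgroups given by one rational polynomial. -/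
def HasGalPoly (n : ℕ) (ζ : ℂ) (f : G → ℂ) : Prop :=
  ∀ g : G, ∃ Q : ℚ[X], ∀ k : ℕ, k.Coprime n → f (g ^ k) = aeval (ζ ^ k) Q

theorem hasGalPoly_char [Fintype G] {ζ : ℂ} (hζ : IsPrimitiveRoot ζ (Nat.card G)) {χ : G → ℂ}
    (hχ : IsCharacter G χ) : HasGalPoly (Nat.card G) ζ χ := by
  classical
  suffices h : ∀ f ∈ monSpan (G := G), HasGalPoly (Nat.card G) ζ f from h χ (brauer_induction hχ)
  intro f hf
  induction hf using AddSubgroup.closure_induction with
  | mem f hf =>
    obtain ⟨p, E, l, -, -, rfl⟩ := hf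
    intro g
    haveI : NeZero (Nat.card G) := ⟨Nat.card_pos.ne'⟩
    have hroot : ∀ z : E, ∃ j : ℕ, ζ ^ j = (l z : ℂ) := fun z => by
      obtain ⟨j, -, hj⟩ := hζ.eq_pow_of_pow_eq_one (ξ := (l z : ℂ)) (by
        rw [← Units.val_pow_eq_pow_val, ← map_pow,
          orderOf_dvd_iff_pow_eq_one.mp ((orderOf_dvd_natCard z).trans E.card_subgroup_dvd_card),
          map_one, Units.val_one])
      exact ⟨j, hj⟩
    choose j hj using hroot
    refine ⟨C ((Nat.card E : ℚ)⁻¹) * ∑ x : G,
      if h : x⁻¹ * g * x ∈ E then X ^ j ⟨_, h⟩ else 0, fun k hk => ?_⟩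
    show powTwist k (indFun E fun e => (l e : ℂ)) g = _
    rw [powTwist_indFun hk, indFun_apply, map_mul, map_sum, aeval_C]
    congr 1
    · simp
    refine Finset.sum_congr rfl fun x _ => ?_
    split_ifs with h
    · rw [extendByZero_mem _ h, map_pow, Units.val_pow_eq_pow_val, aeval_X_pow, ← hj, ← pow_mul,
        ← pow_mul, mul_comm]
    · rw [extendByZero_not_mem _ h, map_zero]
  | zero => exact fun g => ⟨0, fun k _ => by simp⟩
  | add a b _ _ ha hb =>
    intro g
    obtain ⟨Q, hQ⟩ := ha g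
    obtain ⟨R, hR⟩ := hb g
    exact ⟨Q + R, fun k hk => by simp [hQ k hk, hR k hk]⟩
  | neg a _ ha =>
    intro g
    obtain ⟨Q, hQ⟩ := ha g
    exact ⟨-Q, fun k hk => by simp [hQ k hk]⟩

/-- Conjugate roots of unity satisfy the same rational equations. -/
theorem aeval_pow_eq_rat {n : ℕ} (hn : 0 < n) {ζ : ℂ} (hζ : IsPrimitiveRoot ζ n) (Q : ℚ[X]) (q : ℚ)
    (h : aeval ζ Q = (q : ℂ)) {k : ℕ} (hk : k.Coprime n) : aeval (ζ ^ k) Q = (q : ℂ) := by
  haveI : NeZero n := ⟨hn.ne'⟩
  have h1 : minpoly ℚ ζ ∣ Q - C q := minpoly.dvd ℚ ζ (by simp [h])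
  rw [← cyclotomic_eq_minpoly_rat hζ hn, cyclotomic_eq_minpoly_rat (hζ.pow_of_coprime k hk) hn] at h1
  obtain ⟨R, hR⟩ := h1
  have h2 := congrArg (aeval (ζ ^ k)) hR
  rw [map_mul, minpoly.aeval, zero_mul, map_sub, aeval_C, sub_eq_zero] at h2
  simpa using h2

/-- An element fixed by all conjugations is rational. -/
theorem rat_of_invariant {n : ℕ} (hn : 0 < n) {ζ : ℂ} (hζ : IsPrimitiveRoot ζ n) (Q : ℚ[X]) (c : ℂ)
    (h : ∀ k : ℕ, k.Coprime n → aeval (ζ ^ k) Q = c) : ∃ q : ℚ, c = (q : ℂ) := by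
  haveI : NeZero n := ⟨hn.ne'⟩
  set Φ := cyclotomic n ℚ with hΦ
  set R := Q %ₘ Φ with hR
  have hroot : ∀ ξ ∈ primitiveRoots n ℂ, (R.map (algebraMap ℚ ℂ) - C c).eval ξ = 0 := by
    intro ξ hξ
    rw [mem_primitiveRoots hn] at hξ
    obtain ⟨k, -, hk, rfl⟩ := hζ.isPrimitiveRoot_iff.mp hξ
    have h2 := congrArg (aeval (ζ ^ k)) (modByMonic_add_div Q Φ)
    have h3 : aeval (ζ ^ k) Φ = 0 := by
      rw [hΦ, cyclotomic_eq_minpoly_rat hξ hn]; exact minpoly.aeval _ _
    rw [map_add, map_mul, h3, zero_mul, add_zero, h k hk, ← hR] at h2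
    rw [eval_sub, eval_C, eval_map_algebraMap, h2, sub_self]
  have hdeg : (R.map (algebraMap ℚ ℂ) - C c).natDegree < (primitiveRoots n ℂ).card := by
    rw [hζ.card_primitiveRoots, natDegree_sub_C, natDegree_map, hR, ← natDegree_cyclotomic n ℚ]
    exact natDegree_modByMonic_lt _ (cyclotomic.monic n ℚ) (fun e => by
      have := natDegree_cyclotomic n ℚ
      rw [← hΦ, e, natDegree_one] at this
      exact (Nat.totient_pos.mpr hn).ne this)
  have h0 := eq_zero_of_natDegree_lt_card_of_eval_eq_zero' _ _ hroot hdeg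
  refine ⟨R.coeff 0, ?_⟩
  have h1 := congrArg (fun p => coeff p 0) h0
  simp only [coeff_sub, coeff_C_zero, coeff_zero, coeff_map, sub_eq_zero] at h1
  simpa using h1.symm

/-- Rational values are the same as fusion of generators. -/
theorem rational_iff_conj [Finite G] :
    (∀ χ : IrrCharacter G, ∀ g : G, ∃ q : ℚ, (χ : G → ℂ) g = (q : ℂ)) ↔
      ∀ m : ℕ, m.Coprime (Nat.card G) → ∀ g : G, IsConj g (g ^ m) := by
  haveI := Fintype.ofFinite G
  set n := Nat.card G with hn
  have hn0 : 0 < n := Nat.card_pos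
  set ζ := Complex.exp (2 * Real.pi * Complex.I / n) with hζd
  have hζ : IsPrimitiveRoot ζ n := Complex.isPrimitiveRoot_exp n hn0.ne'
  constructor
  · intro h m hm g
    refine (isConj_iff_irr_eq g (g ^ m)).mpr fun χ => ?_
    obtain ⟨Q, hQ⟩ := hasGalPoly_char hζ χ.2.isCharacter' g
    obtain ⟨q, hq⟩ := h χ g
    have h1 := hQ 1 (Nat.coprime_one_left _)
    rw [pow_one, pow_one, hq] at h1
    rw [hq, hQ m hm, aeval_pow_eq_rat hn0 hζ Q q h1.symm hm]
  · intro h χ g
    obtain ⟨Q, hQ⟩ := hasGalPoly_char hζ χ.2.isCharacter' g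
    refine rat_of_invariant hn0 hζ Q _ fun k hk => ?_
    rw [← hQ k hk]
    exact ((isConj_iff_irr_eq g (g ^ k)).mp (h k hk g) χ).symm

/-- Burnside: a nonlinear irreducible character has a zero. -/
theorem exists_zero_of_nonlinear [Finite G] {χ : G → ℂ} (hχ : IsIrrCharacter G χ)
    (h1 : χ 1 ≠ 1) : ∃ g : G, χ g = 0 := by
  classical
  haveI := Fintype.ofFinite G
  by_contra hne
  push Not at hne
  set n := Nat.card G with hn
  have hn0 : 0 < n := Nat.card_pos
  set ζ := Complex.exp (2 * Real.pi * Complex.I / n) with hζd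
  have hζ : IsPrimitiveRoot ζ n := Complex.isPrimitiveRoot_exp n hn0.ne'
  choose Q hQ using hasGalPoly_char hζ hχ.isCharacter'
  set s := (Finset.univ : Finset G).erase 1 with hs
  obtain ⟨q, hq⟩ := rat_of_invariant hn0 hζ (∏ g ∈ s, Q g) (∏ g ∈ s, χ g) fun k hk => by
    rw [map_prod]
    refine Finset.prod_equiv (powCoprime hk.symm) (fun g => ?_) fun g _ => (hQ g k hk).symm
    have h1' : (powCoprime (G := G) hk.symm) g = 1 ↔ g = 1 := by
      conv_lhs => rhs; rw [← show (powCoprime (G := G) hk.symm) 1 = 1 from one_pow k]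
      exact (powCoprime hk.symm).injective.eq_iff
    simp only [hs, Finset.mem_erase, Finset.mem_univ, and_true, ne_eq, h1']
  obtain ⟨z, hz⟩ := int_of_isIntegral_rat q
    (hq ▸ IsIntegral.prod _ fun g _ => isCharacter_isIntegral hχ.isCharacter' g)
  have hz0 : z ≠ 0 := fun e => by
    rw [← hz, e, Int.cast_zero, Rat.cast_zero] at hq
    exact Finset.prod_ne_zero_iff.mpr (fun g _ => hne g) hq
  have hge : (1 : ℝ) ≤ ∏ g ∈ s, ‖χ g‖ ^ 2 := by
    rw [Finset.prod_pow, ← norm_prod, hq, ← hz, Rat.cast_intCast, Complex.norm_intCast]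
    exact one_le_pow₀ (by exact_mod_cast Int.one_le_abs hz0)
  obtain ⟨d, hd0, hd⟩ := exists_degree_pos hχ
  have hd2 : (2 : ℝ) ≤ d := by
    have : d ≠ 1 := fun e => h1 (by rw [hd, e, Nat.cast_one])
    exact_mod_cast (show 2 ≤ d by omega)
  have hsum : ∑ g ∈ s, (‖χ g‖ ^ 2 - 1) < 0 := by
    have h := irr_inner_self hχ
    rw [inner_self_eq_norm_sq, Complex.ofReal_eq_one,
      inv_mul_eq_one₀ (by exact_mod_cast hn0.ne')] at h
    rw [← Finset.add_sum_erase _ _ (Finset.mem_univ (1 : G)), ← hs, hd, Complex.norm_natCast] at h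
    rw [Finset.sum_sub_distrib, Finset.sum_const, nsmul_eq_mul, mul_one, hs,
      Finset.card_erase_of_mem (Finset.mem_univ _), Finset.card_univ, ← Nat.card_eq_fintype_card,
      Nat.cast_sub (Nat.card_pos : 0 < Nat.card G), Nat.cast_one]
    rw [← hs]
    nlinarith
  have hle : ∏ g ∈ s, ‖χ g‖ ^ 2 ≤ Real.exp (∑ g ∈ s, (‖χ g‖ ^ 2 - 1)) := by
    rw [Real.exp_sum]
    refine Finset.prod_le_prod (fun g _ => sq_nonneg _) fun g _ => ?_
    have := Real.add_one_le_exp (‖χ g‖ ^ 2 - 1)
    linarith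
  exact absurd (hge.trans hle) (not_le.mpr (Real.exp_lt_one_iff.mpr hsum))

/-- Characters of `p`-defect zero vanish off the `p`-regular elements. -/
theorem vanish_of_defect_zero [Finite G] {V : Type*} [AddCommGroup V] [Module ℂ V]
    [FiniteDimensional ℂ V] (ρ : Representation ℂ G V) [ρ.IsIrreducible] {p N : ℕ} (hp : p.Prime)
    (hN : p ^ N ∣ Nat.card G) (hN' : ¬ p ^ (N + 1) ∣ Nat.card G)
    (hdeg : p ^ N ∣ Module.finrank ℂ V) {x : G} (hx : p ∣ orderOf x) : ρ.character x = 0 := by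
  classical
  haveI := Fintype.ofFinite G
  haveI := Fact.mk hp
  haveI := nontrivial_of_irreducible ρ
  have hirr : IsIrrCharacter G ρ.character := isIrrCharacter_rep ρ
  have hd0 : 0 < Module.finrank ℂ V := Module.finrank_pos
  obtain ⟨m', hm'⟩ := hN
  have hm'p : m'.Coprime p := (hp.coprime_iff_not_dvd.mpr fun h => hN' (by
    rw [pow_succ, hm']; exact Nat.mul_dvd_mul_left _ h)).symm
  set θ : G → ℂ := fun g => if (orderOf g).Coprime p then ρ.character g else 0 with hθ
  have hθc : IsClassFunction G θ := fun g y => by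
    have ho : orderOf (y * g * y⁻¹) = orderOf g := MulEquiv.orderOf_eq (MulAut.conj y) g
    simp only [hθ, ho, ρ.char_conj]
  have hgen : IsGeneralizedCharacter G θ := by
    refine brauer_characterization hθc fun E q hq hE => ?_
    haveI := isNilpotent_of_isElementary hq hE
    haveI := Fintype.ofFinite E
    obtain ⟨j, n', hn', hcard⟩ := Nat.exists_eq_pow_mul_and_not_dvd (Nat.card_pos (α := E)).ne' p hp.ne_one
    have hcop : (p ^ j).Coprime n' := ((hp.coprime_iff_not_dvd).mpr hn').pow_left j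
    obtain ⟨a, ha⟩ := exists_partExp hcop
    let π : E →* E := MonoidHom.mk' (fun e => e ^ a) fun u w =>
      nilpotent_part_mul hcop hcard.dvd ha u w
    have hpowcard : ∀ e : E, e ^ (p ^ j * n') = 1 := fun e => by rw [← hcard, pow_card_eq_one']
    let Q : Subgroup E := π.range
    have hQn : ∀ w : Q, (w : E) ^ n' = 1 := by
      rintro ⟨_, e, rfl⟩; exact ha.pow_n (hpowcard e)
    have hmemQ : ∀ w : E, (orderOf (w : G)).Coprime p ↔ w ∈ Q := by
      intro w
      rw [Subgroup.orderOf_coe]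
      constructor
      · intro h
        refine ⟨w, ha.eq_self (orderOf_dvd_iff_pow_eq_one.mp ?_)⟩
        exact (h.pow_right j).dvd_of_dvd_mul_left (orderOf_dvd_iff_pow_eq_one.mpr (hpowcard w))
      · intro h
        exact Nat.Coprime.coprime_dvd_left (orderOf_dvd_of_pow_eq_one (hQn ⟨w, h⟩))
          ((hp.coprime_iff_not_dvd).mpr hn').symm
    have hP : ∀ w : Q, p ^ j ∣ Nat.card (Subgroup.centralizer ({((w : E) : G)} : Set G)) := by
      intro w
      obtain ⟨P⟩ : Nonempty (Sylow p E) := inferInstance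
      have hPc : Nat.card P.toSubgroup = p ^ j := by
        rw [P.card_eq_multiplicity, hcard, Nat.factorization_mul (pow_ne_zero _ hp.ne_zero)
          (fun e => hn' (by rw [e]; exact dvd_zero p)), Finsupp.add_apply, hp.factorization_pow,
          Finsupp.single_eq_same, Nat.factorization_eq_zero_of_not_dvd hn', add_zero]
      have hle : P.toSubgroup.map E.subtype ≤ Subgroup.centralizer ({((w : E) : G)} : Set G) := by
        rintro _ ⟨y, hy, rfl⟩
        rw [Subgroup.mem_centralizer_singleton_iff]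
        have hy1 : π y = 1 := ha.eq_one (by
          have h := pow_card_eq_one' (x := (⟨y, hy⟩ : P.toSubgroup))
          rw [hPc] at h
          exact congrArg Subtype.val h)
        have e1 : π (y * w * y⁻¹) = π w := by rw [map_mul, map_mul, map_inv, hy1, one_mul, inv_one, mul_one]
        have e2 : π w = w := ha.eq_self (hQn w)
        have e3 : π (y * w * y⁻¹) = y * w * y⁻¹ := ha.eq_self (by rw [conj_pow, hQn w, mul_one, mul_inv_cancel])
        rw [e2, e3, mul_inv_eq_iff_eq_mul] at e1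
        exact congrArg Subtype.val e1
      rw [← hPc, ← Subgroup.card_subtype E P.toSubgroup]
      exact Subgroup.card_dvd_of_le hle
    have hint : ∀ w : Q, IsIntegral ℤ (ρ.character ((w : E) : G) / ((p ^ j : ℕ) : ℂ)) := by
      intro w
      set C := Subgroup.centralizer ({((w : E) : G)} : Set G) with hC
      obtain ⟨c', hc'⟩ : C.index * p ^ j ∣ Module.finrank ℂ V * m' := by
        refine dvd_trans ?_ (Nat.mul_dvd_mul_right hdeg m')
        rw [← hm', ← C.index_mul_card]
        exact Nat.mul_dvd_mul_left _ (hP w)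
      have hω := class_omega_isIntegral ρ ((w : E) : G)
      have h1 : IsIntegral ℤ ((m' : ℂ) * (ρ.character ((w : E) : G) / ((p ^ j : ℕ) : ℂ))) := by
        have hpj : ((p ^ j : ℕ) : ℂ) ≠ 0 := by exact_mod_cast pow_ne_zero j hp.ne_zero
        have hd : (Module.finrank ℂ V : ℂ) ≠ 0 := by exact_mod_cast hd0.ne'
        have hcc : (Module.finrank ℂ V : ℂ) * m' = (C.index : ℂ) * ((p ^ j : ℕ) : ℂ) * c' := by
          exact_mod_cast hc'
        rw [show (m' : ℂ) * (ρ.character ((w : E) : G) / ((p ^ j : ℕ) : ℂ)) =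
            (c' : ℂ) * ((C.index : ℂ) * ρ.character ((w : E) : G) / (Module.finrank ℂ V : ℂ)) by
          field_simp
          linear_combination (ρ.character ((w : E) : G)) * hcc]
        exact (map_natCast (algebraMap ℤ ℂ) c' ▸ isIntegral_algebraMap (R := ℤ) (A := ℂ) (x := (c' : ℤ))).mul hω
      have hb := Nat.gcd_eq_gcd_ab m' (p ^ j)
      rw [(hm'p.pow_right j).gcd_eq_one, Nat.cast_one] at hb
      have hb' : (1 : ℂ) = (m' : ℂ) * (Nat.gcdA m' (p ^ j) : ℂ) +
          ((p ^ j : ℕ) : ℂ) * (Nat.gcdB m' (p ^ j) : ℂ) := by exact_mod_cast hb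
      rw [show ρ.character ((w : E) : G) / ((p ^ j : ℕ) : ℂ) =
          (Nat.gcdA m' (p ^ j) : ℂ) * ((m' : ℂ) * (ρ.character ((w : E) : G) / ((p ^ j : ℕ) : ℂ))) +
          (Nat.gcdB m' (p ^ j) : ℂ) * ρ.character ((w : E) : G) by
        have hpj : ((p ^ j : ℕ) : ℂ) ≠ 0 := by exact_mod_cast pow_ne_zero j hp.ne_zero
        field_simp
        linear_combination (ρ.character ((w : E) : G)) * hb']
      exact (((isIntegral_algebraMap (R := ℤ) (x := Nat.gcdA m' (p ^ j)))).mul h1).add
        (((isIntegral_algebraMap (R := ℤ) (x := Nat.gcdB m' (p ^ j)))).mul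
          (isCharacter_isIntegral hirr.isCharacter' _))
    refine isGenChar_iff_int.mpr ⟨isClassFunction_restrict hθc E, fun η hη => ?_⟩
    haveI := Fintype.ofFinite Q
    obtain ⟨M, hM⟩ := inner_character_nat
      (isCharacter_restrict (isCharacter_restrict hirr.isCharacter' E) Q)
      (isCharacter_restrict hη.isCharacter' Q)
    have hsum : classInner (fun e : E => θ e) η = (Nat.card E : ℂ)⁻¹ *
        ∑ w : Q, ρ.character ((w : E) : G) * conj (η w) := by
      simp only [classInner]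
      congr 1
      rw [← Finset.sum_filter_add_sum_filter_not Finset.univ (fun e : E => e ∈ Q)
        (fun e : E => θ e * conj (η e)), Finset.sum_eq_zero (s := Finset.univ.filter fun e : E => ¬ e ∈ Q)
        fun e he => by
          have h := (hmemQ e).not.mpr (Finset.mem_filter.mp he).2
          simp only [hθ, if_neg h, zero_mul], add_zero,
        Finset.sum_subtype (p := fun e => e ∈ Q) _ (by simp)]
      exact Finset.sum_congr rfl fun w _ => by simp only [hθ, if_pos ((hmemQ w).mpr w.2)]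
    have hMQ : ∑ w : Q, ρ.character ((w : E) : G) * conj (η w) = (Nat.card Q : ℂ) * M := by
      rw [← hM, classInner, mul_inv_cancel_left₀ (natCard_ne_zero Q)]
    have hdiv : IsIntegral ℤ (((Nat.card Q * M : ℕ) : ℂ) / ((p ^ j : ℕ) : ℂ)) := by
      rw [Nat.cast_mul, ← hMQ, Finset.sum_div]
      refine IsIntegral.sum _ fun w _ => ?_
      rw [mul_div_right_comm]
      exact (hint w).mul (isCharacter_isIntegral (isCharacter_conj hη.isCharacter') w)
    have hQd : Nat.card Q ∣ n' := by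
      refine (Nat.Coprime.dvd_mul_left ?_).mp (hcard ▸ Q.card_subgroup_dvd_card)
      refine (((hp.coprime_iff_not_dvd).mpr fun hd => ?_).symm).pow_right j
      obtain ⟨w, hw⟩ := exists_prime_orderOf_dvd_card' p hd
      exact hn' (hw ▸ orderOf_dvd_of_pow_eq_one (Subtype.ext (hQn w)))
    have hQn' : Nat.card Q = n' := by
      refine Nat.dvd_antisymm hQd ?_
      have h1 : Nat.card E = Nat.card π.ker * Nat.card Q := by
        rw [Subgroup.card_eq_card_quotient_mul_card_subgroup π.ker,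
          Nat.card_congr (QuotientGroup.quotientKerEquivRange π).toEquiv, mul_comm]
      refine (Nat.Coprime.dvd_mul_left ?_).mp (h1 ▸ hcard ▸ Dvd.intro_left _ rfl)
      refine Nat.Coprime.symm (Nat.coprime_of_dvd fun r hr h2 h3 => ?_)
      haveI := Fact.mk hr
      obtain ⟨⟨w, hw'⟩, hw⟩ := exists_prime_orderOf_dvd_card' r h2
      rw [Subgroup.orderOf_mk] at hw
      have hwa : w ^ a = 1 := hw'
      exact hr.ne_one (Nat.dvd_one.mp ((ha.2.of_dvd h3).dvd_iff (dvd_refl r) |>.mp
        (hw ▸ orderOf_dvd_of_pow_eq_one hwa)))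
    have hpd : p ^ j ∣ M := ((hQn' ▸ hcop).dvd_mul_left).mp
      (natCast_dvd_of_isIntegral_div (pow_pos hp.pos j) hdiv)
    obtain ⟨t, ht⟩ := hpd
    refine ⟨t, ?_⟩
    rw [hsum, hMQ, hcard, hQn', ht]
    have h1 : ((p ^ j : ℕ) : ℂ) ≠ 0 := by exact_mod_cast pow_ne_zero j hp.ne_zero
    have h2 : (n' : ℂ) ≠ 0 := Nat.cast_ne_zero.mpr fun e => hn' (by rw [e]; exact dvd_zero p)
    push_cast at h1 ⊢
    field_simp
  obtain ⟨z, hz⟩ := inner_genChar_int hgen (isGenChar_of_isCharacter hirr.isCharacter')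
  have hval : classInner θ ρ.character = (((Nat.card G : ℝ)⁻¹ *
      ∑ g ∈ Finset.univ.filter (fun g : G => (orderOf g).Coprime p), ‖ρ.character g‖ ^ 2 : ℝ) : ℂ) := by
    rw [Complex.ofReal_mul, Complex.ofReal_inv, Complex.ofReal_natCast, Complex.ofReal_sum, classInner,
      Finset.sum_filter]
    congr 1
    refine Finset.sum_congr rfl fun g _ => ?_
    simp only [hθ]
    split_ifs with h
    · rw [Complex.mul_conj, Complex.normSq_eq_norm_sq]
    · rw [zero_mul]
  have htot := irr_inner_self hirr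
  rw [inner_self_eq_norm_sq, Complex.ofReal_eq_one,
    inv_mul_eq_one₀ (by exact_mod_cast Nat.card_pos.ne')] at htot
  rw [hz] at hval
  have hz' : (z : ℝ) * (Nat.card G : ℝ) =
      ∑ g ∈ Finset.univ.filter (fun g : G => (orderOf g).Coprime p), ‖ρ.character g‖ ^ 2 := by
    have h := congrArg Complex.re hval
    rw [Complex.intCast_re, Complex.ofReal_re] at h
    rw [h, mul_comm, mul_inv_cancel_left₀ (by exact_mod_cast Nat.card_pos.ne')]
  rw [← Finset.sum_filter_add_sum_filter_not Finset.univ (fun g : G => (orderOf g).Coprime p)] at htot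
  have hnn : 0 ≤ ∑ g ∈ Finset.univ.filter (fun g : G => ¬ (orderOf g).Coprime p),
      ‖ρ.character g‖ ^ 2 := Finset.sum_nonneg fun _ _ => sq_nonneg _
  have hpos : 0 < ∑ g ∈ Finset.univ.filter (fun g : G => (orderOf g).Coprime p),
      ‖ρ.character g‖ ^ 2 := by
    refine lt_of_lt_of_le ?_ (Finset.single_le_sum (fun g _ => sq_nonneg _)
      (show (1 : G) ∈ Finset.univ.filter (fun g : G => (orderOf g).Coprime p) by simp))
    rw [ρ.char_one, Complex.norm_natCast]
    positivity
  have hG : (0 : ℝ) < Nat.card G := by exact_mod_cast Nat.card_pos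
  have hz1 : z = 1 := by
    have h1 : (0 : ℝ) < z := by nlinarith
    have h2 : (z : ℝ) ≤ 1 := by nlinarith
    have h1' : (0 : ℤ) < z := by exact_mod_cast h1
    have h2' : z ≤ 1 := by exact_mod_cast h2
    omega
  rw [hz1, Int.cast_one, one_mul] at hz'
  have h0 : ∑ g ∈ Finset.univ.filter (fun g : G => ¬ (orderOf g).Coprime p),
      ‖ρ.character g‖ ^ 2 = 0 := by linarith
  have := (Finset.sum_eq_zero_iff_of_nonneg fun g _ => sq_nonneg _).mp h0 x
    (Finset.mem_filter.mpr ⟨Finset.mem_univ _, fun h =>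
      hp.ne_one (Nat.eq_one_of_dvd_coprimes h hx dvd_rfl)⟩)
  simpa using this

end CfsgLib.Char
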