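import Cfsg.Agent.Lib.BlockSmallDegree2
import Cfsg.Agent.Lib.CharFrobenius
import Cfsg.Agent.Lib.CharGalois
import Mathlib.GroupTheory.SchurZassenhaus

/-!
Codegrees of irreducible characters: prime divisors, prime codegrees, and prime power codegrees.
-/

universe u

namespace CfsgLib.Block

open Cfsg CfsgLib.Char
open scoped ComplexConjugate Classical

section Basic

variable {G : Type u} [Group G] [Fintype G]

/-- The codegree, as the natural number `[G : ker χ] / χ(1)`. -/
noncomputable def codeg (χ : IrrCharacter G) : ℕ :=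
  Nat.card G / (Nat.card {g : G // (χ : G → ℂ) g = (χ : G → ℂ) 1} * charDegree (χ : G → ℂ))

theorem card_kerSet (χ : IrrCharacter G) :
    Nat.card {g : G // (χ : G → ℂ) g = (χ : G → ℂ) 1} =
      Nat.card (charKer χ.2.isCharacter') :=
  Nat.card_congr (Equiv.subtypeEquivRight fun g => mem_charKer.symm)

/-- The deflation to the quotient by the kernel is faithful. -/
theorem exists_deflate_faithful (χ : IrrCharacter G) :
    ∃ χ' : IrrCharacter (G ⧸ charKer χ.2.isCharacter'),
      (∀ g : G, (χ' : G ⧸ charKer χ.2.isCharacter' → ℂ) (g : G ⧸ charKer χ.2.isCharacter') =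
        (χ : G → ℂ) g) ∧
      charDegree (χ' : G ⧸ charKer χ.2.isCharacter' → ℂ) = charDegree (χ : G → ℂ) ∧
      ∀ q, (χ' : G ⧸ charKer χ.2.isCharacter' → ℂ) q =
        (χ' : G ⧸ charKer χ.2.isCharacter' → ℂ) 1 → q = 1 := by
  set K := charKer χ.2.isCharacter'
  obtain ⟨θ, hθc, hθeq, hθirr⟩ := exists_deflate χ.2.isCharacter' (QuotientGroup.mk' K)
    (QuotientGroup.mk'_surjective K) fun k hk => by
      rw [QuotientGroup.ker_mk'] at hk
      exact hk
  have hval : ∀ g : G, θ (g : G ⧸ K) = (χ : G → ℂ) g := fun g => congrFun hθeq g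
  have h1 : θ 1 = (χ : G → ℂ) 1 := hval 1
  refine ⟨⟨θ, hθirr χ.2⟩, hval, ?_, fun q hq => ?_⟩
  · unfold charDegree
    show ⌊(θ 1).re⌋₊ = _
    rw [h1]
  · induction q using QuotientGroup.induction_on with | _ g => ?_
    refine (QuotientGroup.eq_one_iff g).2 ?_
    show (χ : G → ℂ) g = (χ : G → ℂ) 1
    rw [← hval, ← h1]
    exact hq

theorem codeg_spec (χ : IrrCharacter G) :
    Nat.card (G ⧸ charKer χ.2.isCharacter') = codeg χ * charDegree (χ : G → ℂ) ∧
      Nat.card G =
        Nat.card (G ⧸ charKer χ.2.isCharacter') * Nat.card (charKer χ.2.isCharacter') := by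
  set K := charKer χ.2.isCharacter'
  obtain ⟨χ', -, hd, -⟩ := exists_deflate_faithful χ
  have : Fintype (G ⧸ K) := Fintype.ofFinite _
  obtain ⟨q, hq⟩ := charDegree_dvd_card χ'
  rw [hd] at hq
  have hG : Nat.card G = Nat.card (G ⧸ K) * Nat.card K :=
    Subgroup.card_eq_card_quotient_mul_card_subgroup K
  refine ⟨?_, hG⟩
  have hpos : 0 < Nat.card K * charDegree (χ : G → ℂ) :=
    Nat.mul_pos Nat.card_pos (charDegree_pos χ)
  have hc : codeg χ = q := by
    rw [codeg, card_kerSet, hG, hq,
      show charDegree (χ : G → ℂ) * q * Nat.card K =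
        Nat.card K * charDegree (χ : G → ℂ) * q by ring, Nat.mul_div_cancel_left _ hpos]
  rw [hc, hq, mul_comm]

theorem codeg_dvd_card (χ : IrrCharacter G) : codeg χ ∣ Nat.card G := by
  obtain ⟨h1, h2⟩ := codeg_spec χ
  rw [h2, h1, mul_assoc]
  exact dvd_mul_right _ _

/-- A faithful character whose degree has full `q`-part vanishes at elements of order divisible
by `q`. -/
theorem vanish_of_full_part (χ : IrrCharacter G) {q : ℕ} (hq : q.Prime)
    (h : (Nat.card G).factorization q ≤ (charDegree (χ : G → ℂ)).factorization q) {x : G}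
    (hx : q ∣ orderOf x) : (χ : G → ℂ) x = 0 := by
  obtain ⟨d, ρ, hρi, hρ⟩ := χ.2
  have hd : d = charDegree (χ : G → ℂ) := by
    have h1 := congrFun hρ 1
    rw [Representation.char_one, Module.finrank_fin_fun, ← charDegree_cast χ.2.isCharacter'] at h1
    exact_mod_cast h1
  haveI := hρi
  rw [← hρ]
  refine vanish_of_defect_zero ρ hq (N := (Nat.card G).factorization q)
    (Nat.ordProj_dvd _ _) (Nat.pow_succ_factorization_not_dvd Nat.card_pos.ne' hq) ?_ hx
  rw [Module.finrank_fin_fun, hd]
  exact (pow_dvd_pow q h).trans (Nat.ordProj_dvd _ _)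

/-- An element of order `p` lies in the kernel or is a zero, when `p` does not divide the
codegree. -/
theorem apply_of_not_dvd_codeg (χ : IrrCharacter G) {p : ℕ} (hp : p.Prime)
    (h : ¬ p ∣ codeg χ) {x : G} (hx : orderOf x = p) :
    (χ : G → ℂ) x = (χ : G → ℂ) 1 ∨ (χ : G → ℂ) x = 0 := by
  set K := charKer χ.2.isCharacter'
  by_cases hxK : x ∈ K
  · exact Or.inl hxK
  right
  obtain ⟨χ', hval, hd, -⟩ := exists_deflate_faithful χ
  have : Fintype (G ⧸ K) := Fintype.ofFinite _
  rw [← hval]
  refine vanish_of_full_part χ' hp ?_ ?_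
  · rw [hd, (codeg_spec χ).1, Nat.factorization_mul (fun h0 => h (by rw [h0]; exact dvd_zero p))
      (charDegree_pos χ).ne', Finsupp.add_apply, Nat.factorization_eq_zero_of_not_dvd h, zero_add]
  · have h1 : orderOf (x : G ⧸ K) ∣ p := hx ▸ orderOf_map_dvd (QuotientGroup.mk' K) x
    rcases (Nat.dvd_prime hp).1 h1 with h2 | h2
    · exact absurd ((QuotientGroup.eq_one_iff x).1 (orderOf_eq_one_iff.1 h2)) hxK
    · rw [h2]

/-- **A prime divides the group order iff it divides some codegree.** -/
theorem dvd_card_iff_exists_codeg {p : ℕ} (hp : p.Prime) :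
    p ∣ Nat.card G ↔ ∃ χ : IrrCharacter G, p ∣ codeg χ := by
  have : Fact p.Prime := ⟨hp⟩
  refine ⟨fun h => ?_, fun ⟨χ, h⟩ => h.trans (codeg_dvd_card χ)⟩
  by_contra hcon
  push Not at hcon
  obtain ⟨x, hx⟩ := exists_prime_orderOf_dvd_card' p h
  have hx1 : x ≠ 1 := fun h => by
    rw [h, orderOf_one] at hx
    exact hp.one_lt.ne hx
  have hs := sum_degree_mul x
  rw [if_neg hx1] at hs
  have hre := congrArg Complex.re hs
  rw [Complex.re_sum, Complex.zero_re] at hre
  have hpos : 0 < ∑ χ : IrrCharacter G, ((χ : G → ℂ) 1 * (χ : G → ℂ) x).re := by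
    refine Finset.sum_pos' (fun χ _ => ?_) ⟨trivIrr G, Finset.mem_univ _, ?_⟩
    · rw [← charDegree_cast χ.2.isCharacter']
      rcases apply_of_not_dvd_codeg χ hp (hcon χ) hx with h1 | h1 <;> rw [h1]
      · rw [← charDegree_cast χ.2.isCharacter', ← Nat.cast_mul, Complex.natCast_re]
        positivity
      · simp
    · show (0 : ℝ) < ((1 : ℂ) * 1).re
      simp
  exact hpos.ne' hre

/-- A nontrivial group has, for every prime, a nonprincipal character of degree prime to it
when the prime divides the order. -/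
theorem exists_ne_triv_not_dvd {p : ℕ} (hp : p.Prime) (h : p ∣ Nat.card G) :
    ∃ χ : IrrCharacter G, χ ≠ trivIrr G ∧ ¬ p ∣ charDegree (χ : G → ℂ) := by
  by_contra hcon
  push Not at hcon
  have hs := sum_degree_sq (G := G)
  simp only [← charDegree_cast (IsIrrCharacter.isCharacter' (Subtype.prop _))] at hs
  have h2 : ∑ χ : IrrCharacter G, charDegree (χ : G → ℂ) ^ 2 = Nat.card G := by exact_mod_cast hs
  rw [← Finset.add_sum_erase _ _ (Finset.mem_univ (trivIrr G)), charDegree_triv, one_pow] at h2
  have h3 : p ∣ ∑ χ ∈ Finset.univ.erase (trivIrr G), charDegree (χ : G → ℂ) ^ 2 :=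
    Finset.dvd_sum fun χ hχ => dvd_pow (hcon χ (Finset.mem_erase.1 hχ).1) two_ne_zero
  rw [← h2] at h
  exact hp.not_dvd_one ((Nat.dvd_add_left h3).1 h)

/-- A character containing an irreducible character of at least its degree equals it. -/
theorem eq_of_inner_ne_zero_of_degree_le {ψ : G → ℂ} (hψ : IsCharacter G ψ) (χ : IrrCharacter G)
    (hne : classInner ψ (χ : G → ℂ) ≠ 0) (hle : charDegree ψ ≤ charDegree (χ : G → ℂ)) :
    ψ = (χ : G → ℂ) := by
  choose c hc using fun η : IrrCharacter G => inner_character_nat hψ η.2.isCharacter'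
  have hsum := classFunction_eq_sum ψ (isCharacter_classFunction hψ)
  have h1 := congrFun hsum 1
  simp only [Finset.sum_apply, Pi.smul_apply, smul_eq_mul, hc, ← charDegree_cast hψ,
    ← charDegree_cast (IsIrrCharacter.isCharacter' (Subtype.prop _))] at h1
  have h2 : charDegree ψ = ∑ η, c η * charDegree (η : G → ℂ) := by exact_mod_cast h1
  rw [← Finset.add_sum_erase _ _ (Finset.mem_univ χ)] at h2
  have hc1 : 1 ≤ c χ := Nat.one_le_iff_ne_zero.2 fun h => hne (by rw [hc, h, Nat.cast_zero])
  have hd := charDegree_pos χ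
  have h3 : charDegree (χ : G → ℂ) ≤ c χ * charDegree (χ : G → ℂ) := Nat.le_mul_of_pos_left _ hc1
  have hceq : c χ = 1 := by
    by_contra hne1
    have h4 : 2 * charDegree (χ : G → ℂ) ≤ c χ * charDegree (χ : G → ℂ) :=
      Nat.mul_le_mul_right _ (by omega)
    omega
  have h5 : ∑ η ∈ Finset.univ.erase χ, c η * charDegree (η : G → ℂ) = 0 := by omega
  have hz : ∀ η, η ≠ χ → c η = 0 := fun η hη => by
    rcases mul_eq_zero.1 (Finset.sum_eq_zero_iff.1 h5 η
      (Finset.mem_erase.2 ⟨hη, Finset.mem_univ _⟩)) with h6 | h6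
    · exact h6
    · exact absurd h6 (charDegree_pos η).ne'
  rw [hsum, Finset.sum_eq_single χ (fun η _ hη => by rw [hc, hz η hη, Nat.cast_zero, zero_smul])
    (fun h => absurd (Finset.mem_univ χ) h), hc, hceq, Nat.cast_one, one_smul]

end Basic

section Structure

variable {G : Type u} [Group G] [Fintype G]

/-- **A faithful irreducible character of prime codegree**: the group has a self-centralizing
normal subgroup of that order. -/
theorem codeg_prime_structure (χ : IrrCharacter G)
    (hfaith : ∀ g : G, (χ : G → ℂ) g = (χ : G → ℂ) 1 → g = 1) {p : ℕ} [hpf : Fact p.Prime]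
    (hcod : Nat.card G = p * charDegree (χ : G → ℂ)) :
    ∃ P : Sylow p G, (P : Subgroup G).Normal ∧ Nat.card P = p ∧
      Subgroup.centralizer ((P : Subgroup G) : Set G) = (P : Subgroup G) := by
  set d := charDegree (χ : G → ℂ) with hd
  have hdpos : 0 < d := charDegree_pos χ
  have hχc : IsCharacter G (χ : G → ℂ) := χ.2.isCharacter'
  have hd1 : (χ : G → ℂ) 1 = d := (charDegree_cast hχc).symm
  have hdp : d < p := by
    have hne : χ ≠ trivIrr G := by
      intro h
      have : ∀ g : G, g = 1 := fun g => hfaith g (by rw [h]; rfl)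
      have hc : Nat.card G = 1 := Nat.card_eq_one_iff_unique.2
        ⟨⟨fun a b => by rw [this a, this b]⟩, ⟨1⟩⟩
      rw [hc] at hcod
      exact hpf.out.one_lt.ne' (Nat.eq_one_of_mul_eq_one_right hcod.symm)
    have hs := sum_degree_sq (G := G)
    simp only [← charDegree_cast (IsIrrCharacter.isCharacter' (Subtype.prop _))] at hs
    have h2 : ∑ η : IrrCharacter G, charDegree (η : G → ℂ) ^ 2 = Nat.card G := by
      exact_mod_cast hs
    rw [← Finset.add_sum_erase _ _ (Finset.mem_univ χ), ← hd, hcod] at h2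
    have h3 := Finset.single_le_sum (s := Finset.univ.erase χ)
      (f := fun η : IrrCharacter G => charDegree (η : G → ℂ) ^ 2)
      (fun _ _ => Nat.zero_le _) (Finset.mem_erase.2 ⟨hne.symm, Finset.mem_univ _⟩)
    rw [charDegree_triv, one_pow] at h3
    by_contra hcon
    have h4 : p * d ≤ d * d := Nat.mul_le_mul_right _ (not_lt.1 hcon)
    rw [sq] at h2
    omega
  have hpd : ¬ p ∣ d := Nat.not_dvd_of_pos_of_lt hdpos hdp
  have hfac : (Nat.card G).factorization p = 1 := by
    rw [hcod, Nat.factorization_mul hpf.out.ne_zero hdpos.ne', Finsupp.add_apply,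
      hpf.out.factorization_self, Nat.factorization_eq_zero_of_not_dvd hpd]
  obtain ⟨P⟩ := (inferInstance : Nonempty (Sylow p G))
  have hP : Nat.card P = p := by rw [Sylow.card_eq_multiplicity, hfac, pow_one]
  have hidx : (P : Subgroup G).index = d := by
    have h := Subgroup.index_mul_card (P : Subgroup G)
    rw [hP, hcod, mul_comm p d] at h
    exact Nat.eq_of_mul_eq_mul_right hpf.out.pos h
  have hn1 : Nat.card (Sylow p G) = 1 := by
    have h1 : Nat.card (Sylow p G) ∣ d := hidx ▸ P.card_dvd_index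
    have h2 := card_sylow_modEq_one p G
    have h3 := Nat.le_of_dvd hdpos h1
    rw [Nat.ModEq, Nat.one_mod_eq_one.2 hpf.out.ne_one, Nat.mod_eq_of_lt (by omega)] at h2
    exact h2
  haveI : Subsingleton (Sylow p G) := (Nat.card_eq_one_iff_unique.1 hn1).1
  have hPn : (P : Subgroup G).Normal := P.normal_of_subsingleton
  refine ⟨P, hPn, hP, ?_⟩
  obtain ⟨e, he⟩ : ∃ e, (Subgroup.centralizer ((P : Subgroup G) : Set G)).relIndex
      (Subgroup.normalizer ((P : Subgroup G) : Set G)) = e := ⟨_, rfl⟩
  obtain ⟨D⟩ := exists_cycData P hP he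
  -- values outside P vanish
  have hvan : ∀ g : G, g ∉ (P : Subgroup G) → (χ : G → ℂ) g = 0 := by
    intro g hg
    obtain ⟨q, hq, hqg, hqp⟩ : ∃ q, q.Prime ∧ q ∣ orderOf g ∧ q ≠ p := by
      by_contra hcon
      push Not at hcon
      have h1 := Nat.eq_prime_pow_of_unique_prime_dvd (orderOf_pos g).ne'
        (fun {q} hq hd => hcon q hq hd)
      obtain ⟨Q, hQ⟩ :=
        (IsPGroup.of_card (p := p) (G := Subgroup.zpowers g)
          (by rw [Nat.card_zpowers]; exact h1)).exists_le_sylow
      rw [Subsingleton.elim Q P] at hQ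
      exact hg (hQ (Subgroup.mem_zpowers g))
    refine vanish_of_full_part χ hq (le_of_eq ?_) hqg
    rw [hcod, Nat.factorization_mul hpf.out.ne_zero hdpos.ne', Finsupp.add_apply,
      Nat.factorization_eq_zero_of_not_dvd
        (fun h => hqp ((Nat.prime_dvd_prime_iff_eq hq hpf.out).1 h)), zero_add, hd]
  obtain ⟨ψ, hψp, hψ1⟩ := exists_zeta p
  obtain ⟨m, hm⟩ := D.exists_mult hψ1 χ
  set η : ZMod p → ℂ := fun b => ∑ c, (m c : ℂ) * ψ (c * b)
  have hη : ∀ b : ZMod p, (χ : G → ℂ) (D.u ^ b.val) = η b := hm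
  have hmsum : ∑ c, m c = d := by
    have h := hη 0
    rw [ZMod.val_zero, pow_zero, hd1] at h
    simp only [η, mul_zero, AddChar.map_zero_eq_one, mul_one] at h
    exact_mod_cast h.symm
  -- the norm gives multiplicities at most one
  have hsq : ∑ c, m c * m c = d := by
    have hbij : ∑ g : G, (χ : G → ℂ) g * conj ((χ : G → ℂ) g) =
        ∑ b : ZMod p, η b * conj (η b) := by
      refine (Finset.sum_bij_ne_zero (fun b _ _ => D.u ^ b.val) (fun _ _ _ => Finset.mem_univ _)
        (fun a _ _ b _ _ h => ?_) (fun g _ hg => ?_) (fun b _ _ => by rw [hη])).symm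
      · have hup := D.hup
        refine ZMod.val_injective _ (pow_injOn_Iio_orderOf ?_ ?_ h) <;>
          rw [Set.mem_Iio, hup] <;> exact ZMod.val_lt _
      · have hgP : g ∈ (P : Subgroup G) := by
          by_contra hgP
          exact hg (by rw [hvan g hgP, zero_mul])
        rw [D.hu, ← mem_powers_iff_mem_zpowers, Submonoid.mem_powers_iff] at hgP
        obtain ⟨i, rfl⟩ := hgP
        have hm' := pow_mod_orderOf D.u i
        rw [D.hup] at hm'
        refine ⟨(i : ZMod p), Finset.mem_univ _, ?_, by rw [ZMod.val_natCast, hm']⟩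
        rwa [← hη, ZMod.val_natCast, hm']
    have h1 := sum_char_mul hψp m 1
    simp only [Units.val_one, one_mul] at h1
    have h2 : ∑ g : G, (χ : G → ℂ) g * conj ((χ : G → ℂ) g) = (Nat.card G : ℂ) := by
      have h := irr_inner_self χ.2
      rw [classInner, inv_mul_eq_one₀ (natCard_ne_zero G)] at h
      exact h.symm
    rw [← hbij, h2, hcod, Nat.cast_mul] at h1
    have h3 : ((∑ c, m c * m c : ℕ) : ℂ) = (d : ℂ) := by
      push_cast
      exact (mul_left_cancel₀ (Nat.cast_ne_zero.2 hpf.out.ne_zero) h1).symm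
    exact_mod_cast h3
  -- the K-invariant part of each eigenspace
  set h := Nat.card D.K
  have hh0 : (h : ℂ) ≠ 0 := natCard_ne_zero D.K
  have hdiv : ∀ c, h ∣ m c := by
    intro c
    obtain ⟨n, ρ, -, hρ⟩ := χ.2
    set E : Module.End ℂ (Fin n → ℂ) :=
      (p : ℂ)⁻¹ • ∑ b : ZMod p, ψ (-(c * b)) • ρ (D.u ^ b.val)
    set F : Module.End ℂ (Fin n → ℂ) := (h : ℂ)⁻¹ • ∑ k : D.K, ρ (k : G)
    have hadd : ∀ a b : ZMod p, D.u ^ (a + b).val = D.u ^ a.val * D.u ^ b.val := by
      intro a b
      have hm' := pow_mod_orderOf D.u (a.val + b.val)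
      rw [D.hup] at hm'
      rw [ZMod.val_add, hm', pow_add]
    have hp0 : (p : ℂ) ≠ 0 := Nat.cast_ne_zero.2 hpf.out.ne_zero
    have hE : E * E = E := by
      have h1 : ∀ a : ZMod p, (ψ (-(c * a)) • ρ (D.u ^ a.val)) *
          ∑ b : ZMod p, ψ (-(c * b)) • ρ (D.u ^ b.val) =
          ∑ b : ZMod p, ψ (-(c * b)) • ρ (D.u ^ b.val) := by
        intro a
        rw [Finset.mul_sum]
        refine Fintype.sum_equiv (Equiv.addLeft a) _ _ fun b => ?_
        rw [Equiv.coe_addLeft, smul_mul_smul_comm, ← map_mul ρ, ← hadd, ← AddChar.map_add_eq_mul,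
          mul_add, neg_add]
      simp only [E, smul_mul_smul_comm, Finset.sum_mul, h1, Finset.sum_const, Finset.card_univ,
        ZMod.card, ← Nat.cast_smul_eq_nsmul ℂ, smul_smul]
      congr 1
      field_simp
    have hF : F * F = F := by
      have h1 : ∀ a : D.K, ρ (a : G) * ∑ k : D.K, ρ (k : G) = ∑ k : D.K, ρ (k : G) := by
        intro a
        rw [Finset.mul_sum]
        refine Fintype.sum_equiv (Equiv.mulLeft a) _ _ fun k => ?_
        simp [map_mul]
      simp only [F, smul_mul_smul_comm, Finset.sum_mul, h1, Finset.sum_const, Finset.card_univ,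
        ← Nat.card_eq_fintype_card, ← Nat.cast_smul_eq_nsmul ℂ, smul_smul]
      congr 1
      field_simp
      rfl
    have hKu : ∀ k : D.K, Commute D.u (k : G) := fun k =>
      Subgroup.mem_centralizer_iff.1 (D.hKC k.2) D.u (D.hu ▸ Subgroup.mem_zpowers D.u)
    have hcomm : Commute E F := by
      refine Commute.smul_left (Commute.smul_right ?_ _) _
      refine Commute.sum_left _ _ _ fun b _ => Commute.sum_right _ _ _ fun k _ => ?_
      exact ((((hKu k).pow_left b.val).map ρ)).smul_left _
    have hidem : IsIdempotentElem (E * F) := by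
      show E * F * (E * F) = E * F
      rw [hcomm.symm.mul_mul_mul_comm, hE, hF]
    have htr := LinearMap.IsProj.trace (LinearMap.IsIdempotentElem.isProj_range _ hidem)
    have hcalc : LinearMap.trace ℂ _ (E * F) = (m c : ℂ) / h := by
      simp only [E, F, smul_mul_smul_comm, Finset.sum_mul, Finset.mul_sum, smul_mul_assoc,
        mul_smul_comm, Finset.smul_sum, map_smul, map_sum, ← map_mul]
      have h1 : ∀ (b : ZMod p) (k : D.K),
          LinearMap.trace ℂ (Fin n → ℂ) (ρ (D.u ^ b.val * (k : G))) =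
            if k = 1 then η b else 0 := by
        intro b k
        show ρ.character _ = _
        rw [hρ]
        split_ifs with hk
        · rw [hk, Subgroup.coe_one, mul_one, hη]
        · refine hvan _ fun hmem => hk (Subtype.ext ?_)
          have hkP : (k : G) ∈ (P : Subgroup G) := by
            have := mul_mem (inv_mem (pow_mem D.u_mem b.val)) hmem
            rwa [inv_mul_cancel_left] at this
          have ho : orderOf (k : G) ∣ p := by
            have := Subgroup.orderOf_dvd_natCard _ hkP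
            rwa [hP] at this
          exact orderOf_eq_one_iff.1 (Nat.eq_one_of_dvd_coprimes
            (hpf.out.coprime_iff_not_dvd.2 D.hKp) ho (Subgroup.orderOf_dvd_natCard _ k.2))
      simp only [h1, smul_eq_mul, mul_ite, mul_zero, Finset.sum_ite_eq', Finset.mem_univ, if_true]
      rw [Finset.sum_comm]
      simp only [Finset.sum_ite_eq', Finset.mem_univ, if_true, ← Finset.mul_sum]
      have h2 : ∑ b : ZMod p, ψ (-(c * b)) * η b = (p : ℂ) * m c := by
        simp only [η, Finset.mul_sum, mul_left_comm (ψ _), ← AddChar.map_add_eq_mul]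
        rw [Finset.sum_comm]
        simp only [← Finset.mul_sum]
        have h3 : ∀ x : ZMod p, ∑ b : ZMod p, ψ (-(c * b) + x * b) =
            if x = c then (p : ℂ) else 0 := by
          intro x
          simp_rw [show ∀ b : ZMod p, -(c * b) + x * b = b * (x - c) from fun b => by ring]
          rw [AddChar.sum_mulShift _ hψp]
          simp [sub_eq_zero, ZMod.card]
        simp [h3, mul_comm]
      rw [h2]
      field_simp
    rw [hcalc, div_eq_iff hh0, ← Nat.cast_mul] at htr
    exact ⟨_, (Nat.cast_injective htr).trans (mul_comm _ _)⟩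
  have hm1 : ∀ c, m c ≤ 1 := by
    intro c
    by_contra hc
    have h1 : ∑ x, m x < ∑ x, m x * m x := by
      refine Finset.sum_lt_sum (fun x _ => Nat.le_mul_self _) ⟨c, Finset.mem_univ _, ?_⟩
      exact lt_mul_of_one_lt_left (by omega) (by omega)
    omega
  obtain ⟨c, hc⟩ : ∃ c, m c ≠ 0 := by
    by_contra hcon
    push Not at hcon
    have : ∑ x, m x = 0 := Finset.sum_eq_zero fun x _ => hcon x
    omega
  have hh1 : h = 1 := Nat.dvd_one.1 (by
    have h1 := hdiv c
    rwa [show m c = 1 by have := hm1 c; omega] at h1)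
  refine le_antisymm (fun g hg => ?_) fun g hg => ?_
  · obtain ⟨z, hz, k, hk, rfl⟩ := D.hKdec g hg
    rw [Subgroup.card_eq_one.1 hh1, Subgroup.mem_bot] at hk
    rw [hk, mul_one]
    exact hz
  · rw [Subgroup.mem_centralizer_iff]
    intro w hw
    rw [SetLike.mem_coe, D.hu] at hw
    rw [D.hu] at hg
    obtain ⟨i, rfl⟩ := hw
    obtain ⟨j, rfl⟩ := hg
    exact (((Commute.refl D.u).zpow_right j).zpow_left i).eq

/-- With a self-centralizing normal subgroup of prime order the derived subgroup lies in it. -/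
theorem commutator_le_selfcent {p : ℕ} [hpf : Fact p.Prime] (P : Sylow p G)
    [hPn : (P : Subgroup G).Normal] (hP : Nat.card P = p)
    (hC : Subgroup.centralizer ((P : Subgroup G) : Set G) = (P : Subgroup G)) :
    commutator G ≤ (P : Subgroup G) := by
  obtain ⟨e, he⟩ : ∃ e, (Subgroup.centralizer ((P : Subgroup G) : Set G)).relIndex
      (Subgroup.normalizer ((P : Subgroup G) : Set G)) = e := ⟨_, rfl⟩
  obtain ⟨D⟩ := exists_cycData P hP he
  have hN : Subgroup.normalizer ((P : Subgroup G) : Set G) = ⊤ :=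
    Subgroup.normalizer_eq_top_iff.2 hPn
  let F : G →* (ZMod p)ˣ :=
    { toFun := fun x => D.r x
      map_one' := (D.hrC 1 (one_mem _)).2 (one_mem _)
      map_mul' := fun x y => D.hrmul _ (by rw [hN]; exact Subgroup.mem_top _) _
        (by rw [hN]; exact Subgroup.mem_top _) }
  intro g hg
  have h1 : F g = 1 := Abelianization.commutator_subset_ker F hg
  rw [← hC]
  exact (D.hrC g (by rw [hN]; exact Subgroup.mem_top _)).1 h1

end Structure

end CfsgLib.Block
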