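import Cfsg.Agent.Lib.CharGallagher
import Cfsg.Agent.Lib.BlockRegular

/-!
# Characters of degree prime to the index of a normal Hall subgroup
-/

set_option autoImplicit false
set_option linter.style.haveILetI false
set_option linter.unusedSectionVars false

namespace CfsgLib.Block

open Cfsg CfsgLib.Char
open scoped ComplexConjugate Classical

universe u

variable {G : Type u} [Group G] [Finite G]

/-- Invariance of a character of a normal subgroup. -/
def InvNormal (K : Subgroup G) [hK : K.Normal] (θ : K → ℂ) : Prop :=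
  ∀ (g : G) (k : K), θ ⟨g * k * g⁻¹, hK.conj_mem k k.2 g⟩ = θ k

theorem detOrder_dvd_card {θ : G → ℂ} (hθ : IsCharacter G θ) : detOrder θ ∣ Nat.card G := by
  obtain ⟨f, hf⟩ := exists_hom_of_degree_one (detChar_isLinear hθ).1 (detChar_isLinear hθ).2
  rw [detOrder, hf, orderOf_homFn]
  refine orderOf_dvd_of_pow_eq_one (MonoidHom.ext fun g => ?_)
  rw [homPow_apply, ← map_pow, pow_card_eq_one', map_one, MonoidHom.one_apply]

/-- Characters of degree prime to the index of a normal Hall subgroup. -/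
theorem card_coprime_degree (K : Subgroup G) [hK : K.Normal]
    (hcop : (Nat.card K).Coprime K.index) :
    Nat.card {χ : IrrCharacter G // (charDegree (χ : G → ℂ)).Coprime K.index} =
      Nat.card {θ : IrrCharacter K // InvNormal K (θ : K → ℂ)} * Nat.card (G ⧸ K →* ℂˣ) := by
  haveI := Fintype.ofFinite G
  haveI := Fintype.ofFinite K
  have hcanon : ∀ θ : {θ : IrrCharacter K // InvNormal K (θ : K → ℂ)},
      ∃ χ : G → ℂ, IsIrrCharacter G χ ∧ ∀ k : K, χ k = (θ.1 : K → ℂ) k := by
    intro θ
    have hco : Nat.Coprime K.index (detOrder (θ.1 : K → ℂ) * charDegree (θ.1 : K → ℂ)) :=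
      Nat.Coprime.mul_right
        (hcop.symm.coprime_dvd_right (detOrder_dvd_card θ.1.2.isCharacter'))
        (hcop.symm.coprime_dvd_right (charDegree_dvd_card θ.1))
    obtain ⟨χ, ⟨h1, h2, -⟩, -⟩ := canonical_extension K θ.1.2 θ.2
      (charDegree_cast θ.1.2.isCharacter').symm hco
    exact ⟨χ, h1, h2⟩
  choose E hE hEres using hcanon
  have hlam : ∀ (l : G ⧸ K →* ℂˣ) (k : K) (g : G),
      (l (QuotientGroup.mk ((k : G) * g)) : ℂ) = (l (QuotientGroup.mk g) : ℂ) := fun l k g => by
    rw [QuotientGroup.mk_mul, (QuotientGroup.eq_one_iff (k : G)).2 k.2, one_mul]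
  have hlc : ∀ l : G ⧸ K →* ℂˣ, IsCharacter G (fun g : G => (l (QuotientGroup.mk g) : ℂ)) :=
    fun l => isCharacter_hom (l.comp (QuotientGroup.mk' K))
  have hprod : ∀ θ (l : G ⧸ K →* ℂˣ),
      IsIrrCharacter G (fun g => (l (QuotientGroup.mk g) : ℂ) * E θ g) := by
    intro θ l
    have hi : IsIrrCharacter K (fun k : K => E θ k) := by
      rw [show (fun k : K => E θ k) = (θ.1 : K → ℂ) from funext (hEres θ)]
      exact θ.1.2
    refine isIrr_of_inner_self_one (isCharacter_mul (hlc l) (hE θ).isCharacter') ?_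
    have h := inner_mul_ext K (hE θ) hi (β := fun g : G => (l (QuotientGroup.mk g) : ℂ))
      (γ := fun g : G => (l (QuotientGroup.mk g) : ℂ)) (hlam l) (hlam l)
    exact h.trans (irr_inner_self (isIrr_of_degree_one (hlc l) (by simp)))
  have hdeg : ∀ θ (l : G ⧸ K →* ℂˣ),
      (charDegree (fun g => (l (QuotientGroup.mk g) : ℂ) * E θ g)).Coprime K.index := by
    intro θ l
    have h1 : charDegree (fun g => (l (QuotientGroup.mk g) : ℂ) * E θ g) =
        charDegree (θ.1 : K → ℂ) := by
      have h := charDegree_cast (hprod θ l).isCharacter'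
      rw [QuotientGroup.mk_one, map_one, Units.val_one, one_mul, show (1 : G) = ((1 : K) : G) from rfl,
        hEres, ← charDegree_cast θ.1.2.isCharacter'] at h
      exact_mod_cast h
    rw [h1]
    exact hcop.coprime_dvd_left (charDegree_dvd_card θ.1)
  rw [← Nat.card_prod]
  refine (Nat.card_eq_of_bijective
    (fun x : {θ : IrrCharacter K // InvNormal K (θ : K → ℂ)} × (G ⧸ K →* ℂˣ) =>
      (⟨⟨_, hprod x.1 x.2⟩, hdeg x.1 x.2⟩ :
        {χ : IrrCharacter G // (charDegree (χ : G → ℂ)).Coprime K.index})) ⟨?_, ?_⟩).symm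
  · rintro ⟨θ, l⟩ ⟨θ', l'⟩ h
    have e := congrArg (fun χ : {χ : IrrCharacter G // (charDegree (χ : G → ℂ)).Coprime K.index} =>
      (χ.1 : G → ℂ)) h
    simp only at e
    have hθ : θ = θ' := by
      refine Subtype.ext (Subtype.ext (funext fun k => ?_))
      have hk := congrFun e (k : G)
      simp only [(QuotientGroup.eq_one_iff (k : G)).2 k.2, map_one, Units.val_one, one_mul,
        hEres] at hk
      exact hk
    subst hθ
    have hi : IsIrrCharacter K (fun k : K => E θ k) := by
      rw [show (fun k : K => E θ k) = (θ.1 : K → ℂ) from funext (hEres θ)]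
      exact θ.1.2
    have hrec : ∀ (m : G ⧸ K →* ℂˣ) (g : G),
        cosetAvg K (fun g => (m (QuotientGroup.mk g) : ℂ) * E θ g) (E θ) g =
          (m (QuotientGroup.mk g) : ℂ) := by
      intro m g
      have h1 := congrFun (cosetAvg_self K (hE θ) hi) g
      rw [cosetAvg_eq] at h1 ⊢
      simp only [hlam, mul_assoc, ← Finset.mul_sum]
      rw [mul_left_comm, h1, mul_one]
    refine Prod.ext rfl (MonoidHom.ext fun x => Units.ext ?_)
    induction x using QuotientGroup.induction_on with
    | H g => rw [← hrec l g, e, hrec l' g]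
  · rintro ⟨χ, hχ⟩
    obtain ⟨θ, hθ, hcon⟩ := exists_constituent
      (CfsgLib.Char.isCharacter_restrict χ.2.isCharacter' K) (fun h0 => irr_one_ne_zero χ (by
        simpa using congrFun h0 (1 : K)))
    obtain ⟨m, hm⟩ := inner_character_nat
      (CfsgLib.Char.isCharacter_restrict χ.2.isCharacter' K) hθ.isCharacter'
    have hd := clifford_degree χ.2 hθ hcon
    rw [hm, ← charDegree_cast χ.2.isCharacter', ← charDegree_cast hθ.isCharacter'] at hd
    have hidx : (inertia θ).index ∣ K.index :=
      Subgroup.index_dvd_of_le (le_inertia (isCharacter_classFunction hθ.isCharacter'))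
    have hidx1 : (inertia θ).index = 1 := Nat.eq_one_of_dvd_coprimes hχ
      ⟨m * charDegree θ, by rw [← mul_assoc, mul_comm (inertia θ).index]; exact_mod_cast hd⟩ hidx
    have hinv : InvNormal K θ := fun g k => by
      have hg : g ∈ inertia θ := by rw [Subgroup.index_eq_one.1 hidx1]; exact Subgroup.mem_top g
      exact congrFun (mem_inertia.1 hg) k
    obtain ⟨θ', hθ'⟩ : ∃ θ' : {θ : IrrCharacter K // InvNormal K (θ : K → ℂ)},
        (θ'.1 : K → ℂ) = θ := ⟨⟨⟨θ, hθ⟩, hinv⟩, rfl⟩
    have hi : IsIrrCharacter K (fun k : K => E θ' k) := by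
      rw [show (fun k : K => E θ' k) = (θ'.1 : K → ℂ) from funext (hEres θ')]
      exact θ'.1.2
    obtain ⟨hβ, hmul⟩ := (gallagher K (hE θ') hi χ.2).1 (by
      rw [show (fun k : K => E θ' k) = θ from hθ' ▸ funext (hEres θ')]
      exact hcon)
    set β := cosetAvg K (χ : G → ℂ) (E θ') with hβd
    have hker : ∀ k ∈ (QuotientGroup.mk' K).ker, β k = β 1 := by
      intro k hk
      rw [QuotientGroup.ker_mk'] at hk
      have h := cosetAvg_mul_coset K (χ : G → ℂ) (E θ') ⟨k, hk⟩ 1
      rw [mul_one] at h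
      exact h
    obtain ⟨β', hβ'c, hcomp, hβ'irr⟩ := exists_deflate hβ.isCharacter' (QuotientGroup.mk' K)
      (QuotientGroup.mk'_surjective K) hker
    have hβ1 : β 1 = β' 1 := by rw [← hcomp, Function.comp_apply, map_one]
    have hmul1 : (χ : G → ℂ) 1 = β 1 * E θ' 1 := (congrFun hmul 1).symm
    have hdvd : charDegree β' ∣ charDegree (χ : G → ℂ) :=
      ⟨charDegree (E θ'), by
        have h : ((charDegree (χ : G → ℂ) : ℕ) : ℂ) = ((charDegree β' * charDegree (E θ') : ℕ) : ℂ) := by
          rw [Nat.cast_mul, charDegree_cast χ.2.isCharacter', charDegree_cast hβ'c,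
            charDegree_cast (hE θ').isCharacter', hmul1, hβ1]
        exact_mod_cast h⟩
    have hdvd2 : charDegree β' ∣ K.index := by
      rw [Subgroup.index_eq_card]
      exact charDegree_dvd_card (⟨β', hβ'irr hβ⟩ : IrrCharacter (G ⧸ K))
    have hb1 : β' 1 = 1 := by
      rw [← charDegree_cast hβ'c, Nat.eq_one_of_dvd_coprimes hχ hdvd hdvd2, Nat.cast_one]
    obtain ⟨l, hl⟩ := exists_hom_of_degree_one hβ'c hb1
    refine ⟨(θ', l), Subtype.ext (Subtype.ext (funext fun g => ?_))⟩
    show (l (QuotientGroup.mk g) : ℂ) * E θ' g = (χ : G → ℂ) g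
    rw [← congrFun hmul g, Pi.mul_apply]
    congr 1
    rw [← hcomp, hl]
    rfl

end CfsgLib.Block
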