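import Cfsg.Agent.Lib.BlockSectionRank

/-!
# Counting the characters of a block by sections
-/

set_option autoImplicit false
set_option linter.style.haveILetI false
set_option linter.unusedSectionVars false

namespace CfsgLib.Block

open Cfsg CfsgLib.Char
open scoped ComplexConjugate Classical

universe u

variable {G : Type u} [Group G] [Fintype G] {p : ℕ} {M : Ideal AlgInt}

/-- A class function summed over the sections of a set of representatives of the `p`-elements. -/
theorem sum_eq_sum_sections (hp : p.Prime) {F : G → ℂ} (hF : IsClassFunction G F) (X : Finset G)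
    (hX : ∀ x ∈ X, ∃ k, orderOf x = p ^ k)
    (hrep : ∀ g : G, (∃ k, orderOf g = p ^ k) → ∃! x, x ∈ X ∧ IsConj g x) :
    ∑ g, F g = ∑ x ∈ X, ((Subgroup.centralizer ({x} : Set G)).index : ℂ) *
      ∑ y ∈ Finset.univ.filter
        (fun y : Subgroup.centralizer ({x} : Set G) => ¬ p ∣ orderOf y), F (x * y) := by
  choose π hπ using fun g : G => exists_isPPart hp g
  have hπp : ∀ g, ∃ k, orderOf (π g) = p ^ k := fun g => (hπ g).choose_spec.2.2.1
  choose r hr huniq using fun g : G => hrep (π g) (hπp g)
  set W : G → ℂ := fun z => ∑ g ∈ Finset.univ.filter (fun g => π g = z), F g with hW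
  have hπc : ∀ g z, π (z * g * z⁻¹) = z * π g * z⁻¹ := fun g z =>
    isPPart_unique hp (hπ _) (isPPart_conj (hπ g) z)
  have hWc : ∀ z t, W (t * z * t⁻¹) = W z := by
    intro z t
    refine Finset.sum_bij' (fun g _ => t⁻¹ * g * t) (fun g _ => t * g * t⁻¹) ?_ ?_ ?_ ?_ ?_
    · intro g hg
      simp only [Finset.mem_filter, Finset.mem_univ, true_and] at hg ⊢
      have := hπc g t⁻¹
      rw [inv_inv] at this
      rw [this, hg]
      group
    · intro g hg
      simp only [Finset.mem_filter, Finset.mem_univ, true_and] at hg ⊢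
      rw [hπc, hg]
    · intro g _
      show t * (t⁻¹ * g * t) * t⁻¹ = g
      group
    · intro g _
      show t⁻¹ * (t * g * t⁻¹) * t = g
      group
    · intro g _
      conv_rhs => rw [← hF (t⁻¹ * g * t) t]
      show F g = _
      congr 1
      group
  have hWy : ∀ x, (∃ k, orderOf x = p ^ k) → W x = ∑ y ∈ Finset.univ.filter
      (fun y : Subgroup.centralizer ({x} : Set G) => ¬ p ∣ orderOf y), F (x * y) := by
    intro x hx
    refine (Finset.sum_nbij (fun y : Subgroup.centralizer ({x} : Set G) => x * (y : G)) ?_ ?_ ?_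
      fun y _ => rfl).symm
    · intro y hy
      simp only [Finset.mem_filter, Finset.mem_univ, true_and] at hy ⊢
      exact isPPart_unique hp (hπ _) ⟨(y : G), rfl,
        (Subgroup.mem_centralizer_singleton_iff.1 y.2).symm, hx, by rwa [Subgroup.orderOf_coe]⟩
    · intro y _ y' _ h
      exact Subtype.ext (mul_left_cancel h)
    · intro g hg
      simp only [Finset.coe_filter, Finset.mem_univ, true_and, Set.mem_ofPred_eq] at hg
      obtain ⟨w, hw, hc, -, hreg⟩ := hπ g
      rw [hg] at hw hc
      exact ⟨⟨w, Subgroup.mem_centralizer_singleton_iff.2 hc.eq.symm⟩,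
        by simpa using hreg, hw⟩
  have hsupp : ∀ z, (¬ ∃ k, orderOf z = p ^ k) → W z = 0 := fun z hz =>
    Finset.sum_eq_zero fun g hg => absurd ((Finset.mem_filter.1 hg).2 ▸ hπp g) hz
  have h1 : ∑ g, F g = ∑ z, W z := (Finset.sum_fiberwise Finset.univ π F).symm
  rw [h1, ← Finset.sum_filter_add_sum_filter_not Finset.univ (fun z => ∃ k, orderOf z = p ^ k),
    Finset.sum_eq_zero (s := Finset.univ.filter fun z : G => ¬ ∃ k, orderOf z = p ^ k)
      fun z hz => hsupp z (Finset.mem_filter.1 hz).2, add_zero]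
  have hcls : Finset.univ.filter (fun z : G => ∃ k, orderOf z = p ^ k) =
      X.biUnion fun x => Finset.univ.filter fun z => IsConj z x := by
    ext z
    simp only [Finset.mem_filter, Finset.mem_univ, true_and, Finset.mem_biUnion]
    constructor
    · intro hz
      obtain ⟨x, hx, -⟩ := hrep z hz
      exact ⟨x, hx⟩
    · rintro ⟨x, hx, hc⟩
      obtain ⟨c, rfl⟩ := isConj_iff.1 hc
      obtain ⟨k, hk⟩ := hX _ hx
      rw [orderOf_conj_eq] at hk
      exact ⟨k, hk⟩
  rw [hcls, Finset.sum_biUnion]
  · refine Finset.sum_congr rfl fun x hx => ?_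
    have hconst : ∀ z ∈ Finset.univ.filter (fun z => IsConj z x), W z = W x := by
      intro z hz
      obtain ⟨c, rfl⟩ := isConj_iff.1 (Finset.mem_filter.1 hz).2
      rw [hWc]
    rw [Finset.sum_congr rfl hconst, Finset.sum_const, nsmul_eq_mul, hWy x (hX x hx)]
    congr 1
    norm_cast
    have h2 := sum_classInd_mul (f := fun _ : G => (1 : ℂ)) (fun _ _ => rfl) x
    simp only [classInd, mul_one] at h2
    rw [Finset.sum_boole] at h2
    rw [show Finset.univ.filter (fun z => IsConj z x) = Finset.univ.filter (fun z => IsConj x z) from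
      Finset.filter_congr fun z _ => ⟨IsConj.symm, IsConj.symm⟩]
    exact_mod_cast h2
  · intro x hx y hy hne
    refine Finset.disjoint_left.2 fun z h h' => hne ?_
    obtain ⟨x₀, -, hu⟩ := hrep z (by
      obtain ⟨c, rfl⟩ := isConj_iff.1 (Finset.mem_filter.1 h).2
      obtain ⟨k, hk⟩ := hX _ (Finset.mem_coe.1 hx)
      rw [orderOf_conj_eq] at hk
      exact ⟨k, hk⟩)
    exact (hu x ⟨hx, (Finset.mem_filter.1 h).2⟩).trans (hu y ⟨hy, (Finset.mem_filter.1 h').2⟩).symm

/-- A sum over the set of a section, block by block. -/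
theorem sum_secSet_eq (hM : IsPModular p M) (u : G) (B : Set (IrrCharacter G))
    (f : IrrCharacter (Subgroup.centralizer ({u} : Set G)) → ℂ) :
    ∑ ξ, indVal (secSet M u B) ξ * f ξ =
      ∑ᶠ b ∈ {b : Set (IrrCharacter (Subgroup.centralizer ({u} : Set G))) |
        IsInducedBlock M (Subgroup.centralizer ({u} : Set G)) b B}, ∑ ξ, indVal b ξ * f ξ := by
  rw [finsum_mem_eq_sum_of_subset (t := (allBlocks (Subgroup.centralizer ({u} : Set G)) M).filter
    fun b => IsInducedBlock M (Subgroup.centralizer ({u} : Set G)) b B) _ ?_ ?_]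
  · rw [Finset.sum_comm]
    refine Finset.sum_congr rfl fun ξ _ => ?_
    rw [← Finset.sum_mul]
    congr 1
    by_cases h : ξ ∈ secSet M u B
    · rw [indVal, if_pos h, Finset.sum_eq_single (blockOf M
        (ξ : Subgroup.centralizer ({u} : Set G) → ℂ))]
      · rw [indVal, if_pos (mem_blockOf_self hM ξ)]
      · intro b hb hne
        simp only [Finset.mem_filter, mem_allBlocks] at hb
        rw [indVal, if_neg fun h' => hne (isPBlock_eq_blockOf hM hb.1 h')]
      · intro hn
        exact absurd (Finset.mem_filter.2 ⟨(mem_allBlocks).2 (isPBlock_blockOf ξ), h⟩) hn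
    · rw [indVal, if_neg h, Finset.sum_eq_zero]
      intro b hb
      simp only [Finset.mem_filter, mem_allBlocks] at hb
      rw [indVal, if_neg fun h' => h ?_]
      show IsInducedBlock M _ (blockOf M (ξ : Subgroup.centralizer ({u} : Set G) → ℂ)) B
      rw [← isPBlock_eq_blockOf hM hb.1 h']
      exact hb.2
  · intro b hb
    exact Finset.mem_coe.2 (Finset.mem_filter.2 ⟨(mem_allBlocks).2 hb.1.1, hb.1⟩)
  · intro b hb
    exact (Finset.mem_filter.1 hb).2

/-- **The count of a block by sections.** -/
theorem card_block_eq_sum_rank (hM : IsPModular p M) {B : Set (IrrCharacter G)} (hB : IsPBlock M B)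
    (X : Finset G) (hX : ∀ x ∈ X, ∃ k, orderOf x = p ^ k)
    (hrep : ∀ g : G, (∃ k, orderOf g = p ^ k) → ∃! x, x ∈ X ∧ IsConj g x) :
    (Nat.card B : ℂ) = ∑ x ∈ X, ∑ᶠ b ∈ {b : Set (IrrCharacter (Subgroup.centralizer ({x} : Set G))) |
      IsInducedBlock M (Subgroup.centralizer ({x} : Set G)) b B}, (blockRank p b : ℂ) := by
  set F : G → ℂ := fun g => ∑ χ, indVal B χ * ((χ : G → ℂ) g * conj ((χ : G → ℂ) g)) with hFdef
  have hF : IsClassFunction G F := fun a b => by
    simp only [hFdef]
    exact Finset.sum_congr rfl fun χ _ => by rw [irr_classFunction χ a b]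
  have h1 : (Nat.card G : ℂ) * Nat.card B = ∑ g, F g := by
    simp only [hFdef]
    rw [Finset.sum_comm]
    have h2 : ∀ χ : IrrCharacter G, ∑ g, (χ : G → ℂ) g * conj ((χ : G → ℂ) g) = Nat.card G := by
      intro χ
      have h := irr_inner_self χ.2
      unfold classInner at h
      rw [inv_mul_eq_one₀ (natCard_ne_zero G)] at h
      exact h.symm
    simp only [← Finset.mul_sum, h2, ← Finset.sum_mul]
    rw [mul_comm]
    congr 1
    rw [Nat.card_eq_fintype_card (α := B), Fintype.card_subtype, Finset.sum_congr rfl fun χ _ =>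
      show indVal B χ = if χ ∈ B then (1 : ℂ) else 0 from rfl, Finset.sum_boole]
  rw [sum_eq_sum_sections hM.1 hF X hX hrep] at h1
  refine mul_left_cancel₀ (natCard_ne_zero G) (h1.trans ?_)
  rw [Finset.mul_sum]
  refine Finset.sum_congr rfl fun x hx => ?_
  have h3 : ∑ y ∈ Finset.univ.filter
      (fun y : Subgroup.centralizer ({x} : Set G) => ¬ p ∣ orderOf y), F (x * y) =
      ∑ ξ, indVal (secSet M x B) ξ * ∑ y ∈ Finset.univ.filter
        (fun y : Subgroup.centralizer ({x} : Set G) => ¬ p ∣ orderOf y),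
        (ξ : Subgroup.centralizer ({x} : Set G) → ℂ) y *
          conj ((ξ : Subgroup.centralizer ({x} : Set G) → ℂ) y) := by
    simp only [Finset.mul_sum]
    conv_rhs => rw [Finset.sum_comm]
    refine Finset.sum_congr rfl fun y hy => ?_
    simp only [hFdef, ← mul_assoc]
    exact block_sum_section hB (hX x hx) y y (Finset.mem_filter.1 hy).2 (Finset.mem_filter.1 hy).2 hM
  rw [h3, sum_secSet_eq hM, finsum_mem_def, finsum_mem_def, finsum_eq_sum_of_fintype,
    finsum_eq_sum_of_fintype, Finset.mul_sum, Finset.mul_sum]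
  refine Finset.sum_congr rfl fun b _ => ?_
  by_cases hb : IsInducedBlock M (Subgroup.centralizer ({x} : Set G)) b B
  · simp only [Set.indicator_apply, Set.mem_ofPred_eq, if_pos hb]
    rw [← card_mul_blockRank hM hb.1,
      ← Subgroup.card_mul_index (Subgroup.centralizer ({x} : Set G)), Nat.cast_mul]
    ring
  · simp [Set.indicator_apply, hb]

end CfsgLib.Block
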