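import Cfsg.Agent.Lib.BlockPairLocal

/-!
# Transport of defect groups along isomorphisms
-/

set_option autoImplicit false

universe u

namespace CfsgLib.Block

open Cfsg CfsgLib.Char
open scoped Classical

variable {K : Type u} [Group K] [Fintype K] {K' : Type u} [Group K'] [Fintype K']
  {p : ℕ} [Fact p.Prime] {M : Ideal AlgInt}

theorem isDefectGroup_irrMap (hM : IsPModular p M) (φ : K ≃* K') {b : Set (IrrCharacter K)}
    (hb : IsPBlock M b) {D : Subgroup K} (hD : IsDefectGroup p M b D) :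
    IsDefectGroup p M (irrMap φ '' b) (D.map φ.toMonoidHom) := by
  rw [isDefectGroup_data hM hb] at hD
  obtain ⟨g, ⟨h1, h2, h3⟩, hle, hc⟩ := hD
  rw [isDefectGroup_data hM (isPBlock_irrMap φ hb)]
  refine ⟨φ g, ⟨by rwa [blockCoeff_irrMap], by rwa [blockCoeff_irrMap], ?_⟩, ?_, ?_⟩
  · rintro _ ⟨ξ, hξ, rfl⟩
    rw [centralChar_irrMap]
    exact h3 ξ hξ
  · rintro _ ⟨d, hd, rfl⟩
    rw [Subgroup.mem_centralizer_singleton_iff]
    show φ d * φ g = φ g * φ d
    rw [← map_mul, ← map_mul, Subgroup.mem_centralizer_singleton_iff.1 (hle hd)]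
  · rw [blockDefect_irrMap, ← hc]
    exact (Nat.card_congr (D.equivMapOfInjective φ.toMonoidHom φ.injective).toEquiv).symm

end CfsgLib.Block
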