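import Cfsg.Agent.Lib.BlockBrauerCorr

/-!
# The blocks of `P C(P)` under a block with defect group `P`
-/

set_option autoImplicit false
set_option linter.style.haveILetI false
set_option linter.unusedSectionVars false
set_option linter.unusedFintypeInType false

namespace CfsgLib.Block

open Cfsg CfsgLib.Char
open scoped ComplexConjugate Classical

universe u

variable {G : Type u} [Group G] [Fintype G] {p : ℕ} [Fact p.Prime] {M : Ideal AlgInt}
variable (hM : IsPModular p M) {P L : Subgroup G} (hP : IsPGroup p P)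
  (hCL : Subgroup.centralizer (P : Set G) ≤ L) (hLN : L ≤ Subgroup.normalizer (P : Set G))
  (hPL : P ≤ L)

include hM hP hCL hLN hPL in
/-- Residual idempotents of local blocks live on the centralizer. -/
theorem bFn_supp {b : Set (IrrCharacter L)} (hb : IsPBlock M b) {g : G}
    (hg : g ∉ Subgroup.centralizer (P : Set G)) : bFn hM L b g = 0 := by
  haveI := Fintype.ofFinite L
  haveI : (P.subgroupOf L).Normal := (Subgroup.normal_subgroupOf_iff_le_normalizer hPL).2 hLN
  rw [bFn_eq_ext0]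
  by_cases h : g ∈ L
  · rw [show g = ((⟨g, h⟩ : L) : G) from rfl, ext0_coe, gFn_block hM hb]
    exact cred_bIdem_eq_zero_of_notMem hM _ (hP.of_equiv (Subgroup.subgroupOfEquivOfLe hPL).symm) hb
      fun h' => hg ((mem_centralizer_subgroupOf hPL _).1 h')
  · simp [ext0, h]

include hM hP hCL hLN hPL in
/-- A block inducing `B` lies under the Brauer image of `B`. -/
theorem trc_gFn_gconv_bFn [Fintype L] {b : Set (IrrCharacter L)} {B : Set (IrrCharacter G)}
    (h : IsInducedBlock M L b B) :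
    gconv (trc P (gFn hM B)) (bFn hM L b) = bFn hM L b := by
  have hsupp : ∀ g, g ∉ L → trc P (gFn hM B) g = 0 := fun g hg => by
    rw [trc, if_neg fun h' => hg (hCL h')]
  have hval : (fun k : L => trc P (gFn hM B) k) =
      cred hM (⟨_, brSet_mem hM hP hCL hLN h.2.1⟩ : intRing (G := L) hM) := funext fun k => by
    rw [cred_brSet, gFn_block hM h.2.1]
    rfl
  rw [← ext0_restrict hsupp, bFn_eq_ext0, ← ext0_gconv, gFn_block hM h.1, hval, ← cred_mul_eq_gconv]
  congr 2
  apply Subtype.ext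
  funext ξ
  show indVal (brSet hM hP hCL hLN h.2.1) ξ * indVal b ξ = indVal b ξ
  by_cases hξ : ξ ∈ b
  · have : ξ ∈ brSet hM hP hCL hLN h.2.1 := (mem_brSet_iff hM hP hCL hLN hPL h.2.1 ξ).2 (by
      rw [← isPBlock_eq_blockOf hM h.1 hξ]; exact h)
    simp [indVal, this, hξ]
  · simp [indVal, hξ]

include hM hP hCL hLN hPL in
/-- The local idempotents under a block with defect group `P` form one orbit of the normalizer. -/
theorem exists_conj_of_induced [Fintype L] (hLn : ∀ x ∈ Subgroup.normalizer (P : Set G), ∀ g, g ∈ L ↔ x⁻¹ * g * x ∈ L)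
    {B : Set (IrrCharacter G)} (hD : IsDefectGroup p M B P) {b b' : Set (IrrCharacter L)}
    (h : IsInducedBlock M L b B) (h' : IsInducedBlock M L b' B) :
    ∃ x ∈ Subgroup.normalizer (P : Set G), b' = conjSet L L x b := by
  obtain ⟨N, hN⟩ : ∃ N : Subgroup G, N = Subgroup.normalizer (P : Set G) := ⟨_, rfl⟩
  rw [← hN] at hLn ⊢
  have hPN : P ≤ N := hN ▸ Subgroup.le_normalizer
  have hCN : Subgroup.centralizer (P : Set G) ≤ N := hN ▸ Subgroup.centralizer_le_normalizer (P : Set G)
  haveI : (P.subgroupOf N).Normal := (Subgroup.normal_subgroupOf_iff_le_normalizer hPN).2 hN.le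
  have hP' : IsPGroup p (P.subgroupOf N) := hP.of_equiv (Subgroup.subgroupOfEquivOfLe hPN).symm
  set ψ := trc P (gFn hM B) with hψ
  obtain ⟨β, ⟨hβ, -, hβag⟩, -⟩ := brauer_corr_down hM hP hCN hN.le hPN hN h.2.1 hD
  have hψN : ext0 N (gFn hM β) = ψ := by
    funext g
    by_cases hg : g ∈ N
    · rw [show g = ((⟨g, hg⟩ : N) : G) from rfl, ext0_coe, hψ, trc]
      split_ifs with hC
      · exact (hβag _ hC).symm
      · rw [gFn_block hM hβ]
        exact cred_bIdem_eq_zero_of_notMem hM _ hP' hβ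
          fun h' => hC ((mem_centralizer_subgroupOf hPN _).1 h')
    · rw [hψ, trc, if_neg fun h' => hg (hCN h')]
      simp [ext0, hg]
  set Orb := (Finset.univ.filter (fun x : G => x ∈ N)).image (fun x => cnj x (bFn hM L b)) with hOrb
  have hblk : ∀ γ ∈ Orb, IsBlockFn hM L γ := fun γ hγ => by
    obtain ⟨x, hx, rfl⟩ := Finset.mem_image.1 hγ
    exact isBlockFn_cnj hM x (hLn x (Finset.mem_filter.1 hx).2) ⟨b, h.1, rfl⟩
  set a := ∑ γ ∈ Orb, γ with ha
  have hψinv : ∀ x ∈ N, cnj x ψ = ψ := fun x hx =>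
    cnj_eq_self_of_invBy (invBy_trc hN.le (invBy_gFn hM B N)) hx
  have habs : ∀ γ ∈ Orb, gconv ψ γ = γ := fun γ hγ => by
    obtain ⟨x, hx, rfl⟩ := Finset.mem_image.1 hγ
    conv_lhs => rw [← hψinv x (Finset.mem_filter.1 hx).2]
    rw [← cnj_gconv, trc_gFn_gconv_bFn hM hP hCL hLN hPL h]
  have hpick : ∀ γ : G → ResField M, IsBlockFn hM L γ → gconv a γ = if γ ∈ Orb then γ else 0 := by
    intro γ hγ
    rw [ha, sum_gconv]
    split_ifs with hm
    · rw [Finset.sum_eq_single γ (fun δ hδ hne => (hblk δ hδ).mul_ne hγ hne) (fun h => absurd hm h),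
        hγ.mul_self]
    · exact Finset.sum_eq_zero fun δ hδ => (hblk δ hδ).mul_ne hγ fun e => hm (e ▸ hδ)
  have hsq : gconv a a = a := by
    conv_lhs => arg 2; rw [ha]
    rw [gconv_sum, ha]
    exact Finset.sum_congr rfl fun γ hγ => by rw [← ha, hpick γ (hblk γ hγ), if_pos hγ]
  have hsupp : ∀ g, g ∉ N → a g = 0 := fun g hg => by
    rw [ha, Finset.sum_apply]
    refine Finset.sum_eq_zero fun γ hγ => ?_
    obtain ⟨e, he, rfl⟩ := hblk γ hγ
    exact bFn_supp hM hP hCL hLN hPL he fun h' => hg (hCN h')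
  have hainv : ∀ x ∈ N, cnj x a = a := by
    intro x hx
    have e : cnj x a = ∑ γ ∈ Orb, cnj x γ := by funext g; simp [cnj, ha, Finset.sum_apply]
    rw [e, ha]
    refine Finset.sum_nbij (fun γ => cnj x γ) (fun γ hγ => ?_) (fun γ _ δ _ e => ?_) (fun γ hγ => ?_)
      fun γ _ => rfl
    · obtain ⟨y, hy, rfl⟩ := Finset.mem_image.1 hγ
      exact Finset.mem_image.2 ⟨x * y, Finset.mem_filter.2 ⟨Finset.mem_univ _,
        mul_mem hx (Finset.mem_filter.1 hy).2⟩, (cnj_cnj x y _).symm⟩
    · have := congrArg (cnj x⁻¹) e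
      simpa [cnj_cnj, cnj_one] using this
    · obtain ⟨y, hy, rfl⟩ := Finset.mem_image.1 (Finset.mem_coe.1 hγ)
      refine ⟨cnj (x⁻¹ * y) (bFn hM L b), Finset.mem_coe.2 (Finset.mem_image.2 ⟨_, Finset.mem_filter.2
        ⟨Finset.mem_univ _, mul_mem (inv_mem hx) (Finset.mem_filter.1 hy).2⟩, rfl⟩), ?_⟩
      show cnj x (cnj (x⁻¹ * y) _) = cnj y _
      rw [cnj_cnj, mul_inv_cancel_left]
  have hb0 : bFn hM L b ∈ Orb :=
    Finset.mem_image.2 ⟨1, Finset.mem_filter.2 ⟨Finset.mem_univ _, one_mem _⟩, cnj_one _⟩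
  have ha0 : a ≠ 0 := fun h0 => by
    have := hpick _ (hblk _ hb0)
    rw [if_pos hb0, h0, zero_gconv] at this
    exact (hblk _ hb0).ne_zero this.symm
  have haψ : gconv ψ a = a := by
    rw [ha, gconv_sum]
    exact Finset.sum_congr rfl habs
  -- inside the normalizer the orbit sum is a nonzero idempotent under a primitive one
  have haN : (fun k : N => a k) ≠ 0 := fun h0 => ha0 (by rw [← ext0_restrict hsupp, h0, ext0_zero])
  have hor := gconv_gFn_or hM (fun k : N => a k) (fun g x => by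
    show a ((x : G) * g * (x : G)⁻¹) = a g
    exact invBy_of_cnj hainv x x.2 g) (ext0_injective N (by rw [ext0_gconv, ext0_restrict hsupp, hsq]))
    hβ
  have haeq : a = ψ := by
    rcases hor with h1 | h1
    · have h2 := congrArg (ext0 N) h1
      rw [ext0_gconv, ext0_restrict hsupp, hψN] at h2
      rw [← h2]
      refine haψ.symm.trans ?_
      rw [← hψN, ← ext0_restrict hsupp, ← ext0_gconv, ← ext0_gconv]
      congr 1
      obtain ⟨v, hv⟩ := exists_lift hM (fun k : N => a k) fun g x => by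
        show a ((x : G) * g * (x : G)⁻¹) = a g
        exact invBy_of_cnj hainv x x.2 g
      rw [← hv, gFn_block hM hβ, ← cred_mul_eq_gconv, ← cred_mul_eq_gconv, mul_comm]
    · exfalso
      refine haN (ext0_injective N ?_)
      rw [ext0_zero, ext0_restrict hsupp, ← haψ, ← hψN, ← ext0_restrict hsupp, ← ext0_gconv]
      obtain ⟨v, hv⟩ := exists_lift hM (fun k : N => a k) fun g x => by
        show a ((x : G) * g * (x : G)⁻¹) = a g
        exact invBy_of_cnj hainv x x.2 g
      rw [← hv, gFn_block hM hβ, ← cred_mul_eq_gconv, mul_comm, cred_mul_eq_gconv, hv,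
        ← gFn_block hM hβ, h1, ext0_zero]
  have hb' := trc_gFn_gconv_bFn hM hP hCL hLN hPL h'
  rw [← hψ, ← haeq, hpick _ ⟨b', h'.1, rfl⟩] at hb'
  split_ifs at hb' with hm
  · obtain ⟨x, hx, he⟩ := Finset.mem_image.1 hm
    have hxN := (Finset.mem_filter.1 hx).2
    obtain ⟨hcb, hcfn⟩ := conjSet_data hM (e := b) x (hLn x hxN) h.1
    exact ⟨x, hxN, bFn_injOn hM L h'.1 hcb (he.symm.trans hcfn.symm)⟩
  · exact absurd hb'.symm (IsBlockFn.ne_zero (hM := hM) (H := L) ⟨b', h'.1, rfl⟩)

end CfsgLib.Block
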