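import Cfsg.Agent.Lib.BlockCoveringDefect
import Cfsg.Agent.Lib.BlockExtendedMain
import Cfsg.Agent.Lib.BlockAbelianLocal
import Cfsg.Agent.Lib.BlockEquiv
import Cfsg.Agent.Lib.FusionBasic

/-!
# Covering blocks and the normalizer of a defect group
-/

set_option autoImplicit false
set_option linter.style.haveILetI false
set_option linter.unusedSectionVars false
set_option linter.unusedFintypeInType false

namespace CfsgLib.Block

open Cfsg CfsgLib.Char
open scoped ComplexConjugate Classical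

universe u

variable {G : Type u} [Group G] [Fintype G] {p : ℕ} {M : Ideal AlgInt}

/-- Functions invariant under a subgroup commute with functions supported in it. -/
theorem gconv_comm_of_supp {R : Type*} [CommRing R] {K : Subgroup G} {a b : G → R}
    (ha : ∀ g, g ∉ K → a g = 0) (hb : InvBy K b) : gconv a b = gconv b a := by
  funext g
  refine Fintype.sum_equiv ((Equiv.inv G).trans (Equiv.mulLeft g)) _ _ fun y => ?_
  show a y * b (y⁻¹ * g) = b (g * y⁻¹) * a ((g * y⁻¹)⁻¹ * g)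
  rw [show (g * y⁻¹)⁻¹ * g = y by group, mul_comm]
  by_cases hy : y ∈ K
  · rw [show g * y⁻¹ = y * (y⁻¹ * g) * y⁻¹ by group, hb y hy]
  · rw [ha y hy, mul_zero, mul_zero]

variable [Fact p.Prime] (hM : IsPModular p M)

include hM in
/-- Covering, read off from the residual idempotents. -/
theorem covers_iff {N : Subgroup G} [hN : N.Normal] [Fintype N] {b : Set (IrrCharacter N)}
    (hb : IsPBlock M b) {B : Set (IrrCharacter G)} (hB : IsPBlock M B) :
    (∃ χ ∈ B, ∃ θ ∈ b, Over N χ θ) ↔ gconv (gFn hM B) (bFn hM N b) ≠ 0 := by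
  constructor
  · rintro ⟨χ, hχ, θ, hθ, hov⟩
    exact gconv_bFn_ne_zero hM hb hB hχ hθ hov
  · intro hne
    obtain ⟨χ, hχ⟩ := isPBlock_nonempty hM hB
    obtain ⟨θ, hov⟩ := exists_over (N := N) χ
    have hb₁ : IsPBlock M (blockOf M (θ : N → ℂ)) := isPBlock_blockOf θ
    have hθ : θ ∈ blockOf M (θ : N → ℂ) := mem_blockOf_self hM θ
    rcases orb_or (G := G) hM hb₁ hb with ⟨hsub, -⟩ | h0
    · obtain ⟨η, hη⟩ := isPBlock_nonempty hM hb
      obtain ⟨g, θ₁, hθ₁, hg⟩ := hsub hη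
      set φ : IrrCharacter N := ⟨conjFn g (θ : N → ℂ), isIrrCharacter_conjFn θ.2 g⟩
      refine ⟨χ, hχ, φ, ?_, (over_conj g (θ := θ) (φ := φ) rfl).2 hov⟩
      rw [isPBlock_eq_blockOf hM hb hη]
      exact sameBlock_conjFn (M := M) g (θ := θ₁) (θ' := θ) (φ := η) (φ' := φ) hg rfl
        (sameBlock_of_mem hM hb₁ hθ₁ hθ)
    · exfalso
      apply hne
      rw [← gFn_mul_covElt hM hb₁ hB hχ hθ hov, gconv_assoc, bFn_eq_ext0, gFn_block hM hb,
        cred_covElt, ← ext0_gconv, ← cred_mul_eq_gconv, h0, cred_zero_eq, ext0_zero, gconv_zero]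

/-- Residual idempotents of a transported block. -/
theorem bFn_push {H L : Subgroup G} [Fintype H] [Fintype L] [Fintype (L.subgroupOf H)]
    (hLH : L ≤ H) (e : Set (IrrCharacter L)) :
    ext0 H (bFn hM (L.subgroupOf H) (irrMap (Subgroup.subgroupOfEquivOfLe hLH).symm '' e)) =
      bFn hM L e := by
  funext g
  by_cases hg : g ∈ H
  · lift g to H using hg
    rw [ext0_coe, bFn_eq_ext0 hM (L.subgroupOf H), bFn_eq_ext0 hM L]
    by_cases hk : (g : G) ∈ L
    · rw [show ext0 (L.subgroupOf H) (gFn hM (irrMap (Subgroup.subgroupOfEquivOfLe hLH).symm '' e)) g =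
          gFn hM (irrMap (Subgroup.subgroupOfEquivOfLe hLH).symm '' e)
            ⟨g, Subgroup.mem_subgroupOf.2 hk⟩ from dif_pos _,
        show ext0 L (gFn hM e) (g : G) = gFn hM e ⟨g, hk⟩ from dif_pos hk]
      exact gFn_irrMap hM (Subgroup.subgroupOfEquivOfLe hLH).symm e ⟨g, hk⟩
    · rw [show ext0 (L.subgroupOf H) (gFn hM (irrMap (Subgroup.subgroupOfEquivOfLe hLH).symm '' e)) g
          = 0 from dif_neg (fun h => hk (Subgroup.mem_subgroupOf.1 h)),
        show ext0 L (gFn hM e) (g : G) = 0 from dif_neg hk]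
  · rw [bFn_eq_ext0 hM L, show ext0 L (gFn hM e) g = 0 from dif_neg fun h => hg (hLH h)]
    exact dif_neg hg

section HK

variable {N : Subgroup G} [hN : N.Normal] [Fintype N] {Q H L : Subgroup G} [Fintype H] [Fintype L]
  (hH : H = Subgroup.normalizer (Q : Set G)) (hL : L = H ⊓ N) (hQ : IsPGroup p Q) (hQN : Q ≤ N)
  {d : Set (IrrCharacter N)} (hd : IsPBlock M d) (hdQ : IsDefectGroup p M d (Q.subgroupOf N))
  {e : Set (IrrCharacter L)} (he : IsPBlock M e) (heQ : IsDefectGroup p M e (Q.subgroupOf L))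
  (hed : IsInducedBlockIn M N L e d)

include hH hL hQ hQN he heQ hed in
/-- The Brauer image of a block is its correspondent. -/
theorem trc_bFn_eq : trc Q (bFn hM N d) = bFn hM L e := by
  subst hH hL
  have hLN : Subgroup.normalizer (Q : Set G) ⊓ N ≤ N := inf_le_right
  haveI := Fintype.ofFinite ((Subgroup.normalizer (Q : Set G) ⊓ N).subgroupOf N)
  set φ := (Subgroup.subgroupOfEquivOfLe hLN).symm
  have hind := (inducedIn_iff hLN he d).1 hed
  have hQ' : IsPGroup p (Q.subgroupOf N) := hQ.of_equiv (Subgroup.subgroupOfEquivOfLe hQN).symm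
  have hmemC : ∀ x : N, x ∈ Subgroup.centralizer ((Q.subgroupOf N : Subgroup N) : Set N) ↔
      (x : G) ∈ Subgroup.centralizer (Q : Set G) := mem_centralizer_subgroupOf hQN
  have hnorm : ((Subgroup.normalizer (Q : Set G) ⊓ N).subgroupOf N) =
      Subgroup.normalizer ((Q.subgroupOf N : Subgroup N) : Set N) := by
    ext x
    simp only [Subgroup.mem_subgroupOf, Subgroup.mem_inf, x.2, and_true,
      Subgroup.mem_normalizer_iff, SetLike.mem_coe, Subgroup.coe_mul, Subgroup.coe_inv]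
    refine ⟨fun h y => h (y : G), fun h u => ⟨fun hu => (h ⟨u, hQN hu⟩).1 hu, fun hu => ?_⟩⟩
    have huN : u ∈ N := by
      simpa [mul_assoc] using hN.conj_mem _ (hQN hu) (x : G)⁻¹
    exact (h ⟨u, huN⟩).2 hu
  have hQL : Q ≤ Subgroup.normalizer (Q : Set G) ⊓ N := le_inf Subgroup.le_normalizer hQN
  have hC' : Subgroup.centralizer ((Q.subgroupOf N : Subgroup N) : Set N) ≤
      (Subgroup.normalizer (Q : Set G) ⊓ N).subgroupOf N :=
    hnorm ▸ Subgroup.centralizer_le_normalizer _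
  have hPH : Q.subgroupOf N ≤ (Subgroup.normalizer (Q : Set G) ⊓ N).subgroupOf N :=
    fun x hx => Subgroup.mem_subgroupOf.2 (hQL (Subgroup.mem_subgroupOf.1 hx))
  have hcard : p ^ blockDefect p (irrMap φ '' e) =
      Nat.card ((Q.subgroupOf N).subgroupOf ((Subgroup.normalizer (Q : Set G) ⊓ N).subgroupOf N)) := by
    rw [blockDefect_irrMap, ← card_defectGroup hM he heQ,
      Nat.card_congr (Subgroup.subgroupOfEquivOfLe hQL).toEquiv,
      Nat.card_congr (Subgroup.subgroupOfEquivOfLe hPH).toEquiv,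
      Nat.card_congr (Subgroup.subgroupOfEquivOfLe hQN).toEquiv]
  funext g
  by_cases hg : g ∈ Subgroup.centralizer (Q : Set G)
  · rw [trc, if_pos hg, bFn_eq_ext0, bFn_eq_ext0]
    by_cases hgN : g ∈ N
    · have hgL : g ∈ Subgroup.normalizer (Q : Set G) ⊓ N :=
        ⟨Subgroup.centralizer_le_normalizer _ hg, hgN⟩
      rw [show ext0 N (gFn hM d) g = gFn hM d ⟨g, hgN⟩ from dif_pos hgN,
        show ext0 (Subgroup.normalizer (Q : Set G) ⊓ N) (gFn hM e) g = gFn hM e ⟨g, hgL⟩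
          from dif_pos hgL,
        ← gFn_irrMap hM φ e ⟨g, hgL⟩, gFn_block hM hind.1, gFn_block hM hed.2.1]
      exact (cred_eq_of_induced hM hQ' hC' hnorm.le hPH hnorm hind hcard
        (h := φ ⟨g, hgL⟩) ((hmemC ⟨g, hgN⟩).2 hg)).symm
    · rw [show ext0 N (gFn hM d) g = 0 from dif_neg hgN]
      rw [show ext0 (Subgroup.normalizer (Q : Set G) ⊓ N) (gFn hM e) g = 0 from
        dif_neg (fun h : g ∈ Subgroup.normalizer (Q : Set G) ⊓ N => hgN h.2)]
  · rw [trc, if_neg hg, ← bFn_push hM hLN e]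
    symm
    by_cases hgN : g ∈ N
    · lift g to N using hgN
      rw [ext0_coe]
      exact bFn_supp hM hQ' hC' hnorm.le hPH hind.1 fun h => hg ((hmemC g).1 h)
    · exact dif_neg hgN

include hL he in
/-- Covering at the level of the normalizer. -/
theorem covers_normalizer_iff (c : Set (IrrCharacter H)) (hc : IsPBlock M c) :
    (∃ ψ ∈ c, ∃ ξ ∈ e, classInner (fun l : L => (ψ : H → ℂ)
      (Subgroup.inclusion (hL.le.trans inf_le_left) l)) (ξ : L → ℂ) ≠ 0) ↔
      gconv (bFn hM H c) (bFn hM L e) ≠ 0 := by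
  have hLH : L ≤ H := hL.le.trans inf_le_left
  haveI : (L.subgroupOf H).Normal := by
    rw [hL, Subgroup.inf_subgroupOf_left]
    infer_instance
  haveI := Fintype.ofFinite (L.subgroupOf H)
  set φ := (Subgroup.subgroupOfEquivOfLe hLH).symm
  have key : ∀ (ψ : IrrCharacter H) (ξ : IrrCharacter L),
      classInner (fun l : L => (ψ : H → ℂ) (Subgroup.inclusion hLH l)) (ξ : L → ℂ) =
      classInner (fun l : L.subgroupOf H => (ψ : H → ℂ) l)
        (irrMap φ ξ : L.subgroupOf H → ℂ) := fun ψ ξ => by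
    unfold classInner
    rw [Nat.card_congr φ.toEquiv]
    congr 1
    refine Fintype.sum_equiv φ.toEquiv _ _ fun l => ?_
    show _ = (ψ : H → ℂ) (φ l : H) * conj ((irrMap φ ξ : L.subgroupOf H → ℂ) (φ l))
    rw [irrMap_apply]
    rfl
  rw [bFn_eq_ext0 hM H, ← bFn_push hM hLH e, ← ext0_gconv, (ext0_injective H).ne_iff' (ext0_zero H)]
  rw [← covers_iff hM (isPBlock_irrMap φ he) hc]
  constructor
  · rintro ⟨ψ, hψ, ξ, hξ, h⟩
    exact ⟨ψ, hψ, _, Set.mem_image_of_mem _ hξ, by rwa [Over, ← key]⟩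
  · rintro ⟨ψ, hψ, _, ⟨ξ, hξ, rfl⟩, h⟩
    exact ⟨ψ, hψ, ξ, hξ, by rwa [key]⟩

include hH hQ in
theorem trc_facts (B : Set (IrrCharacter G)) (hB : IsPBlock M B) :
    (∀ g, g ∉ H → trc Q (gFn hM B) g = 0) ∧ InvBy H (trc Q (gFn hM B)) ∧
      gconv (trc Q (gFn hM B)) (trc Q (gFn hM B)) = trc Q (gFn hM B) := by
  haveI := charP_resField hM
  refine ⟨fun g hg => ?_, invBy_trc (hH ▸ le_rfl) (invBy_gFn hM B H), ?_⟩
  · rw [trc, if_neg fun h => hg (hH ▸ Subgroup.centralizer_le_normalizer _ h)]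
  · rw [← trc_gconv hQ (invBy_gFn hM B Q) (invBy_gFn hM B Q), gFn_mul_self hB]

include hH hL hQ hQN hd hdQ he heQ hed in
/-- A covering block of the normalizer induces a covering block. -/
theorem induced_covers {c : Set (IrrCharacter H)} (hc : IsPBlock M c)
    (hce : gconv (bFn hM H c) (bFn hM L e) ≠ 0) {B : Set (IrrCharacter G)}
    (hB : IsInducedBlock M H c B) : gconv (gFn hM B) (bFn hM N d) ≠ 0 := by
  haveI := charP_resField hM
  have htc := trc_gFn_gconv_bFn hM hQ (hH ▸ Subgroup.centralizer_le_normalizer _) hH.le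
    (hH ▸ Subgroup.le_normalizer) hB
  have hcb : IsBlockFn hM H (bFn hM H c) := ⟨c, hc, rfl⟩
  have hdb : IsBlockFn hM N (bFn hM N d) := ⟨d, hd, rfl⟩
  intro h0
  have hcomm : gconv (bFn hM N d) (gFn hM B) = gconv (gFn hM B) (bFn hM N d) :=
    gconv_comm_of_supp (K := N) (fun g hg => hdb.supp hg) (invBy_gFn hM B N)
  apply hce
  have hcomm2 : gconv (bFn hM L e) (bFn hM H c) = gconv (bFn hM H c) (bFn hM L e) :=
    gconv_comm_of_supp (K := H) (fun g hg =>
      IsBlockFn.supp (hM := hM) (H := L) ⟨e, he, rfl⟩ fun h => hg (hL.le h).1) hcb.invBy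
  rw [← hcomm2]
  conv_lhs => rw [← htc, ← trc_bFn_eq hM hH hL hQ hQN he heQ hed, ← gconv_assoc,
    ← trc_gconv hQ (invBy_mono hdb.invBy hQN) (invBy_gFn hM B Q), hcomm, h0]
  rw [trc_zero, zero_gconv]

include hH hL hQ hQN hd hdQ he heQ hed in
/-- A covering block comes from a covering block of the normalizer. -/
theorem exists_covering_correspondent {B : Set (IrrCharacter G)} (hB : IsPBlock M B)
    (hBd : gconv (gFn hM B) (bFn hM N d) ≠ 0) :
    ∃ c, IsPBlock M c ∧ gconv (bFn hM H c) (bFn hM L e) ≠ 0 ∧ IsInducedBlock M H c B := by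
  haveI := charP_resField hM
  have htd := trc_bFn_eq hM hH hL hQ hQN he heQ hed
  have heb : IsBlockFn hM L (bFn hM L e) := ⟨e, he, rfl⟩
  have hne := trc_gconv_ne_zero hM hd hQ hQN (htd ▸ heb.ne_zero) hB hBd
  rw [htd] at hne
  obtain ⟨hs, hi, hsq⟩ := trc_facts hM hH hQ B hB
  obtain ⟨γ, hγ, hγne⟩ : ∃ γ ∈ blockFns hM H,
      gconv (trc Q (gFn hM B)) (gconv γ (bFn hM L e)) ≠ 0 := by
    by_contra hc
    push Not at hc
    apply hne
    rw [← gone_gconv (bFn hM L e), ← sum_blockFns hM H, sum_gconv, gconv_sum]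
    exact Finset.sum_eq_zero hc
  obtain ⟨c, hc, rfl⟩ := (mem_blockFns hM H).1 hγ
  have htc : gconv (trc Q (gFn hM B)) (bFn hM H c) = bFn hM H c :=
    ((show IsBlockFn hM H (bFn hM H c) from ⟨c, hc, rfl⟩).occ_or hs hi hsq).resolve_right
      fun h => hγne (by rw [← gconv_assoc, h, zero_gconv])
  rw [← gconv_assoc, htc] at hγne
  obtain ⟨B', hB'⟩ := inducedBlockDefined_brauer hM hQ
    (hH ▸ Subgroup.centralizer_le_normalizer _) hH.le (hH ▸ Subgroup.le_normalizer) hc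
  have htc' := trc_gFn_gconv_bFn hM hQ (hH ▸ Subgroup.centralizer_le_normalizer _) hH.le
    (hH ▸ Subgroup.le_normalizer) hB'
  refine ⟨c, hc, hγne, ?_⟩
  by_cases hBB : B = B'
  · exact hBB ▸ hB'
  · exfalso
    apply hγne
    rw [← htc, ← htc', ← gconv_assoc, ← trc_gconv hQ (invBy_gFn hM B Q) (invBy_gFn hM B' Q),
      gFn_mul_gFn hM hB hB'.2.1, if_neg hBB, trc_zero, zero_gconv, zero_gconv]

include hH hL hQ hQN he heQ in
/-- A defect group of a covering block of the normalizer is one of its induced block. -/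
theorem exists_defect_agree {c : Set (IrrCharacter H)} (hc : IsPBlock M c)
    (hce : gconv (bFn hM H c) (bFn hM L e) ≠ 0) {B : Set (IrrCharacter G)}
    (hB : IsInducedBlock M H c B) :
    ∃ D : Subgroup G, IsDefectGroup p M B D ∧ D ⊓ N = Q ∧
      trc D (bFn hM H c) = trc D (gFn hM B) ∧ trc D (bFn hM H c) ≠ 0 := by
  haveI := charP_resField hM
  have hLH : L ≤ H := hL.le.trans inf_le_left
  have hQH : Q ≤ H := hH ▸ Subgroup.le_normalizer
  have hQL : Q ≤ L := hL ▸ le_inf hQH hQN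
  haveI : (L.subgroupOf H).Normal := by
    rw [hL, Subgroup.inf_subgroupOf_left]
    infer_instance
  haveI := Fintype.ofFinite (L.subgroupOf H)
  set φ := (Subgroup.subgroupOfEquivOfLe hLH).symm
  have hQ' : IsDefectGroup p M (irrMap φ '' e) ((Q.subgroupOf H).subgroupOf (L.subgroupOf H)) := by
    have h := isDefectGroup_irrMap hM φ he heQ
    convert h using 1
    ext x
    rw [Subgroup.mem_map_equiv, Subgroup.mem_subgroupOf, Subgroup.mem_subgroupOf,
      Subgroup.mem_subgroupOf]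
    rfl
  have hce' : gconv (gFn hM c) (bFn hM (L.subgroupOf H) (irrMap φ '' e)) ≠ 0 := fun h0 => hce (by
    rw [bFn_eq_ext0 hM H, ← bFn_push hM hLH e, ← ext0_gconv, h0, ext0_zero])
  obtain ⟨χ, hχ, θ, hθ, hov⟩ := (covers_iff hM (isPBlock_irrMap φ he) hc).2 hce'
  obtain ⟨D', hD', hDL⟩ := exists_defectGroup_inf_eq hM (isPBlock_irrMap φ he) hc hχ hθ hov
    (fun x hx => Subgroup.mem_subgroupOf.2 (hQL (Subgroup.mem_subgroupOf.1 hx))) hQ'
  obtain ⟨D, hD⟩ : ∃ D : Subgroup G, D = D'.map H.subtype := ⟨_, rfl⟩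
  have hDH : D ≤ H := hD ▸ Subgroup.map_subtype_le _
  have hD'eq : D' = D.subgroupOf H := by
    rw [hD]; exact (Subgroup.comap_map_eq_self_of_injective Subtype.val_injective D').symm
  have hDN : D ⊓ N = Q := by
    ext g
    constructor
    · rintro ⟨hgD, hgN⟩
      have h : (⟨g, hDH hgD⟩ : H) ∈ D' ⊓ L.subgroupOf H :=
        ⟨hD'eq ▸ Subgroup.mem_subgroupOf.2 hgD,
          Subgroup.mem_subgroupOf.2 (hL ▸ ⟨hDH hgD, hgN⟩)⟩
      rw [hDL] at h
      exact Subgroup.mem_subgroupOf.1 h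
    · intro hg
      have h : (⟨g, hQH hg⟩ : H) ∈ D' ⊓ L.subgroupOf H := hDL.symm ▸ Subgroup.mem_subgroupOf.2 hg
      exact ⟨hD ▸ Subgroup.mem_map_of_mem H.subtype h.1, hQN hg⟩
  have hDp : IsPGroup p D := hD ▸ (isPGroup_defectGroup hM hc hD').map _
  have hQD : Q ≤ D := hDN ▸ inf_le_left
  obtain ⟨K, hK⟩ : ∃ K : Subgroup G, K = Subgroup.normalizer (D : Set G) := ⟨_, rfl⟩
  have hKH : K ≤ H := by
    rw [hH, hK]
    intro y hy
    refine CfsgLib.Fusion.mem_normalizer_of_conj_mem fun s hs => ?_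
    rw [← hDN] at hs ⊢
    exact Subgroup.mem_inf.2 ⟨(Subgroup.mem_normalizer_iff.1 hy s).1 hs.1, hN.conj_mem _ hs.2 y⟩
  have hCK : Subgroup.centralizer (D : Set G) ≤ K := hK ▸ Subgroup.centralizer_le_normalizer _
  have hDK : D ≤ K := hK ▸ Subgroup.le_normalizer
  haveI := Fintype.ofFinite K
  haveI := Fintype.ofFinite (K.subgroupOf H)
  have hnorm : K.subgroupOf H = Subgroup.normalizer ((D.subgroupOf H : Subgroup H) : Set H) := by
    ext x
    simp only [Subgroup.mem_subgroupOf, hK, Subgroup.mem_normalizer_iff, SetLike.mem_coe,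
      Subgroup.coe_mul, Subgroup.coe_inv]
    refine ⟨fun h y => h (y : G), fun h u => ⟨fun hu => (h ⟨u, hDH hu⟩).1 hu, fun hu => ?_⟩⟩
    have huH : u ∈ H := by
      simpa [mul_assoc] using mul_mem (mul_mem (inv_mem x.2) (hDH hu)) x.2
    exact (h ⟨u, huH⟩).2 hu
  rw [hD'eq] at hD'
  haveI : ((D.subgroupOf H).subgroupOf (K.subgroupOf H)).Normal :=
    (Subgroup.normal_subgroupOf_iff_le_normalizer
      (fun x hx => Subgroup.mem_subgroupOf.2 (hDK (Subgroup.mem_subgroupOf.1 hx)))).2 hnorm.le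
  have hDp' : IsPGroup p (D.subgroupOf H) := hDp.of_equiv (Subgroup.subgroupOfEquivOfLe hDH).symm
  obtain ⟨b, ⟨hb, hbd, hbag⟩, -⟩ := brauer_corr_down hM hDp'
    (fun x hx => Subgroup.mem_subgroupOf.2 (hCK ((mem_centralizer_subgroupOf hDH x).1 hx)))
    hnorm.le (fun x hx => Subgroup.mem_subgroupOf.2 (hDK (Subgroup.mem_subgroupOf.1 hx))) hnorm
    hc hD'
  set ψ := Subgroup.subgroupOfEquivOfLe hKH
  haveI : (D.subgroupOf K).Normal :=
    (Subgroup.normal_subgroupOf_iff_le_normalizer hDK).2 hK.le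
  obtain ⟨B', ⟨hB', hB'D, hB'ag⟩, -⟩ := brauer_corr_up hM hDp hCK hK.le hDK hK
    (isPBlock_irrMap ψ hb) (by
      rw [blockDefect_irrMap, hbd, Nat.card_congr (Subgroup.subgroupOfEquivOfLe hDH).toEquiv])
  have htr : trc D (gFn hM B') = trc D (bFn hM H c) := by
    funext g
    simp only [trc]
    split_ifs with hg
    · have hgK := hCK hg
      rw [bFn_eq_ext0, show ext0 H (gFn hM c) g = gFn hM c ⟨g, hKH hgK⟩ from dif_pos (hKH hgK),
        hB'ag ⟨g, hgK⟩ hg,
        hbag ⟨⟨g, hKH hgK⟩, Subgroup.mem_subgroupOf.2 hgK⟩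
          ((mem_centralizer_subgroupOf hDH _).2 hg),
        show (⟨g, hgK⟩ : K) = ψ ⟨⟨g, hKH hgK⟩, Subgroup.mem_subgroupOf.2 hgK⟩ from rfl,
        gFn_irrMap]
    · rfl
  have hne : trc D (gFn hM B') ≠ 0 := by
    obtain ⟨g, hg, hgne⟩ := brauerNonzero_defectGroup hM hB' hB'D
    intro h0
    have := congrFun h0 g
    rw [trc, if_pos hg, gFn_block hM hB'] at this
    exact hgne this
  by_cases hBB : B = B'
  · exact ⟨D, hBB ▸ hB'D, hDN, by rw [hBB, htr], htr ▸ hne⟩
  · exfalso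
    apply hne
    have htc := trc_gFn_gconv_bFn hM hQ (hH ▸ Subgroup.centralizer_le_normalizer _) hH.le
      hQH hB
    have hDnQ : D ≤ Subgroup.normalizer (Q : Set G) := hH ▸ hDH
    have hcb : IsBlockFn hM H (bFn hM H c) := ⟨c, hc, rfl⟩
    have := congrArg (trc D) htc
    rw [trc_gconv hDp (invBy_trc hDnQ (invBy_gFn hM B D)) (invBy_mono hcb.invBy hDH),
      trc_trc hQD, ← htr, ← trc_gconv hDp (invBy_gFn hM B D) (invBy_gFn hM B' D),
      gFn_mul_gFn hM hB.2.1 hB', if_neg hBB, trc_zero] at this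
    exact this.symm

include hH hL hQ hQN he heQ in
/-- Only one covering block of the normalizer induces a given block. -/
theorem covering_correspondent_unique {c₁ c₂ : Set (IrrCharacter H)} (hc₁ : IsPBlock M c₁)
    (hc₂ : IsPBlock M c₂) (h₁ : gconv (bFn hM H c₁) (bFn hM L e) ≠ 0)
    (h₂ : gconv (bFn hM H c₂) (bFn hM L e) ≠ 0) {B : Set (IrrCharacter G)}
    (hB₁ : IsInducedBlock M H c₁ B) (hB₂ : IsInducedBlock M H c₂ B) : c₁ = c₂ := by
  haveI := charP_resField hM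
  obtain ⟨D₁, hD₁, hN₁, e₁, -⟩ := exists_defect_agree hM hH hL hQ hQN he heQ hc₁ h₁ hB₁
  obtain ⟨D₂, hD₂, hN₂, e₂, hne⟩ := exists_defect_agree hM hH hL hQ hQN he heQ hc₂ h₂ hB₂
  obtain ⟨x, hx⟩ := defectGroup_eq_conj hM hB₁.2.1 hD₁ hD₂
  have hxH : x ∈ H := by
    rw [hH]
    refine CfsgLib.Fusion.mem_normalizer_of_conj_mem fun s hs => ?_
    rw [← hN₁] at hs
    rw [← hN₂]
    exact Subgroup.mem_inf.2 ⟨hx ▸ ⟨s, hs.1, rfl⟩, hN.conj_mem _ hs.2 x⟩
  have hb₁ : IsBlockFn hM H (bFn hM H c₁) := ⟨c₁, hc₁, rfl⟩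
  have hb₂ : IsBlockFn hM H (bFn hM H c₂) := ⟨c₂, hc₂, rfl⟩
  have heq : trc D₂ (bFn hM H c₁) = trc D₂ (bFn hM H c₂) := by
    have h := congrArg (cnj x) e₁
    rw [cnj_trc, cnj_trc, hx, cnj_eq_self_of_invBy hb₁.invBy hxH,
      cnj_eq_self_of_invBy (invBy_gFn hM B ⊤) (Subgroup.mem_top x), ← e₂] at h
    exact h
  by_contra hne'
  apply hne
  have hDp := isPGroup_defectGroup hM hB₁.2.1 hD₂
  have hDH : D₂ ≤ H := by
    rw [hH]
    intro y hy
    refine CfsgLib.Fusion.mem_normalizer_of_conj_mem fun s hs => ?_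
    rw [← hN₂] at hs ⊢
    exact Subgroup.mem_inf.2 ⟨mul_mem (mul_mem hy hs.1) (inv_mem hy), hN.conj_mem _ hs.2 y⟩
  conv_lhs => rw [← hb₂.mul_self, trc_gconv hDp (invBy_mono hb₂.invBy hDH)
    (invBy_mono hb₂.invBy hDH)]
  nth_rw 1 [← heq]
  rw [← trc_gconv hDp (invBy_mono hb₁.invBy hDH) (invBy_mono hb₂.invBy hDH),
    hb₁.mul_ne hb₂ (fun h => hne' (bFn_injOn hM H hc₁ hc₂ h)), trc_zero]

end HK

end CfsgLib.Block
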