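import Cfsg.Agent.Lib.BlockPairLocal

/-!
# The stabiliser of a pair and its block
-/

set_option autoImplicit false

universe u

namespace CfsgLib.Block

open Cfsg CfsgLib.Char
open scoped ComplexConjugate Classical

variable {G : Type u} [Group G] [Fintype G] {p : ℕ} {M : Ideal AlgInt}

theorem subgroupBlockCoeff_conjSet {H H' : Subgroup G} (x : G)
    (hH : ∀ g, g ∈ H' ↔ x⁻¹ * g * x ∈ H) (e : Set (IrrCharacter H)) (g : G) :
    subgroupBlockCoeff H' (conjSet H H' x e) g = subgroupBlockCoeff H e (x⁻¹ * g * x) := by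
  haveI := Fintype.ofFinite H
  haveI := Fintype.ofFinite H'
  let φ : H ≃* H' :=
    { toFun := fun c => ⟨x * (c : G) * x⁻¹, (hH _).2 (by simp [mul_assoc, c.2])⟩
      invFun := fun c => ⟨x⁻¹ * (c : G) * x, (hH _).1 c.2⟩
      left_inv := fun c => Subtype.ext (show x⁻¹ * (x * (c : G) * x⁻¹) * x = c by group)
      right_inv := fun c => Subtype.ext (show x * (x⁻¹ * (c : G) * x) * x⁻¹ = c by group)
      map_mul' := fun a b => Subtype.ext (show x * ((a : G) * b) * x⁻¹ =
        x * (a : G) * x⁻¹ * (x * (b : G) * x⁻¹) by group) }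
  have hset : conjSet H H' x e = irrMap φ '' e := by
    ext ξ'
    constructor
    · rintro ⟨ξ, hξ, h⟩
      refine ⟨ξ, hξ, Subtype.ext (funext fun c' => ?_)⟩
      obtain ⟨c, rfl⟩ := φ.surjective c'
      rw [irrMap_apply, h c (φ c) rfl]
    · rintro ⟨ξ, hξ, rfl⟩
      refine ⟨ξ, hξ, fun c c' hc => ?_⟩
      rw [show c' = φ c from Subtype.ext hc, irrMap_apply]
  by_cases hg : g ∈ H'
  · lift g to H' using hg
    obtain ⟨c, rfl⟩ := φ.surjective g
    rw [subgroupBlockCoeff_coe, hset, blockCoeff_irrMap,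
      show x⁻¹ * ((φ c : H') : G) * x = (c : G) from
        show x⁻¹ * (x * (c : G) * x⁻¹) * x = c by group, subgroupBlockCoeff_coe]
  · rw [subgroupBlockCoeff_not_mem _ _ hg, subgroupBlockCoeff_not_mem _ _ (mt (hH g).2 hg)]

theorem subgroupBlockCoeff_eq_ext0 (H : Subgroup G) (e : Set (IrrCharacter H)) :
    subgroupBlockCoeff H e = ext0 H (fun h : H => blockCoeff e h) := by
  funext g
  by_cases hg : g ∈ H
  · lift g to H using hg
    rw [subgroupBlockCoeff_coe, ext0_coe]
  · rw [subgroupBlockCoeff_not_mem _ _ hg]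
    simp [ext0, hg]

theorem gconv_blockCoeff (B : Set (IrrCharacter G)) :
    gconv (fun g => blockCoeff B g) (fun g => blockCoeff B g) = fun g => blockCoeff B g := by
  have h : indVal B * indVal B = indVal B := by
    funext χ
    show indVal B χ * indVal B χ = indVal B χ
    unfold indVal
    split_ifs <;> simp
  funext g
  simp only [blockCoeff_eq_coef]
  conv_rhs => rw [← h, coef_mul]
  rfl

variable {hM : IsPModular p M}

theorem stabilizes_fix {H : Subgroup G} {e : Set (IrrCharacter H)} (hM : IsPModular p M)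
    (he : IsPBlock M e) {x : G} (hst : StabilizesBlock H e x) (g : G) :
    subgroupBlockCoeff H e (x⁻¹ * g * x) = subgroupBlockCoeff H e g := by
  obtain ⟨hx, hfix⟩ := (stabilizesBlock_iff hM he x).1 hst
  have hH : ∀ g, g ∈ H ↔ x⁻¹ * g * x ∈ H := fun g => by
    simpa using (Subgroup.mem_normalizer_iff.1 (inv_mem hx) g)
  obtain ⟨hb, hfn⟩ := conjSet_data hM (e := e) x hH he
  rw [← subgroupBlockCoeff_conjSet x hH e g, bFn_injOn hM H hb he (hfn.trans hfix)]

/-- The idempotent of a block of `C(Q)` is a block idempotent of its stabiliser. -/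
theorem exists_stab_block {Q T : Subgroup G} [Fintype T] (hM : IsPModular p M)
    (hQ : IsPGroup p Q) (hQT : Q ≤ T) (hCT : Subgroup.centralizer (Q : Set G) ≤ T)
    (hTN : T ≤ Subgroup.normalizer (Q : Set G))
    {f : Set (IrrCharacter (Subgroup.centralizer (Q : Set G)))} (hf : IsPBlock M f)
    (hst : ∀ t ∈ T, StabilizesBlock (Subgroup.centralizer (Q : Set G)) f t) :
    ∃ F : Set (IrrCharacter T), IsPBlock M F ∧
      ∀ t : T, blockCoeff F t = subgroupBlockCoeff (Subgroup.centralizer (Q : Set G)) f (t : G) := by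
  haveI : Fact p.Prime := ⟨hM.1⟩
  haveI := nontrivial_resField hM
  haveI := Fintype.ofFinite (Subgroup.centralizer (Q : Set G))
  haveI : (Q.subgroupOf T).Normal := (Subgroup.normal_subgroupOf_iff_le_normalizer hQT).2 hTN
  have hQ' : IsPGroup p (Q.subgroupOf T) := hQ.of_equiv (Subgroup.subgroupOfEquivOfLe hQT).symm
  have hsupp : ∀ g, g ∉ T → subgroupBlockCoeff (Subgroup.centralizer (Q : Set G)) f g = 0 :=
    fun g hg => subgroupBlockCoeff_not_mem _ _ fun h => hg (hCT h)
  let v : intRing (G := T) hM := ofFun hM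
    (fun t : T => subgroupBlockCoeff (Subgroup.centralizer (Q : Set G)) f (t : G))
    (show IsClassFunction T _ from fun a b => by
      show subgroupBlockCoeff _ f ((b * a * b⁻¹ : T) : G) = subgroupBlockCoeff _ f (a : G)
      push_cast
      have := stabilizes_fix hM hf (hst _ (inv_mem b.2)) (a : G)
      rwa [inv_inv] at this)
    fun t => subgroupBlockCoeff_mem hM hf _
  have hcoef : coef (v : IrrCharacter T → ℂ) =
      fun t : T => subgroupBlockCoeff (Subgroup.centralizer (Q : Set G)) f (t : G) :=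
    coef_ofFun hM _ _ _
  have hidem : gconv (subgroupBlockCoeff (Subgroup.centralizer (Q : Set G)) f)
      (subgroupBlockCoeff (Subgroup.centralizer (Q : Set G)) f) =
      subgroupBlockCoeff (Subgroup.centralizer (Q : Set G)) f := by
    rw [subgroupBlockCoeff_eq_ext0, ← ext0_gconv, gconv_blockCoeff]
  have hvv : v * v = v := by
    refine intRing_ext fun t => ?_
    rw [Subring.coe_mul, coef_mul, hcoef]
    show gconv (fun s : T => subgroupBlockCoeff (Subgroup.centralizer (Q : Set G)) f (s : G))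
      (fun s : T => subgroupBlockCoeff (Subgroup.centralizer (Q : Set G)) f (s : G)) t = _
    have e : gconv (fun s : T => subgroupBlockCoeff (Subgroup.centralizer (Q : Set G)) f (s : G))
        (fun s : T => subgroupBlockCoeff (Subgroup.centralizer (Q : Set G)) f (s : G)) =
        fun s : T => subgroupBlockCoeff (Subgroup.centralizer (Q : Set G)) f (s : G) := by
      refine ext0_injective T ?_
      rw [ext0_gconv, ext0_restrict hsupp, hidem]
    exact congrFun e t
  have hfb : IsBlockFn hM (Subgroup.centralizer (Q : Set G)) (pFn hM Q f) := ⟨f, hf, rfl⟩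
  have hcredv : ext0 T (cred hM v) = pFn hM Q f := by
    funext g
    by_cases hg : g ∈ T
    · lift g to T using hg
      rw [ext0_coe, pFn, bFn, dif_pos (subgroupBlockCoeff_mem hM hf _)]
      exact cred_ofFun hM _ _ _ g
    · rw [show ext0 T (cred hM v) g = 0 from dif_neg hg]
      exact (hfb.supp fun h => hg (hCT h)).symm
  have hsq : gconv (cred hM v) (cred hM v) = cred hM v := by
    rw [← cred_mul_eq_gconv, hvv]
  obtain ⟨F, hF, heq⟩ : ∃ F, IsPBlock M F ∧ gconv (cred hM v) (gFn hM F) = gFn hM F := by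
    by_contra hno
    refine hfb.ne_zero ?_
    rw [← hcredv, ← ext0_zero T]
    congr 1
    rw [← gconv_gone (cred hM v), ← sum_gFn hM, gconv_sum]
    refine Finset.sum_eq_zero fun F hF => ?_
    obtain ⟨χ, hχ⟩ := isPBlock_nonempty hM (mem_allBlocks.1 hF)
    exact ((ev_idem_iff hM v hsq (mem_allBlocks.1 hF) hχ).2).resolve_left
      fun he => hno ⟨F, mem_allBlocks.1 hF, he⟩
  -- the residual idempotent of `F` lives on `C(Q)`
  have hA : ∀ g, g ∉ Subgroup.centralizer (Q : Set G) → ext0 T (gFn hM F) g = 0 := by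
    intro g hg
    by_cases hgT : g ∈ T
    · lift g to T using hgT
      rw [ext0_coe, gFn_block hM hF]
      refine (cred_eq_zero_iff hM _ _).2 ?_
      show MemLocalIdeal M (coef (indVal F) g)
      rw [coef_bIdem_eq_zero_of_not_mem hM (Q.subgroupOf T) hQ' hF
        fun h => hg ((mem_centralizer_subgroupOf hQT g).1 h)]
      exact (memLocalIdeal_iff_exists hM).2 ⟨zero_mem _, map_zero _⟩
    · exact dif_neg hgT
  have hAinv : InvBy (Subgroup.centralizer (Q : Set G)) (ext0 T (gFn hM F)) := by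
    intro k hk g
    by_cases hg : g ∈ T
    · lift g to T using hg
      rw [show k * (g : G) * k⁻¹ = ((⟨k, hCT hk⟩ * g * ⟨k, hCT hk⟩⁻¹ : T) : G) from rfl, ext0_coe,
        ext0_coe, gFn_classFunction]
    · rw [show ext0 T (gFn hM F) g = 0 from dif_neg hg]
      exact dif_neg fun h => hg (by
        simpa [mul_assoc] using mul_mem (mul_mem (inv_mem (hCT hk)) h) (hCT hk))
  have hAsq : gconv (ext0 T (gFn hM F)) (ext0 T (gFn hM F)) = ext0 T (gFn hM F) := by
    rw [← ext0_gconv, gFn_mul_gFn hM hF hF, if_pos rfl]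
  have hcomm : gconv (ext0 T (gFn hM F)) (pFn hM Q f) = ext0 T (gFn hM F) := by
    rw [← hcredv, ← ext0_gconv]
    congr 1
    rw [gFn_block hM hF, ← cred_mul_eq_gconv, mul_comm, cred_mul_eq_gconv, ← gFn_block hM hF, heq]
  have hEq : ext0 T (gFn hM F) = ext0 T (cred hM v) := by
    rcases hfb.occ_or hA hAinv hAsq with h | h
    · rw [hcredv, ← h, hcomm]
    · rw [hcomm, ← ext0_zero T] at h
      exact absurd (ext0_injective T h) (gFn_ne_zero hM hF)
  have hb : bIdem hM hF = v := eq_of_idem_of_cred_eq hM (bIdem_sq hM hF) hvv fun t => by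
    have := congrFun (ext0_injective T hEq) t
    rwa [gFn_block hM hF] at this
  refine ⟨F, hF, fun t => ?_⟩
  rw [blockCoeff_eq_coef]
  exact (congrFun (congrArg coef (congrArg Subtype.val hb)) t).trans (congrFun hcoef t)

/-- The residual function of the block of the stabiliser. -/
theorem bFn_stab {Q T : Subgroup G} [Fintype T] (hCT : Subgroup.centralizer (Q : Set G) ≤ T)
    {f : Set (IrrCharacter (Subgroup.centralizer (Q : Set G)))}
    {F : Set (IrrCharacter T)}
    (hFf : ∀ t : T,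
      blockCoeff F t = subgroupBlockCoeff (Subgroup.centralizer (Q : Set G)) f (t : G)) :
    bFn hM T F = pFn hM Q f := by
  funext g
  have h : subgroupBlockCoeff T F g = subgroupBlockCoeff (Subgroup.centralizer (Q : Set G)) f g := by
    by_cases hg : g ∈ T
    · lift g to T using hg
      rw [subgroupBlockCoeff_coe, hFf]
    · rw [subgroupBlockCoeff_not_mem _ _ hg, subgroupBlockCoeff_not_mem _ _ fun h => hg (hCT h)]
  simp only [pFn, bFn, h]

variable {Q T : Subgroup G} {f : Set (IrrCharacter (Subgroup.centralizer (Q : Set G)))}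

/-- The basic facts on a stabiliser. -/
theorem stab_facts (hM : IsPModular p M) (hf : IsPBlock M f)
    (hT : ∀ y : G, y ∈ T ↔ y ∈ Subgroup.normalizer (Q : Set G) ∧
      StabilizesBlock (Subgroup.centralizer (Q : Set G)) f y) :
    Subgroup.centralizer (Q : Set G) ≤ T ∧ Q ≤ T ∧ T ≤ Subgroup.normalizer (Q : Set G) ∧
      (∀ R : Subgroup G, R ≤ Subgroup.normalizer (Q : Set G) →
        (R ≤ T ↔ InvBy R (pFn hM Q f))) := by
  have key : ∀ R : Subgroup G, R ≤ Subgroup.normalizer (Q : Set G) →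
      (R ≤ T ↔ InvBy R (pFn hM Q f)) := fun R hR => by
    rw [invBy_iff_stabilizes hM hR hf]
    exact ⟨fun h x hx => ((hT x).1 (h hx)).2, fun h x hx => (hT x).2 ⟨hR hx, h x hx⟩⟩
  have hfb : IsBlockFn hM (Subgroup.centralizer (Q : Set G)) (pFn hM Q f) := ⟨f, hf, rfl⟩
  exact ⟨(key _ (Subgroup.centralizer_le_normalizer _)).2 hfb.invBy,
    (key _ Subgroup.le_normalizer).2 (invBy_self hfb), fun y hy => ((hT y).1 hy).1, key⟩

theorem blockFn_eq_of_coe [Fintype T] {F : Set (IrrCharacter T)} (hF : IsPBlock M F)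
    (hbF : bFn hM T F = pFn hM Q f) (g : T) : cred hM (bIdem hM hF) g = pFn hM Q f (g : G) := by
  rw [← hbF, bFn_eq_ext0, ext0_coe, gFn_block hM hF]

/-- `N_P(Q)` lies in a defect group of the block of the stabiliser. -/
theorem exists_defectGroup_ge_normalizer {P : Subgroup G} {ψ : G → ResField M}
    (hψ : PairFn hM P ψ) (hf : IsPBlock M f) (hc : Chain hM (Q, pFn hM Q f) (P, ψ))
    (hT : ∀ y : G, y ∈ T ↔ y ∈ Subgroup.normalizer (Q : Set G) ∧
      StabilizesBlock (Subgroup.centralizer (Q : Set G)) f y)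
    [Fintype T] {F : Set (IrrCharacter T)} (hF : IsPBlock M F)
    (hbF : bFn hM T F = pFn hM Q f) :
    P ⊓ Subgroup.normalizer (Q : Set G) ≤ T ∧ ∃ D : Subgroup T, IsDefectGroup p M F D ∧
      (P ⊓ Subgroup.normalizer (Q : Set G)).subgroupOf T ≤ D := by
  haveI : Fact p.Prime := ⟨hM.1⟩
  obtain ⟨hCT, hQT, hTN, hkey⟩ := stab_facts hM hf hT
  have hQR : Q ≤ P ⊓ Subgroup.normalizer (Q : Set G) := le_inf hc.le Subgroup.le_normalizer
  obtain ⟨γ, hγ⟩ := Chain.exists_below hψ
    (inf_le_left : P ⊓ Subgroup.normalizer (Q : Set G) ≤ P)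
  obtain ⟨φ', hφ', -⟩ := existsUnique_nSub (hγ.pairFn hψ) hQR inf_le_right
  obtain rfl : φ' = pFn hM Q f := Chain.unique hψ (Relation.ReflTransGen.head hφ' hγ) hc
  obtain ⟨-, hγ', -, -, hinv, he⟩ := hφ'
  dsimp only at hinv he
  have hRT := (hkey _ inf_le_right).2 hinv
  refine ⟨hRT, ?_⟩
  obtain ⟨g, hg⟩ := Function.ne_iff.1 (show trc (P ⊓ Subgroup.normalizer (Q : Set G))
      (pFn hM Q f) ≠ 0 from fun h0 => by
    rw [h0, zero_gconv] at he
    exact hγ'.2.ne_zero he.symm)
  simp only [trc, Pi.zero_apply, ne_eq, ite_eq_right_iff, Classical.not_imp] at hg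
  have hgT : g ∈ T := hCT (Subgroup.centralizer_le hQR hg.1)
  refine exists_defectGroup_ge hM hF (hγ'.1.of_equiv (Subgroup.subgroupOfEquivOfLe hRT).symm)
    ⟨⟨g, hgT⟩, (mem_centralizer_subgroupOf hRT _).2 hg.1, ?_⟩
  rw [blockFn_eq_of_coe hF hbF]
  exact hg.2

/-- For a suitable conjugate of a pair, `N_P` is as large as a defect group of the stabiliser. -/
theorem exists_conj_normalizer_defect {B : Set (IrrCharacter G)} {P : Subgroup G}
    {ψ : G → ResField M} (hψ : MaxPair hM B P ψ) (hf : IsPBlock M f)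
    (hQ : PairIn hM B Q (pFn hM Q f))
    (hT : ∀ y : G, y ∈ T ↔ y ∈ Subgroup.normalizer (Q : Set G) ∧
      StabilizesBlock (Subgroup.centralizer (Q : Set G)) f y)
    [Fintype T] {F : Set (IrrCharacter T)} (hF : IsPBlock M F)
    (hbF : bFn hM T F = pFn hM Q f) :
    ∃ x : G, Chain hM (Q.map (MulAut.conj x).toMonoidHom, cnj x (pFn hM Q f)) (P, ψ) ∧
      p ^ blockDefect p F ≤
        Nat.card (P ⊓ Subgroup.normalizer
          ((Q.map (MulAut.conj x).toMonoidHom : Subgroup G) : Set G) : Subgroup G) := by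
  haveI : Fact p.Prime := ⟨hM.1⟩
  obtain ⟨hCT, hQT, hTN, hkey⟩ := stab_facts hM hf hT
  haveI : (Q.subgroupOf T).Normal := (Subgroup.normal_subgroupOf_iff_le_normalizer hQT).2 hTN
  obtain ⟨D, hD⟩ := exists_defectGroup hM hF
  have hQD : Q.subgroupOf T ≤ D := normal_pGroup_le_defectGroup hM (Q.subgroupOf T)
    (hQ.1.1.of_equiv (Subgroup.subgroupOfEquivOfLe hQT).symm) hF hD
  have hQR : Q ≤ D.map T.subtype := fun u hu => ⟨⟨u, hQT hu⟩, hQD hu, rfl⟩
  have hRT : D.map T.subtype ≤ T := Subgroup.map_subtype_le _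
  have hRp : IsPGroup p (D.map T.subtype) := IsPGroup.map (isPGroup_defectGroup hM hF hD) _
  have hfb : IsBlockFn hM (Subgroup.centralizer (Q : Set G)) (pFn hM Q f) := ⟨f, hf, rfl⟩
  have hinv : InvBy (D.map T.subtype) (pFn hM Q f) := (hkey _ (hRT.trans hTN)).1 hRT
  have hne : trc (D.map T.subtype) (pFn hM Q f) ≠ 0 := by
    obtain ⟨g, hg, he⟩ := brauerNonzero_defectGroup hM hF hD
    intro h0
    have h1 := congrFun h0 (g : G)
    rw [trc, Pi.zero_apply, if_pos, ← blockFn_eq_of_coe hF hbF] at h1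
    · exact he h1
    · refine Subgroup.mem_centralizer_iff.2 ?_
      rintro _ ⟨d, hd, rfl⟩
      exact congrArg Subtype.val (Subgroup.mem_centralizer_iff.1 hg d hd)
  obtain ⟨h1, h2, h3⟩ := trc_props hM hRp hinv
    (invBy_mono hfb.invBy (Subgroup.centralizer_le hQR)) hfb.mul_self
  obtain ⟨γ, hγ, he⟩ := exists_occ (hM := hM) h1 h2 h3 hne
  have hs : NSub hM (Q, pFn hM Q f) (D.map T.subtype, γ) :=
    ⟨hQ.1, ⟨hRp, hγ⟩, hQR, hRT.trans hTN, hinv, he⟩
  obtain ⟨x, hx⟩ := hψ.exists_conj_chain ((hs.pairIn_iff B).2 hQ)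
  have hsx := hs.cnj x
  refine ⟨x, Relation.ReflTransGen.head hsx hx, ?_⟩
  rw [← card_defectGroup hM hF hD,
    ← Subgroup.card_map_of_injective (f := T.subtype) (Subgroup.subtype_injective _),
    ← card_map_conj (D.map T.subtype) x]
  exact Subgroup.card_le_of_le (le_inf hx.le hsx.2.2.2.1)

/-- The block of the stabiliser of a conjugate pair has the same defect. -/
theorem blockDefect_stab_conj (hf : IsPBlock M f)
    (hT : ∀ y : G, y ∈ T ↔ y ∈ Subgroup.normalizer (Q : Set G) ∧
      StabilizesBlock (Subgroup.centralizer (Q : Set G)) f y)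
    [Fintype T] {F : Set (IrrCharacter T)} (hF : IsPBlock M F)
    (hbF : bFn hM T F = pFn hM Q f) (x : G) :
    ∃ F' : Set (IrrCharacter (T.map (MulAut.conj x).toMonoidHom : Subgroup G)),
      IsPBlock M F' ∧ blockDefect p F' = blockDefect p F ∧
      bFn hM (T.map (MulAut.conj x).toMonoidHom) F' =
        pFn hM (Q.map (MulAut.conj x).toMonoidHom) (conjBlock Q x f) ∧
      (∀ y : G, y ∈ T.map (MulAut.conj x).toMonoidHom ↔
        y ∈ Subgroup.normalizer ((Q.map (MulAut.conj x).toMonoidHom : Subgroup G) : Set G) ∧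
        StabilizesBlock
          (Subgroup.centralizer ((Q.map (MulAut.conj x).toMonoidHom : Subgroup G) : Set G))
          (conjBlock Q x f) y) := by
  have hmap : ∀ (S : Subgroup G) (g : G),
      g ∈ S.map (MulAut.conj x).toMonoidHom ↔ x⁻¹ * g * x ∈ S := fun S g => by
    constructor
    · rintro ⟨u, hu, rfl⟩
      simpa [mul_assoc] using hu
    · intro h
      exact ⟨_, h, by simp [mul_assoc]⟩
  obtain ⟨hb, hfn⟩ := conjSet_data hM (e := F) x (hmap T) hF
  obtain ⟨hcb, hcf⟩ := conjBlock_data hM x hf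
  refine ⟨_, hb, blockDefect_conjSet x (hmap T) F, by rw [hfn, hbF, hcf], fun y => ?_⟩
  rw [hmap, hT, stabilizesBlock_iff hM hf, stabilizesBlock_iff hM hcb,
    show bFn hM _ (conjBlock Q x f) = cnj x (pFn hM Q f) from hcf]
  have hN : x⁻¹ * y * x ∈ Subgroup.normalizer (Q : Set G) ↔
      y ∈ Subgroup.normalizer ((Q.map (MulAut.conj x).toMonoidHom : Subgroup G) : Set G) := by
    rw [Subgroup.mem_normalizer_iff, Subgroup.mem_normalizer_iff]
    constructor
    · intro h g
      rw [hmap, hmap, h]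
      simp [mul_assoc]
    · intro h g
      have := h (x * g * x⁻¹)
      rw [hmap, hmap] at this
      simpa [mul_assoc] using this
  have hfix : cnj (x⁻¹ * y * x) (pFn hM Q f) = pFn hM Q f ↔
      cnj y (cnj x (pFn hM Q f)) = cnj x (pFn hM Q f) := by
    constructor
    · intro h
      conv_rhs => rw [← h]
      rw [cnj_cnj, cnj_cnj]
      congr 1
      group
    · intro h
      have := congrArg (cnj x⁻¹) h
      simp only [cnj_cnj, inv_mul_cancel, cnj_one] at this
      rwa [mul_assoc]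
  rw [hfix]
  exact ⟨fun h => ⟨hN.1 h.1, mem_normalizer_centralizer (hN.1 h.1), h.2.2⟩,
    fun h => ⟨hN.2 h.1, mem_normalizer_centralizer (hN.2 h.1), h.2.2⟩⟩

end CfsgLib.Block
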