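import Cfsg.Agent.Lib.BlockGradedNil
import Cfsg.Agent.Lib.BlockHarrisKnorr
import Cfsg.Agent.Lib.BlockPairStab

/-!
# Every member of a covered block lies under the covering block
-/

set_option autoImplicit false
set_option linter.style.haveILetI false
set_option linter.unusedSectionVars false
set_option linter.unusedFintypeInType false

namespace CfsgLib.Block

open Cfsg CfsgLib.Char
open scoped ComplexConjugate Classical

universe u

variable {G : Type u} [Group G] [Fintype G] {p : ℕ} {M : Ideal AlgInt}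

theorem invBy_ext0_normal {R : Type*} [CommRing R] {N : Subgroup G} [hN : N.Normal] {f : N → R}
    (hf : ∀ g x, f (x * g * x⁻¹) = f g) : InvBy N (ext0 N f) := by
  intro k hk g
  by_cases hg : g ∈ N
  · rw [show k * g * k⁻¹ = (((⟨k, hk⟩ : N) * ⟨g, hg⟩ * ⟨k, hk⟩⁻¹ : N) : G) from rfl, ext0_coe, hf]
    exact (ext0_coe N f ⟨g, hg⟩).symm
  · have h' : k * g * k⁻¹ ∉ N := fun h => hg (by
      have := hN.conj_mem _ h k⁻¹
      rwa [show k⁻¹ * (k * g * k⁻¹) * k⁻¹⁻¹ = g by group] at this)
    simp [ext0, hg, h']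

theorem conj_coef_indVal (A : Set (IrrCharacter G)) (g : G) :
    conj (coef (indVal A) g) = coef (indVal A) g⁻¹ := by
  simp only [coef, map_mul, map_inv₀, map_natCast, map_sum]
  congr 1
  refine Finset.sum_congr rfl fun χ _ => ?_
  have h1 : conj (indVal A χ) = indVal A χ := by unfold indVal; split_ifs <;> simp
  rw [h1, irr_conj_one, isCharacter_inv_eq_conj χ.2.isCharacter', Complex.conj_conj]

theorem gconv_coef_mul (v w : IrrCharacter G → ℂ) :
    gconv (coef v) (coef w) = coef (v * w) := by rw [coef_mul]; rfl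

/-- A member of a block of a normal subgroup under no member of a block is annihilated by its
idempotent. -/
theorem gconv_coef_eq_zero {N : Subgroup G} [hN : N.Normal] [Fintype N]
    {B : Set (IrrCharacter G)} {θ : IrrCharacter N}
    (h : ∀ χ ∈ B, classInner (fun n : N => (χ : G → ℂ) n) (θ : N → ℂ) = 0) :
    gconv (coef (indVal B)) (ext0 N (coef (indVal ({θ} : Set (IrrCharacter N))))) = 0 := by
  set E := coef (indVal B) with hE
  set ε := ext0 N (coef (indVal ({θ} : Set (IrrCharacter N)))) with hε
  have hEinv : InvBy N E := fun k _ g => coef_classFunction _ g k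
  have hεsupp : ∀ g, g ∉ N → ε g = 0 := fun g hg => dif_neg hg
  have hcomm : gconv ε E = gconv E ε := gconv_comm_of_supp hεsupp hEinv
  have hEE : gconv E E = E := by
    rw [hE, gconv_coef_mul]
    congr 1
    funext χ
    simp [indVal]
  have hεε : gconv ε ε = ε := by
    rw [hε, ← ext0_gconv, gconv_coef_mul]
    congr 2
    funext χ
    simp [indVal]
  set f := gconv E ε with hf
  have hff : gconv f f = f := by
    rw [hf, gconv_assoc, ← gconv_assoc ε, hcomm, gconv_assoc, hεε, ← gconv_assoc, hEE]
  have hεconj : ∀ g, conj (ε g) = ε g⁻¹ := fun g => by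
    by_cases hg : g ∈ N
    · rw [show g⁻¹ = (((⟨g, hg⟩ : N)⁻¹ : N) : G) from rfl, hε, ext0_coe]
      rw [show ext0 N (coef (indVal ({θ} : Set (IrrCharacter N)))) g =
        coef (indVal ({θ} : Set (IrrCharacter N))) ⟨g, hg⟩ from dif_pos hg]
      exact conj_coef_indVal _ _
    · rw [hεsupp g hg, hεsupp g⁻¹ (fun h' => hg (by simpa using inv_mem h')), map_zero]
  have hfconj : ∀ g, conj (f g) = f g⁻¹ := by
    intro g
    have e : conj (f g) = gconv ε E g⁻¹ := by
      simp only [hf, gconv, map_sum, map_mul, hεconj, hE, conj_coef_indVal]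
      refine Fintype.sum_equiv (Equiv.mulLeft g⁻¹) _ _ fun y => ?_
      simp only [Equiv.coe_mulLeft]
      rw [mul_comm]
      congr 2
      · group
      · group
    rw [e, hcomm]
  have hf1 : f 1 = 0 := by
    have e : f 1 = ∑ g, E g * ε g⁻¹ := by simp [hf, gconv]
    rw [e]
    have e2 : ∀ g, E g * ε g⁻¹ = ext0 N (fun n : N => E n *
        ((Nat.card N : ℂ)⁻¹ * (θ : N → ℂ) 1 * (θ : N → ℂ) n)) g := fun g => by
      by_cases hg : g ∈ N
      · rw [show ext0 N (fun n : N => E n * ((Nat.card N : ℂ)⁻¹ * (θ : N → ℂ) 1 * (θ : N → ℂ) n)) g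
            = _ from dif_pos hg]
        rw [show g⁻¹ = (((⟨g, hg⟩ : N)⁻¹ : N) : G) from rfl, hε, ext0_coe]
        congr 1
        simp only [coef, indVal, Set.mem_singleton_iff, ite_mul, one_mul, zero_mul,
          Finset.sum_ite_eq', Finset.mem_univ, if_true]
        rw [isCharacter_inv_eq_conj θ.2.isCharacter', Complex.conj_conj, mul_assoc]
      · rw [show ext0 N (fun n : N => E n * ((Nat.card N : ℂ)⁻¹ * (θ : N → ℂ) 1 * (θ : N → ℂ) n)) g
            = 0 from dif_neg hg, hεsupp _ (fun h' => hg (by simpa using inv_mem h')), mul_zero]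
    rw [Finset.sum_congr rfl fun g _ => e2 g, sum_ext0]
    simp only [hE, coef, Finset.mul_sum, Finset.sum_mul]
    rw [Finset.sum_comm]
    refine Finset.sum_eq_zero fun χ _ => ?_
    by_cases hχ : χ ∈ B
    · have hc := congrArg conj (h χ hχ)
      simp only [classInner, map_mul, map_inv₀, map_natCast, map_sum, map_zero,
        Complex.conj_conj] at hc
      rw [← mul_right_inj' (a := (Nat.card N : ℂ)⁻¹) (inv_ne_zero (natCard_ne_zero N)),
        mul_zero, Finset.mul_sum]
      calc _ = (Nat.card G : ℂ)⁻¹ * (Nat.card N : ℂ)⁻¹ * (χ : G → ℂ) 1 * (θ : N → ℂ) 1 *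
            ((Nat.card N : ℂ)⁻¹ * ∑ n : N, conj ((χ : G → ℂ) n) * (θ : N → ℂ) n) := by
            simp only [Finset.mul_sum]
            refine Finset.sum_congr rfl fun n _ => ?_
            simp only [indVal, hχ, if_true]
            ring
        _ = 0 := by rw [hc, mul_zero]
    · exact Finset.sum_eq_zero fun n _ => by simp [indVal, hχ]
  have hsum : ((∑ g, Complex.normSq (f g) : ℝ) : ℂ) = 0 := by
    rw [← hf1]
    conv_rhs => rw [← hff]
    simp only [gconv, mul_one, Complex.ofReal_sum, Complex.normSq_eq_conj_mul_self]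
    refine Finset.sum_congr rfl fun g _ => ?_
    rw [hfconj]
    ring
  have h' := Complex.ofReal_eq_zero.1 hsum
  rw [Finset.sum_eq_zero_iff_of_nonneg fun g _ => Complex.normSq_nonneg _] at h'
  funext g
  exact Complex.normSq_eq_zero.1 (h' g (Finset.mem_univ g))

/-- **Every member of a covered block lies under some member of the covering block.** -/
theorem exists_over_of_covers [Fact p.Prime] (hM : IsPModular p M) {N : Subgroup G}
    [hN : N.Normal] [Fintype N] {B : Set (IrrCharacter G)} (hB : IsPBlock M B)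
    {b : Set (IrrCharacter N)} (hb : IsPBlock M b) (hcov : ∃ χ ∈ B, ∃ φ ∈ b, Over N χ φ)
    {θ : IrrCharacter N} (hθ : θ ∈ b) : ∃ χ ∈ B, Over N χ θ := by
  by_contra hno
  push Not at hno
  have hzero : ∀ χ ∈ B, classInner (fun n : N => (χ : G → ℂ) n) (θ : N → ℂ) = 0 := fun χ hχ => by
    have := hno χ hχ
    simpa [Over] using this
  set β := bFn hM N b with hβ
  set εt := ext0 N (coef (indVal ({θ} : Set (IrrCharacter N)))) with hεt
  set εb := ext0 N (coef (indVal b)) with hεb
  set E := coef (indVal B) with hE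
  let K : (G → ResField M) → Prop := fun a => InvBy N a ∧ gconv β a = a ∧ gconv a β = a ∧
    ∃ (A : G → ℂ) (hA : ∀ g, A g ∈ locRing hM), InvBy N A ∧
      (∀ g, res hM ⟨A g, hA g⟩ = a g) ∧ gconv A εt = 0
  have hres : ∀ (A A' : G → ℂ) (hA : ∀ g, A g ∈ locRing hM) (hA' : ∀ g, A' g ∈ locRing hM) (g : G),
      ∃ h : gconv A A' g ∈ locRing hM, res hM ⟨_, h⟩ =
        gconv (fun x => res hM ⟨A x, hA x⟩) (fun x => res hM ⟨A' x, hA' x⟩) g := by
    intro A A' hA hA' g
    refine ⟨sum_mem fun y _ => mul_mem (hA y) (hA' _), ?_⟩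
    show _ = ∑ y, _ * _
    rw [← Finset.sum_congr rfl fun y _ => map_mul (res hM) ⟨A y, hA y⟩ ⟨A' (y⁻¹ * g), hA' _⟩,
      ← map_sum]
    congr 1
    apply Subtype.ext
    simp [gconv]
  have hK : NilClass hM N β K := by
    refine ⟨fun a ha => ha.1, fun a ha => ⟨ha.2.1, ha.2.2.1⟩, ?_, ?_⟩
    · rintro a a' ⟨hi, hl, -, A, hA, hAi, hAr, -⟩ ⟨hi', -, hr', A', hA', hAi', hAr', hA0'⟩
      refine ⟨invBy_gconv hi hi', by rw [← gconv_assoc, hl], by rw [gconv_assoc, hr'],
        gconv A A', fun g => (hres A A' hA hA' g).1, invBy_gconv hAi hAi', fun g => ?_,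
        by rw [gconv_assoc, hA0', gconv_zero]⟩
      rw [(hres A A' hA hA' g).2]
      exact congrArg₂ (fun s t => gconv s t g) (funext hAr) (funext hAr')
    · rintro a ⟨hi, hl, hr, A, hA, hAi, hAr, hA0⟩ hsupp v hv η
      have hAcl : IsClassFunction N (fun k : N => A k) := fun g x => hAi x x.2 g
      have hv' : cred hM v = cred hM (ofFun hM (fun k : N => A k) hAcl fun k => hA k) := by
        funext k
        rw [hv, cred_ofFun]
        exact (hAr k).symm
      have hθ0 : ev hM θ v = 0 := by
        rw [ev_congr_cred hM hv']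
        refine (congrArg (res hM) (Subtype.ext ?_)).trans (map_zero (res hM))
        show om (θ : N → ℂ) (fun k : N => A k) = 0
        have h1 := congrFun hA0 1
        simp only [gconv, mul_one, Pi.zero_apply] at h1
        have e2 : ∀ g, A g * εt g⁻¹ = ext0 N (fun n : N => A n *
            ((Nat.card N : ℂ)⁻¹ * (θ : N → ℂ) 1 * (θ : N → ℂ) n)) g := fun g => by
          by_cases hg : g ∈ N
          · rw [show ext0 N (fun n : N => A n * ((Nat.card N : ℂ)⁻¹ * (θ : N → ℂ) 1 *
                (θ : N → ℂ) n)) g = _ from dif_pos hg]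
            rw [show g⁻¹ = (((⟨g, hg⟩ : N)⁻¹ : N) : G) from rfl, hεt, ext0_coe]
            congr 1
            simp only [coef, indVal, Set.mem_singleton_iff, ite_mul, one_mul, zero_mul,
              Finset.sum_ite_eq', Finset.mem_univ, if_true]
            rw [isCharacter_inv_eq_conj θ.2.isCharacter', Complex.conj_conj, mul_assoc]
          · rw [show ext0 N (fun n : N => A n * ((Nat.card N : ℂ)⁻¹ * (θ : N → ℂ) 1 *
                (θ : N → ℂ) n)) g = 0 from dif_neg hg,
              show εt g⁻¹ = 0 from dif_neg (fun h' => hg (by simpa using inv_mem h')), mul_zero]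
        rw [Finset.sum_congr rfl fun g _ => e2 g, sum_ext0] at h1
        have h2 : ((Nat.card N : ℂ)⁻¹ * (θ : N → ℂ) 1) * ∑ n : N, A n * (θ : N → ℂ) n = 0 := by
          rw [← h1, Finset.mul_sum]
          exact Finset.sum_congr rfl fun n _ => by ring
        rw [om, (mul_eq_zero.1 h2).resolve_left
          (mul_ne_zero (inv_ne_zero (natCard_ne_zero N)) (irr_one_ne_zero θ)), zero_div]
      by_cases hη : η ∈ b
      · rw [ev_eq_of_mem hM hb hη hθ, hθ0]
      · have hve : cred hM (v * bIdem hM hb) = cred hM v := by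
          apply ext0_injective N
          rw [cred_mul_eq_gconv, ext0_gconv, hv, ext0_restrict hsupp, ← gFn_block hM hb,
            ← bFn_eq_ext0, hr]
        have := ev_congr_cred hM hve η
        rw [map_mul, ev_bIdem, if_neg hη, mul_zero] at this
        exact this.symm
  have hEmem : ∀ g, E g ∈ locRing hM := indVal_mem hM hB
  have hbmem : ∀ g, εb g ∈ locRing hM := fun g => by
    by_cases hg : g ∈ N
    · rw [show εb g = coef (indVal b) ⟨g, hg⟩ from dif_pos hg]
      exact indVal_mem hM hb _
    · rw [show εb g = 0 from dif_neg hg]; exact zero_mem _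
  set x := gconv (gFn hM B) β with hx
  have hxne : x ≠ 0 := by
    obtain ⟨χ, hχ, φ, hφ, hov⟩ := hcov
    exact gconv_bFn_ne_zero hM hb hB hχ hφ hov
  have hβb : IsBlockFn hM N β := ⟨b, hb, rfl⟩
  have hcomm : gconv β (gFn hM B) = gconv (gFn hM B) β :=
    gconv_comm_of_supp (K := N) (fun g hg => hβb.supp hg) (invBy_gFn hM B N)
  have hxx : gconv x x = x := by
    rw [hx, gconv_assoc, ← gconv_assoc β, hcomm, gconv_assoc, hβb.mul_self, ← gconv_assoc,
      gFn_mul_self hB]
  have hA0 : gconv (gconv E εb) εt = 0 := by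
    rw [gconv_assoc]
    have e : gconv εb εt = εt := by
      rw [hεb, hεt, ← ext0_gconv, gconv_coef_mul]
      congr 2
      funext η
      by_cases hη : η = θ
      · subst hη; simp [indVal, hθ]
      · simp [indVal, hη]
    rw [e]
    exact gconv_coef_eq_zero hzero
  have hEi : InvBy N E := fun k _ g => coef_classFunction _ g k
  have hbi : InvBy N εb := invBy_ext0_normal fun g y => coef_classFunction _ g y
  have hAres : ∀ g, res hM ⟨gconv E εb g, (hres E εb hEmem hbmem g).1⟩ = x g := fun g => by
    rw [(hres E εb hEmem hbmem g).2]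
    refine congrArg₂ (fun s t => gconv s t g) (funext fun y => ?_) (funext fun y => ?_)
    · rw [gFn_block hM hB]; rfl
    · simp only [hεb, hβ, bFn_eq_ext0]
      by_cases hy : y ∈ N
      · rw [show ext0 N (gFn hM b) y = gFn hM b ⟨y, hy⟩ from dif_pos hy, gFn_block hM hb]
        exact congrArg (res hM) (Subtype.ext (dif_pos hy))
      · rw [show ext0 N (gFn hM b) y = 0 from dif_neg hy, ← map_zero (res hM)]
        exact congrArg (res hM) (Subtype.ext (dif_neg hy))
  have hxK : K x := ⟨invBy_gconv (invBy_gFn hM B N) hβb.invBy,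
    by rw [hx, ← gconv_assoc, hcomm, gconv_assoc, hβb.mul_self],
    by rw [hx, gconv_assoc, hβb.mul_self],
    gconv E εb, fun g => (hres E εb hEmem hbmem g).1, invBy_gconv hEi hbi, hAres, hA0⟩
  have hinvq : ∀ {k g : G}, k ∈ N → ((k * g * k⁻¹ : G) : G ⧸ N) = g := fun {k g} hk => by
    rw [QuotientGroup.mk_mul, QuotientGroup.mk_mul, (QuotientGroup.eq_one_iff k).2 hk,
      (QuotientGroup.eq_one_iff _).2 (inv_mem hk), one_mul, mul_one]
  -- components of products with functions supported in `N`
  have hright : ∀ {R : Type} [CommRing R] (a c : G → R), (∀ g, g ∉ N → c g = 0) → ∀ (q : G ⧸ N) (g : G),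
      gconv (fun y : G => if (y : G ⧸ N) = q then a y else 0) c g =
        if (g : G ⧸ N) = q then gconv a c g else 0 := by
    intro R _ a c hc q g
    simp only [gconv]
    by_cases hq : (g : G ⧸ N) = q
    · rw [if_pos hq]
      refine Finset.sum_congr rfl fun y _ => ?_
      by_cases hy : y⁻¹ * g ∈ N
      · rw [if_pos (by rw [← hq, QuotientGroup.eq]; exact hy)]
      · rw [hc _ hy, mul_zero, mul_zero]
    · rw [if_neg hq]
      refine Finset.sum_eq_zero fun y _ => ?_
      by_cases hy : y⁻¹ * g ∈ N
      · rw [if_neg (fun h => hq (by rw [← h]; exact (QuotientGroup.eq.2 hy).symm)), zero_mul]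
      · rw [hc _ hy, mul_zero]
  have hleft : ∀ (a c : G → ResField M), (∀ g, g ∉ N → c g = 0) → InvBy N a → ∀ q,
      gconv c (cosetPart N a q) = gconv (cosetPart N a q) c := fun a c hc ha q =>
    gconv_comm_of_supp hc fun k hk g => by simp only [cosetPart, hinvq hk, ha k hk g]
  have hcomp : ∀ q, K (cosetPart N x q) := by
    intro q
    have hr : gconv (cosetPart N x q) β = cosetPart N x q := funext fun g => by
      unfold cosetPart
      rw [hright x β (fun g hg => hβb.supp hg) q g, hxK.2.2.1]
    refine ⟨fun k hk g => by simp only [cosetPart, hinvq hk, hxK.1 k hk g],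
      by rw [hleft x β (fun g hg => hβb.supp hg) hxK.1 q, hr], hr,
      fun g => if (g : G ⧸ N) = q then gconv E εb g else 0,
      fun g => by
        show (if (g : G ⧸ N) = q then gconv E εb g else 0) ∈ locRing hM
        split_ifs <;> first | exact (hres E εb hEmem hbmem g).1 | exact zero_mem _,
      fun k hk g => by simp only [hinvq hk, invBy_gconv hEi hbi k hk g], fun g => ?_, ?_⟩
    · simp only [cosetPart]
      by_cases hg : (g : G ⧸ N) = q
      · refine Eq.trans ?_ (if_pos hg).symm
        rw [← hAres g]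
        exact congrArg (res hM) (Subtype.ext (if_pos hg))
      · refine Eq.trans ?_ (if_neg hg).symm
        rw [← map_zero (res hM)]
        exact congrArg (res hM) (Subtype.ext (if_neg hg))
    · funext g
      rw [hright (gconv E εb) εt (fun g hg => dif_neg hg) q g, hA0]
      simp
  exact hxne (NilClass.eq_zero_of_idem hM hb hK hxx hxK hcomp)

end CfsgLib.Block
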