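import Cfsg.Agent.Lib.BlockCoveringDefect
import Cfsg.Agent.Lib.BlockBound
import Cfsg.Agent.Lib.BlockPrincipal

/-!
# Blocks over a normal subgroup of prime power index and over a normal `p'`-subgroup
-/

set_option autoImplicit false

universe u

namespace CfsgLib.Block

open Cfsg CfsgLib.Char
open scoped Classical

variable {G : Type u} [Group G] [Fintype G] {p : ℕ} {M : Ideal AlgInt}

/-- Blocks of a group of order prime to `p` are singletons. -/
theorem eq_singleton_of_coprime (hM : IsPModular p M) (hG : ¬ p ∣ Nat.card G)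
    {b : Set (IrrCharacter G)} (hb : IsPBlock M b) {θ : IrrCharacter G} (hθ : θ ∈ b) : b = {θ} := by
  have hone : Nat.card b ≤ 1 := by
    refine (card_block_le hM hb).trans ?_
    have : blockDefect p b = 0 := by
      rw [blockDefect_eq, Nat.factorization_eq_zero_of_not_dvd hG, Nat.zero_sub]
    rw [this]
    norm_num
  refine Set.eq_singleton_iff_unique_mem.2 ⟨hθ, fun η hη => ?_⟩
  haveI := Finite.card_le_one_iff_subsingleton.1 hone
  exact congrArg Subtype.val (Subsingleton.elim (⟨η, hη⟩ : b) ⟨θ, hθ⟩)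

variable [Fact p.Prime]

/-- Only one block covers a given block of a normal subgroup of prime power index. -/
theorem eq_of_covers_pPower_index (hM : IsPModular p M) {N : Subgroup G} [hN : N.Normal] [Fintype N]
    (hidx : ∃ k, N.index = p ^ k) {b : Set (IrrCharacter N)} (hb : IsPBlock M b)
    {B B' : Set (IrrCharacter G)} (hB : IsPBlock M B) (hB' : IsPBlock M B')
    (hcov : ∃ χ ∈ B, ∃ θ ∈ b, Over N χ θ) (hcov' : ∃ χ ∈ B', ∃ θ ∈ b, Over N χ θ) : B = B' := by
  obtain ⟨k, hk⟩ := hidx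
  have hreg : ∀ g : G, ¬ p ∣ orderOf g → g ∈ N := by
    intro g hg
    rw [← QuotientGroup.eq_one_iff, ← orderOf_eq_one_iff]
    refine Nat.eq_one_of_dvd_coprimes (((hM.1.coprime_iff_not_dvd).2 hg).symm.pow_right k)
      (orderOf_map_dvd (QuotientGroup.mk' N) g) ?_
    rw [← hk, Subgroup.index]
    exact orderOf_dvd_natCard _
  have key : ∀ C, IsPBlock M C → (∃ χ ∈ C, ∃ θ ∈ b, Over N χ θ) →
      gconv (gFn hM C) (bFn hM N b) = bFn hM N b := by
    rintro C hC ⟨χ, hχ, θ, hθ, hover⟩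
    have hsupp : ∀ g, g ∉ N → gFn hM C g = 0 := fun g hg => by
      rw [gFn_block hM hC]
      exact cred_bIdem_singular hM hC (by_contra fun h => hg (hreg g h))
    have hβ : IsBlockFn hM N (bFn hM N b) := ⟨b, hb, rfl⟩
    rcases hβ.occ_or hsupp (invBy_gFn hM C N) (by rw [gFn_mul_gFn hM hC hC, if_pos rfl]) with h | h
    · exact h
    · exact absurd h (gconv_bFn_ne_zero hM hb hC hχ hθ hover)
  have hβ : IsBlockFn hM N (bFn hM N b) := ⟨b, hb, rfl⟩
  by_contra hne
  refine hβ.ne_zero ?_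
  rw [← key B hB hcov, ← key B' hB' hcov', ← gconv_assoc, gFn_mul_gFn hM hB hB', if_neg hne,
    zero_gconv]

/-- If one member of a block is trivial on a normal `p'`-subgroup then so are all. -/
theorem apply_eq_of_ker (hM : IsPModular p M) {N : Subgroup G} [hN : N.Normal]
    (hN' : ¬ p ∣ Nat.card N) {B : Set (IrrCharacter G)} (hB : IsPBlock M B) {χ₀ χ : IrrCharacter G}
    (hχ₀ : χ₀ ∈ B) (hker : ∀ n ∈ N, (χ₀ : G → ℂ) n = (χ₀ : G → ℂ) 1) (hχ : χ ∈ B) {n : G}
    (hn : n ∈ N) : (χ : G → ℂ) n = (χ : G → ℂ) 1 := by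
  haveI := Fintype.ofFinite N
  have hover : Over N χ₀ (trivIrr N) := by
    show classInner (fun n : N => (χ₀ : G → ℂ) n) (fun _ => 1) ≠ 0
    rw [show (fun n : N => (χ₀ : G → ℂ) n) = (χ₀ : G → ℂ) 1 • fun _ : N => (1 : ℂ) from
      funext fun n => by simp [hker n n.2], CfsgLib.Char.inner_smul_left,
      irr_inner_self (isIrrCharacter_one (G := N)), mul_one]
    exact irr_one_ne_zero χ₀
  have hb := eq_singleton_of_coprime hM hN' (isPBlock_principal (G := N) M) (trivIrr_mem_principal hM)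
  obtain ⟨η, hη⟩ := exists_over (N := N) χ
  obtain ⟨g, θ', hθ', e⟩ := mem_orbitSet_of_covers hM hB
    (isPBlock_principal (G := N) M) hχ₀ (trivIrr_mem_principal hM) hover hχ hη
  rw [hb, Set.mem_singleton_iff] at hθ'
  subst hθ'
  have hT : Over N χ (trivIrr N) := (over_conj g e).1 hη
  have horb : ∀ φ ∈ conjOrbit ((trivIrr N : IrrCharacter N) : N → ℂ), φ = fun _ : N => (1 : ℂ) := by
    intro φ hφ
    obtain ⟨x, rfl⟩ := mem_conjOrbit.1 hφ
    rfl
  have hc := clifford χ.2 (trivIrr N).2 hT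
  have h1 := congrFun hc ⟨n, hn⟩
  have h2 := congrFun hc 1
  simp only [Pi.smul_apply, Finset.sum_apply, smul_eq_mul, OneMemClass.coe_one] at h1 h2
  rw [h1, h2]
  exact congrArg _ (Finset.sum_congr rfl fun φ hφ => by rw [horb φ hφ])

/-- Normal subgroups of order prime to `p` lie in the kernel of the principal block. -/
theorem apply_eq_of_principal (hM : IsPModular p M) {N : Subgroup G} [hN : N.Normal]
    (hN' : ¬ p ∣ Nat.card N) {χ : IrrCharacter G} (hχ : χ ∈ principalBlock M G) {n : G}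
    (hn : n ∈ N) : (χ : G → ℂ) n = (χ : G → ℂ) 1 :=
  apply_eq_of_ker hM hN' (isPBlock_principal M) (trivIrr_mem_principal hM) (fun _ _ => rfl) hχ hn

end CfsgLib.Block
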