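import Cfsg.Agent.Lib.BlockPairLocal
import Cfsg.Agent.Lib.CharNormal
import Cfsg.Agent.Lib.CharClifford

/-!
# Blocks covering blocks of normal subgroups, and blocks of induced characters
-/

set_option autoImplicit false
set_option linter.style.haveILetI false
set_option linter.unusedSectionVars false
set_option linter.unusedFintypeInType false

namespace CfsgLib.Block

open Cfsg CfsgLib.Char
open scoped ComplexConjugate Classical

universe u

variable {G : Type u} [Group G] [Fintype G] {p : ℕ} {M : Ideal AlgInt}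

section Covering

variable {N : Subgroup G} [hN : N.Normal] [Fintype N]

/-- `θ` lies under `χ`. -/
def Over (N : Subgroup G) [Fintype N] (χ : IrrCharacter G) (θ : IrrCharacter N) : Prop :=
  classInner (fun n : N => (χ : G → ℂ) n) (θ : N → ℂ) ≠ 0

/-- The conjugates of a set of characters of a normal subgroup. -/
def orbitSet (A : Set (IrrCharacter N)) : Set (IrrCharacter N) :=
  {ψ | ∃ g : G, ∃ θ ∈ A, (ψ : N → ℂ) = conjFn g (θ : N → ℂ)}

/-- The characters whose constituents all lie in a given set. -/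
def covSet (A : Set (IrrCharacter N)) : Set (IrrCharacter G) := {χ | ∀ θ, Over N χ θ → θ ∈ A}

theorem orbitSet_orbitSet' (A : Set (IrrCharacter N)) : orbitSet (G := G) (orbitSet A) ⊆ orbitSet A := by
  rintro ψ ⟨g, θ, ⟨x, η, hη, hθ⟩, hψ⟩
  exact ⟨x * g, η, hη, by rw [hψ, hθ, ← conjFn_mul]⟩

theorem exists_over (χ : IrrCharacter G) : ∃ θ : IrrCharacter N, Over N χ θ := by
  obtain ⟨θ, hθ, h⟩ := exists_irr_under (H := N) χ.2
  exact ⟨⟨θ, hθ⟩, h⟩

theorem exists_conj_of_over {χ : IrrCharacter G} {θ φ : IrrCharacter N} (h₁ : Over N χ θ)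
    (h₂ : Over N χ φ) : ∃ g : G, (φ : N → ℂ) = conjFn g (θ : N → ℂ) := by
  have h := congrArg (fun f : N → ℂ => classInner f (φ : N → ℂ)) (clifford χ.2 θ.2 h₁)
  by_contra hne
  push Not at hne
  refine h₂ ?_
  simp only [CfsgLib.Char.inner_smul_left] at h
  rw [h, inner_sum_left, Finset.sum_eq_zero fun ψ hψ => ?_, mul_zero]
  obtain ⟨g, rfl⟩ := mem_conjOrbit.1 hψ
  exact irr_inner_ne (isIrrCharacter_conjFn θ.2 g) φ.2 fun e => hne g e.symm

/-- Central functions supported on the normal subgroup act through the constituents. -/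
theorem om_over {f : G → ℂ} (hf : IsClassFunction G f) (hsupp : ∀ g, g ∉ N → f g = 0)
    {χ : IrrCharacter G} {θ : IrrCharacter N} (h : Over N χ θ) :
    om (χ : G → ℂ) f = om (θ : N → ℂ) (fun n : N => f n) := by
  have hsum : ∑ g, f g * (χ : G → ℂ) g = ∑ n : N, f n * (χ : G → ℂ) n := by
    rw [← sum_extendByZero N (fun n : N => f n) (χ : G → ℂ)]
    refine Finset.sum_congr rfl fun g _ => ?_
    by_cases hg : g ∈ N
    · rw [extendByZero_mem _ hg]
    · rw [extendByZero_not_mem _ hg, hsupp g hg]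
  have hconj : ∀ φ ∈ conjOrbit (θ : N → ℂ), ∑ n : N, f n * φ n = ∑ n : N, f n * (θ : N → ℂ) n := by
    intro φ hφ
    obtain ⟨g, rfl⟩ := mem_conjOrbit.1 hφ
    refine Fintype.sum_equiv (MulAut.conjNormal g : MulAut N).toEquiv _ _ fun n => ?_
    rw [conjFn_eq_comp]
    show f n * _ = f ((MulAut.conjNormal g n : N) : G) * _
    rw [MulAut.conjNormal_apply, hf (n : G) g]
    rfl
  have hcl := clifford χ.2 θ.2 h
  have hn : ∑ n : N, f n * (χ : G → ℂ) n = classInner (fun n : N => (χ : G → ℂ) n) (θ : N → ℂ) *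
      ((conjOrbit (θ : N → ℂ)).card * ∑ n : N, f n * (θ : N → ℂ) n) := by
    rw [← nsmul_eq_mul, ← Finset.sum_const, ← Finset.sum_congr rfl hconj, Finset.sum_comm,
      Finset.mul_sum]
    refine Finset.sum_congr rfl fun n _ => ?_
    rw [congrFun hcl n, Pi.smul_apply, smul_eq_mul, Finset.sum_apply, ← Finset.mul_sum]
    ring
  rw [om, om, hsum, hn, clifford_degree χ.2 θ.2 h, ← card_conjOrbit_eq_index]
  have h0 : ((conjOrbit (θ : N → ℂ)).card : ℂ) ≠ 0 :=
    Nat.cast_ne_zero.2 (Finset.card_ne_zero.2 ⟨_, self_mem_conjOrbit _⟩)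
  have h1 := irr_one_ne_zero θ
  have h2 : classInner (fun n : N => (χ : G → ℂ) n) (θ : N → ℂ) ≠ 0 := h
  field_simp

/-- The central character on the normal subgroup. -/
theorem centralChar_over {χ : IrrCharacter G} {θ : IrrCharacter N} (h : Over N χ θ) (n : N) :
    centralChar (χ : G → ℂ) (n : G) = inducedCentralChar N (θ : N → ℂ) (n : G) := by
  rw [centralChar_eq_om, om_over (classInd_classFunction _) (fun g hg => if_neg fun hc => hg ?_) h,
    inducedCentralChar, finsum_mem_def]
  · simp only [finsum_eq_sum_of_fintype, om, Finset.sum_div]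
    refine Finset.sum_congr rfl fun m _ => ?_
    rw [Set.indicator_apply]
    by_cases hc : IsConj (n : G) (m : G)
    · simp only [classInd, Set.mem_ofPred_eq, hc, if_true, one_mul]
    · simp only [classInd, Set.mem_ofPred_eq, hc, if_false, zero_mul, zero_div]
  · obtain ⟨x, hx⟩ := isConj_iff.1 hc
    exact hx ▸ hN.conj_mem _ n.2 x

/-- The coefficients of the covering idempotent of an invariant set. -/
theorem coef_covSet {A : Set (IrrCharacter N)} (hinv : orbitSet A ⊆ A) :
    coef (indVal (covSet (G := G) A)) = extendByZero N (coef (indVal A)) := by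
  set e := coef (indVal A) with he
  set f : G → ℂ := fun g => if h : g ∈ N then e ⟨g, h⟩ else 0 with hf
  have hsupp : ∀ g, g ∉ N → f g = 0 := fun g hg => dif_neg hg
  have hiff : ∀ (φ : IrrCharacter N) (g : G) (φ' : IrrCharacter N),
      (φ' : N → ℂ) = conjFn g (φ : N → ℂ) → (φ ∈ A ↔ φ' ∈ A) := by
    refine fun φ g φ' h => ⟨fun hA' => hinv ⟨g, φ, hA', h⟩, fun hA' => hinv ⟨g⁻¹, φ', hA', ?_⟩⟩
    rw [h, ← conjFn_mul, mul_inv_cancel, conjFn_one]
  have hinve : ∀ (g : G) (n : N), e ⟨g * n * g⁻¹, hN.conj_mem n n.2 g⟩ = e n := by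
    intro g n
    have h : (fun m : N => e ⟨g * m * g⁻¹, hN.conj_mem m m.2 g⟩) = e := by
      have hcl : IsClassFunction N (fun m : N => e ⟨g * m * g⁻¹, hN.conj_mem m m.2 g⟩) := fun a b => by
        show coef (indVal A) _ = coef (indVal A) _
        rw [← coef_classFunction (indVal A) ⟨g * (a : G) * g⁻¹, hN.conj_mem a a.2 g⟩
          ⟨g * (b : G) * g⁻¹, hN.conj_mem b b.2 g⟩]
        exact congrArg (coef (indVal A)) (Subtype.ext (show g * ((b : G) * a * (b : G)⁻¹) * g⁻¹ =
          g * (b : G) * g⁻¹ * (g * a * g⁻¹) * (g * (b : G) * g⁻¹)⁻¹ by group))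
      rw [← coef_om hcl, he]
      congr 1
      funext φ
      set φ' : IrrCharacter N := ⟨conjFn g⁻¹ (φ : N → ℂ), isIrrCharacter_conjFn φ.2 g⁻¹⟩
      have hsame : om (φ : N → ℂ) (fun m : N => e ⟨g * m * g⁻¹, hN.conj_mem m m.2 g⟩) =
          om (φ' : N → ℂ) e := by
        rw [om, om, show (φ' : N → ℂ) 1 = (φ : N → ℂ) 1 from conjFn_apply_one _ _]
        congr 1
        refine Fintype.sum_equiv (MulAut.conjNormal g : MulAut N).toEquiv _ _ fun m => ?_
        show _ = e (MulAut.conjNormal g m) * conjFn g⁻¹ (φ : N → ℂ) (MulAut.conjNormal g m)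
        congr 1
        show (φ : N → ℂ) m = (φ : N → ℂ) _
        refine congrArg _ (Subtype.ext ?_)
        show (m : G) = g⁻¹ * (MulAut.conjNormal g m : N) * g⁻¹⁻¹
        rw [MulAut.conjNormal_apply]
        group
      rw [hsame, he, om_coef]
      simp only [indVal, hiff φ g⁻¹ φ' rfl]
    exact congrFun h n
  have hfc : IsClassFunction G f := fun g x => by
    by_cases hg : g ∈ N
    · rw [hf]
      simp only [dif_pos hg, dif_pos (hN.conj_mem g hg x)]
      exact hinve x ⟨g, hg⟩
    · have : x * g * x⁻¹ ∉ N := fun h => hg (by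
        have := hN.conj_mem _ h x⁻¹
        rwa [show x⁻¹ * (x * g * x⁻¹) * x⁻¹⁻¹ = g by group] at this)
      rw [hsupp g hg, hsupp _ this]
  have hval : indVal (covSet A) = fun χ : IrrCharacter G => om (χ : G → ℂ) f := by
    funext χ
    obtain ⟨θ, hθ⟩ := exists_over (N := N) χ
    rw [om_over hfc hsupp hθ, show (fun n : N => f n) = e from funext fun n => dif_pos n.2, he,
      om_coef]
    have : χ ∈ covSet A ↔ θ ∈ A := by
      refine ⟨fun h => h θ hθ, fun h φ hφ => ?_⟩
      obtain ⟨g, hg⟩ := exists_conj_of_over hθ hφ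
      exact (hiff θ g φ hg).1 h
    simp only [indVal, this]
  rw [hval, coef_om hfc]
  funext g
  by_cases hg : g ∈ N
  · rw [extendByZero_mem _ hg]
    exact dif_pos hg
  · rw [extendByZero_not_mem _ hg, hsupp g hg]

/-- The idempotent of an invariant set lifts to the whole group. -/
theorem indVal_covSet_mem (hM : IsPModular p M) {A : Set (IrrCharacter N)}
    (hA : indVal A ∈ intRing hM) (hinv : orbitSet A ⊆ A) :
    indVal (covSet A) ∈ intRing (G := G) hM := by
  intro g
  rw [coef_covSet hinv]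
  by_cases hg : g ∈ N
  · rw [extendByZero_mem _ hg]; exact hA _
  · rw [extendByZero_not_mem _ hg]; exact zero_mem _

/-- Conjugate constituents occur together. -/
theorem over_conj {χ : IrrCharacter G} {θ φ : IrrCharacter N} (g : G)
    (h : (φ : N → ℂ) = conjFn g (θ : N → ℂ)) : Over N χ φ ↔ Over N χ θ := by
  unfold Over
  conv_lhs => rw [h, ← classFunction_restrict_conjFn (H := N) (irr_classFunction χ) g,
    conjFn_eq_comp, conjFn_eq_comp, inner_comp_equiv]

/-- The central character on the normal subgroup detects the constituents. -/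
theorem over_of_centralChar {χ : IrrCharacter G} {θ : IrrCharacter N}
    (h : ∀ n : N, centralChar (χ : G → ℂ) (n : G) = inducedCentralChar N (θ : N → ℂ) (n : G)) :
    Over N χ θ := by
  obtain ⟨χ₀, hχ₀, hθ₀⟩ := exists_irr_over (G := G) θ.2
  let χ' : IrrCharacter G := ⟨χ₀, hχ₀⟩
  set v := indVal (covSet (G := G) (orbitSet ({θ} : Set (IrrCharacter N)))) with hv
  have e : v χ = v χ' := by
    rw [← om_coef v χ, ← om_coef v χ', om_eq_sum_centralChar (coef_classFunction _),
      om_eq_sum_centralChar (coef_classFunction _)]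
    refine Finset.sum_congr rfl fun C _ => ?_
    rw [hv, coef_covSet (orbitSet_orbitSet' _)]
    by_cases hC : Quotient.out C ∈ N
    · have e1 := h ⟨_, hC⟩
      have e2 := centralChar_over (χ := χ') (θ := θ) hθ₀ ⟨_, hC⟩
      simp only at e1 e2
      rw [e1, e2]
    · rw [extendByZero_not_mem _ hC, zero_mul, zero_mul]
  have hχ' : χ' ∈ covSet (orbitSet ({θ} : Set (IrrCharacter N))) := fun φ hφ => by
    obtain ⟨g, hg⟩ := exists_conj_of_over (χ := χ') (θ := θ) hθ₀ hφ
    exact ⟨g, θ, rfl, hg⟩
  have hχ : χ ∈ covSet (orbitSet ({θ} : Set (IrrCharacter N))) := by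
    by_contra hne
    simp [hv, indVal, hne, hχ'] at e
  obtain ⟨φ, hφ⟩ := exists_over (N := N) χ
  obtain ⟨g, θ', hθ', hg⟩ := hχ φ hφ
  rw [Set.mem_singleton_iff] at hθ'
  subst hθ'
  exact (over_conj g hg).1 hφ

/-- The conjugate of a block is a block. -/
theorem sameBlock_conjFn {θ θ' : IrrCharacter N} (g : G) {φ φ' : IrrCharacter N}
    (hφ : (φ : N → ℂ) = conjFn g (θ : N → ℂ)) (hφ' : (φ' : N → ℂ) = conjFn g (θ' : N → ℂ))
    (h : SameBlock M (θ : N → ℂ) (θ' : N → ℂ)) : SameBlock M (φ : N → ℂ) (φ' : N → ℂ) := by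
  have key : ∀ ξ η : IrrCharacter N, (η : N → ℂ) = conjFn g (ξ : N → ℂ) →
      η = irrMap (MulAut.conjNormal g : MulAut N).symm ξ := by
    intro ξ η hη
    refine Subtype.ext ?_
    rw [hη, conjFn_eq_comp]
    rfl
  rw [key θ φ hφ, key θ' φ' hφ']
  exact (sameBlock_irrMap _ θ θ').2 h

theorem blockOf_orbitSet_subset (hM : IsPModular p M) {b : Set (IrrCharacter N)}
    (hb : IsPBlock M b) {θ : IrrCharacter N} (hθ : θ ∈ orbitSet b) :
    blockOf M (θ : N → ℂ) ⊆ orbitSet b := by
  obtain ⟨g, θ₀, hθ₀, hg⟩ := hθ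
  intro φ hφ
  set φ₀ : IrrCharacter N := ⟨conjFn g⁻¹ (φ : N → ℂ), isIrrCharacter_conjFn φ.2 g⁻¹⟩
  refine ⟨g, φ₀, ?_, ?_⟩
  · rw [isPBlock_eq_blockOf hM hb hθ₀]
    refine sameBlock_conjFn g⁻¹ (θ := θ) (θ' := φ) ?_ rfl hφ
    rw [hg, ← conjFn_mul, mul_inv_cancel, conjFn_one]
  · show (φ : N → ℂ) = conjFn g (conjFn g⁻¹ (φ : N → ℂ))
    rw [← conjFn_mul, inv_mul_cancel, conjFn_one]

theorem subset_orbitSet (A : Set (IrrCharacter N)) : A ⊆ orbitSet A :=
  fun θ hθ => ⟨1, θ, hθ, (conjFn_one _).symm⟩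

theorem indVal_orbitSet_mem (hM : IsPModular p M) {b : Set (IrrCharacter N)} (hb : IsPBlock M b) :
    indVal (orbitSet b) ∈ intRing (G := N) hM :=
  indVal_mem_of_union hM fun _ h => blockOf_orbitSet_subset hM hb h

/-- All constituents of a covering block lie in the conjugates of the covered block. -/
theorem mem_orbitSet_of_covers (hM : IsPModular p M) {B : Set (IrrCharacter G)}
    (hB : IsPBlock M B) {b : Set (IrrCharacter N)} (hb : IsPBlock M b) {χ : IrrCharacter G}
    (hχ : χ ∈ B) {θ : IrrCharacter N} (hθ : θ ∈ b) (hcon : Over N χ θ) {χ' : IrrCharacter G}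
    (hχ' : χ' ∈ B) {ψ : IrrCharacter N} (hψ : Over N χ' ψ) : ψ ∈ orbitSet b := by
  have hmem := indVal_covSet_mem (G := G) hM (indVal_orbitSet_mem hM hb) (orbitSet_orbitSet' b)
  have hχA : χ ∈ covSet (orbitSet b) := fun φ hφ => by
    obtain ⟨g, hg⟩ := exists_conj_of_over hcon hφ
    exact ⟨g, θ, hθ, hg⟩
  refine blockOf_subset_of_indVal_mem hM hmem hχA ?_ ψ hψ
  rw [← isPBlock_eq_blockOf hM hB hχ]
  exact hχ'

end Covering

section Induced

variable {H : Subgroup G} [Fintype H]

/-- The central function pairing of an induced function. -/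
theorem om_indFun {f : G → ℂ} (hf : IsClassFunction G f) (ξ : H → ℂ) :
    om (indFun H ξ) f = om ξ (fun h : H => f h) := by
  have h := frobenius ξ (fun g => conj (f g)) fun g x => congrArg conj (hf g x)
  simp only [classInner, Complex.conj_conj] at h
  rw [om, om, indFun_one_apply]
  have h' : ∑ g, f g * indFun H ξ g = (H.index : ℂ) * ∑ k : H, f k * ξ k := by
    have e : (Nat.card G : ℂ) = (Nat.card H : ℂ) * (H.index : ℂ) := by
      exact_mod_cast H.card_mul_index.symm
    rw [Finset.sum_congr rfl fun g _ => mul_comm (f g) _,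
      Finset.sum_congr rfl (fun k (_ : k ∈ (Finset.univ : Finset H)) => mul_comm (f k) (ξ k))]
    have hG := natCard_ne_zero G
    have hH := natCard_ne_zero H
    field_simp at h
    rw [e] at h
    exact mul_left_cancel₀ hH (by linear_combination h)
  rw [h']
  exact mul_div_mul_left _ _ (Nat.cast_ne_zero.2 Subgroup.index_ne_zero_of_finite)

theorem centralChar_indFun (ξ : IrrCharacter H) {χ : IrrCharacter G}
    (hχ : (χ : G → ℂ) = indFun H (ξ : H → ℂ)) (g : G) :
    centralChar (χ : G → ℂ) g = inducedCentralChar H (ξ : H → ℂ) g := by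
  rw [centralChar_eq_om, hχ, om_indFun (classInd_classFunction g), inducedCentralChar, finsum_mem_def]
  simp only [finsum_eq_sum_of_fintype, om, Finset.sum_div]
  refine Finset.sum_congr rfl fun m _ => ?_
  rw [Set.indicator_apply]
  by_cases hc : IsConj g (m : G)
  · simp only [classInd, Set.mem_ofPred_eq, hc, if_true, one_mul]
  · simp only [classInd, Set.mem_ofPred_eq, hc, if_false, zero_mul, zero_div]

/-- An irreducible induced character lies in the induced block. -/
theorem isInducedBlock_indFun (hM : IsPModular p M) (ξ : IrrCharacter H) {χ : IrrCharacter G}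
    (hχ : (χ : G → ℂ) = indFun H (ξ : H → ℂ)) :
    IsInducedBlock M H (blockOf M (ξ : H → ℂ)) (blockOf M (χ : G → ℂ)) := by
  refine isInducedBlock_of_ev hM H (isPBlock_blockOf ξ) (isPBlock_blockOf χ)
    (mem_blockOf_self hM ξ) (mem_blockOf_self hM χ) fun v => ?_
  refine congrArg (res hM) (Subtype.ext ?_)
  show om (ξ : H → ℂ) (fun h : H => coef _ (h : G)) = (v : IrrCharacter G → ℂ) χ
  rw [← om_coef (v : IrrCharacter G → ℂ) χ, hχ, om_indFun (coef_classFunction _)]

/-- A block inducing injectively through irreducible characters has the induced characters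
as its image. -/
theorem image_eq_of_induced (hM : IsPModular p M) {B' : Set (IrrCharacter H)}
    (F : IrrCharacter H → IrrCharacter G) (hF : ∀ ψ ∈ B', (F ψ : G → ℂ) = indFun H (ψ : H → ℂ))
    (hinj : Set.InjOn F B') {B : Set (IrrCharacter G)} (hind : IsInducedBlock M H B' B) :
    F '' B' = B := by
  have hsub : F '' B' ⊆ B := by
    rintro _ ⟨ψ, hψ, rfl⟩
    have h := isInducedBlock_indFun hM ψ (hF ψ hψ)
    rw [← isPBlock_eq_blockOf hM hind.1 hψ] at h
    rw [← isInducedBlock_unique hM H h hind]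
    exact mem_blockOf_self hM _
  refine Set.Subset.antisymm hsub ?_
  obtain ⟨ψ₀, hψ₀⟩ := isPBlock_nonempty hM hind.1
  have hmem : indVal (F '' B') ∈ intRing (G := G) hM := by
    set e := coef (indVal B') with he
    have hval : indVal (F '' B') = fun χ : IrrCharacter G => om (χ : G → ℂ) (indFun H e) := by
      funext χ
      have h1 : om (χ : G → ℂ) (indFun H e) =
          ∑ ψ : IrrCharacter H, indVal B' ψ * (ψ : H → ℂ) 1 *
            classInner (fun k : H => (χ : G → ℂ) k) (ψ : H → ℂ) * (H.index : ℂ) /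
              (χ : G → ℂ) 1 := by
        have h2 := frobenius e (fun g => conj ((χ : G → ℂ) g)) fun g x =>
          congrArg conj (irr_classFunction χ g x)
        simp only [classInner, Complex.conj_conj] at h2
        rw [om, ← Finset.sum_div]
        congr 1
        have e' : (Nat.card G : ℂ) = (Nat.card H : ℂ) * (H.index : ℂ) := by
          exact_mod_cast H.card_mul_index.symm
        have hG := natCard_ne_zero G
        have hH := natCard_ne_zero H
        rw [← mul_right_inj' (inv_ne_zero hG), h2, ← mul_right_inj' hG, ← mul_assoc,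
          ← mul_assoc, mul_inv_cancel₀ hG, one_mul, e', he]
        simp only [coef, classInner, map_mul, map_sum, map_inv₀, map_natCast, Complex.conj_conj,
          Finset.mul_sum, Finset.sum_mul]
        rw [Finset.sum_comm]
        refine Finset.sum_congr rfl fun ψ _ => Finset.sum_congr rfl fun k _ => ?_
        field_simp
      rw [h1]
      have hm : ∀ ψ ∈ B', classInner (fun k : H => (χ : G → ℂ) k) (ψ : H → ℂ) =
          if χ = F ψ then 1 else 0 := by
        intro ψ hψ
        rw [← frobenius_right (ψ : H → ℂ) (χ : G → ℂ) (irr_classFunction χ), ← hF ψ hψ, irr_classInner]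
      by_cases hχ : χ ∈ F '' B'
      · obtain ⟨ψ, hψ, rfl⟩ := hχ
        rw [Finset.sum_eq_single ψ (fun φ _ hne => ?_) (fun h => absurd (Finset.mem_univ ψ) h)]
        · have hdeg : (F ψ : G → ℂ) 1 = (H.index : ℂ) * (ψ : H → ℂ) 1 := by
            rw [hF ψ hψ, indFun_one_apply]
          rw [hm ψ hψ, if_pos rfl, indVal, indVal, if_pos hψ,
            if_pos (Set.mem_image_of_mem F hψ), hdeg]
          have := irr_one_ne_zero ψ
          have := (Nat.cast_ne_zero (R := ℂ)).2 (Subgroup.index_ne_zero_of_finite (H := H))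
          field_simp
        · by_cases hφ : φ ∈ B'
          · rw [hm φ hφ, if_neg fun h => hne (hinj hψ hφ h).symm]
            simp
          · simp [indVal, hφ]
      · rw [indVal, if_neg hχ, Finset.sum_eq_zero fun φ _ => ?_]
        by_cases hφ : φ ∈ B'
        · rw [hm φ hφ, if_neg fun h => hχ ⟨φ, hφ, h.symm⟩]
          simp
        · simp [indVal, hφ]
    rw [hval]
    intro g
    rw [coef_om (indFun_classFunction e), indFun_apply]
    have hconst : ∀ (x : G) (t : H), extendByZero H e ((x * t)⁻¹ * g * (x * t)) =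
        extendByZero H e (x⁻¹ * g * x) := by
      intro x t
      rw [show (x * t)⁻¹ * g * (x * t) = (t : G)⁻¹ * (x⁻¹ * g * x) * t by group]
      by_cases hx : x⁻¹ * g * x ∈ H
      · rw [extendByZero_mem _ hx, extendByZero_mem _ (mul_mem (mul_mem (inv_mem t.2) hx) t.2)]
        show coef (indVal B') _ = coef (indVal B') _
        rw [← coef_classFunction (indVal B') ⟨_, hx⟩ t⁻¹]
        exact congrArg (coef (indVal B')) (Subtype.ext (show (t : G)⁻¹ * (x⁻¹ * g * x) * t =
          (t : G)⁻¹ * (x⁻¹ * g * x) * (t : G)⁻¹⁻¹ by group))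
      · rw [extendByZero_not_mem _ hx, extendByZero_not_mem _ fun h => hx (by
          have := mul_mem (mul_mem t.2 h) (inv_mem t.2)
          rwa [show (t : G) * ((t : G)⁻¹ * (x⁻¹ * g * x) * t) * (t : G)⁻¹ = x⁻¹ * g * x by group] at this)]
    have hbij : Function.Bijective (fun x : (G ⧸ H) × H => Quotient.out x.1 * (x.2 : G)) := by
      refine ⟨fun x y hxy => ?_, fun a => ?_⟩
      · have hq : x.1 = y.1 := by
          have e1 : ∀ z : (G ⧸ H) × H, QuotientGroup.mk (Quotient.out z.1 * (z.2 : G)) = z.1 := fun z =>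
            (QuotientGroup.mk_mul_of_mem _ z.2.2).trans (QuotientGroup.out_eq' z.1)
          rw [← e1 x, ← e1 y]
          exact congrArg QuotientGroup.mk hxy
        refine Prod.ext hq (Subtype.ext ?_)
        simp only [hq] at hxy
        exact mul_left_cancel hxy
      · refine ⟨(QuotientGroup.mk a, ⟨(Quotient.out (QuotientGroup.mk a : G ⧸ H))⁻¹ * a, ?_⟩), ?_⟩
        · exact QuotientGroup.eq.1 (QuotientGroup.out_eq' (QuotientGroup.mk a : G ⧸ H))
        · exact mul_inv_cancel_left _ _
    rw [← (Equiv.ofBijective _ hbij).sum_comp, Fintype.sum_prod_type, Finset.mul_sum]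
    refine sum_mem fun q _ => ?_
    have hq : ∀ t : H, Equiv.ofBijective _ hbij (q, t) = Quotient.out q * t := fun t => rfl
    simp only [hq, hconst, Finset.sum_const, Finset.card_univ, nsmul_eq_mul,
      ← Nat.card_eq_fintype_card]
    rw [← mul_assoc, inv_mul_cancel₀ (natCard_ne_zero H), one_mul]
    by_cases hx : (Quotient.out q)⁻¹ * g * Quotient.out q ∈ H
    · rw [extendByZero_mem _ hx]
      exact indVal_mem hM hind.1 _
    · rw [extendByZero_not_mem _ hx]
      exact zero_mem _
  rw [isPBlock_eq_blockOf hM hind.2.1 (hsub (Set.mem_image_of_mem F hψ₀))]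
  exact blockOf_subset_of_indVal_mem hM hmem (Set.mem_image_of_mem F hψ₀)

end Induced

end CfsgLib.Block
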