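import Cfsg.Agent.Lib.BlockSectionVal
import Cfsg.Agent.Lib.BlockCount

/-!
# The parts of inner products at subsections

Coefficient functions on the whole group of the blocks of subgroups, the part of a character at a
subsection `(u, β)` and the contribution of a subsection to an inner product.
-/

set_option autoImplicit false
set_option linter.style.haveILetI false
set_option linter.unusedSectionVars false

namespace CfsgLib.Block

open Cfsg CfsgLib.Char
open scoped ComplexConjugate Classical

universe u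

variable {G : Type u} [Group G] [Fintype G] {p : ℕ} {M : Ideal AlgInt}

/-- The coefficients of the block of a subgroup with given residual function. -/
noncomputable def coefOf (hM : IsPModular p M) (H : Subgroup G) (φ : G → ResField M) : G → ℂ :=
  if h : ∃ e : Set (IrrCharacter H), IsPBlock M e ∧ bFn hM H e = φ then
    subgroupBlockCoeff H h.choose
  else 0

theorem coefOf_eq (hM : IsPModular p M) {H : Subgroup G} {e : Set (IrrCharacter H)}
    (he : IsPBlock M e) {φ : G → ResField M} (hφ : bFn hM H e = φ) :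
    coefOf hM H φ = subgroupBlockCoeff H e := by
  have h : ∃ e : Set (IrrCharacter H), IsPBlock M e ∧ bFn hM H e = φ := ⟨e, he, hφ⟩
  rw [coefOf, dif_pos h, bFn_injOn hM H h.choose_spec.1 he (h.choose_spec.2.trans hφ.symm)]

theorem subgroupBlockCoeff_conjSet {H H' : Subgroup G} (x : G)
    (hH : ∀ g, g ∈ H' ↔ x⁻¹ * g * x ∈ H) (e : Set (IrrCharacter H)) (g : G) :
    subgroupBlockCoeff H' (conjSet H H' x e) g = subgroupBlockCoeff H e (x⁻¹ * g * x) := by
  haveI := Fintype.ofFinite H
  haveI := Fintype.ofFinite H'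
  let φ : H ≃* H' :=
    { toFun := fun c => ⟨x * (c : G) * x⁻¹, (hH _).2 (by simp [mul_assoc, c.2])⟩
      invFun := fun c => ⟨x⁻¹ * (c : G) * x, (hH _).1 c.2⟩
      left_inv := fun c => Subtype.ext (show x⁻¹ * (x * (c : G) * x⁻¹) * x = c by group)
      right_inv := fun c => Subtype.ext (show x * (x⁻¹ * (c : G) * x) * x⁻¹ = c by group)
      map_mul' := fun a b => Subtype.ext (show x * ((a : G) * b) * x⁻¹ =
        x * (a : G) * x⁻¹ * (x * (b : G) * x⁻¹) by group) }
  have hset : conjSet H H' x e = irrMap φ '' e := by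
    ext ξ'
    constructor
    · rintro ⟨ξ, hξ, h⟩
      refine ⟨ξ, hξ, Subtype.ext (funext fun c' => ?_)⟩
      obtain ⟨c, rfl⟩ := φ.surjective c'
      rw [irrMap_apply, h c (φ c) rfl]
    · rintro ⟨ξ, hξ, rfl⟩
      refine ⟨ξ, hξ, fun c c' hc => ?_⟩
      rw [show c' = φ c from Subtype.ext hc, irrMap_apply]
  by_cases hg : g ∈ H'
  · lift g to H' using hg
    obtain ⟨c, rfl⟩ := φ.surjective g
    rw [subgroupBlockCoeff_coe, hset, blockCoeff_irrMap,
      show x⁻¹ * ((φ c : H') : G) * x = (c : G) from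
        show x⁻¹ * (x * (c : G) * x⁻¹) * x = c by group, subgroupBlockCoeff_coe]
  · rw [subgroupBlockCoeff_not_mem _ _ hg, subgroupBlockCoeff_not_mem _ _ (mt (hH g).2 hg)]

theorem coefOf_cnj (hM : IsPModular p M) {H H' : Subgroup G} (x : G)
    (hH : ∀ g, g ∈ H' ↔ x⁻¹ * g * x ∈ H) {φ : G → ResField M} (hφ : IsBlockFn hM H φ) (g : G) :
    coefOf hM H' (cnj x φ) g = coefOf hM H φ (x⁻¹ * g * x) := by
  obtain ⟨e, he, rfl⟩ := hφ
  obtain ⟨he', heq⟩ := conjSet_data hM x hH he
  rw [coefOf_eq hM he rfl, coefOf_eq hM he' heq, subgroupBlockCoeff_conjSet x hH]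

theorem blockPart_eq_conv (e : Set (IrrCharacter G)) {f : G → ℂ} (hf : IsClassFunction G f)
    (y : G) : blockPart e f y = ∑ c, blockCoeff e c * f (c * y) := by
  have h : ∀ c, f (c * y) = ∑ χ : IrrCharacter G,
      classInner f (χ : G → ℂ) * (χ : G → ℂ) (c * y) := fun c => by
    conv_lhs => rw [classFunction_eq_sum f hf]
    simp [Finset.sum_apply]
  simp only [h, Finset.mul_sum]
  rw [blockPart_eq, Finset.sum_comm]
  refine Finset.sum_congr rfl fun χ _ => ?_
  calc indVal e χ * (classInner f (χ : G → ℂ) * (χ : G → ℂ) y)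
      = classInner f (χ : G → ℂ) * (indVal e χ * (χ : G → ℂ) y) := by ring
    _ = _ := by
      rw [← sum_coef_mul_irr, Finset.mul_sum]
      refine Finset.sum_congr rfl fun c _ => ?_
      rw [blockCoeff_eq_coef]
      ring

/-- The part of `χ` at the subsection `(u, β)`, on the whole group. -/
noncomputable def secFun (u : G) (β : G → ℂ) (χ : G → ℂ) (y : G) : ℂ :=
  ∑ c, β c * χ (u * (c * y))

theorem secFun_conj {β β' : G → ℂ} {x : G} (hβ : ∀ g, β' g = β (x⁻¹ * g * x))
    (χ : IrrCharacter G) (u y : G) :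
    secFun (x * u * x⁻¹) β' (χ : G → ℂ) (x * y * x⁻¹) = secFun u β (χ : G → ℂ) y := by
  symm
  refine Fintype.sum_equiv (MulAut.conj x).toEquiv _ _ fun c => ?_
  simp only [MulEquiv.toEquiv_eq_coe, EquivLike.coe_coe, MulAut.conj_apply, hβ]
  rw [← irr_classFunction χ (u * (c * y)) x]
  congr 2 <;> group

theorem secFun_eq_secPart {u : G} (e : Set (IrrCharacter (Subgroup.centralizer ({u} : Set G))))
    (χ : IrrCharacter G) (s : Subgroup.centralizer ({u} : Set G)) :
    secFun u (subgroupBlockCoeff (Subgroup.centralizer ({u} : Set G)) e) (χ : G → ℂ) s =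
      secPart u e χ s := by
  rw [secPart, blockPart_eq_conv _ (translate_classFunction u χ), secFun,
    ← sum_ext0 (Subgroup.centralizer ({u} : Set G))]
  refine Finset.sum_congr rfl fun c _ => ?_
  by_cases hc : c ∈ Subgroup.centralizer ({u} : Set G)
  · lift c to Subgroup.centralizer ({u} : Set G) using hc
    rw [ext0_coe, subgroupBlockCoeff_coe]
    rfl
  · rw [subgroupBlockCoeff_not_mem _ _ hc, zero_mul, ext0, dif_neg hc]

/-- The regular elements of the centralizer. -/
noncomputable def secDom (p : ℕ) (u : G) : Finset G :=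
  Finset.univ.filter fun y => y ∈ Subgroup.centralizer ({u} : Set G) ∧ ¬ p ∣ orderOf y

theorem mem_secDom {u y : G} :
    y ∈ secDom p u ↔ y ∈ Subgroup.centralizer ({u} : Set G) ∧ ¬ p ∣ orderOf y := by
  simp [secDom]

/-- The contribution of a subsection to an inner product. -/
noncomputable def secInner (p : ℕ) (u : G) (β : G → ℂ) (ξ η : G → ℂ) : ℂ :=
  (Nat.card (Subgroup.centralizer ({u} : Set G)) : ℂ)⁻¹ *
    ∑ y ∈ secDom p u, secFun u β ξ y * conj (secFun u β η y)

theorem mem_centralizer_conj (x u g : G) :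
    g ∈ Subgroup.centralizer ({x * u * x⁻¹} : Set G) ↔
      x⁻¹ * g * x ∈ Subgroup.centralizer ({u} : Set G) := by
  simp only [Subgroup.mem_centralizer_singleton_iff]
  constructor
  · intro h
    calc x⁻¹ * g * x * u = x⁻¹ * (g * (x * u * x⁻¹)) * x := by group
      _ = x⁻¹ * (x * u * x⁻¹ * g) * x := by rw [h]
      _ = u * (x⁻¹ * g * x) := by group
  · intro h
    calc g * (x * u * x⁻¹) = x * (x⁻¹ * g * x * u) * x⁻¹ := by group
      _ = x * (u * (x⁻¹ * g * x)) * x⁻¹ := by rw [h]
      _ = x * u * x⁻¹ * g := by group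

theorem card_centralizer_conj (x u : G) :
    Nat.card (Subgroup.centralizer ({x * u * x⁻¹} : Set G)) =
      Nat.card (Subgroup.centralizer ({u} : Set G)) := by
  refine (Nat.card_congr ((MulAut.conj x).toEquiv.subtypeEquiv fun g => ?_)).symm
  show g ∈ Subgroup.centralizer ({u} : Set G) ↔
    x * g * x⁻¹ ∈ Subgroup.centralizer ({x * u * x⁻¹} : Set G)
  rw [mem_centralizer_conj, show x⁻¹ * (x * g * x⁻¹) * x = g by group]

theorem secInner_conj {β β' : G → ℂ} {x : G} (hβ : ∀ g, β' g = β (x⁻¹ * g * x))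
    (u : G) (ξ η : IrrCharacter G) :
    secInner p (x * u * x⁻¹) β' (ξ : G → ℂ) (η : G → ℂ) =
      secInner p u β (ξ : G → ℂ) (η : G → ℂ) := by
  unfold secInner
  rw [card_centralizer_conj]
  congr 1
  refine (Finset.sum_bij' (fun y _ => x * y * x⁻¹) (fun y _ => x⁻¹ * y * x) ?_ ?_ ?_ ?_ ?_).symm
  · intro y hy
    rw [mem_secDom] at hy ⊢
    rw [orderOf_conj_eq, mem_centralizer_conj, show x⁻¹ * (x * y * x⁻¹) * x = y by group]
    exact hy
  · intro y hy
    rw [mem_secDom] at hy ⊢
    refine ⟨(mem_centralizer_conj x u y).1 hy.1, ?_⟩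
    rw [← orderOf_conj_eq (x⁻¹ * y * x) x, show x * (x⁻¹ * y * x) * x⁻¹ = y by group]
    exact hy.2
  · intro y _
    show x⁻¹ * (x * y * x⁻¹) * x = y
    group
  · intro y _
    show x * (x⁻¹ * y * x) * x⁻¹ = y
    group
  · intro y _
    rw [secFun_conj hβ, secFun_conj hβ]

theorem sum_secDom {u : G} (F : G → ℂ) :
    ∑ y ∈ secDom p u, F y = ∑ s ∈ Finset.univ.filter
      (fun s : Subgroup.centralizer ({u} : Set G) => ¬ p ∣ orderOf s), F s := by
  symm
  refine Finset.sum_nbij (fun s : Subgroup.centralizer ({u} : Set G) => (s : G)) ?_ ?_ ?_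
    fun s _ => rfl
  · intro s hs
    rw [mem_secDom, Subgroup.orderOf_coe]
    exact ⟨s.2, (Finset.mem_filter.1 hs).2⟩
  · intro s _ t _ h
    exact Subtype.ext h
  · intro g hg
    rw [Finset.mem_coe, mem_secDom] at hg
    exact ⟨⟨g, hg.1⟩, Finset.mem_coe.2 (Finset.mem_filter.2
      ⟨Finset.mem_univ _, by rw [← Subgroup.orderOf_coe]; exact hg.2⟩), rfl⟩

theorem secInner_eq {u : G} (e : Set (IrrCharacter (Subgroup.centralizer ({u} : Set G))))
    (ξ η : IrrCharacter G) :
    secInner p u (subgroupBlockCoeff (Subgroup.centralizer ({u} : Set G)) e)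
      (ξ : G → ℂ) (η : G → ℂ) =
      (Nat.card (Subgroup.centralizer ({u} : Set G)) : ℂ)⁻¹ * ∑ s ∈ Finset.univ.filter
        (fun s : Subgroup.centralizer ({u} : Set G) => ¬ p ∣ orderOf s),
        secPart u e ξ s * conj (secPart u e η s) := by
  unfold secInner
  rw [sum_secDom]
  congr 1
  exact Finset.sum_congr rfl fun s _ => by rw [secFun_eq_secPart, secFun_eq_secPart]

theorem sum_eq_sum_pElements (hp : p.Prime) (F : G → ℂ) :
    ∑ g, F g = ∑ z ∈ Finset.univ.filter (fun z : G => ∃ k, orderOf z = p ^ k),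
      ∑ y ∈ secDom p z, F (z * y) := by
  rw [Finset.sum_sigma']
  refine (Finset.sum_nbij (fun w : (_ : G) × G => w.1 * w.2) (fun w _ => Finset.mem_univ _)
    ?_ ?_ fun w _ => rfl).symm
  · rintro ⟨z, y⟩ hzy ⟨z', y'⟩ hzy' h
    simp only [Finset.mem_coe, Finset.mem_sigma, Finset.mem_filter, Finset.mem_univ, true_and,
      mem_secDom] at hzy hzy'
    have h1 : IsPPart p (z * y) z := ⟨y, rfl,
      (Subgroup.mem_centralizer_singleton_iff.1 hzy.2.1).symm, hzy.1, hzy.2.2⟩
    have h2 : IsPPart p (z' * y') z' := ⟨y', rfl,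
      (Subgroup.mem_centralizer_singleton_iff.1 hzy'.2.1).symm, hzy'.1, hzy'.2.2⟩
    have h' : z * y = z' * y' := h
    have hz : z = z' := isPPart_unique hp h1 (h' ▸ h2)
    subst hz
    rw [mul_left_cancel h']
  · intro g _
    obtain ⟨z, hz⟩ := exists_isPPart hp g
    obtain ⟨y, hy, hc, hzk, hreg⟩ := hz
    exact ⟨⟨z, y⟩, by
      simp only [Finset.mem_coe, Finset.mem_sigma, Finset.mem_filter, Finset.mem_univ, true_and,
        mem_secDom]
      exact ⟨hzk, Subgroup.mem_centralizer_singleton_iff.2 hc.symm, hreg⟩, hy⟩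

/-- The blocks of the centralizer inducing `B`. -/
noncomputable def indBlocks (M : Ideal AlgInt) (z : G) (B : Set (IrrCharacter G)) :
    Finset (Set (IrrCharacter (Subgroup.centralizer ({z} : Set G)))) :=
  (allBlocks (Subgroup.centralizer ({z} : Set G)) M).filter
    fun e => IsInducedBlock M (Subgroup.centralizer ({z} : Set G)) e B

theorem apply_mul_eq_sum_parts (hM : IsPModular p M) {B : Set (IrrCharacter G)}
    (hB : IsPBlock M B) {χ : IrrCharacter G} (hχ : χ ∈ B) {z : G} (hz : ∃ k, orderOf z = p ^ k)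
    {s : Subgroup.centralizer ({z} : Set G)} (hs : ¬ p ∣ orderOf s) :
    (χ : G → ℂ) (z * (s : G)) = ∑ e ∈ indBlocks M z B, secPart z e χ s := by
  rw [apply_mul_eq_sum_secSet hM hz hB hχ s hs, sum_secSet_eq hM,
    show {b : Set (IrrCharacter (Subgroup.centralizer ({z} : Set G))) |
      IsInducedBlock M (Subgroup.centralizer ({z} : Set G)) b B} = ↑(indBlocks M z B) by
      ext b
      simp only [indBlocks, Finset.coe_filter, mem_allBlocks, Set.mem_ofPred_eq]
      exact ⟨fun h => ⟨h.1, h⟩, fun h => h.2⟩, finsum_mem_coe_finset]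
  refine Finset.sum_congr rfl fun e _ => ?_
  rw [secPart, blockPart_eq]
  exact Finset.sum_congr rfl fun ξ _ => by rw [decNum]

theorem sum_secPart_cross (hM : IsPModular p M) {z : G}
    {e e' : Set (IrrCharacter (Subgroup.centralizer ({z} : Set G)))} (he : IsPBlock M e)
    (he' : IsPBlock M e') (hne : e ≠ e') (ξ η : IrrCharacter G) :
    ∑ s ∈ Finset.univ.filter (fun s : Subgroup.centralizer ({z} : Set G) => ¬ p ∣ orderOf s),
      secPart z e ξ s * conj (secPart z e' η s) = 0 := by
  simp only [secPart, blockPart_eq, map_sum, map_mul, conj_indVal, Finset.sum_mul, Finset.mul_sum]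
  rw [Finset.sum_comm]
  refine Finset.sum_eq_zero fun b _ => ?_
  rw [Finset.sum_comm]
  refine Finset.sum_eq_zero fun a _ => ?_
  by_cases hab : a ∈ e ∧ b ∈ e'
  · have hns : ¬ SameBlock M (b : Subgroup.centralizer ({z} : Set G) → ℂ)
        (a : Subgroup.centralizer ({z} : Set G) → ℂ) := fun h => hne (by
      rw [isPBlock_eq_blockOf hM he' hab.2]
      refine isPBlock_eq_of_mem hM he (isPBlock_blockOf b) hab.1 ?_
      exact h)
    have h1 := classInner_regPart_eq_zero hM (fun h => hns (sameBlock_symm hM h))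
    rw [classInner_regPart, mul_eq_zero_iff_left (inv_ne_zero (natCard_ne_zero _))] at h1
    calc _ = (indVal e a * classInner
            (fun c : Subgroup.centralizer ({z} : Set G) => (ξ : G → ℂ) (z * (c : G)))
            (a : Subgroup.centralizer ({z} : Set G) → ℂ) * (indVal e' b * conj (classInner
            (fun c : Subgroup.centralizer ({z} : Set G) => (η : G → ℂ) (z * (c : G)))
            (b : Subgroup.centralizer ({z} : Set G) → ℂ)))) *
          ∑ s ∈ Finset.univ.filter (fun s : Subgroup.centralizer ({z} : Set G) => ¬ p ∣ orderOf s),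
            (a : Subgroup.centralizer ({z} : Set G) → ℂ) s *
              conj ((b : Subgroup.centralizer ({z} : Set G) → ℂ) s) := by
          rw [Finset.mul_sum]
          exact Finset.sum_congr rfl fun s _ => by ring
      _ = 0 := by rw [h1, mul_zero]
  · rcases not_and_or.1 hab with h | h <;> simp [indVal, h]

/-- An inner product through the subsections. -/
theorem card_mul_classInner_eq (hM : IsPModular p M) {B : Set (IrrCharacter G)}
    (hB : IsPBlock M B) {ξ η : IrrCharacter G} (hξ : ξ ∈ B) (hη : η ∈ B) :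
    (Nat.card G : ℂ) * classInner (ξ : G → ℂ) (η : G → ℂ) =
      ∑ z ∈ Finset.univ.filter (fun z : G => ∃ k, orderOf z = p ^ k),
        (Nat.card (Subgroup.centralizer ({z} : Set G)) : ℂ) * ∑ e ∈ indBlocks M z B,
          secInner p z (subgroupBlockCoeff (Subgroup.centralizer ({z} : Set G)) e)
            (ξ : G → ℂ) (η : G → ℂ) := by
  rw [classInner, ← mul_assoc, mul_inv_cancel₀ (natCard_ne_zero G), one_mul,
    sum_eq_sum_pElements hM.1]
  refine Finset.sum_congr rfl fun z hz => ?_
  have hz' := (Finset.mem_filter.1 hz).2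
  simp only [secInner_eq]
  rw [← Finset.mul_sum, ← mul_assoc, mul_inv_cancel₀ (natCard_ne_zero _), one_mul, sum_secDom]
  rw [Finset.sum_congr rfl fun s hs => by
      rw [apply_mul_eq_sum_parts hM hB hξ hz' (Finset.mem_filter.1 hs).2,
        apply_mul_eq_sum_parts hM hB hη hz' (Finset.mem_filter.1 hs).2, map_sum,
        Finset.sum_mul_sum],
    Finset.sum_comm]
  refine Finset.sum_congr rfl fun e he => ?_
  rw [Finset.sum_comm, Finset.sum_eq_single e]
  · intro e' he' hne
    exact sum_secPart_cross hM (mem_allBlocks.1 (Finset.mem_filter.1 he).1)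
      (mem_allBlocks.1 (Finset.mem_filter.1 he').1) (Ne.symm hne) ξ η
  · exact fun h => absurd he h

end CfsgLib.Block
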