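import Cfsg.Agent.Lib.BlockExtendedMain
import Cfsg.Agent.Lib.BlockOrbit
import Cfsg.Agent.Lib.BlockSubsection

/-!
# When a block induced from a self-centralising local subgroup keeps its defect group
-/

set_option autoImplicit false
set_option linter.style.haveILetI false
set_option linter.unusedSectionVars false
set_option linter.unusedFintypeInType false

namespace CfsgLib.Block

open Cfsg CfsgLib.Char
open scoped ComplexConjugate Classical

universe u

variable {G : Type u} [Group G] [Fintype G] {p : ℕ} [Fact p.Prime] {M : Ideal AlgInt}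

/-- An invariant function vanishing at the fixed points of a `p`-group sums to zero. -/
theorem sum_eq_zero_of_fixed {A : Type*} [CommRing A] [CharP A p] {Q : Type*} [Group Q] [Finite Q]
    (hQ : IsPGroup p Q) {X : Type*} [Fintype X] (σ : Q → X → X) (hone : ∀ x, σ 1 x = x)
    (hmul : ∀ a b x, σ (a * b) x = σ a (σ b x)) (f : X → A)
    (hf : ∀ q x, f (σ q x) = f x) (hfix : ∀ x, (∀ q, σ q x = x) → f x = 0) :
    ∑ x, f x = 0 := by
  letI : MulAction Q X :=
    { smul := fun q x => σ q x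
      one_smul := hone
      mul_smul := fun a b x => hmul a b x }
  rw [sum_eq_sum_fixed hQ f hf]
  exact Finset.sum_eq_zero fun x hx => hfix x (Finset.mem_filter.1 hx).2

variable (hM : IsPModular p M) {P H : Subgroup G} (hP : IsPGroup p P)
  (hCH : Subgroup.centralizer (P : Set G) ≤ H) (hHN : H ≤ Subgroup.normalizer (P : Set G))
  (hPH : P ≤ H) {T : Subgroup G} (hHT : H ≤ T) (hTN : T ≤ Subgroup.normalizer (P : Set G))
  (hHn : ∀ x ∈ Subgroup.normalizer (P : Set G), ∀ g ∈ H, x * g * x⁻¹ ∈ H)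

include hHn in
/-- The `p`-elements of an intermediate group of index prime to `p` lie in the normal subgroup. -/
theorem mem_of_pGroup (hidx : ¬ p ∣ H.relIndex T) (hTN : T ≤ Subgroup.normalizer (P : Set G))
    {R : Subgroup G} (hR : IsPGroup p R) (hRT : R ≤ T) : R ≤ H := by
  intro z hz
  haveI : (H.subgroupOf T).Normal := ⟨fun a ha t => Subgroup.mem_subgroupOf.2
    (hHn t (hTN t.2) a (Subgroup.mem_subgroupOf.1 ha))⟩
  obtain ⟨k, hk⟩ := hR ⟨z, hz⟩
  have h1 : orderOf (QuotientGroup.mk' (H.subgroupOf T) ⟨z, hRT hz⟩) ∣ p ^ k := by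
    refine orderOf_dvd_of_pow_eq_one ?_
    rw [← map_pow, show (⟨z, hRT hz⟩ : T) ^ p ^ k = 1 from Subtype.ext (by simpa using congrArg Subtype.val hk),
      map_one]
  have h2 : orderOf (QuotientGroup.mk' (H.subgroupOf T) ⟨z, hRT hz⟩) ∣ H.relIndex T := by
    rw [Subgroup.relIndex, Subgroup.index_eq_card]
    exact orderOf_dvd_natCard _
  have hco := Nat.Coprime.pow_left k ((Fact.out : p.Prime).coprime_iff_not_dvd.2 hidx)
  have h3 := orderOf_eq_one_iff.1 (Nat.eq_one_of_dvd_coprimes hco h1 h2)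
  exact Subgroup.mem_subgroupOf.1 ((QuotientGroup.eq_one_iff _).1 h3)

include hM hP hCH hHN hPH hTN hHn in
/-- The stabiliser of index prime to `p` gives the full defect group. -/
theorem defectGroup_of_index [Fintype H] {b : Set (IrrCharacter H)} (hb : IsPBlock M b)
    (hbd : p ^ blockDefect p b = Nat.card P) {B : Set (IrrCharacter G)}
    (hind : IsInducedBlock M H b B)
    (hT : ∀ x ∈ Subgroup.normalizer (P : Set G), cnj x (bFn hM H b) = bFn hM H b → x ∈ T)
    (hidx : ¬ p ∣ H.relIndex T) : IsDefectGroup p M B P := by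
  haveI := charP_resField hM
  have hp := (Fact.out : p.Prime)
  obtain ⟨N, hN⟩ : ∃ N : Subgroup G, N = Subgroup.normalizer (P : Set G) := ⟨_, rfl⟩
  have hPN : P ≤ N := hN ▸ Subgroup.le_normalizer
  have hCN : Subgroup.centralizer (P : Set G) ≤ N := hN ▸ Subgroup.centralizer_le_normalizer (P : Set G)
  haveI : (P.subgroupOf N).Normal := (Subgroup.normal_subgroupOf_iff_le_normalizer hPN).2 hN.le
  have hP' : IsPGroup p (P.subgroupOf N) := hP.of_equiv (Subgroup.subgroupOfEquivOfLe hPN).symm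
  have hmem : ∀ x ∈ N, ∀ g, g ∈ H ↔ x⁻¹ * g * x ∈ H := fun x hx g => by
    refine ⟨fun hg => ?_, fun hg => ?_⟩
    · simpa using hHn x⁻¹ (hN ▸ inv_mem hx) g hg
    · have := hHn x (hN ▸ hx) _ hg
      rwa [show x * (x⁻¹ * g * x) * x⁻¹ = g by group] at this
  set ψ := trc P (gFn hM B) with hψ
  set Orb := (Finset.univ.filter (fun x : G => x ∈ N)).image (fun x => cnj x (bFn hM H b)) with hOrb
  have hblk : ∀ γ ∈ Orb, IsBlockFn hM H γ := fun γ hγ => by
    obtain ⟨x, hx, rfl⟩ := Finset.mem_image.1 hγ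
    exact isBlockFn_cnj hM x (hmem x (Finset.mem_filter.1 hx).2) ⟨b, hb, rfl⟩
  set a := ∑ γ ∈ Orb, γ with ha
  have hψinv : ∀ x ∈ N, cnj x ψ = ψ := fun x hx =>
    cnj_eq_self_of_invBy (invBy_trc hN.le (invBy_gFn hM B N)) hx
  have habs : ∀ γ ∈ Orb, gconv ψ γ = γ := fun γ hγ => by
    obtain ⟨x, hx, rfl⟩ := Finset.mem_image.1 hγ
    conv_lhs => rw [← hψinv x (Finset.mem_filter.1 hx).2]
    rw [← cnj_gconv, trc_gFn_gconv_bFn hM hP hCH hHN hPH hind]
  have hpick : ∀ γ ∈ Orb, gconv a γ = γ := by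
    intro γ hγ
    rw [ha, sum_gconv, Finset.sum_eq_single γ
      (fun δ hδ hne => (hblk δ hδ).mul_ne (hblk γ hγ) hne) (fun h => absurd hγ h), (hblk γ hγ).mul_self]
  have hsq : gconv a a = a := by
    conv_lhs => arg 2; rw [ha]
    rw [gconv_sum, ha]
    exact Finset.sum_congr rfl fun γ hγ => by rw [← ha, hpick γ hγ]
  have hsuppC : ∀ g, g ∉ Subgroup.centralizer (P : Set G) → a g = 0 := fun g hg => by
    rw [ha, Finset.sum_apply]
    refine Finset.sum_eq_zero fun γ hγ => ?_
    obtain ⟨e, he, rfl⟩ := hblk γ hγ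
    exact bFn_supp hM hP hCH hHN hPH he hg
  have hmap : ∀ x ∈ N, ∀ γ ∈ Orb, cnj x γ ∈ Orb := fun x hx γ hγ => by
    obtain ⟨y, hy, rfl⟩ := Finset.mem_image.1 hγ
    exact Finset.mem_image.2 ⟨x * y, Finset.mem_filter.2 ⟨Finset.mem_univ _,
      mul_mem hx (Finset.mem_filter.1 hy).2⟩, (cnj_cnj x y _).symm⟩
  have hainv : InvBy N a := invBy_of_cnj fun x hx => by
    have e : cnj x a = ∑ γ ∈ Orb, cnj x γ := by funext g; simp [cnj, ha, Finset.sum_apply]
    rw [e, ha]
    refine Finset.sum_nbij (fun γ => cnj x γ) (hmap x hx) (fun γ _ δ _ e => ?_) (fun γ hγ => ?_)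
      fun γ _ => rfl
    · simpa [cnj_cnj, cnj_one] using congrArg (cnj x⁻¹) e
    · refine ⟨cnj x⁻¹ γ, Finset.mem_coe.2 (hmap _ (inv_mem hx) γ (Finset.mem_coe.1 hγ)), ?_⟩
      show cnj x (cnj x⁻¹ γ) = γ
      rw [cnj_cnj, mul_inv_cancel, cnj_one]
  have hb0 : bFn hM H b ∈ Orb :=
    Finset.mem_image.2 ⟨1, Finset.mem_filter.2 ⟨Finset.mem_univ _, one_mem _⟩, cnj_one _⟩
  have ha0 : a ≠ 0 := fun h0 => by
    have := hpick _ hb0
    rw [h0, zero_gconv] at this
    exact (hblk _ hb0).ne_zero this.symm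
  have haψ : gconv ψ a = a := by
    rw [ha, gconv_sum]
    exact Finset.sum_congr rfl habs
  -- supports of the orbit sum have defect at most `P` in the normalizer
  have key : ∀ g, a g ≠ 0 →
      (Nat.card (Subgroup.centralizer ({g} : Set G) ⊓ N : Subgroup G)).factorization p ≤
        blockDefect p b := by
    intro g hg
    by_contra hlt
    set W := (Subgroup.centralizer ({g} : Set G) ⊓ N : Subgroup G)
    obtain ⟨S⟩ : Nonempty (Sylow p W) := inferInstance
    set Q : Subgroup G := (S : Subgroup W).map W.subtype with hQ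
    have hQp : IsPGroup p Q := S.isPGroup'.map _
    have hQW : Q ≤ W := Subgroup.map_subtype_le _
    have hQN : ∀ q : Q, (q : G) ∈ N := fun q => (hQW q.2).2
    refine hg ?_
    rw [ha, Finset.sum_apply, ← Finset.sum_coe_sort]
    refine sum_eq_zero_of_fixed hQp (fun q γ => ⟨cnj (q : G) γ.1, hmap q (hQN q) γ.1 γ.2⟩)
      (fun γ => Subtype.ext (cnj_one _)) (fun x y γ => Subtype.ext (cnj_cnj (x : G) y γ.1).symm)
      (fun γ : Orb => (γ : G → ResField M) g) (fun q γ => ?_) fun γ hfix => ?_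
    · show (γ : G → ResField M) ((q : G)⁻¹ * g * q) = (γ : G → ResField M) g
      rw [mul_assoc, ← Subgroup.mem_centralizer_singleton_iff.1 (hQW q.2).1, inv_mul_cancel_left]
    · by_contra hne
      obtain ⟨x, hx, hγ⟩ := Finset.mem_image.1 γ.2
      have hxN := (Finset.mem_filter.1 hx).2
      set g' := x⁻¹ * g * x with hg'
      have hne' : bFn hM H b g' ≠ 0 := fun h => hne (by rw [← hγ]; exact h)
      set R : Subgroup G := Q.map (MulAut.conj x⁻¹).toMonoidHom with hR
      have hRT : R ≤ T := by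
        rintro _ ⟨q, hq, rfl⟩
        have hy : x⁻¹ * q * x⁻¹⁻¹ ∈ N := mul_mem (mul_mem (inv_mem hxN) (hQN ⟨q, hq⟩)) (inv_mem (inv_mem hxN))
        refine hT _ (hN ▸ hy) ?_
        have h1 : cnj q (γ : G → ResField M) = γ := congrArg Subtype.val (hfix ⟨q, hq⟩)
        rw [← hγ] at h1
        show cnj (x⁻¹ * q * x⁻¹⁻¹) (bFn hM H b) = _
        conv_rhs => rw [← cnj_one (bFn hM H b), ← inv_mul_cancel x, ← cnj_cnj, ← h1]
        rw [cnj_cnj, cnj_cnj, inv_inv, mul_assoc]
      have hRH := mem_of_pGroup hHn hidx hTN (isPGroup_map_conj hQp x⁻¹) hRT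
      have hRC : R ≤ Subgroup.centralizer ({g'} : Set G) := by
        rintro _ ⟨q, hq, rfl⟩
        have h := Subgroup.mem_centralizer_singleton_iff.1 (hQW hq).1
        refine Subgroup.mem_centralizer_singleton_iff.2 ?_
        show x⁻¹ * q * x⁻¹⁻¹ * g' = g' * (x⁻¹ * q * x⁻¹⁻¹)
        rw [hg']
        calc _ = x⁻¹ * (q * g) * x := by group
          _ = x⁻¹ * (g * q) * x := by rw [h]
          _ = _ := by group
      have hg'H : g' ∈ H := by
        by_contra h
        exact hne' (bFn_supp hM hP hCH hHN hPH hb fun h' => h (hCH h'))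
      have hcd := classDefect_le_blockDefect hM hb (g := (⟨g', hg'H⟩ : H)) (by
        rw [bFn_eq_ext0, show g' = ((⟨g', hg'H⟩ : H) : G) from rfl, ext0_coe, gFn_block hM hb] at hne'
        exact hne')
      rw [classDefect, card_centralizer_subgroup] at hcd
      have hdvd : p ^ (Nat.card W).factorization p ∣
          Nat.card (Subgroup.centralizer ({g'} : Set G) ⊓ H : Subgroup G) := by
        rw [← S.card_eq_multiplicity, ← Subgroup.card_subtype, ← hQ, ← card_map_conj Q x⁻¹, ← hR]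
        exact Subgroup.card_dvd_of_le (le_inf hRC hRH)
      exact hlt (((hp.pow_dvd_iff_le_factorization Nat.card_pos.ne').1 hdvd).trans hcd)
  have hsuppN : ∀ g, g ∉ N → a g = 0 := fun g hg => hsuppC g fun h => hg (hCN h)
  obtain ⟨β, ⟨e, he, rfl⟩, hβ⟩ := exists_occ (hM := hM) (H := N) hsuppN hainv hsq ha0
  obtain ⟨ξ, hξ⟩ := isPBlock_nonempty hM he
  obtain ⟨v, hv⟩ := exists_lift hM (fun k : N => a k) fun g x => hainv x x.2 g
  have hev : ev hM ξ v = 1 := by
    have h := ev_congr_cred hM (v := v * bIdem hM he) (w := bIdem hM he) (ext0_injective N (by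
      rw [cred_mul_eq_gconv, ext0_gconv, hv, ← gFn_block hM he, ← bFn_eq_ext0, ext0_restrict hsuppN]
      exact hβ)) ξ
    rwa [map_mul, ev_bIdem, if_pos hξ, mul_one] at h
  have hdef : p ^ blockDefect p e = Nat.card (P.subgroupOf N) := by
    rw [Nat.card_congr (Subgroup.subgroupOfEquivOfLe hPN).toEquiv]
    obtain ⟨D, hD⟩ := exists_defectGroup hM he
    refine le_antisymm ?_ ?_
    · have hK : ∃ K : ConjClasses N, cred hM v (Quotient.out K) ≠ 0 ∧
          ev hM ξ (cl hM (Quotient.out K)) ≠ 0 := by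
        by_contra hh
        push Not at hh
        haveI := nontrivial_resField hM
        refine one_ne_zero (α := ResField M) ?_
        rw [← hev, ev_eq_sum hM v ξ]
        refine Finset.sum_eq_zero fun K _ => ?_
        by_cases h0 : cred hM v (Quotient.out K) = 0
        · rw [h0, zero_mul]
        · rw [hh K h0, mul_zero]
      obtain ⟨K, hK1, hK2⟩ := hK
      have h1 := blockDefect_le_classDefect hM he hξ hK2
      rw [classDefect, card_centralizer_subgroup] at h1
      rw [hv] at hK1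
      rw [← hbd]
      exact Nat.pow_le_pow_right hp.pos (h1.trans (key _ hK1))
    · rw [← card_defectGroup hM he hD, ← Nat.card_congr (Subgroup.subgroupOfEquivOfLe hPN).toEquiv]
      exact Nat.le_of_dvd Nat.card_pos
        (Subgroup.card_dvd_of_le (normal_pGroup_le_defectGroup hM _ hP' he hD))
  have hw : ev hM ξ (brLift hM hN.le (bIdem hM hind.2.1)) = 1 := by
    have hc : cred hM (brLift hM hN.le (bIdem hM hind.2.1) * v) = cred hM v := by
      apply ext0_injective N
      have h2 : cred hM (brLift hM hN.le (bIdem hM hind.2.1)) = fun k : N => ψ k := funext fun k => by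
        rw [cred_brLift, hψ, gFn_block hM hind.2.1]
        rfl
      rw [cred_mul_eq_gconv, ext0_gconv, hv, h2, ext0_restrict hsuppN,
        ext0_restrict (fun g hg => by rw [hψ, trc, if_neg fun h => hg (hCN h)]), haψ]
    have h := ev_congr_cred hM hc ξ
    rwa [map_mul, hev, mul_one] at h
  refine defectGroup_of_induced hM hP hCN hN.le hPN hN (b := e) (B := B) ?_ hdef
  rw [isPBlock_eq_blockOf hM he hξ]
  refine (mem_brSet_iff hM hP hCN hN.le hPN hind.2.1 ξ).1 ?_
  show brLam hM hP hCN hN.le ξ (bIdem hM hind.2.1) = 1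
  rw [brLam_apply, hw]

include hM hP hCH hHN hPH hHT hTN hHn in
/-- A stabiliser of index divisible by `p` enlarges the defect group. -/
theorem not_dvd_of_defectGroup [Fintype H] {b : Set (IrrCharacter H)}
    {B : Set (IrrCharacter G)} (hind : IsInducedBlock M H b B) (hD : IsDefectGroup p M B P)
    (hT : ∀ x ∈ T, ∀ θ ∈ b, ∀ θ' : IrrCharacter H, (∀ h h' : H, (h' : G) = x * h * x⁻¹ →
      (θ' : H → ℂ) h' = (θ : H → ℂ) h) → θ' ∈ b) : ¬ p ∣ H.relIndex T := by
  intro hdvd
  haveI := charP_resField hM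
  have hp := (Fact.out : p.Prime)
  obtain ⟨c, hc, hle, hcard⟩ := (isDefectGroup_data hM hind.2.1).1 hD
  have hcC : c ∈ Subgroup.centralizer (P : Set G) := Subgroup.mem_centralizer_iff.2 fun z hz =>
    Subgroup.mem_centralizer_singleton_iff.1 (hle hz)
  have hdef : Nat.card P = p ^ (Nat.card (Subgroup.centralizer ({c} : Set G))).factorization p := by
    rw [hcard, defectClass_factorization_centralizer hM hind.2.1 hc]
  obtain ⟨θ, hθ⟩ := isPBlock_nonempty hM hind.1
  obtain ⟨χ, hχ⟩ := isPBlock_nonempty hM hind.2.1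
  have hne := ((isDefectClass_iff hM hind.2.1 c).1 hc).2 χ hχ
  rw [← ((isInducedBlock_iff hM H b B).1 hind).2.2 θ hθ χ hχ, ev_resLift_eq_brLift hM hP hHN hPH,
    ev_eq_sum hM] at hne
  haveI : (H.subgroupOf T).Normal := ⟨fun a ha t => Subgroup.mem_subgroupOf.2
    (hHn t (hTN t.2) a (Subgroup.mem_subgroupOf.1 ha))⟩
  obtain ⟨S⟩ : Nonempty (Sylow p T) := inferInstance
  set Q : Subgroup G := (S : Subgroup T).map T.subtype with hQ
  have hQp : IsPGroup p Q := S.isPGroup'.map _
  have hQT : Q ≤ T := Subgroup.map_subtype_le _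
  have hQH : ¬ Q ≤ H := by
    intro h
    have h1 : (S : Subgroup T) ≤ H.subgroupOf T := fun z hz =>
      Subgroup.mem_subgroupOf.2 (h ⟨z, hz, rfl⟩)
    exact S.not_dvd_index (hdvd.trans (Subgroup.index_dvd_of_le h1))
  let φ : ∀ q : T, H ≃* H := fun q =>
    { toFun := fun k => ⟨(q : G) * k * (q : G)⁻¹, hHn q (hTN q.2) k k.2⟩
      invFun := fun k => ⟨(q : G)⁻¹ * k * (q : G)⁻¹⁻¹, hHn _ (inv_mem (hTN q.2)) k k.2⟩
      left_inv := fun k => Subtype.ext (show (q : G)⁻¹ * ((q : G) * k * (q : G)⁻¹) * (q : G)⁻¹⁻¹ = k by group)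
      right_inv := fun k => Subtype.ext (show (q : G) * ((q : G)⁻¹ * k * (q : G)⁻¹⁻¹) * (q : G)⁻¹ = k by group)
      map_mul' := fun a b => Subtype.ext (show (q : G) * ((a : G) * b) * (q : G)⁻¹ =
        (q : G) * (a : G) * (q : G)⁻¹ * ((q : G) * (b : G) * (q : G)⁻¹) by group) }
  have hev : ∀ (q : T) (k : H), ev hM θ (cl hM (φ q k)) = ev hM θ (cl hM k) := by
    intro q k
    have hθ' : irrMap (φ q) θ ∈ b := hT q q.2 θ hθ _ fun h h' e => by
      rw [show h' = φ q h from Subtype.ext e, irrMap_apply]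
    rw [ev_eq_of_mem hM hind.1 hθ hθ' (cl hM (φ q k)), ev_cl, ev_cl]
    exact congrArg _ (Subtype.ext (centralChar_irrMap (φ q) θ k))
  refine hne (sum_eq_zero_of_fixed hQp
    (fun q K => ConjClasses.map (φ ⟨q, hQT q.2⟩).toMonoidHom K) (fun K => ?_) (fun x y K => ?_) _
    (fun q K => ?_) fun K hfix => ?_)
  · obtain ⟨k, rfl⟩ := ConjClasses.mk_surjective K
    exact congrArg ConjClasses.mk (Subtype.ext (show (1 : G) * k * (1 : G)⁻¹ = k by group))
  · obtain ⟨k, rfl⟩ := ConjClasses.mk_surjective K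
    refine congrArg ConjClasses.mk (Subtype.ext ?_)
    show (x : G) * y * k * ((x : G) * y)⁻¹ = (x : G) * ((y : G) * k * (y : G)⁻¹) * (x : G)⁻¹
    group
  · obtain ⟨k, rfl⟩ := ConjClasses.mk_surjective K
    set q' : T := ⟨q, hQT q.2⟩
    have hconj : ∀ k' : H, IsConj (Quotient.out (ConjClasses.mk k')) k' := fun k' =>
      ConjClasses.mk_eq_mk_iff_isConj.1 (Quotient.out_eq (ConjClasses.mk k'))
    have hinv : ∀ k' : H, cred hM (brLift hM hHN (cl hM c)) (Quotient.out (ConjClasses.mk k')) *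
        ev hM θ (cl hM (Quotient.out (ConjClasses.mk k'))) =
        cred hM (brLift hM hHN (cl hM c)) k' * ev hM θ (cl hM k') := by
      intro k'
      obtain ⟨l, hl⟩ := isConj_iff.1 (hconj k')
      conv_rhs => rw [← hl]
      rw [cred_classFunction, ev_congr_cred hM (funext fun h => ?_) θ]
      rw [cred_cl, cred_cl]
      have : IsConj (Quotient.out (ConjClasses.mk k')) (l * Quotient.out (ConjClasses.mk k') * l⁻¹) :=
        isConj_iff.2 ⟨l, rfl⟩
      exact if_congr ⟨fun h => this.symm.trans h, fun h => this.trans h⟩ rfl rfl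
    show cred hM (brLift hM hHN (cl hM c)) (Quotient.out (ConjClasses.mk (φ q' k))) *
      ev hM θ (cl hM (Quotient.out (ConjClasses.mk (φ q' k)))) = _
    rw [hinv, hinv, hev, cred_brLift, cred_brLift, cred_cl, cred_cl]
    congr 1
    refine if_congr (conj_mem_centralizer_iff (hTN q'.2) (k : G)) ?_ rfl
    refine if_congr ?_ rfl rfl
    have hk : IsConj (k : G) ((φ q' k : H) : G) := isConj_iff.2 ⟨(q : G), rfl⟩
    exact ⟨fun h => h.trans hk.symm, fun h => h.trans hk⟩
  · by_contra hne0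
    obtain ⟨k, hk⟩ : ∃ k, k = Quotient.out K := ⟨_, rfl⟩
    rw [← hk] at hne0
    have hcr := left_ne_zero_of_mul hne0
    rw [cred_brLift, cred_cl, ← ite_and, ne_eq, ite_eq_right_iff, Classical.not_imp] at hcr
    obtain ⟨⟨hkC, hkc⟩, -⟩ := hcr
    have hdefk : Nat.card P = p ^ (Nat.card (Subgroup.centralizer ({(k : G)} : Set G))).factorization p := by
      obtain ⟨y, hy⟩ := isConj_iff.1 hkc
      rw [← hy, CfsgLib.Block.card_centralizer_conj y c]
      exact hdef
    refine hQH fun q hq => ?_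
    have hfq := hfix ⟨q, hq⟩
    rw [show K = ConjClasses.mk k by rw [hk]; exact (Quotient.out_eq K).symm] at hfq
    obtain ⟨l, hl⟩ := isConj_iff.1 (ConjClasses.mk_eq_mk_iff_isConj.1 hfq)
    have hl' : (l : G) * (q * k * q⁻¹) * (l : G)⁻¹ = k := congrArg Subtype.val hl
    set w := (l : G) * q
    have hwT : w ∈ T := mul_mem (hHT l.2) (hQT hq)
    have hwC : w ∈ Subgroup.centralizer ({(k : G)} : Set G) := by
      refine Subgroup.mem_centralizer_singleton_iff.2 ?_
      conv_rhs => rw [← hl']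
      show (l : G) * q * k = (l : G) * (q * k * q⁻¹) * (l : G)⁻¹ * ((l : G) * q)
      group
    set W := (Subgroup.centralizer ({(k : G)} : Set G) ⊓ T : Subgroup G) with hW
    let f : W →* T ⧸ H.subgroupOf T :=
      (QuotientGroup.mk' (H.subgroupOf T)).comp (Subgroup.inclusion inf_le_right)
    have hPker : (P.subgroupOf W) ≤ f.ker := fun z hz =>
      (QuotientGroup.eq_one_iff _).2 (Subgroup.mem_subgroupOf.2 (hPH (Subgroup.mem_subgroupOf.1 hz)))
    have hPW : P ≤ W := le_inf (fun z hz => Subgroup.mem_centralizer_singleton_iff.2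
      (Subgroup.mem_centralizer_iff.1 hkC z hz)) (hPH.trans hHT)
    have hnd : ¬ p ∣ Nat.card f.range := by
      intro hd
      have h3 : Nat.card P * p ∣ Nat.card W := by
        rw [← f.ker.card_mul_index, Subgroup.index_ker,
          ← Nat.card_congr (Subgroup.subgroupOfEquivOfLe hPW).toEquiv]
        exact Nat.mul_dvd_mul (Subgroup.card_dvd_of_le hPker) hd
      rw [hdefk, ← pow_succ] at h3
      have h4 := (hp.pow_dvd_iff_le_factorization Nat.card_pos.ne').1
        (h3.trans (Subgroup.card_dvd_of_le inf_le_left))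
      omega
    obtain ⟨j, hj⟩ := hQp ⟨q, hq⟩
    have hj' : q ^ p ^ j = 1 := congrArg Subtype.val hj
    have hfw : f ⟨w, hwC, hwT⟩ = QuotientGroup.mk' (H.subgroupOf T) ⟨q, hQT hq⟩ := by
      show QuotientGroup.mk' (H.subgroupOf T) (⟨l, hHT l.2⟩ * ⟨q, hQT hq⟩) = _
      rw [map_mul, show QuotientGroup.mk' (H.subgroupOf T) (⟨l, hHT l.2⟩ : T) = 1 from
        (QuotientGroup.eq_one_iff _).2 (Subgroup.mem_subgroupOf.2 l.2), one_mul]
    have h1 : orderOf (f ⟨w, hwC, hwT⟩) ∣ p ^ j := orderOf_dvd_of_pow_eq_one (by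
      rw [hfw, ← map_pow, show (⟨q, hQT hq⟩ : T) ^ p ^ j = 1 from Subtype.ext hj', map_one])
    have h2 : orderOf (f ⟨w, hwC, hwT⟩) ∣ Nat.card f.range :=
      (Subgroup.orderOf_coe (⟨f ⟨w, hwC, hwT⟩, _, rfl⟩ : f.range)).symm ▸ orderOf_dvd_natCard _
    have h3 := orderOf_eq_one_iff.1 (Nat.eq_one_of_dvd_coprimes
      (Nat.Coprime.pow_left j (hp.coprime_iff_not_dvd.2 hnd)) h1 h2)
    rw [hfw] at h3
    exact Subgroup.mem_subgroupOf.1 ((QuotientGroup.eq_one_iff _).1 h3)

end CfsgLib.Block
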