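import Cfsg.Agent.Lib.BlockCovering
import Cfsg.Agent.Lib.BlockFullDefect
import Mathlib.Combinatorics.Pigeonhole

/-!
# Defect groups of covering blocks
-/

set_option autoImplicit false
set_option linter.style.haveILetI false
set_option linter.unusedSectionVars false
set_option linter.unusedFintypeInType false

namespace CfsgLib.Block

open Cfsg CfsgLib.Char
open scoped ComplexConjugate Classical

universe u

variable {G : Type u} [Group G] [Fintype G] {p : ℕ} [Fact p.Prime] {M : Ideal AlgInt}

/-- Iterated convolution products of a sequence, starting from a fixed identity. -/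
noncomputable def gprod {R : Type*} [CommRing R] (β : G → R) (c : ℕ → G → R) (i : ℕ) : ℕ → G → R
  | 0 => β
  | n + 1 => gconv (gprod β c i n) (c (i + n))

variable (hM : IsPModular p M) {N : Subgroup G} [hN : N.Normal] [Fintype N] {Q : Subgroup G}

/-- Elements of the kernel of the Brauer map in the centralized component of a block. -/
def InKer (β : G → ResField M) (N Q : Subgroup G) (a : G → ResField M) : Prop :=
  InvBy N a ∧ trc Q a = 0 ∧ gconv β a = a ∧ gconv a β = a

include hN in
theorem invBy_ext0 {f : N → ResField M} (hf : ∀ g x, f (x * g * x⁻¹) = f g) :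
    InvBy N (ext0 N f) := by
  intro k hk g
  by_cases hg : g ∈ N
  · rw [show k * g * k⁻¹ = (((⟨k, hk⟩ : N) * ⟨g, hg⟩ * ⟨k, hk⟩⁻¹ : N) : G) from rfl, ext0_coe, hf]
    exact (ext0_coe N f ⟨g, hg⟩).symm
  · have h' : k * g * k⁻¹ ∉ N := fun h => hg (by
      have := hN.conj_mem _ h k⁻¹
      rwa [show k⁻¹ * (k * g * k⁻¹) * k⁻¹⁻¹ = g by group] at this)
    simp [ext0, hg, h']

section Kernel

variable {b : Set (IrrCharacter N)} (hb : IsPBlock M b) (hQ : IsPGroup p Q) (hQN : Q ≤ N)
  (hbr : trc Q (bFn hM N b) ≠ 0)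

include hM hb in
theorem bFn_idem : gconv (bFn hM N b) (bFn hM N b) = bFn hM N b :=
  IsBlockFn.mul_self (hM := hM) (H := N) ⟨b, hb, rfl⟩

include hM hb hQ hQN in
theorem inKer_mul {a a' : G → ResField M} (ha : InKer (bFn hM N b) N Q a)
    (ha' : InKer (bFn hM N b) N Q a') : InKer (bFn hM N b) N Q (gconv a a') := by
  haveI := charP_resField hM
  refine ⟨invBy_gconv ha.1 ha'.1, ?_, ?_, ?_⟩
  · rw [trc_gconv hQ (invBy_mono ha.1 hQN) (invBy_mono ha'.1 hQN), ha.2.1, zero_gconv]
  · rw [← gconv_assoc, ha.2.2.1]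
  · rw [gconv_assoc, ha'.2.2.2]

include hM hb in
theorem gprod_mul_right {c : ℕ → G → ResField M} (i : ℕ) :
    ∀ n, (∀ j < n, InKer (bFn hM N b) N Q (c (i + j))) →
      gconv (gprod (bFn hM N b) c i n) (bFn hM N b) = gprod (bFn hM N b) c i n
  | 0, _ => bFn_idem hM hb
  | n + 1, h => by
    rw [gprod, gconv_assoc, (h n n.lt_succ_self).2.2.2]

include hM hb in
theorem gprod_add {c : ℕ → G → ResField M} (i a : ℕ) :
    ∀ n, (∀ j < a + n, InKer (bFn hM N b) N Q (c (i + j))) →
      gprod (bFn hM N b) c i (a + n) =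
        gconv (gprod (bFn hM N b) c i a) (gprod (bFn hM N b) c (i + a) n)
  | 0, h => (gprod_mul_right hM hb i a (fun j hj => h j hj)).symm
  | n + 1, h => by
    rw [← Nat.add_assoc, gprod, gprod_add i a n (fun j hj => h j (by omega)), gprod, gconv_assoc,
      Nat.add_assoc]

include hM hb hQ hQN in
theorem inKer_gprod {c : ℕ → G → ResField M} (i : ℕ) :
    ∀ n, (∀ j ≤ n, InKer (bFn hM N b) N Q (c (i + j))) →
      InKer (bFn hM N b) N Q (gprod (bFn hM N b) c i (n + 1))
  | 0, h => by
    rw [gprod, gprod, (h 0 le_rfl).2.2.1]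
    exact h 0 le_rfl
  | n + 1, h => by
    rw [gprod]
    exact inKer_mul hM hb hQ hQN (inKer_gprod i n fun j hj => h j (by omega)) (h (n + 1) le_rfl)

include hM hb hQ hQN hbr in
/-- Products of enough kernel elements inside the group ring of `N` vanish. -/
theorem gprod_eq_zero {c : ℕ → G → ResField M}
    (hc : ∀ i < Fintype.card (IrrCharacter N), InKer (bFn hM N b) N Q (c i) ∧ ∀ g, g ∉ N → c i g = 0) :
    gprod (bFn hM N b) c 0 (Fintype.card (IrrCharacter N)) = 0 := by
  haveI := charP_resField hM
  letI : Field (ResField M) := @Ideal.Quotient.field _ _ M hM.2.1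
  have hp := (Fact.out : p.Prime)
  have hex : ∀ i, ∃ v : intRing (G := N) hM, i < Fintype.card (IrrCharacter N) →
      cred hM v = fun k : N => c i k := by
    intro i
    by_cases hi : i < Fintype.card (IrrCharacter N)
    · obtain ⟨v, hv⟩ := exists_lift hM (fun k : N => c i k) fun g x => (hc i hi).1.1 x x.2 g
      exact ⟨v, fun _ => hv⟩
    · exact ⟨0, fun h => absurd h hi⟩
  choose v hv using hex
  set e := bIdem hM hb with he
  have hβ : bFn hM N b = ext0 N (cred hM e) := by rw [bFn_eq_ext0, gFn_block hM hb]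
  have hev : ∀ i < Fintype.card (IrrCharacter N), ∀ θ : IrrCharacter N, ev hM θ (v i) = 0 := by
    intro i hi θ
    obtain ⟨hK, hsupp⟩ := hc i hi
    have habs : ext0 N (cred hM (v i * e)) = c i := by
      rw [cred_mul_eq_gconv, ext0_gconv, hv i hi, ext0_restrict hsupp, ← hβ, hK.2.2.2]
    have hve : cred hM (v i * e) = cred hM (v i) := by
      apply ext0_injective N
      rw [habs, hv i hi, ext0_restrict hsupp]
    have h1 : ∀ η, ev hM η (v i) * ev hM η e = ev hM η (v i) := fun η => by
      rw [← map_mul]; exact ev_congr_cred hM hve η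
    by_contra hne
    have hθ : θ ∈ b := by
      by_contra hθ
      have := h1 θ
      rw [he, ev_bIdem, if_neg hθ, mul_zero] at this
      exact hne this.symm
    set v' := v i * cst hM (sect hM (ev hM θ (v i))⁻¹) with hv'
    set u := e - v' with hu
    have hu0 : ∀ η, ev hM η u = 0 := by
      intro η
      rw [hu, map_sub, hv', map_mul, ev_cst, res_sect, he, ev_bIdem]
      split_ifs with hη
      · rw [ev_eq_of_mem hM hb hη hθ, mul_inv_cancel₀ hne, sub_self]
      · have := h1 η
        rw [he, ev_bIdem, if_neg hη, mul_zero] at this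
        rw [← this, zero_mul, sub_zero]
    obtain ⟨k, hk⟩ : ∃ k, Fintype.card (IrrCharacter N) ≤ p ^ k :=
      ⟨Fintype.card (IrrCharacter N), (Nat.lt_pow_self hp.one_lt).le⟩
    obtain ⟨r, hr⟩ := exists_add_pow_prime_pow_eq hp u v' k
    have hp0 : ((p : ℕ) : intRing (G := N) hM) ∈ redIdeal hM := by
      rw [← map_natCast (cst hM)]
      exact cst_mem_redIdeal hM ((res_natCast_eq_zero_iff hM p).2 dvd_rfl)
    have hidem : ∀ n, e ^ (n + 1) = e := fun n => by
      induction n with
      | zero => exact pow_one _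
      | succ n ih => rw [pow_succ, ih, he, bIdem_sq]
    obtain ⟨m, hm⟩ : ∃ m, p ^ k = m + 1 := ⟨p ^ k - 1, by have := pow_pos hp.pos k; omega⟩
    have hmk : Ideal.Quotient.mk (redIdeal hM) e =
        Ideal.Quotient.mk (redIdeal hM) (v' ^ (p ^ k)) := by
      rw [Ideal.Quotient.eq]
      have e' : e - v' ^ (p ^ k) = u ^ (p ^ k) + ((p : ℕ) : intRing (G := N) hM) * (u * v' * r) := by
        rw [sub_add_cancel, hm, hidem, ← hm] at hr
        conv_lhs => rw [hr]
        ring
      rw [e']
      exact add_mem (by rw [← Nat.sub_add_cancel hk, pow_add]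
                        exact Ideal.mul_mem_left _ _ (pow_mem_redIdeal hM u hu0))
        (Ideal.mul_mem_right _ _ hp0)
    have hfin : cred hM e = cred hM (v i * (cst hM (sect hM (ev hM θ (v i))⁻¹) * v' ^ m)) := by
      funext g
      rw [(mk_redIdeal_eq_iff hM _ _).1 hmk g, hm, pow_succ']
      rw [hv', mul_assoc]
    refine hbr ?_
    rw [hβ, hfin, cred_mul_eq_gconv, ext0_gconv, hv i hi, ext0_restrict hsupp,
      trc_gconv hQ (invBy_mono hK.1 hQN) (invBy_mono (invBy_ext0 (N := N) (M := M) (cred_classFunction hM _)) hQN),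
      hK.2.1, zero_gconv]
  have hprod : ∀ n ≤ Fintype.card (IrrCharacter N),
      gprod (bFn hM N b) c 0 n = ext0 N (cred hM (e * ∏ i ∈ Finset.range n, v i)) := by
    intro n hn
    induction n with
    | zero => rw [Finset.range_zero, Finset.prod_empty, mul_one, ← hβ]; rfl
    | succ n ih =>
      rw [gprod, ih (by omega), Nat.zero_add, Finset.prod_range_succ, ← mul_assoc, cred_mul_eq_gconv
        (v := e * ∏ i ∈ Finset.range n, v i), ext0_gconv, hv n (by omega),
        ext0_restrict (hc n (by omega)).2]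
  rw [hprod _ le_rfl]
  let en := Fintype.equivFin (IrrCharacter N)
  have h0 : ∏ j : Fin (Fintype.card (IrrCharacter N)),
      (v j - cst hM (evO hM (en.symm j) (v j))) = 0 := by
    apply Subtype.ext
    funext ψ
    rw [SubmonoidClass.coe_finsetProd, Finset.prod_apply]
    refine Finset.prod_eq_zero (Finset.mem_univ (en ψ)) ?_
    show ((v (en ψ) : intRing (G := N) hM) : IrrCharacter N → ℂ) ψ -
      ((v (en ψ) : intRing (G := N) hM) : IrrCharacter N → ℂ) (en.symm (en ψ)) = 0
    rw [en.symm_apply_apply, sub_self]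
  have h1 : Ideal.Quotient.mk (redIdeal hM) (∏ i ∈ Finset.range (Fintype.card (IrrCharacter N)), v i) = 0 := by
    rw [← Fin.prod_univ_eq_prod_range, map_prod, ← map_zero (Ideal.Quotient.mk (redIdeal (G := N) hM)),
      ← h0, map_prod]
    refine Finset.prod_congr rfl fun j _ => ?_
    rw [map_sub, Ideal.Quotient.eq_zero_iff_mem.2 (cst_mem_redIdeal hM (hev j j.2 (en.symm j))), sub_zero]
  have h2 : cred hM (e * ∏ i ∈ Finset.range (Fintype.card (IrrCharacter N)), v i) = 0 := by
    rw [← cred_zero_eq hM]
    funext g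
    exact (mk_redIdeal_eq_iff hM _ _).1 (by rw [map_mul, h1, mul_zero, map_zero]) g
  rw [h2, ext0_zero]

include hM hb hQ hQN hbr in
/-- The Brauer map is nonzero on the product of a block with a block of `N` it does not
annihilate. -/
theorem trc_gconv_ne_zero {B : Set (IrrCharacter G)} (hB : IsPBlock M B)
    (hne : gconv (gFn hM B) (bFn hM N b) ≠ 0) :
    gconv (trc Q (gFn hM B)) (trc Q (bFn hM N b)) ≠ 0 := by
  haveI := charP_resField hM
  intro hno
  set β := bFn hM N b with hβ
  set x := gconv (gFn hM B) β with hx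
  have hβsupp : ∀ g, g ∉ N → β g = 0 := fun g hg =>
    IsBlockFn.supp (hM := hM) (H := N) ⟨b, hb, rfl⟩ hg
  have hβinv : InvBy N β := IsBlockFn.invBy (hM := hM) (H := N) ⟨b, hb, rfl⟩
  have hBc : ∀ y g, gFn hM B (y * g * y⁻¹) = gFn hM B g := fun y g => gFn_classFunction hM B g y
  have hcomm : gconv β (gFn hM B) = gconv (gFn hM B) β := by
    funext g
    simp only [gconv]
    refine Fintype.sum_equiv ((Equiv.inv G).trans (Equiv.mulLeft g)) _ _ fun y => ?_
    show β y * gFn hM B (y⁻¹ * g) = gFn hM B (g * y⁻¹) * β ((g * y⁻¹)⁻¹ * g)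
    rw [show g * y⁻¹ = y * (y⁻¹ * g) * y⁻¹ by group, hBc,
      show (y * (y⁻¹ * g) * y⁻¹)⁻¹ * g = y by group, mul_comm]
  have hxk : InKer β N Q x := by
    refine ⟨invBy_gconv (invBy_gFn hM B N) hβinv, ?_, ?_, ?_⟩
    · rw [hx, trc_gconv hQ (invBy_mono (invBy_gFn hM B N) hQN) (invBy_mono hβinv hQN)]
      exact hno
    · rw [hx, ← gconv_assoc, hcomm, gconv_assoc, bFn_idem hM hb]
    · rw [hx, gconv_assoc, bFn_idem hM hb]
  have hxx : gconv x x = x := by
    rw [hx, gconv_assoc, ← gconv_assoc β, hcomm, gconv_assoc, bFn_idem hM hb, ← gconv_assoc,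
      gFn_mul_gFn hM hB hB, if_pos rfl]
  -- homogeneous components
  set comp : G ⧸ N → G → ResField M := fun q g => if (g : G ⧸ N) = q then x g else 0 with hcomp
  have hmk : ∀ {a c : G}, a ∈ N → ((a * c : G) : G ⧸ N) = c := fun {a c} ha => by
    rw [QuotientGroup.mk_mul, (QuotientGroup.eq_one_iff a).2 ha, one_mul]
  have hcompk : ∀ q, InKer β N Q (comp q) := by
    intro q
    refine ⟨fun k hk g => ?_, ?_, ?_, ?_⟩
    · have e : ((k * g * k⁻¹ : G) : G ⧸ N) = g := by
        rw [QuotientGroup.mk_mul, QuotientGroup.mk_mul, (QuotientGroup.eq_one_iff k).2 hk,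
          (QuotientGroup.eq_one_iff _).2 (inv_mem hk), one_mul, mul_one]
      simp only [hcomp, e, hxk.1 k hk g]
    · funext g
      have h := congrFun hxk.2.1 g
      simp only [trc, hcomp, Pi.zero_apply] at h ⊢
      split_ifs with h1 h2
      · rwa [if_pos h1] at h
      · rfl
      · rfl
    · funext g
      have h := congrFun hxk.2.2.1 g
      simp only [gconv, hcomp] at h ⊢
      by_cases hq : (g : G ⧸ N) = q
      · rw [if_pos hq, ← h]
        refine Finset.sum_congr rfl fun y _ => ?_
        by_cases hy : y ∈ N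
        · rw [if_pos (by rw [hmk (inv_mem hy)]; exact hq)]
        · rw [hβsupp y hy, zero_mul, zero_mul]
      · rw [if_neg hq]
        refine Finset.sum_eq_zero fun y _ => ?_
        by_cases hy : y ∈ N
        · rw [if_neg (by rw [hmk (inv_mem hy)]; exact hq), mul_zero]
        · rw [hβsupp y hy, zero_mul]
    · funext g
      have h := congrFun hxk.2.2.2 g
      simp only [gconv, hcomp] at h ⊢
      have hyg : ∀ y : G, y⁻¹ * g ∈ N → (y : G ⧸ N) = g := fun y hy => by
        rw [show g = y * (y⁻¹ * g) by group, QuotientGroup.mk_mul, (QuotientGroup.eq_one_iff _).2 hy,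
          mul_one]
      by_cases hq : (g : G ⧸ N) = q
      · rw [if_pos hq, ← h]
        refine Finset.sum_congr rfl fun y _ => ?_
        by_cases hy : y⁻¹ * g ∈ N
        · rw [if_pos (by rw [hyg y hy]; exact hq)]
        · rw [hβsupp _ hy, mul_zero, mul_zero]
      · rw [if_neg hq]
        refine Finset.sum_eq_zero fun y _ => ?_
        by_cases hy : y⁻¹ * g ∈ N
        · rw [if_neg (by rw [hyg y hy]; exact hq), zero_mul]
        · rw [hβsupp _ hy, mul_zero]
  set m := Fintype.card (IrrCharacter N) with hm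
  -- all long products vanish
  have hzero : ∀ w : ℕ → G ⧸ N, gprod β (fun i => comp (w i)) 0 (Fintype.card (G ⧸ N) * m) = 0 := by
    intro w
    set c : ℕ → G → ResField M := fun i => comp (w i) with hc
    set L := Fintype.card (G ⧸ N) * m with hL
    let deg : ℕ → G ⧸ N := fun n => ((List.range n).map w).prod
    have hdeg : ∀ i n g, gprod β c i n g ≠ 0 → deg i * (g : G ⧸ N) = deg (i + n) := by
      intro i n
      induction n with
      | zero =>
        intro g hg
        have : g ∈ N := by
          by_contra h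
          exact hg (hβsupp g h)
        rw [(QuotientGroup.eq_one_iff g).2 this, mul_one, Nat.add_zero]
      | succ n ih =>
        intro g hg
        rw [gprod, gconv] at hg
        obtain ⟨y, -, hy⟩ := Finset.exists_ne_zero_of_sum_ne_zero hg
        have h1 := ih y (left_ne_zero_of_mul hy)
        have h2 := right_ne_zero_of_mul hy
        simp only [hc, hcomp, ne_eq, ite_eq_right_iff, Classical.not_imp] at h2
        rw [show g = y * (y⁻¹ * g) by group, QuotientGroup.mk_mul, h2.1, ← mul_assoc, h1,
          ← Nat.add_assoc]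
        simp [deg, List.range_succ]
    obtain ⟨q, -, hq⟩ := Finset.exists_lt_card_fiber_of_mul_lt_card_of_maps_to
      (s := Finset.range (L + 1)) (t := (Finset.univ : Finset (G ⧸ N))) (f := deg) (n := m)
      (fun _ _ => Finset.mem_univ _) (by rw [Finset.card_univ, Finset.card_range, hL]; omega)
    set F := Finset.filter (fun i => deg i = q) (Finset.range (L + 1)) with hF
    let em := F.orderEmbOfCardLe (Nat.succ_le_of_lt hq)
    let i : ℕ → ℕ := fun l => em ⟨min l m, by omega⟩
    have himem : ∀ l, deg (i l) = q ∧ i l ≤ L := fun l => by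
      have h := Finset.mem_filter.1 (F.orderEmbOfCardLe_mem (Nat.succ_le_of_lt hq) ⟨min l m, by omega⟩)
      exact ⟨h.2, Nat.lt_succ_iff.1 (Finset.mem_range.1 h.1)⟩
    have hlt : ∀ l < m, i l < i (l + 1) := fun l hl =>
      em.strictMono (show min l m < min (l + 1) m by omega)
    have hmono : ∀ l ≤ m, i 0 ≤ i l := fun l hl => by
      induction l with
      | zero => exact le_rfl
      | succ l ih => exact (ih (by omega)).trans (hlt l (by omega)).le
    have hck : ∀ j, InKer β N Q (c j) := fun j => hcompk (w j)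
    set s : ℕ → G → ResField M := fun l => gprod β c (i l) (i (l + 1) - i l) with hs
    have hs0 : gprod β s 0 m = 0 := by
      refine gprod_eq_zero hM hb hQ hQN hbr fun l hl => ?_
      have hpos := hlt l hl
      obtain ⟨d, hd⟩ : ∃ d, i (l + 1) - i l = d + 1 := ⟨i (l + 1) - i l - 1, by omega⟩
      refine ⟨?_, fun g hg => ?_⟩
      · simp only [hs, hd]
        exact inKer_gprod hM hb hQ hQN (i l) d fun j _ => hck _
      · by_contra hne
        have h := hdeg (i l) _ g hne
        rw [show i l + (i (l + 1) - i l) = i (l + 1) by omega, (himem l).1, (himem (l + 1)).1] at h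
        exact hg ((QuotientGroup.eq_one_iff g).1 (mul_eq_left.1 h))
    have hseg : ∀ l ≤ m, gprod β s 0 l = gprod β c (i 0) (i l - i 0) := by
      intro l hl
      induction l with
      | zero => rw [Nat.sub_self]; rfl
      | succ l ih =>
        have h1 := hlt l (by omega)
        have h2 := hmono l (by omega)
        rw [gprod, ih (by omega), Nat.zero_add, show i (l + 1) - i 0 = (i l - i 0) + (i (l + 1) - i l) by omega,
          gprod_add hM hb (i 0) _ _ (fun j _ => hck _), show i 0 + (i l - i 0) = i l by omega]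
    rw [hseg m le_rfl] at hs0
    have h0 := (himem 0).2
    have h1 := (himem m).2
    have h2 := hmono m le_rfl
    rw [show L = (i 0) + ((i m - i 0) + (L - i m)) by omega, gprod_add hM hb 0 _ _ (fun j _ => hck _),
      gprod_add hM hb _ _ _ (fun j _ => hck _), Nat.zero_add, hs0, zero_gconv, gconv_zero]
  -- the idempotent is a combination of them
  have hspan : ∀ n, x ∈ AddSubgroup.closure
      (Set.range fun w : ℕ → G ⧸ N => gprod β (fun i => comp (w i)) 0 n) ∨ n = 0 := by
    have hsum : x = ∑ q, comp q := by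
      funext g
      simp [hcomp, Finset.sum_apply]
    intro n
    induction n with
    | zero => exact Or.inr rfl
    | succ n ih =>
      left
      rcases Nat.eq_zero_or_pos n with hn | hn
      · subst hn
        rw [hsum]
        refine AddSubgroup.sum_mem _ fun q _ => AddSubgroup.subset_closure ⟨fun _ => q, ?_⟩
        show gconv β (comp q) = comp q
        exact (hcompk q).2.2.1
      · have h := ih.resolve_right (by omega)
        rw [← hxx]
        have hadd : ∀ a a' c' : G → ResField M, gconv (a + a') c' = gconv a c' + gconv a' c' := fun a a' c' => by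
          funext g; simp [gconv, add_mul, Finset.sum_add_distrib]
        refine (?_ : ∀ a, a ∈ AddSubgroup.closure (Set.range fun w : ℕ → G ⧸ N =>
          gprod β (fun i => comp (w i)) 0 n) → gconv a x ∈ AddSubgroup.closure _) x h
        intro a ha
        induction ha using AddSubgroup.closure_induction with
        | mem a ha' =>
          obtain ⟨w, rfl⟩ := ha' 
          rw [hsum, gconv_sum]
          refine AddSubgroup.sum_mem _ fun q _ => AddSubgroup.subset_closure
            ⟨fun i => if i < n then w i else q, ?_⟩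
          have hcongr : ∀ l ≤ n, gprod β (fun i => comp (if i < n then w i else q)) 0 l =
              gprod β (fun i => comp (w i)) 0 l := by
            intro l hl
            induction l with
            | zero => rfl
            | succ l ihl => rw [gprod, gprod, ihl (by omega), Nat.zero_add, if_pos (by omega)]
          show gprod β _ 0 (n + 1) = _
          rw [gprod, hcongr n le_rfl, Nat.zero_add]; simp only [lt_irrefl, if_false]
        | zero => rw [zero_gconv]; exact zero_mem _
        | add a a' _ _ h1 h2 => rw [hadd]; exact add_mem h1 h2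
        | neg a _ h1 =>
          have : gconv (-a) x = -gconv a x := eq_neg_of_add_eq_zero_left (by rw [← hadd, neg_add_cancel, zero_gconv])
          rw [this]; exact neg_mem h1
  refine hne ?_
  have hpos : Fintype.card (G ⧸ N) * m ≠ 0 :=
    Nat.mul_ne_zero Fintype.card_ne_zero (by
      obtain ⟨θ, -⟩ := isPBlock_nonempty hM hb
      exact (Fintype.card_pos_iff.2 ⟨θ⟩).ne')
  have h := (hspan (Fintype.card (G ⧸ N) * m)).resolve_right hpos
  rw [(show (Set.range fun w : ℕ → G ⧸ N => gprod β (fun i => comp (w i)) 0 (Fintype.card (G ⧸ N) * m)) =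
    {0} from Set.eq_singleton_iff_unique_mem.2 ⟨⟨fun _ => 1, hzero _⟩, by rintro _ ⟨w, rfl⟩; exact hzero w⟩)] at h
  rw [AddSubgroup.mem_closure_singleton] at h
  obtain ⟨k, hk⟩ := h
  rw [← hk, smul_zero]

include hM hb hQ hQN hbr in
/-- The Brauer map is nonzero on a block not annihilated by `b`. -/
theorem brauerNonzero_of_gconv {B : Set (IrrCharacter G)} (hB : IsPBlock M B)
    (hne : gconv (gFn hM B) (bFn hM N b) ≠ 0) : BrauerNonzero hM hB Q := by
  by_contra hno
  refine trc_gconv_ne_zero hM hb hQ hQN hbr hB hne ?_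
  have hBz : trc Q (gFn hM B) = 0 := by
    funext g
    rw [trc]
    split_ifs with hg
    · rw [gFn_block hM hB]
      by_contra h
      exact hno ⟨g, hg, h⟩
    · rfl
  rw [hBz, zero_gconv]

end Kernel

section CovDefect

variable {b : Set (IrrCharacter N)} (hb : IsPBlock M b) {B : Set (IrrCharacter G)} (hB : IsPBlock M B)
  {χ : IrrCharacter G} (hχ : χ ∈ B) {θ : IrrCharacter N} (hθ : θ ∈ b) (hover : Over N χ θ)

/-- The idempotent of the conjugates of a block of a normal subgroup. -/
noncomputable def orbElt : intRing (G := N) hM :=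
  ⟨indVal (orbitSet b), indVal_orbitSet_mem hM hb⟩

/-- The idempotent of the blocks covering a block of a normal subgroup. -/
noncomputable def covElt : intRing (G := G) hM :=
  ⟨indVal (covSet (G := G) (orbitSet b)),
    indVal_covSet_mem (G := G) hM (indVal_orbitSet_mem hM hb) (orbitSet_orbitSet' b)⟩

theorem cred_covElt : cred hM (covElt hM hb) = ext0 N (cred hM (orbElt hM hb)) := by
  funext g
  have hc := congrFun (coef_covSet (G := G) (orbitSet_orbitSet' (G := G) b)) g
  by_cases hg : g ∈ N
  · rw [show g = ((⟨g, hg⟩ : N) : G) from rfl, ext0_coe]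
    refine congrArg (res hM) (Subtype.ext ?_)
    show coef (indVal (covSet (orbitSet b))) _ = coef (indVal (orbitSet b)) _
    rw [coef_covSet (orbitSet_orbitSet' b), extendByZero_mem _ hg]
  · rw [show ext0 N (cred hM (orbElt hM hb)) g = 0 from dif_neg hg, ← map_zero (res hM)]
    refine congrArg (res hM) (Subtype.ext ?_)
    show coef (indVal (covSet (orbitSet b))) g = 0
    rw [hc, extendByZero_not_mem _ hg]

theorem orb_or {b' : Set (IrrCharacter N)} (hb' : IsPBlock M b') :
    (b' ⊆ orbitSet (G := G) b ∧ orbElt hM hb * bIdem hM hb' = bIdem hM hb') ∨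
      orbElt hM hb * bIdem hM hb' = 0 := by
  by_cases h : ∃ η ∈ b', η ∈ orbitSet (G := G) b
  · obtain ⟨η, hη, hη'⟩ := h
    have hsub : b' ⊆ orbitSet (G := G) b := by
      rw [isPBlock_eq_blockOf hM hb' hη]
      exact blockOf_orbitSet_subset hM hb hη'
    refine Or.inl ⟨hsub, Subtype.ext (funext fun ξ => ?_)⟩
    show indVal (orbitSet b) ξ * indVal b' ξ = indVal b' ξ
    by_cases hξ : ξ ∈ b'
    · simp [indVal, hξ, hsub hξ]
    · simp [indVal, hξ]
  · refine Or.inr (Subtype.ext (funext fun ξ => ?_))
    show indVal (orbitSet b) ξ * indVal b' ξ = 0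
    by_cases hξ : ξ ∈ b'
    · have : ξ ∉ orbitSet (G := G) b := fun hc => h ⟨ξ, hξ, hc⟩
      simp [indVal, this]
    · simp [indVal, hξ]

include hM hb in
theorem conj_of_subset_orbit {b' : Set (IrrCharacter N)} (hb' : IsPBlock M b')
    (hsub : b' ⊆ orbitSet (G := G) b) :
    ∃ x : G, bFn hM N b' = cnj x (bFn hM N b) ∧ blockDefect p b' = blockDefect p b := by
  obtain ⟨η, hη⟩ := isPBlock_nonempty hM hb'
  obtain ⟨g, θ₀, hθ₀, hg⟩ := hsub hη
  have hiff : ∀ a : G, a ∈ N ↔ g⁻¹⁻¹ * a * g⁻¹ ∈ N := fun a => ⟨fun h => by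
    rw [inv_inv]; exact hN.conj_mem a h g, fun h => by
    have := hN.conj_mem _ h g⁻¹
    rwa [show g⁻¹ * (g⁻¹⁻¹ * a * g⁻¹) * g⁻¹⁻¹ = a by group] at this⟩
  obtain ⟨hd1, hd2⟩ := conjSet_data hM g⁻¹ hiff hb
  have hmem : η ∈ conjSet N N g⁻¹ b := ⟨θ₀, hθ₀, fun c c' hc => by
    rw [hg]
    refine congrArg (θ₀ : N → ℂ) (Subtype.ext ?_)
    show g * (c' : G) * g⁻¹ = c
    rw [hc]
    group⟩
  have e : b' = conjSet N N g⁻¹ b := by
    rw [isPBlock_eq_blockOf hM hb' hη, isPBlock_eq_blockOf hM hd1 hmem]
  exact ⟨g⁻¹, by rw [e, hd2], by rw [e]; exact blockDefect_conjSet g⁻¹ hiff b⟩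

include hM hb hχ hθ hover in
theorem mem_covSet : χ ∈ covSet (G := G) (orbitSet b) := fun φ hφ => by
  obtain ⟨g, hg⟩ := exists_conj_of_over hover hφ
  exact ⟨g, θ, hθ, hg⟩

include hM hb hB hχ hθ hover in
theorem gFn_mul_covElt : gconv (gFn hM B) (cred hM (covElt hM hb)) = gFn hM B := by
  have e : bIdem hM hB * covElt hM hb = bIdem hM hB := by
    refine Subtype.ext (funext fun ψ => ?_)
    show indVal B ψ * indVal (covSet (orbitSet b)) ψ = indVal B ψ
    by_cases hψ : ψ ∈ B
    · have : ψ ∈ covSet (G := G) (orbitSet b) := fun φ hφ =>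
        mem_orbitSet_of_covers hM hB hb hχ hθ hover hψ hφ
      simp [indVal, hψ, this]
    · simp [indVal, hψ]
  rw [gFn_block hM hB, ← cred_mul_eq_gconv, e]

include hM hb hB hχ hθ hover in
theorem gconv_bFn_ne_zero : gconv (gFn hM B) (bFn hM N b) ≠ 0 := by
  obtain ⟨β, hβ, hne⟩ : ∃ β ∈ blockFns hM N, gconv (gFn hM B) β ≠ 0 := by
    by_contra hc
    push Not at hc
    refine gFn_ne_zero hM hB ?_
    rw [← gconv_gone (gFn hM B), ← sum_blockFns (hM := hM) (H := N), gconv_sum]
    exact Finset.sum_eq_zero hc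
  obtain ⟨b', hb', rfl⟩ := (mem_blockFns hM N).1 hβ
  rcases orb_or (G := G) hM hb hb' with ⟨hsub, -⟩ | h0
  · obtain ⟨x, hx, -⟩ := conj_of_subset_orbit hM hb hb' hsub
    intro h
    apply hne
    have hB' : cnj x (gFn hM B) = gFn hM B := cnj_eq_self_of_invBy (invBy_gFn hM B ⊤) (Subgroup.mem_top x)
    rw [hx, ← hB', ← cnj_gconv, h]
    rfl
  · exfalso
    apply hne
    rw [← gFn_mul_covElt hM hb hB hχ hθ hover, gconv_assoc, bFn_eq_ext0, gFn_block hM hb',
      cred_covElt, ← ext0_gconv, ← cred_mul_eq_gconv, h0, cred_zero_eq, ext0_zero, gconv_zero]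

include hM hb hB hχ hθ hover in
theorem exists_covering_class : ∃ n : N, cred hM (orbElt (G := G) hM hb) n ≠ 0 ∧
    ev hM χ (cl hM (n : G)) ≠ 0 := by
  have h1 : ev hM χ (covElt hM hb) = 1 := by
    rw [← map_one (res hM)]
    refine congrArg (res hM) (Subtype.ext ?_)
    show indVal (covSet (orbitSet b)) χ = 1
    simp [indVal, mem_covSet hM hb hχ hθ hover]
  rw [ev_eq_sum] at h1
  haveI := nontrivial_resField hM
  obtain ⟨C, -, hC⟩ := Finset.exists_ne_zero_of_sum_ne_zero (h1.trans_ne one_ne_zero)
  have hl := left_ne_zero_of_mul hC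
  rw [cred_covElt] at hl
  have hmem : Quotient.out C ∈ N := by
    by_contra h
    exact hl (dif_neg h)
  refine ⟨⟨_, hmem⟩, ?_, right_ne_zero_of_mul hC⟩
  rwa [← ext0_coe N (cred hM (orbElt hM hb))]

include hM hb hB hχ hθ hover in
/-- A defect group of a covering block meets the normal subgroup in at most a defect group. -/
theorem card_inf_le {P : Subgroup G} (hP : IsDefectGroup p M B P) :
    Nat.card (P ⊓ N : Subgroup G) ≤ p ^ blockDefect p b := by
  have hp := (Fact.out : p.Prime)
  obtain ⟨n, hn, hev⟩ := exists_covering_class hM hb hB hχ hθ hover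
  obtain ⟨b', hb', hsub, hne⟩ : ∃ b', ∃ hb' : IsPBlock M b', b' ⊆ orbitSet (G := G) b ∧
      cred hM (bIdem hM hb') n ≠ 0 := by
    by_contra hc
    push Not at hc
    refine hn ?_
    rw [← gconv_gone (cred hM (orbElt hM hb)), ← sum_gFn hM (G := N), gconv_sum, Finset.sum_apply]
    refine Finset.sum_eq_zero fun b' hb'' => ?_
    have hb' := (mem_allBlocks).1 hb''
    rw [gFn_block hM hb', ← cred_mul_eq_gconv]
    rcases orb_or (G := G) hM hb hb' with ⟨hsub, e⟩ | h0
    · rw [e]; exact hc b' hb' hsub
    · rw [h0, cred_zero_eq]; rfl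
  obtain ⟨-, -, hd⟩ := conj_of_subset_orbit hM hb hb' hsub
  have hle := classDefect_le_blockDefect hM hb' hne
  rw [hd] at hle
  obtain ⟨h', hconj, hh'⟩ := exists_conj_mem_centralizer hM hB (isPGroup_defectGroup hM hB hP)
    (brauerNonzero_defectGroup hM hB hP) hχ hev
  obtain ⟨x, hx⟩ := isConj_iff.1 hconj
  have hsubC : (P ⊓ N).map (MulAut.conj x⁻¹).toMonoidHom ≤
      Subgroup.centralizer ({(n : G)} : Set G) ⊓ N := by
    refine le_inf ((Subgroup.map_mono inf_le_left).trans (map_conj_le_centralizer hx hh')) ?_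
    rintro _ ⟨y, hy, rfl⟩
    exact hN.conj_mem y hy.2 x⁻¹
  have hPN : IsPGroup p (P ⊓ N : Subgroup G) :=
    (isPGroup_defectGroup hM hB hP).to_le inf_le_left
  obtain ⟨k, hk⟩ := IsPGroup.iff_card.1 hPN
  have hdvd := Subgroup.card_dvd_of_le hsubC
  rw [card_map_conj, hk] at hdvd
  rw [hk]
  refine Nat.pow_le_pow_right hp.pos (le_trans ?_ hle)
  rw [classDefect, card_centralizer_subgroup]
  exact (hp.pow_dvd_iff_le_factorization Nat.card_pos.ne').1 hdvd

include hM hb hB hχ hθ hover in
/-- A covering block has a defect group meeting the normal subgroup in a given defect group. -/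
theorem exists_defectGroup_inf_eq {Q : Subgroup G} (hQN : Q ≤ N)
    (hQ : IsDefectGroup p M b (Q.subgroupOf N)) :
    ∃ P, IsDefectGroup p M B P ∧ P ⊓ N = Q := by
  have hcard : Nat.card Q = p ^ blockDefect p b := by
    rw [← card_defectGroup hM hb hQ]
    exact (Nat.card_congr (Subgroup.subgroupOfEquivOfLe hQN).toEquiv).symm
  have hQp : IsPGroup p Q := IsPGroup.of_card hcard
  obtain ⟨c, hc, hne⟩ := brauerNonzero_defectGroup hM hb hQ
  have hbr : trc Q (bFn hM N b) ≠ 0 := by
    intro h
    have h' := congrFun h (c : G)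
    rw [trc, if_pos, bFn_eq_ext0, ext0_coe, gFn_block hM hb] at h'
    · exact hne h'
    · rw [Subgroup.mem_centralizer_iff] at hc ⊢
      intro q hq
      exact congrArg Subtype.val (hc ⟨q, hQN hq⟩ hq)
  obtain ⟨P, hP, hQP⟩ := exists_defectGroup_ge hM hB hQp
    (brauerNonzero_of_gconv hM hb hQp hQN hbr hB (gconv_bFn_ne_zero hM hb hB hχ hθ hover))
  refine ⟨P, hP, (Subgroup.eq_of_le_of_card_ge (le_inf hQP hQN) ?_).symm⟩
  rw [hcard]
  exact card_inf_le hM hb hB hχ hθ hover hP

include hM hb hB hχ hθ hover in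
/-- The defect of a covering block of largest defect of an invariant block. -/
theorem fong_defect (hinv : orbitSet (G := G) b ⊆ b)
    (hmax : ∀ B' : Set (IrrCharacter G), IsPBlock M B' →
      (∃ χ ∈ B', ∃ θ ∈ b, Over N χ θ) → blockDefect p B' ≤ blockDefect p B)
    {P : Subgroup G} (hP : IsDefectGroup p M B P) :
    ¬ p ∣ (P ⊔ N).index ∧ IsDefectGroup p M b ((P ⊓ N).subgroupOf N) ∧
      blockDefect p B = blockDefect p b + N.index.factorization p := by
  haveI := charP_resField hM
  have hp := (Fact.out : p.Prime)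
  have horb : orbElt (G := G) hM hb = bIdem hM hb := by
    refine Subtype.ext ?_
    show indVal (orbitSet b) = indVal b
    rw [Set.Subset.antisymm hinv (subset_orbitSet b)]
  obtain ⟨n, hn, hev⟩ := exists_covering_class hM hb hB hχ hθ hover
  rw [horb] at hn
  have hw : ∀ (x : G) (m : N), cred hM (bIdem hM hb) (MulAut.conjNormal x m) =
      cred hM (bIdem hM hb) m := by
    intro x m
    rw [← horb, ← ext0_coe N (cred hM (orbElt hM hb)), ← ext0_coe N (cred hM (orbElt hM hb)) m,
      ← cred_covElt, MulAut.conjNormal_apply, cred_classFunction]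
  have hω : ∀ (x : G) (m : N), ev hM θ (cl hM (MulAut.conjNormal x m : N)) = ev hM θ (cl hM m) := by
    intro x m
    set θ' : IrrCharacter N := ⟨conjFn x (θ : N → ℂ), isIrrCharacter_conjFn θ.2 x⟩ with hθ'
    have hθ'b : θ' ∈ b := hinv ⟨x, θ, hθ, rfl⟩
    rw [ev_eq_of_mem hM hb hθ hθ'b (cl hM m), ev_cl, ev_cl]
    refine congrArg (res hM) (Subtype.ext ?_)
    have e : θ' = irrMap (MulAut.conjNormal x : MulAut N).symm θ := by
      refine Subtype.ext ?_
      show conjFn x (θ : N → ℂ) = _
      rw [conjFn_eq_comp]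
      rfl
    show centralChar (θ : N → ℂ) (MulAut.conjNormal x m : N) = centralChar (θ' : N → ℂ) m
    have := centralChar_irrMap (MulAut.conjNormal x : MulAut N).symm θ (MulAut.conjNormal x m)
    rw [MulEquiv.symm_apply_apply, ← e] at this
    exact this.symm
  -- a class of the normal subgroup fixed by a Sylow subgroup
  obtain ⟨S, hS, hScard⟩ := exists_sylow_group (G := G) p
  have hsum : ev hM χ (cl hM (n : G)) = ∑ C : ConjClasses N,
      if IsConj (n : G) ((Quotient.out C : N) : G) then ev hM θ (cl hM (Quotient.out C)) else 0 := by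
    have e : ev hM χ (cl hM (n : G)) = ev hM θ (resLift hM N (cl hM (n : G))) := by
      rw [ev_resLift_cl, ev_cl]
      exact congrArg (res hM) (Subtype.ext (centralChar_over hover n))
    rw [e, ev_eq_sum]
    refine Finset.sum_congr rfl fun C _ => ?_
    rw [cred_resLift, cred_cl]
    split_ifs <;> simp
  have hout : ∀ (φ : MulAut N) (C : ConjClasses N),
      IsConj (φ (Quotient.out C)) (Quotient.out (ConjClasses.map φ.toMonoidHom C)) := by
    intro φ C
    rw [← ConjClasses.mk_eq_mk_iff_isConj]
    conv_lhs => rw [show ConjClasses.mk (φ (Quotient.out C)) =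
      ConjClasses.map φ.toMonoidHom (ConjClasses.mk (Quotient.out C)) from rfl]
    rw [show ConjClasses.mk (Quotient.out C) = C from Quotient.out_eq C]
    exact (Quotient.out_eq _).symm
  have hωc : ∀ {a c : N}, IsConj a c → ev hM θ (cl hM a) = ev hM θ (cl hM c) := by
    intro a c h
    obtain ⟨t, rfl⟩ := isConj_iff.1 h
    have := hω (t : G) a
    rwa [show (MulAut.conjNormal (t : G) a : N) = t * a * t⁻¹ from Subtype.ext
      (MulAut.conjNormal_apply _ _), eq_comm] at this
  obtain ⟨C, hCfix, hC⟩ : ∃ C : ConjClasses N,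
      (∀ s : S, ConjClasses.map (MulAut.conjNormal (s : G) : MulAut N).toMonoidHom C = C) ∧
      (if IsConj (n : G) ((Quotient.out C : N) : G) then ev hM θ (cl hM (Quotient.out C)) else 0) ≠ 0 := by
    by_contra hc
    push Not at hc
    refine hev (hsum.trans ?_)
    refine sum_eq_zero_of_fixed (p := p) hS (fun s C =>
      ConjClasses.map (MulAut.conjNormal (s : G) : MulAut N).toMonoidHom C) (fun C => ?_)
      (fun a c C => ?_) _ (fun s C => ?_) (fun C hC => hc C hC)
    · obtain ⟨m, rfl⟩ := ConjClasses.mk_surjective C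
      exact congrArg ConjClasses.mk (by simp)
    · obtain ⟨m, rfl⟩ := ConjClasses.mk_surjective C
      exact congrArg ConjClasses.mk (by simp)
    · have h1 := hout (MulAut.conjNormal (s : G)) C
      have h2 : IsConj ((Quotient.out C : N) : G) ((Quotient.out
          (ConjClasses.map (MulAut.conjNormal (s : G) : MulAut N).toMonoidHom C) : N) : G) :=
        (isConj_iff.2 ⟨(s : G), rfl⟩).trans
          (by have := N.subtype.map_isConj h1; rwa [Subgroup.coe_subtype, MulAut.conjNormal_apply] at this)
      have h3 : ev hM θ (cl hM (Quotient.out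
          (ConjClasses.map (MulAut.conjNormal (s : G) : MulAut N).toMonoidHom C))) =
          ev hM θ (cl hM (Quotient.out C)) := by rw [← hωc h1, hω]
      show (if _ then _ else _) = (if _ then _ else _)
      rw [h3, if_congr ⟨fun h => h.trans h2.symm, fun h => h.trans h2⟩ rfl rfl]
  simp only [ne_eq, ite_eq_right_iff, Classical.not_imp] at hC
  obtain ⟨hconjn, hCω⟩ := hC
  set h : N := Quotient.out C with hh
  have hCw : cred hM (bIdem hM hb) h ≠ 0 := by
    obtain ⟨x, hx⟩ := isConj_iff.1 hconjn
    rw [show h = MulAut.conjNormal x n from Subtype.ext (by rw [MulAut.conjNormal_apply, hx]), hw]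
    exact hn
  have hdb : (Nat.card (Subgroup.centralizer ({(h : G)} : Set G) ⊓ N : Subgroup G)).factorization p =
      blockDefect p b := by
    rw [← card_centralizer_subgroup]
    exact le_antisymm (classDefect_le_blockDefect hM hb hCw) (blockDefect_le_classDefect hM hb hθ hCω)
  set K := Subgroup.centralizer ({(h : G)} : Set G) with hK
  have hSK : S ≤ K ⊔ N := by
    intro s hs
    have h1 := hout (MulAut.conjNormal s) C
    rw [hCfix ⟨s, hs⟩, ← hh] at h1
    obtain ⟨t, ht⟩ := isConj_iff.1 h1
    have e : (t : G) * (s * (h : G) * s⁻¹) * (t : G)⁻¹ = h := by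
      have := congrArg Subtype.val ht
      simpa [MulAut.conjNormal_apply] using this
    rw [show s = (t : G)⁻¹ * (t * s) by group]
    refine mul_mem (Subgroup.mem_sup_right (inv_mem t.2)) (Subgroup.mem_sup_left ?_)
    rw [hK, Subgroup.mem_centralizer_singleton_iff]
    calc (t : G) * s * h = (t : G) * (s * h * s⁻¹) * (t : G)⁻¹ * (t * s) := by group
      _ = h * (t * s) := by rw [e]
  have hsupN : ∀ H : Subgroup G, Nat.card (H ⊔ N : Subgroup G) * Nat.card (H ⊓ N : Subgroup G) =
      Nat.card H * Nat.card N := by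
    intro H
    have h1 := Subgroup.card_mul_index (N.subgroupOf H)
    have h2 := Subgroup.card_mul_index (N.subgroupOf (H ⊔ N))
    rw [← Subgroup.inf_subgroupOf_left, Nat.card_congr (Subgroup.subgroupOfEquivOfLe
      (inf_le_left : H ⊓ N ≤ H)).toEquiv, Subgroup.inf_subgroupOf_left] at h1
    rw [Nat.card_congr (Subgroup.subgroupOfEquivOfLe (le_sup_right : N ≤ H ⊔ N)).toEquiv] at h2
    have h3 : N.relIndex (H ⊔ N) = N.relIndex H := Subgroup.relIndex_sup_right H N
    simp only [Subgroup.relIndex] at h3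
    rw [h3] at h2
    rw [← h1, ← h2]
    ring
  have hfac : ∀ H : Subgroup G, (Nat.card (H ⊔ N : Subgroup G)).factorization p +
      (Nat.card (H ⊓ N : Subgroup G)).factorization p =
      (Nat.card H).factorization p + (Nat.card N).factorization p := fun H => by
    have e := congrArg (fun a => a.factorization p) (hsupN H)
    rwa [Nat.factorization_mul Nat.card_pos.ne' Nat.card_pos.ne', Nat.factorization_mul Nat.card_pos.ne'
      Nat.card_pos.ne', Finsupp.add_apply, Finsupp.add_apply] at e
  have hG : (Nat.card G).factorization p = (Nat.card N).factorization p + N.index.factorization p := by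
    rw [← N.card_mul_index, Nat.factorization_mul Nat.card_pos.ne' Subgroup.index_ne_zero_of_finite,
      Finsupp.add_apply]
  have hmono : ∀ H : Subgroup G, (Nat.card H).factorization p ≤ (Nat.card G).factorization p := fun H =>
    (Nat.factorization_le_iff_dvd Nat.card_pos.ne' Nat.card_pos.ne').2 H.card_subgroup_dvd_card p
  have hKN : (Nat.card (K ⊔ N : Subgroup G)).factorization p = (Nat.card G).factorization p := by
    refine le_antisymm (hmono _) ?_
    have := Subgroup.card_dvd_of_le hSK
    rw [hScard] at this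
    exact (hp.pow_dvd_iff_le_factorization Nat.card_pos.ne').1 this
  have hd : classDefect p (h : G) = blockDefect p b + N.index.factorization p := by
    have := hfac K
    rw [classDefect, ← hK]
    omega
  -- the defect
  have hevh : ev hM χ (cl hM (h : G)) ≠ 0 := by
    have e : cl hM (h : G) = cl hM (n : G) := by
      refine intRing_ext fun g => ?_
      rw [coef_cl, coef_cl]
      simp only [classInd, Set.mem_ofPred_eq]
      exact if_congr ⟨fun hh => hconjn.trans hh, fun hh => hconjn.symm.trans hh⟩ rfl rfl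
    rw [e]
    exact hev
  have hle := blockDefect_le_classDefect hM hB hχ hevh
  obtain ⟨B', hB', hcov, hne'⟩ : ∃ B', ∃ hB' : IsPBlock M B', (∃ ψ ∈ B', ψ ∈ covSet (G := G) (orbitSet b)) ∧
      cred hM (bIdem hM hB') (h : G) ≠ 0 := by
    by_contra hc
    push Not at hc
    refine hCw ?_
    rw [← horb, ← ext0_coe N (cred hM (orbElt hM hb)), ← cred_covElt,
      ← gconv_gone (cred hM (covElt hM hb)), ← sum_gFn hM (G := G), gconv_sum, Finset.sum_apply]
    refine Finset.sum_eq_zero fun B' hB'' => ?_
    have hB' := (mem_allBlocks).1 hB''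
    rw [gFn_block hM hB', ← cred_mul_eq_gconv]
    by_cases hm : ∃ ψ ∈ B', ψ ∈ covSet (G := G) (orbitSet b)
    · have e : covElt hM hb * bIdem hM hB' = bIdem hM hB' := by
        obtain ⟨ψ, hψ, hψ'⟩ := hm
        refine Subtype.ext (funext fun ξ => ?_)
        show indVal (covSet (orbitSet b)) ξ * indVal B' ξ = indVal B' ξ
        by_cases hξ : ξ ∈ B'
        · have : ξ ∈ covSet (G := G) (orbitSet b) :=
            blockOf_subset_of_indVal_mem hM (covElt hM hb).2 hψ'
              (by rw [← isPBlock_eq_blockOf hM hB' hψ]; exact hξ)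
          simp [indVal, hξ, this]
        · simp [indVal, hξ]
      rw [e]
      obtain ⟨ψ, hψ, hψ'⟩ := hm
      exact hc B' hB' ⟨ψ, hψ, hψ'⟩
    · have e : covElt hM hb * bIdem hM hB' = 0 := by
        refine Subtype.ext (funext fun ξ => ?_)
        show indVal (covSet (orbitSet b)) ξ * indVal B' ξ = 0
        by_cases hξ : ξ ∈ B'
        · have : ξ ∉ covSet (G := G) (orbitSet b) := fun hh => hm ⟨ξ, hξ, hh⟩
          simp [indVal, this]
        · simp [indVal, hξ]
      rw [e, cred_zero_eq]
      rfl
  have hge : classDefect p (h : G) ≤ blockDefect p B' := classDefect_le_blockDefect hM hB' hne'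
  obtain ⟨ψ, hψ, hψcov⟩ := hcov
  obtain ⟨η, hη⟩ := exists_over (N := N) ψ
  have hdB : blockDefect p B = blockDefect p b + N.index.factorization p :=
    le_antisymm (hle.trans hd.le)
      ((hd.ge.trans hge).trans (hmax B' hB' ⟨ψ, hψ, η, hinv (hψcov η hη), hη⟩))
  -- the defect groups
  have hPcard := card_defectGroup hM hB hP
  obtain ⟨k, hk⟩ := IsPGroup.iff_card.1 ((isPGroup_defectGroup hM hB hP).to_le (inf_le_left (b := N)))
  have hkle : k ≤ blockDefect p b :=
    (Nat.pow_le_pow_iff_right hp.one_lt).1 (hk ▸ card_inf_le hM hb hB hχ hθ hover hP)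
  have hPfac := hfac P
  rw [hPcard, hk, hp.factorization_pow, hp.factorization_pow, Finsupp.single_eq_same,
    Finsupp.single_eq_same, hdB] at hPfac
  have hPN := hmono (P ⊔ N)
  refine ⟨?_, ?_, hdB⟩
  · intro hdvd
    have h1 := (hp.pow_dvd_iff_le_factorization (k := 1) Subgroup.index_ne_zero_of_finite).1
      (by rwa [pow_one])
    have h2 : (Nat.card G).factorization p = (Nat.card (P ⊔ N : Subgroup G)).factorization p +
        (P ⊔ N).index.factorization p := by
      rw [← (P ⊔ N).card_mul_index, Nat.factorization_mul Nat.card_pos.ne'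
        Subgroup.index_ne_zero_of_finite, Finsupp.add_apply]
    omega
  · obtain ⟨h', hconj, hh'⟩ := exists_conj_mem_centralizer hM hB (isPGroup_defectGroup hM hB hP)
      (brauerNonzero_defectGroup hM hB hP) hχ hevh
    obtain ⟨x, hx⟩ := isConj_iff.1 hconj
    rw [isDefectGroup_data hM hb]
    refine ⟨MulAut.conjNormal x h, (isDefectClass_iff hM hb _).2 ⟨?_, fun ξ hξ => ?_⟩, ?_, ?_⟩
    · rw [hw]; exact hCw
    · exact ev_cl_ne_zero_of_mem hM hb hθ hξ (by rw [hω]; exact hCω)
    · intro q hq
      rw [Subgroup.mem_centralizer_singleton_iff]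
      refine Subtype.ext ?_
      show (q : G) * (MulAut.conjNormal x h : N) = (MulAut.conjNormal x h : N) * (q : G)
      rw [MulAut.conjNormal_apply, hx]
      exact (Subgroup.mem_centralizer_iff.1 hh' _ (Subgroup.mem_inf.1 hq).1)
    · rw [Nat.card_congr (Subgroup.subgroupOfEquivOfLe (inf_le_right : P ⊓ N ≤ N)).toEquiv, hk]
      congr 1
      omega

end CovDefect

end CfsgLib.Block
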