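import Cfsg.Agent.Lib.BlockModSimple

/-!
# The number of simple modules of a block is at most its rank
-/

set_option autoImplicit false
set_option linter.style.haveILetI false
set_option linter.unusedSectionVars false
set_option linter.unusedFintypeInType false

namespace CfsgLib.Block

open Cfsg CfsgLib.Char
open scoped ComplexConjugate Classical

universe u

variable {G : Type u} [Group G] [Fintype G] {p : ℕ} {M : Ideal AlgInt}

/-- The `p'`-part of an element. -/
noncomputable def ppr (p : ℕ) (g : G) : G :=
  if h : ∃ x, IsPPart p g x then (Classical.choose h)⁻¹ * g else g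

theorem ppr_spec (hp : p.Prime) (g : G) :
    ∃ x, g = x * ppr p g ∧ Commute x (ppr p g) ∧ (∃ j, orderOf x = p ^ j) ∧
      ¬ p ∣ orderOf (ppr p g) := by
  rw [ppr, dif_pos (exists_isPPart hp g)]
  obtain ⟨y, hy, hc, hx, hyr⟩ := isPPart_data (Classical.choose_spec (exists_isPPart hp g))
  set x := Classical.choose (exists_isPPart hp g)
  refine ⟨x, (mul_inv_cancel_left _ _).symm, ?_, hx, ?_⟩
  · rw [hy, inv_mul_cancel_left]; exact hc
  · rw [hy, inv_mul_cancel_left]; exact hyr

theorem ppr_of_regular (hp : p.Prime) {g : G} (hg : ¬ p ∣ orderOf g) : ppr p g = g := by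
  rw [ppr, dif_pos (exists_isPPart hp g)]
  rw [isPPart_unique hp (Classical.choose_spec (exists_isPPart hp g))
    (isPPart_self_of_pRegular hg), inv_one, one_mul]

theorem ppr_conj (hp : p.Prime) (g z : G) : ppr p (z * g * z⁻¹) = z * ppr p g * z⁻¹ := by
  rw [ppr, dif_pos (exists_isPPart hp _), ppr, dif_pos (exists_isPPart hp g),
    isPPart_unique hp (Classical.choose_spec (exists_isPPart hp (z * g * z⁻¹)))
      (isPPart_conj (Classical.choose_spec (exists_isPPart hp g)) z)]
  group

section Mod

variable (hM : IsPModular p M)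

/-- Number of simple modules in a block. -/
theorem card_le_blockRank {B : Set (IrrCharacter G)} (hB : IsPBlock M B)
    {ι : Type*} [Fintype ι] (V : ι → Type u) :
    letI : Field (ResField M) := @Ideal.Quotient.field _ _ M hM.2.1
    ∀ [∀ i, AddCommGroup (V i)] [∀ i, Module (ResField M) (V i)]
      [∀ i, FiniteDimensional (ResField M) (V i)]
      (ρ : ∀ i, Representation (ResField M) G (V i)),
      (∀ i, IrredRep (ρ i)) →
      (∀ i j, i ≠ j → ¬ ∃ e : V i ≃ₗ[ResField M] V j, ∀ g v, e (ρ i g v) = ρ j g (e v)) →
      (∀ i, act (ρ i) (gFn hM B) = 1) →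
      Fintype.card ι ≤ blockRank p B := by
  letI : Field (ResField M) := @Ideal.Quotient.field _ _ M hM.2.1
  intro _ _ _ ρ hirr hne hone
  haveI := isAlgClosed_resField hM
  haveI := charP_resField hM
  haveI : Fact p.Prime := ⟨hM.1⟩
  have hp := hM.1
  let cl : G → ConjClasses G := ConjClasses.mk
  let rep : ConjClasses G → G := Quotient.out
  have hrep : ∀ C, cl (rep C) = C := fun C => Quotient.out_eq C
  let A : Matrix (ConjClasses G) (ConjClasses G) (locRing hM) := fun C D =>
    if p ∣ orderOf (rep C) then 0 else
      ⟨∑ c, if cl (ppr p (c * rep C)) = D then blockCoeff B c else 0,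
        Subring.sum_mem _ fun c _ => by
          split
          · exact blockCoeff_mem hM hB c
          · exact Subring.zero_mem _⟩
  -- the residual trace functions are eigenvectors of the reduced matrix
  let τ : ι → G → ResField M := fun i g => LinearMap.trace _ (V i) (ρ i g)
  have hτconj : ∀ i g z, τ i (z * g * z⁻¹) = τ i g := fun i g z => by
    simp only [τ, map_mul]
    rw [LinearMap.trace_mul_comm, ← mul_assoc, ← map_mul, inv_mul_cancel, map_one, one_mul]
  have hτppr : ∀ i g, τ i g = τ i (ppr p g) := by
    intro i g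
    obtain ⟨x, hx, hc, ⟨j, hj⟩, -⟩ := ppr_spec hp g
    set y := ppr p g
    have hnil : IsNilpotent (ρ i x - 1) := ⟨p ^ j, by
      haveI : CharP (Module.End (ResField M) (V i)) p := by
        haveI := (hirr i).1
        exact charP_of_injective_algebraMap
          (FaithfulSMul.algebraMap_injective (ResField M) (Module.End (ResField M) (V i))) p
      rw [sub_pow_char_pow_of_commute (p := p) (n := j) (h := Commute.one_right (ρ i x)), one_pow, ← map_pow, ← hj,
        pow_orderOf_eq_one, map_one, sub_self]⟩
    have hcomm : Commute (ρ i y) (ρ i x - 1) :=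
      (hc.symm.map (ρ i)).sub_right (Commute.one_right _)
    have h0 := (LinearMap.isNilpotent_trace_of_isNilpotent (hcomm.isNilpotent_mul_left hnil)).eq_zero
    simp only [τ]
    rw [mul_sub, mul_one, map_sub, sub_eq_zero, ← map_mul, ← hc.eq] at h0
    rw [hx]
    exact h0
  let w : ι → ConjClasses G → ResField M := fun i C =>
    if p ∣ orderOf (rep C) then 0 else τ i (rep C)
  have hwτ : ∀ i g, τ i g = w i (cl (ppr p g)) := by
    intro i g
    obtain ⟨-, -, -, -, hreg⟩ := ppr_spec hp g
    obtain ⟨z, hz⟩ := isConj_iff.1
      (ConjClasses.mk_eq_mk_iff_isConj.1 (hrep (cl (ppr p g))).symm)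
    have hreg' : ¬ p ∣ orderOf (rep (cl (ppr p g))) := by
      rw [← hz, ← MulAut.conj_apply, MulEquiv.orderOf_eq]; exact hreg
    simp only [w, if_neg hreg']
    rw [← hz, hτconj, ← hτppr]
  have hfix : ∀ i, (A.map (res hM)).mulVecLin (w i) = w i := by
    intro i
    funext C
    rw [Matrix.mulVecLin_apply, Matrix.mulVec, dotProduct]
    by_cases hC : p ∣ orderOf (rep C)
    · rw [show w i C = 0 from if_pos hC]
      refine Finset.sum_eq_zero fun D _ => ?_
      rw [Matrix.map_apply, show A C D = 0 from if_pos hC, map_zero, zero_mul]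
    · have hentry : ∀ D, (A.map (res hM)) C D =
          ∑ c, if cl (ppr p (c * rep C)) = D then gFn hM B c else 0 := by
        intro D
        have hA : A C D = ∑ c, if cl (ppr p (c * rep C)) = D then
            (⟨blockCoeff B c, blockCoeff_mem hM hB c⟩ : locRing hM) else 0 := by
          refine (if_neg hC).trans (Subtype.ext ?_)
          show _ = (locRing hM).subtype _
          rw [map_sum]
          exact Finset.sum_congr rfl fun c _ => by split <;> rfl
        rw [Matrix.map_apply, hA, map_sum]
        refine Finset.sum_congr rfl fun c _ => ?_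
        split
        · rw [gFn, dif_pos (blockCoeff_mem hM hB c)]
        · exact map_zero _
      simp only [hentry, Finset.sum_mul, ite_mul, zero_mul]
      rw [Finset.sum_comm]
      simp only [Finset.sum_ite_eq, Finset.mem_univ, if_true, ← hwτ]
      simp only [w, if_neg hC]
      have h1 : τ i (rep C) = LinearMap.trace _ (V i) (act (ρ i) (gFn hM B) * ρ i (rep C)) := by
        rw [hone i, one_mul]
      rw [h1]
      simp [act, Finset.sum_mul, τ, map_sum]
  have hli : LinearIndependent (ResField M) w := by
    rw [Fintype.linearIndependent_iff]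
    intro c hc
    refine Fintype.linearIndependent_iff.1 (linearIndependent_trace V ρ hirr hne) c ?_
    funext g
    simp only [Finset.sum_apply, Pi.smul_apply, smul_eq_mul]
    have h2 := congrFun hc (cl (ppr p g))
    simp only [Finset.sum_apply, Pi.smul_apply, smul_eq_mul, Pi.zero_apply, ← hwτ] at h2
    exact h2
  have h1 : Fintype.card ι ≤ Module.finrank (ResField M)
      (LinearMap.range (A.map (res hM)).mulVecLin) := by
    rw [← finrank_span_eq_card hli]
    refine Submodule.finrank_mono (Submodule.span_le.2 ?_)
    rintro _ ⟨i, rfl⟩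
    exact ⟨w i, hfix i⟩
  refine le_trans h1 (le_trans (finrank_range_map_le (res hM) (res_surjective hM)
    (locRing hM).subtype Subtype.val_injective A) ?_)
  -- over ℂ the range embeds into the span of the regular restrictions
  let E : (ConjClasses G → ℂ) →ₗ[ℂ] (G → ℂ) := LinearMap.funLeft ℂ ℂ cl
  have hE : Function.Injective E := LinearMap.funLeft_injective_of_surjective _ _ _
    ConjClasses.mk_surjective
  rw [(Submodule.equivMapOfInjective E hE _).finrank_eq]
  refine Submodule.finrank_mono ?_
  rintro _ ⟨_, ⟨v, rfl⟩, rfl⟩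
  have hf : IsClassFunction G (fun g => v (cl (ppr p g))) := fun g h => by
    show v _ = v _
    rw [ppr_conj hp]
    exact congrArg v (ConjClasses.mk_eq_mk_iff_isConj.2
      (isConj_iff.2 ⟨h⁻¹, by group⟩))
  have hg : E ((A.map (locRing hM).subtype).mulVecLin v) =
      pRegularPart p (blockPart B fun g => v (cl (ppr p g))) := by
    funext g
    rw [pRegularPart_eq, regPart]
    show ((A.map (locRing hM).subtype).mulVec v) (cl g) = _
    obtain ⟨z, hz⟩ := isConj_iff.1 (ConjClasses.mk_eq_mk_iff_isConj.1 (hrep (cl g)))
    have hord : orderOf (rep (cl g)) = orderOf g := by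
      conv_rhs => rw [← hz, ← MulAut.conj_apply, MulEquiv.orderOf_eq]
    rw [Matrix.mulVec, dotProduct]
    by_cases hgp : p ∣ orderOf g
    · rw [if_pos hgp]
      refine Finset.sum_eq_zero fun D _ => ?_
      rw [Matrix.map_apply, show A (cl g) D = 0 from if_pos (by rw [hord]; exact hgp), map_zero,
        zero_mul]
    · rw [if_neg hgp]
      have hbp : blockPart B (fun g => v (cl (ppr p g))) g =
          blockPart B (fun g => v (cl (ppr p g))) (rep (cl g)) := by
        conv_lhs => rw [← hz]
        rw [blockPart_eq, blockPart_eq]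
        refine Finset.sum_congr rfl fun χ _ => ?_
        rw [isCharacter_classFunction χ.2.isCharacter']
      rw [hbp, blockPart_eq_conv B hf]
      have hA : ∀ D, (locRing hM).subtype (A (cl g) D) =
          ∑ c, if cl (ppr p (c * rep (cl g))) = D then blockCoeff B c else 0 := fun D => by
        rw [show A (cl g) D = ⟨_, _⟩ from if_neg (by rw [hord]; exact hgp)]
        rfl
      simp only [Matrix.map_apply, hA, Finset.sum_mul, ite_mul, zero_mul]
      rw [Finset.sum_comm]
      simp only [Finset.sum_ite_eq, Finset.mem_univ, if_true]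
  rw [hg]
  have hsum : pRegularPart p (blockPart B fun g => v (cl (ppr p g))) =
      ∑ χ : IrrCharacter G, (indVal B χ * classInner (fun g => v (cl (ppr p g))) (χ : G → ℂ)) •
        pRegularPart p (χ : G → ℂ) := by
    funext g
    simp only [pRegularPart_eq, regPart, Finset.sum_apply, Pi.smul_apply, smul_eq_mul]
    split
    · simp
    · rw [blockPart_eq]
      simp only [mul_assoc]
  rw [hsum]
  refine Submodule.sum_mem _ fun χ _ => ?_
  by_cases hχ : χ ∈ B
  · exact Submodule.smul_mem _ _ (Submodule.subset_span ⟨χ, hχ, rfl⟩)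
  · rw [indVal, if_neg hχ, zero_mul, zero_smul]
    exact Submodule.zero_mem _

end Mod

end CfsgLib.Block
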