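import Cfsg.Agent.Lib.BlockTateCyclic
import Cfsg.Agent.Lib.BlockModRank
import Cfsg.Agent.Lib.BlockAlperinDade2

/-!
# The principal block rank for a Sylow subgroup of prime order
-/

set_option autoImplicit false
set_option linter.style.haveILetI false
set_option linter.unusedSectionVars false
set_option linter.unusedFintypeInType false

namespace CfsgLib.Block

open Cfsg CfsgLib.Char
open scoped Classical

universe u

variable {G : Type u} [Group G] [Fintype G] {p : ℕ} [hpf : Fact p.Prime]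

/-- The local data at a Sylow subgroup of prime order. -/
structure CycData (P : Sylow p G) (e : ℕ) where
  /-- A generator of the Sylow subgroup. -/
  u : G
  /-- The normal `p`-complement of the centralizer. -/
  K : Subgroup G
  /-- An element inducing the automizer. -/
  y : G
  /-- The exponent by which a normalizing element acts. -/
  r : G → (ZMod p)ˣ
  hu : (P : Subgroup G) = Subgroup.zpowers u
  hup : orderOf u = p
  hKC : K ≤ Subgroup.centralizer ((P : Subgroup G) : Set G)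
  hKp : ¬ p ∣ Nat.card K
  hKn : ∀ n ∈ Subgroup.normalizer ((P : Subgroup G) : Set G), ∀ k ∈ K, n * k * n⁻¹ ∈ K
  hKdec : ∀ c ∈ Subgroup.centralizer ((P : Subgroup G) : Set G),
    ∃ z ∈ (P : Subgroup G), ∃ k ∈ K, c = z * k
  hy : y ∈ Subgroup.normalizer ((P : Subgroup G) : Set G)
  hyp : ¬ p ∣ orderOf y
  hrmul : ∀ a ∈ Subgroup.normalizer ((P : Subgroup G) : Set G),
    ∀ b ∈ Subgroup.normalizer ((P : Subgroup G) : Set G), r (a * b) = r a * r b
  hr : ∀ n ∈ Subgroup.normalizer ((P : Subgroup G) : Set G),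
    n * u * n⁻¹ = u ^ ((r n : ZMod p)).val
  hrC : ∀ n ∈ Subgroup.normalizer ((P : Subgroup G) : Set G),
    r n = 1 ↔ n ∈ Subgroup.centralizer ((P : Subgroup G) : Set G)
  hry : orderOf (r y) = e
  hgen : ∀ n ∈ Subgroup.normalizer ((P : Subgroup G) : Set G),
    ∃ i : ℕ, n * (y ^ i)⁻¹ ∈ Subgroup.centralizer ((P : Subgroup G) : Set G)

theorem exists_cycData (P : Sylow p G) (hP : Nat.card P = p) {e : ℕ}
    (he : (Subgroup.centralizer ((P : Subgroup G) : Set G)).relIndex
      (Subgroup.normalizer ((P : Subgroup G) : Set G)) = e) : Nonempty (CycData P e) := by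
  have hp : p.Prime := Fact.out
  set Q : Subgroup G := (P : Subgroup G) with hQ
  set N := Subgroup.normalizer (Q : Set G) with hN
  set C := Subgroup.centralizer (Q : Set G) with hC
  haveI : IsCyclic Q := isCyclic_of_prime_card hP
  obtain ⟨g, hg⟩ := IsCyclic.exists_generator (α := Q)
  set u : G := (g : G) with hu
  have hQu : Q = Subgroup.zpowers u := by
    refine le_antisymm (fun x hx => ?_) (Subgroup.zpowers_le.2 g.2)
    obtain ⟨i, hi⟩ := Subgroup.mem_zpowers_iff.1 (hg ⟨x, hx⟩)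
    exact ⟨i, by simpa using congrArg Subtype.val hi⟩
  have hup : orderOf u = p := by rw [← Nat.card_zpowers, ← hQu]; exact hP
  have hex : ∀ n ∈ N, ∃ a : ZMod p, n * u * n⁻¹ = u ^ a.val := by
    intro n hn
    have hmem : n * u * n⁻¹ ∈ Subgroup.zpowers u := by
      rw [← hQu]; exact (Subgroup.mem_normalizer_iff.1 hn u).1 g.2
    obtain ⟨i, hi⟩ := (isOfFinOrder_of_finite u).mem_powers_iff_mem_zpowers.2 hmem
    refine ⟨(i : ZMod p), ?_⟩
    have hi' : u ^ i = n * u * n⁻¹ := hi
    rw [ZMod.val_natCast, ← hi', ← hup, pow_mod_orderOf]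
  choose a ha using hex
  have hinj : ∀ b c : ZMod p, u ^ b.val = u ^ c.val → b = c := by
    intro b c h
    have h1 := pow_inj_mod.1 h
    rw [hup, Nat.mod_eq_of_lt (ZMod.val_lt b), Nat.mod_eq_of_lt (ZMod.val_lt c)] at h1
    exact ZMod.val_injective p h1
  have ha0 : ∀ n (hn : n ∈ N), a n hn ≠ 0 := by
    intro n hn h
    have h1 := ha n hn
    rw [h, ZMod.val_zero, pow_zero, conj_eq_one_iff] at h1
    rw [h1, orderOf_one] at hup
    exact hp.ne_one hup.symm
  let r : G → (ZMod p)ˣ := fun n => if hn : n ∈ N then Units.mk0 (a n hn) (ha0 n hn) else 1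
  have hr : ∀ n ∈ N, n * u * n⁻¹ = u ^ ((r n : ZMod p)).val := fun n hn => by
    simp only [r, dif_pos hn, Units.val_mk0]; exact ha n hn
  have hrmul : ∀ m ∈ N, ∀ n ∈ N, r (m * n) = r m * r n := by
    intro m hm n hn
    refine Units.ext (hinj _ _ ?_)
    rw [← hr _ (N.mul_mem hm hn), Units.val_mul, ZMod.val_mul,
      show (m * n) * u * (m * n)⁻¹ = m * (n * u * n⁻¹) * m⁻¹ by group, hr n hn, ← conj_pow,
      hr m hm, ← pow_mul, ← pow_mod_orderOf u ((r m : ZMod p).val * (r n : ZMod p).val), hup]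
  have hCN : C ≤ N := by
    intro c hc
    refine Subgroup.mem_normalizer_iff.2 fun x => ⟨fun hx => ?_, fun hx => ?_⟩
    · rwa [← Subgroup.mem_centralizer_iff.1 hc x hx, mul_inv_cancel_right]
    · have h := Subgroup.mem_centralizer_iff.1 hc _ hx
      rw [inv_mul_cancel_right] at h
      rwa [← mul_left_cancel h] at hx
  have hrC : ∀ n ∈ N, r n = 1 ↔ n ∈ C := by
    intro n hn
    constructor
    · intro h
      have h1 := hr n hn
      haveI : Fact (1 < p) := ⟨hp.one_lt⟩
      rw [h, Units.val_one, ZMod.val_one, pow_one] at h1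
      rw [hC, hQu, Subgroup.zpowers_eq_closure, Subgroup.centralizer_closure,
        Subgroup.mem_centralizer_singleton_iff]
      exact mul_inv_eq_iff_eq_mul.1 h1
    · intro h
      refine Units.ext (hinj _ _ ?_)
      haveI : Fact (1 < p) := ⟨hp.one_lt⟩
      rw [← hr n hn, Units.val_one, ZMod.val_one, pow_one,
        ← Subgroup.mem_centralizer_iff.1 h u g.2, mul_inv_cancel_right]
  let rh : N →* (ZMod p)ˣ :=
    { toFun := fun n => r (n : G)
      map_one' := (hrC 1 N.one_mem).2 C.one_mem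
      map_mul' := fun m n => hrmul _ m.2 _ n.2 }
  have hker : rh.ker = C.subgroupOf N := by
    ext n
    exact hrC _ n.2
  have hcard : Nat.card rh.range = e := by
    rw [← Subgroup.index_ker, hker]; exact he
  obtain ⟨⟨gen, hgen'⟩, hgenall⟩ := IsCyclic.exists_generator (α := rh.range)
  obtain ⟨⟨y₀, hy₀⟩, hy₀r⟩ := hgen'
  obtain ⟨x, hxy, hxc, ⟨j, hj⟩, hyreg⟩ := ppr_spec hp y₀
  set y := ppr p y₀
  have hxz : x ∈ Subgroup.zpowers y₀ :=
    isPPart_mem_zpowers hp ⟨y, hxy.symm, hxc, ⟨j, hj⟩, hyreg⟩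
  have hxN : x ∈ N := Subgroup.zpowers_le.2 hy₀ hxz
  have hyN : y ∈ N := by
    rw [show y = x⁻¹ * y₀ by rw [hxy, inv_mul_cancel_left]]
    exact N.mul_mem (N.inv_mem hxN) hy₀
  have hrx : r x = 1 := by
    have h1 : orderOf (rh ⟨x, hxN⟩) ∣ p ^ j := by
      rw [← hj]
      exact (orderOf_map_dvd rh _).trans (by rw [Subgroup.orderOf_mk])
    have h2 : orderOf (rh ⟨x, hxN⟩) ∣ p - 1 := by
      rw [← ZMod.card_units p]
      exact orderOf_dvd_card
    have hcop : Nat.Coprime (p ^ j) (p - 1) := Nat.Coprime.pow_left _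
      (hp.coprime_iff_not_dvd.2 fun h => by
        have h2' := hp.two_le
        have := Nat.le_of_dvd (by omega) h
        omega)
    have h3 := Nat.eq_one_of_dvd_coprimes hcop h1 h2
    rwa [orderOf_eq_one_iff] at h3
  have hry : r y = gen := by
    have h1 : r y₀ = r x * r y := by rw [← hrmul _ hxN _ hyN, ← hxy]
    rw [hrx, one_mul] at h1
    rw [← h1]
    exact hy₀r
  obtain ⟨K, hKC, hKp, hKn, hKdec⟩ := exists_centralizer_complement P
  have hKreg : ∀ c ∈ C, ¬ p ∣ orderOf c → c ∈ K := by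
    intro c hc hcp
    obtain ⟨z, hz, k, hk, rfl⟩ := hKdec c hc
    have hcomm : Commute z k := Subgroup.mem_centralizer_iff.1 (hKC hk) z hz
    have hzp : z ^ p = 1 := by
      have : orderOf (⟨z, hz⟩ : Q) ∣ p := by
        have hdvd := orderOf_dvd_natCard (⟨z, hz⟩ : Q)
        have hP' : Nat.card Q = p := hP
        rwa [hP'] at hdvd
      have := orderOf_dvd_iff_pow_eq_one.1 this
      simpa using congrArg Subtype.val this
    have hkK : k ^ Nat.card K = 1 := by
      exact congrArg Subtype.val (pow_card_eq_one' (x := (⟨k, hk⟩ : K)))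
    have h1 : (z * k) ^ (p * Nat.card K) = 1 := by
      rw [hcomm.mul_pow, pow_mul, hzp, one_pow, one_mul, mul_comm, pow_mul, hkK, one_pow]
    have h2 : orderOf (z * k) ∣ Nat.card K :=
      (Nat.Coprime.symm (hp.coprime_iff_not_dvd.2 hcp)).dvd_of_dvd_mul_left
        (orderOf_dvd_of_pow_eq_one h1)
    have h3 : z ^ Nat.card K = 1 := by
      have := orderOf_dvd_iff_pow_eq_one.1 h2
      rwa [hcomm.mul_pow, hkK, mul_one] at this
    have h4 : z = 1 := by
      rw [← orderOf_eq_one_iff]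
      exact Nat.eq_one_of_dvd_coprimes (hp.coprime_iff_not_dvd.2 hKp)
        (orderOf_dvd_of_pow_eq_one hzp) (orderOf_dvd_of_pow_eq_one h3)
    rw [h4, one_mul]
    exact hk
  have hKn' : ∀ n ∈ N, ∀ k ∈ K, n * k * n⁻¹ ∈ K := by
    intro n hn k hk
    refine hKreg _ ?_ ?_
    · rw [hC, Subgroup.mem_centralizer_iff]
      intro x hx
      have hx' : n⁻¹ * x * n ∈ Q := by
        have := (Subgroup.mem_normalizer_iff.1 (N.inv_mem hn) x).1 hx
        simpa using this
      have h := Subgroup.mem_centralizer_iff.1 (hKC hk) _ hx'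
      calc x * (n * k * n⁻¹) = n * ((n⁻¹ * x * n) * k) * n⁻¹ := by group
        _ = n * (k * (n⁻¹ * x * n)) * n⁻¹ := by rw [h]
        _ = n * k * n⁻¹ * x := by group
    · intro h
      rw [← MulAut.conj_apply, MulEquiv.orderOf_eq] at h
      have hdvd := orderOf_dvd_natCard (⟨k, hk⟩ : K)
      rw [Subgroup.orderOf_mk] at hdvd
      exact hKp (h.trans hdvd)
  refine ⟨⟨u, K, y, r, hQu, hup, hKC, hKp, hKn', hKdec, hyN, hyreg, hrmul, hr, hrC, ?_, ?_⟩⟩
  · rw [hry, ← hcard, ← orderOf_eq_card_of_forall_mem_zpowers hgenall]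
    exact (Subgroup.orderOf_mk gen _).symm
  · intro n hn
    have hmem := (isOfFinOrder_of_finite _).mem_powers_iff_mem_zpowers.2
      (hgenall ⟨r n, ⟨⟨n, hn⟩, rfl⟩⟩)
    obtain ⟨i, hi⟩ := hmem
    refine ⟨i, (hrC _ (N.mul_mem hn (N.inv_mem (N.pow_mem hyN i)))).1 ?_⟩
    have hi' : gen ^ i = r n := congrArg Subtype.val hi
    have h1 : r (y ^ i) = gen ^ i := by
      have := map_pow rh (⟨y, hyN⟩ : N) i
      rw [← hry]
      simpa [rh] using this
    have hinv : r ((y ^ i)⁻¹) = (r (y ^ i))⁻¹ := by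
      have := map_inv rh (⟨y ^ i, N.pow_mem hyN i⟩ : N)
      simpa [rh] using this
    rw [hrmul _ hn _ (N.inv_mem (N.pow_mem hyN i)), hinv, h1, hi', mul_inv_cancel]

namespace CycData

variable {P : Sylow p G} {e : ℕ} (D : CycData P e)

theorem eigen_of_gens {k : Type*} [Field k] [Algebra (ZMod p) k] {V : Type u} [AddCommGroup V]
    [Module k V] (ρ : Representation k G V) {j : ℕ} {v : V} (hu : ρ D.u v = v)
    (hK : ∀ x ∈ D.K, ρ x v = v) (hy : ρ D.y v = (algebraMap (ZMod p) k (D.r D.y)) ^ j • v)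
    {n : G} (hn : n ∈ Subgroup.normalizer ((P : Subgroup G) : Set G)) :
    ρ n v = (algebraMap (ZMod p) k (D.r n)) ^ j • v := by
  obtain ⟨i, hi⟩ := D.hgen n hn
  obtain ⟨z, hz, x, hx, hzx⟩ := D.hKdec _ hi
  have hyi : ∀ i : ℕ, ρ (D.y ^ i) v = (algebraMap (ZMod p) k (D.r D.y)) ^ (j * i) • v := by
    intro i
    induction i with
    | zero => simp
    | succ i ih =>
      rw [pow_succ, map_mul, Module.End.mul_apply, hy, map_smul, ih, smul_smul, ← pow_add]
      ring_nf
  have hfix : ρ (z * x) v = v := by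
    rw [map_mul, Module.End.mul_apply, hK x hx]
    rw [D.hu] at hz
    obtain ⟨a, ha⟩ := (isOfFinOrder_of_finite D.u).mem_powers_iff_mem_zpowers.2 hz
    rw [← ha]
    show ρ (D.u ^ a) v = v
    clear ha
    induction a with
    | zero => simp
    | succ a iha => rw [pow_succ, map_mul, Module.End.mul_apply, hu, iha]
  have hn' : n = z * x * D.y ^ i := by rw [← hzx, inv_mul_cancel_right]
  rw [hn', map_mul, Module.End.mul_apply, hyi, map_smul, hfix]
  congr 1
  have hC : z * x ∈ Subgroup.centralizer ((P : Subgroup G) : Set G) := hzx ▸ hi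
  have hCN : z * x ∈ Subgroup.normalizer ((P : Subgroup G) : Set G) := by
    rw [← hzx]; exact Subgroup.mul_mem _ hn (Subgroup.inv_mem _ (Subgroup.pow_mem _ D.hy i))
  have hri : ∀ i : ℕ, D.r (D.y ^ i) = D.r D.y ^ i := by
    intro i
    induction i with
    | zero => rw [pow_zero, pow_zero]; exact (D.hrC 1 (Subgroup.one_mem _)).2 (Subgroup.one_mem _)
    | succ i ih => rw [pow_succ, D.hrmul _ (Subgroup.pow_mem _ D.hy i) _ D.hy, ih, ← pow_succ]
  rw [D.hrmul _ hCN _ (Subgroup.pow_mem _ D.hy i), (D.hrC _ hCN).2 hC, one_mul, hri,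
    Units.val_pow_eq_pow_val, map_pow, ← pow_mul, mul_comm]

end CycData

end CfsgLib.Block
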