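import Cfsg.Agent.Lib.BlockDefectOne

/-!
# The principal block has at least `e` simple modules
-/

set_option autoImplicit false
set_option linter.style.haveILetI false
set_option linter.unusedSectionVars false
set_option linter.unusedFintypeInType false

namespace CfsgLib.Block

open Cfsg CfsgLib.Char
open scoped Classical

universe u

variable {G : Type u} [Group G] [Fintype G] {p : ℕ} [hpf : Fact p.Prime]
variable {P : Sylow p G} {e : ℕ} (D : CycData P e)
variable {k : Type} [Field k] [CharP k p] [Algebra (ZMod p) k]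

/-- An eigenvector of the normalizer in the fixed points which is not a trace. -/
def TateVec {V : Type u} [AddCommGroup V] [Module k V] (ρ : Representation k G V) (j : ℕ) (v : V) :
    Prop :=
  (∀ n ∈ Subgroup.normalizer ((P : Subgroup G) : Set G),
      ρ n v = (algebraMap (ZMod p) k (D.r n)) ^ j • v) ∧
    ∀ w, v ≠ ∑ x : (P : Subgroup G), ρ (x : G) w

/-- A simple module with such an eigenvector. -/
structure TateSimple (j : ℕ) where
  /-- The underlying space. -/
  V : Type u
  [addCommGroup : AddCommGroup V]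
  [module : Module k V]
  [finite : FiniteDimensional k V]
  /-- The action. -/
  ρ : Representation k G V
  irred : IrredRep ρ
  /-- The eigenvector. -/
  v : V
  vec : TateVec D ρ j v

attribute [instance] TateSimple.addCommGroup TateSimple.module TateSimple.finite

namespace CycData

/-- The averaging projection onto the fixed points of the complement. -/
noncomputable def piK {V : Type u} [AddCommGroup V] [Module k V] (ρ : Representation k G V) :
    Module.End k V :=
  (Nat.card D.K : k)⁻¹ • ∑ x : D.K, ρ (x : G)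

variable {V : Type u} [AddCommGroup V] [Module k V] (ρ : Representation k G V)

theorem card_K_ne : (Nat.card D.K : k) ≠ 0 := fun h =>
  D.hKp ((CharP.cast_eq_zero_iff k p _).1 h)

theorem piK_fix {v : V} (hv : ∀ x ∈ D.K, ρ x v = v) : D.piK ρ v = v := by
  rw [piK, LinearMap.smul_apply, LinearMap.sum_apply, Finset.sum_congr rfl fun x _ => hv x.1 x.2,
    Finset.sum_const, Finset.card_univ, ← Nat.card_eq_fintype_card, ← Nat.cast_smul_eq_nsmul k,
    smul_smul, inv_mul_cancel₀ D.card_K_ne, one_smul]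

theorem mul_piK {x : G} (hx : x ∈ D.K) : ρ x * D.piK ρ = D.piK ρ := by
  rw [piK, mul_smul_comm, Finset.mul_sum]
  congr 1
  exact Fintype.sum_equiv (Equiv.mulLeft (⟨x, hx⟩ : D.K)) _ _ fun y => (map_mul ρ _ _).symm

theorem piK_mul {x : G} (hx : x ∈ D.K) : D.piK ρ * ρ x = D.piK ρ := by
  rw [piK, smul_mul_assoc, Finset.sum_mul]
  congr 1
  exact Fintype.sum_equiv (Equiv.mulRight (⟨x, hx⟩ : D.K)) _ _ fun y => (map_mul ρ _ _).symm

theorem piK_idem : D.piK ρ * D.piK ρ = D.piK ρ := by
  refine LinearMap.ext fun v => D.piK_fix ρ fun x hx => ?_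
  rw [← Module.End.mul_apply, D.mul_piK ρ hx]

theorem piK_comm {n : G} (hn : n ∈ Subgroup.normalizer ((P : Subgroup G) : Set G)) :
    D.piK ρ * ρ n = ρ n * D.piK ρ := by
  rw [piK, smul_mul_assoc, mul_smul_comm, Finset.sum_mul, Finset.mul_sum]
  congr 1
  have h : ∀ x : D.K, n⁻¹ * (x : G) * n ∈ D.K := fun x => by
    simpa using D.hKn n⁻¹ (Subgroup.inv_mem _ hn) x x.2
  have h' : ∀ x : D.K, n * (x : G) * n⁻¹ ∈ D.K := fun x => D.hKn n hn x x.2
  refine Fintype.sum_equiv ⟨fun x => ⟨_, h x⟩, fun x => ⟨_, h' x⟩, fun x => Subtype.ext (by group),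
    fun x => Subtype.ext (by group)⟩ _ _ fun x => ?_
  rw [← map_mul, ← map_mul]
  congr 1
  show (x : G) * n = n * (n⁻¹ * (x : G) * n)
  group

theorem u_mem : D.u ∈ (P : Subgroup G) := D.hu ▸ Subgroup.mem_zpowers D.u

theorem zpowers_le_normalizer :
    (P : Subgroup G) ≤ Subgroup.normalizer ((P : Subgroup G) : Set G) := Subgroup.le_normalizer

theorem rho_u_pow : ρ D.u ^ p = 1 := by
  have h := pow_orderOf_eq_one D.u
  rw [D.hup] at h
  rw [← map_pow, h, map_one]

theorem sum_P_eq_sum_range (w : V) :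
    ∑ x : (P : Subgroup G), ρ (x : G) w = (∑ i ∈ Finset.range p, ρ D.u ^ i) w := by
  rw [LinearMap.sum_apply]
  symm
  refine Finset.sum_bij (fun i _ => (⟨D.u ^ i, Subgroup.pow_mem _ D.u_mem i⟩ : (P : Subgroup G)))
    (fun _ _ => Finset.mem_univ _) (fun i hi j hj h => ?_) (fun x _ => ?_) (fun i _ => ?_)
  · have h' := pow_inj_mod.1 (congrArg Subtype.val h)
    rw [D.hup, Nat.mod_eq_of_lt (Finset.mem_range.1 hi), Nat.mod_eq_of_lt (Finset.mem_range.1 hj)]
      at h'
    exact h'
  · have hx : (x : G) ∈ Subgroup.zpowers D.u := D.hu ▸ x.2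
    obtain ⟨i, hi⟩ := (isOfFinOrder_of_finite D.u).mem_powers_iff_mem_zpowers.2 hx
    refine ⟨i % p, Finset.mem_range.2 (Nat.mod_lt _ hpf.out.pos), Subtype.ext ?_⟩
    show D.u ^ (i % p) = (x : G)
    have h := pow_mod_orderOf D.u i
    rw [D.hup] at h
    rw [h]
    exact hi
  · rw [map_pow]

theorem trace_comm {n : G} (hn : n ∈ Subgroup.normalizer ((P : Subgroup G) : Set G)) (w : V) :
    ρ n (∑ x : (P : Subgroup G), ρ (x : G) w) = ∑ x : (P : Subgroup G), ρ (x : G) (ρ n w) := by
  rw [map_sum]
  have h : ∀ x : (P : Subgroup G), n * (x : G) * n⁻¹ ∈ (P : Subgroup G) := fun x =>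
    (Subgroup.mem_normalizer_iff.1 hn (x : G)).1 x.2
  refine Finset.sum_bij (fun x _ => (⟨_, h x⟩ : (P : Subgroup G))) (fun _ _ => Finset.mem_univ _)
    (fun x _ y _ hxy => Subtype.ext (by simpa using congrArg Subtype.val hxy)) (fun y _ => ?_)
    (fun x _ => ?_)
  · refine ⟨⟨n⁻¹ * y * n, ?_⟩, Finset.mem_univ _, Subtype.ext (by simp [mul_assoc])⟩
    exact (Subgroup.mem_normalizer_iff.1 hn _).2 (by simp [mul_assoc])
  · rw [← Module.End.mul_apply, ← map_mul, ← Module.End.mul_apply, ← map_mul]
    simp [mul_assoc]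

theorem y_pow_scalar : (algebraMap (ZMod p) k (D.r D.y)) ^ orderOf D.y = 1 := by
  have h : ∀ i : ℕ, D.r (D.y ^ i) = D.r D.y ^ i := by
    intro i
    induction i with
    | zero => rw [pow_zero, pow_zero]; exact (D.hrC 1 (Subgroup.one_mem _)).2 (Subgroup.one_mem _)
    | succ i ih => rw [pow_succ, D.hrmul _ (Subgroup.pow_mem _ D.hy i) _ D.hy, ih, ← pow_succ]
  rw [← map_pow, ← Units.val_pow_eq_pow_val, ← h, pow_orderOf_eq_one,
    (D.hrC 1 (Subgroup.one_mem _)).2 (Subgroup.one_mem _), Units.val_one, map_one]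

theorem order_y_ne : (orderOf D.y : k) ≠ 0 := fun h =>
  D.hyp ((CharP.cast_eq_zero_iff k p _).1 h)

theorem fixed_P {v : V} (hu : ρ D.u v = v) : ∀ x ∈ (P : Subgroup G), ρ x v = v := by
  intro x hx
  rw [D.hu] at hx
  obtain ⟨i, hi⟩ := (isOfFinOrder_of_finite D.u).mem_powers_iff_mem_zpowers.2 hx
  rw [← hi]
  show ρ (D.u ^ i) v = v
  clear hi
  induction i with
  | zero => simp
  | succ i ih => rw [pow_succ, map_mul, Module.End.mul_apply, hu, ih]

/-- Lifting an eigenvector modulo an invariant subspace. -/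
theorem lift_eigen [FiniteDimensional k V] {U : Submodule k V} (hU : ∀ g, ∀ x ∈ U, ρ g x ∈ U) {j : ℕ} {v w : V}
    (hv : ∀ n ∈ Subgroup.normalizer ((P : Subgroup G) : Set G),
      ρ n v = (algebraMap (ZMod p) k (D.r n)) ^ j • v)
    (hvw : v - ∑ x : (P : Subgroup G), ρ (x : G) w ∈ U) :
    ∃ w' : V, v - ∑ x : (P : Subgroup G), ρ (x : G) w' ∈ U ∧
      ∀ n ∈ Subgroup.normalizer ((P : Subgroup G) : Set G),
        ρ n (v - ∑ x : (P : Subgroup G), ρ (x : G) w') =
          (algebraMap (ZMod p) k (D.r n)) ^ j • (v - ∑ x : (P : Subgroup G), ρ (x : G) w') := by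
  set a := (algebraMap (ZMod p) k (D.r D.y)) ^ j with ha
  have hYo : ρ D.y ^ orderOf D.y = 1 := by rw [← map_pow, pow_orderOf_eq_one, map_one]
  have ho : orderOf D.y ≠ 0 := (orderOf_pos D.y).ne'
  have hao : a ^ orderOf D.y = 1 := by rw [ha, ← pow_mul, mul_comm, pow_mul, D.y_pow_scalar, one_pow]
  have hKN : ∀ x ∈ D.K, x ∈ Subgroup.normalizer ((P : Subgroup G) : Set G) ∧ D.r x = 1 := by
    intro x hx
    have hxN : x ∈ Subgroup.normalizer ((P : Subgroup G) : Set G) := by
      refine Subgroup.mem_normalizer_iff.2 fun y => ⟨fun hy => ?_, fun hy => ?_⟩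
      · rwa [← Subgroup.mem_centralizer_iff.1 (D.hKC hx) y hy, mul_inv_cancel_right]
      · have h := Subgroup.mem_centralizer_iff.1 (D.hKC hx) _ hy
        rw [inv_mul_cancel_right] at h
        rwa [← mul_left_cancel h] at hy
    exact ⟨hxN, (D.hrC x hxN).2 (D.hKC hx)⟩
  set R : Module.End k V := D.piK ρ * eigProj (ρ D.y) (orderOf D.y) a with hR
  set T : Module.End k V := ∑ z : (P : Subgroup G), ρ (z : G) with hT
  have hTapply : ∀ x, T x = ∑ z : (P : Subgroup G), ρ (z : G) x := fun x => by
    rw [hT, LinearMap.sum_apply]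
  have hTn : ∀ n ∈ Subgroup.normalizer ((P : Subgroup G) : Set G), Commute (ρ n) T := fun n hn =>
    LinearMap.ext fun x => by
      rw [Module.End.mul_apply, Module.End.mul_apply, hTapply, hTapply, CycData.trace_comm ρ hn]
  have hRT : Commute R T := by
    refine Commute.mul_left (Commute.smul_left (Commute.sum_left _ _ _ fun x _ => ?_) _) ?_
    · exact hTn _ (hKN x.1 x.2).1
    · refine Commute.smul_left (Commute.sum_left _ _ _ fun i _ => Commute.smul_left ?_ _) _
      rw [← map_pow]
      exact hTn _ (Subgroup.pow_mem _ D.hy i)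
  have hcommT : ∀ x, R (∑ z : (P : Subgroup G), ρ (z : G) x) =
      ∑ z : (P : Subgroup G), ρ (z : G) (R x) := fun x => by
    rw [← hTapply, ← hTapply, ← Module.End.mul_apply, hRT.eq, Module.End.mul_apply]
  have hRv : R v = v := by
    rw [hR, Module.End.mul_apply,
      eigProj_apply_eigen hYo D.order_y_ne hao hao (hv D.y D.hy), if_pos rfl]
    exact D.piK_fix ρ fun x hx => by
      rw [hv x (hKN x hx).1, (hKN x hx).2, Units.val_one, map_one, one_pow, one_smul]
  have hRU : ∀ x ∈ U, R x ∈ U := by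
    intro x hx
    simp only [hR, Module.End.mul_apply, CycData.piK, eigProj, LinearMap.smul_apply,
      LinearMap.sum_apply, ← map_pow]
    exact U.smul_mem _ (U.sum_mem fun y _ => hU _ _ (U.smul_mem _ (U.sum_mem fun i _ =>
      U.smul_mem _ (hU _ _ hx))))
  refine ⟨R w, ?_, fun n hn => ?_⟩
  · have := hRU _ hvw
    rwa [map_sub, hRv, hcommT] at this
  · have huN : D.u ∈ Subgroup.normalizer ((P : Subgroup G) : Set G) :=
      CycData.zpowers_le_normalizer D.u_mem
    have huC : D.u ∈ Subgroup.centralizer ((P : Subgroup G) : Set G) := by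
      rw [D.hu, Subgroup.zpowers_eq_closure, Subgroup.centralizer_closure,
        Subgroup.mem_centralizer_singleton_iff]
    refine D.eigen_of_gens ρ ?_ ?_ ?_ hn
    · rw [map_sub, hv D.u huN, (D.hrC _ huN).2 huC, Units.val_one, map_one, one_pow, one_smul]
      congr 1
      rw [map_sum]
      refine Fintype.sum_equiv (Equiv.mulLeft (⟨D.u, D.u_mem⟩ : (P : Subgroup G))) _ _ fun x => ?_
      exact (congr($(map_mul ρ D.u (x : G)) (R w))).symm
    · intro x hx
      rw [show v - ∑ z : (P : Subgroup G), ρ (z : G) (R w) =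
          R (v - ∑ z : (P : Subgroup G), ρ (z : G) w) by rw [map_sub, hRv, hcommT],
        hR, Module.End.mul_apply, ← Module.End.mul_apply, D.mul_piK ρ hx]
    · rw [show v - ∑ z : (P : Subgroup G), ρ (z : G) (R w) =
          R (v - ∑ z : (P : Subgroup G), ρ (z : G) w) by rw [map_sub, hRv, hcommT],
        hR, ← Module.End.mul_apply, ← mul_assoc, ← D.piK_comm ρ D.hy, mul_assoc,
        mul_eigProj hYo hao ho, mul_smul_comm, LinearMap.smul_apply]

end CycData

include D in
theorem exists_tateSimple (j : ℕ) : Nonempty (TateSimple D (k := k) j) := by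
  by_contra hcon
  have h : ∀ n : ℕ, ∀ (V : Type u) [AddCommGroup V] [Module k V] [FiniteDimensional k V]
      (ρ : Representation k G V), Module.finrank k V ≤ n → ∀ v, ¬ TateVec D ρ j v := by
    intro n
    induction n with
    | zero =>
      intro V _ _ _ ρ hd v hv
      haveI : Subsingleton V := Module.finrank_zero_iff.1 (Nat.le_zero.1 hd)
      exact hv.2 0 (Subsingleton.elim _ _)
    | succ n ih =>
      intro V _ _ _ ρ hd v hv
      by_cases hirr : IrredRep ρ
      · exact hcon ⟨⟨V, ρ, hirr, v, hv⟩⟩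
      haveI : Nontrivial V := ⟨⟨v, 0, fun h0 => hv.2 0 (by simp [h0])⟩⟩
      simp only [IrredRep, not_and, not_forall, not_or] at hirr
      obtain ⟨U, hU, hU0, hUtop⟩ := hirr inferInstance
      have hU' : ∀ g, U ≤ U.comap (ρ g) := fun g x hx => hU g x hx
      have hUlt : Module.finrank k U < Module.finrank k V := Submodule.finrank_lt hUtop
      have hUpos : 0 < Module.finrank k U :=
        Nat.pos_of_ne_zero fun h0 => hU0 (Submodule.finrank_eq_zero.1 h0)
      have hQ : Module.finrank k (V ⧸ U) ≤ n := by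
        have := Submodule.finrank_quotient_add_finrank U
        omega
      by_cases htr : ∀ w : V ⧸ U, Submodule.Quotient.mk v ≠
          ∑ x : (P : Subgroup G), ρ.quotient U hU' (x : G) w
      · refine ih (V ⧸ U) (ρ.quotient U hU') hQ (Submodule.Quotient.mk v) ⟨fun m hm => ?_, htr⟩
        show U.mapQ U (ρ m) (hU' m) (Submodule.Quotient.mk v) = _
        rw [Submodule.mapQ_apply, hv.1 m hm, Submodule.Quotient.mk_smul]
      · push Not at htr
        obtain ⟨w, hw⟩ := htr
        obtain ⟨w₀, rfl⟩ := Submodule.Quotient.mk_surjective U w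
        have hvw : v - ∑ x : (P : Subgroup G), ρ (x : G) w₀ ∈ U := by
          rw [← Submodule.Quotient.eq, hw]
          show _ = U.mkQ (∑ x : (P : Subgroup G), ρ (x : G) w₀)
          rw [map_sum]
          rfl
        obtain ⟨w', hw'U, hw'⟩ := D.lift_eigen ρ hU hv.1 hvw
        refine ih U (ρ.subrepresentation U hU') (by omega) ⟨_, hw'U⟩
          ⟨fun m hm => Subtype.ext (hw' m hm), fun z hz => hv.2 (w' + (z : V)) ?_⟩
        have hz' := congrArg Subtype.val hz
        simp only [Submodule.coe_sum] at hz'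
        rw [sub_eq_iff_eq_add] at hz'
        rw [hz']
        simp only [map_add, Finset.sum_add_distrib]
        rw [add_comm]
        rfl
  let lam : G → k := fun n => (algebraMap (ZMod p) k (D.r n)) ^ j
  set N := Subgroup.normalizer ((P : Subgroup G) : Set G) with hN
  have hlam : ∀ a ∈ N, ∀ b ∈ N, lam (a * b) = lam a * lam b := fun a ha b hb => by
    simp only [lam, D.hrmul a ha b hb, Units.val_mul, map_mul, mul_pow]
  have hlam1 : lam 1 = 1 := by
    simp only [lam, (D.hrC 1 N.one_mem).2 (Subgroup.one_mem _), Units.val_one, map_one, one_pow]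
  let F : Submodule k (G → k) :=
    { carrier := {f | ∀ (g : G), ∀ n ∈ N, f (g * n) = lam n⁻¹ * f g}
      add_mem' := fun {a b} ha hb g n hn => by simp only [Pi.add_apply, ha g n hn, hb g n hn]; ring
      zero_mem' := fun g n _ => by simp
      smul_mem' := fun c f hf g n hn => by
        simp only [Pi.smul_apply, smul_eq_mul, hf g n hn]; ring }
  let ρ0 : Representation k G (G → k) :=
    { toFun := fun g => LinearMap.funLeft k k fun x => g⁻¹ * x
      map_one' := LinearMap.ext fun f => funext fun x => by simp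
      map_mul' := fun a b => LinearMap.ext fun f => funext fun x => by
        simp [LinearMap.funLeft_apply, mul_assoc] }
  have hF : ∀ g, F ≤ F.comap (ρ0 g) := fun g f hf x n hn => by
    show f (g⁻¹ * (x * n)) = lam n⁻¹ * f (g⁻¹ * x)
    rw [← mul_assoc]; exact hf _ n hn
  let f₀ : G → k := fun g => if g ∈ N then lam g⁻¹ else 0
  have hf₀ : f₀ ∈ F := by
    intro g n hn
    simp only [f₀, N.mul_mem_cancel_right hn]
    split_ifs with hg
    · rw [mul_inv_rev, hlam _ (N.inv_mem hn) _ (N.inv_mem hg)]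
    · rw [mul_zero]
  refine h (Module.finrank k F) F (ρ0.subrepresentation F hF) le_rfl ⟨f₀, hf₀⟩
    ⟨fun m hm => Subtype.ext (funext fun g => ?_), fun w hw => ?_⟩
  · show f₀ (m⁻¹ * g) = lam m * f₀ g
    simp only [f₀, N.mul_mem_cancel_left (N.inv_mem hm)]
    split_ifs with hg
    · rw [mul_inv_rev, inv_inv, hlam _ (N.inv_mem hg) _ hm, mul_comm]
    · rw [mul_zero]
  · have h1 := congrFun (congrArg Subtype.val hw) 1
    simp only [Submodule.coe_sum, Finset.sum_apply] at h1
    have h2 : ∀ x : (P : Subgroup G), ((ρ0.subrepresentation F hF (x : G) w : F) : G → k) 1 =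
        (w : G → k) 1 := by
      intro x
      have hxP : (x : G)⁻¹ ∈ (P : Subgroup G) := Subgroup.inv_mem _ x.2
      have hxC : ((x : G)⁻¹)⁻¹ ∈ Subgroup.centralizer ((P : Subgroup G) : Set G) := by
        rw [inv_inv, Subgroup.mem_centralizer_iff]
        intro z hz
        have hu1 := hz
        have hu2 := (SetLike.ext_iff.1 D.hu (x : G)).1 x.2
        rw [SetLike.mem_coe, D.hu] at hu1
        obtain ⟨a, rfl⟩ := hu1
        obtain ⟨b, hb⟩ := hu2
        rw [← hb]
        exact (Commute.refl D.u).zpow_zpow a b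
      show (w : G → k) ((x : G)⁻¹ * 1) = _
      rw [mul_one, ← one_mul ((x : G)⁻¹), w.2 1 _ (CycData.zpowers_le_normalizer hxP)]
      have : lam ((x : G)⁻¹)⁻¹ = 1 := by
        simp only [lam]
        rw [(D.hrC _ (by rw [inv_inv]; exact CycData.zpowers_le_normalizer x.2)).2 hxC,
          Units.val_one, map_one, one_pow]
      rw [this, one_mul]
    rw [Finset.sum_congr rfl fun x _ => h2 x, Finset.sum_const, Finset.card_univ,
      ← Nat.card_eq_fintype_card, ← Nat.cast_smul_eq_nsmul k] at h1
    have hcard : Nat.card (P : Subgroup G) = p := by rw [D.hu, Nat.card_zpowers, D.hup]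
    rw [hcard, CharP.cast_eq_zero, zero_smul] at h1
    simp [f₀, hlam1, N.one_mem] at h1

end CfsgLib.Block
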