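import Cfsg.Agent.Lib.BlockDefectOne2

/-!
# The lower bound for the rank of the principal block
-/

set_option autoImplicit false
set_option linter.style.haveILetI false
set_option linter.unusedSectionVars false
set_option linter.unusedFintypeInType false

namespace CfsgLib.Block

open Cfsg CfsgLib.Char
open scoped Classical

universe u

variable {G : Type u} [Group G] [Fintype G] {p : ℕ} [hpf : Fact p.Prime]
variable {P : Sylow p G} {e : ℕ} (D : CycData P e)
variable {k : Type} [Field k] [CharP k p] [Algebra (ZMod p) k] [IsAlgClosed k]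

namespace CycData

theorem rho_conj_pow {V : Type u} [AddCommGroup V] [Module k V] (ρ : Representation k G V)
    {n : G} (hn : n ∈ Subgroup.normalizer ((P : Subgroup G) : Set G)) (b : ZMod p) :
    ρ n * ρ D.u ^ b.val = ρ D.u ^ (((D.r n : ZMod p) * b)).val * ρ n := by
  rw [← map_pow, ← map_pow, ← map_mul, ← map_mul]
  congr 1
  have h := D.hr n hn
  have h2 : n * D.u ^ b.val * n⁻¹ = D.u ^ ((D.r n : ZMod p) * b).val := by
    have h3 := pow_mod_orderOf D.u ((D.r n : ZMod p).val * b.val)
    rw [D.hup] at h3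
    rw [← conj_pow, h, ← pow_mul, ZMod.val_mul, h3]
  rw [← h2, inv_mul_cancel_right]

/-- Two eigenvectors in one simple module have the same eigenvalue. -/
theorem tate_unique (hp2 : p ≠ 2) {V : Type u} [AddCommGroup V] [Module k V]
    [FiniteDimensional k V] {ρ : Representation k G V} (hirr : IrredRep ρ) {j j' : ℕ} {v v' : V}
    (hv : TateVec D ρ j v) (hv' : TateVec D ρ j' v') :
    (algebraMap (ZMod p) k (D.r D.y)) ^ j = (algebraMap (ZMod p) k (D.r D.y)) ^ j' := by
  set N := Subgroup.normalizer ((P : Subgroup G) : Set G) with hN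
  set U := ρ D.u with hUdef
  set Y := ρ D.y with hYdef
  set a := algebraMap (ZMod p) k (D.r D.y) with ha
  set X := augGen (p := p) U with hXdef
  set T : Module.End k V := ∑ i ∈ Finset.range p, U ^ i with hT
  have hU : U ^ p = 1 := D.rho_u_pow ρ
  obtain ⟨W, hW, hUW, hXW⟩ := augGen_spec (p := p) hp2 U hU
  have hcW : Commute (U - 1) W := hUW.sub_left (Commute.one_left W)
  have hXp : X ^ (p - 1) = T * W ^ (p - 1) := by
    rw [hXdef, hXW, hcW.mul_pow, sub_one_pow_eq_sum]
  have hUp0 : (U - 1) ^ p = 0 := by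
    conv_lhs => rw [show p = p - 1 + 1 from (Nat.sub_add_cancel hpf.out.one_le).symm]
    rw [pow_succ, sub_one_pow_eq_sum, geom_sum_mul, hU, sub_self]
  have hXp0 : X ^ p = 0 := by rw [hXdef, hXW, hcW.mul_pow, hUp0, zero_mul]
  have hYo : Y ^ orderOf D.y = 1 := by rw [hYdef, ← map_pow, pow_orderOf_eq_one, map_one]
  haveI : NeZero (orderOf D.y : k) := ⟨D.order_y_ne⟩
  obtain ⟨ζ, hζ⟩ := HasEnoughRootsOfUnity.exists_primitiveRoot k (orderOf D.y)
  have hYX : Y * X = a • (X * Y) := by
    simp only [hXdef, augGen, Finset.mul_sum, Finset.sum_mul, Finset.smul_sum, mul_smul_comm,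
      smul_mul_assoc, smul_smul]
    refine Fintype.sum_equiv (Equiv.mulLeft (D.r D.y)) _ _ fun b => ?_
    show _ = (a * algebraMap (ZMod p) k (((D.r D.y * b)⁻¹ : (ZMod p)ˣ) : ZMod p)) •
      (U ^ ((D.r D.y * b : (ZMod p)ˣ) : ZMod p).val * Y)
    rw [Units.val_mul, ← D.rho_conj_pow ρ D.hy, ha, ← map_mul, ← Units.val_mul]
    congr 3
    rw [mul_inv_rev, mul_comm (b⁻¹), ← mul_assoc, mul_inv_cancel, one_mul]
  have htrace : ∀ w : V, ∑ x : (P : Subgroup G), ρ (x : G) w = T w := fun w =>
    D.sum_P_eq_sum_range ρ w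
  have hnotr : ∀ w : V, (∀ w', w ≠ T w') → ∀ y, w ≠ (X ^ (p - 1)) y := fun w hw y => by
    rw [hXp, Module.End.mul_apply]; exact hw _
  have hnotr' : ∀ w : V, (∀ y, w ≠ (X ^ (p - 1)) y) → ∀ w', w ≠ T w' := by
    intro w hw w' he
    obtain ⟨W', hW'⟩ := (hW.pow (p - 1)).exists_right_inv
    refine hw (W' w') ?_
    rw [hXp, Module.End.mul_apply, ← Module.End.mul_apply (W ^ (p - 1)), hW',
      Module.End.one_apply, he]
  have hker : ∀ w, X w = 0 ↔ U w = w := by
    intro w
    rw [hXdef, hXW]
    constructor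
    · intro h
      rw [hcW.eq, Module.End.mul_apply] at h
      obtain ⟨W', hW'⟩ := hW.exists_left_inv
      have h2 := congrArg W' h
      rw [← Module.End.mul_apply, hW', Module.End.one_apply, map_zero, LinearMap.sub_apply,
        Module.End.one_apply, sub_eq_zero] at h2
      exact h2
    · intro h
      rw [hcW.eq, Module.End.mul_apply, LinearMap.sub_apply, Module.End.one_apply, h, sub_self,
        map_zero]
  have huN : D.u ∈ N := CycData.zpowers_le_normalizer D.u_mem
  have huC : D.u ∈ Subgroup.centralizer ((P : Subgroup G) : Set G) := by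
    rw [D.hu, Subgroup.zpowers_eq_closure, Subgroup.centralizer_closure,
      Subgroup.mem_centralizer_singleton_iff]
  have hfix : ∀ {i : ℕ} {w : V}, TateVec D ρ i w → U w = w ∧ ∀ x ∈ D.K, ρ x w = w := by
    intro i w hw
    refine ⟨?_, fun x hx => ?_⟩
    · rw [hUdef, hw.1 _ huN, (D.hrC _ huN).2 huC, Units.val_one, map_one, one_pow, one_smul]
    · have hxN : x ∈ N := by
        refine Subgroup.mem_normalizer_iff.2 fun y => ⟨fun hy => ?_, fun hy => ?_⟩
        · rwa [← Subgroup.mem_centralizer_iff.1 (D.hKC hx) y hy, mul_inv_cancel_right]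
        · have h := Subgroup.mem_centralizer_iff.1 (D.hKC hx) _ hy
          rw [inv_mul_cancel_right] at h
          rwa [← mul_left_cancel h] at hy
      rw [hw.1 x hxN, (D.hrC x hxN).2 (D.hKC hx), Units.val_one, map_one, one_pow, one_smul]
  have hπX : D.piK ρ * X = X * D.piK ρ := by
    have h : Commute (D.piK ρ) U := D.piK_comm ρ huN
    rw [hXdef, augGen]
    exact Commute.sum_right _ _ _ fun b _ => Commute.smul_right (h.pow_right _) _
  obtain ⟨q, z, hqX, hqY, hπq, hqπ, hqz, hz, hXz, hq⟩ :=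
    exists_chain_summand (Y := Y) (ω := a) hYo D.order_y_ne hζ D.y_pow_scalar hYX hXp0
      (Module.finrank k V) (D.piK ρ) hπX (D.piK_comm ρ D.hy) (D.piK_idem ρ)
      (Submodule.finrank_le _)
      ⟨v, D.piK_fix ρ (hfix hv).2, (hker v).2 (hfix hv).1,
        hnotr v fun w' => by rw [← htrace]; exact hv.2 w'⟩
  have hqU : Commute q U := commute_of_commute_augGen hp2 hU hqX
  have hqn : ∀ n ∈ N, Commute q (ρ n) := by
    intro n hn
    obtain ⟨i, hi⟩ := D.hgen n hn
    obtain ⟨z₀, hz₀, x, hx, hzx⟩ := D.hKdec _ hi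
    have hn' : n = z₀ * x * D.y ^ i := by rw [← hzx, inv_mul_cancel_right]
    rw [hn', map_mul, map_mul, map_pow]
    refine (Commute.mul_right ?_ ?_).mul_right (Commute.pow_right hqY i)
    · obtain ⟨m, hm⟩ := (isOfFinOrder_of_finite D.u).mem_powers_iff_mem_zpowers.2
        ((SetLike.ext_iff.1 D.hu z₀).1 hz₀)
      rw [← hm, map_pow]
      exact hqU.pow_right m
    · show q * ρ x = ρ x * q
      conv_lhs => rw [← hqπ, mul_assoc, D.piK_mul ρ hx, hqπ]
      conv_rhs => rw [← hπq, ← mul_assoc, D.mul_piK ρ hx, hπq]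
  let F : G → Module.End k V := fun g => ρ g * q * ρ g⁻¹
  have hFn : ∀ g, ∀ n ∈ N, F (g * n) = F g := by
    intro g n hn
    show ρ (g * n) * q * ρ (g * n)⁻¹ = ρ g * q * ρ g⁻¹
    rw [map_mul, mul_assoc (ρ g), ← (hqn n hn).eq, mul_inv_rev, map_mul,
      show ρ g * (q * ρ n) * (ρ n⁻¹ * ρ g⁻¹) = ρ g * q * (ρ n * ρ n⁻¹) * ρ g⁻¹ by
        simp only [mul_assoc],
      ← map_mul, mul_inv_cancel, map_one, mul_one]
  let f : G ⧸ N → Module.End k V := fun Q => F Q.out
  have hfmk : ∀ g : G, f (g : G ⧸ N) = F g := by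
    intro g
    obtain ⟨n, hn⟩ := QuotientGroup.mk_out_eq_mul N g
    show F (g : G ⧸ N).out = F g
    rw [hn, hFn g n n.2]
  let ψ : Module.End k V := ∑ Q, f Q
  have hψ : ∀ g, ψ * ρ g = ρ g * ψ := by
    intro g
    simp only [ψ, Finset.sum_mul, Finset.mul_sum]
    refine (Fintype.sum_equiv (MulAction.toPerm g) _ _ fun Q => ?_).symm
    obtain ⟨x, rfl⟩ := QuotientGroup.mk_surjective Q
    show _ = f ((g * x : G) : G ⧸ N) * ρ g
    rw [hfmk, hfmk]
    simp only [F, mul_inv_rev, map_mul, mul_assoc, ← map_mul ρ g⁻¹ g, inv_mul_cancel, map_one,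
      mul_one]
  obtain ⟨c, hc⟩ := hirr.scalar ψ hψ
  have hmain : ∀ w : V, U w = w → ∃ w', c • w - q w = T w' := by
    intro w hw
    have hPw := D.fixed_P ρ hw
    obtain ⟨w', hw'⟩ := exists_sum_eq_trace_of_free (P := (P : Subgroup G)) (X := G ⧸ N)
      (ρ.comp (P : Subgroup G).subtype) (fun Q => f Q w)
      (Finset.univ.erase ((1 : G) : G ⧸ N))
      (fun x Q hQ => Finset.mem_erase.2 ⟨fun h => (Finset.mem_erase.1 hQ).1 (by
        have h' := congrArg (x⁻¹ • ·) h
        simp only [inv_smul_smul] at h'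
        rw [h']
        show (((x : G)⁻¹ * 1 : G) : G ⧸ N) = _
        rw [mul_one, QuotientGroup.eq, mul_one, inv_inv]
        exact CycData.zpowers_le_normalizer x.2), Finset.mem_univ _⟩)
      (fun x Q hQ hfixQ => by
        by_contra hx
        obtain ⟨g, rfl⟩ := QuotientGroup.mk_surjective Q
        refine (Finset.mem_erase.1 hQ).1 (QuotientGroup.eq.2 ?_)
        rw [mul_one]
        refine N.inv_mem ?_
        have hxg : g⁻¹ * (x : G) * g ∈ N := by
          have h1 : ((((x : G) * g : G)) : G ⧸ N) = (g : G ⧸ N) := hfixQ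
          have h2 := N.inv_mem (QuotientGroup.eq.1 h1)
          simpa [mul_assoc] using h2
        have hxo : orderOf (x : G) = p := by
          have hdvd : orderOf (x : G) ∣ p := by
            have hcard : Nat.card (P : Subgroup G) = p := by rw [D.hu, Nat.card_zpowers, D.hup]
            have h := orderOf_dvd_natCard x
            rw [hcard, ← Subgroup.orderOf_coe] at h
            exact h
          rcases hpf.out.eq_one_or_self_of_dvd _ hdvd with h | h
          · exact absurd (Subtype.ext (orderOf_eq_one_iff.1 h)) hx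
          · exact h
        have hxo' : orderOf (g⁻¹ * (x : G) * g) = p := by
          rw [show g⁻¹ * (x : G) * g = MulAut.conj g⁻¹ (x : G) by simp [mul_assoc],
            MulEquiv.orderOf_eq, hxo]
        have hpg : IsPGroup p (Subgroup.zpowers (g⁻¹ * (x : G) * g)) :=
          IsPGroup.of_card (n := 1) (by rw [Nat.card_zpowers, hxo', pow_one])
        have hxP : g⁻¹ * (x : G) * g ∈ (P : Subgroup G) := by
          have h := Subgroup.mem_inf.2 ⟨Subgroup.mem_zpowers (g⁻¹ * (x : G) * g), hxg⟩
          exact (Subgroup.mem_inf.1 ((le_of_eq (hpg.inf_normalizer_sylow P)) h)).2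
        have hzp : ∀ y : G, y ∈ (P : Subgroup G) → orderOf y = p →
            Subgroup.zpowers y = (P : Subgroup G) := fun y hy hyo =>
          Subgroup.eq_of_le_of_card_ge (Subgroup.zpowers_le.2 hy)
            (by rw [Nat.card_zpowers, hyo, D.hu, Nat.card_zpowers, D.hup])
        refine Subgroup.mem_normalizer_iff.2 fun y => ?_
        constructor
        · intro hy
          rw [← hzp _ hxP hxo'] at hy
          obtain ⟨m, rfl⟩ := hy
          have hpow : g * (g⁻¹ * (x : G) * g) ^ m * g⁻¹ = (x : G) ^ m := by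
            rw [← conj_zpow]; congr 1; group
          show g * _ * g⁻¹ ∈ _
          rw [hpow]
          exact Subgroup.zpow_mem _ x.2 m
        · intro hy
          rw [← hzp _ x.2 hxo] at hy
          obtain ⟨m, hm⟩ := hy
          have hpow : (g⁻¹ * (x : G) * g) ^ m = y := by
            have : g⁻¹ * (x : G) ^ m * g = y := by rw [show (x : G) ^ m = g * y * g⁻¹ from hm]; group
            rw [← this]
            simpa using (conj_zpow (a := g⁻¹) (b := (x : G)) (i := m))
          rw [← hpow]
          exact Subgroup.zpow_mem _ hxP m)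
      (fun x Q _ => by
        obtain ⟨g, rfl⟩ := QuotientGroup.mk_surjective Q
        show f (((x : G) * g : G) : G ⧸ N) w = ρ (x : G) (f (g : G ⧸ N) w)
        rw [hfmk, hfmk]
        show (ρ ((x : G) * g) * q * ρ ((x : G) * g)⁻¹) w = ρ (x : G) ((ρ g * q * ρ g⁻¹) w)
        simp only [mul_inv_rev, map_mul, Module.End.mul_apply,
          hPw _ (Subgroup.inv_mem _ x.2)])
    refine ⟨w', ?_⟩
    rw [← htrace]
    have h0 : f ((1 : G) : G ⧸ N) = q := by rw [hfmk]; simp [F]
    have h1 : ψ w = f ((1 : G) : G ⧸ N) w +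
        ∑ Q ∈ Finset.univ.erase ((1 : G) : G ⧸ N), f Q w := by
      rw [Finset.add_sum_erase _ (fun Q => f Q w) (Finset.mem_univ _)]
      simp [ψ, LinearMap.sum_apply]
    rw [hc, LinearMap.smul_apply, Module.End.one_apply, h0, hw'] at h1
    rw [h1, add_sub_cancel_left]
    rfl
  have hz' : ∀ w', z ≠ T w' := hnotr' z hz
  have hc1 : c = 1 := by
    by_contra hne
    obtain ⟨w', hw'⟩ := hmain z ((hker z).1 hXz)
    rw [hqz] at hw'
    refine hz' ((c - 1)⁻¹ • w') ?_
    rw [map_smul, ← hw', eq_inv_smul_iff₀ (sub_ne_zero.2 hne)]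
    module
  have hcoef : ∀ {i : ℕ} {w : V}, TateVec D ρ i w →
      ∃ (α : k) (w' : V), α ≠ 0 ∧ w = α • z + T w' := by
    intro i w hw
    obtain ⟨w', hw'⟩ := hmain w (hfix hw).1
    obtain ⟨α, hα⟩ := Submodule.mem_span_singleton.1 (hq w ((hker w).2 (hfix hw).1))
    rw [hc1, one_smul, ← hα, sub_eq_iff_eq_add'] at hw'
    exact ⟨α, w', fun h0 => hw.2 w' (by rw [htrace, hw', h0, zero_smul, zero_add]), hw'⟩
  obtain ⟨α, w₁, hα, h1⟩ := hcoef hv
  obtain ⟨α', w₂, hα', h2⟩ := hcoef hv'
  by_contra hne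
  set w₃ := α' • w₁ - α • w₂ with hw₃
  have h3 : α' • v - α • v' = T w₃ := by
    rw [hw₃, map_sub, map_smul, map_smul, h1, h2]; module
  have h4 : α' • (a ^ j • v) - α • (a ^ j' • v') = T (Y w₃) := by
    have h5 := congrArg Y h3
    have h6 : Y (T w₃) = T (Y w₃) := by
      rw [← htrace, ← htrace]; exact CycData.trace_comm ρ D.hy w₃
    rw [map_sub, map_smul, map_smul, h6, hYdef, hv.1 _ D.hy, hv'.1 _ D.hy] at h5
    exact h5
  refine hv.2 ((α' * (a ^ j - a ^ j'))⁻¹ • (Y w₃ - a ^ j' • w₃)) ?_
  rw [htrace, map_smul, map_sub, map_smul, ← h3, ← h4,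
    eq_inv_smul_iff₀ (mul_ne_zero hα' (sub_ne_zero.2 hne))]
  module

/-- The principal idempotent fixes such a module. -/
theorem act_principal {M : Ideal AlgInt} (hM : IsPModular p M) {V : Type u} [AddCommGroup V]
    [Module (ResField M) V] :
    letI : Field (ResField M) := @Ideal.Quotient.field _ _ M hM.2.1
    ∀ [Algebra (ZMod p) (ResField M)] [CharP (ResField M) p] [IsAlgClosed (ResField M)]
      [FiniteDimensional (ResField M) V] {ρ : Representation (ResField M) G V} (_ : IrredRep ρ)
      {j : ℕ} {v : V} (_ : TateVec D ρ j v),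
      act ρ (gFn hM (principalBlock M G)) = 1 := by
  letI : Field (ResField M) := @Ideal.Quotient.field _ _ M hM.2.1
  intro _ _ _ _ ρ hirr j v hv
  set E := gFn hM (principalBlock M G)
  obtain ⟨c, hc⟩ := hirr.scalar (act ρ E) (act_cnj ρ (gFn_classFunction hM _))
  set C := Subgroup.centralizer ((P : Subgroup G) : Set G) with hCdef
  have huC : D.u ∈ C := by
    rw [hCdef, D.hu, Subgroup.zpowers_eq_closure, Subgroup.centralizer_closure,
      Subgroup.mem_centralizer_singleton_iff]
  have hCN : ∀ x ∈ C, x ∈ Subgroup.normalizer ((P : Subgroup G) : Set G) := by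
    intro x hx
    refine Subgroup.mem_normalizer_iff.2 fun y => ⟨fun hy => ?_, fun hy => ?_⟩
    · rwa [← Subgroup.mem_centralizer_iff.1 hx y hy, mul_inv_cancel_right]
    · have h := Subgroup.mem_centralizer_iff.1 hx _ hy
      rw [inv_mul_cancel_right] at h
      rwa [← mul_left_cancel h] at hy
  have hCfix : ∀ x ∈ C, ρ x v = v := fun x hx => by
    rw [hv.1 x (hCN x hx), (D.hrC x (hCN x hx)).2 hx, Units.val_one, map_one, one_pow, one_smul]
  letI : MulAction (P : Subgroup G) G :=
    MulAction.compHom G (MulAut.conj.comp (P : Subgroup G).subtype)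
  obtain ⟨w, hw⟩ := exists_sum_eq_trace_of_free (P := (P : Subgroup G)) (X := G)
    (ρ.comp (P : Subgroup G).subtype) (fun g => E g • ρ g v)
    (Finset.univ.filter fun g => g ∉ C)
    (fun x g hg => by
      refine Finset.mem_filter.2 ⟨Finset.mem_univ _, fun h => (Finset.mem_filter.1 hg).2 ?_⟩
      rw [Subgroup.mem_centralizer_iff] at h ⊢
      intro y hy
      have hx2 : ∀ y ∈ (P : Subgroup G), (x : G) * y = y * x := by
        intro y hy
        obtain ⟨a, ha⟩ := (SetLike.ext_iff.1 D.hu _).1 x.2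
        obtain ⟨b, hb⟩ := (SetLike.ext_iff.1 D.hu _).1 hy
        rw [← ha, ← hb]; exact (Commute.refl D.u).zpow_zpow a b
      have hh : y * ((x : G) * g * (x : G)⁻¹) = (x : G) * g * (x : G)⁻¹ * y := h y hy
      have e1 : (x : G)⁻¹ * y * x = y := by rw [mul_assoc, ← hx2 y hy, inv_mul_cancel_left]
      calc y * g = (x : G)⁻¹ * y * x * g := by rw [e1]
        _ = (x : G)⁻¹ * (y * ((x : G) * g * (x : G)⁻¹)) * x := by group
        _ = (x : G)⁻¹ * ((x : G) * g * (x : G)⁻¹ * y) * x := by rw [hh]
        _ = g * ((x : G)⁻¹ * y * x) := by group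
        _ = g * y := by rw [e1])
    (fun x g hg hfix => by
      by_contra hx
      refine (Finset.mem_filter.1 hg).2 ?_
      have hfix' : (x : G) * g * (x : G)⁻¹ = g := hfix
      have hzp : Subgroup.zpowers (x : G) = (P : Subgroup G) := by
        refine Subgroup.eq_of_le_of_card_ge (Subgroup.zpowers_le.2 x.2) ?_
        have hcard : Nat.card (P : Subgroup G) = p := by rw [D.hu, Nat.card_zpowers, D.hup]
        have h1 := orderOf_dvd_natCard x
        rw [hcard, ← Subgroup.orderOf_coe] at h1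
        rw [Nat.card_zpowers, hcard]
        rcases hpf.out.eq_one_or_self_of_dvd _ h1 with h | h
        · exact absurd (Subtype.ext (orderOf_eq_one_iff.1 h)) hx
        · exact h.ge
      rw [hCdef, ← hzp, Subgroup.zpowers_eq_closure, Subgroup.centralizer_closure,
        Subgroup.mem_centralizer_singleton_iff]
      exact (mul_inv_eq_iff_eq_mul.1 hfix').symm)
    (fun x g _ => by
      show E ((x : G) * g * (x : G)⁻¹) • ρ ((x : G) * g * (x : G)⁻¹) v = ρ (x : G) (E g • ρ g v)
      rw [show E ((x : G) * g * (x : G)⁻¹) = E g from gFn_classFunction hM _ g _, map_smul, map_mul, map_mul, Module.End.mul_apply, Module.End.mul_apply,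
        D.fixed_P ρ (hCfix _ huC) _ (Subgroup.inv_mem _ x.2)])
  have h1 : ∑ g ∈ Finset.univ.filter (fun g => g ∈ C), E g • ρ g v = v := by
    rw [Finset.sum_congr rfl fun g hg => by rw [hCfix g (Finset.mem_filter.1 hg).2],
      ← Finset.sum_smul]
    have h2 : ∑ g ∈ Finset.univ.filter (fun g => g ∈ C), E g = 1 := by
      rw [← sum_gFn_principal hM (G := G), ← sum_trc_eq hM P.isPGroup' (invBy_gFn hM _ _),
        Finset.sum_filter]
      rfl
    rw [h2, one_smul]
  have hsplit : act ρ E v = v + ∑ x : (P : Subgroup G), ρ (x : G) w := by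
    rw [act_apply, ← Finset.sum_filter_add_sum_filter_not Finset.univ (fun g => g ∈ C), h1, hw]
    rfl
  have hc1 : c = 1 := by
    by_contra hne
    refine hv.2 ((c - 1)⁻¹ • w) ?_
    have h3 : ∑ x : (P : Subgroup G), ρ (x : G) ((c - 1)⁻¹ • w) =
        (c - 1)⁻¹ • ∑ x : (P : Subgroup G), ρ (x : G) w := by
      rw [Finset.smul_sum]; simp only [map_smul]
    rw [hc, LinearMap.smul_apply, Module.End.one_apply] at hsplit
    rw [h3, eq_inv_smul_iff₀ (sub_ne_zero.2 hne), sub_smul, one_smul, hsplit, add_sub_cancel_left]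
  rw [hc, hc1, one_smul]

end CycData

/-- The principal block has rank at least the inertial index. -/
theorem le_blockRank_principal {M : Ideal AlgInt} (hM : IsPModular p M) (hp2 : p ≠ 2)
    (P : Sylow p G) (hP : Nat.card P = p) {e : ℕ}
    (he : (Subgroup.centralizer ((P : Subgroup G) : Set G)).relIndex
      (Subgroup.normalizer ((P : Subgroup G) : Set G)) = e) :
    e ≤ blockRank p (principalBlock M G) := by
  obtain ⟨D⟩ := exists_cycData P hP he
  letI : Field (ResField M) := @Ideal.Quotient.field _ _ M hM.2.1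
  haveI := charP_resField hM
  letI : Algebra (ZMod p) (ResField M) := ZMod.algebra _ p
  haveI := isAlgClosed_resField hM
  let S : ∀ i : Fin e, TateSimple D (k := ResField M) (i : ℕ) := fun i =>
    Classical.choice (exists_tateSimple D (i : ℕ))
  refine le_of_eq_of_le (Fintype.card_fin e).symm (card_le_blockRank hM (isPBlock_principal (G := G) M) (fun i => (S i).V)
    (fun i => (S i).ρ) (fun i => (S i).irred) ?_ (fun i => D.act_principal hM (S i).irred (S i).vec))
  intro i i' hne ⟨f, hf⟩
  refine hne (Fin.ext ?_)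
  have hvec : TateVec D (S i).ρ (i' : ℕ) (f.symm (S i').v) := by
    refine ⟨fun n hn => f.injective ?_, fun w hw => (S i').vec.2 (f w) ?_⟩
    · rw [hf, LinearEquiv.apply_symm_apply, (S i').vec.1 n hn, map_smul,
        LinearEquiv.apply_symm_apply]
    · have h2 := congrArg f hw
      rw [LinearEquiv.apply_symm_apply, map_sum] at h2
      rw [h2]
      exact Finset.sum_congr rfl fun x _ => hf _ _
  have hq := D.tate_unique hp2 (S i).irred (S i).vec hvec
  rw [← map_pow, ← map_pow] at hq
  have hu : D.r D.y ^ (i : ℕ) = D.r D.y ^ (i' : ℕ) := by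
    refine Units.ext ?_
    rw [Units.val_pow_eq_pow_val, Units.val_pow_eq_pow_val]
    exact (algebraMap (ZMod p) (ResField M)).injective hq
  have h3 := pow_inj_mod.1 hu
  rwa [D.hry, Nat.mod_eq_of_lt i.2, Nat.mod_eq_of_lt i'.2] at h3

end CfsgLib.Block
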