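import Cfsg.Agent.Lib.BlockPairLocal
import Cfsg.Agent.Lib.BlockSource
import Cfsg.Agent.Lib.BlockClassDefect

/-!
# Brauer's first main theorem
-/

set_option autoImplicit false
set_option linter.style.haveILetI false
set_option linter.unusedSectionVars false
set_option linter.unusedFintypeInType false

namespace CfsgLib.Block

open Cfsg CfsgLib.Char
open scoped ComplexConjugate Classical

universe u

variable {G : Type u} [Group G] [Fintype G] {p : ℕ} [Fact p.Prime] {M : Ideal AlgInt}

/-- With a normal `p`-subgroup, block idempotents live on its centralizer modulo `M`. -/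
theorem cred_bIdem_eq_zero_of_notMem (hM : IsPModular p M) (P : Subgroup G) [P.Normal]
    (hP : IsPGroup p P) {B : Set (IrrCharacter G)} (hB : IsPBlock M B) {g : G}
    (hg : g ∉ Subgroup.centralizer (P : Set G)) : cred hM (bIdem hM hB) g = 0 := by
  have hp := (Fact.out : p.Prime)
  have hCn : (Subgroup.centralizer (P : Set G)).Normal := inferInstance
  obtain ⟨t, ht⟩ := exists_lift hM (trc P (cred hM (bIdem hM hB))) fun a x => by
    have hx : x * a * x⁻¹ ∈ Subgroup.centralizer (P : Set G) ↔
        a ∈ Subgroup.centralizer (P : Set G) := by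
      refine ⟨fun h => ?_, fun h => hCn.conj_mem a h x⟩
      have := hCn.conj_mem _ h x⁻¹
      rwa [show x⁻¹ * (x * a * x⁻¹) * x⁻¹⁻¹ = a by group] at this
    simp only [trc, hx, cred_classFunction]
  set u := bIdem hM hB - t with hu
  have hu0 : ∀ χ, ev hM χ u = 0 := fun χ =>
    ev_eq_zero_of_centralizer hM P hP u (fun a ha => by
      have h := cred_add hM u t a
      rw [sub_add_cancel, show cred hM t a = cred hM (bIdem hM hB) a by
        rw [ht, trc, if_pos ha]] at h
      exact right_eq_add.1 h) χ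
  obtain ⟨k, hk⟩ : ∃ k, Fintype.card (IrrCharacter G) ≤ p ^ k :=
    ⟨Fintype.card (IrrCharacter G), (Nat.lt_pow_self hp.one_lt).le⟩
  obtain ⟨r, hr⟩ := exists_add_pow_prime_pow_eq hp u t k
  have hp0 : ((p : ℕ) : intRing (G := G) hM) ∈ redIdeal hM := by
    rw [← map_natCast (cst hM)]
    exact cst_mem_redIdeal hM ((res_natCast_eq_zero_iff hM p).2 dvd_rfl)
  have hidem : ∀ n, bIdem hM hB ^ (n + 1) = bIdem hM hB := fun n => by
    induction n with
    | zero => exact pow_one _
    | succ n ih => rw [pow_succ, ih, bIdem_sq]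
  obtain ⟨m, hm⟩ : ∃ m, p ^ k = m + 1 := ⟨p ^ k - 1, by have := pow_pos hp.pos k; omega⟩
  have hmk : Ideal.Quotient.mk (redIdeal hM) (bIdem hM hB) =
      Ideal.Quotient.mk (redIdeal hM) (t ^ (p ^ k)) := by
    rw [Ideal.Quotient.eq]
    have e : bIdem hM hB - t ^ (p ^ k) =
        u ^ (p ^ k) + ((p : ℕ) : intRing (G := G) hM) * (u * t * r) := by
      rw [sub_add_cancel, hm, hidem, ← hm] at hr
      conv_lhs => rw [hr]
      ring
    rw [e]
    exact add_mem (by rw [← Nat.sub_add_cancel hk, pow_add]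
                      exact Ideal.mul_mem_left _ _ (pow_mem_redIdeal hM u hu0))
      (Ideal.mul_mem_right _ _ hp0)
  have hsupp : ∀ (n : ℕ) (a : G), a ∉ Subgroup.centralizer (P : Set G) →
      cred hM (t ^ (n + 1)) a = 0 := by
    intro n
    induction n with
    | zero => intro a ha; rw [pow_one, ht, trc, if_neg ha]
    | succ n ih =>
      intro a ha
      rw [pow_succ, cred_mul_eq_gconv]
      exact gconv_supp ih (fun a ha => by rw [ht, trc, if_neg ha]) ha
  rw [(mk_redIdeal_eq_iff hM _ _).1 hmk g, hm]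
  exact hsupp m g hg

/-- With a normal `p`-subgroup, being a defect group is a matter of order. -/
theorem isDefectGroup_iff_card (hM : IsPModular p M) (P : Subgroup G) [P.Normal]
    (hP : IsPGroup p P) {B : Set (IrrCharacter G)} (hB : IsPBlock M B) :
    IsDefectGroup p M B P ↔ p ^ blockDefect p B = Nat.card P := by
  refine ⟨fun h => (card_defectGroup hM hB h).symm, fun h => ?_⟩
  obtain ⟨D, hD⟩ := exists_defectGroup hM hB
  have hle := normal_pGroup_le_defectGroup hM P hP hB hD
  rwa [Subgroup.eq_of_le_of_card_ge hle (by rw [card_defectGroup hM hB hD, h])]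

/-- The index of a subgroup and the order of a centralizer inside a subgroup. -/
theorem card_centralizer_subgroup (H : Subgroup G) (h : H) :
    Nat.card (Subgroup.centralizer ({h} : Set H)) =
      Nat.card (Subgroup.centralizer ({(h : G)} : Set G) ⊓ H : Subgroup G) := by
  rw [← Subgroup.card_subtype H (Subgroup.centralizer ({h} : Set H))]
  congr 2
  ext x
  simp only [Subgroup.mem_map, Subgroup.mem_centralizer_singleton_iff, Subgroup.coe_subtype,
    Subgroup.mem_inf]
  constructor
  · rintro ⟨y, hy, rfl⟩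
    exact ⟨congrArg Subtype.val hy, y.2⟩
  · exact fun hx => ⟨⟨x, hx.2⟩, Subtype.ext hx.1, rfl⟩

/-- Centralising a normal `p`-subgroup of the defect order forces the exact defect. -/
theorem classDefect_eq_of_supp (hM : IsPModular p M) (P : Subgroup G) [P.Normal]
    (hP : IsPGroup p P) {B : Set (IrrCharacter G)} (hB : IsPBlock M B)
    (hd : p ^ blockDefect p B = Nat.card P) {g : G} (hg : cred hM (bIdem hM hB) g ≠ 0) :
    g ∈ Subgroup.centralizer (P : Set G) ∧
      Nat.card P = p ^ (Nat.card (Subgroup.centralizer ({g} : Set G))).factorization p := by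
  have hgC : g ∈ Subgroup.centralizer (P : Set G) := by
    by_contra h
    exact hg (cred_bIdem_eq_zero_of_notMem hM P hP hB h)
  have hp := (Fact.out : p.Prime)
  refine ⟨hgC, le_antisymm (Nat.le_of_dvd (pow_pos hp.pos _) ?_)
    (hd ▸ Nat.pow_le_pow_right hp.pos (classDefect_le_blockDefect hM hB hg))⟩
  rw [← hd]
  refine Nat.pow_dvd_pow p ((hp.pow_dvd_iff_le_factorization Nat.card_pos.ne').1 ?_)
  rw [hd]
  exact Subgroup.card_dvd_of_le fun z hz => Subgroup.mem_centralizer_singleton_iff.2
    (Subgroup.mem_centralizer_iff.1 hgC z hz)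

/-- Classes with defect group `P` meet the centralizer of `P` in one normalizer class. -/
theorem exists_normalizer_conj {P : Subgroup G} (hP : IsPGroup p P) {c₁ c₂ : G}
    (h₁ : c₁ ∈ Subgroup.centralizer (P : Set G)) (h₂ : c₂ ∈ Subgroup.centralizer (P : Set G))
    (hc : Nat.card P = p ^ (Nat.card (Subgroup.centralizer ({c₂} : Set G))).factorization p)
    (hconj : IsConj c₁ c₂) : ∃ n ∈ Subgroup.normalizer (P : Set G), n * c₁ * n⁻¹ = c₂ := by
  have hle : ∀ {Q : Subgroup G} {c : G}, c ∈ Subgroup.centralizer (Q : Set G) →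
      Q ≤ Subgroup.centralizer ({c} : Set G) := fun {Q c} h z hz =>
    Subgroup.mem_centralizer_singleton_iff.2 (Subgroup.mem_centralizer_iff.1 h z hz)
  obtain ⟨x, hx⟩ := isConj_iff.1 hconj
  obtain ⟨S, hS⟩ := exists_sylow_map_eq (hle h₂) hc
  have hQle : P.map (MulAut.conj x).toMonoidHom ≤ Subgroup.centralizer ({c₂} : Set G) := by
    rintro _ ⟨z, hz, rfl⟩
    rw [Subgroup.mem_centralizer_singleton_iff, ← hx]
    show x * z * x⁻¹ * (x * c₁ * x⁻¹) = x * c₁ * x⁻¹ * (x * z * x⁻¹)
    have h := Subgroup.mem_centralizer_iff.1 h₁ z hz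
    calc x * z * x⁻¹ * (x * c₁ * x⁻¹) = x * (z * c₁) * x⁻¹ := by group
      _ = x * (c₁ * z) * x⁻¹ := by rw [h]
      _ = _ := by group
  have hcard : Nat.card (P.map (MulAut.conj x).toMonoidHom) =
      p ^ (Nat.card (Subgroup.centralizer ({c₂} : Set G))).factorization p := by
    rw [card_map_conj, hc]
  obtain ⟨T, hT⟩ := exists_sylow_map_eq hQle hcard
  obtain ⟨y, hy⟩ := MulAction.exists_smul_eq (Subgroup.centralizer ({c₂} : Set G)) T S
  refine ⟨(y : G) * x, ?_, ?_⟩
  · have hmap : P.map (MulAut.conj ((y : G) * x)).toMonoidHom = P := by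
      rw [← map_conj_map_conj, hT]
      conv_rhs => rw [hS, ← hy]
      show Subgroup.map _ (Subgroup.map _ _) = Subgroup.map _
        (Subgroup.map (MulAut.conj y).toMonoidHom (T : Subgroup (Subgroup.centralizer ({c₂} : Set G))))
      rw [Subgroup.map_map, Subgroup.map_map]
      congr 1
    rw [Subgroup.mem_normalizer_iff]
    intro z
    constructor
    · intro hz
      exact hmap ▸ ⟨z, hz, rfl⟩
    · intro hz
      obtain ⟨w, hw, e⟩ := (hmap.symm ▸ hz : (y : G) * x * z * ((y : G) * x)⁻¹ ∈
        P.map (MulAut.conj ((y : G) * x)).toMonoidHom)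
      rwa [← (MulAut.conj ((y : G) * x)).injective
        (show (MulAut.conj ((y : G) * x)) w = (MulAut.conj ((y : G) * x)) z from e)]
  · have h := Subgroup.mem_centralizer_singleton_iff.1 y.2
    calc (y : G) * x * c₁ * ((y : G) * x)⁻¹ = (y : G) * (x * c₁ * x⁻¹) * (y : G)⁻¹ := by group
      _ = c₂ := by rw [hx, h]; group

/-- A defect group of a class in the normalizer is one in the whole group. -/
theorem card_eq_of_normalizer {P : Subgroup G} (hP : IsPGroup p P) {c : G}
    (hc : c ∈ Subgroup.centralizer (P : Set G))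
    (hN : Nat.card P = p ^ (Nat.card (Subgroup.centralizer ({c} : Set G) ⊓
      Subgroup.normalizer (P : Set G) : Subgroup G)).factorization p) :
    Nat.card P = p ^ (Nat.card (Subgroup.centralizer ({c} : Set G))).factorization p := by
  have hp := (Fact.out : p.Prime)
  set C := Subgroup.centralizer ({c} : Set G)
  have hle : P ≤ C := fun z hz =>
    Subgroup.mem_centralizer_singleton_iff.2 (Subgroup.mem_centralizer_iff.1 hc z hz)
  have hP' : IsPGroup p (P.subgroupOf C) := hP.of_equiv (Subgroup.subgroupOfEquivOfLe hle).symm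
  obtain ⟨S, hS⟩ := hP'.exists_le_sylow
  by_contra hne
  have hlt : P.subgroupOf C < (S : Subgroup C) := by
    refine lt_of_le_of_ne hS fun h => hne ?_
    rw [← S.card_eq_multiplicity, ← h, Nat.card_congr (Subgroup.subgroupOfEquivOfLe hle).toEquiv]
  haveI : Group.IsNilpotent (S : Subgroup C) := S.isPGroup'.isNilpotent
  set R := (P.subgroupOf C).subgroupOf (S : Subgroup C) with hR
  have hRtop : R < ⊤ := lt_top_iff_ne_top.2 fun h => hlt.not_ge fun s hs => by
    have : (⟨s, hs⟩ : (S : Subgroup C)) ∈ R := h ▸ Subgroup.mem_top _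
    exact Subgroup.mem_subgroupOf.1 this
  obtain ⟨w, hwN, hwR⟩ := SetLike.exists_of_lt (normalizerCondition_of_isNilpotent R hRtop)
  set W : Subgroup G := (((Subgroup.normalizer (R : Set (S : Subgroup C))).map
    (S : Subgroup C).subtype).map C.subtype) with hW
  have hWle : W ≤ C ⊓ Subgroup.normalizer (P : Set G) := by
    rintro _ ⟨a, ⟨b, hb, rfl⟩, rfl⟩
    refine ⟨(b : C).2, Subgroup.mem_normalizer_iff.2 fun z => ?_⟩
    have hb' := Subgroup.mem_normalizer_iff.1 hb
    constructor
    · intro hz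
      have hzR : (⟨⟨z, hle hz⟩, hS (Subgroup.mem_subgroupOf.2 hz)⟩ : (S : Subgroup C)) ∈ R :=
        Subgroup.mem_subgroupOf.2 (Subgroup.mem_subgroupOf.2 hz)
      exact Subgroup.mem_subgroupOf.1 (Subgroup.mem_subgroupOf.1 ((hb' _).1 hzR))
    · intro hz
      have hzC : ((b : C) : G) * z * ((b : C) : G)⁻¹ ∈ C := hle hz
      have hzz : z ∈ C := by
        have h := mul_mem (mul_mem (inv_mem (b : C).2) hzC) (b : C).2
        rwa [show ((b : C) : G)⁻¹ * (((b : C) : G) * z * ((b : C) : G)⁻¹) * ((b : C) : G) = z by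
          group] at h
      have hzS : (⟨z, hzz⟩ : C) ∈ (S : Subgroup C) := by
        have h1 : (b : C) * ⟨z, hzz⟩ * (b : C)⁻¹ ∈ (S : Subgroup C) :=
          hS (Subgroup.mem_subgroupOf.2 hz)
        have h := mul_mem (mul_mem (inv_mem b.2) h1) b.2
        rwa [show (b : C)⁻¹ * ((b : C) * ⟨z, hzz⟩ * (b : C)⁻¹) * (b : C) = ⟨z, hzz⟩ by group] at h
      exact Subgroup.mem_subgroupOf.1 (Subgroup.mem_subgroupOf.1 ((hb' ⟨⟨z, hzz⟩, hzS⟩).2
        (Subgroup.mem_subgroupOf.2 (Subgroup.mem_subgroupOf.2 hz))))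
  have hWp : IsPGroup p W :=
    ((S.isPGroup'.to_subgroup (Subgroup.normalizer (R : Set (S : Subgroup C)))).map _).map _
  obtain ⟨k, hk⟩ := hWp.exists_card_eq
  have hcard : Nat.card P < Nat.card W := by
    rw [hW, Subgroup.card_subtype, Subgroup.card_subtype,
      ← Nat.card_congr (Subgroup.subgroupOfEquivOfLe hle).toEquiv,
      ← Nat.card_congr (Subgroup.subgroupOfEquivOfLe hlt.le).toEquiv, ← hR]
    by_contra hh
    exact hwR (Subgroup.eq_of_le_of_card_ge Subgroup.le_normalizer (not_lt.1 hh) ▸ hwN)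
  have h2 := (hp.pow_dvd_iff_le_factorization Nat.card_pos.ne').1
    (hk ▸ Subgroup.card_dvd_of_le hWle)
  rw [hN, hk] at hcard
  exact absurd (Nat.pow_le_pow_right hp.pos h2) (not_le.2 hcard)

section FMT

variable (hM : IsPModular p M) {P H : Subgroup G} [Fintype H] (hP : IsPGroup p P)
  (hC : Subgroup.centralizer (P : Set G) ≤ H) (hN : H ≤ Subgroup.normalizer (P : Set G))
  (hPH : P ≤ H)

include hM hP hN hPH in
/-- A block of a local subgroup inducing a block with defect group `P` has defect group `P`. -/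
theorem card_defect_of_induced {b : Set (IrrCharacter H)} {B : Set (IrrCharacter G)}
    (hind : IsInducedBlock M H b B) (hD : IsDefectGroup p M B P) :
    p ^ blockDefect p b = Nat.card (P.subgroupOf H) := by
  haveI : (P.subgroupOf H).Normal := (Subgroup.normal_subgroupOf_iff_le_normalizer hPH).2 hN
  have hP' : IsPGroup p (P.subgroupOf H) := hP.of_equiv (Subgroup.subgroupOfEquivOfLe hPH).symm
  obtain ⟨Q, hQ⟩ := exists_defectGroup hM hind.1
  obtain ⟨E, hE, hQE⟩ := exists_defectGroup_ge_induced hM hind hQ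
  have h1 := Nat.le_of_dvd Nat.card_pos (Subgroup.card_dvd_of_le hQE)
  rw [Subgroup.card_subtype, card_defectGroup hM hind.2.1 hE, ← card_defectGroup hM hind.2.1 hD,
    ← Nat.card_congr (Subgroup.subgroupOfEquivOfLe hPH).toEquiv] at h1
  rw [← card_defectGroup hM hind.1 hQ,
    Subgroup.eq_of_le_of_card_ge (normal_pGroup_le_defectGroup hM _ hP' hind.1 hQ) h1]

include hM hP hC hN hPH in
/-- Some block of a local subgroup induces a block with defect group `P`. -/
theorem exists_induced {B : Set (IrrCharacter G)} (hB : IsPBlock M B)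
    (hD : IsDefectGroup p M B P) : ∃ b, IsInducedBlock M H b B := by
  obtain ⟨g, hg, hne⟩ := brauerNonzero_defectGroup hM hB hD
  by_contra hh
  push Not at hh
  have h0 : indVal (brSet hM hP hC hN hB) = 0 := by
    funext ξ
    have : ξ ∉ brSet hM hP hC hN hB := fun h => hh _ ((mem_brSet_iff hM hP hC hN hPH hB ξ).1 h)
    simp [indVal, this]
  have h := cred_brSet hM hP hC hN hB (⟨g, hC hg⟩ : H)
  rw [if_pos hg, show (⟨_, brSet_mem hM hP hC hN hB⟩ : intRing (G := H) hM) = 0 from
    Subtype.ext h0, cred_zero_eq] at h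
  exact hne h.symm

variable (hH : H = Subgroup.normalizer (P : Set G))

include hP hC hPH hH in
/-- On classes of defect `P` the Brauer map of a class sum is a class sum. -/
theorem ev_brLift_cl {c : G} (hc : c ∈ Subgroup.centralizer (P : Set G))
    (hdef : Nat.card P = p ^ (Nat.card (Subgroup.centralizer ({c} : Set G))).factorization p)
    (ξ : IrrCharacter H) :
    ev hM ξ (brLift hM hN (cl hM c)) = ev hM ξ (cl hM (⟨c, hC hc⟩ : H)) := by
  refine ev_congr_cred hM (funext fun h => ?_) ξ
  rw [cred_brLift, cred_cl, cred_cl, ← ite_and]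
  refine if_congr ?_ rfl rfl
  constructor
  · rintro ⟨hh, hconj⟩
    obtain ⟨n, hn, e⟩ := exists_normalizer_conj hP hh hc hdef hconj.symm
    exact (isConj_iff.2 ⟨⟨n, hH ▸ hn⟩, Subtype.ext e⟩ : IsConj h (⟨c, hC hc⟩ : H)).symm
  · intro hconj
    obtain ⟨x, hx⟩ := isConj_iff.1 hconj
    have hx' : (x : G) * c * (x : G)⁻¹ = h := congrArg Subtype.val hx
    exact ⟨hx' ▸ (conj_mem_centralizer_iff (hN x.2) c).2 hc, isConj_iff.2 ⟨x, hx'⟩⟩

include hM hP hC hN hPH hH in
/-- The facts about supports of blocks with defect group `P` of the normalizer. -/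
theorem supp_normalizer {b : Set (IrrCharacter H)} (hb : IsPBlock M b)
    (hd : p ^ blockDefect p b = Nat.card (P.subgroupOf H)) {h : H}
    (hne : cred hM (bIdem hM hb) h ≠ 0) : (h : G) ∈ Subgroup.centralizer (P : Set G) ∧
      Nat.card P = p ^ (Nat.card (Subgroup.centralizer ({(h : G)} : Set G))).factorization p := by
  haveI : (P.subgroupOf H).Normal := (Subgroup.normal_subgroupOf_iff_le_normalizer hPH).2 hN
  have hP' : IsPGroup p (P.subgroupOf H) := hP.of_equiv (Subgroup.subgroupOfEquivOfLe hPH).symm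
  obtain ⟨h1, h2⟩ := classDefect_eq_of_supp hM _ hP' hb hd hne
  have h1' := (mem_centralizer_subgroupOf hPH h).1 h1
  refine ⟨h1', card_eq_of_normalizer hP h1' ?_⟩
  have e : (Subgroup.centralizer ({(h : G)} : Set G) ⊓ H : Subgroup G) =
      Subgroup.centralizer ({(h : G)} : Set G) ⊓ Subgroup.normalizer (P : Set G) := by rw [← hH]
  rw [← Nat.card_congr (Subgroup.subgroupOfEquivOfLe hPH).toEquiv, h2, card_centralizer_subgroup, e]

include hM hP hC hN hPH hH in
/-- The first half of the first main theorem. -/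
theorem defectGroup_of_induced {b : Set (IrrCharacter H)} {B : Set (IrrCharacter G)}
    (hind : IsInducedBlock M H b B) (hd : p ^ blockDefect p b = Nat.card (P.subgroupOf H)) :
    IsDefectGroup p M B P := by
  haveI : (P.subgroupOf H).Normal := (Subgroup.normal_subgroupOf_iff_le_normalizer hPH).2 hN
  have hP' : IsPGroup p (P.subgroupOf H) := hP.of_equiv (Subgroup.subgroupOfEquivOfLe hPH).symm
  obtain ⟨E, hE, hle⟩ := exists_defectGroup_ge_induced hM hind
    ((isDefectGroup_iff_card hM _ hP' hind.1).2 hd)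
  rw [Subgroup.map_subgroupOf_eq_of_le hPH] at hle
  obtain ⟨c, hcdef⟩ := exists_defectClass hM hind.1
  obtain ⟨hne, hev⟩ := (isDefectClass_iff hM hind.1 c).1 hcdef
  obtain ⟨hcC, hcard⟩ := supp_normalizer hM hP hC hN hPH hH hind.1 hd hne
  obtain ⟨ξ, hξ⟩ := isPBlock_nonempty hM hind.1
  obtain ⟨χ, hχ⟩ := isPBlock_nonempty hM hind.2.1
  have hg : ev hM χ (cl hM (c : G)) ≠ 0 := by
    rw [← ((isInducedBlock_iff hM H b B).1 hind).2.2 ξ hξ χ hχ, ev_resLift_eq_brLift hM hP hN hPH,
      ev_brLift_cl hM hP hC hN hPH hH hcC hcard]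
    exact hev ξ hξ
  obtain ⟨h', hconj, hh'⟩ := exists_conj_mem_centralizer hM hind.2.1
    (isPGroup_defectGroup hM hind.2.1 hE) (brauerNonzero_defectGroup hM hind.2.1 hE) hχ hg
  obtain ⟨x, hx⟩ := isConj_iff.1 hconj
  have hEle := map_conj_le_centralizer hx hh'
  obtain ⟨k, hk⟩ := (isPGroup_map_conj (isPGroup_defectGroup hM hind.2.1 hE) x⁻¹).exists_card_eq
  have h1 := ((Fact.out : p.Prime).pow_dvd_iff_le_factorization Nat.card_pos.ne').1
    (hk ▸ Subgroup.card_dvd_of_le hEle)
  rw [card_map_conj] at hk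
  rwa [Subgroup.eq_of_le_of_card_ge hle
    (hk.trans_le (hcard ▸ Nat.pow_le_pow_right (Fact.out : p.Prime).pos h1))]

include hM hP hC hN hPH hH in
/-- Blocks of the normalizer with the same induced block as one of defect `P` coincide with it. -/
theorem eq_of_induced {b b' : Set (IrrCharacter H)} {B : Set (IrrCharacter G)}
    (hind : IsInducedBlock M H b B) (hd : p ^ blockDefect p b = Nat.card (P.subgroupOf H))
    (hind' : IsInducedBlock M H b' B) : b' = b := by
  obtain ⟨ξ, hξ⟩ := isPBlock_nonempty hM hind.1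
  obtain ⟨η, hη⟩ := isPBlock_nonempty hM hind'.1
  obtain ⟨χ, hχ⟩ := isPBlock_nonempty hM hind.2.1
  have key : ev hM η (bIdem hM hind.1) = ev hM ξ (bIdem hM hind.1) := by
    rw [ev_eq_sum hM, ev_eq_sum hM (bIdem hM hind.1) ξ]
    refine Finset.sum_congr rfl fun K _ => ?_
    by_cases hne : cred hM (bIdem hM hind.1) (Quotient.out K) = 0
    · rw [hne, zero_mul, zero_mul]
    obtain ⟨hcC, hcard⟩ := supp_normalizer hM hP hC hN hPH hH hind.1 hd hne
    have e := ev_brLift_cl hM hP hC hN hPH hH hcC hcard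
    rw [show (⟨((Quotient.out K : H) : G), hC hcC⟩ : H) = Quotient.out K from rfl] at e
    rw [← e η, ← e ξ, ← ev_resLift_eq_brLift hM hP hN hPH, ← ev_resLift_eq_brLift hM hP hN hPH,
      ((isInducedBlock_iff hM H b B).1 hind).2.2 ξ hξ χ hχ,
      ((isInducedBlock_iff hM H b' B).1 hind').2.2 η hη χ hχ]
  rw [ev_bIdem hM hind.1, ev_bIdem hM hind.1, if_pos hξ] at key
  by_cases hηb : η ∈ b
  · exact isPBlock_eq_of_mem hM hind'.1 hind.1 hη hηb
  · rw [if_neg hηb] at key
    haveI := nontrivial_resField hM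
    exact absurd key zero_ne_one

include hM hP hC hN hPH hH in
/-- The idempotents of corresponding blocks agree on the centralizer. -/
theorem cred_eq_of_induced {b : Set (IrrCharacter H)} {B : Set (IrrCharacter G)}
    (hind : IsInducedBlock M H b B) (hd : p ^ blockDefect p b = Nat.card (P.subgroupOf H))
    {h : H} (hh : (h : G) ∈ Subgroup.centralizer (P : Set G)) :
    cred hM (bIdem hM hind.1) h = cred hM (bIdem hM hind.2.1) h := by
  have hbr : brSet hM hP hC hN hind.2.1 = b := by
    ext ξ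
    rw [mem_brSet_iff hM hP hC hN hPH hind.2.1]
    refine ⟨fun h => ?_, fun h => ?_⟩
    · exact eq_of_induced hM hP hC hN hPH hH hind hd h ▸ mem_blockOf_self hM ξ
    · rw [← isPBlock_eq_blockOf hM hind.1 h]; exact hind
  have hc := cred_brSet hM hP hC hN hind.2.1 h
  rw [if_pos hh] at hc
  rw [← hc]
  exact congrFun (congrArg (cred hM) (Subtype.ext (congrArg indVal hbr.symm))) h

end FMT

end CfsgLib.Block
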