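import Cfsg.Agent.Lib.BlockPairFusion
import Cfsg.Agent.Lib.BlockPairStab
import Cfsg.Agent.Lib.FusionAlperin

/-!
# The fusion system of a block is saturated
-/

set_option autoImplicit false

universe u

namespace CfsgLib.Block

open Cfsg CfsgLib.Char CfsgLib.Fusion Cfsg.FusionSystem
open scoped Classical

variable {G : Type u} [Group G] [Fintype G] {p : ℕ} {M : Ideal AlgInt} {hM : IsPModular p M}

omit [Fintype G] in
theorem map_conjHom_range (Q : Subgroup G) (g : G) :
    (conjHom Q g).range = Q.map (MulAut.conj g).toMonoidHom :=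
  range_conjHom Q g _ fun _ => rfl

theorem map_conj_map_conj' (Q : Subgroup G) (x : G) :
    (Q.map (MulAut.conj x).toMonoidHom).map (MulAut.conj x⁻¹).toMonoidHom = Q := by
  rw [map_conj_map_conj, inv_mul_cancel]
  ext g
  simp

/-- The fusion system of a maximal pair. -/
noncomputable def blockFusion {P : Subgroup G} {ψ : G → ResField M} (hψ : PairFn hM P ψ) :
    FusionSystem P where
  Hom Q := {φ | ∃ g : G, (∀ u : Q, φ u = g * (u : G) * g⁻¹) ∧
    ∃ γ, Chain hM (Q, γ) (P, ψ) ∧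
      Chain hM (Q.map (MulAut.conj g).toMonoidHom, cnj g γ) (P, ψ)}
  le_of_mem := by
    rintro Q φ ⟨g, hg, γ, h1, h2⟩
    exact ⟨h1.le, fun u => h2.le ⟨u, u.2, (hg u).symm⟩⟩
  injective_of_mem := by
    rintro Q φ ⟨g, hg, -⟩ a b hab
    rw [hg, hg] at hab
    exact Subtype.ext (mul_left_cancel (mul_right_cancel hab))
  conj_mem := by
    intro Q g hQ hg
    obtain ⟨γ, hγ⟩ := Chain.exists_below hψ hQ
    have h := hγ.cnj g
    simp only [map_conj_eq_self (Subgroup.le_normalizer hg),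
      cnj_eq_self_of_invBy (invBy_self hψ.2) hg] at h
    exact ⟨g, fun _ => rfl, γ, hγ, h⟩
  comp_mem := by
    rintro Q R φ φ' ⟨g, hg, γ, h1, h2⟩ ⟨g', hg', δ, h3, h4⟩ h
    have hle : Q.map (MulAut.conj g).toMonoidHom ≤ R := by
      rintro _ ⟨u, hu, rfl⟩
      have := h ⟨u, hu⟩
      rwa [hg] at this
    obtain ⟨δ', hδ'⟩ := Chain.exists_below (h3.pairFn hψ) hle
    obtain rfl : cnj g γ = δ' := Chain.unique hψ h2 (hδ'.trans h3)
    have h5 := (hδ'.cnj g').trans h4
    simp only [cnj_cnj, map_conj_map_conj] at h5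
    refine ⟨g' * g, fun u => ?_, γ, h1, h5⟩
    show φ' ⟨φ u, h u⟩ = _
    rw [hg']
    show g' * φ u * g'⁻¹ = _
    rw [hg]
    group
  inv_mem := by
    rintro Q φ ⟨g, hg, γ, h1, h2⟩
    have hr := range_conjHom Q g φ hg
    refine ⟨conjHom φ.range g⁻¹, ⟨g⁻¹, fun _ => rfl, cnj g γ, by rw [hr]; exact h2, ?_⟩,
      fun u => ?_⟩
    · rw [hr, map_conj_map_conj', cnj_cnj, inv_mul_cancel, cnj_one]
      exact h1
    · show g⁻¹ * φ u * g⁻¹⁻¹ = _
      rw [hg]
      group

variable {B : Set (IrrCharacter G)} {P : Subgroup G} {ψ : G → ResField M}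

theorem blockFusion_map_iff {hψ : PairFn hM P ψ} {Q : Subgroup G} {f : G → G} :
    Map (blockFusion hψ) Q f ↔ ∃ g : G, (∀ x ∈ Q, f x = g * x * g⁻¹) ∧
      ∃ γ, Chain hM (Q, γ) (P, ψ) ∧
        Chain hM (Q.map (MulAut.conj g).toMonoidHom, cnj g γ) (P, ψ) := by
  constructor
  · rintro ⟨φ, ⟨g, hg, hrest⟩, he⟩
    exact ⟨g, fun x hx => (he ⟨x, hx⟩).symm.trans (hg ⟨x, hx⟩), hrest⟩
  · rintro ⟨g, hg, hrest⟩
    exact ⟨conjHom Q g, ⟨g, fun _ => rfl, hrest⟩, fun x => (hg x x.2).symm⟩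

theorem subpairLE_isPBlock {Q : Subgroup G}
    {f : Set (IrrCharacter (Subgroup.centralizer (Q : Set G)))}
    {e : Set (IrrCharacter (Subgroup.centralizer (P : Set G)))} (he : IsPBlock M e)
    (h : SubpairLE p M Q f P e) : IsPBlock M f := by
  rcases Relation.ReflTransGen.cases_head h with heq | ⟨c, hs, -⟩
  · obtain ⟨rfl, h⟩ := Sigma.mk.injEq _ _ _ _ ▸ heq
    rw [eq_of_heq h]; exact he
  · exact hs.1.2

theorem blockFusion_spec {e : Set (IrrCharacter (Subgroup.centralizer (P : Set G)))}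
    (he : IsPBlock M e) (hψ : PairFn hM P (pFn hM P e)) (Q : Subgroup G) (φ : Q →* G) :
    φ ∈ (blockFusion hψ).Hom Q ↔
      Q ≤ P ∧ ∃ g : G, (∀ u : Q, φ u = g * (u : G) * g⁻¹) ∧
        Q.map (MulAut.conj g).toMonoidHom ≤ P ∧
        ∃ f : Set (IrrCharacter (Subgroup.centralizer (Q : Set G))),
          SubpairLE p M Q f P e ∧
            SubpairLE p M (Q.map (MulAut.conj g).toMonoidHom) (conjBlock Q g f) P e := by
  constructor
  · rintro ⟨g, hg, γ, h1, h2⟩
    obtain ⟨f, hf, rfl⟩ := (show PairFn hM Q γ from h1.pairFn hψ).exists_block hM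
    obtain ⟨hcb, hfn⟩ := conjBlock_data hM g hf
    rw [← hfn] at h2
    exact ⟨h1.le, g, hg, h2.le, f, subpairLE_of_chain hM hf he h1,
      subpairLE_of_chain hM hcb he h2⟩
  · rintro ⟨-, g, hg, -, f, h1, h2⟩
    obtain ⟨-, hfn⟩ := conjBlock_data hM g (subpairLE_isPBlock he h1)
    have h3 := chain_of_subpairLE hM h2
    rw [hfn] at h3
    exact ⟨g, hg, _, chain_of_subpairLE hM h1, h3⟩

theorem eq_blockFusion {e : Set (IrrCharacter (Subgroup.centralizer (P : Set G)))}
    (he : IsPBlock M e) (hψ : PairFn hM P (pFn hM P e)) {F : FusionSystem P}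
    (hF : IsBlockFusionSystemOn p M B P e F) : F = blockFusion hψ := by
  have h : F.Hom = (blockFusion hψ).Hom := by
    funext Q
    ext φ
    rw [hF.2, blockFusion_spec he hψ]
  obtain ⟨Hom, _, _, _, _, _⟩ := F
  revert h
  generalize blockFusion hψ = E
  intro h
  obtain ⟨Hom', _, _, _, _, _⟩ := E
  dsimp only at h
  subst h
  rfl

variable [Fact p.Prime]

theorem blockFusion_fullyAutomized (hψ : MaxPair hM B P ψ) :
    (blockFusion hψ.1.1).IsFullyAutomized p P := by
  haveI := CfsgLib.Fusion.finite_autGroup (blockFusion hψ.1.1) (le_refl P)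
  refine (isFullyAutomized_iff hψ.1.1.1).mpr ⟨le_rfl, ?_⟩
  set A := (blockFusion hψ.1.1).autGroup P
  set NT := Subgroup.normalizer (P : Set G) ⊓ stabSub ψ with hNT
  let π : NT →* MulAut P := (conjAut P).comp (Subgroup.inclusion inf_le_left)
  have hπ : ∀ (n : NT) (x : P), ((π n x : P) : G) = (n : G) * x * (n : G)⁻¹ := fun _ _ => rfl
  have hπA : ∀ n : NT, π n ∈ A := fun n => by
    refine (mem_autGroup_iff le_rfl).mpr (blockFusion_map_iff.mpr ⟨n, fun x hx => ?_, ψ,
      Relation.ReflTransGen.refl, ?_⟩)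
    · rw [autFun_apply _ hx, hπ]
    · rw [map_conj_eq_self n.2.1, show cnj (n : G) ψ = ψ from n.2.2]
      exact Relation.ReflTransGen.refl
  let π' : NT →* A := π.codRestrict A hπA
  have hsurj : Function.Surjective π' := by
    rintro ⟨α, hα⟩
    obtain ⟨g, hg, γ, h1, h2⟩ := blockFusion_map_iff.mp ((mem_autGroup_iff le_rfl).mp hα)
    obtain rfl : γ = ψ := Chain.unique hψ.1.1 h1 Relation.ReflTransGen.refl
    have hgn : g ∈ Subgroup.normalizer (P : Set G) := mem_normalizer_of_conj_mem fun x hx => by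
      rw [← hg x hx]; exact autFun_mem α hx
    rw [map_conj_eq_self hgn] at h2
    refine ⟨⟨g, hgn, Chain.unique hψ.1.1 h2 Relation.ReflTransGen.refl⟩,
      Subtype.ext (MulEquiv.ext fun x => Subtype.ext ?_)⟩
    have := hg x x.2
    rw [autFun_coe] at this
    exact this.symm
  set X := (P ⊔ Subgroup.centralizer (P : Set G)).subgroupOf NT
  have hX : ¬ p ∣ X.index := by
    intro hd
    obtain ⟨S⟩ : Nonempty (Sylow p NT) := inferInstance
    refine S.not_dvd_index (hd.trans (Subgroup.index_dvd_of_le fun s hs => ?_))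
    obtain ⟨k, hk⟩ := IsPGroup.iff_orderOf.mp S.2 ⟨s, hs⟩
    refine Subgroup.mem_subgroupOf.mpr
      (pElement_stab_mem hψ ⟨k, ?_⟩ s.2.1 s.2.2)
    rw [← hk, Subgroup.orderOf_mk, Subgroup.orderOf_coe]
  have hle : X.map π' ≤ (autInducedBy P P).subgroupOf A := by
    rintro _ ⟨n, hn, rfl⟩
    have hn' : (n : G) ∈ ((P ⊔ Subgroup.centralizer (P : Set G) : Subgroup G) : Set G) :=
      Subgroup.mem_subgroupOf.mp hn
    rw [Subgroup.coe_mul_of_left_le_normalizer_right P _
      (fun u hu => mem_normalizer_centralizer (Subgroup.le_normalizer hu))] at hn'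
    obtain ⟨u, hu, c, hc, huc⟩ := Set.mem_mul.mp hn'
    refine Subgroup.mem_subgroupOf.mpr (mem_autInducedBy_iff.mpr
      ⟨u, hu, Subgroup.le_normalizer hu, fun x hx => ?_⟩)
    show autFun (π n) x = _
    rw [autFun_apply _ hx, hπ, ← huc]
    have := Subgroup.mem_centralizer_iff.mp hc x hx
    calc u * c * x * (u * c)⁻¹ = u * (c * x) * c⁻¹ * u⁻¹ := by group
      _ = _ := by rw [← this]; group
  exact fun hd => hX ((hd.trans (Subgroup.index_dvd_of_le hle)).trans
    (Subgroup.index_map_dvd _ hsurj))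

omit [Fact p.Prime] in
theorem nSub_subgroupOf {H : Subgroup G} [Fintype H] {a b : Subgroup G × (G → ResField M)}
    (h : NSub hM a b) (hb : b.1 ≤ H) (hC : Subgroup.centralizer (a.1 : Set G) ≤ H) :
    NSub hM (G := H) (a.1.subgroupOf H, fun k : H => a.2 k)
      (b.1.subgroupOf H, fun k : H => b.2 k) := by
  obtain ⟨h1, h2, hle, hN, hinv, he⟩ := h
  have hCb : Subgroup.centralizer (b.1 : Set G) ≤ H := (Subgroup.centralizer_le hle).trans hC
  refine ⟨pairFn_subgroupOf h1 (hle.trans hb) hC, pairFn_subgroupOf h2 hb hCb,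
    fun x hx => hle hx, fun k hk => Subgroup.mem_normalizer_iff.mpr fun x => ?_,
    fun k hk x => hinv k (Subgroup.mem_subgroupOf.mp hk) (x : G), ext0_injective H ?_⟩
  · exact Subgroup.mem_normalizer_iff.mp (hN (Subgroup.mem_subgroupOf.mp hk)) (x : G)
  · have e1 : ext0 H (trc (b.1.subgroupOf H) fun k : H => a.2 k) = trc b.1 a.2 := by
      funext g
      by_cases hg : g ∈ H
      · lift g to H using hg
        rw [ext0_coe]
        simp only [trc]
        exact if_congr (mem_centralizer_subgroupOf hb g) rfl rfl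
      · rw [show ext0 H (trc (b.1.subgroupOf H) fun k : H => a.2 k) g = 0 from dif_neg hg]
        exact (if_neg fun h => hg (hCb h)).symm
    rw [ext0_gconv, e1, ext0_restrict_blockFn h2.2 hCb, he]

omit [Fact p.Prime] in
theorem chain_subgroupOf {H : Subgroup G} [Fintype H] {a b : Subgroup G × (G → ResField M)}
    (h : Chain hM a b) (hb : b.1 ≤ H) (hC : Subgroup.centralizer (a.1 : Set G) ≤ H) :
    Chain hM (G := H) (a.1.subgroupOf H, fun k : H => a.2 k)
      (b.1.subgroupOf H, fun k : H => b.2 k) := by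
  induction h using Relation.ReflTransGen.head_induction_on with
  | refl => exact Relation.ReflTransGen.refl
  | @head a c hs hrest ih =>
    exact Relation.ReflTransGen.head (nSub_subgroupOf hs ((Chain.le hrest).trans hb) hC)
      (ih ((Subgroup.centralizer_le hs.2.2.1).trans hC))

theorem blockFusion_receptive (hψ : MaxPair hM B P ψ) {Q : Subgroup G}
    (hfn : (blockFusion hψ.1.1).IsFullyNormalized Q) : (blockFusion hψ.1.1).IsReceptive Q := by
  refine isReceptive_iff.mpr ⟨hfn.1, fun A f hf himg D hAD hD => ?_⟩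
  obtain ⟨g, hg, α, hα, hgα⟩ := blockFusion_map_iff.mp hf
  have hDP : D ≤ P := fun b hb => (hD b hb).1
  have hgA : A.map (MulAut.conj g).toMonoidHom = Q := by
    rw [← himg]
    ext y
    rw [hf.mem_img]
    exact ⟨fun ⟨x, hx, e⟩ => ⟨x, hx, (hg x hx).trans e⟩,
      fun ⟨x, hx, e⟩ => ⟨x, hx, (hg x hx).symm.trans e⟩⟩
  rw [hgA] at hgα
  obtain ⟨φQ, hφQ, hφe⟩ := (hgα.pairFn hψ.1.1).exists_block hM
  dsimp only at hφe
  have hQ : PairIn hM B Q (cnj g α) := (hgα.pairIn_iff B).1 hψ.1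
  have hfb : IsBlockFn hM (Subgroup.centralizer (Q : Set G)) (cnj g α) := hQ.1.2
  -- the stabiliser and its block
  let T : Subgroup G :=
    { carrier := {y | y ∈ Subgroup.normalizer (Q : Set G) ∧ cnj y (cnj g α) = cnj g α}
      one_mem' := ⟨one_mem _, cnj_one _⟩
      mul_mem' := fun {x y} hx hy => ⟨mul_mem hx.1 hy.1, by rw [← cnj_cnj, hy.2, hx.2]⟩
      inv_mem' := fun {x} hx => ⟨inv_mem hx.1, (stabSub (cnj g α)).inv_mem hx.2⟩ }
  have hT : ∀ y : G, y ∈ T ↔ y ∈ Subgroup.normalizer (Q : Set G) ∧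
      StabilizesBlock (Subgroup.centralizer (Q : Set G)) φQ y := fun y => by
    rw [stabilizesBlock_iff hM hφQ, show bFn hM _ φQ = cnj g α from hφe]
    exact ⟨fun h => ⟨h.1, mem_normalizer_centralizer h.1, h.2⟩, fun h => ⟨h.1, h.2.2⟩⟩
  obtain ⟨hCT, hQT, hTN, hkey⟩ := stab_facts hM hφQ hT
  haveI := Fintype.ofFinite T
  obtain ⟨FT, hFT, hFTf⟩ :=
    exists_stab_block hM hQ.1.1 hQT hCT hTN hφQ fun t ht => ((hT t).1 ht).2
  have hbT := bFn_stab (hM := hM) hCT hFTf
  rw [← hφe] at hgα hQ hfb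
  obtain ⟨x, hx, hcard⟩ := exists_conj_normalizer_defect hψ hφQ hQ hT hFT hbT
  have hconj : (blockFusion hψ.1.1).IsConj Q (Q.map (MulAut.conj x).toMonoidHom) :=
    ⟨conjHom Q x, ⟨x, fun _ => rfl, _, hgα, hx⟩, map_conjHom_range Q x⟩
  have hbound : p ^ blockDefect p FT ≤
      Nat.card (P ⊓ Subgroup.normalizer (Q : Set G) : Subgroup G) :=
    hcard.trans (hfn.2 _ hconj)
  -- the group `L = N_P(Q) C(Q)` and its block
  set R := P ⊓ Subgroup.normalizer (Q : Set G)
  have hQR : Q ≤ R := le_inf hfn.1 Subgroup.le_normalizer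
  obtain ⟨τ, hτ⟩ := Chain.exists_below hψ.1.1 (inf_le_left : R ≤ P)
  obtain ⟨φ', hφ', -⟩ := existsUnique_nSub (hτ.pairFn hψ.1.1) hQR inf_le_right
  obtain rfl : φ' = pFn hM Q φQ :=
    Chain.unique hψ.1.1 (Relation.ReflTransGen.head hφ' hτ) hgα
  have hRT : R ≤ T := (hkey R inf_le_right).2 hφ'.2.2.2.2.1
  set L := R ⊔ Subgroup.centralizer (Q : Set G) with hL
  have hLT : L ≤ T := sup_le hRT hCT
  have hRL : R ≤ L := le_sup_left
  have hCL : Subgroup.centralizer (Q : Set G) ≤ L := le_sup_right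
  haveI := Fintype.ofFinite L
  obtain ⟨FL, hFL, hFLf⟩ := exists_stab_block hM hQ.1.1 (hQR.trans hRL) hCL (hLT.trans hTN) hφQ
    fun t ht => ((hT t).1 (hLT ht)).2
  have hbL := bFn_stab (hM := hM) hCL hFLf
  have hCR : Subgroup.centralizer (R : Set G) ≤ L := (Subgroup.centralizer_le hQR).trans hCL
  have hin := pairIn_subgroupOf (hτ.pairFn hψ.1.1) hRL hCR hFL (by
    rw [hbL]; exact hφ'.2.2.2.2.2)
  have hmax : MaxPair hM (G := L) FL (R.subgroupOf L) (fun k : L => τ k) := by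
    refine maxPair_of_defectGroup hin ?_
    obtain ⟨D₁, hD₁, hle⟩ := exists_defectGroup_ge hM hFL hin.1.1 hin.brauerNonzero
    rw [Subgroup.eq_of_le_of_card_ge hle]
    · exact hD₁
    obtain ⟨c, hc, hne⟩ := brauerNonzero_defectGroup hM hFL hD₁
    rw [blockFn_eq_of_coe hFL hbL] at hne
    have hD₁T : D₁.map L.subtype ≤ T := (Subgroup.map_subtype_le _).trans hLT
    obtain ⟨D₂, hD₂, hle₂⟩ := exists_defectGroup_ge hM hFT
      ((IsPGroup.map (isPGroup_defectGroup hM hFL hD₁) L.subtype).of_equiv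
        (Subgroup.subgroupOfEquivOfLe hD₁T).symm)
      (show BrauerNonzero hM hFT ((D₁.map L.subtype).subgroupOf T) from by
        refine ⟨⟨(c : G), hLT c.2⟩, (mem_centralizer_subgroupOf hD₁T _).2 ?_, ?_⟩
        · refine Subgroup.mem_centralizer_iff.2 ?_
          rintro _ ⟨d, hd, rfl⟩
          exact congrArg Subtype.val (Subgroup.mem_centralizer_iff.1 hc d hd)
        · rw [blockFn_eq_of_coe hFT hbT]
          exact hne)
    have h1 := (Subgroup.card_le_of_le hle₂).trans (card_defectGroup hM hFT hD₂).le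
    rw [Nat.card_congr (Subgroup.subgroupOfEquivOfLe hD₁T).toEquiv,
      Subgroup.card_map_of_injective (Subgroup.subtype_injective _)] at h1
    rw [Nat.card_congr (Subgroup.subgroupOfEquivOfLe hRL).toEquiv]
    exact h1.trans hbound
  -- the pair on the conjugate of `D`
  obtain ⟨β, hβ⟩ := Chain.exists_below hψ.1.1 hDP
  have hDA : D ≤ Subgroup.normalizer (A : Set G) := fun b hb => (hD b hb).2.1
  obtain ⟨α', hα', -⟩ := existsUnique_nSub (hβ.pairFn hψ.1.1) hAD hDA
  obtain rfl : α' = α := Chain.unique hψ.1.1 (Relation.ReflTransGen.head hα' hβ) hα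
  have hn := hα'.cnj g
  dsimp only at hn
  rw [hgA, ← hφe] at hn
  have hDL : D.map (MulAut.conj g).toMonoidHom ≤ L := by
    rintro _ ⟨b, hb, rfl⟩
    obtain ⟨hbP, hbA, h, hh, he⟩ := hD b hb
    have key : ∀ a ∈ A, h * (g * a * g⁻¹) * h⁻¹ = g * (b * a * b⁻¹) * g⁻¹ := fun a ha => by
      rw [← hg a ha, ← hg _ (conj_mem_of_mem_normalizer hbA ha), he a ha]
    have hhR : h ∈ R := ⟨hh, by
      refine mem_normalizer_of_conj_mem ?_
      rw [← hgA]
      rintro _ ⟨a, ha, rfl⟩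
      exact ⟨_, conj_mem_of_mem_normalizer hbA ha, (key a ha).symm⟩⟩
    have hc : h⁻¹ * (g * b * g⁻¹) ∈ Subgroup.centralizer (Q : Set G) := by
      refine Subgroup.mem_centralizer_iff.2 ?_
      rw [← hgA]
      rintro _ ⟨a, ha, rfl⟩
      show g * a * g⁻¹ * _ = _ * (g * a * g⁻¹)
      calc g * a * g⁻¹ * (h⁻¹ * (g * b * g⁻¹))
          = h⁻¹ * (h * (g * a * g⁻¹) * h⁻¹) * (g * b * g⁻¹) := by group
        _ = _ := by rw [key a ha]; group
    have := L.mul_mem (hRL hhR) (hCL hc)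
    rwa [mul_inv_cancel_left] at this
  have hCD : Subgroup.centralizer ((D.map (MulAut.conj g).toMonoidHom : Subgroup G) : Set G) ≤ L :=
    (Subgroup.centralizer_le hn.2.2.1).trans hCL
  have hin' := pairIn_subgroupOf hn.2.1 hDL hCD hFL (by
    rw [hbL]; exact hn.2.2.2.2.2)
  obtain ⟨l, hl⟩ := hmax.exists_conj_chain hin'
  have hle := Chain.le hl
  dsimp only at hle
  -- lift the chain to `G`
  have hxR : D.map (MulAut.conj ((l : G) * g)).toMonoidHom ≤ R := by
    rintro _ ⟨b, hb, rfl⟩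
    have h1 := Subgroup.mem_subgroupOf.1 (hle ⟨⟨g * b * g⁻¹, hDL ⟨b, hb, rfl⟩⟩,
      Subgroup.mem_subgroupOf.2 ⟨b, hb, rfl⟩, rfl⟩)
    simpa [mul_assoc] using h1
  obtain ⟨δ, hδ⟩ := Chain.exists_below (hτ.pairFn hψ.1.1) hxR
  have hQx : Q ≤ D.map (MulAut.conj ((l : G) * g)).toMonoidHom := by
    intro q hq
    have h1 : (l : G)⁻¹ * q * l ∈ Q := by
      simpa using (Subgroup.mem_normalizer_iff.1 (hTN (hLT (inv_mem l.2))) q).1 hq
    rw [← hgA] at h1
    obtain ⟨a, ha, hae⟩ := h1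
    refine ⟨a, hAD ha, ?_⟩
    have hae' : g * a * g⁻¹ = (l : G)⁻¹ * q * l := hae
    show (l : G) * g * a * ((l : G) * g)⁻¹ = q
    calc (l : G) * g * a * ((l : G) * g)⁻¹ = l * (g * a * g⁻¹) * (l : G)⁻¹ := by group
      _ = q := by rw [hae']; group
  have hCx : Subgroup.centralizer
      ((D.map (MulAut.conj ((l : G) * g)).toMonoidHom : Subgroup G) : Set G) ≤ L :=
    (Subgroup.centralizer_le hQx).trans hCL
  have hsub : ((D.map (MulAut.conj g).toMonoidHom).subgroupOf L).map (MulAut.conj l).toMonoidHom =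
      (D.map (MulAut.conj ((l : G) * g)).toMonoidHom).subgroupOf L := by
    ext k
    constructor
    · rintro ⟨k', hk', rfl⟩
      obtain ⟨b, hb, hbe⟩ := Subgroup.mem_subgroupOf.1 hk'
      refine Subgroup.mem_subgroupOf.2 ⟨b, hb, ?_⟩
      have hbe' : g * b * g⁻¹ = (k' : G) := hbe
      show (l : G) * g * b * ((l : G) * g)⁻¹ = (l : G) * k' * (l : G)⁻¹
      rw [← hbe']; group
    · intro hk
      obtain ⟨b, hb, hbe⟩ := Subgroup.mem_subgroupOf.1 hk
      refine ⟨⟨g * b * g⁻¹, hDL ⟨b, hb, rfl⟩⟩, Subgroup.mem_subgroupOf.2 ⟨b, hb, rfl⟩,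
        Subtype.ext ?_⟩
      show (l : G) * (g * b * g⁻¹) * (l : G)⁻¹ = k
      rw [← hbe]
      show _ = (l : G) * g * b * ((l : G) * g)⁻¹
      group
  rw [hsub] at hl
  have heq := Chain.unique hmax.1.1 hl (chain_subgroupOf hδ hRL hCx)
  have hδe : δ = cnj ((l : G) * g) β := by
    funext k
    by_cases hk : k ∈ L
    · lift k to L using hk
      show δ (k : G) = _
      refine (congrFun heq k).symm.trans ?_
      simp only [cnj, Subgroup.coe_mul, InvMemClass.coe_inv]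
      congr 1
      group
    · have h1 : δ k = 0 := (hδ.pairFn (hτ.pairFn hψ.1.1)).2.supp fun h => hk (hCx h)
      have h2 : cnj ((l : G) * g) β k = 0 :=
        ((hβ.pairFn hψ.1.1).cnj ((l : G) * g)).2.supp fun h => hk (hCx h)
      rw [h1, h2]
  subst hδe
  -- split `l` and finish
  have hl2 : (l : G) ∈ ((R ⊔ Subgroup.centralizer (Q : Set G) : Subgroup G) : Set G) := l.2
  rw [Subgroup.coe_mul_of_left_le_normalizer_right R _
    (fun u hu => mem_normalizer_centralizer hu.2)] at hl2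
  obtain ⟨u, hu, c, hc, huc⟩ := Set.mem_mul.mp hl2
  have h5 := (Chain.cnj (hδ.trans hτ) u⁻¹)
  simp only [map_conj_eq_self (Subgroup.le_normalizer (inv_mem hu.1)),
    cnj_eq_self_of_invBy (invBy_self hψ.1.1.2) (inv_mem hu.1), cnj_cnj, map_conj_map_conj] at h5
  rw [show u⁻¹ * ((l : G) * g) = c * g by rw [← huc]; group] at h5
  refine ⟨fun y => c * g * y * (c * g)⁻¹,
    blockFusion_map_iff.mpr ⟨c * g, fun _ _ => rfl, β, hβ, h5⟩, fun a ha => ?_⟩
  rw [hg a ha]
  have h6 : g * a * g⁻¹ * c = c * (g * a * g⁻¹) :=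
    Subgroup.mem_centralizer_iff.1 hc _ (hgA ▸ ⟨a, ha, rfl⟩)
  calc c * g * a * (c * g)⁻¹ = c * (g * a * g⁻¹) * c⁻¹ := by group
    _ = _ := by rw [← h6]; group

/-- **The fusion system of a block is saturated.** -/
theorem blockFusion_saturated (hψ : MaxPair hM B P ψ) :
    (blockFusion hψ.1.1).IsSaturated p :=
  isSaturated_of_receptive hψ.1.1.1 (blockFusion_fullyAutomized hψ)
    fun _ hQ => blockFusion_receptive hψ hQ

end CfsgLib.Block
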