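import Cfsg.Agent.Lib.CharInt
import Mathlib.RingTheory.RootsOfUnity.PrimitiveRoots
import Mathlib.Algebra.Ring.GeomSum

/-!
# Families of integer polynomials in a root of unity of prime power order
-/

set_option autoImplicit false
set_option linter.style.haveILetI false
set_option linter.unusedSectionVars false

namespace CfsgLib.Block

open Polynomial
open scoped ComplexConjugate Classical

/-- A family given by one integer polynomial in the powers of `ζ`. -/
def GalVal (p : ℕ) (ζ : ℂ) (f : ℕ → ℂ) : Prop :=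
  ∃ Q : ℤ[X], ∀ k, ¬ p ∣ k → f k = aeval (ζ ^ k) Q

variable {p : ℕ} {ζ : ℂ} {f g : ℕ → ℂ}

theorem GalVal.congr (h : GalVal p ζ f) (e : ∀ k, ¬ p ∣ k → g k = f k) : GalVal p ζ g := by
  obtain ⟨Q, hQ⟩ := h
  exact ⟨Q, fun k hk => (e k hk).trans (hQ k hk)⟩

theorem galVal_const (n : ℤ) : GalVal p ζ fun _ => (n : ℂ) :=
  ⟨C n, fun k _ => by simp⟩

theorem galVal_root (j : ℕ) : GalVal p ζ fun k => (ζ ^ j) ^ k :=
  ⟨X ^ j, fun k _ => by simp [← pow_mul, mul_comm]⟩

theorem GalVal.add (hf : GalVal p ζ f) (hg : GalVal p ζ g) : GalVal p ζ fun k => f k + g k := by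
  obtain ⟨Q, hQ⟩ := hf
  obtain ⟨R, hR⟩ := hg
  exact ⟨Q + R, fun k hk => by simp [hQ k hk, hR k hk]⟩

theorem GalVal.mul (hf : GalVal p ζ f) (hg : GalVal p ζ g) : GalVal p ζ fun k => f k * g k := by
  obtain ⟨Q, hQ⟩ := hf
  obtain ⟨R, hR⟩ := hg
  exact ⟨Q * R, fun k hk => by simp [hQ k hk, hR k hk]⟩

theorem galVal_sum {ι : Type*} (s : Finset ι) (F : ι → ℕ → ℂ)
    (h : ∀ i ∈ s, GalVal p ζ (F i)) : GalVal p ζ fun k => ∑ i ∈ s, F i k := by
  induction s using Finset.induction with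
  | empty => exact (galVal_const 0).congr fun k _ => by simp
  | insert a s ha ih =>
    refine ((h a (Finset.mem_insert_self a s)).add
      (ih fun i hi => h i (Finset.mem_insert_of_mem hi))).congr fun k _ => ?_
    rw [Finset.sum_insert ha]

theorem galVal_prod {ι : Type*} (s : Finset ι) (F : ι → ℕ → ℂ)
    (h : ∀ i ∈ s, GalVal p ζ (F i)) : GalVal p ζ fun k => ∏ i ∈ s, F i k := by
  induction s using Finset.induction with
  | empty => exact (galVal_const 1).congr fun k _ => by simp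
  | insert a s ha ih =>
    refine ((h a (Finset.mem_insert_self a s)).mul
      (ih fun i hi => h i (Finset.mem_insert_of_mem hi))).congr fun k _ => ?_
    rw [Finset.prod_insert ha]

theorem GalVal.conj {a : ℕ} (hp : p.Prime) (hζ : ζ ^ p ^ a = 1) (hf : GalVal p ζ f) :
    GalVal p ζ fun k => conj (f k) := by
  obtain ⟨Q, hQ⟩ := hf
  refine ⟨Q.comp (X ^ (p ^ a - 1)), fun k hk => ?_⟩
  have hn : 0 < p ^ a := pow_pos hp.pos a
  have e : conj (ζ ^ k) = (ζ ^ k) ^ (p ^ a - 1) := by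
    have h1 : (ζ ^ k) ^ p ^ a = 1 := by rw [← pow_mul, mul_comm, pow_mul, hζ, one_pow]
    rw [← CfsgLib.Char.inv_eq_conj_of_pow_eq_one hn h1]
    refine inv_eq_of_mul_eq_one_right ?_
    rw [← pow_succ', Nat.sub_add_cancel hn, h1]
  show (starRingEnd ℂ) (f k) = _
  rw [hQ k hk, aeval_comp, aeval_X_pow, ← e, aeval_def, aeval_def, hom_eval₂]
  congr 1
  exact RingHom.ext_int _ _

theorem sum_pow_root_int {η : ℂ} {n : ℕ} (h : η ^ n = 1) :
    ∃ m : ℤ, ∑ k ∈ Finset.range n, η ^ k = (m : ℂ) := by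
  by_cases h1 : η = 1
  · exact ⟨n, by simp [h1]⟩
  · exact ⟨0, by rw [geom_sum_eq h1, h]; simp⟩

/-- **An invariant family is rational.** -/
theorem GalVal.exists_int {a : ℕ} (hp : p.Prime) (hζ : ζ ^ p ^ a = 1) (hf : GalVal p ζ f)
    (hconst : ∀ k, ¬ p ∣ k → f k = f 1) : ∃ n : ℤ, f 1 = (n : ℂ) := by
  obtain ⟨Q, hQ⟩ := hf
  rcases Nat.eq_zero_or_pos a with rfl | ha
  · refine ⟨Q.eval 1, ?_⟩
    rw [hQ 1 hp.not_dvd_one, pow_one, show ζ = 1 by simpa using hζ]
    simpa using (aeval_algebraMap_apply_eq_algebraMap_eval (A := ℂ) (1 : ℤ) Q)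
  obtain ⟨b, rfl⟩ : ∃ b, a = b + 1 := ⟨a - 1, by omega⟩
  set s := (Finset.range (p ^ (b + 1))).filter fun k => ¬ p ∣ k with hs
  have hinner : ∀ j : ℕ, ∃ m : ℤ, ∑ k ∈ s, (ζ ^ k) ^ j = (m : ℂ) := by
    intro j
    obtain ⟨m₁, hm₁⟩ := sum_pow_root_int (η := ζ ^ j) (n := p ^ (b + 1))
      (by rw [← pow_mul, mul_comm, pow_mul, hζ, one_pow])
    obtain ⟨m₂, hm₂⟩ := sum_pow_root_int (η := (ζ ^ j) ^ p) (n := p ^ b)
      (by rw [← pow_mul, ← pow_mul, show j * (p * p ^ b) = p ^ (b + 1) * j by ring, pow_mul, hζ,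
        one_pow])
    refine ⟨m₁ - m₂, ?_⟩
    have h1 := Finset.sum_filter_add_sum_filter_not (Finset.range (p ^ (b + 1)))
      (fun k => p ∣ k) (fun k => (ζ ^ k) ^ j)
    have h2 : ∑ k ∈ (Finset.range (p ^ (b + 1))).filter (fun k => p ∣ k), (ζ ^ k) ^ j =
        ∑ k ∈ Finset.range (p ^ b), ((ζ ^ j) ^ p) ^ k := by
      symm
      refine Finset.sum_nbij (fun k => p * k) ?_ ?_ ?_ ?_
      · intro k hk
        simp only [Finset.mem_filter, Finset.mem_range] at hk ⊢
        exact ⟨by rw [pow_succ']; exact (Nat.mul_lt_mul_left hp.pos).2 hk, dvd_mul_right _ _⟩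
      · intro x _ y _ h
        exact Nat.eq_of_mul_eq_mul_left hp.pos h
      · intro k hk
        simp only [Finset.coe_filter, Finset.mem_range, Set.mem_ofPred_eq] at hk
        obtain ⟨c, rfl⟩ := hk.2
        refine ⟨c, ?_, rfl⟩
        simp only [Finset.coe_range, Set.mem_Iio]
        rw [pow_succ'] at hk
        exact (Nat.mul_lt_mul_left hp.pos).1 hk.1
      · intro k _
        rw [← pow_mul, ← pow_mul, ← pow_mul]
        ring_nf
    have h3 : ∑ k ∈ Finset.range (p ^ (b + 1)), (ζ ^ k) ^ j =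
        ∑ k ∈ Finset.range (p ^ (b + 1)), (ζ ^ j) ^ k :=
      Finset.sum_congr rfl fun k _ => by rw [← pow_mul, ← pow_mul, mul_comm]
    rw [h2, h3, hm₁, hm₂] at h1
    rw [hs]
    push_cast
    linear_combination h1
  choose m hm using hinner
  have hN : (s.card : ℂ) * f 1 = ((∑ j ∈ Q.support, Q.coeff j * m j : ℤ) : ℂ) := by
    calc (s.card : ℂ) * f 1 = ∑ k ∈ s, f k := by
          rw [Finset.sum_congr rfl fun k hk => hconst k (Finset.mem_filter.1 hk).2,
            Finset.sum_const, nsmul_eq_mul]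
      _ = ∑ k ∈ s, ∑ j ∈ Q.support, (Q.coeff j : ℂ) * (ζ ^ k) ^ j :=
          Finset.sum_congr rfl fun k hk => by
            rw [hQ k (Finset.mem_filter.1 hk).2, aeval_eq_sum_range' (lt_add_one Q.natDegree)]
            symm
            refine (Finset.sum_subset (fun j hj => Finset.mem_range.2
              (Nat.lt_succ_of_le (le_natDegree_of_mem_supp j hj))) fun j _ hj => ?_).trans ?_
            · simp [notMem_support_iff.1 hj]
            · simp [zsmul_eq_mul]
      _ = _ := by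
          rw [Finset.sum_comm]
          push_cast
          exact Finset.sum_congr rfl fun j _ => by rw [← Finset.mul_sum, hm]
  have hs0 : (s.card : ℂ) ≠ 0 := by
    refine Nat.cast_ne_zero.2 (Finset.card_pos.2 ⟨1, ?_⟩).ne'
    simp only [hs, Finset.mem_filter, Finset.mem_range]
    exact ⟨Nat.one_lt_pow (by omega) hp.one_lt, hp.not_dvd_one⟩
  have hint : IsIntegral ℤ (f 1) := by
    rw [hQ 1 hp.not_dvd_one, pow_one]
    have hz : ζ ∈ integralClosure ℤ ℂ :=
      IsIntegral.of_pow (pow_pos hp.pos _) (by rw [hζ]; exact isIntegral_one)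
    have h2 := Algebra.adjoin_le (S := integralClosure ℤ ℂ) (Set.singleton_subset_iff.2 hz)
    exact h2 (Polynomial.aeval_mem_adjoin_singleton ℤ ζ)
  set q : ℚ := ((∑ j ∈ Q.support, Q.coeff j * m j : ℤ) : ℚ) / (s.card : ℚ) with hq
  have hfq : f 1 = ((q : ℚ) : ℂ) := by
    rw [hq]
    push_cast at hN ⊢
    rw [eq_div_iff hs0, mul_comm]
    exact hN
  obtain ⟨n, hn⟩ := CfsgLib.Char.int_of_isIntegral_rat q (hfq ▸ hint)
  exact ⟨n, by rw [hfq, ← hn]; push_cast; rfl⟩

end CfsgLib.Block
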