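import Cfsg.Agent.Lib.BlockRank
import Cfsg.Agent.Lib.BlockOrbit
import Cfsg.Agent.Lib.CharClifford

/-!
# The Glauberman correspondence for a group of operators of prime power order
-/

set_option autoImplicit false
set_option linter.style.haveILetI false
set_option linter.unusedSectionVars false
set_option linter.unusedFintypeInType false

namespace CfsgLib.Glauberman

open Cfsg CfsgLib.Char CfsgLib.Block
open scoped ComplexConjugate Classical

universe u v

variable {G : Type u} [Group G] [Fintype G] {S : Type v} [Group S] [Finite S]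

/-- Invariance under a group of automorphisms. -/
def Inv (φ : S →* MulAut G) (f : G → ℂ) : Prop := ∀ s g, f (φ s g) = f g

/-- The fixed subgroup. -/
def fix (φ : S →* MulAut G) : Subgroup G where
  carrier := {g | ∀ s, φ s g = g}
  one_mem' := fun s => map_one (φ s)
  mul_mem' := fun ha hb s => by rw [map_mul, ha s, hb s]
  inv_mem' := fun ha s => by rw [map_inv, ha s]

omit [Fintype G] [Finite S] in
theorem mem_fix {φ : S →* MulAut G} {g : G} : g ∈ fix φ ↔ ∀ s, φ s g = g := Iff.rfl

/-- The residue of a local integer. -/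
noncomputable def rd {p : ℕ} {M : Ideal AlgInt} (hM : IsPModular p M) (z : ℂ) : ResField M :=
  if h : z ∈ locRing hM then res hM ⟨z, h⟩ else 0

section Rd

variable {p : ℕ} {M : Ideal AlgInt} (hM : IsPModular p M)

theorem rd_of_mem {z : ℂ} (h : z ∈ locRing hM) : rd hM z = res hM ⟨z, h⟩ := dif_pos h

theorem rd_natCast (n : ℕ) : rd hM (n : ℂ) = n := by
  rw [rd_of_mem hM (natCast_mem _ n), ← map_natCast (res hM) n]
  exact congrArg (res hM) (Subtype.ext (SubringClass.coe_natCast _ n).symm)

theorem rd_zero : rd hM 0 = 0 := by simpa using rd_natCast hM 0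

theorem rd_one : rd hM 1 = 1 := by simpa using rd_natCast hM 1

theorem rd_mul {z w : ℂ} (hz : z ∈ locRing hM) (hw : w ∈ locRing hM) :
    rd hM (z * w) = rd hM z * rd hM w := by
  rw [rd_of_mem hM hz, rd_of_mem hM hw, rd_of_mem hM (mul_mem hz hw), ← map_mul]
  rfl

theorem rd_add {z w : ℂ} (hz : z ∈ locRing hM) (hw : w ∈ locRing hM) :
    rd hM (z + w) = rd hM z + rd hM w := by
  rw [rd_of_mem hM hz, rd_of_mem hM hw, rd_of_mem hM (add_mem hz hw), ← map_add]
  rfl

theorem rd_sum {ι : Type*} (s : Finset ι) (f : ι → ℂ) (hf : ∀ i ∈ s, f i ∈ locRing hM) :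
    rd hM (∑ i ∈ s, f i) = ∑ i ∈ s, rd hM (f i) := by
  induction s using Finset.induction_on with
  | empty => simp [rd_zero]
  | insert a s ha ih =>
    rw [Finset.sum_insert ha, Finset.sum_insert ha,
      rd_add hM (hf a (Finset.mem_insert_self a s))
        (sum_mem fun i hi => hf i (Finset.mem_insert_of_mem hi)),
      ih fun i hi => hf i (Finset.mem_insert_of_mem hi)]

theorem rd_natCast_ne_zero {n : ℕ} (h : ¬ p ∣ n) : rd hM (n : ℂ) ≠ 0 := by
  haveI := charP_resField hM
  rw [rd_natCast, Ne, CharP.cast_eq_zero_iff (ResField M) p]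
  exact h

theorem rd_natCast_inv {n : ℕ} (h : ¬ p ∣ n) :
    rd hM (n : ℂ) * rd hM ((n : ℂ))⁻¹ = 1 := by
  have hn : (n : ℂ) ≠ 0 := Nat.cast_ne_zero.2 fun e => h (e ▸ dvd_zero p)
  rw [← rd_mul hM (natCast_mem _ n) (natCast_inv_mem hM h), mul_inv_cancel₀ hn, rd_one]

end Rd

variable {p : ℕ} [Fact p.Prime] {φ : S →* MulAut G}

/-- A sum of invariant residues is the sum over the fixed points. -/
theorem sum_fixed (hS : IsPGroup p S) {M : Ideal AlgInt} (hM : IsPModular p M)
    (F : G → ResField M) (hF : ∀ s g, F (φ s g) = F g) :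
    ∑ g, F g = ∑ c : fix φ, F c := by
  haveI := charP_resField hM
  letI : MulAction S G := MulAction.compHom G φ
  rw [sum_eq_sum_fixed (A := ResField M) hS F hF]
  exact Finset.sum_subtype (p := fun g => g ∈ fix φ) _ (fun g => by
    simp only [Finset.mem_filter, Finset.mem_univ, true_and, mem_fix]
    rfl) F

omit [Fintype G] in
theorem card_modEq [Finite G] (hS : IsPGroup p S) : Nat.card G ≡ Nat.card (fix φ) [MOD p] := by
  letI : MulAction S G := MulAction.compHom G φ
  refine (hS.card_modEq_card_fixedPoints G).trans (congrArg (· % p) ?_)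
  exact Nat.card_congr (Equiv.subtypeEquivRight fun g => Iff.rfl)

section Coprime

variable (hS : IsPGroup p S) (hG : ¬ p ∣ Nat.card G)

include hG in
theorem not_dvd_card_subgroup (H : Subgroup G) : ¬ p ∣ Nat.card H :=
  fun h => hG (h.trans H.card_subgroup_dvd_card)

include hG in
theorem not_dvd_irr {H : Subgroup G} (β : IrrCharacter H) :
    ¬ p ∣ charDegree (β : H → ℂ) :=
  fun h => not_dvd_card_subgroup hG H (h.trans (charDegree_dvd_card β))

include hS hG in
/-- Fixed elements conjugate in the group are conjugate in the fixed subgroup. -/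
theorem isConj_fix {c d : fix φ} (h : IsConj (c : G) (d : G)) : IsConj c d := by
  obtain ⟨g, hg⟩ := isConj_iff.1 h
  letI : MulAction S {x : G // x * (c : G) * x⁻¹ = d} :=
    { smul := fun s x => ⟨φ s x.1, by
        have e := congrArg (φ s) x.2
        rw [map_mul, map_mul, map_inv, mem_fix.1 c.2 s, mem_fix.1 d.2 s] at e
        exact e⟩
      one_smul := fun x => Subtype.ext (by show φ 1 x.1 = x.1; rw [map_one]; rfl)
      mul_smul := fun s t x => Subtype.ext (by
        show φ (s * t) x.1 = φ s (φ t x.1); rw [map_mul]; rfl) }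
  have hcard : Nat.card {x : G // x * (c : G) * x⁻¹ = d} =
      Nat.card (Subgroup.centralizer ({(c : G)} : Set G)) := by
    refine Nat.card_congr ⟨fun x => ⟨g⁻¹ * x.1, ?_⟩, fun z => ⟨g * z.1, ?_⟩,
      fun x => Subtype.ext (mul_inv_cancel_left _ _), fun z => Subtype.ext (inv_mul_cancel_left _ _)⟩
    · rw [Subgroup.mem_centralizer_singleton_iff]
      calc g⁻¹ * x.1 * c = g⁻¹ * (x.1 * c * x.1⁻¹) * x.1 := by group
        _ = g⁻¹ * (g * c * g⁻¹) * x.1 := by rw [x.2, hg]
        _ = c * (g⁻¹ * x.1) := by group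
    · rw [← hg, mul_assoc g, Subgroup.mem_centralizer_singleton_iff.1 z.2]
      group
  obtain ⟨x, hx⟩ := hS.nonempty_fixed_point_of_prime_not_dvd_card
    {x : G // x * (c : G) * x⁻¹ = d} (by rw [hcard]; exact not_dvd_card_subgroup hG _)
  refine isConj_iff.2 ⟨⟨x.1, fun s => congrArg Subtype.val (hx s)⟩, Subtype.ext ?_⟩
  exact x.2

variable {M : Ideal AlgInt} (hM : IsPModular p M)

include hG in
theorem om_mem {f : G → ℂ} (hf : ∀ g, f g ∈ locRing hM) (β : IrrCharacter (fix φ)) :
    om (β : fix φ → ℂ) (fun c : fix φ => f c) ∈ locRing hM := by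
  rw [om, div_eq_mul_inv, ← charDegree_cast β.2.isCharacter']
  exact mul_mem (sum_mem fun c _ => mul_mem (hf _) (irr_mem hM β c))
    (natCast_inv_mem hM (not_dvd_irr hG β))

include hG in
theorem rd_om {f : G → ℂ} (hf : ∀ g, f g ∈ locRing hM) (β : IrrCharacter (fix φ)) :
    rd hM (om (β : fix φ → ℂ) (fun c : fix φ => f c)) =
      (∑ c : fix φ, rd hM (f c) * rd hM ((β : fix φ → ℂ) c)) *
        rd hM ((charDegree (β : fix φ → ℂ) : ℂ))⁻¹ := by
  rw [om, div_eq_mul_inv, ← charDegree_cast β.2.isCharacter',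
    rd_mul hM (sum_mem fun c _ => mul_mem (hf _) (irr_mem hM β c))
      (natCast_inv_mem hM (not_dvd_irr hG β)),
    rd_sum hM _ _ (fun c _ => mul_mem (hf _) (irr_mem hM β c))]
  congr 1
  exact Finset.sum_congr rfl fun c _ => rd_mul hM (hf _) (irr_mem hM β c)

theorem conv_mem {f h : G → ℂ} (hf : ∀ g, f g ∈ locRing hM) (hh : ∀ g, h g ∈ locRing hM) (g : G) :
    conv f h g ∈ locRing hM :=
  sum_mem fun x _ => mul_mem (hf x) (hh _)

include hS in
/-- The Brauer map is multiplicative. -/
theorem rd_conv {f h : G → ℂ} (hf : ∀ g, f g ∈ locRing hM) (hh : ∀ g, h g ∈ locRing hM)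
    (hfi : Inv φ f) (hhi : Inv φ h) (c : fix φ) :
    rd hM (conv f h c) = rd hM (conv (fun x : fix φ => f x) (fun x : fix φ => h x) c) := by
  simp only [conv]
  rw [rd_sum hM _ _ (fun x _ => mul_mem (hf x) (hh _)),
    rd_sum hM _ _ (fun x _ => mul_mem (hf _) (hh _)),
    sum_fixed hS hM (fun x => rd hM (f x * h (x⁻¹ * c))) fun s x => by
      rw [hfi s x, show (φ s x)⁻¹ * (c : G) = φ s (x⁻¹ * c) by
        rw [map_mul, map_inv, mem_fix.1 c.2 s], hhi]]
  exact Finset.sum_congr rfl fun x _ => by rw [Subgroup.coe_mul, Subgroup.coe_inv]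

/-- The idempotent of a character, as a function. -/
noncomputable def eFun (χ : IrrCharacter G) : G → ℂ := coef (Pi.single χ 1)

theorem eFun_apply (χ : IrrCharacter G) (g : G) :
    eFun χ g = (Nat.card G : ℂ)⁻¹ * ((χ : G → ℂ) 1 * conj ((χ : G → ℂ) g)) := by
  simp only [eFun, coef]
  rw [Finset.sum_eq_single χ]
  · simp
  · intro b _ hb
    simp [Pi.single_eq_of_ne hb]
  · simp

include hG in
theorem eFun_mem (χ : IrrCharacter G) (g : G) : eFun χ g ∈ locRing hM := by
  rw [eFun_apply, ← isCharacter_inv_eq_conj χ.2.isCharacter']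
  exact mul_mem (natCast_inv_mem hM hG) (mul_mem (irr_mem hM χ 1) (irr_mem hM χ _))

theorem eFun_inv {χ : IrrCharacter G} (h : Inv φ (χ : G → ℂ)) : Inv φ (eFun χ) :=
  fun s g => by rw [eFun_apply, eFun_apply, h s g]

/-- The residue of the value of a fixed character on the image of a character idempotent. -/
noncomputable def pairing (χ : IrrCharacter G) (β : IrrCharacter (fix φ)) : ResField M :=
  rd hM (om (β : fix φ → ℂ) (fun c : fix φ => eFun χ c))

/-- The twist of a character by an operator. -/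
noncomputable def twist (φ : S →* MulAut G) (s : S) (χ : IrrCharacter G) : IrrCharacter G :=
  ⟨(χ : G → ℂ) ∘ φ s, isIrrCharacter_comp_equiv χ.2 (φ s)⟩

theorem pairing_twist (s : S) (χ : IrrCharacter G) (β : IrrCharacter (fix φ)) :
    pairing hM (twist φ s χ) β = pairing hM χ β := by
  have e : (fun c : fix φ => eFun (twist φ s χ) c) = fun c : fix φ => eFun χ c := by
    funext c
    simp only [eFun_apply, twist, Function.comp, map_one, mem_fix.1 c.2 s]
  rw [pairing, pairing, e]

include hS in
/-- A weighted sum of pairings only sees the invariant characters. -/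
theorem sum_pairing_fixed (w : IrrCharacter G → ResField M) (hw : ∀ s χ, w (twist φ s χ) = w χ)
    (β : IrrCharacter (fix φ)) :
    ∑ χ, w χ * pairing hM χ β =
      ∑ χ ∈ Finset.univ.filter (fun χ : IrrCharacter G => Inv φ (χ : G → ℂ)),
        w χ * pairing hM χ β := by
  haveI := charP_resField hM
  letI : MulAction S (IrrCharacter G) :=
    { smul := fun s χ => twist φ s⁻¹ χ
      one_smul := fun χ => Subtype.ext (funext fun g => by
        show (χ : G → ℂ) (φ 1⁻¹ g) = _; rw [inv_one, map_one]; rfl)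
      mul_smul := fun s t χ => Subtype.ext (funext fun g => by
        show (χ : G → ℂ) (φ (s * t)⁻¹ g) = (χ : G → ℂ) (φ t⁻¹ (φ s⁻¹ g))
        rw [mul_inv_rev, map_mul]; rfl) }
  rw [sum_eq_sum_fixed (A := ResField M) hS (fun χ => w χ * pairing hM χ β) fun s χ => by
    show w (twist φ s⁻¹ χ) * pairing hM (twist φ s⁻¹ χ) β = _
    rw [hw, pairing_twist]]
  refine Finset.sum_congr (Finset.ext fun χ => ?_) fun _ _ => rfl
  simp only [Finset.mem_filter, Finset.mem_univ, true_and]
  constructor
  · intro h s g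
    have e := congrFun (congrArg Subtype.val (h s⁻¹)) g
    show (χ : G → ℂ) (φ s g) = _
    rw [← e]
    show (χ : G → ℂ) (φ s g) = (χ : G → ℂ) (φ s⁻¹⁻¹ g)
    rw [inv_inv]
  · exact fun h s => Subtype.ext (funext fun g => h s⁻¹ g)

include hS hG in
/-- The pairings are multiplicative on invariant characters. -/
theorem pairing_mul {χ ψ : IrrCharacter G} (hχ : Inv φ (χ : G → ℂ)) (hψ : Inv φ (ψ : G → ℂ))
    (β : IrrCharacter (fix φ)) :
    pairing hM χ β * pairing hM ψ β = if χ = ψ then pairing hM χ β else 0 := by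
  have hcl : ∀ χ : IrrCharacter G, IsClassFunction G (eFun χ) := fun χ => coef_classFunction _
  have h1 : conv (eFun χ) (eFun ψ) = if χ = ψ then eFun χ else 0 := by
    simp only [eFun]
    rw [← coef_mul]
    split_ifs with h
    · subst h
      congr 1
      funext z
      by_cases hz : z = χ
      · subst hz; simp
      · simp [Pi.single_eq_of_ne hz]
    · rw [← coef_zero]
      congr 1
      funext z
      by_cases hz : z = χ
      · subst hz; simp [Pi.single_eq_of_ne h]
      · simp [Pi.single_eq_of_ne hz]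
  have h2 : rd hM (om (β : fix φ → ℂ) (fun c : fix φ => conv (eFun χ) (eFun ψ) c)) =
      pairing hM χ β * pairing hM ψ β := by
    rw [pairing, pairing, ← rd_mul hM (om_mem hG hM (eFun_mem hG hM χ) β)
      (om_mem hG hM (eFun_mem hG hM ψ) β),
      ← om_conv (isClassFunction_restrict (hcl χ) (fix φ))]
    have hm : ∀ c : fix φ, conv (fun x : fix φ => eFun χ x) (fun x : fix φ => eFun ψ x) c ∈
        locRing hM := fun c =>
      conv_mem hM (fun x => eFun_mem hG hM χ _) (fun x => eFun_mem hG hM ψ _) c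
    rw [rd_om hG hM (conv_mem hM (eFun_mem hG hM χ) (eFun_mem hG hM ψ)) β, om, div_eq_mul_inv,
      ← charDegree_cast β.2.isCharacter',
      rd_mul hM (sum_mem fun c _ => mul_mem (hm c) (irr_mem hM β c))
        (natCast_inv_mem hM (not_dvd_irr hG β)),
      rd_sum hM _ _ (fun c _ => mul_mem (hm c) (irr_mem hM β c))]
    congr 1
    refine Finset.sum_congr rfl fun c _ => ?_
    rw [rd_mul hM (hm c) (irr_mem hM β c),
      rd_conv hS hM (eFun_mem hG hM χ) (eFun_mem hG hM ψ) (eFun_inv hχ) (eFun_inv hψ)]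
  rw [← h2, h1]
  split_ifs with h
  · rfl
  · simp [om, rd_zero]

include hS hG in
theorem sum_pairing (β : IrrCharacter (fix φ)) :
    ∑ χ ∈ Finset.univ.filter (fun χ : IrrCharacter G => Inv φ (χ : G → ℂ)),
      pairing hM χ β = 1 := by
  have h := sum_pairing_fixed hS hM (fun _ => (1 : ResField M)) (fun _ _ => rfl) β
  simp only [one_mul] at h
  rw [← h]
  simp only [pairing]
  rw [← rd_sum hM _ _ (fun χ _ => om_mem hG hM (eFun_mem hG hM χ) β)]
  have e : ∀ g : G, ∑ χ : IrrCharacter G, eFun χ g = if g = 1 then 1 else 0 := by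
    intro g
    rw [← coef_const]
    simp only [eFun_apply, coef, one_mul, Finset.mul_sum]
  have e2 : ∑ χ : IrrCharacter G, om (β : fix φ → ℂ) (fun c : fix φ => eFun χ c) = 1 := by
    simp only [om, ← Finset.sum_div]
    rw [Finset.sum_comm]
    simp only [← Finset.sum_mul, e, OneMemClass.coe_eq_one, ite_mul, one_mul, zero_mul,
      Finset.sum_ite_eq', Finset.mem_univ, if_true]
    exact div_self (irr_one_ne_zero β)
  rw [e2, rd_one]

include hS hG in
theorem existsUnique_pairing (β : IrrCharacter (fix φ)) :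
    ∃ χ : IrrCharacter G, Inv φ (χ : G → ℂ) ∧ pairing hM χ β = 1 ∧
      ∀ ψ : IrrCharacter G, Inv φ (ψ : G → ℂ) → pairing hM ψ β ≠ 0 → ψ = χ := by
  letI : Field (ResField M) := @Ideal.Quotient.field _ _ M hM.2.1
  obtain ⟨χ, hχ, h0⟩ := Finset.exists_ne_zero_of_sum_ne_zero
    (ne_of_eq_of_ne (sum_pairing hS hG hM β) one_ne_zero)
  have hχ' := (Finset.mem_filter.1 hχ).2
  have h1 := pairing_mul hS hG hM hχ' hχ' β
  rw [if_pos rfl, mul_eq_left₀ h0] at h1
  refine ⟨χ, hχ', h1, fun ψ hψ hψ0 => ?_⟩
  by_contra hne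
  have h2 := pairing_mul hS hG hM hψ hχ' β
  rw [if_neg hne, h1, mul_one] at h2
  exact hψ0 h2

/-- The correspondent of a fixed character. -/
noncomputable def corr (β : IrrCharacter (fix φ)) : IrrCharacter G :=
  (existsUnique_pairing hS hG hM β).choose

theorem corr_inv (β : IrrCharacter (fix φ)) : Inv φ (corr hS hG hM β : G → ℂ) :=
  (existsUnique_pairing hS hG hM β).choose_spec.1

theorem pairing_corr (β : IrrCharacter (fix φ)) : pairing hM (corr hS hG hM β) β = 1 :=
  (existsUnique_pairing hS hG hM β).choose_spec.2.1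

theorem eq_corr {β : IrrCharacter (fix φ)} {ψ : IrrCharacter G} (hψ : Inv φ (ψ : G → ℂ))
    (h : pairing hM ψ β ≠ 0) : ψ = corr hS hG hM β :=
  (existsUnique_pairing hS hG hM β).choose_spec.2.2 ψ hψ h

/-- Central functions are read off at the correspondent. -/
theorem rd_om_restrict {f : G → ℂ} (hfc : IsClassFunction G f) (hfi : Inv φ f)
    (hf : ∀ g, f g ∈ locRing hM) (β : IrrCharacter (fix φ)) :
    rd hM (om (β : fix φ → ℂ) (fun c : fix φ => f c)) =
      rd hM (om (corr hS hG hM β : G → ℂ) f) := by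
  have hw : ∀ ψ : IrrCharacter G, om (ψ : G → ℂ) f ∈ locRing hM := by
    intro ψ
    rw [om, div_eq_mul_inv, ← charDegree_cast ψ.2.isCharacter']
    exact mul_mem (sum_mem fun g _ => mul_mem (hf g) (irr_mem hM ψ g))
      (natCast_inv_mem hM fun h => hG (h.trans (charDegree_dvd_card ψ)))
  have e : ∀ g : G, f g = ∑ ψ : IrrCharacter G, om (ψ : G → ℂ) f * eFun ψ g := by
    intro g
    conv_lhs => rw [← coef_om hfc]
    simp only [eFun_apply, coef, Finset.mul_sum]
    exact Finset.sum_congr rfl fun ψ _ => by ring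
  have h1 : om (β : fix φ → ℂ) (fun c : fix φ => f c) =
      ∑ ψ : IrrCharacter G, om (ψ : G → ℂ) f * om (β : fix φ → ℂ) (fun c : fix φ => eFun ψ c) := by
    unfold om
    simp only [mul_div_assoc', ← Finset.sum_div]
    congr 1
    simp only [Finset.mul_sum]
    rw [Finset.sum_comm]
    refine Finset.sum_congr rfl fun c _ => ?_
    rw [e c, Finset.sum_mul]
    exact Finset.sum_congr rfl fun ψ _ => by unfold om; ring
  rw [h1, rd_sum hM _ _ (fun ψ _ => mul_mem (hw ψ) (om_mem hG hM (eFun_mem hG hM ψ) β)),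
    Finset.sum_congr rfl (fun ψ _ => rd_mul hM (hw ψ) (om_mem hG hM (eFun_mem hG hM ψ) β))]
  have h2 := sum_pairing_fixed hS hM (fun ψ => rd hM (om (ψ : G → ℂ) f)) (fun s ψ => ?_) β
  · rw [show (∑ ψ : IrrCharacter G, rd hM (om (ψ : G → ℂ) f) *
        rd hM (om (β : fix φ → ℂ) (fun c : fix φ => eFun ψ c))) = _ from h2,
      Finset.sum_eq_single (corr hS hG hM β)]
    · rw [pairing_corr hS hG hM, mul_one]
    · intro ψ hψ hne
      by_contra h0
      exact hne (eq_corr hS hG hM (Finset.mem_filter.1 hψ).2 fun h => h0 (by rw [h, mul_zero]))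
    · intro h
      exact (h (Finset.mem_filter.2 ⟨Finset.mem_univ (corr hS hG hM β), corr_inv hS hG hM β⟩)).elim
  · congr 1
    simp only [om, twist, Function.comp, map_one]
    congr 1
    exact Fintype.sum_equiv (φ s).toEquiv _ _ fun g => by
      rw [MulEquiv.toEquiv_eq_coe, MulEquiv.coe_toEquiv, hfi]

/-- The correspondence is injective. -/
theorem corr_injective : Function.Injective (corr hS hG hM (φ := φ)) := by
  intro β β' hββ
  have hcd : ∀ c : fix φ, rd hM (om (β : fix φ → ℂ) (classInd c)) =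
      rd hM (om (β' : fix φ → ℂ) (classInd c)) := by
    intro c
    have e : (fun x : fix φ => classInd (c : G) x) = classInd c := by
      funext x
      simp only [classInd]
      refine if_congr ⟨fun h => isConj_fix hS hG h, fun h => ?_⟩ rfl rfl
      exact (fix φ).subtype.map_isConj h
    have hinv : Inv φ (classInd (c : G)) := fun s g => by
      simp only [classInd]
      refine if_congr ⟨fun h => ?_, fun h => ?_⟩ rfl rfl
      · have := (φ s⁻¹).toMonoidHom.map_isConj h
        simp only [MulEquiv.coe_toMonoidHom, mem_fix.1 c.2 s⁻¹] at this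
        rwa [← MulAut.mul_apply, ← map_mul, inv_mul_cancel, map_one] at this
      · have := (φ s).toMonoidHom.map_isConj h
        simp only [MulEquiv.coe_toMonoidHom, mem_fix.1 c.2 s] at this
        exact this
    have hmem : ∀ g, classInd (c : G) g ∈ locRing hM := fun g => by
      simp only [classInd]; split_ifs <;> first | exact one_mem _ | exact zero_mem _
    rw [← e, rd_om_restrict hS hG hM (classInd_classFunction _) hinv hmem β,
      rd_om_restrict hS hG hM (classInd_classFunction _) hinv hmem β', hββ]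
  have hsame : SameBlock M (β : fix φ → ℂ) (β' : fix φ → ℂ) := by
    refine (sameBlock_iff hM β β').2 fun c => ?_
    rw [ev_cl, ev_cl]
    have h := hcd c
    rw [← centralChar_eq_om, ← centralChar_eq_om, rd_of_mem hM (centralChar_mem hM β c),
      rd_of_mem hM (centralChar_mem hM β' c)] at h
    exact h
  have hB := isPBlock_blockOf (M := M) β
  have hd : blockDefect p (blockOf M (β : fix φ → ℂ)) = 0 := by
    have h := Nat.factorization_eq_zero_of_not_dvd (not_dvd_card_subgroup hG (fix φ))
    rw [blockDefect, h, Nat.zero_sub]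
  haveI : Subsingleton (blockOf M (β : fix φ → ℂ)) :=
    (Nat.card_eq_one_iff_unique.1 (((defect_zero_iff hM hB).1.1 hd).1)).1
  exact congrArg Subtype.val (Subsingleton.elim
    (⟨β, mem_blockOf_self hM β⟩ : blockOf M (β : fix φ → ℂ)) ⟨β', hsame⟩)

/-- Every invariant character is a correspondent. -/
theorem corr_surjective {χ : IrrCharacter G} (hχ : Inv φ (χ : G → ℂ)) :
    ∃ β : IrrCharacter (fix φ), corr hS hG hM β = χ := by
  by_contra hne
  push Not at hne
  have h0 : ∀ β : IrrCharacter (fix φ), pairing hM χ β = 0 := fun β => by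
    by_contra h
    exact hne β (eq_corr hS hG hM hχ h).symm
  have h := congrFun (coef_om (f := fun c : fix φ => eFun χ c)
    (isClassFunction_restrict (coef_classFunction _) (fix φ))) 1
  simp only [OneMemClass.coe_one] at h
  letI : Field (ResField M) := @Ideal.Quotient.field _ _ M hM.2.1
  have h1 : rd hM (eFun χ 1) ≠ 0 := by
    rw [eFun_apply, irr_conj_one, ← charDegree_cast χ.2.isCharacter', ← Nat.cast_mul,
      rd_mul hM (natCast_inv_mem hM hG) (natCast_mem _ _)]
    have hd : ¬ p ∣ charDegree (χ : G → ℂ) := fun h => hG (h.trans (charDegree_dvd_card χ))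
    exact mul_ne_zero (right_ne_zero_of_mul (by rw [rd_natCast_inv hM hG]; exact one_ne_zero))
      (rd_natCast_ne_zero hM fun h => (Nat.Prime.dvd_mul Fact.out).1 h |>.elim hd hd)
  refine h1 ?_
  rw [← h, coef]
  have hC := not_dvd_card_subgroup hG (fix φ)
  have hm : ∀ β : IrrCharacter (fix φ), om (β : fix φ → ℂ) (fun c : fix φ => eFun χ c) *
      (β : fix φ → ℂ) 1 * conj ((β : fix φ → ℂ) 1) ∈ locRing hM := fun β => by
    rw [irr_conj_one]
    exact mul_mem (mul_mem (om_mem hG hM (eFun_mem hG hM χ) β) (irr_mem hM β 1)) (irr_mem hM β 1)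
  rw [rd_mul hM (natCast_inv_mem hM hC) (sum_mem fun β _ => hm β), rd_sum hM _ _ fun β _ => hm β,
    Finset.sum_eq_zero fun β _ => ?_, mul_zero]
  rw [irr_conj_one, mul_assoc, rd_mul hM (om_mem hG hM (eFun_mem hG hM χ) β)
    (mul_mem (irr_mem hM β 1) (irr_mem hM β 1))]
  exact mul_eq_zero_of_left (h0 β) _

include hS hG hM in
/-- The number of invariant characters is the number of characters of the fixed subgroup. -/
theorem card_invariant :
    Nat.card {χ : IrrCharacter G // Inv φ (χ : G → ℂ)} = Nat.card (IrrCharacter (fix φ)) :=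
  (Nat.card_eq_of_bijective
    (fun β => (⟨corr hS hG hM β, corr_inv hS hG hM β⟩ : {χ : IrrCharacter G // Inv φ (χ : G → ℂ)}))
    ⟨fun _ _ h => corr_injective hS hG hM (congrArg Subtype.val h), fun χ => by
      obtain ⟨β, hβ⟩ := corr_surjective hS hG hM χ.2
      exact ⟨β, Subtype.ext hβ⟩⟩).symm

end Coprime

section Mult

variable (hS : IsPGroup p S) (hG : ¬ p ∣ Nat.card G) {M : Ideal AlgInt} (hM : IsPModular p M)

/-- The multiplicity of a fixed character in the restriction. -/
noncomputable def mult (χ : IrrCharacter G) (β : IrrCharacter (fix φ)) : ℕ :=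
  (inner_character_nat (CfsgLib.Char.isCharacter_restrict χ.2.isCharacter' (fix φ))
    β.2.isCharacter').choose

theorem mult_spec (χ : IrrCharacter G) (β : IrrCharacter (fix φ)) :
    classInner (fun c : fix φ => (χ : G → ℂ) c) (β : fix φ → ℂ) = (mult χ β : ℂ) :=
  (inner_character_nat (CfsgLib.Char.isCharacter_restrict χ.2.isCharacter' (fix φ))
    β.2.isCharacter').choose_spec

include hG in
theorem pairing_eq (χ : IrrCharacter G) (β : IrrCharacter (fix φ)) :
    pairing hM χ β =
      ((charDegree (χ : G → ℂ) * Nat.card (fix φ) * mult χ β : ℕ) : ResField M) *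
        (rd hM ((Nat.card G : ℂ))⁻¹ * rd hM ((charDegree (β : fix φ → ℂ) : ℂ))⁻¹) := by
  have e : om (β : fix φ → ℂ) (fun c : fix φ => eFun χ c) =
      ((charDegree (χ : G → ℂ) * Nat.card (fix φ) * mult χ β : ℕ) : ℂ) *
        (((Nat.card G : ℂ))⁻¹ * ((charDegree (β : fix φ → ℂ) : ℂ))⁻¹) := by
    have h := congrArg conj (mult_spec χ β)
    rw [Complex.conj_natCast, classInner, map_mul, map_inv₀, Complex.conj_natCast, map_sum] at h
    simp only [map_mul, Complex.conj_conj] at h
    rw [Nat.cast_mul, Nat.cast_mul, charDegree_cast χ.2.isCharacter', ← h,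
      charDegree_cast β.2.isCharacter', om, mul_assoc ((χ : G → ℂ) 1),
      mul_inv_cancel_left₀ (natCard_ne_zero (fix φ)), div_eq_mul_inv,
      Finset.sum_mul (a := ((β : fix φ → ℂ) 1)⁻¹), Finset.mul_sum, Finset.sum_mul]
    exact Finset.sum_congr rfl fun c _ => by rw [eFun_apply]; ring
  have hm1 := natCast_inv_mem hM hG
  have hm2 := natCast_inv_mem hM (not_dvd_irr hG β)
  rw [pairing, e, rd_mul hM (natCast_mem _ _) (mul_mem hm1 hm2), rd_mul hM hm1 hm2, rd_natCast]

include hG in
theorem pairing_ne_zero_iff (χ : IrrCharacter G) (β : IrrCharacter (fix φ)) :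
    pairing hM χ β ≠ 0 ↔ ¬ p ∣ mult χ β := by
  haveI := charP_resField hM
  letI : Field (ResField M) := @Ideal.Quotient.field _ _ M hM.2.1
  have h1 : rd hM ((Nat.card G : ℂ))⁻¹ ≠ 0 :=
    right_ne_zero_of_mul (by rw [rd_natCast_inv hM hG]; exact one_ne_zero)
  have h2 : rd hM ((charDegree (β : fix φ → ℂ) : ℂ))⁻¹ ≠ 0 :=
    right_ne_zero_of_mul (by rw [rd_natCast_inv hM (not_dvd_irr hG β)]; exact one_ne_zero)
  have hd : ¬ p ∣ charDegree (χ : G → ℂ) := fun h => hG (h.trans (charDegree_dvd_card χ))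
  have hC := not_dvd_card_subgroup hG (fix φ)
  rw [pairing_eq hG hM, mul_ne_zero_iff, Ne, CharP.cast_eq_zero_iff (ResField M) p]
  refine ⟨fun h hd' => h.1 (hd'.trans (dvd_mul_left _ _)), fun h => ⟨fun hd' => ?_, mul_ne_zero h1 h2⟩⟩
  rcases (Nat.Prime.dvd_mul Fact.out).1 hd' with h' | h'
  · exact ((Nat.Prime.dvd_mul Fact.out).1 h').elim hd hC
  · exact h h'

/-- An invariant character has a unique constituent of multiplicity prime to `p`. -/
theorem not_dvd_mult_iff {χ : IrrCharacter G} (hχ : Inv φ (χ : G → ℂ))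
    (β : IrrCharacter (fix φ)) : ¬ p ∣ mult χ β ↔ χ = corr hS hG hM β := by
  rw [← pairing_ne_zero_iff hG hM]
  refine ⟨eq_corr hS hG hM hχ, fun h => ?_⟩
  rw [h, pairing_corr hS hG hM]
  exact fun e => one_ne_zero (α := ℕ) (by
    letI : Field (ResField M) := @Ideal.Quotient.field _ _ M hM.2.1
    exact absurd e one_ne_zero)

include hS hG hM in
/-- The distinguished multiplicity is `±1` modulo `p`. -/
theorem mult_modEq (β : IrrCharacter (fix φ)) :
    (mult (corr hS hG hM β) β : ℤ) ≡ 1 [ZMOD p] ∨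
      (mult (corr hS hG hM β) β : ℤ) ≡ -1 [ZMOD p] := by
  haveI := charP_resField hM
  letI : Field (ResField M) := @Ideal.Quotient.field _ _ M hM.2.1
  set χ := corr hS hG hM β with hχd
  have hχ : Inv φ (χ : G → ℂ) := corr_inv hS hG hM β
  have hdeg : (charDegree (χ : G → ℂ) : ResField M) =
      (mult χ β : ResField M) * (charDegree (β : fix φ → ℂ) : ResField M) := by
    have h := congrFun (classFunction_eq_sum (fun c : fix φ => (χ : G → ℂ) c)
      (isCharacter_classFunction (CfsgLib.Char.isCharacter_restrict χ.2.isCharacter' _))) 1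
    simp only [OneMemClass.coe_one, Finset.sum_apply, Pi.smul_apply, smul_eq_mul, mult_spec] at h
    simp only [← charDegree_cast χ.2.isCharacter'] at h
    rw [Finset.sum_congr rfl fun (β' : IrrCharacter (fix φ)) _ =>
      show (mult χ β' : ℂ) * (β' : fix φ → ℂ) 1 = ((mult χ β' * charDegree (β' : fix φ → ℂ) : ℕ) : ℂ) by
        rw [Nat.cast_mul, charDegree_cast β'.2.isCharacter'], ← Nat.cast_sum, Nat.cast_inj] at h
    rw [h, Nat.cast_sum, Finset.sum_eq_single β]
    · rw [Nat.cast_mul]
    · intro β' _ hne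
      rw [Nat.cast_mul, (CharP.cast_eq_zero_iff (ResField M) p _).2, zero_mul]
      by_contra h'
      exact hne (corr_injective hS hG hM ((not_dvd_mult_iff hS hG hM hχ β').1 h').symm)
    · simp
  have hcard : (Nat.card G : ResField M) = (Nat.card (fix φ) : ResField M) :=
    (CharP.natCast_eq_natCast (ResField M) p).2 (card_modEq hS)
  have h1 := pairing_corr hS hG hM β
  rw [← hχd, pairing_eq hG hM, Nat.cast_mul, Nat.cast_mul, hdeg] at h1
  have h2 := rd_natCast_inv hM hG
  have h3 := rd_natCast_inv hM (not_dvd_irr hG β)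
  rw [rd_natCast, hcard] at h2
  rw [rd_natCast] at h3
  have h4 : (mult χ β : ResField M) * (mult χ β : ResField M) = 1 := by
    linear_combination h1 - (mult χ β : ResField M) ^ 2 * h2 -
      (mult χ β : ResField M) ^ 2 * (Nat.card (fix φ) : ResField M) *
        rd hM ((Nat.card G : ℂ))⁻¹ * h3
  rcases mul_self_eq_one_iff.1 h4 with h | h
  · exact Or.inl ((CharP.intCast_eq_intCast (ResField M) p).1 (by push_cast; exact h))
  · exact Or.inr ((CharP.intCast_eq_intCast (ResField M) p).1 (by push_cast; exact h))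

/-- The correspondence commutes with automorphisms preserving the operators. -/
theorem pairing_comp (σ : MulAut G) (τ : MulAut (fix φ)) (hστ : ∀ c : fix φ, (τ c : G) = σ c)
    (χ χ' : IrrCharacter G) (β β' : IrrCharacter (fix φ))
    (hχ : ∀ g, (χ' : G → ℂ) g = (χ : G → ℂ) (σ g))
    (hβ : ∀ c, (β' : fix φ → ℂ) c = (β : fix φ → ℂ) (τ c)) :
    pairing hM χ' β' = pairing hM χ β := by
  rw [pairing, pairing]
  refine congrArg (rd hM) ?_
  simp only [om, hβ, map_one]
  congr 1
  exact Fintype.sum_equiv τ.toEquiv _ _ fun c => by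
    rw [MulEquiv.toEquiv_eq_coe, MulEquiv.coe_toEquiv]
    congr 1
    rw [eFun_apply, eFun_apply, hχ, hχ, map_one, hστ]

end Mult

section Over

variable (hS : IsPGroup p S) (hG : ¬ p ∣ Nat.card G) {M : Ideal AlgInt} (hM : IsPModular p M)

/-- The correspondence respects lying over a character of a normal subgroup. -/
theorem corr_over (N : Subgroup G) [N.Normal] (φN : S →* MulAut N)
    (hφN : ∀ s (n : N), (φN s n : G) = φ s n) (hN : ¬ p ∣ Nat.card N)
    (i : fix φN →* fix φ) (hi : ∀ c, ((i c : fix φ) : G) = ((c : N) : G))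
    (θ : IrrCharacter N) (βN : IrrCharacter (fix φN)) (hθ : θ = corr hS hN hM βN)
    (β : IrrCharacter (fix φ))
    (hβ : classInner (fun c : fix φN => (β : fix φ → ℂ) (i c)) (βN : fix φN → ℂ) ≠ 0) :
    classInner (fun n : N => (corr hS hG hM β : G → ℂ) n) (θ : N → ℂ) ≠ 0 := by
  haveI := charP_resField hM
  letI : Field (ResField M) := @Ideal.Quotient.field _ _ M hM.2.1
  set χ := corr hS hG hM β with hχd
  have hχ : Inv φ (χ : G → ℂ) := corr_inv hS hG hM β
  -- multiplicities
  have hcN : IsCharacter N (fun n : N => (χ : G → ℂ) n) :=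
    CfsgLib.Char.isCharacter_restrict χ.2.isCharacter' N
  choose nθ hnθ using fun ψ : IrrCharacter N => inner_character_nat hcN ψ.2.isCharacter'
  have hinj : Function.Injective i := fun a b h => Subtype.ext (Subtype.ext (by rw [← hi, ← hi, h]))
  have hrc : ∀ β' : IrrCharacter (fix φ), IsCharacter (fix φN) (fun c => (β' : fix φ → ℂ) (i c)) :=
    fun β' => by
      obtain ⟨n, ρ, hρ⟩ := β'.2.isCharacter'
      exact ⟨n, ρ.comp i, funext fun c => congrFun hρ (i c)⟩
  choose f hf using fun β' : IrrCharacter (fix φ) => inner_character_nat (hrc β') βN.2.isCharacter'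
  have hexp : ((∑ β' : IrrCharacter (fix φ), mult χ β' * f β' : ℕ) : ℂ) =
      ((∑ ψ : IrrCharacter N, nθ ψ * mult ψ βN : ℕ) : ℂ) := by
    have h1 : (fun c : fix φN => (χ : G → ℂ) ((i c : fix φ) : G)) =
        ∑ β' : IrrCharacter (fix φ), (mult χ β' : ℂ) • fun c : fix φN => (β' : fix φ → ℂ) (i c) := by
      funext c
      have h := congrFun (classFunction_eq_sum (fun x : fix φ => (χ : G → ℂ) x)
        (isCharacter_classFunction (CfsgLib.Char.isCharacter_restrict χ.2.isCharacter' _))) (i c)
      simp only [Finset.sum_apply, Pi.smul_apply, mult_spec] at h ⊢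
      exact h
    have h2 : (fun c : fix φN => (χ : G → ℂ) ((c : N) : G)) =
        ∑ ψ : IrrCharacter N, (nθ ψ : ℂ) • fun c : fix φN => (ψ : N → ℂ) c := by
      funext c
      have h := congrFun (classFunction_eq_sum (fun n : N => (χ : G → ℂ) n)
        (isCharacter_classFunction hcN)) (c : N)
      simp only [Finset.sum_apply, Pi.smul_apply, hnθ] at h ⊢
      exact h
    have h3 := congrArg (fun F => classInner F (βN : fix φN → ℂ)) h1
    have h4 := congrArg (fun F => classInner F (βN : fix φN → ℂ)) h2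
    simp only [CfsgLib.Char.inner_sum_left, CfsgLib.Char.inner_smul_left, hf, mult_spec, hi] at h3 h4
    push_cast
    rw [← h3, h4]
  have hexp' := congrArg (fun n : ℕ => (n : ResField M)) (Nat.cast_injective hexp)
  simp only [Nat.cast_sum, Nat.cast_mul] at hexp'
  -- the left side
  have hL : ∑ β' : IrrCharacter (fix φ), (mult χ β' : ResField M) * (f β' : ResField M) =
      (mult χ β : ResField M) * (f β : ResField M) := by
    refine Finset.sum_eq_single β (fun β' _ hne => ?_) (by simp)
    rw [(CharP.cast_eq_zero_iff (ResField M) p _).2, zero_mul]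
    by_contra h'
    exact hne (corr_injective hS hG hM ((not_dvd_mult_iff hS hG hM hχ β').1 h').symm)
  have hf0 : (f β : ResField M) ≠ 0 := by
    rw [Ne, CharP.cast_eq_zero_iff (ResField M) p]
    intro hdvd
    let H : Subgroup (fix φ) := i.range
    haveI : H.Normal := by
      refine ⟨fun x hx g => ?_⟩
      obtain ⟨c, rfl⟩ := hx
      refine ⟨⟨⟨(g : G) * ((c : N) : G) * (g : G)⁻¹, Subgroup.Normal.conj_mem inferInstance _ (c : N).2 _⟩,
        fun s => Subtype.ext ?_⟩, Subtype.ext ((hi _).trans ?_)⟩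
      · rw [hφN]
        show φ s ((g : G) * ((c : N) : G) * (g : G)⁻¹) = (g : G) * ((c : N) : G) * (g : G)⁻¹
        rw [← hi c, map_mul, map_mul, map_inv, mem_fix.1 g.2 s, mem_fix.1 (i c).2 s]
      · show (g : G) * ((c : N) : G) * (g : G)⁻¹ = (g : G) * ((i c : fix φ) : G) * (g : G)⁻¹
        rw [hi]
    let e : fix φN ≃* H := MonoidHom.ofInjective hinj
    have hirr := isIrrCharacter_comp_equiv βN.2 e.symm
    have hin : classInner (fun h : H => (β : fix φ → ℂ) h) ((βN : fix φN → ℂ) ∘ e.symm) = (f β : ℂ) := by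
      rw [← hf β, ← inner_comp_equiv e]
      congr 1
      funext c
      simp
    have hfne : (f β : ℂ) ≠ 0 := hf β ▸ hβ
    have h := clifford_degree β.2 hirr (by rw [hin]; exact hfne)
    rw [hin, Function.comp, map_one, ← charDegree_cast β.2.isCharacter',
      ← charDegree_cast βN.2.isCharacter'] at h
    refine not_dvd_irr hG β (hdvd.trans ?_)
    exact ⟨(inertia ((βN : fix φN → ℂ) ∘ e.symm)).index * charDegree (βN : fix φN → ℂ), by
      rw [← mul_assoc]; exact_mod_cast h⟩
  -- the right side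
  have hR : ∑ ψ : IrrCharacter N, (nθ ψ : ResField M) * (mult ψ βN : ResField M) =
      (nθ θ : ResField M) * (mult θ βN : ResField M) := by
    letI : MulAction S (IrrCharacter N) :=
      { smul := fun s χ => twist φN s⁻¹ χ
        one_smul := fun χ => Subtype.ext (funext fun g => by
          show (χ : N → ℂ) (φN 1⁻¹ g) = _; rw [inv_one, map_one]; rfl)
        mul_smul := fun s t χ => Subtype.ext (funext fun g => by
          show (χ : N → ℂ) (φN (s * t)⁻¹ g) = (χ : N → ℂ) (φN t⁻¹ (φN s⁻¹ g))
          rw [mul_inv_rev, map_mul]; rfl) }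
    rw [sum_eq_sum_fixed (A := ResField M) hS
      (fun ψ => (nθ ψ : ResField M) * (mult ψ βN : ResField M)) fun s ψ => ?_]
    · refine Finset.sum_eq_single θ (fun ψ hψ hne => ?_) fun h => ?_
      · have hψ' : Inv φN (ψ : N → ℂ) := fun s n => by
          have e := congrFun (congrArg Subtype.val ((Finset.mem_filter.1 hψ).2 s⁻¹)) n
          show (ψ : N → ℂ) (φN s n) = _
          rw [← e]
          show (ψ : N → ℂ) (φN s n) = (ψ : N → ℂ) (φN s⁻¹⁻¹ n)
          rw [inv_inv]
        rw [(CharP.cast_eq_zero_iff (ResField M) p (mult ψ βN)).2, mul_zero]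
        by_contra h'
        exact hne (hθ ▸ (not_dvd_mult_iff hS hN hM hψ' βN).1 h')
      · refine (h (Finset.mem_filter.2 ⟨Finset.mem_univ θ, fun s => Subtype.ext (funext fun n => ?_)⟩)).elim
        show (θ : N → ℂ) (φN s⁻¹ n) = _
        rw [hθ]
        exact corr_inv hS hN hM βN s⁻¹ n
    · congr 2
      · apply Nat.cast_injective (R := ℂ)
        rw [← hnθ, ← hnθ]
        show classInner _ ((twist φN s⁻¹ ψ : IrrCharacter N) : N → ℂ) = _
        rw [← inner_comp_equiv (φN s⁻¹) (fun n : N => (χ : G → ℂ) n) (ψ : N → ℂ)]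
        congr 1
        funext n
        rw [Function.comp, hφN, hχ]
      · apply Nat.cast_injective (R := ℂ)
        rw [← mult_spec, ← mult_spec]
        congr 1
        funext c
        show (ψ : N → ℂ) (φN s⁻¹ c) = (ψ : N → ℂ) c
        rw [mem_fix.1 c.2]
  rw [hL, hR] at hexp'
  have hm0 : (mult χ β : ResField M) ≠ 0 := by
    rw [Ne, CharP.cast_eq_zero_iff (ResField M) p]
    exact (not_dvd_mult_iff hS hG hM hχ β).2 rfl
  intro h0
  have hz : nθ θ = 0 := by
    rw [hnθ] at h0
    exact_mod_cast h0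
  rw [hz, Nat.cast_zero, zero_mul] at hexp'
  exact mul_ne_zero hm0 hf0 hexp'

end Over

end CfsgLib.Glauberman
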