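import Cfsg.Agent.Lib.BlockGlauberman
import Mathlib.GroupTheory.Solvable

/-!
# Solvable groups of operators of coprime order
-/

set_option autoImplicit false
set_option linter.style.haveILetI false
set_option linter.unusedSectionVars false
set_option linter.unusedFintypeInType false

namespace CfsgLib.Glauberman

open Cfsg CfsgLib.Char CfsgLib.Block
open scoped ComplexConjugate Classical

universe u v

/-- The restriction of the action to an invariant subgroup. -/
def restr {G : Type u} [Group G] {S : Type v} [Group S] (φ : S →* MulAut G) (H : Subgroup G)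
    (hH : ∀ s, ∀ g ∈ H, φ s g ∈ H) : S →* MulAut H where
  toFun s :=
    { toFun := fun h => ⟨φ s h, hH s h h.2⟩
      invFun := fun h => ⟨φ s⁻¹ h, hH s⁻¹ h h.2⟩
      left_inv := fun h => Subtype.ext (by
        show φ s⁻¹ (φ s h) = h
        rw [← MulAut.mul_apply, ← map_mul, inv_mul_cancel, map_one]; rfl)
      right_inv := fun h => Subtype.ext (by
        show φ s (φ s⁻¹ h) = h
        rw [← MulAut.mul_apply, ← map_mul, mul_inv_cancel, map_one]; rfl)
      map_mul' := fun a b => Subtype.ext (map_mul (φ s) _ _) }
  map_one' := MulEquiv.ext fun h => Subtype.ext (by show φ 1 h = h; rw [map_one]; rfl)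
  map_mul' := fun s t => MulEquiv.ext fun h => Subtype.ext (by
    show φ (s * t) h = φ s (φ t h); rw [map_mul]; rfl)

@[simp] theorem restr_coe {G : Type u} [Group G] {S : Type v} [Group S] (φ : S →* MulAut G)
    (H : Subgroup G) (hH : ∀ s, ∀ g ∈ H, φ s g ∈ H) (s : S) (h : H) :
    (restr φ H hH s h : G) = φ s h := rfl

/-- A nontrivial solvable group has a nontrivial normal subgroup of prime power order. -/
theorem exists_normal_pSubgroup {S : Type v} [Group S] [Finite S] [Group.IsSolvable S]
    [Nontrivial S] :
    ∃ (p : ℕ) (P : Subgroup S), p.Prime ∧ P.Normal ∧ P ≠ ⊥ ∧ IsPGroup p P := by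
  classical
  obtain ⟨n, hn⟩ := Group.IsSolvable.solvable (G := S)
  have h0 : derivedSeries S 0 ≠ ⊥ := by
    rw [derivedSeries_zero]; exact top_ne_bot
  obtain ⟨k, hk, hk1⟩ : ∃ k, derivedSeries S k ≠ ⊥ ∧ derivedSeries S (k + 1) = ⊥ := by
    induction n with
    | zero => exact absurd hn h0
    | succ n ih =>
      by_cases h : derivedSeries S n = ⊥
      · exact ih h
      · exact ⟨n, h, hn⟩
  set A := derivedSeries S k with hA
  haveI hAn : A.Normal := derivedSeries_normal S k
  have hcomm : ∀ a ∈ A, ∀ b ∈ A, a * b = b * a := by
    intro a ha b hb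
    have h := Subgroup.commutator_mem_commutator ha hb
    rw [← derivedSeries_succ, hk1, Subgroup.mem_bot, commutatorElement_eq_one_iff_mul_comm] at h
    exact h
  haveI : Nontrivial A := A.nontrivial_iff_ne_bot.2 hk
  obtain ⟨p, hp, hpd⟩ := Nat.exists_prime_and_dvd (Finite.one_lt_card (α := A)).ne'
  haveI := Fact.mk hp
  obtain ⟨a, ha⟩ := exists_prime_orderOf_dvd_card' p hpd
  let P : Subgroup S :=
    { carrier := {x | x ∈ A ∧ x ^ p = 1}
      one_mem' := ⟨A.one_mem, one_pow p⟩
      mul_mem' := fun {x y} hx hy => ⟨A.mul_mem hx.1 hy.1, by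
        rw [Commute.mul_pow (hcomm x hx.1 y hy.1), hx.2, hy.2, one_mul]⟩
      inv_mem' := fun {x} hx => ⟨A.inv_mem hx.1, by rw [inv_pow, hx.2, inv_one]⟩ }
  refine ⟨p, P, hp, ⟨fun x hx g => ⟨hAn.conj_mem x hx.1 g, ?_⟩⟩, fun h => ?_, fun x => ⟨1, ?_⟩⟩
  · rw [conj_pow, hx.2, mul_one, mul_inv_cancel]
  · have hmem : (a : S) ∈ P := ⟨a.2, by rw [← ha, ← Subgroup.orderOf_coe]; exact pow_orderOf_eq_one _⟩
    rw [h, Subgroup.mem_bot, OneMemClass.coe_eq_one] at hmem
    exact hp.ne_one (by rw [← ha, hmem, orderOf_one])
  · exact Subtype.ext (by rw [pow_one, SubmonoidClass.coe_pow]; exact x.2.2)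

/-- The three properties of a coprime action of a solvable group. -/
structure Good {G : Type u} [Group G] [Finite G] {S : Type v} [Group S] (φ : S →* MulAut G) :
    Prop where
  count : Nat.card {χ : IrrCharacter G // Inv φ (χ : G → ℂ)} = Nat.card (IrrCharacter (fix φ))
  conjInj : ∀ c d : fix φ, IsConj (c : G) (d : G) → IsConj c d
  conjSurj : ∀ g : G, (∀ s, IsConj g (φ s g)) → ∃ c : fix φ, IsConj g (c : G)
  above : ∀ (N : Subgroup G) [N.Normal] (hN : ∀ s, ∀ g ∈ N, φ s g ∈ N) (θ : IrrCharacter N),
    Inv (restr φ N hN) (θ : N → ℂ) →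
    ∃ χ : IrrCharacter G, Inv φ (χ : G → ℂ) ∧
      ∀ [Fintype N], classInner (fun n : N => (χ : G → ℂ) n) (θ : N → ℂ) ≠ 0

theorem good_aux : ∀ (n : ℕ) (G : Type u) [Group G] [Finite G] (S : Type v) [Group S] [Finite S]
    (φ : S →* MulAut G), Group.IsSolvable S → (Nat.card G).Coprime (Nat.card S) →
    Nat.card S ≤ n → Good φ := by
  intro n
  induction n with
  | zero =>
    intro G _ _ S _ _ φ _ _ hle
    exact absurd hle (by have := Nat.card_pos (α := S); omega)
  | succ n ih =>
    intro G _ _ S _ _ φ hsolv hcop hle
    haveI := Fintype.ofFinite G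
    haveI := hsolv
    by_cases hS : Nontrivial S
    · obtain ⟨p, P, hp, hPn, hP1, hPp⟩ := exists_normal_pSubgroup (S := S)
      haveI := Fact.mk hp
      haveI := hPn
      have hpS : p ∣ Nat.card S := by
        haveI : Nontrivial P := P.nontrivial_iff_ne_bot.2 hP1
        exact (hPp.card_eq_or_dvd.resolve_left Finite.one_lt_card.ne').trans P.card_subgroup_dvd_card
      have hpG : ¬ p ∣ Nat.card G := fun h =>
        hp.not_dvd_one (hcop.gcd_eq_one ▸ Nat.dvd_gcd h hpS)
      obtain ⟨M, hM⟩ := exists_isPModular hp
      obtain ⟨φP, hφPdef⟩ : ∃ φP : P →* MulAut G, ∀ (u : P) (g : G), φP u g = φ (u : S) g :=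
        ⟨φ.comp P.subtype, fun _ _ => rfl⟩
      have hstab : ∀ s, ∀ g ∈ fix φP, φ s g ∈ fix φP := by
        intro s g hg u
        rw [hφPdef]
        have h := hg ⟨s⁻¹ * u * s, by simpa using hPn.conj_mem _ u.2 s⁻¹⟩
        rw [hφPdef] at h
        conv_rhs => rw [← h]
        rw [← MulAut.mul_apply, ← MulAut.mul_apply, ← map_mul, ← map_mul]
        congr 2
        group
      set ψ := restr φ (fix φP) hstab with hψ
      have hker : P ≤ ψ.ker := by
        intro u hu
        rw [MonoidHom.mem_ker]
        exact MulEquiv.ext fun c => Subtype.ext (by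
          rw [hψ, restr_coe, ← hφPdef ⟨u, hu⟩]
          exact c.2 ⟨u, hu⟩)
      set ψ' := QuotientGroup.lift P ψ hker with hψ'
      have hψeq : ∀ s : S, ψ' (s : S ⧸ P) = ψ s := fun s => rfl
      haveI : Group.IsSolvable (S ⧸ P) :=
        Group.isSolvable_of_surjective (QuotientGroup.mk'_surjective P)
      have hcard : Nat.card (S ⧸ P) < Nat.card S := by
        rw [Subgroup.card_eq_card_quotient_mul_card_subgroup P]
        exact lt_mul_of_one_lt_right Nat.card_pos (P.one_lt_card_iff_ne_bot.2 hP1)
      have hC := ih (fix φP) (S ⧸ P) ψ' inferInstance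
        ((hcop.coprime_dvd_left (Subgroup.card_subgroup_dvd_card _)).coprime_dvd_right
          (Dvd.intro (Nat.card P) (Subgroup.card_eq_card_quotient_mul_card_subgroup P).symm))
        (by omega)
      have hfix : ∀ c : fix φP, c ∈ fix ψ' ↔ (c : G) ∈ fix φ := by
        intro c
        constructor
        · intro h s
          have e := congrArg Subtype.val (h (s : S ⧸ P))
          rw [hψeq, hψ, restr_coe] at e
          exact e
        · intro h x
          induction x using QuotientGroup.induction_on with
          | H s => exact Subtype.ext (by rw [hψeq, hψ, restr_coe]; exact h s)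
      have hle : ∀ c : fix φ, (c : G) ∈ fix φP := fun c u => by rw [hφPdef]; exact c.2 _
      let e : fix ψ' ≃* fix φ :=
        { toFun := fun c => ⟨((c : fix φP) : G), (hfix _).1 c.2⟩
          invFun := fun c => ⟨⟨c, hle c⟩, (hfix _).2 c.2⟩
          left_inv := fun c => rfl
          right_inv := fun c => rfl
          map_mul' := fun a b => rfl }
      have hinv : ∀ β : IrrCharacter (fix φP),
          Inv ψ' (β : fix φP → ℂ) ↔ Inv φ (corr hPp hpG hM β : G → ℂ) := by
        intro β
        have key : ∀ s, corr hPp hpG hM (twist ψ s β) = twist φ s (corr hPp hpG hM β) := by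
          intro s
          refine (eq_corr hPp hpG hM (fun u g => ?_) ?_).symm
          · show (corr hPp hpG hM β : G → ℂ) (φ s (φP u g)) = (corr hPp hpG hM β : G → ℂ) (φ s g)
            rw [← corr_inv hPp hpG hM β ⟨s * u * s⁻¹, hPn.conj_mem _ u.2 s⟩ (φ s g), hφPdef, hφPdef]
            congr 1
            rw [← MulAut.mul_apply, ← MulAut.mul_apply, ← map_mul, ← map_mul]
            congr 2
            group
          · rw [pairing_comp hM (φ s) (ψ s) (fun c => restr_coe φ _ hstab s c) (corr hPp hpG hM β)
              (twist φ s (corr hPp hpG hM β)) β (twist ψ s β) (fun g => rfl) (fun c => rfl),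
              pairing_corr hPp hpG hM]
            intro h
            letI : Field (ResField M) := @Ideal.Quotient.field _ _ M hM.2.1
            exact one_ne_zero h
        constructor
        · intro h s g
          have hs : twist ψ s β = β := Subtype.ext (funext fun c => h (s : S ⧸ P) c)
          have e := key s
          rw [hs] at e
          exact (congrFun (congrArg Subtype.val e) g).symm
        · intro h x
          induction x using QuotientGroup.induction_on with
          | H s =>
            intro c
            have hs : twist φ s (corr hPp hpG hM β) = corr hPp hpG hM β :=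
              Subtype.ext (funext fun g => h s g)
            have e := corr_injective hPp hpG hM ((key s).trans hs)
            exact congrFun (congrArg Subtype.val e) c
      constructor
      case count =>
        rw [← Nat.card_eq_of_bijective
          (fun β : {β : IrrCharacter (fix φP) // Inv ψ' (β : fix φP → ℂ)} =>
            (⟨corr hPp hpG hM β.1, (hinv β.1).1 β.2⟩ : {χ : IrrCharacter G // Inv φ (χ : G → ℂ)}))
          ⟨fun a b h => Subtype.ext (corr_injective hPp hpG hM (congrArg Subtype.val h)), fun χ => by
            obtain ⟨β, hβ⟩ := corr_surjective hPp hpG hM (χ := χ.1)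
              (fun u g => by rw [hφPdef]; exact χ.2 _ g)
            exact ⟨⟨β, (hinv β).2 (hβ ▸ χ.2)⟩, Subtype.ext hβ⟩⟩, hC.count]
        exact Nat.card_congr
          { toFun := fun β => ⟨(β : fix ψ' → ℂ) ∘ e.symm, isIrrCharacter_comp_equiv β.2 e.symm⟩
            invFun := fun β => ⟨(β : fix φ → ℂ) ∘ e, isIrrCharacter_comp_equiv β.2 e⟩
            left_inv := fun β => Subtype.ext (funext fun c => by simp)
            right_inv := fun β => Subtype.ext (funext fun c => by simp) }
      case conjInj =>
        intro c d h
        have h1 := isConj_fix hPp hpG (c := ⟨c, hle c⟩) (d := ⟨d, hle d⟩) h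
        have h2 := hC.conjInj (e.symm c) (e.symm d) h1
        simpa using e.toMonoidHom.map_isConj h2
      case conjSurj =>
        intro g hg
        let X := {x : G // IsConj g x}
        letI : MulAction P X :=
          { smul := fun u x => ⟨φP u x.1, by
              rw [hφPdef]
              exact (hg u).trans ((φ (u : S)).toMonoidHom.map_isConj x.2)⟩
            one_smul := fun x => Subtype.ext (by show φP 1 x.1 = x.1; rw [map_one]; rfl)
            mul_smul := fun u t x => Subtype.ext (by
              show φP (u * t) x.1 = φP u (φP t x.1); rw [map_mul]; rfl) }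
        have hX : Nat.card X ∣ Nat.card G := by
          have h1 : Nat.card X = (ConjClasses.mk g).carrier.ncard := by
            rw [← Nat.card_coe_set_eq]
            exact Nat.card_congr (Equiv.subtypeEquivRight fun x => by
              rw [ConjClasses.mem_carrier_iff_mk_eq, ConjClasses.mk_eq_mk_iff_isConj]
              exact isConj_comm)
          rw [h1, ← Nat.card_coe_set_eq, ConjAct.orbit_eq_carrier_conjClasses g |>.symm]
          rw [Nat.card_congr (MulAction.orbitEquivQuotientStabilizer (ConjAct G) g)]
          exact (Subgroup.index_dvd_card _).trans (dvd_of_eq rfl)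
        obtain ⟨x, hx⟩ := hPp.nonempty_fixed_point_of_prime_not_dvd_card X fun h => hpG (h.trans hX)
        obtain ⟨c, hc⟩ := hC.conjSurj ⟨x.1, fun u => congrArg Subtype.val (hx u)⟩ fun y => by
          induction y using QuotientGroup.induction_on with
          | H s =>
            refine isConj_fix hPp hpG ?_
            rw [hψeq, hψ, restr_coe]
            exact x.2.symm.trans ((hg s).trans ((φ s).toMonoidHom.map_isConj x.2))
        exact ⟨e c, x.2.trans ((fix φP).subtype.map_isConj hc)⟩
      case above =>
        intro N _ hN θ hθ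
        have hNp : ¬ p ∣ Nat.card N := not_dvd_card_subgroup hpG N
        obtain ⟨φN, hφN⟩ : ∃ φN : P →* MulAut N, ∀ u (m : N), (φN u m : G) = φP u m :=
          ⟨restr φP N (fun u m hm => by rw [hφPdef]; exact hN _ m hm), fun u m => rfl⟩
        obtain ⟨βN, hβN⟩ := corr_surjective hPp hNp hM (χ := θ) (φ := φN) fun u m => by
          have e : φN u m = restr φ N hN (u : S) m := Subtype.ext (by rw [hφN, hφPdef, restr_coe])
          rw [e]
          exact hθ _ m
        set D := N.subgroupOf (fix φP) with hD
        let j : D ≃* fix φN :=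
          { toFun := fun c => ⟨⟨((c : fix φP) : G), c.2⟩, fun u => Subtype.ext (by
              rw [hφN]; exact (c : fix φP).2 u)⟩
            invFun := fun c => ⟨⟨((c : N) : G), fun u => by rw [← hφN]; exact congrArg Subtype.val (c.2 u)⟩,
              (c : N).2⟩
            left_inv := fun c => rfl
            right_inv := fun c => rfl
            map_mul' := fun a b => rfl }
        have hDst : ∀ x, ∀ c ∈ D, ψ' x c ∈ D := by
          intro x c hc
          induction x using QuotientGroup.induction_on with
          | H s =>
            rw [hψeq]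
            show ((ψ s c : fix φP) : G) ∈ N
            rw [hψ, restr_coe]
            exact hN s _ hc
        let θD : IrrCharacter D := ⟨(βN : fix φN → ℂ) ∘ j, isIrrCharacter_comp_equiv βN.2 j⟩
        have hθD : Inv (restr ψ' D hDst) (θD : D → ℂ) := by
          intro x c
          induction x using QuotientGroup.induction_on with
          | H s =>
            have hstN : ∀ t, ∀ m ∈ fix φN, restr φ N hN t m ∈ fix φN := by
              intro t m hm u
              apply Subtype.ext
              rw [hφN, restr_coe]
              exact hstab t _ (fun v => by rw [← hφN]; exact congrArg Subtype.val (hm v)) u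
            set ψN := restr (restr φ N hN) (fix φN) hstN with hψN
            have hfixN : twist (restr φ N hN) s θ = θ := Subtype.ext (funext fun m => hθ s m)
            have e1 : corr hPp hNp hM (twist ψN s βN) = θ := by
              refine (eq_corr hPp hNp hM (fun u m => ?_) ?_).symm
              · rw [← hβN]; exact corr_inv hPp hNp hM βN u m
              · rw [pairing_comp hM (restr φ N hN s) (ψN s)
                  (fun c => restr_coe (restr φ N hN) _ hstN s c) θ θ βN (twist ψN s βN)
                  (fun m => (hθ s m).symm) (fun c => rfl), ← hβN, pairing_corr hPp hNp hM]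
                intro h
                letI : Field (ResField M) := @Ideal.Quotient.field _ _ M hM.2.1
                exact one_ne_zero h
            have e2 := corr_injective hPp hNp hM (e1.trans hβN.symm)
            exact congrFun (congrArg Subtype.val e2) (j c)
        obtain ⟨β, hβinv, hβ⟩ := hC.above D hDst θD hθD
        have key := corr_over hPp hpG hM N φN hφN hNp
          (D.subtype.comp j.symm.toMonoidHom) (fun c => rfl) θ βN hβN.symm β fun h0 => by
            refine hβ (Eq.trans ?_ h0)
            refine Eq.trans ?_ (inner_comp_equiv j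
              (fun c => (β : fix φP → ℂ) ((j.symm c : D) : fix φP)) (βN : fix φN → ℂ))
            congr 1
        exact ⟨corr hPp hpG hM β, (hinv β).1 hβinv, fun {hF} => by convert key⟩
    · rw [not_nontrivial_iff_subsingleton] at hS
      have hφ : ∀ s g, φ s g = g := fun s g => by
        rw [Subsingleton.elim s 1, map_one]; rfl
      have htop : ∀ g : G, g ∈ fix φ := fun g s => hφ s g
      let e : fix φ ≃* G :=
        { toFun := fun c => c
          invFun := fun g => ⟨g, htop g⟩
          left_inv := fun c => rfl
          right_inv := fun g => rfl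
          map_mul' := fun a b => rfl }
      refine ⟨?_, fun c d h => ?_, fun g _ => ⟨⟨g, htop g⟩, IsConj.refl g⟩, fun N _ hN θ _ => ?_⟩
      · have hall : ∀ χ : IrrCharacter G, Inv φ (χ : G → ℂ) := fun χ s g => by rw [hφ]
        rw [Nat.card_congr (Equiv.subtypeUnivEquiv hall)]
        exact Nat.card_congr
          { toFun := fun β => ⟨(β : G → ℂ) ∘ e, isIrrCharacter_comp_equiv β.2 e⟩
            invFun := fun β => ⟨(β : fix φ → ℂ) ∘ e.symm, isIrrCharacter_comp_equiv β.2 e.symm⟩
            left_inv := fun β => Subtype.ext (funext fun c => by simp)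
            right_inv := fun β => Subtype.ext (funext fun c => by simp) }
      · obtain ⟨g, hg⟩ := isConj_iff.1 h
        exact isConj_iff.2 ⟨⟨g, htop g⟩, Subtype.ext hg⟩
      · haveI := Fintype.ofFinite N
        obtain ⟨χ, hχ, h⟩ := exists_irr_over (H := N) θ.2
        exact ⟨⟨χ, hχ⟩, fun s g => by rw [hφ], fun {hF} => by convert h⟩

/-- A coprime action of a solvable group is good. -/
theorem good {G : Type u} [Group G] [Finite G] {S : Type v} [Group S] [Finite S]
    (φ : S →* MulAut G) (hsolv : Group.IsSolvable S)
    (hcop : (Nat.card G).Coprime (Nat.card S)) : Good φ :=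
  good_aux (Nat.card S) G S φ hsolv hcop le_rfl

end CfsgLib.Glauberman
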