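import Cfsg.Agent.Lib.BlockGlaubermanSolv

/-!
# Coprime operators inside an ambient group
-/

set_option autoImplicit false
set_option linter.style.haveILetI false
set_option linter.unusedSectionVars false
set_option linter.unusedFintypeInType false

namespace CfsgLib.Glauberman

open Cfsg CfsgLib.Char CfsgLib.Block
open scoped Classical

universe u

variable {Γ : Type u} [Group Γ] (G S : Subgroup Γ) (hnorm : ∀ s ∈ S, ∀ g ∈ G, s * g * s⁻¹ ∈ G)

/-- The action of a normalising subgroup by conjugation. -/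
def conjOn : S →* MulAut G :=
  restr (MulAut.conj.comp S.subtype) G fun s g hg => hnorm s s.2 g hg

theorem conjOn_coe (s : S) (g : G) : (conjOn G S hnorm s g : Γ) = s * g * (s : Γ)⁻¹ := rfl

theorem inv_conjOn_iff (f : G → ℂ) :
    Inv (conjOn G S hnorm) f ↔
      ∀ s ∈ S, ∀ g g' : G, (g' : Γ) = s * g * s⁻¹ → f g' = f g := by
  constructor
  · intro h s hs g g' e
    rw [show g' = conjOn G S hnorm ⟨s, hs⟩ g from Subtype.ext e]
    exact h ⟨s, hs⟩ g
  · exact fun h s g => h s s.2 g _ rfl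

theorem mem_fix_conjOn (g : G) :
    g ∈ fix (conjOn G S hnorm) ↔ (g : Γ) ∈ G ⊓ Subgroup.centralizer (S : Set Γ) := by
  rw [Subgroup.mem_inf, Subgroup.mem_centralizer_iff, mem_fix]
  constructor
  · exact fun h => ⟨g.2, fun s hs => by
      have e := congrArg Subtype.val (h ⟨s, hs⟩)
      rw [conjOn_coe] at e
      exact mul_inv_eq_iff_eq_mul.1 e⟩
  · exact fun h s => Subtype.ext (by rw [conjOn_coe]; exact mul_inv_eq_iff_eq_mul.2 (h.2 s s.2))

/-- The fixed subgroup as a subgroup of the ambient group. -/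
def fixEquiv (C : Subgroup Γ) (hC : C = G ⊓ Subgroup.centralizer (S : Set Γ)) :
    fix (conjOn G S hnorm) ≃* C where
  toFun c := ⟨((c : G) : Γ), by rw [hC]; exact (mem_fix_conjOn G S hnorm _).1 c.2⟩
  invFun c := ⟨⟨c, (show (c : Γ) ∈ G ⊓ Subgroup.centralizer (S : Set Γ) from hC ▸ c.2).1⟩,
    (mem_fix_conjOn G S hnorm _).2 (show (c : Γ) ∈ G ⊓ Subgroup.centralizer (S : Set Γ) from hC ▸ c.2)⟩
  left_inv _ := rfl
  right_inv _ := rfl
  map_mul' _ _ := rfl

/-- Fixed classes correspond to classes of the fixed subgroup. -/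
theorem card_fixed_classes {G : Type u} [Group G] [Finite G] {S : Type u} [Group S]
    {φ : S →* MulAut G} (h : Good φ) :
    Nat.card {K : ConjClasses G // ∀ s, ∀ g, ConjClasses.mk g = K → ConjClasses.mk (φ s g) = K} =
      Nat.card (ConjClasses (fix φ)) := by
  refine (Nat.card_eq_of_bijective
    (fun K : ConjClasses (fix φ) => (⟨ConjClasses.map (fix φ).subtype K, ?_⟩ :
      {K : ConjClasses G // ∀ s, ∀ g, ConjClasses.mk g = K → ConjClasses.mk (φ s g) = K}))
    ⟨fun a b hab => ?_, fun ⟨K, hK⟩ => ?_⟩).symm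
  · obtain ⟨c, rfl⟩ := ConjClasses.mk_surjective K
    intro s g hg
    show ConjClasses.mk (φ s g) = ConjClasses.mk (c : G)
    have hc := (φ s).toMonoidHom.map_isConj (ConjClasses.mk_eq_mk_iff_isConj.1 hg)
    rw [ConjClasses.mk_eq_mk_iff_isConj]
    have : φ s ((c : G)) = c := c.2 s
    simpa [this] using hc
  · obtain ⟨c, rfl⟩ := ConjClasses.mk_surjective a
    obtain ⟨d, rfl⟩ := ConjClasses.mk_surjective b
    exact ConjClasses.mk_eq_mk_iff_isConj.2
      (h.conjInj c d (ConjClasses.mk_eq_mk_iff_isConj.1 (congrArg Subtype.val hab)))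
  · obtain ⟨g, rfl⟩ := ConjClasses.mk_surjective K
    obtain ⟨c, hc⟩ := h.conjSurj g fun s =>
      (ConjClasses.mk_eq_mk_iff_isConj.1 (hK s g rfl)).symm
    exact ⟨ConjClasses.mk c, Subtype.ext (ConjClasses.mk_eq_mk_iff_isConj.2 hc.symm)⟩

end CfsgLib.Glauberman
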