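import Cfsg.Agent.Lib.BlockCoveringDefect

/-!
# Graded nilpotency over a normal subgroup

A multiplicatively closed class of functions invariant under `N`, living in the component of a
block `b` of `N`, whose members supported in `N` have all residual eigenvalues zero: long products
of homogeneous members vanish, and the class contains no idempotent except zero.
-/

set_option autoImplicit false
set_option linter.style.haveILetI false
set_option linter.unusedSectionVars false
set_option linter.unusedFintypeInType false

namespace CfsgLib.Block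

open Cfsg CfsgLib.Char
open scoped ComplexConjugate Classical

universe u

variable {G : Type u} [Group G] [Fintype G] {p : ℕ} {M : Ideal AlgInt}

/-- The axioms of a graded nilpotent class. -/
structure NilClass (hM : IsPModular p M) (N : Subgroup G) [Fintype N] (β : G → ResField M)
    (K : (G → ResField M) → Prop) : Prop where
  invBy : ∀ a, K a → InvBy N a
  unit : ∀ a, K a → gconv β a = a ∧ gconv a β = a
  mul : ∀ a a', K a → K a' → K (gconv a a')
  evZero : ∀ a, K a → (∀ g, g ∉ N → a g = 0) → ∀ v : intRing (G := N) hM,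
    cred hM v = (fun k : N => a k) → ∀ θ : IrrCharacter N, ev hM θ v = 0

variable (hM : IsPModular p M) {N : Subgroup G} [hN : N.Normal] [Fintype N]
  {b : Set (IrrCharacter N)} (hb : IsPBlock M b) {K : (G → ResField M) → Prop}
  (hK : NilClass hM N (bFn hM N b) K)

/-- The component of a function at a coset. -/
noncomputable def cosetPart (N : Subgroup G) [N.Normal] (a : G → ResField M) (q : G ⧸ N) :
    G → ResField M := fun g => if (g : G ⧸ N) = q then a g else 0

theorem sum_cosetPart (a : G → ResField M) : ∑ q, cosetPart N a q = a := by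
  funext g
  simp [cosetPart, Finset.sum_apply]

include hb hK in
theorem NilClass.gprod_mul_right {c : ℕ → G → ResField M} (i : ℕ) :
    ∀ n, (∀ j < n, K (c (i + j))) →
      gconv (gprod (bFn hM N b) c i n) (bFn hM N b) = gprod (bFn hM N b) c i n
  | 0, _ => IsBlockFn.mul_self (hM := hM) (H := N) ⟨b, hb, rfl⟩
  | n + 1, h => by rw [gprod, gconv_assoc, (hK.unit _ (h n n.lt_succ_self)).2]

include hb hK in
theorem NilClass.gprod_add {c : ℕ → G → ResField M} (i a : ℕ) :
    ∀ n, (∀ j < a + n, K (c (i + j))) →
      gprod (bFn hM N b) c i (a + n) =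
        gconv (gprod (bFn hM N b) c i a) (gprod (bFn hM N b) c (i + a) n)
  | 0, h => (NilClass.gprod_mul_right hM hb hK i a (fun j hj => h j hj)).symm
  | n + 1, h => by
    rw [← Nat.add_assoc, gprod, NilClass.gprod_add i a n (fun j hj => h j (by omega)), gprod,
      gconv_assoc, Nat.add_assoc]

include hb hK in
theorem NilClass.gprod_mem {c : ℕ → G → ResField M} (i : ℕ) :
    ∀ n, (∀ j ≤ n, K (c (i + j))) → K (gprod (bFn hM N b) c i (n + 1))
  | 0, h => by
    rw [gprod, gprod, (hK.unit _ (h 0 le_rfl)).1]
    exact h 0 le_rfl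
  | n + 1, h => by
    rw [gprod]
    exact hK.mul _ _ (NilClass.gprod_mem i n fun j hj => h j (by omega)) (h (n + 1) le_rfl)

include hb hK in
/-- Short products inside the group ring of `N` vanish. -/
theorem NilClass.gprod_eq_zero_of_supp {c : ℕ → G → ResField M}
    (hc : ∀ i < Fintype.card (IrrCharacter N), K (c i) ∧ ∀ g, g ∉ N → c i g = 0) :
    gprod (bFn hM N b) c 0 (Fintype.card (IrrCharacter N)) = 0 := by
  have hex : ∀ i, ∃ v : intRing (G := N) hM, i < Fintype.card (IrrCharacter N) →
      cred hM v = fun k : N => c i k := by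
    intro i
    by_cases hi : i < Fintype.card (IrrCharacter N)
    · obtain ⟨v, hv⟩ := exists_lift hM (fun k : N => c i k) fun g x =>
        hK.invBy _ (hc i hi).1 x x.2 g
      exact ⟨v, fun _ => hv⟩
    · exact ⟨0, fun h => absurd h hi⟩
  choose v hv using hex
  set e := bIdem hM hb with he
  have hβ : bFn hM N b = ext0 N (cred hM e) := by rw [bFn_eq_ext0, gFn_block hM hb]
  have hev : ∀ i < Fintype.card (IrrCharacter N), ∀ θ : IrrCharacter N, ev hM θ (v i) = 0 :=
    fun i hi => hK.evZero _ (hc i hi).1 (hc i hi).2 (v i) (hv i hi)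
  have hprod : ∀ n ≤ Fintype.card (IrrCharacter N),
      gprod (bFn hM N b) c 0 n = ext0 N (cred hM (e * ∏ i ∈ Finset.range n, v i)) := by
    intro n hn
    induction n with
    | zero => rw [Finset.range_zero, Finset.prod_empty, mul_one, ← hβ]; rfl
    | succ n ih =>
      rw [gprod, ih (by omega), Nat.zero_add, Finset.prod_range_succ, ← mul_assoc,
        cred_mul_eq_gconv (v := e * ∏ i ∈ Finset.range n, v i), ext0_gconv, hv n (by omega),
        ext0_restrict (hc n (by omega)).2]
  rw [hprod _ le_rfl]
  let en := Fintype.equivFin (IrrCharacter N)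
  have h0 : ∏ j : Fin (Fintype.card (IrrCharacter N)),
      (v j - cst hM (evO hM (en.symm j) (v j))) = 0 := by
    apply Subtype.ext
    funext ψ
    rw [SubmonoidClass.coe_finsetProd, Finset.prod_apply]
    refine Finset.prod_eq_zero (Finset.mem_univ (en ψ)) ?_
    show ((v (en ψ) : intRing (G := N) hM) : IrrCharacter N → ℂ) ψ -
      ((v (en ψ) : intRing (G := N) hM) : IrrCharacter N → ℂ) (en.symm (en ψ)) = 0
    rw [en.symm_apply_apply, sub_self]
  have h1 : Ideal.Quotient.mk (redIdeal hM)
      (∏ i ∈ Finset.range (Fintype.card (IrrCharacter N)), v i) = 0 := by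
    rw [← Fin.prod_univ_eq_prod_range, map_prod,
      ← map_zero (Ideal.Quotient.mk (redIdeal (G := N) hM)), ← h0, map_prod]
    refine Finset.prod_congr rfl fun j _ => ?_
    rw [map_sub, Ideal.Quotient.eq_zero_iff_mem.2 (cst_mem_redIdeal hM (hev j j.2 (en.symm j))),
      sub_zero]
  have h2 : cred hM (e * ∏ i ∈ Finset.range (Fintype.card (IrrCharacter N)), v i) = 0 := by
    rw [← cred_zero_eq hM]
    funext g
    exact (mk_redIdeal_eq_iff hM _ _).1 (by rw [map_mul, h1, mul_zero, map_zero]) g
  rw [h2, ext0_zero]

include hb hK in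
/-- Long products of homogeneous elements vanish. -/
theorem NilClass.gprod_eq_zero_of_homogeneous {c : ℕ → G → ResField M} (w : ℕ → G ⧸ N)
    (hc : ∀ j, K (c j)) (hw : ∀ (j : ℕ) (g : G), (g : G ⧸ N) ≠ w j → c j g = 0) :
    gprod (bFn hM N b) c 0 (Fintype.card (G ⧸ N) * Fintype.card (IrrCharacter N)) = 0 := by
  set m := Fintype.card (IrrCharacter N) with hm
  set β := bFn hM N b with hβ
  have hβsupp : ∀ g, g ∉ N → β g = 0 := fun g hg =>
    IsBlockFn.supp (hM := hM) (H := N) ⟨b, hb, rfl⟩ hg
  set L := Fintype.card (G ⧸ N) * m with hL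
  let deg : ℕ → G ⧸ N := fun n => ((List.range n).map w).prod
  have hdeg : ∀ i n g, gprod β c i n g ≠ 0 → deg i * (g : G ⧸ N) = deg (i + n) := by
    intro i n
    induction n with
    | zero =>
      intro g hg
      have : g ∈ N := by
        by_contra h
        exact hg (hβsupp g h)
      rw [(QuotientGroup.eq_one_iff g).2 this, mul_one, Nat.add_zero]
    | succ n ih =>
      intro g hg
      rw [gprod, gconv] at hg
      obtain ⟨y, -, hy⟩ := Finset.exists_ne_zero_of_sum_ne_zero hg
      have h1 := ih y (left_ne_zero_of_mul hy)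
      have h2 := right_ne_zero_of_mul hy
      have h3 : ((y⁻¹ * g : G) : G ⧸ N) = w (i + n) := by
        by_contra h
        exact h2 (hw _ _ h)
      rw [show g = y * (y⁻¹ * g) by group, QuotientGroup.mk_mul, h3, ← mul_assoc, h1,
        ← Nat.add_assoc]
      simp [deg, List.range_succ]
  obtain ⟨q, -, hq⟩ := Finset.exists_lt_card_fiber_of_mul_lt_card_of_maps_to
    (s := Finset.range (L + 1)) (t := (Finset.univ : Finset (G ⧸ N))) (f := deg) (n := m)
    (fun _ _ => Finset.mem_univ _) (by rw [Finset.card_univ, Finset.card_range, hL]; omega)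
  set F := Finset.filter (fun i => deg i = q) (Finset.range (L + 1)) with hF
  let em := F.orderEmbOfCardLe (Nat.succ_le_of_lt hq)
  let i : ℕ → ℕ := fun l => em ⟨min l m, by omega⟩
  have himem : ∀ l, deg (i l) = q ∧ i l ≤ L := fun l => by
    have h := Finset.mem_filter.1
      (F.orderEmbOfCardLe_mem (Nat.succ_le_of_lt hq) ⟨min l m, by omega⟩)
    exact ⟨h.2, Nat.lt_succ_iff.1 (Finset.mem_range.1 h.1)⟩
  have hlt : ∀ l < m, i l < i (l + 1) := fun l hl =>
    em.strictMono (show min l m < min (l + 1) m by omega)
  have hmono : ∀ l ≤ m, i 0 ≤ i l := fun l hl => by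
    induction l with
    | zero => exact le_rfl
    | succ l ih => exact (ih (by omega)).trans (hlt l (by omega)).le
  set s : ℕ → G → ResField M := fun l => gprod β c (i l) (i (l + 1) - i l) with hs
  have hs0 : gprod β s 0 m = 0 := by
    refine NilClass.gprod_eq_zero_of_supp hM hb hK fun l hl => ?_
    have hpos := hlt l hl
    obtain ⟨d, hd⟩ : ∃ d, i (l + 1) - i l = d + 1 := ⟨i (l + 1) - i l - 1, by omega⟩
    refine ⟨?_, fun g hg => ?_⟩
    · simp only [hs, hd]
      exact NilClass.gprod_mem hM hb hK (i l) d fun j _ => hc _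
    · by_contra hne
      have h := hdeg (i l) _ g hne
      rw [show i l + (i (l + 1) - i l) = i (l + 1) by omega, (himem l).1, (himem (l + 1)).1] at h
      exact hg ((QuotientGroup.eq_one_iff g).1 (mul_eq_left.1 h))
  have hseg : ∀ l ≤ m, gprod β s 0 l = gprod β c (i 0) (i l - i 0) := by
    intro l hl
    induction l with
    | zero => rw [Nat.sub_self]; rfl
    | succ l ih =>
      have h1 := hlt l (by omega)
      have h2 := hmono l (by omega)
      rw [gprod, ih (by omega), Nat.zero_add,
        show i (l + 1) - i 0 = (i l - i 0) + (i (l + 1) - i l) by omega,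
        NilClass.gprod_add hM hb hK (i 0) _ _ (fun j _ => hc _),
        show i 0 + (i l - i 0) = i l by omega]
  rw [hseg m le_rfl] at hs0
  have h0 := (himem 0).2
  have h1 := (himem m).2
  have h2 := hmono m le_rfl
  rw [show L = (i 0) + ((i m - i 0) + (L - i m)) by omega,
    NilClass.gprod_add hM hb hK 0 _ _ (fun j _ => hc _),
    NilClass.gprod_add hM hb hK _ _ _ (fun j _ => hc _), Nat.zero_add, hs0, zero_gconv, gconv_zero]

include hb hK in
/-- The class contains no nonzero idempotent with components in the class. -/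
theorem NilClass.eq_zero_of_idem {x : G → ResField M} (hxx : gconv x x = x)
    (hx : K x) (hcomp : ∀ q : G ⧸ N, K (cosetPart N x q)) : x = 0 := by
  set β := bFn hM N b
  set L := Fintype.card (G ⧸ N) * Fintype.card (IrrCharacter N)
  have hsum : ∀ n, gprod β (fun _ => x) 0 n =
      ∑ w : Fin n → G ⧸ N,
        gprod β (fun i => cosetPart N x (if h : i < n then w ⟨i, h⟩ else 1)) 0 n := by
    intro n
    induction n with
    | zero => simp [gprod]
    | succ n ih =>
      rw [gprod, ih, sum_gconv, ← Equiv.sum_comp (Fin.snocEquiv fun _ => G ⧸ N),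
        Fintype.sum_prod_type, Finset.sum_comm]
      refine Finset.sum_congr rfl fun w _ => ?_
      rw [show ∀ a : G → ResField M, gconv a x = gconv a (∑ q, cosetPart N x q) from
        fun a => by rw [sum_cosetPart], gconv_sum]
      refine Finset.sum_congr rfl fun q _ => ?_
      have e : ∀ l ≤ n, gprod β (fun i => cosetPart N x (if h : i < n + 1 then
          (Fin.snocEquiv fun _ => G ⧸ N) (q, w) ⟨i, h⟩ else 1)) 0 l =
          gprod β (fun i => cosetPart N x (if h : i < n then w ⟨i, h⟩ else 1)) 0 l := by
        intro l hl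
        induction l with
        | zero => rfl
        | succ l ihl =>
          rw [gprod, gprod, ihl (by omega)]
          simp only [Nat.zero_add, show l < n by omega, show l < n + 1 by omega, dif_pos]
          congr 2
          simp [Fin.snocEquiv, Fin.snoc, show l < n by omega]
      rw [gprod, e n le_rfl]
      simp [Fin.snocEquiv, Fin.snoc, Nat.zero_add]
  have hidem : ∀ n, gprod β (fun _ => x) 0 (n + 1) = x := by
    intro n
    induction n with
    | zero => rw [gprod, gprod, (hK.unit x hx).1]
    | succ n ih => rw [gprod, ih, hxx]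
  have hpos : L ≠ 0 := Nat.mul_ne_zero Fintype.card_ne_zero (by
    obtain ⟨θ, -⟩ := isPBlock_nonempty hM hb
    exact (Fintype.card_pos_iff.2 ⟨θ⟩).ne')
  obtain ⟨n, hn⟩ := Nat.exists_eq_succ_of_ne_zero hpos
  rw [← hidem n, show n + 1 = L from hn.symm, hsum L]
  refine Finset.sum_eq_zero fun w _ => ?_
  exact NilClass.gprod_eq_zero_of_homogeneous hM hb hK _ (fun j => hcomp _)
    fun j g hg => if_neg hg

end CfsgLib.Block
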