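import Cfsg.Agent.Lib.BlockCore
import Cfsg.Agent.Lib.BlockDefect
import Cfsg.Agent.Lib.CharLinear

/-!
# Inflation of characters from a quotient, and blocks
-/

set_option autoImplicit false

universe u

namespace CfsgLib.Block

open Cfsg CfsgLib.Char
open scoped Classical

variable {G : Type u} [Group G] [Fintype G] {p : ℕ} {M : Ideal AlgInt}
  (N : Subgroup G) [N.Normal] [Fintype (G ⧸ N)]

/-- An irreducible character of the quotient read on the group. -/
noncomputable def inflate (χ : IrrCharacter (G ⧸ N)) : IrrCharacter G :=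
  ⟨(χ : G ⧸ N → ℂ) ∘ QuotientGroup.mk' N,
    isIrrCharacter_comp_surjective χ.2 (QuotientGroup.mk' N) (QuotientGroup.mk'_surjective N)⟩

theorem inflate_apply (χ : IrrCharacter (G ⧸ N)) (g : G) :
    (inflate N χ : G → ℂ) g = (χ : G ⧸ N → ℂ) (QuotientGroup.mk g) := rfl

theorem inflate_eq_comp (χ : IrrCharacter (G ⧸ N)) :
    (inflate N χ : G → ℂ) = (χ : G ⧸ N → ℂ) ∘ QuotientGroup.mk := rfl

theorem eq_inflate {χ : IrrCharacter (G ⧸ N)} {ψ : IrrCharacter G}
    (h : (ψ : G → ℂ) = (χ : G ⧸ N → ℂ) ∘ QuotientGroup.mk) : ψ = inflate N χ := Subtype.ext h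

theorem inflate_injective : Function.Injective (inflate N) := fun χ χ' h => Subtype.ext (funext fun q => by
  obtain ⟨g, rfl⟩ := QuotientGroup.mk_surjective q
  exact congrFun (congrArg Subtype.val h) g)

theorem inflate_ker (χ : IrrCharacter (G ⧸ N)) {n : G} (hn : n ∈ N) :
    (inflate N χ : G → ℂ) n = (inflate N χ : G → ℂ) 1 := by
  rw [inflate_apply, inflate_apply, (QuotientGroup.eq_one_iff n).2 hn]
  rfl

theorem exists_inflate_of_ker {ψ : IrrCharacter G} (h : ∀ n ∈ N, (ψ : G → ℂ) n = (ψ : G → ℂ) 1) :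
    ∃ χ : IrrCharacter (G ⧸ N), inflate N χ = ψ := by
  obtain ⟨χ', -, hc, hirr⟩ := exists_deflate ψ.2.isCharacter' (QuotientGroup.mk' N)
    (QuotientGroup.mk'_surjective N) (fun k hk => h k (by rwa [QuotientGroup.ker_mk'] at hk))
  exact ⟨⟨χ', hirr ψ.2⟩, Subtype.ext hc⟩

theorem om_inflate (χ : IrrCharacter (G ⧸ N)) (f : G ⧸ N → ℂ) :
    om (inflate N χ : G → ℂ) (fun g => f (QuotientGroup.mk g)) =
      (Nat.card N : ℂ) * om (χ : G ⧸ N → ℂ) f := by
  haveI := Fintype.ofFinite N
  show (∑ g : G, f (QuotientGroup.mk g) * (χ : G ⧸ N → ℂ) (QuotientGroup.mk g)) /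
    (χ : G ⧸ N → ℂ) (QuotientGroup.mk (1 : G)) = _
  rw [QuotientGroup.mk_one, om, mul_div_assoc', Finset.mul_sum]
  congr 1
  rw [← Finset.sum_fiberwise Finset.univ (fun g : G => (QuotientGroup.mk g : G ⧸ N))]
  refine Finset.sum_congr rfl fun q _ => ?_
  obtain ⟨a, rfl⟩ := QuotientGroup.mk_surjective q
  have hcard : (Finset.univ.filter fun g : G => (QuotientGroup.mk g : G ⧸ N) = QuotientGroup.mk a).card
      = Nat.card N := by
    rw [← Fintype.card_subtype, ← Nat.card_eq_fintype_card]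
    exact Nat.card_congr (Equiv.subtypeEquiv (Equiv.mulLeft a⁻¹) fun g => by
      rw [Equiv.coe_mulLeft, eq_comm, QuotientGroup.eq])
  rw [Finset.sum_congr rfl (fun g hg => by rw [(Finset.mem_filter.1 hg).2] :
    ∀ g ∈ Finset.univ.filter (fun g : G => (QuotientGroup.mk g : G ⧸ N) = QuotientGroup.mk a),
      f (QuotientGroup.mk g) * (χ : G ⧸ N → ℂ) (QuotientGroup.mk g) =
        f (QuotientGroup.mk a) * (χ : G ⧸ N → ℂ) (QuotientGroup.mk a)),
    Finset.sum_const, hcard, nsmul_eq_mul]

/-- The class size in the quotient divides the class size. -/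
theorem index_centralizer_mk_dvd (g : G) :
    (Subgroup.centralizer ({(QuotientGroup.mk g : G ⧸ N)} : Set (G ⧸ N))).index ∣
      (Subgroup.centralizer ({g} : Set G)).index := by
  refine dvd_trans (Subgroup.index_dvd_of_le ?_)
    (Subgroup.index_map_dvd (Subgroup.centralizer ({g} : Set G)) (QuotientGroup.mk'_surjective N))
  rintro _ ⟨x, hx, rfl⟩
  rw [Subgroup.mem_centralizer_singleton_iff]
  show (QuotientGroup.mk x : G ⧸ N) * QuotientGroup.mk g = QuotientGroup.mk g * QuotientGroup.mk x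
  rw [← QuotientGroup.mk_mul, ← QuotientGroup.mk_mul, Subgroup.mem_centralizer_singleton_iff.1 hx]

theorem centralChar_inflate (g : G) : ∃ m : ℕ, ∀ χ : IrrCharacter (G ⧸ N),
    centralChar (inflate N χ : G → ℂ) g = (m : ℂ) * centralChar (χ : G ⧸ N → ℂ) (QuotientGroup.mk g) := by
  obtain ⟨m, hm⟩ := index_centralizer_mk_dvd N g
  refine ⟨m, fun χ => mul_right_cancel₀ (irr_one_ne_zero (inflate N χ)) ?_⟩
  rw [centralChar_mul_degree, inflate_apply, inflate_apply, QuotientGroup.mk_one, mul_assoc,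
    centralChar_mul_degree, hm]
  push_cast
  ring

/-- Inflation preserves lying in one block. -/
theorem sameBlock_inflate (hM : IsPModular p M) {χ χ' : IrrCharacter (G ⧸ N)}
    (h : SameBlock M (χ : G ⧸ N → ℂ) (χ' : G ⧸ N → ℂ)) :
    SameBlock M (inflate N χ : G → ℂ) (inflate N χ' : G → ℂ) := by
  rw [sameBlock_iff hM] at h ⊢
  intro g
  obtain ⟨m, hm⟩ := centralChar_inflate N g
  have key : ∀ ψ : IrrCharacter (G ⧸ N), ev hM (inflate N ψ) (cl hM g) =
      (m : ResField M) * ev hM ψ (cl hM (QuotientGroup.mk g : G ⧸ N)) := fun ψ => by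
    rw [ev_cl, ev_cl, ← map_natCast (res hM), ← map_mul]
    exact congrArg (res hM) (Subtype.ext (hm ψ))
  rw [key, key, h]

/-- Over a normal subgroup of order prime to `p` inflation also reflects lying in one block. -/
theorem sameBlock_of_inflate [Fact p.Prime] (hM : IsPModular p M) (hN : ¬ p ∣ Nat.card N)
    {χ χ' : IrrCharacter (G ⧸ N)}
    (h : SameBlock M (inflate N χ : G → ℂ) (inflate N χ' : G → ℂ)) :
    SameBlock M (χ : G ⧸ N → ℂ) (χ' : G ⧸ N → ℂ) := by
  haveI := nontrivial_resField hM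
  haveI : M.IsMaximal := hM.2.1
  letI : Field (ResField M) := @Ideal.Quotient.field _ _ M hM.2.1
  haveI := charP_resField hM
  rw [sameBlock_iff_ev hM] at h
  rw [sameBlock_iff hM]
  intro q
  have hf : IsClassFunction G (fun g => classInd q (QuotientGroup.mk g : G ⧸ N)) := fun g x => by
    show classInd q (QuotientGroup.mk (x * g * x⁻¹) : G ⧸ N) = classInd q (QuotientGroup.mk g)
    rw [QuotientGroup.mk_mul, QuotientGroup.mk_mul, QuotientGroup.mk_inv]
    exact classInd_classFunction q _ _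
  have hint : ∀ g : G, classInd q (QuotientGroup.mk g : G ⧸ N) ∈ locRing hM := fun g => by
    rw [classInd]; split_ifs
    · exact one_mem _
    · exact zero_mem _
  have key : ∀ ψ : IrrCharacter (G ⧸ N), ev hM (inflate N ψ) (ofFun hM _ hf hint) =
      (Nat.card N : ResField M) * ev hM ψ (cl hM q) := fun ψ => by
    rw [ev_cl, ← map_natCast (res hM), ← map_mul]
    refine congrArg (res hM) (Subtype.ext ?_)
    show om (inflate N ψ : G → ℂ) (fun g => classInd q (QuotientGroup.mk g : G ⧸ N)) = _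
    rw [om_inflate]
    simp [centralChar_eq_om]
  have e := h (ofFun hM _ hf hint)
  rw [key, key] at e
  exact mul_left_cancel₀ (fun h0 => hN ((CharP.cast_eq_zero_iff (ResField M) p _).1 h0)) e

end CfsgLib.Block
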