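import Cfsg.Agent.Lib.BlockPairBridge
import Cfsg.Agent.Lib.BlockDefect
import Cfsg.Agent.Lib.BlockOrbit
import Cfsg.Agent.Lib.BlockGroupMat
import Mathlib.LinearAlgebra.Trace
import Mathlib.LinearAlgebra.Matrix.ToLin

/-!
# Blocks of minimal dimension

If the block algebra over the residue field has dimension `|P|² / |D|` for a Sylow subgroup `P`,
its restriction to `P × P` is a transitive permutation module.  Consequently every `p`-subgroup
seen by the block has only fusion coming from a Sylow subgroup, and the block is nilpotent.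
-/

universe u

namespace CfsgLib.Block

open Cfsg CfsgLib.Char
open scoped ComplexConjugate Classical

section Fixed

variable {p : ℕ} [Fact p.Prime] {A : Type*} [Group A] [Finite A]
variable {k : Type*} [Field k] [CharP k p] {V : Type*} [AddCommGroup V] [Module k V]

/-- A `p`-group fixes a nonzero vector in every nonzero invariant subspace in characteristic
`p`. -/
theorem exists_fixed_vector (hA : IsPGroup p A) (ρ : A →* Module.End k V) (W : Submodule k V)
    (hinv : ∀ a, ∀ w ∈ W, ρ a w ∈ W) (hW : W ≠ ⊥) :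
    ∃ w ∈ W, w ≠ 0 ∧ ∀ a, ρ a w = w := by
  haveI := Fintype.ofFinite A
  haveI : NeZero p := ⟨(Fact.out : p.Prime).ne_zero⟩
  obtain ⟨w, hw, hw0⟩ := Submodule.exists_mem_ne_zero_of_ne_bot hW
  let F : (A → ZMod p) → V := fun n => ∑ a, (ZMod.cast (n a) : k) • ρ a w
  have hFW : ∀ n, F n ∈ W := fun n =>
    Submodule.sum_mem _ fun a _ => W.smul_mem _ (hinv a w hw)
  let S : Set V := Set.range F
  haveI : Finite S := Set.finite_range F
  have hact : ∀ (a : A) (v : V), v ∈ S → ρ a v ∈ S := by
    rintro a _ ⟨n, rfl⟩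
    refine ⟨fun b => n (a⁻¹ * b), ?_⟩
    simp only [F, map_sum, map_smul]
    refine (Fintype.sum_equiv (Equiv.mulLeft a) _ _ fun b => ?_).symm
    simp only [Equiv.coe_mulLeft, inv_mul_cancel_left, map_mul, Module.End.mul_apply]
  letI : MulAction A S :=
    { smul := fun a v => ⟨ρ a v, hact a v v.2⟩
      one_smul := fun v => Subtype.ext (show ρ 1 (v : V) = v by
        rw [map_one, Module.End.one_apply])
      mul_smul := fun a b v => Subtype.ext (show ρ (a * b) (v : V) = ρ a (ρ b v) by
        rw [map_mul, Module.End.mul_apply]) }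
  let c : ZMod p →+* k := ZMod.castHom dvd_rfl k
  have hc : ∀ z : ZMod p, (ZMod.cast z : k) = c z := fun z => (ZMod.castHom_apply z).symm
  let Fh : (A → ZMod p) →+ V :=
    { toFun := F
      map_zero' := by simp [F]
      map_add' := fun m n => by
        simp only [F, hc, Pi.add_apply, map_add, add_smul, Finset.sum_add_distrib] }
  have h0S : (0 : V) ∈ S := ⟨0, by simp [F]⟩
  have hwS : w ∈ S := by
    refine ⟨fun a => if a = 1 then 1 else 0, ?_⟩
    simp only [F, hc]
    rw [Finset.sum_eq_single 1]
    · simp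
    · intro b _ hb; simp [hb]
    · simp
  have hdvd : p ∣ Nat.card S := by
    have e : Nat.card S = Nat.card Fh.range := by
      simp only [S]
      rfl
    rw [e]
    obtain ⟨m, hm, hcard⟩ := (Nat.dvd_prime_pow (Fact.out : p.Prime)).1
      (show Nat.card Fh.range ∣ p ^ Fintype.card A by
        refine (AddSubgroup.card_dvd_of_surjective Fh.rangeRestrict Fh.rangeRestrict_surjective).trans ?_
        simp [Nat.card_eq_fintype_card])
    rw [hcard]
    refine dvd_pow_self p fun hm0 => hw0 ?_
    subst hm0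
    rw [pow_zero, Nat.card_eq_one_iff_unique] at hcard
    haveI : Subsingleton Fh.range := hcard.1
    exact congrArg Subtype.val
      (Subsingleton.elim (⟨w, hwS⟩ : Fh.range) ⟨0, zero_mem _⟩)
  obtain ⟨v, hv, hne⟩ := hA.exists_fixed_point_of_prime_dvd_card_of_fixed_point S hdvd
    (a := ⟨0, h0S⟩) fun a => Subtype.ext (map_zero (ρ a))
  obtain ⟨n, hn⟩ := v.2
  exact ⟨v, hn ▸ hFW n, fun h0 => hne (Subtype.ext h0.symm),
    fun a => congrArg Subtype.val (hv a)⟩

/-- An equivariant map of a transitive `p`-set is linearly independent as soon as the sum of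
its values is nonzero. -/
theorem linearIndependent_of_transitive (hA : IsPGroup p A) {Ω : Type*} [Fintype Ω]
    [MulAction A Ω] [MulAction.IsPretransitive A Ω] (ρ : A →* Module.End k V) (v : Ω → V)
    (heq : ∀ (a : A) (ω : Ω), v (a • ω) = ρ a (v ω)) (hsum : ∑ ω, v ω ≠ 0) :
    LinearIndependent k v := by
  by_contra hdep
  rw [Fintype.linearIndependent_iff] at hdep
  push Not at hdep
  obtain ⟨c, hc, i, hci⟩ := hdep
  let π : (Ω → k) →ₗ[k] V := Fintype.linearCombination k v
  let σ : A →* Module.End k (Ω → k) :=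
    { toFun := fun a => LinearMap.funLeft k k fun ω => a⁻¹ • ω
      map_one' := by ext f ω; simp [LinearMap.funLeft]
      map_mul' := fun a b => by
        apply LinearMap.ext
        intro f
        funext ω
        simp [LinearMap.funLeft, mul_smul] }
  have hπ : ∀ (a : A) (f : Ω → k), π (σ a f) = ρ a (π f) := fun a f => by
    simp only [π, Fintype.linearCombination_apply, map_sum, map_smul, ← heq]
    refine (Fintype.sum_equiv (MulAction.toPerm a) _ _ fun ω => ?_).symm
    simp [σ, LinearMap.funLeft]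
  obtain ⟨f, hf, hf0, hfix⟩ := exists_fixed_vector hA σ (LinearMap.ker π)
    (fun a f hf => by rw [LinearMap.mem_ker] at hf ⊢; rw [hπ, hf, map_zero])
    ((Submodule.ne_bot_iff _).2 ⟨c, by
      simpa [π, Fintype.linearCombination_apply] using hc, fun h => hci (congrFun h i)⟩)
  have hconst : ∀ ω, f ω = f i := fun ω => by
    obtain ⟨a, ha⟩ := MulAction.exists_smul_eq A i ω
    have := congrFun (hfix a) ω
    simp only [σ, MonoidHom.coe_mk, OneHom.coe_mk, LinearMap.funLeft_apply] at this
    rw [← this, ← ha, inv_smul_smul]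
  rw [LinearMap.mem_ker] at hf
  simp only [π, Fintype.linearCombination_apply, hconst, ← Finset.smul_sum, smul_eq_zero] at hf
  rcases hf with h | h
  · exact hf0 (funext fun ω => (hconst ω).trans h)
  · exact hsum h

end Fixed

/-- Reduction does not increase the rank of a matrix. -/
theorem finrank_range_map_le {X : Type*} [Fintype X] {A : Type*} [CommRing A] {k : Type*}
    [Field k] {K : Type*} [Field K] (π : A →+* k) (hπ : Function.Surjective π) (ι : A →+* K)
    (hι : Function.Injective ι) (E : Matrix X X A) :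
    Module.finrank k (LinearMap.range (E.map π).mulVecLin) ≤
      Module.finrank K (LinearMap.range (E.map ι).mulVecLin) := by
  set r := Module.finrank k (LinearMap.range (E.map π).mulVecLin)
  obtain b := Module.finBasis k (LinearMap.range (E.map π).mulVecLin)
  have hpre : ∀ i : Fin r, ∃ x : X → A, π ∘ (E.mulVec x) = (b i : X → k) := fun i => by
    obtain ⟨y, hy⟩ := LinearMap.mem_range.1 (b i).2
    obtain ⟨x, rfl⟩ : ∃ x : X → A, π ∘ x = y :=
      ⟨fun j => Function.surjInv hπ (y j), funext fun j => Function.surjInv_eq hπ (y j)⟩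
    refine ⟨x, ?_⟩
    rw [← hy, Matrix.mulVecLin_apply]
    funext j
    simp [Matrix.mulVec, dotProduct, map_sum]
  choose x hx using hpre
  have hli : LinearIndependent k fun i : Fin r => π ∘ (E.mulVec (x i)) := by
    simp only [hx]
    exact b.linearIndependent.map' (LinearMap.range (E.map π).mulVecLin).subtype
      (Submodule.ker_subtype _)
  let B := Module.Basis.extend hli.linearIndepOn_id
  let emb : Fin r → (hli.linearIndepOn_id.extend (Set.subset_univ _)) := fun i =>
    ⟨π ∘ (E.mulVec (x i)), hli.linearIndepOn_id.subset_extend _ ⟨i, rfl⟩⟩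
  have hemb : Function.Injective emb := fun i i' h =>
    hli.injective (congrArg Subtype.val h)
  let eX := B.indexEquiv (Pi.basisFun k X)
  have hlift : ∀ j : X, ∃ c : X → A, π ∘ c = B (eX.symm j) ∧
      ∀ i : Fin r, eX (emb i) = j → c = E.mulVec (x i) := fun j => by
    by_cases h : ∃ i : Fin r, eX (emb i) = j
    · obtain ⟨i, hi⟩ := h
      refine ⟨E.mulVec (x i), ?_, fun i' hi' => ?_⟩
      · rw [← hi, Equiv.symm_apply_apply]
        exact (Module.Basis.extend_apply_self hli.linearIndepOn_id (emb i)).symm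
      · obtain rfl : i' = i := hemb (eX.injective (hi'.trans hi.symm))
        rfl
    · exact ⟨fun l => Function.surjInv hπ (B (eX.symm j) l),
        funext fun l => Function.surjInv_eq hπ _, fun i hi => absurd ⟨i, hi⟩ h⟩
  choose L hL1 hL2 using hlift
  let Lm : Matrix X X A := Matrix.of fun l j => L j l
  have hcol : (Lm.map π).col = fun j => B (eX.symm j) := by
    funext j
    rw [← hL1 j]
    rfl
  have hdetk : π Lm.det ≠ 0 := by
    rw [RingHom.map_det, RingHom.mapMatrix_apply]
    refine ((Matrix.isUnit_iff_isUnit_det _).1 ?_).ne_zero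
    rw [← Matrix.linearIndependent_cols_iff_isUnit, hcol]
    exact B.linearIndependent.comp _ eX.symm.injective
  have hdetK : IsUnit (Lm.map ι) := by
    rw [Matrix.isUnit_iff_isUnit_det, isUnit_iff_ne_zero, ← RingHom.mapMatrix_apply,
      ← RingHom.map_det]
    intro h0
    rw [map_eq_zero_iff ι hι] at h0
    exact hdetk (by rw [h0, map_zero])
  rw [← Matrix.linearIndependent_cols_iff_isUnit] at hdetK
  have h2 := hdetK.comp (fun i : Fin r => eX (emb i))
    (eX.injective.comp hemb)
  have hmem : ∀ i : Fin r, ((Lm.map ι).col ∘ fun i => eX (emb i)) i ∈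
      LinearMap.range (E.map ι).mulVecLin := fun i => by
    refine LinearMap.mem_range.2 ⟨ι ∘ x i, ?_⟩
    funext l
    simp only [Function.comp_apply, Matrix.col_apply, Matrix.map_apply, Lm, Matrix.of_apply,
      hL2 _ i rfl, Matrix.mulVecLin_apply]
    simp [Matrix.mulVec, dotProduct, map_sum]
  have h3 : LinearIndependent K fun i : Fin r =>
      (⟨_, hmem i⟩ : LinearMap.range (E.map ι).mulVecLin) :=
    LinearIndependent.of_comp (LinearMap.range (E.map ι).mulVecLin).subtype h2
  simpa using h3.fintype_card_le_finrank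

section Block

variable {G : Type u} [Group G] [Fintype G] {p : ℕ} {M : Ideal AlgInt}

theorem res_surjective (hM : IsPModular p M) : Function.Surjective (res hM) := fun z => by
  obtain ⟨c, rfl⟩ := Ideal.Quotient.mk_surjective z
  exact ⟨_, res_algInt hM c⟩

/-- Twisted copy of `G × G`. -/
def Tw (G : Type u) : Type u := G × G

noncomputable instance : Fintype (Tw G) := inferInstanceAs (Fintype (G × G))

instance : MulAction (G × G) (Tw G) where
  smul s w := (s.1 * w.1 * s.2⁻¹, s.2 * w.2 * s.2⁻¹)
  one_smul w := by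
    show ((1 : G) * w.1 * (1 : G)⁻¹, (1 : G) * w.2 * (1 : G)⁻¹) = w
    simp only [one_mul, inv_one, mul_one]
    rfl
  mul_smul s t w := by
    show ((s.1 * t.1) * w.1 * (s.2 * t.2)⁻¹, (s.2 * t.2) * w.2 * (s.2 * t.2)⁻¹) =
      (s.1 * (t.1 * w.1 * t.2⁻¹) * s.2⁻¹, s.2 * (t.2 * w.2 * t.2⁻¹) * s.2⁻¹)
    simp [mul_assoc]

theorem tw_smul_fst (s : G × G) (w : Tw G) : (s • w).1 = s.1 * w.1 * s.2⁻¹ := rfl

theorem tw_smul_snd (s : G × G) (w : Tw G) : (s • w).2 = s.2 * w.2 * s.2⁻¹ := rfl

/-- Two-sided translation of functions. -/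
noncomputable def twoTrans (R : Type*) [CommRing R] :
    G × G →* Module.End R (G → R) where
  toFun s := LinearMap.funLeft R R fun g => s.1⁻¹ * g * s.2
  map_one' := by ext f g; simp [LinearMap.funLeft]
  map_mul' s t := by
    apply LinearMap.ext
    intro f
    funext g
    simp [LinearMap.funLeft, mul_assoc]

theorem twoTrans_apply {R : Type*} [CommRing R] (s : G × G) (f : G → R) (g : G) :
    twoTrans R s f g = f (s.1⁻¹ * g * s.2) := rfl

/-- The left translate of the block function by the product of a pair. -/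
noncomputable def twVec (hM : IsPModular p M) (B : Set (IrrCharacter G)) (w : Tw G) :
    G → ResField M := fun g => gFn hM B ((w.1 * w.2)⁻¹ * g)

theorem twVec_smul (hM : IsPModular p M) (B : Set (IrrCharacter G)) (s : G × G) (w : Tw G) :
    twVec hM B (s • w) = twoTrans (ResField M) s (twVec hM B w) := by
  funext g
  simp only [twVec, twoTrans_apply, tw_smul_fst, tw_smul_snd]
  rw [← gFn_classFunction hM B ((w.1 * w.2)⁻¹ * (s.1⁻¹ * g * s.2)) s.2]
  congr 1
  group

theorem gconv_gFn_comm (hM : IsPModular p M) (B : Set (IrrCharacter G)) (a : G → ResField M) :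
    gconv (gFn hM B) a = gconv a (gFn hM B) := by
  funext g
  refine Fintype.sum_equiv ((Equiv.inv G).trans (Equiv.mulRight g)) _ _ fun x => ?_
  simp only [Equiv.trans_apply, Equiv.inv_apply, Equiv.coe_mulRight]
  rw [mul_comm, show (x⁻¹ * g)⁻¹ * g = g⁻¹ * x * g from by group]
  congr 1
  rw [← gFn_classFunction hM B (g⁻¹ * x * g) g]
  congr 1
  group

theorem gconv_delta {R : Type*} [CommRing R] (x : G) (a : G → R) :
    gconv (fun h => if h = x then 1 else 0) a = fun g => a (x⁻¹ * g) := by
  funext g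
  simp [gconv, Finset.sum_ite_eq', ite_mul]

/-- The left ideal of the residual group algebra generated by the block function. -/
noncomputable def blockSpace (hM : IsPModular p M) (B : Set (IrrCharacter G)) :
    Submodule (ResField M) (G → ResField M) where
  carrier := {f | gconv (gFn hM B) f = f}
  add_mem' := fun {f h} hf hh => by
    show gconv _ (f + h) = f + h
    conv_rhs => rw [← hf, ← hh]
    funext g
    simp [gconv, mul_add, Finset.sum_add_distrib]
  zero_mem' := gconv_zero _
  smul_mem' := fun c f hf => by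
    show gconv _ (c • f) = c • f
    conv_rhs => rw [← hf]
    funext g
    simp [gconv, Finset.mul_sum, mul_left_comm]

theorem mem_blockSpace {hM : IsPModular p M} {B : Set (IrrCharacter G)} {f : G → ResField M} :
    f ∈ blockSpace hM B ↔ gconv (gFn hM B) f = f := Iff.rfl

theorem translate_mem_blockSpace (hM : IsPModular p M) {B : Set (IrrCharacter G)}
    (hB : IsPBlock M B) (x : G) :
    (fun g => gFn hM B (x⁻¹ * g)) ∈ blockSpace hM B := by
  rw [mem_blockSpace, ← gconv_delta x (gFn hM B), gconv_gFn_comm, gconv_assoc,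
    gFn_mul_self hB]

theorem twoTrans_mem_blockSpace (hM : IsPModular p M) {B : Set (IrrCharacter G)}
    {f : G → ResField M} (hf : f ∈ blockSpace hM B) (s : G × G) :
    twoTrans (ResField M) s f ∈ blockSpace hM B := by
  rw [mem_blockSpace] at hf ⊢
  conv_rhs => rw [← hf]
  funext g
  simp only [gconv, twoTrans_apply]
  refine Fintype.sum_equiv ((Equiv.mulLeft s.1⁻¹).trans (Equiv.mulRight s.1)) _ _ fun x => ?_
  simp only [Equiv.trans_apply, Equiv.coe_mulLeft, Equiv.coe_mulRight]
  have hcl := gFn_classFunction hM B x s.1⁻¹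
  rw [inv_inv] at hcl
  rw [hcl]
  congr 2
  group

/-- The dimension of the block space is at most the sum of the squares of the degrees. -/
theorem finrank_blockSpace_le (hM : IsPModular p M) {B : Set (IrrCharacter G)}
    (hB : IsPBlock M B) :
    letI : Field (ResField M) := @Ideal.Quotient.field _ _ M hM.2.1
    Module.finrank (ResField M) (blockSpace hM B) ≤
      ∑ᶠ χ ∈ B, charDegree (χ : G → ℂ) ^ 2 := by
  letI : Field (ResField M) := @Ideal.Quotient.field _ _ M hM.2.1
  show Module.finrank (ResField M) (blockSpace hM B) ≤ _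
  let E : Matrix G G (locRing hM) := ofCol fun g => ⟨blockCoeff B g, blockCoeff_mem hM hB g⟩
  have hEk : ∀ f, (E.map (res hM)).mulVec f = gconv (gFn hM B) f := fun f => by
    funext x
    simp only [Matrix.mulVec, dotProduct, Matrix.map_apply, E, ofCol, gconv]
    refine Fintype.sum_equiv ((Equiv.inv G).trans (Equiv.mulLeft x)) _ _ fun z => ?_
    simp only [Equiv.trans_apply, Equiv.inv_apply, Equiv.coe_mulLeft]
    rw [gFn, dif_pos (blockCoeff_mem hM hB _), show (x * z⁻¹)⁻¹ * x = z from by group]
  have hk : LinearMap.range (E.map (res hM)).mulVecLin = blockSpace hM B := by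
    ext f
    simp only [LinearMap.mem_range, Matrix.mulVecLin_apply, hEk, mem_blockSpace]
    exact ⟨fun ⟨y, hy⟩ => by rw [← hy, ← gconv_assoc, gFn_mul_self hB], fun h => ⟨f, h⟩⟩
  rw [← hk]
  refine (finrank_range_map_le (res hM) (res_surjective hM) (locRing hM).subtype
    Subtype.val_injective E).trans (le_of_eq ?_)
  set T := (E.map (locRing hM).subtype).mulVecLin
  have hTT : T * T = T := by
    apply LinearMap.ext
    intro f
    simp only [T, Module.End.mul_apply, Matrix.mulVecLin_apply, Matrix.mulVec_mulVec]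
    congr 1
    ext x z
    simp only [Matrix.mul_apply, Matrix.map_apply, E, ofCol, Subring.coe_subtype,
      blockCoeff_eq_coef]
    have hidem : indVal B * indVal B = indVal B :=
      congrArg Subtype.val (bIdem_sq hM hB)
    conv_rhs => rw [← hidem, coef_mul]
    unfold conv
    refine Fintype.sum_equiv ((Equiv.inv G).trans (Equiv.mulLeft x)) _ _ fun y => ?_
    simp only [Equiv.trans_apply, Equiv.inv_apply, Equiv.coe_mulLeft]
    congr 2
    group
  have hproj : LinearMap.IsProj (LinearMap.range T) T :=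
    ⟨fun f => LinearMap.mem_range_self T f, fun f hf => by
      obtain ⟨y, rfl⟩ := LinearMap.mem_range.1 hf
      exact LinearMap.congr_fun hTT y⟩
  have htr : LinearMap.trace ℂ (G → ℂ) T =
      ((∑ᶠ χ ∈ B, charDegree (χ : G → ℂ) ^ 2 : ℕ) : ℂ) := by
    simp only [T, ← Matrix.toLin'_apply', Matrix.trace_toLin'_eq, Matrix.trace,
      Matrix.diag_apply, Matrix.map_apply, E, ofCol, Subring.coe_subtype, mul_inv_cancel,
      Finset.sum_const, Finset.card_univ, nsmul_eq_mul, blockCoeff,
      Nat.card_eq_fintype_card]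
    rw [← mul_assoc, mul_inv_cancel₀ (Nat.cast_ne_zero.2 Fintype.card_ne_zero), one_mul,
      finsum_mem_eq_toFinset_sum _ B, finsum_mem_eq_toFinset_sum _ B, Nat.cast_sum]
    refine Finset.sum_congr rfl fun χ _ => ?_
    rw [irr_conj_one, Nat.cast_pow, charDegree_cast χ.2.isCharacter', sq]
  rw [hproj.trace] at htr
  exact Nat.cast_injective htr

/-- Left multiplication by the sum of a Sylow subgroup and a defect class does not annihilate
the block. -/
theorem sum_twVec_ne_zero [Fact p.Prime] (hM : IsPModular p M) {B : Set (IrrCharacter G)}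
    (hB : IsPBlock M B) {P : Subgroup G} (hP : IsPGroup p P) {x : G}
    (hx : IsDefectClass M B x) :
    ∑ w ∈ (Finset.univ : Finset (Tw G)).filter (fun w => w.1 ∈ P ∧ IsConj x w.2),
      twVec hM B w ≠ 0 := by
  letI : Field (ResField M) := @Ideal.Quotient.field _ _ M hM.2.1
  haveI := charP_resField hM
  intro h0
  let σ : G → ResField M := fun g => if g ∈ P then 1 else 0
  set b := bIdem hM hB
  have hcl : ∀ g, cred hM (cl hM x) g = if IsConj x g then 1 else 0 := fun g => by
    unfold cl
    rw [cred_ofFun]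
    by_cases hc : IsConj x g
    · rw [if_pos hc, ← map_one (res hM)]
      congr 1
      exact Subtype.ext (if_pos hc)
    · rw [if_neg hc, ← map_zero (res hM)]
      congr 1
      exact Subtype.ext (if_neg hc)
  have hby : gconv σ (cred hM (b * cl hM x)) = 0 := by
    rw [mul_comm, cred_mul_eq_gconv, ← gFn_block hM hB]
    funext g
    have h0g := congrFun h0 g
    rw [Pi.zero_apply] at h0g ⊢
    rw [← h0g, Finset.sum_apply]
    simp only [gconv, σ, hcl, ite_mul, one_mul, zero_mul, Finset.mul_sum, twVec]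
    rw [Finset.sum_filter, show (∑ a : Tw G, if a.1 ∈ P ∧ IsConj x a.2 then
      gFn hM B ((a.1 * a.2)⁻¹ * g) else 0) = ∑ a : G × G, if a.1 ∈ P ∧ IsConj x a.2 then
      gFn hM B ((a.1 * a.2)⁻¹ * g) else 0 from rfl, Fintype.sum_prod_type]
    refine Finset.sum_congr rfl fun u _ => ?_
    by_cases hu : u ∈ P
    · refine Finset.sum_congr rfl fun y _ => ?_
      simp [hu, mul_inv_rev, mul_assoc]
    · simp [hu]
  obtain ⟨χ, hχ⟩ := isPBlock_nonempty hM hB
  have hne : ev hM χ (cl hM x) ≠ 0 := ((isDefectClass_iff hM hB x).1 hx).2 χ hχ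
  obtain ⟨c, hc⟩ := res_surjective hM (ev hM χ (cl hM x))
  set y : intRing (G := G) hM := -(cst hM c * b)
  set z : intRing (G := G) hM := b * cl hM x + y
  have hz : ∀ ψ, ev hM ψ z = 0 := fun ψ => by
    simp only [z, y, map_add, map_neg, map_mul, ev_cst, hc, b, ev_bIdem]
    by_cases hψ : ψ ∈ B
    · rw [if_pos hψ, (sameBlock_iff hM χ ψ).1 (sameBlock_of_mem hM hB hχ hψ) x]
      ring
    · rw [if_neg hψ]
      ring
  set n := Fintype.card (IrrCharacter G)
  have hn : n ≠ 0 := Fintype.card_pos_iff.2 ⟨χ⟩ |>.ne'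
  obtain ⟨u, hu⟩ : b * cl hM x ∣ z ^ n - y ^ n := by
    have := sub_dvd_pow_sub_pow z y n
    simpa [z] using this
  have hcu : IsUnit (-c) :=
    isUnit_of_res_ne_zero hM (by rw [map_neg, hc, neg_ne_zero]; exact hne)
  obtain ⟨e, he⟩ := hcu
  have hbn : b ^ n = b := by
    obtain ⟨m, hm⟩ : ∃ m, n = m + 1 := ⟨n - 1, by omega⟩
    rw [hm]
    clear hm
    induction m with
    | zero => rw [pow_one]
    | succ m ih => rw [pow_succ, ih, bIdem_sq]
  have hy : y ^ n * cst hM (((e⁻¹ : (locRing hM)ˣ) : locRing hM) ^ n) = b := by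
    have hy' : y = cst hM (-c) * b := by simp [y]
    rw [hy', mul_pow, hbn, ← map_pow, mul_comm (cst hM _) b, mul_assoc, ← map_mul,
      ← mul_pow, ← he, Units.mul_inv, one_pow, map_one, mul_one]
  have hyn : cred hM (y ^ n) = cred hM (b * cl hM x * -u) := by
    have hzn := mem_redIdeal.1 (pow_mem_redIdeal hM z hz)
    have : y ^ n = z ^ n + b * cl hM x * -u := by rw [mul_neg, ← hu]; ring
    funext g
    rw [this, cred_add]
    rw [show cred hM (z ^ n) g = 0 from hzn g, zero_add]
  have hσe : gconv σ (gFn hM B) = 0 := by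
    rw [gFn_block hM hB, show bIdem hM hB = b from rfl, ← hy, cred_mul_eq_gconv, hyn,
      cred_mul_eq_gconv, ← gconv_assoc, ← gconv_assoc, hby, zero_gconv, zero_gconv]
  obtain ⟨f, hf, hf0, hfix⟩ := exists_fixed_vector (k := ResField M) hP
    ((twoTrans (ResField M)).comp ((MonoidHom.inl G G).comp P.subtype)) (blockSpace hM B)
    (fun s f hf => twoTrans_mem_blockSpace hM hf _)
    ((Submodule.ne_bot_iff _).2 ⟨gFn hM B, mem_blockSpace.2 (gFn_mul_self hB),
      gFn_ne_zero hM hB⟩)
  have hfix' : ∀ s ∈ P, ∀ g, f (s * g) = f g := fun s hs g => by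
    have := congrFun (hfix ⟨s⁻¹, inv_mem hs⟩) g
    simpa [twoTrans_apply] using this
  let h : G → ResField M := fun g =>
    if (Quotient.out (Quotient.mk (QuotientGroup.rightRel P) g)) = g then f g else 0
  have hσh : gconv σ h = f := by
    funext g
    set g₀ := Quotient.out (Quotient.mk (QuotientGroup.rightRel P) g)
    have hg₀ : g * g₀⁻¹ ∈ P := by
      have := Quotient.mk_out (s := QuotientGroup.rightRel P) g
      exact QuotientGroup.rightRel_apply.1 this
    simp only [gconv, σ, ite_mul, one_mul, zero_mul]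
    rw [Finset.sum_eq_single (g * g₀⁻¹)]
    · rw [if_pos hg₀]
      have e : (g * g₀⁻¹)⁻¹ * g = g₀ := by group
      have hq : Quotient.mk (QuotientGroup.rightRel P) g₀ =
          Quotient.mk (QuotientGroup.rightRel P) g := Quotient.out_eq _
      simp only [h, e, hq]
      rw [if_pos rfl, ← hfix' _ hg₀ g₀, inv_mul_cancel_right]
    · intro s _ hs
      split_ifs with hsP
      · simp only [h]
        rw [if_neg]
        intro heq
        refine hs ?_
        have hq : Quotient.mk (QuotientGroup.rightRel P) (s⁻¹ * g) =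
            Quotient.mk (QuotientGroup.rightRel P) g :=
          Quotient.sound (QuotientGroup.rightRel_apply.2 (by simpa using hsP))
        rw [hq] at heq
        show s = g * g₀⁻¹
        rw [show g₀ = s⁻¹ * g from heq]
        group
      · rfl
    · simp
  apply hf0
  rw [← mem_blockSpace.1 hf, ← hσh, ← gconv_assoc, gconv_gFn_comm, hσe, zero_gconv]

/-- In a block of minimal dimension, the normaliser of a subgroup seen by the block is generated
by a Sylow subgroup and the centraliser. -/
theorem exists_sylow_factor [Fact p.Prime] (hM : IsPModular p M) {B : Set (IrrCharacter G)}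
    (hB : IsPBlock M B)
    (hmin : ∑ᶠ χ ∈ B, charDegree (χ : G → ℂ) ^ 2 =
      p ^ (2 * (Nat.card G).factorization p - blockDefect p B))
    (P : Sylow p G) {Q : Subgroup G} (hQP : Q ≤ P) (hne : trc Q (gFn hM B) ≠ 0) {x₀ : G}
    (hx₀ : x₀ ∈ Subgroup.normalizer (Q : Set G)) :
    ∃ a ∈ (P : Subgroup G), a⁻¹ * x₀ ∈ Subgroup.centralizer (Q : Set G) := by
  letI : Field (ResField M) := @Ideal.Quotient.field _ _ M hM.2.1
  haveI := charP_resField hM
  obtain ⟨g₀, hg₀⟩ := exists_defectClass hM hB
  let A : Subgroup (G × G) := (P : Subgroup G).prod (P : Subgroup G)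
  have hcardA : Nat.card A = p ^ (2 * (Nat.card G).factorization p) := by
    rw [Nat.card_congr ((P : Subgroup G).prodEquiv (P : Subgroup G)).toEquiv, Nat.card_prod,
      P.card_eq_multiplicity, ← pow_add, two_mul]
  have hA : IsPGroup p A := IsPGroup.of_card hcardA
  let ρ := (twoTrans (G := G) (ResField M)).comp A.subtype
  let F := (Finset.univ : Finset (Tw G)).filter fun w => w.1 ∈ (P : Subgroup G) ∧ IsConj g₀ w.2
  obtain ⟨w, hwF, hw⟩ : ∃ w ∈ F, ∑ v : MulAction.orbit A w, twVec hM B (v : Tw G) ≠ 0 := by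
    by_contra hall
    push Not at hall
    apply sum_twVec_ne_zero hM hB P.isPGroup' hg₀
    rw [← Finset.sum_fiberwise_of_maps_to (g := fun w => MulAction.orbit A w)
      (t := F.image fun w => MulAction.orbit A w) (fun w hw => Finset.mem_image_of_mem _ hw)]
    refine Finset.sum_eq_zero fun O hO => ?_
    obtain ⟨w, hw, rfl⟩ := Finset.mem_image.1 hO
    rw [← hall w hw]
    refine Finset.sum_subtype _ (fun v => ?_) _
    simp only [Finset.mem_filter, Finset.mem_univ, true_and]
    refine ⟨fun h => h.2 ▸ MulAction.mem_orbit_self v, fun h => ⟨Finset.mem_filter.2 ⟨Finset.mem_univ _, ?_⟩, MulAction.orbit_eq_iff.2 h⟩⟩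
    obtain ⟨⟨⟨s, t⟩, hs, ht⟩, rfl⟩ := h
    obtain ⟨hw1, hw2⟩ := (Finset.mem_filter.1 hw).2
    exact ⟨mul_mem (mul_mem hs hw1) (inv_mem ht),
      hw2.trans (isConj_iff.2 ⟨t, rfl⟩)⟩
  have hli : LinearIndependent (ResField M) fun v : MulAction.orbit A w => twVec hM B v.1 :=
    linearIndependent_of_transitive hA ρ _
      (fun s v => twVec_smul hM B (s : G × G) v.1) hw
  have hmem : ∀ v : MulAction.orbit A w, twVec hM B v.1 ∈ blockSpace hM B := fun v =>
    translate_mem_blockSpace hM hB _
  let v' : MulAction.orbit A w → blockSpace hM B := fun v => ⟨_, hmem v⟩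
  have hli' : LinearIndependent (ResField M) v' :=
    LinearIndependent.of_comp (blockSpace hM B).subtype hli
  have hstab : ∃ j ≤ blockDefect p B, Nat.card (MulAction.stabilizer A w) = p ^ j := by
    obtain ⟨j, hj⟩ := IsPGroup.iff_card.1 (hA.to_subgroup (MulAction.stabilizer A w))
    refine ⟨j, ?_, hj⟩
    have hC : IsDefectClass M B w.2 := by
      obtain ⟨t, ht⟩ := isConj_iff.1 (Finset.mem_filter.1 hwF).2.2
      exact ht ▸ isDefectClass_conj hM hB t hg₀
    rw [← defectClass_factorization_centralizer hM hB hC,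
      ← (Fact.out : p.Prime).pow_dvd_iff_le_factorization Nat.card_pos.ne', ← hj]
    let f : MulAction.stabilizer A w →* Subgroup.centralizer ({w.2} : Set G) :=
      { toFun := fun s => ⟨(s.1 : G × G).2, by
          have h : ((s.1 : G × G) • w).2 = w.2 := congrArg Prod.snd s.2
          rw [tw_smul_snd] at h
          exact Subgroup.mem_centralizer_singleton_iff.2 (mul_inv_eq_iff_eq_mul.1 h)⟩
        map_one' := rfl
        map_mul' := fun _ _ => rfl }
    refine Subgroup.card_dvd_of_injective f fun s t hst => ?_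
    have h2 : (s.1 : G × G).2 = (t.1 : G × G).2 := congrArg Subtype.val hst
    have hs : ((s.1 : G × G) • w).1 = w.1 := congrArg Prod.fst s.2
    have ht : ((t.1 : G × G) • w).1 = w.1 := congrArg Prod.fst t.2
    rw [tw_smul_fst] at hs ht
    rw [h2] at hs
    replace hs := hs.trans ht.symm
    exact Subtype.ext (Subtype.ext (Prod.ext (mul_right_cancel (mul_right_cancel hs)) h2))
  have hge : p ^ (2 * (Nat.card G).factorization p - blockDefect p B) ≤
      Fintype.card (MulAction.orbit A w) := by
    obtain ⟨j, hj, hcard⟩ := hstab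
    have h := Nat.card_congr (MulAction.orbitProdStabilizerEquivGroup A w)
    rw [Nat.card_prod, hcard, hcardA] at h
    rw [← Nat.card_eq_fintype_card]
    refine Nat.le_of_mul_le_mul_right ?_ (pow_pos (Fact.out : p.Prime).pos j)
    rw [h, ← pow_add]
    exact Nat.pow_le_pow_right (Fact.out : p.Prime).pos (by
      have : blockDefect p B ≤ (Nat.card G).factorization p := by
        rw [blockDefect_eq]; exact Nat.sub_le _ _
      omega)
  have hfr : Fintype.card (MulAction.orbit A w) =
      Module.finrank (ResField M) (blockSpace hM B) :=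
    le_antisymm hli'.fintype_card_le_finrank
      ((finrank_blockSpace_le hM hB).trans (hmin ▸ hge))
  have hspan := hli'.span_eq_top_of_card_eq_finrank' hfr
  let m : blockSpace hM B := ⟨_, translate_mem_blockSpace hM hB x₀⟩
  obtain ⟨c, hc⟩ := (Submodule.mem_span_range_iff_exists_fun (ResField M)).1
    (hspan ▸ Submodule.mem_top : m ∈ Submodule.span (ResField M) (Set.range v'))
  have hc' : (fun g => gFn hM B (x₀⁻¹ * g)) =
      ∑ v : MulAction.orbit A w, c v • twVec hM B v.1 := by
    have := congrArg Subtype.val hc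
    simpa [m, v'] using this.symm
  have hxq : ∀ q ∈ Q, x₀ * q * x₀⁻¹ ∈ Q := fun q hq =>
    (Subgroup.mem_normalizer_iff.1 hx₀ q).1 hq
  let θ : Q →* A :=
    { toFun := fun q => ⟨(x₀ * q * x₀⁻¹, (q : G)), hQP (hxq q q.2), hQP q.2⟩
      map_one' := Subtype.ext (Prod.ext (by simp) rfl)
      map_mul' := fun q r => Subtype.ext (Prod.ext (by simp [mul_assoc]) rfl) }
  by_cases hfix : ∃ v : MulAction.orbit A w, ∀ q : Q, θ q • v = v
  · obtain ⟨⟨v, hvO⟩, hv⟩ := hfix
    have hv1 : v.1 ∈ (P : Subgroup G) := by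
      obtain ⟨⟨⟨s, t⟩, hs, ht⟩, hst⟩ := hvO
      rw [← hst]
      exact mul_mem (mul_mem hs (Finset.mem_filter.1 hwF).2.1) (inv_mem ht)
    refine ⟨v.1, hv1, Subgroup.mem_centralizer_iff.2 fun q hq => ?_⟩
    have h : ((θ ⟨q, hq⟩ : G × G) • v).1 = v.1 :=
      congrArg (fun z : MulAction.orbit A w => z.1.1) (hv ⟨q, hq⟩)
    rw [tw_smul_fst] at h
    change x₀ * q * x₀⁻¹ * v.1 * q⁻¹ = v.1 at h
    have h' : x₀ * q * x₀⁻¹ * v.1 = v.1 * q := mul_inv_eq_iff_eq_mul.1 h
    calc q * (v.1⁻¹ * x₀) = v.1⁻¹ * (v.1 * q) * v.1⁻¹ * x₀ := by group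
      _ = v.1⁻¹ * x₀ * q := by rw [← h']; group
  · exfalso
    apply hne
    have hinv : ∀ (q : Q) (v : MulAction.orbit A w), c (θ q • v) = c v := fun q => by
      have hm : twoTrans (ResField M) (θ q : G × G) (fun g => gFn hM B (x₀⁻¹ * g)) =
          fun g => gFn hM B (x₀⁻¹ * g) := by
        funext g
        show gFn hM B (x₀⁻¹ * ((x₀ * q * x₀⁻¹)⁻¹ * g * q)) = gFn hM B (x₀⁻¹ * g)
        rw [← gFn_classFunction hM B (x₀⁻¹ * g) (q : G)⁻¹]
        congr 1
        group
      rw [hc', map_sum] at hm
      simp only [map_smul, ← twVec_smul] at hm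
      have h2 : ∑ v : MulAction.orbit A w, (c v - c (θ q • v)) • twVec hM B (θ q • v).1 = 0 := by
        simp only [sub_smul, Finset.sum_sub_distrib]
        rw [sub_eq_zero]
        exact hm.trans (Fintype.sum_equiv (MulAction.toPerm (θ q))
          (fun v : MulAction.orbit A w => c (θ q • v) • twVec hM B (θ q • v).1)
          (fun v => c v • twVec hM B v.1) fun v => rfl).symm
      intro v
      have h3 := Fintype.linearIndependent_iff.1
        (hli.comp _ (MulAction.injective (θ q))) _ h2 v
      exact (sub_eq_zero.1 h3).symm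
    funext g
    show (if g ∈ Subgroup.centralizer (Q : Set G) then gFn hM B g else 0) = 0
    split_ifs with hg
    · have hg' := congrFun hc' (x₀ * g)
      simp only [inv_mul_cancel_left, Finset.sum_apply, Pi.smul_apply, smul_eq_mul] at hg'
      rw [hg']
      letI : MulAction Q (MulAction.orbit A w) := MulAction.compHom _ θ
      rw [sum_eq_sum_fixed (P := Q) (A := ResField M) (p := p) (P.isPGroup'.to_le hQP)
        (fun v : MulAction.orbit A w => c v * twVec hM B v.1 (x₀ * g)) (fun q v => ?_)]
      · exact Finset.sum_eq_zero fun v hv => absurd ⟨v, (Finset.mem_filter.1 hv).2⟩ hfix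
      · show c (θ q • v) * twVec hM B (θ q • v).1 (x₀ * g) = c v * twVec hM B v.1 (x₀ * g)
        rw [hinv, show (θ q • v).1 = (θ q : G × G) • v.1 from rfl, twVec_smul, twoTrans_apply]
        congr 2
        have hcq : (q : G) * g = g * q := Subgroup.mem_centralizer_iff.1 hg q q.2
        show (x₀ * q * x₀⁻¹)⁻¹ * (x₀ * g) * q = x₀ * g
        calc (x₀ * q * x₀⁻¹)⁻¹ * (x₀ * g) * q = x₀ * (q : G)⁻¹ * (g * q) := by group
          _ = x₀ * g := by rw [← hcq]; group
    · rfl

/-- A block of minimal dimension is nilpotent. -/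
theorem isNilpotentBlock_of_minimal [Fact p.Prime] (hM : IsPModular p M) {B : Set (IrrCharacter G)}
    (hB : IsPBlock M B)
    (hmin : ∑ᶠ χ ∈ B, charDegree (χ : G → ℂ) ^ 2 =
      p ^ (2 * (Nat.card G).factorization p - blockDefect p B)) :
    IsNilpotentBlock p M B := by
  refine ⟨hB, fun Q e hQe x hx _ hreg => ?_⟩
  have hpair := ((isBrauerPairOf_iff hM).1 hQe).2
  obtain ⟨P, hQP⟩ := hpair.1.1.exists_le_sylow
  obtain ⟨a, haP, hac⟩ := exists_sylow_factor hM hB hmin P hQP hpair.trc_ne_zero hx
  set N := Subgroup.normalizer (Q : Set G)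
  set C := Subgroup.centralizer (Q : Set G)
  have hCN : C ≤ N := le_sup_right.trans (sup_centralizer_le_normalizer Q)
  have haN : a ∈ N := by
    have : a = x * (a⁻¹ * x)⁻¹ := by group
    rw [this]; exact mul_mem hx (inv_mem (hCN hac))
  haveI : (C.subgroupOf N).Normal := ⟨fun c hc n => by
    rw [Subgroup.mem_subgroupOf] at hc ⊢
    exact (Subgroup.mem_normalizer_iff.1 (mem_normalizer_centralizer n.2) _).1 hc⟩
  let π := QuotientGroup.mk' (C.subgroupOf N)
  have hπ : π ⟨x, hx⟩ = π ⟨a, haN⟩ := by
    refine (QuotientGroup.eq.2 ?_).symm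
    rw [Subgroup.mem_subgroupOf]
    exact hac
  have h1 : orderOf (π ⟨x, hx⟩) ∣ orderOf x := by
    refine (orderOf_map_dvd π _).trans ?_
    rw [← Subgroup.orderOf_coe]
  obtain ⟨j, hj⟩ := P.isPGroup' ⟨a, haP⟩
  have hj' : a ^ p ^ j = 1 := congrArg Subtype.val hj
  have h2 : orderOf (π ⟨a, haN⟩) ∣ p ^ j := by
    refine (orderOf_map_dvd π _).trans ?_
    rw [← Subgroup.orderOf_coe]
    exact orderOf_dvd_of_pow_eq_one hj'
  have h3 : π ⟨x, hx⟩ = 1 := orderOf_eq_one_iff.1 <| by
    rw [← Nat.dvd_one]
    have hco : Nat.Coprime (p ^ j) (orderOf x) :=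
      Nat.Coprime.pow_left _ ((Fact.out : p.Prime).coprime_iff_not_dvd.2 hreg)
    exact hco ▸ Nat.dvd_gcd (hπ ▸ h2) h1
  exact (QuotientGroup.eq_one_iff (N := C.subgroupOf N) ⟨x, hx⟩).1 h3

end Block

end CfsgLib.Block
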