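import Cfsg.Agent.Lib.BlockBound
import Cfsg.Prelude.Def_BlockRank
import Mathlib.LinearAlgebra.Trace
import Mathlib.LinearAlgebra.Projection

/-!
# The rank of a block on the `p`-regular elements
-/

set_option autoImplicit false
set_option linter.style.haveILetI false
set_option linter.unusedSectionVars false

namespace CfsgLib.Block

open Cfsg CfsgLib.Char
open scoped ComplexConjugate Classical

universe u

variable {G : Type u} [Group G] [Fintype G] {p : ℕ} {M : Ideal AlgInt}

omit [Fintype G] in
theorem pRegularPart_eq (χ : G → ℂ) : pRegularPart p χ = regPart p χ := by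
  funext g
  simp only [pRegularPart, regPart, IsPRegular]
  split_ifs <;> simp_all

/-- The regular inner product. -/
noncomputable def regMat (p : ℕ) (χ ψ : IrrCharacter G) : ℂ :=
  classInner (regPart p (χ : G → ℂ)) (ψ : G → ℂ)

/-- The `p`-regular rank is the trace of the regular inner products. -/
theorem blockRank_cast (hM : IsPModular p M) {B : Set (IrrCharacter G)} (hB : IsPBlock M B) :
    (blockRank p B : ℂ) = ∑ χ, indVal B χ * regMat p χ χ := by
  let T : (IrrCharacter G → ℂ) →ₗ[ℂ] (IrrCharacter G → ℂ) :=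
    { toFun := fun c φ => indVal B φ * ∑ χ, indVal B χ * c χ * regMat p χ φ
      map_add' := fun c d => funext fun φ => by
        simp only [Pi.add_apply, mul_add, add_mul, Finset.sum_add_distrib]
      map_smul' := fun a c => funext fun φ => by
        simp only [Pi.smul_apply, smul_eq_mul, RingHom.id_apply, Finset.mul_sum]
        exact Finset.sum_congr rfl fun χ _ => by ring }
  let J : (IrrCharacter G → ℂ) →ₗ[ℂ] (G → ℂ) :=
    { toFun := fun c => ∑ χ, c χ • (χ : G → ℂ)
      map_add' := fun c d => by simp [add_smul, Finset.sum_add_distrib]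
      map_smul' := fun a c => by simp [smul_smul, Finset.smul_sum] }
  have hJ : Function.Injective J := by
    intro c d h
    funext ψ
    have h2 := congrArg (fun f => classInner f (ψ : G → ℂ)) h
    simpa [J, inner_sum_left, CfsgLib.Char.inner_smul_left, irr_classInner] using h2
  have hJT : ∀ c, J (T c) = ∑ χ, (indVal B χ * c χ) • regPart p (χ : G → ℂ) := by
    intro c
    simp only [J, T, LinearMap.coe_mk, AddHom.coe_mk, Finset.mul_sum, Finset.sum_smul]
    rw [Finset.sum_comm]
    refine Finset.sum_congr rfl fun χ _ => ?_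
    by_cases hχ : χ ∈ B
    · conv_rhs => rw [regPart_eq_sum_block hM hB hχ, Finset.smul_sum]
      refine Finset.sum_congr rfl fun φ _ => ?_
      rw [smul_smul]
      congr 1
      simp only [regMat]
      ring
    · simp [indVal, hχ]
  have hrange : LinearMap.range (J ∘ₗ T) = Submodule.span ℂ
      ((fun χ : IrrCharacter G => pRegularPart p (χ : G → ℂ)) '' B) := by
    apply le_antisymm
    · rintro _ ⟨c, rfl⟩
      rw [LinearMap.comp_apply, hJT]
      refine Submodule.sum_mem _ fun χ _ => ?_
      by_cases hχ : χ ∈ B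
      · exact Submodule.smul_mem _ _
          (Submodule.subset_span ⟨χ, hχ, pRegularPart_eq _⟩)
      · simp [indVal, hχ]
    · rw [Submodule.span_le]
      rintro _ ⟨χ, hχ, rfl⟩
      refine ⟨Pi.single χ 1, ?_⟩
      rw [LinearMap.comp_apply, hJT, Finset.sum_eq_single χ]
      · simp [indVal, hχ, pRegularPart_eq]
      · intro φ _ hne
        simp [hne]
      · exact fun h => absurd (Finset.mem_univ _) h
  have hrank : blockRank p B = Module.finrank ℂ (LinearMap.range T) := by
    rw [blockRank, ← hrange, LinearMap.range_comp]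
    exact (LinearEquiv.finrank_eq (Submodule.equivMapOfInjective J hJ (LinearMap.range T))).symm
  have hidem : ∀ c, T (T c) = T c := by
    intro c
    apply hJ
    rw [hJT, hJT]
    have h1 : ∑ χ, (indVal B χ * T c χ) • regPart p (χ : G → ℂ) =
        regPart p (J (T c)) := by
      funext g
      simp only [Finset.sum_apply, Pi.smul_apply, smul_eq_mul, regPart, J, LinearMap.coe_mk,
        AddHom.coe_mk]
      split_ifs
      · simp
      · refine Finset.sum_congr rfl fun χ _ => ?_
        simp only [T, LinearMap.coe_mk, AddHom.coe_mk, indVal]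
        split_ifs <;> ring
    rw [h1, hJT]
    funext g
    simp only [Finset.sum_apply, Pi.smul_apply, smul_eq_mul, regPart]
    split_ifs <;> simp
  have hproj : LinearMap.IsProj (LinearMap.range T) T :=
    ⟨fun c => LinearMap.mem_range_self T c, by rintro _ ⟨c, rfl⟩; exact hidem c⟩
  rw [hrank, ← hproj.trace, LinearMap.trace_eq_matrix_trace ℂ (Pi.basisFun ℂ _), Matrix.trace]
  refine Finset.sum_congr rfl fun χ _ => ?_
  simp only [Matrix.diag_apply, LinearMap.toMatrix_apply, Pi.basisFun_repr, Pi.basisFun_apply,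
    T, LinearMap.coe_mk, AddHom.coe_mk]
  rw [Finset.sum_eq_single χ]
  · simp only [Pi.single_eq_same, mul_one, indVal]
    split_ifs <;> simp
  · intro φ _ hne
    simp [hne]
  · exact fun h => absurd (Finset.mem_univ _) h

/-- The rank times the group order is the sum of squares on the regular elements. -/
theorem card_mul_blockRank (hM : IsPModular p M) {B : Set (IrrCharacter G)} (hB : IsPBlock M B) :
    (Nat.card G : ℂ) * (blockRank p B : ℂ) =
      ∑ χ, indVal B χ * ∑ g ∈ Finset.univ.filter (fun g => ¬ p ∣ orderOf g),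
        (χ : G → ℂ) g * conj ((χ : G → ℂ) g) := by
  rw [blockRank_cast hM hB, Finset.mul_sum]
  refine Finset.sum_congr rfl fun χ _ => ?_
  rw [regMat, classInner_regPart, mul_left_comm, ← mul_assoc (Nat.card G : ℂ),
    mul_inv_cancel₀ (natCard_ne_zero G), one_mul]

theorem blockRank_le_card (B : Set (IrrCharacter G)) : blockRank p B ≤ Nat.card B := by
  rw [blockRank, Nat.card_eq_fintype_card]
  refine le_trans (finrank_span_le_card _) ?_
  rw [Set.toFinset_image, ← Set.toFinset_card]
  exact Finset.card_image_le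

theorem blockRank_pos (hM : IsPModular p M) {B : Set (IrrCharacter G)} (hB : IsPBlock M B) :
    0 < blockRank p B := by
  obtain ⟨χ, hχ⟩ := isPBlock_nonempty hM hB
  rw [blockRank, Module.finrank_pos_iff_exists_ne_zero]
  refine ⟨⟨pRegularPart p (χ : G → ℂ), Submodule.subset_span ⟨χ, hχ, rfl⟩⟩, fun h => ?_⟩
  have h1 : pRegularPart p (χ : G → ℂ) 1 = 0 := congrFun (congrArg Subtype.val h) 1
  rw [pRegularPart_eq, regPart, if_neg (by rw [orderOf_one]; exact hM.1.not_dvd_one)] at h1
  exact irr_one_ne_zero χ h1

/-- A character vanishing at the `p`-singular elements has full `p`-part in its degree. -/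
theorem factorization_charDegree_of_vanish (hp : p.Prime) (χ : IrrCharacter G)
    (hv : ∀ g, p ∣ orderOf g → (χ : G → ℂ) g = 0) :
    (charDegree (χ : G → ℂ)).factorization p = (Nat.card G).factorization p := by
  refine le_antisymm (factorization_charDegree_le hp χ) ?_
  haveI : Fact p.Prime := ⟨hp⟩
  obtain ⟨P⟩ : Nonempty (Sylow p G) := inferInstance
  haveI := Fintype.ofFinite (P : Subgroup G)
  have hc : IsCharacter (P : Subgroup G) (fun h : (P : Subgroup G) => (χ : G → ℂ) h) :=
    isCharacter_restrict χ.2.isCharacter' _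
  obtain ⟨n, hn⟩ := inner_character_nat hc (trivIrr (P : Subgroup G)).2.isCharacter'
  have e : classInner (fun h : (P : Subgroup G) => (χ : G → ℂ) h)
      ((trivIrr (P : Subgroup G) : IrrCharacter (P : Subgroup G)) : ↥(P : Subgroup G) → ℂ) =
      (Nat.card (P : Subgroup G) : ℂ)⁻¹ * (χ : G → ℂ) 1 := by
    rw [classInner, Finset.sum_eq_single 1]
    · simp [trivIrr]
    · intro h _ hne
      have h0 : (χ : G → ℂ) (h : G) = 0 := hv _ (by
        rw [Subgroup.orderOf_coe]
        obtain ⟨j, hj⟩ := IsPGroup.iff_orderOf.1 P.2 h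
        rw [hj]
        refine dvd_pow_self p fun h0 => hne ?_
        rwa [h0, pow_zero, orderOf_eq_one_iff] at hj)
      rw [h0, zero_mul]
    · exact fun h => absurd (Finset.mem_univ _) h
  rw [e, inv_mul_eq_iff_eq_mul₀ (natCard_ne_zero _), ← charDegree_cast χ.2.isCharacter',
    P.card_eq_multiplicity, ← Nat.cast_mul, Nat.cast_inj] at hn
  refine (hp.pow_dvd_iff_le_factorization (charDegree_pos χ).ne').1 ?_
  rw [hn]
  exact Dvd.intro _ rfl

/-- The characterisations of defect zero. -/
theorem blockDefect_zero_of_card_eq_rank (hM : IsPModular p M) {B : Set (IrrCharacter G)}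
    (hB : IsPBlock M B) (h : Nat.card B = blockRank p B) : blockDefect p B = 0 := by
  have h1 := blockRank_cast hM hB
  rw [← h] at h1
  have hle : ∀ χ : IrrCharacter G, (regMat p χ χ).re ≤ 1 ∧ ((regMat p χ χ).re = 1 →
      ∀ g, p ∣ orderOf g → (χ : G → ℂ) g = 0) := by
    intro χ
    set S := ∑ g ∈ Finset.univ.filter (fun g => ¬ p ∣ orderOf g), Complex.normSq ((χ : G → ℂ) g)
    set U := ∑ g ∈ Finset.univ.filter (fun g => p ∣ orderOf g), Complex.normSq ((χ : G → ℂ) g)
    have hS : regMat p χ χ = (((Nat.card G : ℝ)⁻¹ * S : ℝ) : ℂ) := by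
      rw [regMat, classInner_regPart]
      simp [S, Complex.mul_conj]
    have hone : (Nat.card G : ℝ)⁻¹ * (U + S) = 1 := by
      have h2 := irr_inner_self χ.2
      unfold classInner at h2
      simp only [Complex.mul_conj] at h2
      rw [show U + S = ∑ g, Complex.normSq ((χ : G → ℂ) g) from
        Finset.sum_filter_add_sum_filter_not _ _ _]
      apply Complex.ofReal_injective
      push_cast
      exact h2
    have hU : 0 ≤ (Nat.card G : ℝ)⁻¹ * U :=
      mul_nonneg (by positivity) (Finset.sum_nonneg fun g _ => Complex.normSq_nonneg _)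
    rw [hS, Complex.ofReal_re]
    refine ⟨by nlinarith, fun h1 g hg => ?_⟩
    have hU0 : U = 0 := by
      have : (Nat.card G : ℝ)⁻¹ * U = 0 := by nlinarith
      exact (mul_eq_zero.1 this).resolve_left (inv_ne_zero (by simp [Nat.card_pos.ne']))
    rw [Finset.sum_eq_zero_iff_of_nonneg fun g _ => Complex.normSq_nonneg _] at hU0
    exact Complex.normSq_eq_zero.1 (hU0 g (by simp [hg]))
  have h2 : ∑ χ ∈ Finset.univ.filter (· ∈ B), (1 - (regMat p χ χ).re) = 0 := by
    rw [Finset.sum_sub_distrib, Finset.sum_const, nsmul_eq_mul, mul_one]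
    have h3 := congrArg Complex.re h1
    rw [Complex.natCast_re, Complex.re_sum] at h3
    rw [show (Finset.univ.filter (· ∈ B)).card = Nat.card B by
      rw [Nat.card_eq_fintype_card, Fintype.card_subtype], h3, Finset.sum_filter]
    rw [sub_eq_zero]
    refine Finset.sum_congr rfl fun χ _ => ?_
    unfold indVal
    split_ifs <;> simp
  rw [Finset.sum_eq_zero_iff_of_nonneg fun χ _ => sub_nonneg.2 (hle χ).1] at h2
  obtain ⟨χ, hχ, hm⟩ := exists_eq_blockMin hM hB
  rw [blockDefect_eq]
  have h4 := (hle χ).2 (sub_eq_zero.1 (h2 χ (by simp [hχ]))).symm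
  rw [← factorization_charDegree_of_vanish hM.1 χ h4, hm, Nat.sub_self]

theorem defect_zero_iff (hM : IsPModular p M) {B : Set (IrrCharacter G)} (hB : IsPBlock M B) :
    (blockDefect p B = 0 ↔ (Nat.card B = 1 ∧ blockRank p B = 1)) ∧
      (blockDefect p B = 0 ↔ Nat.card B = blockRank p B) := by
  have h1 : blockDefect p B = 0 → Nat.card B = 1 ∧ blockRank p B = 1 := by
    intro hd
    have hc := card_block_le hM hB
    rw [hd] at hc
    have hr := blockRank_le_card (p := p) B
    have hp' := blockRank_pos hM hB
    rw [mul_zero, pow_zero] at hc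
    omega
  exact ⟨⟨h1, fun h => blockDefect_zero_of_card_eq_rank hM hB (h.1.trans h.2.symm)⟩,
    ⟨fun h => (h1 h).1.trans (h1 h).2.symm, blockDefect_zero_of_card_eq_rank hM hB⟩⟩

end CfsgLib.Block
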