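import Cfsg.Agent.Lib.BlockMinDim
import Cfsg.Agent.Lib.BlockRank
import Cfsg.Agent.Lib.BlockSubsection
import Mathlib.RepresentationTheory.Irreducible
import Mathlib.RingTheory.SimpleModule.IsAlgClosed
import Mathlib.LinearAlgebra.Trace

/-!
# Simple modules over the residue field: their number in a block is at most the block rank
-/

set_option autoImplicit false
set_option linter.style.haveILetI false
set_option linter.unusedSectionVars false
set_option linter.unusedFintypeInType false

namespace CfsgLib.Block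

open Cfsg CfsgLib.Char
open scoped ComplexConjugate Classical MonoidAlgebra

universe u

theorem isAlgClosed_resField {p : ℕ} {M : Ideal AlgInt} (hM : IsPModular p M) :
    letI : Field (ResField M) := @Ideal.Quotient.field _ _ M hM.2.1
    IsAlgClosed (ResField M) := by
  letI : Field (ResField M) := @Ideal.Quotient.field _ _ M hM.2.1
  refine IsAlgClosed.of_exists_root _ fun q hq hirr => ?_
  obtain ⟨Q, hQ, -, hQm⟩ := Polynomial.lifts_and_degree_eq_and_monic
    (Polynomial.map_surjective (Ideal.Quotient.mk M) Ideal.Quotient.mk_surjective q) hq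
  have hdeg : (Q.map (algebraMap AlgInt ℂ)).degree ≠ 0 := by
    rw [hQm.degree_map, ← hQm.degree_map (Ideal.Quotient.mk M), hQ]
    exact (Polynomial.degree_pos_of_irreducible hirr).ne'
  obtain ⟨z, hz⟩ := IsAlgClosed.exists_root _ hdeg
  haveI : Algebra.IsIntegral ℤ AlgInt := integralClosure.AlgebraIsIntegral
  have hint : IsIntegral AlgInt z := ⟨Q, hQm, by rwa [← Polynomial.eval_map]⟩
  have hzi : IsIntegral ℤ z := isIntegral_trans _ hint
  refine ⟨Ideal.Quotient.mk M ⟨z, hzi⟩, ?_⟩
  have h0 : Q.eval (⟨z, hzi⟩ : AlgInt) = 0 := by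
    refine Subtype.ext ?_
    show algebraMap AlgInt ℂ (Q.eval _) = 0
    rw [← Polynomial.eval_map_apply]
    exact hz
  rw [← hQ]
  show (Q.map (Ideal.Quotient.mk M)).eval (Ideal.Quotient.mk M _) = 0
  rw [Polynomial.eval_map_apply, h0, map_zero]

section Alg

variable {G : Type u} [Group G] [Fintype G] {k : Type*} [Field k]
variable {V W : Type u} [AddCommGroup V] [Module k V] [AddCommGroup W] [Module k W]

/-- The action of a function on the group. -/
noncomputable def act (ρ : Representation k G V) (a : G → k) : Module.End k V :=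
  ∑ g, a g • ρ g

theorem act_apply (ρ : Representation k G V) (a : G → k) (v : V) :
    act ρ a v = ∑ g, a g • ρ g v := by
  simp [act, LinearMap.sum_apply]

theorem act_gconv (ρ : Representation k G V) (a b : G → k) :
    act ρ (gconv a b) = act ρ a * act ρ b := by
  rw [act, act, act, Finset.sum_mul]
  simp only [gconv, Finset.sum_smul]
  rw [Finset.sum_comm]
  refine Finset.sum_congr rfl fun x _ => ?_
  rw [Finset.mul_sum]
  refine Fintype.sum_equiv (Equiv.mulLeft x⁻¹) _ _ fun g => ?_
  show _ = (a x • ρ x) * (b (x⁻¹ * g) • ρ (x⁻¹ * g))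
  rw [smul_mul_smul_comm, ← map_mul, mul_inv_cancel_left]

theorem act_gone (ρ : Representation k G V) : act ρ gone = 1 := by
  simp [act, gone]

theorem act_add (ρ : Representation k G V) (a b : G → k) :
    act ρ (a + b) = act ρ a + act ρ b := by
  simp [act, add_smul, Finset.sum_add_distrib]

theorem act_smul (ρ : Representation k G V) (c : k) (a : G → k) :
    act ρ (c • a) = c • act ρ a := by
  simp [act, Finset.smul_sum, mul_smul]

theorem act_sum {ι : Type*} (ρ : Representation k G V) (s : Finset ι) (f : ι → G → k) :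
    act ρ (∑ i ∈ s, f i) = ∑ i ∈ s, act ρ (f i) := by
  simp only [act, Finset.sum_apply, Finset.sum_smul]
  exact Finset.sum_comm

theorem act_cnj (ρ : Representation k G V) {a : G → k} (ha : ∀ g x, a (x * g * x⁻¹) = a g) (y : G) :
    act ρ a * ρ y = ρ y * act ρ a := by
  simp only [act, Finset.sum_mul, Finset.mul_sum]
  refine Fintype.sum_equiv (MulAut.conj y⁻¹).toEquiv _ _ fun g => ?_
  rw [smul_mul_assoc, mul_smul_comm, ← map_mul, ← map_mul]
  show _ = a (y⁻¹ * g * y⁻¹⁻¹) • ρ (y * (y⁻¹ * g * y⁻¹⁻¹))
  rw [ha, inv_inv, mul_assoc y⁻¹, mul_inv_cancel_left]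

/-- Irreducibility. -/
def IrredRep (ρ : Representation k G V) : Prop :=
  Nontrivial V ∧ ∀ U : Submodule k V, (∀ g, ∀ v ∈ U, ρ g v ∈ U) → U = ⊥ ∨ U = ⊤

theorem IrredRep.isIrreducible {ρ : Representation k G V} (h : IrredRep ρ) : ρ.IsIrreducible where
  exists_pair_ne := by
    haveI := h.1
    refine ⟨⊥, ⊤, fun e => ?_⟩
    obtain ⟨x, hx⟩ := exists_ne (0 : V)
    have hb : x ∈ (⊥ : Subrepresentation ρ) := e ▸ (trivial : x ∈ (⊤ : Subrepresentation ρ))
    exact hx hb
  eq_bot_or_eq_top U := by
    rcases h.2 U.toSubmodule (fun g v hv => U.apply_mem_toSubmodule g hv) with h' | h'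
    · exact Or.inl (Subrepresentation.toSubmodule_injective h')
    · exact Or.inr (Subrepresentation.toSubmodule_injective h')

theorem IrredRep.scalar [IsAlgClosed k] [FiniteDimensional k V] {ρ : Representation k G V}
    (h : IrredRep ρ) (f : Module.End k V) (hf : ∀ g, f * ρ g = ρ g * f) :
    ∃ c : k, f = c • 1 := by
  haveI := h.1
  obtain ⟨c, hc⟩ := Module.End.exists_eigenvalue f
  refine ⟨c, ?_⟩
  rcases h.2 (LinearMap.ker (f - c • 1)) (fun g v hv => by
    rw [LinearMap.mem_ker] at hv ⊢
    simp only [LinearMap.sub_apply, LinearMap.smul_apply, Module.End.one_apply] at hv ⊢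
    have := congr($(hf g) v)
    simp only [Module.End.mul_apply] at this
    rw [this, ← map_smul, ← map_sub, hv, map_zero]) with h' | h'
  · exfalso
    obtain ⟨v, hv, hv0⟩ := hc.exists_hasEigenvector
    refine hv0 ?_
    have : v ∈ LinearMap.ker (f - c • 1) := by
      rw [LinearMap.mem_ker]
      simp only [LinearMap.sub_apply, LinearMap.smul_apply, Module.End.one_apply]
      rw [Module.End.mem_eigenspace_iff.1 hv, sub_self]
    rwa [h', Submodule.mem_bot] at this
  · exact sub_eq_zero.1 (LinearMap.ker_eq_top.1 h')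

/-- Burnside: the group algebra maps onto all endomorphisms. -/
theorem IrredRep.act_surjective [IsAlgClosed k] [FiniteDimensional k V]
    {ρ : Representation k G V} (h : IrredRep ρ) (f : Module.End k V) :
    ∃ a : G → k, act ρ a = f := by
  haveI := h.isIrreducible
  haveI hS : IsSimpleModule k[G] ρ.asModule :=
    (Representation.irreducible_iff_isSimpleModule_asModule ρ).1 h.isIrreducible
  let F : Module.End (Module.End k[G] ρ.asModule) ρ.asModule :=
    { toFun := fun v => f v
      map_add' := fun a b => f.map_add a b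
      map_smul' := fun φ v => by
        obtain ⟨c, rfl⟩ := (IsSimpleModule.algebraMap_end_bijective_of_isAlgClosed k).2 φ
        simp only [RingHom.id_apply, Module.End.smul_def, Module.algebraMap_end_apply]
        exact f.map_smul c v }
  let b := Module.finBasis k V
  obtain ⟨r, hr⟩ := jacobson_density F (Finset.univ.image fun i => (ρ.asModuleEquiv.symm (b i)))
  refine ⟨fun g => r.coeff g, b.ext fun i => ?_⟩
  have h1 := hr _ (Finset.mem_image_of_mem _ (Finset.mem_univ i))
  have h2 : F (ρ.asModuleEquiv.symm (b i)) = f (b i) := rfl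
  rw [h2] at h1
  rw [h1, act_apply]
  show _ = ρ.asAlgebraHom r (b i)
  rw [show ρ.asAlgebraHom r = ∑ g, r.coeff g • ρ g by
    rw [Representation.asAlgebraHom_def, MonoidAlgebra.lift_apply, Finsupp.sum_fintype]
    intro g; rw [zero_smul]]
  simp [LinearMap.sum_apply]

/-- A rank one operator. -/
noncomputable def rankOne (x : V) (φ : V →ₗ[k] k) : Module.End k V := φ.smulRight x

theorem rankOne_apply (x : V) (φ : V →ₗ[k] k) (v : V) : rankOne x φ v = φ v • x := rfl

/-- If the annihilator of one irreducible module annihilates another, they are isomorphic. -/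
theorem IrredRep.equiv_of_ker_le [IsAlgClosed k] [FiniteDimensional k V]
    {ρ : Representation k G V} {σ : Representation k G W} (hρ : IrredRep ρ) (hσ : IrredRep σ)
    (hker : ∀ a : G → k, act ρ a = 0 → act σ a = 0) :
    ∃ e : V ≃ₗ[k] W, ∀ g v, e (ρ g v) = σ g (e v) := by
  haveI := hρ.1
  haveI := hσ.1
  choose lift hlift using hρ.act_surjective
  have hwd : ∀ a a' : G → k, act ρ a = act ρ a' → act σ a = act σ a' := by
    intro a a' h
    have h1 : act ρ (a + (-1 : k) • a') = 0 := by rw [act_add, act_smul, h]; module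
    have h2 := hker _ h1
    rw [act_add, act_smul, neg_one_smul, ← sub_eq_add_neg, sub_eq_zero] at h2
    exact h2
  let b := Module.finBasis k V
  let φ : V →ₗ[k] k := b.coord ⟨0, Module.finrank_pos⟩
  let T : Module.End k V → Module.End k W := fun A => act σ (lift A)
  have hTadd : ∀ A B, T (A + B) = T A + T B := fun A B => by
    simp only [T, ← act_add]; exact hwd _ _ (by rw [act_add, hlift, hlift, hlift])
  have hTsmul : ∀ (c : k) A, T (c • A) = c • T A := fun c A => by
    simp only [T, ← act_smul]; exact hwd _ _ (by rw [act_smul, hlift, hlift])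
  have hTmul : ∀ g A, T (ρ g * A) = σ g * T A := fun g A => by
    have h0 : ∀ {U : Type u} [AddCommGroup U] [Module k U] (τ : Representation k G U),
        act τ (fun x => if x = g then 1 else 0) = τ g := fun τ => by simp [act]
    simp only [T]
    rw [← h0 σ, ← act_gconv]
    exact hwd _ _ (by rw [act_gconv, hlift, hlift, h0])
  have hTone : T 1 = 1 := by
    simp only [T]
    rw [← act_gone σ]
    exact hwd _ _ (by rw [hlift, act_gone])
  obtain ⟨w₀, hw₀⟩ : ∃ w₀ : W, ∃ x, T (rankOne x φ) w₀ ≠ 0 := by
    by_contra hcon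
    push Not at hcon
    obtain ⟨w, hw⟩ := exists_ne (0 : W)
    refine hw ?_
    have hone : (1 : Module.End k V) = ∑ i, rankOne (b i) φ *
        rankOne (b ⟨0, Module.finrank_pos⟩) (b.coord i) := by
      refine LinearMap.ext fun v => ?_
      simp only [Module.End.one_apply, LinearMap.sum_apply, Module.End.mul_apply, rankOne_apply,
        map_smul, φ, Module.Basis.coord_apply, Module.Basis.repr_self, Finsupp.single_eq_same,
        smul_smul, one_mul, mul_one]
      exact (b.sum_repr v).symm
    have hTmulgen : ∀ A B, T (A * B) = T A * T B := fun A B => by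
      simp only [T, ← act_gconv]; exact hwd _ _ (by rw [act_gconv, hlift, hlift, hlift])
    let TL : Module.End k V →ₗ[k] Module.End k W := ⟨⟨T, hTadd⟩, hTsmul⟩
    calc w = T 1 w := by rw [hTone]; rfl
      _ = TL 1 w := rfl
      _ = 0 := by
        rw [hone, map_sum, LinearMap.sum_apply]
        refine Finset.sum_eq_zero fun i _ => ?_
        show T _ w = 0
        rw [hTmulgen]
        exact hcon _ _
  let e : V →ₗ[k] W :=
    { toFun := fun x => T (rankOne x φ) w₀
      map_add' := fun x y => by
        rw [show rankOne (x + y) φ = rankOne x φ + rankOne y φ from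
          LinearMap.ext fun v => smul_add _ _ _, hTadd]; rfl
      map_smul' := fun c x => by
        rw [show rankOne (c • x) φ = c • rankOne x φ from
          LinearMap.ext fun v => smul_comm _ _ _, hTsmul]; rfl }
  have heq : ∀ g v, e (ρ g v) = σ g (e v) := fun g v => by
    show T _ w₀ = σ g (T _ w₀)
    rw [show rankOne (ρ g v) φ = ρ g * rankOne v φ from LinearMap.ext fun u => (map_smul _ _ _).symm,
      hTmul]
    rfl
  obtain ⟨x, hx⟩ := hw₀
  refine ⟨LinearEquiv.ofBijective e ⟨?_, ?_⟩, heq⟩
  · rcases hρ.2 (LinearMap.ker e) (fun g v hv => by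
      rw [LinearMap.mem_ker] at hv ⊢; rw [heq, hv, map_zero]) with h' | h'
    · exact LinearMap.ker_eq_bot.1 h'
    · exact absurd (LinearMap.congr_fun (LinearMap.ker_eq_top.1 h') x) hx
  · rcases hσ.2 (LinearMap.range e) (fun g w hw => by
      obtain ⟨v, rfl⟩ := hw; exact ⟨ρ g v, heq g v⟩) with h' | h'
    · exact absurd ((Submodule.mem_bot k).1 (h' ▸ LinearMap.mem_range_self e x)) hx
    · exact LinearMap.range_eq_top.1 h'

theorem IrredRep.two_sided [IsAlgClosed k] [FiniteDimensional k V] {ρ : Representation k G V}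
    (hρ : IrredRep ρ) {a : G → k} (ha : act ρ a ≠ 0) (x : V) (φ : V →ₗ[k] k) :
    ∃ b c : G → k, act ρ (gconv (gconv b a) c) = rankOne x φ := by
  obtain ⟨y, hy⟩ : ∃ y, act ρ a y ≠ 0 := by
    by_contra h; push Not at h; exact ha (LinearMap.ext h)
  obtain ⟨ψ, hψ, -⟩ := Submodule.exists_dual_map_eq_bot_of_notMem
    (show act ρ a y ∉ (⊥ : Submodule k V) by rwa [Submodule.mem_bot]) inferInstance
  obtain ⟨b, hb⟩ := hρ.act_surjective ((ψ (act ρ a y))⁻¹ • rankOne x ψ)
  obtain ⟨c, hc⟩ := hρ.act_surjective (rankOne y φ)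
  refine ⟨b, c, ?_⟩
  rw [act_gconv, act_gconv, hb, hc]
  refine LinearMap.ext fun v => ?_
  simp only [Module.End.mul_apply, LinearMap.smul_apply, rankOne_apply, map_smul, smul_smul]
  rw [show φ v * ((ψ (act ρ a y))⁻¹ * ψ (act ρ a y)) = φ v by rw [inv_mul_cancel₀ hψ, mul_one]]

end Alg

section Trace

variable {G : Type u} [Group G] [Fintype G] {k : Type*} [Field k] [IsAlgClosed k]

/-- Pairwise non-isomorphic irreducible modules have independent trace functions. -/
theorem linearIndependent_trace {ι : Type*} [Fintype ι] (V : ι → Type u)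
    [∀ i, AddCommGroup (V i)] [∀ i, Module k (V i)] [∀ i, FiniteDimensional k (V i)]
    (ρ : ∀ i, Representation k G (V i)) (hirr : ∀ i, IrredRep (ρ i))
    (hne : ∀ i j, i ≠ j → ¬ ∃ e : V i ≃ₗ[k] V j, ∀ g v, e (ρ i g v) = ρ j g (e v)) :
    LinearIndependent k fun i => fun g : G => LinearMap.trace k (V i) (ρ i g) := by
  rw [Fintype.linearIndependent_iff]
  intro c hc i
  haveI := (hirr i).1
  let b := Module.finBasis k (V i)
  let i₀ : Fin (Module.finrank k (V i)) := ⟨0, Module.finrank_pos⟩
  let π := rankOne (b i₀) (b.coord i₀)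
  have hπ : π * π = π := by
    refine LinearMap.ext fun v => ?_
    simp [π, rankOne_apply]
  have key : ∀ s : Finset ι, i ∉ s →
      ∃ a : G → k, act (ρ i) a = π ∧ ∀ j ∈ s, act (ρ j) a = 0 := by
    intro s
    induction s using Finset.induction_on with
    | empty =>
      intro _
      obtain ⟨a, ha⟩ := (hirr i).act_surjective π
      exact ⟨a, ha, by simp⟩
    | insert j t hj ih =>
      intro hi
      rw [Finset.mem_insert, not_or] at hi
      obtain ⟨a, ha, ha'⟩ := ih hi.2
      obtain ⟨d, hd, hd'⟩ : ∃ d, act (ρ j) d = 0 ∧ act (ρ i) d ≠ 0 := by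
        by_contra hcon
        push Not at hcon
        exact hne j i (Ne.symm hi.1) ((hirr j).equiv_of_ker_le (hirr i) hcon)
      obtain ⟨x, y, hxy⟩ := (hirr i).two_sided hd' (b i₀) (b.coord i₀)
      refine ⟨gconv a (gconv (gconv x d) y), by rw [act_gconv, ha, hxy, hπ], fun j' hj' => ?_⟩
      rw [act_gconv]
      rcases Finset.mem_insert.1 hj' with rfl | hj'
      · rw [act_gconv, act_gconv, hd, mul_zero, zero_mul, mul_zero]
      · rw [ha' j' hj', zero_mul]
  obtain ⟨a, ha, ha'⟩ := key (Finset.univ.erase i) (Finset.notMem_erase i _)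
  have htr : ∀ j, ∑ g, a g * LinearMap.trace k (V j) (ρ j g) =
      LinearMap.trace k (V j) (act (ρ j) a) := fun j => by
    simp [act, map_sum]
  have h0 : ∑ g, a g * (∑ j, c j • fun g : G => LinearMap.trace k (V j) (ρ j g)) g = 0 := by
    rw [hc]; simp
  simp only [Finset.sum_apply, Pi.smul_apply, smul_eq_mul, Finset.mul_sum] at h0
  rw [Finset.sum_comm] at h0
  simp only [mul_left_comm, ← Finset.mul_sum, htr] at h0
  rw [Finset.sum_eq_single i, ha] at h0
  · rwa [show LinearMap.trace k (V i) π = 1 by
      simp [π, rankOne, LinearMap.trace_smulRight], mul_one] at h0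
  · intro j _ hj
    rw [ha' j (Finset.mem_erase.2 ⟨hj, Finset.mem_univ j⟩), map_zero, mul_zero]
  · exact fun h => absurd (Finset.mem_univ i) h

end Trace

end CfsgLib.Block
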