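import Cfsg.Agent.Lib.BlockFusionSat

/-!
# Nilpotent blocks
-/

set_option autoImplicit false

universe u

namespace CfsgLib.Block

open Cfsg CfsgLib.Char CfsgLib.Fusion Cfsg.FusionSystem
open scoped Classical

variable {G : Type u} [Group G] [Fintype G] {p : ℕ} {M : Ideal AlgInt} {hM : IsPModular p M}
  {B : Set (IrrCharacter G)} {P : Subgroup G} {ψ : G → ResField M}

theorem stabilizes_iff_cnj {Q : Subgroup G}
    {f : Set (IrrCharacter (Subgroup.centralizer (Q : Set G)))} (hf : IsPBlock M f) {x : G}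
    (hx : x ∈ Subgroup.normalizer (Q : Set G)) :
    StabilizesBlock (Subgroup.centralizer (Q : Set G)) f x ↔
      cnj x (pFn hM Q f) = pFn hM Q f := by
  rw [stabilizesBlock_iff hM hf]
  exact ⟨fun h => h.2, fun h => ⟨mem_normalizer_centralizer hx, h⟩⟩

theorem nilpotent_pair_regular (hnil : IsNilpotentBlock p M B) {Q : Subgroup G}
    {φ : G → ResField M} (hQ : PairIn hM B Q φ) {x : G}
    (hx : x ∈ Subgroup.normalizer (Q : Set G)) (hfix : cnj x φ = φ) (hreg : IsPRegular p x) :
    x ∈ Subgroup.centralizer (Q : Set G) := by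
  obtain ⟨f, hf, rfl⟩ := hQ.1.exists_block hM
  exact hnil.2 Q f ((isBrauerPairOf_iff hM).2 ⟨hf, hQ⟩) x hx
    ((stabilizes_iff_cnj hf hx).2 hfix) hreg

variable [Fact p.Prime]

theorem autGroup_isPGroup_of_nilpotent (hψ : MaxPair hM B P ψ) (hnil : IsNilpotentBlock p M B)
    {Q : Subgroup G} (hQ : Q ≤ P) : IsPGroup p ((blockFusion hψ.1.1).autGroup Q) := by
  rintro ⟨α, hα⟩
  obtain ⟨g, hg, γ, h1, h2⟩ := blockFusion_map_iff.mp ((mem_autGroup_iff hQ).mp hα)
  have hgn : g ∈ Subgroup.normalizer (Q : Set G) := mem_normalizer_of_conj_mem fun x hx => by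
    rw [← hg x hx]; exact autFun_mem α hx
  rw [map_conj_eq_self hgn] at h2
  have hfix : cnj g γ = γ := Chain.unique hψ.1.1 h2 h1
  have hαg : α = conjAut Q ⟨g, hgn⟩ := autFun_inj fun x hx => by
    rw [hg x hx, autFun_apply _ hx]; rfl
  obtain ⟨m, a, hm, hma⟩ := exists_pPower_split (p := p) (β := g)
  refine ⟨a, Subtype.ext ?_⟩
  show α ^ p ^ a = 1
  rw [hαg, ← map_pow]
  refine autFun_inj fun x hx => ?_
  rw [autFun_apply _ hx]
  show g ^ p ^ a * x * (g ^ p ^ a)⁻¹ = autFun 1 x
  rw [autFun_one hx]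
  have hreg : IsPRegular p (g ^ p ^ a) := fun hd => hm (hd.trans (orderOf_dvd_of_pow_eq_one (by
    rw [← pow_mul, mul_comm, pow_mul]; exact hma)))
  have hpow : g ^ p ^ a ∈ Subgroup.centralizer (Q : Set G) :=
    nilpotent_pair_regular hnil ((h1.pairIn_iff B).1 hψ.1) (pow_mem hgn _)
      ((stabSub γ).pow_mem (show g ∈ stabSub γ from hfix) _) hreg
  rw [← Subgroup.mem_centralizer_iff.1 hpow x hx, mul_inv_cancel_right]

theorem blockFusion_map_inner (hψ : MaxPair hM B P ψ) (hnil : IsNilpotentBlock p M B)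
    {Q : Subgroup G} {f : G → G} (hf : Map (blockFusion hψ.1.1) Q f) :
    Map (innerFusionSystem P) Q f := by
  refine alperin hψ.1.1.1 (blockFusion_saturated hψ)
    (propagates_map (blockFusion hψ.1.1) (innerFusionSystem P)) (fun R hR α hα => ?_) hf
  have hfn : (blockFusion hψ.1.1).IsFullyNormalized R := by
    rcases hR with rfl | hR
    · exact isFullyNormalized_top _
    · exact hR.2.1
  haveI := CfsgLib.Fusion.finite_autGroup (blockFusion hψ.1.1) hfn.1
  obtain ⟨hRP, hi⟩ := (isFullyAutomized_iff hψ.1.1.1).mp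
    (isFullyAutomized_of_fullyNormalized hψ.1.1.1 (blockFusion_saturated hψ) hfn)
  obtain ⟨k, hk⟩ := (IsPGroup.iff_card).mp (autGroup_isPGroup_of_nilpotent hψ hnil hfn.1)
  obtain ⟨j, -, hj⟩ := (Nat.dvd_prime_pow hM.1).mp (hk ▸ Subgroup.index_dvd_card
    ((autInducedBy P R).subgroupOf ((blockFusion hψ.1.1).autGroup R)))
  rcases j with _ | j
  · rw [pow_zero, Subgroup.index_eq_one, Subgroup.subgroupOf_eq_top] at hj
    obtain ⟨u, hu, -, he⟩ := mem_autInducedBy_iff.mp (hj hα)
    exact (CfsgLib.Fusion.map_conj hRP hu).congr fun x hx => (he x hx).symm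
  · exact absurd (hj ▸ dvd_pow_self p j.succ_ne_zero) hi

theorem blockFusion_hom_eq_inner_iff (hψ : MaxPair hM B P ψ) :
    (∀ Q : Subgroup G, (blockFusion hψ.1.1).Hom Q = (innerFusionSystem P).Hom Q) ↔
      IsNilpotentBlock p M B := by
  constructor
  · intro h
    refine ⟨hψ.1.2.1, fun Q e hQe x hx hst hreg => ?_⟩
    obtain ⟨he, hQ⟩ := (isBrauerPairOf_iff hM).1 hQe
    obtain ⟨t, ht⟩ := hψ.exists_conj_chain hQ
    set Q' := Q.map (MulAut.conj t).toMonoidHom
    set y := t * x * t⁻¹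
    have hfix : cnj y (cnj t (pFn hM Q e)) = cnj t (pFn hM Q e) := by
      conv_rhs => rw [← (stabilizes_iff_cnj (hM := hM) he hx).1 hst]
      rw [cnj_cnj, cnj_cnj]
      congr 1
      simp [y]
    have hy : y ∈ Subgroup.normalizer (Q' : Set G) := mem_normalizer_of_conj_mem (by
      rintro _ ⟨q, hq, rfl⟩
      exact ⟨x * q * x⁻¹, conj_mem_of_mem_normalizer hx hq, by simp [y, mul_assoc]⟩)
    have hmem : conjHom Q' y ∈ (blockFusion hψ.1.1).Hom Q' := by
      refine ⟨y, fun _ => rfl, _, ht, ?_⟩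
      rw [map_conj_eq_self hy, hfix]
      exact ht
    rw [h Q'] at hmem
    obtain ⟨hQ'P, u, hu, hue⟩ := hmem
    have hun : u ∈ Subgroup.normalizer (Q' : Set G) := mem_normalizer_of_conj_mem fun q hq => by
      have h1 : y * q * y⁻¹ = u * q * u⁻¹ := hue ⟨q, hq⟩
      rw [← h1]
      exact conj_mem_of_mem_normalizer hy hq
    have heq : conjAut Q' ⟨y, hy⟩ = conjAut Q' ⟨u, hun⟩ :=
      MulEquiv.ext fun q => Subtype.ext (hue q)
    obtain ⟨k, hk⟩ := IsPGroup.iff_orderOf.mp hψ.1.1.1 ⟨u, hu⟩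
    rw [Subgroup.orderOf_mk] at hk
    have hy1 : orderOf (conjAut Q' ⟨y, hy⟩) ∣ orderOf x := by
      refine (orderOf_map_dvd _ _).trans ?_
      rw [Subgroup.orderOf_mk]
      exact (orderOf_map_dvd (MulAut.conj t).toMonoidHom x)
    have hy2 : orderOf (conjAut Q' ⟨y, hy⟩) ∣ p ^ k := by
      rw [heq, ← hk, ← Subgroup.orderOf_mk u hun]
      exact orderOf_map_dvd _ _
    have hone : conjAut Q' ⟨y, hy⟩ = 1 := orderOf_eq_one_iff.1 (Nat.eq_one_of_dvd_coprimes
      (Nat.Coprime.pow_left k (hM.1.coprime_iff_not_dvd.2 hreg)) hy2 hy1)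
    refine Subgroup.mem_centralizer_iff.2 fun q hq => ?_
    have h2 : y * (t * q * t⁻¹) * y⁻¹ = t * q * t⁻¹ :=
      congrArg (fun β : MulAut Q' => ((β ⟨t * q * t⁻¹, q, hq, rfl⟩ : Q') : G)) hone
    have h3 : x * q * x⁻¹ = q := by
      have h4 : t * (x * q * x⁻¹) * t⁻¹ = t * q * t⁻¹ := by
        rw [← h2]; simp [y, mul_assoc]
      exact mul_left_cancel (mul_right_cancel h4)
    exact (mul_inv_eq_iff_eq_mul.1 h3).symm
  · intro hnil Q
    ext φ
    constructor
    · exact fun hφ => (blockFusion_map_inner hψ hnil (map_ext hφ)).mem_hom fun x => (ext_coe φ x).symm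
    · rintro ⟨hQ, u, hu, hue⟩
      have : φ = conjHom Q u := MonoidHom.ext hue
      rw [this]
      exact (blockFusion hψ.1.1).conj_mem hQ hu

omit [Fact p.Prime] in
/-- A pair of a block of `C(Q)` gives a pair of `G` above the pair on `Q`. -/
theorem nSub_of_centralizer_pair {Q : Subgroup G}
    {f : Set (IrrCharacter (Subgroup.centralizer (Q : Set G)))}
    [Fintype (Subgroup.centralizer (Q : Set G))] (hQ : IsPGroup p Q) (hf : IsPBlock M f)
    {R : Subgroup (Subgroup.centralizer (Q : Set G))}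
    {γ : Subgroup.centralizer (Q : Set G) → ResField M} (h : PairIn hM f R γ) :
    NSub hM (Q, pFn hM Q f) (Q ⊔ R.map (Subgroup.centralizer (Q : Set G)).subtype,
      ext0 (Subgroup.centralizer (Q : Set G)) γ) := by
  haveI : Fact p.Prime := ⟨hM.1⟩
  have hRC : R.map (Subgroup.centralizer (Q : Set G)).subtype ≤
      Subgroup.centralizer (Q : Set G) := Subgroup.map_subtype_le _
  set S := Q ⊔ R.map (Subgroup.centralizer (Q : Set G)).subtype with hS
  have hN : S ≤ Subgroup.normalizer (Q : Set G) :=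
    sup_le Subgroup.le_normalizer (hRC.trans (Subgroup.centralizer_le_normalizer _))
  have hSp : IsPGroup p S := IsPGroup.to_sup_of_normal_left' hQ (h.1.1.map _)
    (hRC.trans (Subgroup.centralizer_le_normalizer _))
  have hfb : IsBlockFn hM (Subgroup.centralizer (Q : Set G)) (pFn hM Q f) := ⟨f, hf, rfl⟩
  have hinv : InvBy S (pFn hM Q f) := le_stabSub_iff.1 (sup_le (le_stabSub_iff.2 (invBy_self hfb))
    (le_stabSub_iff.2 (invBy_mono hfb.invBy hRC)))
  have hmem : ∀ c : Subgroup.centralizer (Q : Set G),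
      c ∈ Subgroup.centralizer (R : Set (Subgroup.centralizer (Q : Set G))) ↔
        (c : G) ∈ Subgroup.centralizer (S : Set G) := by
    intro c
    rw [hS, centralizer_sup]
    constructor
    · intro hc
      refine ⟨c.2, Subgroup.mem_centralizer_iff.2 ?_⟩
      rintro _ ⟨r, hr, rfl⟩
      exact congrArg Subtype.val (Subgroup.mem_centralizer_iff.1 hc r hr)
    · intro hc
      exact Subgroup.mem_centralizer_iff.2 fun r hr =>
        Subtype.ext (Subgroup.mem_centralizer_iff.1 hc.2 r ⟨r, hr, rfl⟩)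
  have hCS : Subgroup.centralizer (S : Set G) ≤ Subgroup.centralizer (Q : Set G) :=
    Subgroup.centralizer_le (show (Q : Set G) ⊆ (S : Set G) from
      SetLike.coe_subset_coe.2 le_sup_left)
  have hb : IsBlockFn hM (Subgroup.centralizer (S : Set G))
      (ext0 (Subgroup.centralizer (Q : Set G)) γ) := by
    obtain ⟨e, he, rfl⟩ := h.1.2
    haveI := Fintype.ofFinite
      (Subgroup.centralizer (R : Set (Subgroup.centralizer (Q : Set G))))
    haveI := Fintype.ofFinite (Subgroup.centralizer (S : Set G))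
    let φ : Subgroup.centralizer (R : Set (Subgroup.centralizer (Q : Set G))) ≃*
        Subgroup.centralizer (S : Set G) :=
      { toFun := fun c => ⟨((c : Subgroup.centralizer (Q : Set G)) : G), (hmem _).1 c.2⟩
        invFun := fun c => ⟨⟨(c : G), hCS c.2⟩, (hmem _).2 c.2⟩
        left_inv := fun _ => rfl
        right_inv := fun _ => rfl
        map_mul' := fun _ _ => rfl }
    refine ⟨irrMap φ '' e, isPBlock_irrMap φ he, ?_⟩
    rw [bFn_eq_ext0, bFn_eq_ext0]
    funext g
    by_cases hg : g ∈ Subgroup.centralizer (S : Set G)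
    · lift g to Subgroup.centralizer (S : Set G) using hg
      obtain ⟨c, rfl⟩ := φ.surjective g
      rw [ext0_coe, show ((φ c : Subgroup.centralizer (S : Set G)) : G) =
        ((c : Subgroup.centralizer (Q : Set G)) : G) from rfl, ext0_coe, ext0_coe]
      simp only [gFn, blockCoeff_irrMap]
    · rw [show ext0 (Subgroup.centralizer (S : Set G)) (gFn hM (irrMap φ '' e)) g = 0 from dif_neg hg]
      simp only [ext0]
      split_ifs with hgC hgR
      · exact absurd ((hmem ⟨g, hgC⟩).1 hgR) hg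
      · rfl
      · rfl
  refine ⟨⟨hQ, hfb⟩, ⟨hSp, hb⟩, le_sup_left, hN, hinv, ?_⟩
  have e1 : trc S (pFn hM Q f) =
      ext0 (Subgroup.centralizer (Q : Set G)) (trc R (gFn hM f)) := by
    funext g
    by_cases hg : g ∈ Subgroup.centralizer (Q : Set G)
    · lift g to Subgroup.centralizer (Q : Set G) using hg
      rw [ext0_coe, pFn, bFn_eq_ext0]
      simp only [trc, ext0_coe]
      exact if_congr (hmem g).symm rfl rfl
    · rw [show ext0 (Subgroup.centralizer (Q : Set G)) (trc R (gFn hM f)) g = 0 from dif_neg hg]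
      exact if_neg fun h => hg (hCS h)
  dsimp only
  rw [e1, ← ext0_gconv, h.2.2]

omit [Fact p.Prime] in
theorem nilpotent_centralizer (hnil : IsNilpotentBlock p M B) {Q : Subgroup G}
    {f : Set (IrrCharacter (Subgroup.centralizer (Q : Set G)))} (hf : IsPBlock M f)
    (hQ : PairIn hM B Q (pFn hM Q f)) : IsNilpotentBlock p M f := by
  haveI := Fintype.ofFinite (Subgroup.centralizer (Q : Set G))
  refine ⟨hf, fun R e hRe x hx hst hreg => ?_⟩
  obtain ⟨he, hR⟩ := (isBrauerPairOf_iff hM).1 hRe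
  have hs := nSub_of_centralizer_pair hQ.1.1 hf hR
  have hS := (hs.pairIn_iff B).2 hQ
  have hfix : cnj x (pFn hM R e) = pFn hM R e := (stabilizes_iff_cnj he hx).1 hst
  have hxn : (x : G) ∈ Subgroup.normalizer
      ((Q ⊔ R.map (Subgroup.centralizer (Q : Set G)).subtype : Subgroup G) : Set G) := by
    have h1 : (Q ⊔ R.map (Subgroup.centralizer (Q : Set G)).subtype).map
        (MulAut.conj (x : G)).toMonoidHom =
        Q ⊔ R.map (Subgroup.centralizer (Q : Set G)).subtype := by
      rw [Subgroup.map_sup, map_conj_eq_self (Subgroup.centralizer_le_normalizer _ x.2)]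
      congr 1
      conv_rhs => rw [← map_conj_eq_self hx]
      rw [Subgroup.map_map, Subgroup.map_map]
      congr 1
    refine mem_normalizer_of_conj_mem fun s hs' => ?_
    rw [← h1]
    exact ⟨s, hs', rfl⟩
  have hfix' : cnj (x : G) (ext0 (Subgroup.centralizer (Q : Set G)) (pFn hM R e)) =
      ext0 (Subgroup.centralizer (Q : Set G)) (pFn hM R e) := by
    funext g
    by_cases hg : g ∈ Subgroup.centralizer (Q : Set G)
    · lift g to Subgroup.centralizer (Q : Set G) using hg
      conv_rhs => rw [ext0_coe, ← hfix]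
      simp only [cnj]
      rw [show (x : G)⁻¹ * (g : G) * x = ((x⁻¹ * g * x : Subgroup.centralizer (Q : Set G)) : G)
        from rfl, ext0_coe]
    · have hg' : (x : G)⁻¹ * g * x ∉ Subgroup.centralizer (Q : Set G) := fun h => hg (by
        simpa [mul_assoc] using mul_mem (mul_mem x.2 h) (inv_mem x.2))
      simp only [cnj, ext0, hg, hg', dite_false]
  have := nilpotent_pair_regular hnil hS hxn hfix' (by rwa [IsPRegular, Subgroup.orderOf_coe])
  refine Subgroup.mem_centralizer_iff.2 fun r hr => Subtype.ext ?_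
  exact Subgroup.mem_centralizer_iff.1 this _ (Subgroup.mem_sup_right ⟨r, hr, rfl⟩)

theorem isDefectGroup_centralizer_of_nilpotent (hψ : MaxPair hM B P ψ)
    (hnil : IsNilpotentBlock p M B) {Q : Subgroup G}
    {f : Set (IrrCharacter (Subgroup.centralizer (Q : Set G)))} (hf : IsPBlock M f)
    (hc : Chain hM (Q, pFn hM Q f) (P, ψ)) :
    IsDefectGroup p M f
      ((P ⊓ Subgroup.centralizer (Q : Set G)).subgroupOf (Subgroup.centralizer (Q : Set G))) := by
  refine isDefectGroup_centralizer hψ.1.1 hf hc ?_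
  obtain ⟨x, hx, hcard⟩ := exists_conj_centralizer_defect hψ hf ((hc.pairIn_iff B).1 hψ.1)
  have hmem : conjHom Q x ∈ (blockFusion hψ.1.1).Hom Q := ⟨x, fun _ => rfl, _, hc, hx⟩
  rw [(blockFusion_hom_eq_inner_iff hψ).2 hnil Q] at hmem
  obtain ⟨-, u, hu, hue⟩ := hmem
  refine hcard.trans ?_
  have hsub : P ⊓ Subgroup.centralizer ((Q.map (MulAut.conj x).toMonoidHom : Subgroup G) : Set G) ≤
      (P ⊓ Subgroup.centralizer (Q : Set G)).map (MulAut.conj u).toMonoidHom := by
    intro c hc'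
    refine ⟨u⁻¹ * c * u, ⟨mul_mem (mul_mem (P.inv_mem hu) hc'.1) hu, ?_⟩, by simp [mul_assoc]⟩
    refine Subgroup.mem_centralizer_iff.2 fun q hq => ?_
    have h1 := Subgroup.mem_centralizer_iff.1 hc'.2 (u * q * u⁻¹) (by
      rw [← show x * q * x⁻¹ = u * q * u⁻¹ from hue ⟨q, hq⟩]
      exact ⟨q, hq, rfl⟩)
    calc q * (u⁻¹ * c * u) = u⁻¹ * (u * q * u⁻¹ * c) * u := by group
      _ = _ := by rw [h1]; group
  exact (Subgroup.card_le_of_le hsub).trans (card_map_conj _ u).le

end CfsgLib.Block
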