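import Cfsg.Agent.Lib.BlockSubsection
import Cfsg.Agent.Lib.BlockNilpotent

/-!
# The expansion of inner products of a nilpotent block over a defect group
-/

set_option autoImplicit false
set_option linter.style.haveILetI false
set_option linter.unusedSectionVars false

namespace CfsgLib.Block

open Cfsg CfsgLib.Char CfsgLib.Fusion Cfsg.FusionSystem
open scoped ComplexConjugate Classical

universe u

variable {G : Type u} [Group G] [Fintype G] {p : ℕ} {M : Ideal AlgInt} {hM : IsPModular p M}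
  {B : Set (IrrCharacter G)} {P : Subgroup G} {ψ : G → ResField M}

/-- The coefficients of the block of the pair at `u` below `(P, ψ)`. -/
noncomputable def subCoef (h : PairFn hM P ψ) (u : G) : G → ℂ :=
  coefOf hM (Subgroup.centralizer ({u} : Set G)) (subFn h (Subgroup.zpowers u))

/-- The contribution of the subsection at `u`, normalized by the centralizer in `P`. -/
noncomputable def subInner (h : PairFn hM P ψ) (u : G) (ξ η : G → ℂ) : ℂ :=
  (Nat.card (P ⊓ Subgroup.centralizer ({u} : Set G) : Subgroup G) : ℂ) *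
    secInner p u (subCoef h u) ξ η

variable (h : PairFn hM P ψ)

theorem exists_subBlock {u : G} (hu : u ∈ P) :
    ∃ f : Set (IrrCharacter (Subgroup.centralizer ({u} : Set G))), IsPBlock M f ∧
      bFn hM (Subgroup.centralizer ({u} : Set G)) f = subFn h (Subgroup.zpowers u) ∧
      subCoef h u = subgroupBlockCoeff (Subgroup.centralizer ({u} : Set G)) f := by
  have hb := isBlockFn_subFn h (Subgroup.zpowers_le.2 hu)
  rw [centralizer_zpowers] at hb
  obtain ⟨f, hf, hfe⟩ := hb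
  exact ⟨f, hf, hfe, coefOf_eq hM hf hfe⟩

theorem zpowers_conj (t u : G) : Subgroup.zpowers (t * u * t⁻¹) =
    (Subgroup.zpowers u).map (MulAut.conj t).toMonoidHom := by
  rw [MonoidHom.map_zpowers]
  rfl

theorem secInner_coefOf_conj {u : G} (hu : u ∈ P) (x : G) (ξ η : IrrCharacter G) :
    secInner p (x * u * x⁻¹)
      (coefOf hM (Subgroup.centralizer ({x * u * x⁻¹} : Set G))
        (cnj x (subFn h (Subgroup.zpowers u)))) (ξ : G → ℂ) (η : G → ℂ) =
      secInner p u (subCoef h u) (ξ : G → ℂ) (η : G → ℂ) := by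
  refine secInner_conj (fun g => ?_) u ξ η
  have hb := isBlockFn_subFn h (Subgroup.zpowers_le.2 hu)
  rw [centralizer_zpowers] at hb
  exact coefOf_cnj hM x (fun g => mem_centralizer_conj x u g) hb g

theorem subInner_conj {t u : G} (ht : t ∈ P) (hu : u ∈ P) (ξ η : IrrCharacter G) :
    subInner h (t * u * t⁻¹) (ξ : G → ℂ) (η : G → ℂ) =
      subInner h u (ξ : G → ℂ) (η : G → ℂ) := by
  unfold subInner
  rw [map_inf_centralizer ht, card_map_conj]
  congr 1
  rw [subCoef, zpowers_conj, subFn_cnj h (Subgroup.zpowers_le.2 hu) ht]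
  exact secInner_coefOf_conj h hu t ξ η

/-- In a nilpotent block the fusion of subsections is inner. -/
theorem exists_inner_fusion [Fact p.Prime] (hψ : MaxPair hM B P ψ) (hnil : IsNilpotentBlock p M B)
    {u₁ u₂ x : G} (hu₁ : u₁ ∈ P) (hu₂ : u₂ ∈ P) (hx : x * u₁ * x⁻¹ = u₂)
    (hφ : cnj x (subFn hψ.1.1 (Subgroup.zpowers u₁)) = subFn hψ.1.1 (Subgroup.zpowers u₂)) :
    ∃ t ∈ P, t * u₁ * t⁻¹ = u₂ := by
  have hmap : Map (blockFusion hψ.1.1) (Subgroup.zpowers u₁) (fun y => x * y * x⁻¹) := by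
    refine blockFusion_map_iff.2 ⟨x, fun y _ => rfl, _,
      chain_subFn hψ.1.1 (Subgroup.zpowers_le.2 hu₁), ?_⟩
    rw [← zpowers_conj, hx, hφ]
    exact chain_subFn hψ.1.1 (Subgroup.zpowers_le.2 hu₂)
  obtain ⟨φ, ⟨-, t, ht, h1⟩, h2⟩ := blockFusion_map_inner hψ hnil hmap
  refine ⟨t, ht, ?_⟩
  have e := (h1 ⟨u₁, Subgroup.mem_zpowers u₁⟩).symm.trans (h2 ⟨u₁, Subgroup.mem_zpowers u₁⟩)
  simpa [hx] using e

/-- **The expansion.** -/
theorem card_mul_classInner_nilpotent [Fact p.Prime] (hψ : MaxPair hM B P ψ)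
    (hnil : IsNilpotentBlock p M B) {ξ η : IrrCharacter G} (hξ : ξ ∈ B) (hη : η ∈ B) :
    (Nat.card P : ℂ) * classInner (ξ : G → ℂ) (η : G → ℂ) =
      ∑ u ∈ Finset.univ.filter (· ∈ P), subInner hψ.1.1 u (ξ : G → ℂ) (η : G → ℂ) := by
  have hP : PairFn hM P ψ := hψ.1.1
  have hB : IsPBlock M B := hψ.1.2.1
  set Ps := Finset.univ.filter (fun u : G => u ∈ P) with hPs
  have hPk : ∀ u ∈ Ps, ∃ k, orderOf u = p ^ k := fun u hu => by
    obtain ⟨k, hk⟩ := IsPGroup.iff_orderOf.1 hP.1 ⟨u, (Finset.mem_filter.1 hu).2⟩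
    exact ⟨k, by rwa [← Subgroup.orderOf_coe] at hk⟩
  refine mul_left_cancel₀ (natCard_ne_zero G) ?_
  rw [← mul_assoc, mul_comm (Nat.card G : ℂ), mul_assoc,
    card_mul_classInner_eq hM hB hξ hη, Finset.mul_sum]
  symm
  have h0 : (Nat.card G : ℂ) * ∑ u ∈ Ps, subInner hψ.1.1 u (ξ : G → ℂ) (η : G → ℂ) =
      ∑ w ∈ (Finset.univ : Finset G) ×ˢ Ps, subInner hψ.1.1 w.2 (ξ : G → ℂ) (η : G → ℂ) := by
    rw [Finset.sum_product]
    show _ = ∑ _x : G, ∑ y ∈ Ps, subInner hψ.1.1 y (ξ : G → ℂ) (η : G → ℂ)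
    rw [Finset.sum_const, Finset.card_univ, nsmul_eq_mul, Nat.card_eq_fintype_card]
  rw [h0]
  rw [← Finset.sum_fiberwise_of_maps_to (g := fun w : G × G => w.1 * w.2 * w.1⁻¹)
    (t := Finset.univ.filter fun z : G => ∃ k, orderOf z = p ^ k)]
  swap
  · intro w hw
    obtain ⟨k, hk⟩ := hPk w.2 (Finset.mem_product.1 hw).2
    exact Finset.mem_filter.2 ⟨Finset.mem_univ _, k, by rw [orderOf_conj_eq, hk]⟩
  refine Finset.sum_congr rfl fun z hz => ?_
  have hzk := (Finset.mem_filter.1 hz).2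
  rw [← Finset.sum_fiberwise_of_maps_to
    (g := fun w : G × G => cnj w.1 (subFn hψ.1.1 (Subgroup.zpowers w.2)))
    (t := (indBlocks M z B).image (bFn hM (Subgroup.centralizer ({z} : Set G))))]
  swap
  · intro w hw
    obtain ⟨hw1, hwz⟩ := Finset.mem_filter.1 hw
    have hwP : w.2 ∈ P := (Finset.mem_filter.1 (Finset.mem_product.1 hw1).2).2
    have hpair : PairIn hM B (Subgroup.zpowers z) (cnj w.1 (subFn hψ.1.1 (Subgroup.zpowers w.2))) := by
      rw [← hwz, zpowers_conj]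
      exact (((chain_subFn hψ.1.1 (Subgroup.zpowers_le.2 hwP)).pairIn_iff B).1 hψ.1).cnj w.1
    have hb := hpair.1.2
    rw [centralizer_zpowers] at hb
    obtain ⟨e, he, hee⟩ := hb
    refine Finset.mem_image.2 ⟨e, Finset.mem_filter.2 ⟨mem_allBlocks.2 he, ?_⟩, hee⟩
    obtain ⟨a, ha⟩ := isPBlock_nonempty hM he
    have h3 := isInduced_of_pair hM hzk hB he (hee.symm ▸ hpair.2.2) a ha
    rw [isPBlock_eq_blockOf hM he ha]
    exact h3
  rw [Finset.sum_image (s := indBlocks M z B) fun a ha b hb hab => bFn_injOn hM _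
      (mem_allBlocks.1 (Finset.mem_filter.1 ha).1) (mem_allBlocks.1 (Finset.mem_filter.1 hb).1) hab,
    Finset.mul_sum, Finset.mul_sum]
  refine Finset.sum_congr rfl fun e he => ?_
  obtain ⟨he1, he2⟩ := Finset.mem_filter.1 he
  have heB : IsPBlock M e := mem_allBlocks.1 he1
  obtain ⟨x, hx⟩ := hψ.exists_conj_chain (pairIn_of_induced hM hzk he2)
  set φ := bFn hM (Subgroup.centralizer ({z} : Set G)) e with hφdef
  set u₀ := x * z * x⁻¹ with hu₀
  rw [← zpowers_conj] at hx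
  have hu₀P : u₀ ∈ P := hx.le (Subgroup.mem_zpowers u₀)
  have hφ₀ : subFn hψ.1.1 (Subgroup.zpowers u₀) = cnj x φ := subFn_eq hψ.1.1 hx
  set Fib := (((Finset.univ : Finset G) ×ˢ Ps).filter fun w => w.1 * w.2 * w.1⁻¹ = z).filter
    (fun w => cnj w.1 (subFn hψ.1.1 (Subgroup.zpowers w.2)) = φ) with hFib
  have hmem : ∀ w : G × G, w ∈ Fib ↔ w.2 ∈ P ∧ w.1 * w.2 * w.1⁻¹ = z ∧
      cnj w.1 (subFn hψ.1.1 (Subgroup.zpowers w.2)) = φ := fun w => by
    simp [hFib, hPs, and_assoc]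
  have hfus : ∀ w ∈ Fib, ∃ t ∈ P, t * u₀ * t⁻¹ = w.2 := fun w hw => by
    obtain ⟨hwP, hwz, hwφ⟩ := (hmem w).1 hw
    refine exists_inner_fusion hψ hnil (x := (x * w.1)⁻¹) hu₀P hwP ?_ ?_
    · rw [hu₀, ← hwz]; group
    · rw [hφ₀, ← hwφ, cnj_cnj, cnj_cnj, show (x * w.1)⁻¹ * x * w.1 = 1 by group, cnj_one]
  set S := secInner p z (subgroupBlockCoeff (Subgroup.centralizer ({z} : Set G)) e)
    (ξ : G → ℂ) (η : G → ℂ) with hS
  set CP := Finset.univ.filter (fun d : G => d ∈ P ⊓ Subgroup.centralizer ({u₀} : Set G)) with hCP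
  have hval : ∀ w ∈ Fib, subInner hψ.1.1 w.2 (ξ : G → ℂ) (η : G → ℂ) = (CP.card : ℂ) * S := by
    intro w hw
    obtain ⟨t, ht, htu⟩ := hfus w hw
    obtain ⟨hwP, hwz, hwφ⟩ := (hmem w).1 hw
    rw [subInner]
    congr 1
    · rw [← htu, map_inf_centralizer ht, card_map_conj, hCP, Nat.card_eq_fintype_card,
        Fintype.card_subtype]
    · have key : ∀ z' : G, z' = z →
          secInner p z' (coefOf hM (Subgroup.centralizer ({z'} : Set G)) φ) (ξ : G → ℂ) (η : G → ℂ) =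
            S := by
        rintro _ rfl
        rw [coefOf_eq hM heB hφdef.symm, hS]
      rw [← secInner_coefOf_conj hψ.1.1 hwP w.1 ξ η, hwφ]
      exact key _ hwz
  rw [Finset.sum_congr rfl hval, Finset.sum_const, nsmul_eq_mul, ← mul_assoc, ← mul_assoc,
    ← Nat.cast_mul, ← Nat.cast_mul]
  congr 2
  set Dom := Ps ×ˢ Finset.univ.filter (fun c : G => c ∈ Subgroup.centralizer ({u₀} : Set G)) with hDom
  have hdom : Dom.card = Nat.card P * Nat.card (Subgroup.centralizer ({z} : Set G)) := by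
    rw [hDom, Finset.card_product, hPs, hu₀,
      ← card_centralizer_conj x z, Nat.card_eq_fintype_card, Nat.card_eq_fintype_card,
      Fintype.card_subtype, Fintype.card_subtype]
  rw [← hdom, Finset.card_eq_sum_card_fiberwise (s := Dom)
    (f := fun a : G × G => (x⁻¹ * a.2 * a.1⁻¹, a.1 * u₀ * a.1⁻¹)) (t := Fib),
    Finset.sum_const_nat (m := CP.card)]
  · intro w hw
    obtain ⟨t, ht, htu⟩ := hfus w hw
    obtain ⟨hwP, hwz, hwφ⟩ := (hmem w).1 hw
    refine (Finset.card_bij' (fun d _ => (t * d, x * w.1 * (t * d))) (fun a _ => t⁻¹ * a.1)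
      ?_ ?_ ?_ ?_).symm
    · intro d hd
      obtain ⟨hdP, hdC⟩ := Subgroup.mem_inf.1 (Finset.mem_filter.1 hd).2
      have hd' : d * u₀ = u₀ * d := Subgroup.mem_centralizer_singleton_iff.1 hdC
      have e1 : t * d * u₀ * (t * d)⁻¹ = w.2 := by
        rw [← htu]
        calc t * d * u₀ * (t * d)⁻¹ = t * (d * u₀) * d⁻¹ * t⁻¹ := by group
          _ = t * (u₀ * d) * d⁻¹ * t⁻¹ := by rw [hd']
          _ = t * u₀ * t⁻¹ := by group
      simp only [Finset.mem_filter, hDom, Finset.mem_product, hPs, Finset.mem_univ, true_and]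
      refine ⟨⟨P.mul_mem ht hdP, Subgroup.mem_centralizer_singleton_iff.2 ?_⟩, Prod.ext ?_ e1⟩
      · calc x * w.1 * (t * d) * u₀ = x * w.1 * (t * d * u₀ * (t * d)⁻¹) * (t * d) := by group
          _ = x * (w.1 * w.2 * w.1⁻¹) * (w.1 * (t * d)) := by rw [e1]; group
          _ = x * z * x⁻¹ * (x * w.1 * (t * d)) := by rw [hwz]; group
          _ = u₀ * (x * w.1 * (t * d)) := by rw [hu₀]
      · show x⁻¹ * (x * w.1 * (t * d)) * (t * d)⁻¹ = w.1
        group
    · intro a ha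
      simp only [Finset.mem_filter, hDom, Finset.mem_product, hPs, Finset.mem_univ, true_and] at ha
      have e2 : a.1 * u₀ * a.1⁻¹ = w.2 := congrArg Prod.snd ha.2
      refine Finset.mem_filter.2 ⟨Finset.mem_univ _, P.mul_mem (P.inv_mem ht) ha.1.1,
        Subgroup.mem_centralizer_singleton_iff.2 ?_⟩
      calc t⁻¹ * a.1 * u₀ = t⁻¹ * (a.1 * u₀ * a.1⁻¹) * a.1 := by group
        _ = t⁻¹ * (t * u₀ * t⁻¹) * a.1 := by rw [e2, htu]
        _ = u₀ * (t⁻¹ * a.1) := by group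
    · intro d _
      show t⁻¹ * (t * d) = d
      group
    · intro a ha
      have e3 : x⁻¹ * a.2 * a.1⁻¹ = w.1 := congrArg Prod.fst (Finset.mem_filter.1 ha).2
      refine Prod.ext ?_ ?_
      · show t * (t⁻¹ * a.1) = a.1
        group
      · show x * w.1 * (t * (t⁻¹ * a.1)) = a.2
        rw [← e3]
        group
  · intro a ha
    simp only [hDom, Finset.coe_product, Set.mem_prod, hPs, Finset.coe_filter, Finset.mem_univ,
      true_and, Set.mem_ofPred_eq] at ha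
    rw [Finset.mem_coe, hmem]
    refine ⟨P.mul_mem (P.mul_mem ha.1 hu₀P) (P.inv_mem ha.1), ?_, ?_⟩
    · have hc : a.2 * u₀ = u₀ * a.2 := Subgroup.mem_centralizer_singleton_iff.1 ha.2
      calc x⁻¹ * a.2 * a.1⁻¹ * (a.1 * u₀ * a.1⁻¹) * (x⁻¹ * a.2 * a.1⁻¹)⁻¹
          = x⁻¹ * (a.2 * u₀) * a.2⁻¹ * x := by group
        _ = x⁻¹ * (u₀ * a.2) * a.2⁻¹ * x := by rw [hc]
        _ = z := by rw [hu₀]; group
    · have hb : InvBy (Subgroup.centralizer ({u₀} : Set G))
          (subFn hψ.1.1 (Subgroup.zpowers u₀)) := by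
        have hb' := isBlockFn_subFn hψ.1.1 (Subgroup.zpowers_le.2 hu₀P)
        rw [centralizer_zpowers] at hb'
        exact hb'.invBy
      show cnj (x⁻¹ * a.2 * a.1⁻¹) (subFn hψ.1.1 (Subgroup.zpowers (a.1 * u₀ * a.1⁻¹))) = φ
      rw [zpowers_conj, subFn_cnj _ (Subgroup.zpowers_le.2 hu₀P) ha.1, cnj_cnj,
        inv_mul_cancel_right, ← cnj_cnj, cnj_eq_self_of_invBy hb ha.2, hφ₀, cnj_cnj,
        inv_mul_cancel, cnj_one]

end CfsgLib.Block
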