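import Cfsg.Agent.Lib.BlockPairLocal
import Cfsg.Prelude.Def_BlockFusion

/-!
# The fusion system of a block: conjugates
-/

set_option autoImplicit false

universe u

namespace CfsgLib.Block

open Cfsg CfsgLib.Char
open scoped Classical

variable {G : Type u} [Group G] [Fintype G] {p : ℕ} {M : Ideal AlgInt}

omit [Fintype G] in
theorem range_conjHom (Q : Subgroup G) (g : G) (φ : Q →* G)
    (h : ∀ u : Q, φ u = g * (u : G) * g⁻¹) :
    φ.range = Q.map (MulAut.conj g).toMonoidHom := by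
  ext y
  constructor
  · rintro ⟨u, rfl⟩
    exact ⟨u, u.2, (h u).symm⟩
  · rintro ⟨u, hu, rfl⟩
    exact ⟨⟨u, hu⟩, h ⟨u, hu⟩⟩

/-- Conjugates in the fusion system of a block. -/
theorem blockFusion_isConj_iff (hM : IsPModular p M) {B : Set (IrrCharacter G)} {P : Subgroup G}
    {e : Set (IrrCharacter (Subgroup.centralizer (P : Set G)))} {F : FusionSystem P}
    (hF : IsBlockFusionSystemOn p M B P e F) {Q : Subgroup G}
    {f : Set (IrrCharacter (Subgroup.centralizer (Q : Set G)))} (hf : IsPBlock M f)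
    (hle : SubpairLE p M Q f P e) (R : Subgroup G) :
    F.IsConj Q R ↔ ∃ g : G, Q.map (MulAut.conj g).toMonoidHom = R ∧
      Chain hM (R, cnj g (pFn hM Q f)) (P, pFn hM P e) := by
  obtain ⟨he, hP⟩ := maxPair_of_isMaximal hM hF.1
  have hc := chain_of_subpairLE hM hle
  constructor
  · rintro ⟨φ, hφ, rfl⟩
    obtain ⟨-, g, hg, -, f', h1, h2⟩ := (hF.2 Q φ).1 hφ
    have hpair : PairFn hM P (pFn hM P e) := hP.1.1
    obtain ⟨f'', hf'', hfe⟩ := ((chain_of_subpairLE hM h1).pairFn hpair).exists_block hM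
    have hfn : pFn hM Q f' = pFn hM Q f := Chain.unique hpair (chain_of_subpairLE hM h1) hc
    have hf' : IsPBlock M f' := by
      rcases Relation.ReflTransGen.cases_head h1 with heq | ⟨c, hs, -⟩
      · obtain ⟨rfl, h⟩ := Sigma.mk.injEq _ _ _ _ ▸ heq
        rw [eq_of_heq h]; exact he
      · exact hs.1.2
    refine ⟨g, (range_conjHom Q g φ hg).symm, ?_⟩
    obtain ⟨-, hfn'⟩ := conjBlock_data hM g hf'
    have h3 := chain_of_subpairLE hM h2
    rw [hfn', hfn, ← range_conjHom Q g φ hg] at h3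
    exact h3
  · rintro ⟨g, rfl, hg⟩
    refine ⟨conjHom Q g, (hF.2 Q _).2 ⟨hc.le, g, fun _ => rfl, hg.le, f, hle, ?_⟩,
      range_conjHom Q g _ fun _ => rfl⟩
    obtain ⟨hb, hfn⟩ := conjBlock_data hM g hf
    refine subpairLE_of_chain hM hb he ?_
    rw [hfn]
    exact hg

end CfsgLib.Block
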