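import Cfsg.Agent.Lib.BlockPrinSection
import Cfsg.Agent.Lib.BlockPrincipal

/-!
# Columns of the principal block at `p`-elements
-/

set_option autoImplicit false
set_option linter.unusedSectionVars false

namespace CfsgLib.Block

open Cfsg CfsgLib.Char
open scoped ComplexConjugate Classical

universe u

variable {G : Type u} [Group G] [Fintype G] {p : ℕ} {M : Ideal AlgInt}

/-- The squared column of the principal block at a `p`-element. -/
theorem principal_col_sum (hM : IsPModular p M) {u : G} (hu : ∃ k, orderOf u = p ^ k) :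
    ∑ χ : IrrCharacter G, indVal (principalBlock M G) χ *
        ((χ : G → ℂ) u * conj ((χ : G → ℂ) u)) =
      ∑ ζ : IrrCharacter (Subgroup.centralizer ({u} : Set G)),
        indVal (principalBlock M (Subgroup.centralizer ({u} : Set G))) ζ *
          ((ζ : Subgroup.centralizer ({u} : Set G) → ℂ) 1) ^ 2 := by
  have hs := secSet_principal hM hu
  have h1 : ¬ p ∣ orderOf (1 : Subgroup.centralizer ({u} : Set G)) := by
    rw [orderOf_one]; exact hM.1.not_dvd_one
  have hsec : ∀ χ : IrrCharacter G, χ ∈ principalBlock M G →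
      secPart u (principalBlock M (Subgroup.centralizer ({u} : Set G))) χ 1 = (χ : G → ℂ) u := by
    intro χ hχ
    have h := apply_mul_eq_sum_secSet hM hu (isPBlock_principal M) hχ 1 h1
    rw [OneMemClass.coe_one, mul_one, hs] at h
    rw [h, secPart, blockPart_eq]
    rfl
  have hkey := sum_secPart_mul hM hu (isPBlock_principal (G := G) M)
    (isPBlock_principal (G := Subgroup.centralizer ({u} : Set G)) M)
    (isPBlock_principal (G := Subgroup.centralizer ({u} : Set G)) M)
    (fun ξ hξ => by rw [hs]; exact hξ) (s := 1) (s' := 1) h1 h1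
  refine Eq.trans (Finset.sum_congr rfl fun χ _ => ?_) (hkey.trans (Finset.sum_congr rfl fun ζ _ => ?_))
  · by_cases hχ : χ ∈ principalBlock M G
    · rw [hsec χ hχ]
    · simp [indVal, hχ]
  · rw [irr_conj_one]
    unfold indVal
    split_ifs <;> ring

/-- Two non-conjugate `p`-elements give orthogonal block columns. -/
theorem block_sum_pElement_eq_zero (hM : IsPModular p M) {B : Set (IrrCharacter G)}
    (hB : IsPBlock M B) {u v : G} (hu : ∃ k, orderOf u = p ^ k) (hv : ∃ k, orderOf v = p ^ k)
    (hne : ¬ IsConj u v) :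
    ∑ χ : IrrCharacter G, indVal B χ * ((χ : G → ℂ) v * conj ((χ : G → ℂ) u)) = 0 := by
  have hpp : ∀ w : G, (∃ k, orderOf w = p ^ k) → IsPPart p w w := fun w hw =>
    ⟨1, mul_one w, Commute.one_right w, hw, by rw [orderOf_one]; exact hM.1.not_dvd_one⟩
  rw [← block_sum_pPart_eq_zero hM hB (hpp v hv) (hpp u hu) hne]
  exact Finset.sum_congr rfl fun χ _ => by ring

end CfsgLib.Block
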