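import Cfsg.Agent.Lib.BlockCoverAll
import Cfsg.Agent.Lib.BlockPrincipal

/-!
# The principal block and a normal subgroup
-/

set_option autoImplicit false
set_option linter.style.haveILetI false
set_option linter.unusedSectionVars false
set_option linter.unusedFintypeInType false

namespace CfsgLib.Block

open Cfsg CfsgLib.Char
open scoped ComplexConjugate Classical

universe u

variable {G : Type u} [Group G] [Fintype G] {p : ℕ} {M : Ideal AlgInt}
variable {N : Subgroup G} [hN : N.Normal] [Fintype N]

/-- The multiplicity of `θ` in the restriction of `χ`. -/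
noncomputable def resMult (N : Subgroup G) [Fintype N] (χ : IrrCharacter G) (θ : IrrCharacter N) : ℕ :=
  ⌊(classInner (fun n : N => (χ : G → ℂ) n) (θ : N → ℂ)).re⌋₊

theorem resMult_cast (χ : IrrCharacter G) (θ : IrrCharacter N) :
    (resMult N χ θ : ℂ) = classInner (fun n : N => (χ : G → ℂ) n) (θ : N → ℂ) := by
  obtain ⟨n, hn⟩ := inner_character_nat (isCharacter_restrict χ.2.isCharacter' N) θ.2.isCharacter'
  rw [resMult, hn]
  simp

theorem over_iff_resMult {χ : IrrCharacter G} {θ : IrrCharacter N} :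
    Over N χ θ ↔ resMult N χ θ ≠ 0 := by
  rw [Over, ← resMult_cast, Ne, Nat.cast_eq_zero]

theorem sum_resMult_degree (χ : IrrCharacter G) :
    ∑ θ : IrrCharacter N, resMult N χ θ * charDegree (θ : N → ℂ) = charDegree (χ : G → ℂ) := by
  have h := congrFun (classFunction_eq_sum (fun n : N => (χ : G → ℂ) n)
    (isClassFunction_restrict (isCharacter_classFunction χ.2.isCharacter') N)) 1
  rw [Finset.sum_apply] at h
  apply Nat.cast_injective (R := ℂ)
  rw [Nat.cast_sum, charDegree_cast χ.2.isCharacter']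
  rw [show ((1 : N) : G) = 1 from rfl] at h
  rw [h]
  refine Finset.sum_congr rfl fun θ _ => ?_
  rw [Nat.cast_mul, resMult_cast, charDegree_cast θ.2.isCharacter', Pi.smul_apply, smul_eq_mul]

theorem sum_resMult_induced (θ : IrrCharacter N) :
    ∑ χ : IrrCharacter G, resMult N χ θ * charDegree (χ : G → ℂ) =
      N.index * charDegree (θ : N → ℂ) := by
  have h := congrFun (classFunction_eq_sum (indFun N (θ : N → ℂ))
    (isCharacter_classFunction (isCharacter_indFun θ.2.isCharacter'))) 1
  rw [Finset.sum_apply, indFun_one_apply] at h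
  apply Nat.cast_injective (R := ℂ)
  rw [Nat.cast_sum, Nat.cast_mul, charDegree_cast θ.2.isCharacter', h]
  refine Finset.sum_congr rfl fun χ _ => ?_
  rw [Nat.cast_mul, resMult_cast, charDegree_cast χ.2.isCharacter', Pi.smul_apply, smul_eq_mul,
    CfsgLib.Char.frobenius _ _ (isCharacter_classFunction χ.2.isCharacter'),
    inner_comm_of_isCharacter θ.2.isCharacter' (isCharacter_restrict χ.2.isCharacter' N)]

theorem resMult_mul_degree_le (χ : IrrCharacter G) (θ : IrrCharacter N) :
    resMult N χ θ * charDegree (θ : N → ℂ) ≤ charDegree (χ : G → ℂ) := by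
  rw [← sum_resMult_degree (N := N) χ]
  exact Finset.single_le_sum (f := fun θ => resMult N χ θ * charDegree (θ : N → ℂ))
    (fun i _ => Nat.zero_le _) (Finset.mem_univ θ)

theorem over_triv : Over N (trivIrr G) (trivIrr N) := by
  show classInner ((trivIrr N : IrrCharacter N) : N → ℂ) ((trivIrr N : IrrCharacter N) : N → ℂ) ≠ 0
  rw [irr_inner_self (trivIrr N).2]
  exact one_ne_zero

theorem mem_principal_of_over (hM : IsPModular p M) {χ : IrrCharacter G}
    (hχ : χ ∈ principalBlock M G) {θ : IrrCharacter N} (h : Over N χ θ) :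
    θ ∈ principalBlock M N := by
  obtain ⟨g, φ, hφ, hθ⟩ := mem_orbitSet_of_covers hM (isPBlock_principal M)
    (isPBlock_principal M) (trivIrr_mem_principal hM) (trivIrr_mem_principal hM) over_triv hχ h
  exact sameBlock_conjFn g (θ := trivIrr N) (θ' := φ) (φ := trivIrr N) (φ' := θ) rfl hθ hφ

theorem exists_over_principal [Fact p.Prime] (hM : IsPModular p M) {θ : IrrCharacter N}
    (hθ : θ ∈ principalBlock M N) : ∃ χ ∈ principalBlock M G, Over N χ θ :=
  exists_over_of_covers hM (isPBlock_principal M) (isPBlock_principal M)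
    ⟨trivIrr G, trivIrr_mem_principal hM, trivIrr N, trivIrr_mem_principal hM, over_triv⟩ hθ

/-- The sum of squares of degrees over a set of characters. -/
noncomputable def sqSum {H : Type*} [Group H] (A : Set (IrrCharacter H)) : ℕ :=
  ∑ᶠ χ ∈ A, charDegree (χ : H → ℂ) ^ 2

theorem sqSum_eq {H : Type*} [Group H] [Fintype H] (A : Set (IrrCharacter H)) :
    sqSum A = ∑ χ ∈ A.toFinset, charDegree (χ : H → ℂ) ^ 2 :=
  finsum_mem_eq_toFinset_sum _ _

variable [Fact p.Prime]

/-- Double counting over a normal subgroup. -/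
theorem sqSum_principal_eq (hM : IsPModular p M) :
    sqSum (principalBlock M G) = ∑ θ ∈ (principalBlock M N).toFinset, charDegree (θ : N → ℂ) *
      ∑ χ ∈ (principalBlock M G).toFinset, resMult N χ θ * charDegree (χ : G → ℂ) := by
  simp only [Finset.mul_sum]
  rw [sqSum_eq, Finset.sum_comm]
  refine Finset.sum_congr rfl fun χ hχ => ?_
  rw [Set.mem_toFinset] at hχ
  conv_lhs => rw [sq, ← sum_resMult_degree (N := N) χ, Finset.sum_mul]
  rw [← Finset.sum_subset (Finset.subset_univ (principalBlock M N).toFinset)]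
  · refine Finset.sum_congr rfl fun θ _ => ?_
    rw [sum_resMult_degree]
    ring
  · intro θ _ hθ
    rw [Set.mem_toFinset] at hθ
    rw [(by by_contra h; exact hθ (mem_principal_of_over hM hχ (over_iff_resMult.2 h)) :
      resMult N χ θ = 0), zero_mul, zero_mul]

theorem degree_le_sum_over (hM : IsPModular p M) {θ : IrrCharacter N}
    (hθ : θ ∈ principalBlock M N) :
    charDegree (θ : N → ℂ) ≤
      ∑ χ ∈ (principalBlock M G).toFinset, resMult N χ θ * charDegree (χ : G → ℂ) := by
  obtain ⟨χ, hχ, h⟩ := exists_over_principal hM hθ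
  have h1 := Nat.one_le_iff_ne_zero.2 (over_iff_resMult.1 h)
  refine le_trans ?_ (Finset.single_le_sum (f := fun χ : IrrCharacter G =>
    resMult N χ θ * charDegree (χ : G → ℂ)) (fun i _ => Nat.zero_le _) (Set.mem_toFinset.2 hχ))
  calc charDegree (θ : N → ℂ) ≤ resMult N χ θ * charDegree (θ : N → ℂ) :=
        Nat.le_mul_of_pos_left _ h1
    _ ≤ charDegree (χ : G → ℂ) := resMult_mul_degree_le χ θ
    _ ≤ resMult N χ θ * charDegree (χ : G → ℂ) := Nat.le_mul_of_pos_left _ h1

theorem sqSum_principal_le (hM : IsPModular p M) :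
    sqSum (principalBlock M N) ≤ sqSum (principalBlock M G) ∧
      sqSum (principalBlock M G) ≤ N.index * sqSum (principalBlock M N) := by
  rw [sqSum_principal_eq (N := N) hM, sqSum_eq, Finset.mul_sum]
  refine ⟨Finset.sum_le_sum fun θ hθ => ?_, Finset.sum_le_sum fun θ _ => ?_⟩
  · rw [sq]
    exact Nat.mul_le_mul_left _ (degree_le_sum_over hM (Set.mem_toFinset.1 hθ))
  · refine (Nat.mul_le_mul_left _ (le_of_le_of_eq
      (Finset.sum_le_sum_of_subset (Finset.subset_univ _)) (sum_resMult_induced θ))).trans ?_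
    exact le_of_eq (by ring)

/-- Equality case: restriction is a bijection between the principal blocks. -/
theorem restriction_bijection_of_sqSum_le (hM : IsPModular p M)
    (hle : sqSum (principalBlock M G) ≤ sqSum (principalBlock M N)) :
    (∀ χ ∈ principalBlock M G, ∃ θ ∈ principalBlock M N, ∀ n : N, (χ : G → ℂ) n = (θ : N → ℂ) n) ∧
      ∀ θ ∈ principalBlock M N, ∃! χ : IrrCharacter G,
        χ ∈ principalBlock M G ∧ ∀ n : N, (χ : G → ℂ) n = (θ : N → ℂ) n := by
  have hdeg : ∀ θ : IrrCharacter N, 0 < charDegree (θ : N → ℂ) := charDegree_pos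
  have heq : ∀ θ ∈ principalBlock M N, charDegree (θ : N → ℂ) =
      ∑ χ ∈ (principalBlock M G).toFinset, resMult N χ θ * charDegree (χ : G → ℂ) := by
    intro θ hθ
    rw [sqSum_principal_eq (N := N) hM, sqSum_eq] at hle
    by_contra hne
    refine absurd hle (not_le.2 (Finset.sum_lt_sum (fun φ hφ => ?_)
      ⟨θ, Set.mem_toFinset.2 hθ, ?_⟩))
    · rw [sq]
      exact Nat.mul_le_mul_left _ (degree_le_sum_over hM (Set.mem_toFinset.1 hφ))
    · rw [sq]
      exact Nat.mul_lt_mul_of_pos_left
        (lt_of_le_of_ne (degree_le_sum_over hM hθ) hne) (hdeg θ)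
  have key : ∀ χ ∈ principalBlock M G, ∀ θ ∈ principalBlock M N, Over N χ θ →
      (∀ n : N, (χ : G → ℂ) n = (θ : N → ℂ) n) ∧
      ∀ ξ ∈ principalBlock M G, Over N ξ θ → ξ = χ := by
    intro χ hχ θ hθ h
    have h1 := Nat.one_le_iff_ne_zero.2 (over_iff_resMult.1 h)
    have h2 : resMult N χ θ * charDegree (χ : G → ℂ) ≤ charDegree (θ : N → ℂ) := by
      rw [heq θ hθ]
      exact Finset.single_le_sum (f := fun χ : IrrCharacter G => resMult N χ θ * charDegree (χ : G → ℂ))
        (fun i _ => Nat.zero_le _) (Set.mem_toFinset.2 hχ)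
    have h3 := resMult_mul_degree_le χ θ
    have hc : charDegree (θ : N → ℂ) = charDegree (χ : G → ℂ) := by
      have e1 : charDegree (θ : N → ℂ) ≤ resMult N χ θ * charDegree (θ : N → ℂ) :=
        Nat.le_mul_of_pos_left _ h1
      have e2 : charDegree (χ : G → ℂ) ≤ resMult N χ θ * charDegree (χ : G → ℂ) :=
        Nat.le_mul_of_pos_left _ h1
      omega
    have hm : resMult N χ θ = 1 := by
      rw [← hc] at h3
      have := hdeg θ
      nlinarith
    have hoth : ∀ φ : IrrCharacter N, φ ≠ θ → resMult N χ φ = 0 := by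
      intro φ hφ
      have hs := sum_resMult_degree (N := N) χ
      rw [← Finset.add_sum_erase _ _ (Finset.mem_univ θ), hm, one_mul, hc] at hs
      have h0 := Finset.sum_eq_zero_iff.1
        (show ∑ x ∈ Finset.univ.erase θ, resMult N χ x * charDegree (x : N → ℂ) = 0 by omega) φ
        (Finset.mem_erase.2 ⟨hφ, Finset.mem_univ _⟩)
      exact (Nat.mul_eq_zero.1 h0).resolve_right (hdeg φ).ne'
    refine ⟨fun n => ?_, fun ξ hξ hξθ => ?_⟩
    · have hs := congrFun (classFunction_eq_sum (fun n : N => (χ : G → ℂ) n)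
        (isClassFunction_restrict (isCharacter_classFunction χ.2.isCharacter') N)) n
      rw [Finset.sum_apply, Finset.sum_eq_single θ] at hs
      · rw [hs, Pi.smul_apply, ← resMult_cast, hm, Nat.cast_one, one_smul]
      · intro φ _ hφ
        rw [Pi.smul_apply, ← resMult_cast, hoth φ hφ, Nat.cast_zero, zero_smul]
      · exact fun h => absurd (Finset.mem_univ θ) h
    · by_contra hne
      have h4 := over_iff_resMult.1 hξθ
      have : resMult N χ θ * charDegree (χ : G → ℂ) + resMult N ξ θ * charDegree (ξ : G → ℂ) ≤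
          charDegree (θ : N → ℂ) := by
        rw [heq θ hθ, ← Finset.sum_pair (Ne.symm hne)
          (f := fun χ : IrrCharacter G => resMult N χ θ * charDegree (χ : G → ℂ))]
        refine Finset.sum_le_sum_of_subset fun x hx => ?_
        rcases Finset.mem_insert.1 hx with rfl | hx
        · exact Set.mem_toFinset.2 hχ
        · rw [Finset.mem_singleton.1 hx]; exact Set.mem_toFinset.2 hξ
      have h5 := Nat.mul_pos (Nat.pos_of_ne_zero h4) (charDegree_pos ξ)
      rw [hm, one_mul] at this
      omega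
  refine ⟨fun χ hχ => ?_, fun θ hθ => ?_⟩
  · obtain ⟨θ, h⟩ := exists_over (N := N) χ
    exact ⟨θ, mem_principal_of_over hM hχ h, (key χ hχ θ (mem_principal_of_over hM hχ h) h).1⟩
  · obtain ⟨χ, hχ, h⟩ := exists_over_principal (G := G) hM hθ
    refine ⟨χ, ⟨hχ, (key χ hχ θ hθ h).1⟩, fun ξ hξ => (key χ hχ θ hθ h).2 ξ hξ.1 ?_⟩
    show classInner (fun n : N => (ξ : G → ℂ) n) (θ : N → ℂ) ≠ 0
    rw [funext hξ.2, irr_inner_self θ.2]
    exact one_ne_zero

end CfsgLib.Block
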