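import Cfsg.Agent.Lib.BlockBound
import Cfsg.Agent.Lib.BlockPairBridge
import Cfsg.Agent.Lib.CharPerm

/-!
# Inversion-stable 2-blocks of full defect
-/

set_option autoImplicit false
set_option linter.style.haveILetI false
set_option linter.unusedSectionVars false

namespace CfsgLib.Block

open Cfsg CfsgLib.Char
open scoped ComplexConjugate
open scoped Classical

universe u

variable {G : Type u} [Group G] [Fintype G] {p : ℕ} {M : Ideal AlgInt}

theorem sum_gFn_eq (hM : IsPModular p M) {B : Set (IrrCharacter G)} (hB : IsPBlock M B) :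
    ∑ g, gFn hM B g = if trivIrr G ∈ B then 1 else 0 := by
  rw [gFn_block hM hB, ← ev_triv_eq_sum, ev_bIdem]

/-- In a block of full defect the coefficient at `1` is a unit. -/
theorem gFn_one_ne_zero (hM : IsPModular p M) {B : Set (IrrCharacter G)} (hB : IsPBlock M B)
    (h0 : blockMin p B = 0) : gFn hM B 1 ≠ 0 := by
  haveI := hM.2.1.isPrime
  intro hz
  rw [gFn_block hM hB, cred_eq_zero_iff] at hz
  replace hz : MemLocalIdeal M (coef (indVal B) 1) := hz
  rw [memLocalIdeal_iff_exists hM] at hz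
  obtain ⟨hmem, hres⟩ := hz
  set S : ℕ := ∑ χ ∈ Finset.univ.filter (· ∈ B), charDegree (χ : G → ℂ) ^ 2 with hS
  have hv := factorization_sum_sq hM hB
  rw [← hS, h0, add_zero] at hv
  set n := Nat.card G with hn
  have hSe : (S : ℂ) = (n : ℂ) * coef (indVal B) 1 := by
    rw [coef, ← mul_assoc, mul_inv_cancel₀ (natCard_ne_zero G), one_mul, hS, Nat.cast_sum,
      Finset.sum_filter]
    refine Finset.sum_congr rfl fun χ _ => ?_
    rw [irr_conj_one, ← charDegree_cast χ.2.isCharacter', indVal]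
    split_ifs
    · push_cast; ring
    · simp
  have hS0 : S ≠ 0 := by
    obtain ⟨χ, hχ⟩ := isPBlock_nonempty hM hB
    exact (Finset.sum_pos' (fun _ _ => Nat.zero_le _)
      ⟨χ, by simp [hχ], pow_pos (charDegree_pos χ) 2⟩).ne'
  set a := n.factorization p with ha
  have e1 : p ^ a * (n / p ^ a) = n := Nat.ordProj_mul_ordCompl_eq_self n p
  have e2 : p ^ a * (S / p ^ a) = S := hv ▸ Nat.ordProj_mul_ordCompl_eq_self S p
  have hnd : ¬ p ∣ S / p ^ a := hv ▸ Nat.not_dvd_ordCompl hM.1 hS0
  have e : ((S / p ^ a : ℕ) : locRing hM) =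
      ((n / p ^ a : ℕ) : locRing hM) * ⟨coef (indVal B) 1, hmem⟩ := by
    apply Subtype.ext
    show ((S / p ^ a : ℕ) : ℂ) = ((n / p ^ a : ℕ) : ℂ) * coef (indVal B) 1
    refine mul_left_cancel₀ (pow_ne_zero a (Nat.cast_ne_zero.2 hM.1.ne_zero : (p : ℂ) ≠ 0)) ?_
    rw [← mul_assoc, ← Nat.cast_pow, ← Nat.cast_mul, ← Nat.cast_mul, e1, e2, hSe]
  have h2 := congrArg (res hM) e
  rw [map_mul, hres, mul_zero] at h2
  exact hnd ((res_natCast_eq_zero_iff hM _).1 h2)

/-- An inversion-stable 2-block of full defect is principal. -/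
theorem eq_principal_of_inv_stable (hM : IsPModular 2 M) {B : Set (IrrCharacter G)}
    (hB : IsPBlock M B) (h0 : blockMin 2 B = 0) (hinv : ∀ g, gFn hM B g⁻¹ = gFn hM B g) :
    B = principalBlock M G := by
  by_contra hne
  have htriv : trivIrr G ∉ B := fun h =>
    hne (isPBlock_eq_of_mem hM hB (isPBlock_principal M) h (trivIrr_mem_principal hM))
  refine gFn_one_ne_zero hM hB h0 ?_
  haveI := charP_resField hM
  classical
  have h1 : ∑ g ∈ Finset.univ.erase 1, gFn hM B g = 0 := by
    refine Finset.sum_involution (fun g _ => g⁻¹) (fun g _ => ?_) (fun g hg hne' => ?_)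
      (fun g hg => by simpa using hg) (fun g _ => inv_inv g)
    · rw [hinv]
      exact CharTwo.add_self_eq_zero _
    · intro hgi
      refine hne' ?_
      rw [gFn_block hM hB]
      refine cred_bIdem_singular hM hB ?_
      have hsq : g ^ 2 = 1 := by rw [sq]; exact inv_eq_iff_mul_eq_one.1 hgi
      rcases (Nat.dvd_prime Nat.prime_two).1 (orderOf_dvd_of_pow_eq_one hsq) with h | h
      · exact absurd (orderOf_eq_one_iff.1 h) (Finset.ne_of_mem_erase hg)
      · rw [h]
  have h2 := sum_gFn_eq hM hB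
  rw [if_neg htriv, ← Finset.add_sum_erase Finset.univ _ (Finset.mem_univ (1 : G)), h1,
    add_zero] at h2
  exact h2

theorem centralChar_irrConj (χ : IrrCharacter G) (g : G) :
    centralChar (irrConj χ : G → ℂ) g = centralChar (χ : G → ℂ) g⁻¹ := by
  rw [centralChar_inv, conj_centralChar]
  show ((Subgroup.centralizer ({g} : Set G)).index : ℂ) * conj ((χ : G → ℂ) g) /
    conj ((χ : G → ℂ) 1) = _
  rw [irr_conj_one]

/-- A real character makes its block stable under inversion. -/
theorem gFn_inv_of_real (hM : IsPModular p M) {B : Set (IrrCharacter G)} (hB : IsPBlock M B)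
    {χ : IrrCharacter G} (hχ : χ ∈ B) (hreal : ∀ g : G, ((χ : G → ℂ) g).im = 0) (g : G) :
    gFn hM B g⁻¹ = gFn hM B g := by
  have hc : ∀ h : G, centralChar (χ : G → ℂ) h⁻¹ = centralChar (χ : G → ℂ) h := fun h => by
    rw [← centralChar_irrConj, (irrConj_eq_self_iff χ).2 hreal]
  have hmem : ∀ ψ, irrConj ψ ∈ B ↔ ψ ∈ B := by
    have key : ∀ ψ, ψ ∈ B → irrConj ψ ∈ B := fun ψ hψ => by
      rw [isPBlock_eq_blockOf hM hB hχ]
      intro h
      rw [centralChar_irrConj, ← hc h]
      exact sameBlock_of_mem hM hB hχ hψ h⁻¹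
    have hii : ∀ ψ : IrrCharacter G, irrConj (irrConj ψ) = ψ := fun ψ =>
      Subtype.ext (funext fun x => Complex.conj_conj _)
    exact fun ψ => ⟨fun h => hii ψ ▸ key _ h, key ψ⟩
  have e : blockCoeff B g⁻¹ = blockCoeff B g := by
    rw [blockCoeff_eq_coef, blockCoeff_eq_coef, coef, coef]
    congr 1
    let σ : IrrCharacter G ≃ IrrCharacter G := ⟨irrConj, irrConj,
      fun ψ => Subtype.ext (funext fun x => Complex.conj_conj _),
      fun ψ => Subtype.ext (funext fun x => Complex.conj_conj _)⟩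
    conv_rhs => rw [← Equiv.sum_comp σ]
    refine Finset.sum_congr rfl fun ψ _ => ?_
    show _ = indVal B (irrConj ψ) * conj ((ψ : G → ℂ) 1) * conj (conj ((ψ : G → ℂ) g))
    rw [irr_conj_one, Complex.conj_conj, isCharacter_inv_eq_conj ψ.2.isCharacter',
      Complex.conj_conj]
    simp only [indVal, hmem]
  simp only [gFn, e]

theorem blockMin_eq_zero_of_odd (hM : IsPModular p M) {B : Set (IrrCharacter G)}
    (hB : IsPBlock M B) {χ : IrrCharacter G} (hχ : χ ∈ B)
    (hd : ¬ p ∣ charDegree (χ : G → ℂ)) : blockMin p B = 0 := by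
  have h := blockMin_le (p := p) hχ
  rwa [Nat.factorization_eq_zero_of_not_dvd hd, Nat.le_zero] at h

end CfsgLib.Block
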