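import Cfsg.Agent.Lib.BlockHeight
import Cfsg.Agent.Lib.BlockTwoReal
import Cfsg.Agent.Lib.BlockPrincipalNormal
import Cfsg.Agent.Lib.BlockRank

/-!
# Principal block constituents of induced characters
-/

set_option autoImplicit false
set_option linter.style.haveILetI false
set_option linter.unusedSectionVars false

universe u

namespace CfsgLib.Block

open Cfsg CfsgLib.Char
open scoped ComplexConjugate Classical

variable {G : Type u} [Group G] [Fintype G] {p : ℕ} [Fact p.Prime] {M : Ideal AlgInt}

theorem not_dvd_degree_triv : ¬ p ∣ charDegree (trivIrr G : G → ℂ) := by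
  have : charDegree (trivIrr G : G → ℂ) = 1 := by
    show ⌊(1 : ℂ).re⌋₊ = 1
    simp
  rw [this]
  exact (Fact.out : p.Prime).not_dvd_one

theorem blockMin_principal_zero (hM : IsPModular p M) : blockMin p (principalBlock M G) = 0 :=
  blockMin_eq_zero_of_odd hM (isPBlock_principal M) (trivIrr_mem_principal hM) not_dvd_degree_triv

theorem blockHeight_principal_eq_zero_iff (hM : IsPModular p M) (χ : IrrCharacter G) :
    blockHeight p (principalBlock M G) (χ : G → ℂ) = 0 ↔ ¬ p ∣ charDegree (χ : G → ℂ) := by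
  have h : blockHeight p (principalBlock M G) (χ : G → ℂ) =
      (charDegree (χ : G → ℂ)).factorization p - blockMin p (principalBlock M G) := rfl
  obtain ⟨k, hk⟩ := charDegree_dvd_card χ
  have h0 : charDegree (χ : G → ℂ) ≠ 0 := fun e => Nat.card_pos.ne' (by rw [hk, e, zero_mul])
  rw [h, blockMin_principal_zero hM, Nat.sub_zero]
  exact ⟨fun e hd => ((Fact.out : p.Prime).factorization_pos_of_dvd h0 hd).ne' e,
    Nat.factorization_eq_zero_of_not_dvd⟩

/-- A constituent of degree prime to `p` inside the block when the residual degree is nonzero. -/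
theorem exists_over_of_om_ne (hM : IsPModular p M) (H : Subgroup G) [Fintype H]
    (hidx : ¬ p ∣ H.index) (B : Set (IrrCharacter G)) (ξ : IrrCharacter H)
    (hξ : ¬ p ∣ charDegree (ξ : H → ℂ))
    (hmem : om (ξ : H → ℂ) (fun h : H => coef (indVal B) (h : G)) ∈ locRing hM)
    (hne : res hM ⟨_, hmem⟩ ≠ 0) :
    ∃ χ ∈ B, ¬ p ∣ charDegree (χ : G → ℂ) ∧
      classInner (fun h : H => (χ : G → ℂ) h) (ξ : H → ℂ) ≠ 0 := by
  have hθ := isCharacter_indFun (G := G) (H := H) ξ.2.isCharacter'
  choose k hk using fun χ : IrrCharacter G => inner_character_nat hθ χ.2.isCharacter'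
  by_contra hno
  push Not at hno
  have hdvd : p ∣ ∑ χ ∈ Finset.univ.filter (fun χ : IrrCharacter G => χ ∈ B),
      k χ * charDegree (χ : G → ℂ) := by
    refine Finset.dvd_sum fun χ hχ => ?_
    by_cases hd : p ∣ charDegree (χ : G → ℂ)
    · exact dvd_mul_of_dvd_right hd _
    · have h0 : classInner (fun h : H => (χ : G → ℂ) h) (ξ : H → ℂ) = 0 :=
        hno χ (Finset.mem_filter.1 hχ).2 hd
      have : (k χ : ℂ) = 0 := by
        rw [← hk, CfsgLib.Char.frobenius _ _ (irr_classFunction χ),
          ← CfsgLib.Char.inner_conj_symm, h0, map_zero]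
      rw [Nat.cast_eq_zero.1 this, zero_mul]
      exact dvd_zero p
  have hdeg : charDegree (indFun H (ξ : H → ℂ)) = H.index * charDegree (ξ : H → ℂ) := by
    have h1 : (charDegree (indFun H (ξ : H → ℂ)) : ℂ) = ((H.index * charDegree (ξ : H → ℂ) : ℕ) : ℂ) := by
      rw [charDegree_cast hθ, indFun_one_apply, Nat.cast_mul, charDegree_cast ξ.2.isCharacter']
    exact_mod_cast h1
  have hp' : ¬ p ∣ H.index * charDegree (ξ : H → ℂ) := fun h =>
    ((Fact.out : p.Prime).dvd_mul.1 h).elim hidx hξ
  refine hne ?_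
  have e := blockPart_indFun_one B ξ
  rw [hdeg, blockPart_eq] at e
  have e' : ((∑ χ ∈ Finset.univ.filter (fun χ : IrrCharacter G => χ ∈ B),
      k χ * charDegree (χ : G → ℂ) : ℕ) : ℂ) = ((H.index * charDegree (ξ : H → ℂ) : ℕ) : ℂ) *
        om (ξ : H → ℂ) (fun h : H => coef (indVal B) (h : G)) := by
    rw [← e, Nat.cast_sum, Finset.sum_filter]
    refine Finset.sum_congr rfl fun χ _ => ?_
    by_cases hχ : χ ∈ B
    · simp [indVal, hχ, hk, charDegree_cast χ.2.isCharacter']
    · simp [indVal, hχ]
  have e2 : ((∑ χ ∈ Finset.univ.filter (fun χ : IrrCharacter G => χ ∈ B),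
      k χ * charDegree (χ : G → ℂ) : ℕ) : locRing hM) =
      ((H.index * charDegree (ξ : H → ℂ) : ℕ) : locRing hM) * ⟨_, hmem⟩ := Subtype.ext (by
    simpa using e')
  haveI := hM.2.1
  letI := Ideal.Quotient.field M
  have e3 := congrArg (res hM) e2
  rw [map_mul, (res_natCast_eq_zero_iff hM _).2 hdvd] at e3
  rcases mul_eq_zero.1 e3.symm with h | h
  · exact absurd ((res_natCast_eq_zero_iff hM _).1 h) hp'
  · exact h

/-- Every linear character of a Sylow subgroup lies under a principal block character of degree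
prime to `p`. -/
theorem exists_over_sylow_linear (hM : IsPModular p M) (P : Sylow p G)
    [Fintype (P : Subgroup G)] (ξ : IrrCharacter (P : Subgroup G))
    (hξ : ¬ p ∣ charDegree (ξ : ↥(P : Subgroup G) → ℂ)) :
    ∃ χ ∈ principalBlock M G, ¬ p ∣ charDegree (χ : G → ℂ) ∧
      classInner (fun h : (P : Subgroup G) => (χ : G → ℂ) h) (ξ : ↥(P : Subgroup G) → ℂ) ≠ 0 := by
  have hB := isPBlock_principal (G := G) M
  have hval : om (ξ : ↥(P : Subgroup G) → ℂ)
      (fun h : (P : Subgroup G) => coef (indVal (principalBlock M G)) (h : G)) =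
      coef (indVal (principalBlock M G)) 1 := by
    rw [om, Finset.sum_eq_single 1, Subgroup.coe_one, mul_div_assoc, div_self (irr_one_ne_zero ξ),
      mul_one]
    · intro h _ hne
      obtain ⟨j, hj⟩ := P.isPGroup' h
      have hd : p ∣ orderOf (h : G) := by
        rw [Subgroup.orderOf_coe]
        obtain ⟨i, -, hi⟩ := (Nat.dvd_prime_pow (Fact.out : p.Prime)).1
          (orderOf_dvd_of_pow_eq_one hj)
        rcases i with _ | i
        · exact absurd (orderOf_eq_one_iff.1 (by simpa using hi)) hne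
        · exact hi ▸ dvd_pow_self p (Nat.succ_ne_zero i)
      rw [coef_indVal_singular hM hB hd, zero_mul]
    · exact fun h => absurd (Finset.mem_univ _) h
  have hmem : coef (indVal (principalBlock M G)) 1 ∈ locRing hM := indVal_mem hM hB 1
  have hmem' : om (ξ : ↥(P : Subgroup G) → ℂ)
      (fun h : (P : Subgroup G) => coef (indVal (principalBlock M G)) (h : G)) ∈ locRing hM := by
    rw [hval]; exact hmem
  refine exists_over_of_om_ne hM _ P.not_dvd_index _ ξ hξ hmem' ?_
  rw [show (⟨_, hmem'⟩ : locRing hM) = ⟨_, hmem⟩ from Subtype.ext hval]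
  have h := gFn_one_ne_zero hM hB (blockMin_principal_zero hM)
  rwa [gFn, dif_pos (blockCoeff_mem hM hB 1), show (⟨blockCoeff (principalBlock M G) 1,
    blockCoeff_mem hM hB 1⟩ : locRing hM) = ⟨_, hmem⟩ from
      Subtype.ext (blockCoeff_eq_coef _ _)] at h

end CfsgLib.Block
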