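import Cfsg.Agent.Lib.BlockRank
import Cfsg.Agent.Lib.BlockPairBridge

/-!
# Sections and ranks
-/

set_option autoImplicit false
set_option linter.style.haveILetI false
set_option linter.unusedSectionVars false

namespace CfsgLib.Block

open Cfsg CfsgLib.Char
open scoped ComplexConjugate Classical

universe u

variable {G : Type u} [Group G] [Fintype G] {p : ℕ} {M : Ideal AlgInt}

/-- A pair on a cyclic group gives a block inducing `B`. -/
theorem isInduced_of_pair (hM : IsPModular p M) {u : G} (hu : ∃ k, orderOf u = p ^ k)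
    {B : Set (IrrCharacter G)} (hB : IsPBlock M B)
    {e : Set (IrrCharacter (Subgroup.centralizer ({u} : Set G)))} (he : IsPBlock M e)
    (h : gconv (trc (Subgroup.zpowers u) (gFn hM B)) (bFn hM _ e) = bFn hM _ e) :
    ∀ ξ ∈ e, ξ ∈ secSet M u B := by
  intro ξ hξ
  haveI := nontrivial_resField hM
  set w : intRing (G := Subgroup.centralizer ({u} : Set G)) hM := ⟨_, secSet_mem hM hu hB⟩ with hw
  have e1 : trc (Subgroup.zpowers u) (gFn hM B) =
      ext0 (Subgroup.centralizer ({u} : Set G)) (cred hM w) := by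
    funext g
    by_cases hg : g ∈ Subgroup.centralizer ({u} : Set G)
    · lift g to Subgroup.centralizer ({u} : Set G) using hg
      rw [ext0_coe, hw, cred_secSet hM hu hB, trc, if_pos (by rw [centralizer_zpowers]; exact g.2),
        gFn_block hM hB]
    · rw [show ext0 (Subgroup.centralizer ({u} : Set G)) (cred hM w) g = 0 from dif_neg hg, trc,
        if_neg (by rwa [centralizer_zpowers])]
  rw [e1, bFn_eq_ext0, ← ext0_gconv] at h
  have h2 := ext0_injective _ h
  rw [gFn_block hM he, ← cred_mul_eq_gconv] at h2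
  have h3 := ev_congr_cred hM h2 ξ
  rw [map_mul, ev_bIdem, if_pos hξ, mul_one] at h3
  by_contra hn
  rw [show ev hM ξ w = res hM ⟨indVal (secSet M u B) ξ, val_mem hM w.2 ξ⟩ from rfl] at h3
  simp only [indVal, if_neg hn] at h3
  exact zero_ne_one ((map_zero (res hM)).symm.trans h3)

/-- The kernel of a block. -/
noncomputable def blockKer (b : Set (IrrCharacter G)) (y c : G) : ℂ :=
  ∑ ξ : IrrCharacter G, indVal b ξ * (ξ : G → ℂ) y * conj ((ξ : G → ℂ) c)

theorem sum_blockKer_mul (b : Set (IrrCharacter G)) (y : G) (ζ : IrrCharacter G) :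
    ∑ c, blockKer b y c * (ζ : G → ℂ) c =
      indVal b ζ * (Nat.card G : ℂ) * (ζ : G → ℂ) y := by
  simp only [blockKer, Finset.sum_mul]
  rw [Finset.sum_comm, Finset.sum_eq_single ζ]
  · have h := irr_inner_self ζ.2
    unfold classInner at h
    rw [inv_mul_eq_one₀ (natCard_ne_zero G)] at h
    rw [h, Finset.mul_sum, Finset.sum_mul]
    exact Finset.sum_congr rfl fun c _ => by ring
  · intro φ _ hne
    have h := irr_classInner ζ φ
    rw [if_neg (Ne.symm hne), classInner, mul_eq_zero_iff_left (inv_ne_zero (natCard_ne_zero G))]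
      at h
    calc _ = indVal b φ * (φ : G → ℂ) y * ∑ c, (ζ : G → ℂ) c * conj ((φ : G → ℂ) c) := by
          rw [Finset.mul_sum]; exact Finset.sum_congr rfl fun c _ => by ring
      _ = 0 := by rw [h, mul_zero]
  · exact fun h => absurd (Finset.mem_univ _) h

theorem blockPart_eq_ker (b : Set (IrrCharacter G)) (f : G → ℂ) (y : G) :
    blockPart b f y = (Nat.card G : ℂ)⁻¹ * ∑ c, blockKer b y c * f c := by
  simp only [blockPart_eq, classInner, blockKer, Finset.mul_sum, Finset.sum_mul]
  rw [Finset.sum_comm]
  exact Finset.sum_congr rfl fun c _ => Finset.sum_congr rfl fun ξ _ => by ring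

/-- The `b`-part of the translate by `u`. -/
noncomputable def secPart (u : G) (b : Set (IrrCharacter (Subgroup.centralizer ({u} : Set G))))
    (χ : IrrCharacter G) : Subgroup.centralizer ({u} : Set G) → ℂ :=
  blockPart b fun c : Subgroup.centralizer ({u} : Set G) => (χ : G → ℂ) (u * (c : G))

/-- **Orthogonality of the generalized decomposition numbers.** -/
theorem sum_secPart_mul (hM : IsPModular p M) {u : G} (hu : ∃ k, orderOf u = p ^ k)
    {B : Set (IrrCharacter G)} (hB : IsPBlock M B)
    {e e' : Set (IrrCharacter (Subgroup.centralizer ({u} : Set G)))}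
    (he : IsPBlock M e) (he' : IsPBlock M e') (hind : ∀ ξ ∈ e, ξ ∈ secSet M u B)
    {s s' : Subgroup.centralizer ({u} : Set G)} (hs : ¬ p ∣ orderOf s) (hs' : ¬ p ∣ orderOf s') :
    ∑ χ, indVal B χ * (secPart u e χ s * conj (secPart u e' χ s')) =
      ∑ ζ, indVal e ζ * indVal e' ζ *
        ((ζ : Subgroup.centralizer ({u} : Set G) → ℂ) s *
          conj ((ζ : Subgroup.centralizer ({u} : Set G) → ℂ) s')) := by
  set R : Finset (Subgroup.centralizer ({u} : Set G)) :=
    Finset.univ.filter fun c => ¬ p ∣ orderOf c with hR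
  have hsub : ∀ (b : Set (IrrCharacter (Subgroup.centralizer ({u} : Set G)))), IsPBlock M b →
      ∀ t : Subgroup.centralizer ({u} : Set G), ¬ p ∣ orderOf t → ∀ c, c ∉ R →
      blockKer b t c = 0 := by
    intro b hb t ht c hc
    simp only [hR, Finset.mem_filter, Finset.mem_univ, true_and, not_not] at hc
    exact block_sum_regular_singular hM hb ht hc
  have hval : ∀ (b : Set (IrrCharacter (Subgroup.centralizer ({u} : Set G)))), IsPBlock M b →
      ∀ t : Subgroup.centralizer ({u} : Set G), ¬ p ∣ orderOf t → ∀ χ : IrrCharacter G,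
      secPart u b χ t = (Nat.card (Subgroup.centralizer ({u} : Set G)) : ℂ)⁻¹ *
        ∑ c ∈ R, blockKer b t c * (χ : G → ℂ) (u * (c : G)) := by
    intro b hb t ht χ
    rw [secPart, blockPart_eq_ker, Finset.sum_subset (Finset.subset_univ R)
      fun c _ hc => by rw [hsub b hb t ht c hc, zero_mul]]
  have hker : ∀ (b : Set (IrrCharacter (Subgroup.centralizer ({u} : Set G)))), IsPBlock M b →
      ∀ t : Subgroup.centralizer ({u} : Set G), ¬ p ∣ orderOf t →
      ∀ ζ : IrrCharacter (Subgroup.centralizer ({u} : Set G)),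
      ∑ c ∈ R, blockKer b t c * (ζ : Subgroup.centralizer ({u} : Set G) → ℂ) c =
        indVal b ζ * (Nat.card (Subgroup.centralizer ({u} : Set G)) : ℂ) *
          (ζ : Subgroup.centralizer ({u} : Set G) → ℂ) t := by
    intro b hb t ht ζ
    rw [Finset.sum_subset (Finset.subset_univ R)
      fun c _ hc => by rw [hsub b hb t ht c hc, zero_mul], sum_blockKer_mul]
  set n := (Nat.card (Subgroup.centralizer ({u} : Set G)) : ℂ) with hn
  have hn0 : n ≠ 0 := natCard_ne_zero _
  calc ∑ χ, indVal B χ * (secPart u e χ s * conj (secPart u e' χ s'))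
      = n⁻¹ * n⁻¹ * ∑ c ∈ R, ∑ c' ∈ R, blockKer e s c * conj (blockKer e' s' c') *
          ∑ χ : IrrCharacter G, indVal B χ * (χ : G → ℂ) (u * (c : G)) *
            conj ((χ : G → ℂ) (u * (c' : G))) := by
        simp only [hval e he s hs, hval e' he' s' hs', map_mul, map_inv₀, map_sum, hn,
          Complex.conj_natCast, Finset.mul_sum, Finset.sum_mul]
        rw [Finset.sum_comm]
        conv_rhs => rw [Finset.sum_comm]
        refine Finset.sum_congr rfl fun c _ => ?_
        rw [Finset.sum_comm]
        exact Finset.sum_congr rfl fun c' _ => Finset.sum_congr rfl fun χ _ => by ring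
    _ = n⁻¹ * n⁻¹ * ∑ ζ, indVal (secSet M u B) ζ *
          ((∑ c ∈ R, blockKer e s c * (ζ : Subgroup.centralizer ({u} : Set G) → ℂ) c) *
           conj (∑ c ∈ R, blockKer e' s' c * (ζ : Subgroup.centralizer ({u} : Set G) → ℂ) c)) := by
        congr 1
        rw [Finset.sum_congr rfl fun c hc => Finset.sum_congr rfl fun c' hc' => by
          rw [block_sum_section hB hu c c' (Finset.mem_filter.1 hc).2 (Finset.mem_filter.1 hc').2 hM]]
        simp only [map_sum, map_mul, Finset.mul_sum, Finset.sum_mul]
        conv_lhs => arg 2; intro c; rw [Finset.sum_comm]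
        rw [Finset.sum_comm]
        refine Finset.sum_congr rfl fun ζ _ => ?_
        rw [Finset.sum_comm]
        exact Finset.sum_congr rfl fun c _ => Finset.sum_congr rfl fun c' _ => by ring
    _ = _ := by
        rw [Finset.mul_sum]
        refine Finset.sum_congr rfl fun ζ _ => ?_
        rw [hker e he s hs ζ, hker e' he' s' hs' ζ, map_mul, map_mul, conj_indVal, hn,
          Complex.conj_natCast]
        by_cases hζ : ζ ∈ e
        · rw [show indVal (secSet M u B) ζ = 1 from if_pos (hind ζ hζ)]
          field_simp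
        · simp [indVal, hζ]

theorem secPart_sum_norm (hM : IsPModular p M) {u : G} (hu : ∃ k, orderOf u = p ^ k)
    {B : Set (IrrCharacter G)} (hB : IsPBlock M B)
    {e : Set (IrrCharacter (Subgroup.centralizer ({u} : Set G)))} (he : IsPBlock M e)
    (hind : ∀ ξ ∈ e, ξ ∈ secSet M u B) :
    ∑ χ, indVal B χ * ∑ s ∈ Finset.univ.filter
        (fun s : Subgroup.centralizer ({u} : Set G) => ¬ p ∣ orderOf s),
        secPart u e χ s * conj (secPart u e χ s) =
      (Nat.card (Subgroup.centralizer ({u} : Set G)) : ℂ) * blockRank p e := by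
  rw [card_mul_blockRank hM he]
  simp only [Finset.mul_sum]
  rw [Finset.sum_comm]
  conv_rhs => rw [Finset.sum_comm]
  refine Finset.sum_congr rfl fun s hs => ?_
  rw [sum_secPart_mul hM hu hB he he hind (Finset.mem_filter.1 hs).2 (Finset.mem_filter.1 hs).2]
  refine Finset.sum_congr rfl fun ζ _ => ?_
  unfold indVal
  split_ifs <;> simp

/-- The `b`-part of the translate by `u⁻¹`, at inverses. -/
theorem blockPart_translate_inv (u : G)
    (b : Set (IrrCharacter (Subgroup.centralizer ({u} : Set G)))) (χ : IrrCharacter G)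
    (s : Subgroup.centralizer ({u} : Set G)) :
    blockPart b (fun c : Subgroup.centralizer ({u} : Set G) => (χ : G → ℂ) (u⁻¹ * (c : G))) s⁻¹ =
      conj (secPart u b χ s) := by
  simp only [secPart, blockPart_eq, map_sum, map_mul, conj_indVal]
  refine Finset.sum_congr rfl fun ξ _ => ?_
  rw [isCharacter_inv_eq_conj ξ.2.isCharacter']
  congr 2
  simp only [classInner, map_mul, map_inv₀, Complex.conj_natCast, map_sum]
  congr 1
  rw [← Equiv.sum_comp (Equiv.inv _)]
  refine Finset.sum_congr rfl fun c _ => ?_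
  simp only [Equiv.inv_apply]
  rw [show u⁻¹ * ((c⁻¹ : Subgroup.centralizer ({u} : Set G)) : G) = (u * (c : G))⁻¹ by
    rw [mul_inv_rev, Subgroup.coe_inv]
    exact (Commute.inv_inv (Subgroup.mem_centralizer_singleton_iff.1 c.2 :
      Commute (c : G) u).symm).eq, isCharacter_inv_eq_conj χ.2.isCharacter',
    isCharacter_inv_eq_conj ξ.2.isCharacter']

/-- The rank statement on any subgroup equal to the centralizer. -/
theorem sum_translate_parts (hM : IsPModular p M) {u : G} (hu : ∃ k, orderOf u = p ^ k)
    {B : Set (IrrCharacter G)} (hB : IsPBlock M B) {H : Subgroup G} [Fintype H]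
    (hH : H = Subgroup.centralizer ({u} : Set G))
    {e : Set (IrrCharacter H)} (he : IsPBlock M e)
    (hpair : gconv (trc (Subgroup.zpowers u) (gFn hM B)) (bFn hM H e) = bFn hM H e) :
    ∑ χ, indVal B χ * ∑ s : H, pRegularPart p (blockPart e fun c : H => (χ : G → ℂ) (u * c)) s *
        blockPart e (fun c : H => (χ : G → ℂ) (u⁻¹ * c)) s⁻¹ =
      (Nat.card H : ℂ) * blockRank p e := by
  subst hH
  rw [← secPart_sum_norm hM hu hB he (isInduced_of_pair hM hu hB he hpair)]
  refine Finset.sum_congr rfl fun χ _ => ?_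
  congr 1
  rw [Finset.sum_filter]
  refine Finset.sum_congr (Finset.ext fun _ => by simp) fun s _ => ?_
  rw [blockPart_translate_inv, pRegularPart_eq, regPart]
  simp only [secPart]
  split_ifs <;> simp

end CfsgLib.Block
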