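import Cfsg.Agent.Lib.BlockSectionVal
import Cfsg.Agent.Lib.BlockPairBridge
import Cfsg.Agent.Lib.BlockSectionRank

/-!
# The sections of the principal block
-/

set_option autoImplicit false
set_option linter.unusedSectionVars false

namespace CfsgLib.Block

open Cfsg CfsgLib.Char
open scoped Classical

universe u

variable {G : Type u} [Group G] [Fintype G] {p : ℕ} {M : Ideal AlgInt}

theorem bFn_principal_congr (hM : IsPModular p M) {H H' : Subgroup G} (h : H = H') :
    bFn hM H (principalBlock M H) = bFn hM H' (principalBlock M H') := by
  subst h
  rfl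

theorem prinFn_zpowers (hM : IsPModular p M) (u : G) :
    prinFn hM (Subgroup.zpowers u) =
      bFn hM (Subgroup.centralizer ({u} : Set G))
        (principalBlock M (Subgroup.centralizer ({u} : Set G))) :=
  bFn_principal_congr hM (centralizer_zpowers u)

/-- **The third main theorem on a section.** -/
theorem secSet_principal (hM : IsPModular p M) {u : G} (hu : ∃ k, orderOf u = p ^ k) :
    secSet M u (principalBlock M G) = principalBlock M (Subgroup.centralizer ({u} : Set G)) := by
  have hB : IsPBlock M (principalBlock M G) := isPBlock_principal M
  have hb : IsPBlock M (principalBlock M (Subgroup.centralizer ({u} : Set G))) :=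
    isPBlock_principal M
  refine Set.Subset.antisymm (fun ξ hξ => ?_) ?_
  · have h : IsInducedBlock M (Subgroup.centralizer ({u} : Set G))
        (blockOf M (ξ : Subgroup.centralizer ({u} : Set G) → ℂ)) (principalBlock M G) := hξ
    obtain ⟨-, he⟩ := (pairIn_principal_iff (hM := hM)).1 (pairIn_of_induced hM hu h)
    rw [prinFn_zpowers] at he
    rw [← bFn_injOn hM _ (isPBlock_blockOf ξ) hb he]
    exact mem_blockOf_self hM ξ
  · have hp := (pairIn_principal (hM := hM) (isPGroup_zpowers hu)).2.2
    rw [prinFn_zpowers] at hp
    exact isInduced_of_pair hM hu hB hb hp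

end CfsgLib.Block
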