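import Mathlib.Tactic
import Mathlib.Data.Fintype.BigOperators

/-!
# Integer matrices with Gram matrix `e + δ`
-/

set_option autoImplicit false
set_option linter.unusedSectionVars false

namespace CfsgLib.Block

open scoped Classical

variable {ι Ω : Type*} [Fintype ι] [Fintype Ω]

theorem two_mul_card_sub_one_le (v : Ω → ℤ) {a b : Ω} (hab : v a ≠ v b) :
    2 * ((Fintype.card Ω : ℤ) - 1) ≤ ∑ x, ∑ y, (v x - v y) ^ 2 := by
  have hne : a ≠ b := fun h => hab (h ▸ rfl)
  have h1 : ∀ x, 1 ≤ (v x - v a) ^ 2 + (v x - v b) ^ 2 := by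
    intro x
    by_cases hxa : v x = v a
    · have : v x - v b ≠ 0 := sub_ne_zero.2 (by rw [hxa]; exact hab)
      nlinarith [sq_nonneg (v x - v a), mul_self_pos.2 this]
    · have : v x - v a ≠ 0 := sub_ne_zero.2 hxa
      nlinarith [sq_nonneg (v x - v b), mul_self_pos.2 this]
  set s : Finset Ω := {a, b} with hs
  rw [← Finset.sum_add_sum_compl s]
  have h2 : (Fintype.card Ω : ℤ) ≤ ∑ x ∈ s, ∑ y, (v x - v y) ^ 2 := by
    rw [hs, Finset.sum_pair hne, ← Finset.sum_add_distrib]
    calc (Fintype.card Ω : ℤ) = ∑ _y : Ω, (1 : ℤ) := by simp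
      _ ≤ _ := Finset.sum_le_sum fun y _ => by nlinarith [h1 y]
  have h3 : (Fintype.card Ω : ℤ) - 2 ≤ ∑ x ∈ sᶜ, ∑ y, (v x - v y) ^ 2 := by
    calc (Fintype.card Ω : ℤ) - 2 = ∑ _x ∈ sᶜ, (1 : ℤ) := by
          rw [Finset.sum_const, Finset.card_compl, hs, Finset.card_pair hne, nsmul_eq_mul, mul_one,
            Nat.cast_sub]
          · norm_num
          · rw [← Finset.card_pair hne]; exact Finset.card_le_univ _
      _ ≤ _ := Finset.sum_le_sum fun x _ => by
          refine le_trans (h1 x) ?_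
          rw [← Finset.sum_pair hne (f := fun y => (v x - v y) ^ 2)]
          exact Finset.sum_le_sum_of_subset_of_nonneg (Finset.subset_univ _)
            fun _ _ _ => sq_nonneg _
  linarith

theorem sq_eq_one_cases {c : ℤ} (h : c ^ 2 = 1) : c = 1 ∨ c = -1 :=
  sq_eq_one_iff.1 h

/-- Rows are constant signs or signed unit vectors. -/
theorem rows_of_gram (n : ι → Ω → ℤ) (e : ℕ) [Nonempty Ω]
    (hgram : ∀ a b, ∑ i, n i a * n i b = (e : ℤ) + if a = b then 1 else 0)
    (hne : ∀ i, ∃ a, n i a ≠ 0) (hcard : e + Fintype.card Ω ≤ Fintype.card ι) :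
    ∃ X : Finset ι, X.card = e ∧ Xᶜ.card = Fintype.card Ω ∧
      ∃ c : ι → ℤ, (∀ i, c i = 1 ∨ c i = -1) ∧ (∀ i ∈ X, ∀ a, n i a = c i) ∧
        (∀ i ∉ X, ∃ a, ∀ b, n i b = if b = a then c i else 0) ∧
        ∀ i ∉ X, ∀ j ∉ X, ∀ a, n i a ≠ 0 → n j a ≠ 0 → i = j := by
  set t := Fintype.card Ω with ht
  have htpos : 0 < t := Fintype.card_pos
  have hnorm : ∀ a, ∑ i, n i a ^ 2 = (e : ℤ) + 1 := fun a => by
    simpa [sq] using hgram a a
  rcases (Nat.one_le_iff_ne_zero.2 htpos.ne').eq_or_lt with h1 | h2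
  · -- a single column
    haveI : Subsingleton Ω := Fintype.card_le_one_iff_subsingleton.1 (ht ▸ h1.symm.le)
    obtain ⟨a⟩ := ‹Nonempty Ω›
    have hone : ∀ i, 1 ≤ n i a ^ 2 := fun i => by
      obtain ⟨b, hb⟩ := hne i
      rw [Subsingleton.elim b a] at hb
      nlinarith [mul_self_pos.2 hb]
    have hle : (Fintype.card ι : ℤ) ≤ e + 1 := by
      rw [← hnorm a]
      calc (Fintype.card ι : ℤ) = ∑ _i : ι, (1 : ℤ) := by simp
        _ ≤ _ := Finset.sum_le_sum fun i _ => hone i
    have hcι : Fintype.card ι = e + 1 := by omega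
    have heq : ∀ i, n i a ^ 2 = 1 := by
      have h := (Finset.sum_eq_sum_iff_of_le (fun i _ => hone i)).1
        (show ∑ _i : ι, (1 : ℤ) = ∑ i, n i a ^ 2 by rw [hnorm a]; simp [hcι])
      exact fun i => (h i (Finset.mem_univ i)).symm
    obtain ⟨y⟩ : Nonempty ι := Fintype.card_pos_iff.1 (by omega)
    refine ⟨{y}ᶜ, by rw [Finset.card_compl, Finset.card_singleton, hcι]; omega,
      by rw [compl_compl, Finset.card_singleton]; omega, fun i => n i a,
      fun i => sq_eq_one_cases (heq i), fun i _ b => by rw [Subsingleton.elim b a],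
      fun i _ => ⟨a, fun b => by rw [Subsingleton.elim b a, if_pos rfl]⟩,
      fun i hi j hj _ _ _ => ?_⟩
    simp only [Finset.mem_compl, Finset.mem_singleton, not_not] at hi hj
    rw [hi, hj]
  · set X : Finset ι := Finset.univ.filter fun i => ∀ a b, n i a = n i b with hX
    have hXc : ∀ i, i ∉ X → ∃ a b, n i a ≠ n i b := fun i hi => by
      simpa [hX] using hi
    obtain ⟨a₀⟩ := ‹Nonempty Ω›
    have hdiff : ∑ i, ∑ a, ∑ b, (n i a - n i b) ^ 2 = 2 * (t : ℤ) * ((t : ℤ) - 1) := by
      rw [Finset.sum_comm]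
      rw [Finset.sum_congr rfl fun a _ => Finset.sum_comm]
      have : ∀ a b, ∑ i, (n i a - n i b) ^ 2 = if a = b then 0 else 2 := fun a b => by
        simp only [sub_sq, Finset.sum_add_distrib, Finset.sum_sub_distrib, mul_assoc,
          ← Finset.mul_sum]
        rw [hnorm, hnorm, hgram]
        split <;> ring
      simp only [this]
      rw [Finset.sum_congr rfl fun a _ => show (∑ b : Ω, if a = b then (0 : ℤ) else 2) =
        ((t : ℤ) - 1) * 2 by
          rw [← Finset.add_sum_erase _ _ (Finset.mem_univ a), if_pos rfl, zero_add,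
            Finset.sum_congr rfl fun b hb => if_neg (Ne.symm (Finset.mem_erase.1 hb).1),
            Finset.sum_const, Finset.card_erase_of_mem (Finset.mem_univ a), Finset.card_univ,
            nsmul_eq_mul, Nat.cast_sub (by omega), Nat.cast_one]]
      rw [Finset.sum_const, Finset.card_univ, nsmul_eq_mul]
      ring
    have hYle : (Xᶜ.card : ℤ) ≤ t := by
      have h : (Xᶜ.card : ℤ) * (2 * ((t : ℤ) - 1)) ≤ 2 * (t : ℤ) * ((t : ℤ) - 1) := by
        rw [← hdiff, ← nsmul_eq_mul, ← Finset.sum_const]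
        refine le_trans (Finset.sum_le_sum fun i hi => ?_)
          (Finset.sum_le_sum_of_subset_of_nonneg (Finset.subset_univ Xᶜ) fun i _ _ =>
            Finset.sum_nonneg fun a _ => Finset.sum_nonneg fun b _ => sq_nonneg _)
        obtain ⟨a, b, hab⟩ := hXc i (Finset.mem_compl.1 hi)
        exact two_mul_card_sub_one_le _ hab
      have hpos : (0 : ℤ) < 2 * ((t : ℤ) - 1) := by
        have : (1 : ℤ) < t := by exact_mod_cast h2
        linarith
      nlinarith
    have hlow : ∀ i, (if i ∈ X then (t : ℤ) else 1) ≤ ∑ a, n i a ^ 2 := by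
      intro i
      obtain ⟨a, ha⟩ := hne i
      split_ifs with hi
      · have hc : ∀ b, n i b = n i a := fun b => (Finset.mem_filter.1 hi).2 b a
        simp only [hc, Finset.sum_const, Finset.card_univ, nsmul_eq_mul]
        nlinarith [mul_self_pos.2 ha]
      · refine le_trans ?_ (Finset.single_le_sum (f := fun b => n i b ^ 2)
          (fun b _ => sq_nonneg _) (Finset.mem_univ a))
        nlinarith [mul_self_pos.2 ha]
    have htot : ∑ i, ∑ a, n i a ^ 2 = (t : ℤ) * (e + 1) := by
      rw [Finset.sum_comm, Finset.sum_congr rfl fun a _ => hnorm a, Finset.sum_const,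
        Finset.card_univ, nsmul_eq_mul]
    have hlowsum : ∑ i, (if i ∈ X then (t : ℤ) else 1) = X.card * (t : ℤ) + Xᶜ.card := by
      rw [← Finset.sum_add_sum_compl X, Finset.sum_congr rfl fun i hi => if_pos hi,
        Finset.sum_congr rfl fun i hi => if_neg (Finset.mem_compl.1 hi)]
      simp
    have hle := Finset.sum_le_sum fun i (_ : i ∈ Finset.univ) => hlow i
    rw [htot, hlowsum] at hle
    have hsum : (X.card : ℤ) + Xᶜ.card = Fintype.card ι := by
      exact_mod_cast Finset.card_add_card_compl X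
    have hc' : (e : ℤ) + t ≤ Fintype.card ι := by exact_mod_cast hcard
    have h2' : (1 : ℤ) < t := by exact_mod_cast h2
    have hXe : (X.card : ℤ) = e := by nlinarith
    have hYt : (Xᶜ.card : ℤ) = t := by nlinarith
    have heq := (Finset.sum_eq_sum_iff_of_le fun i (_ : i ∈ Finset.univ) => hlow i).1
      (by rw [htot, hlowsum, hXe, hYt]; ring)
    have hXsq : ∀ i ∈ X, n i a₀ ^ 2 = 1 ∧ ∀ b, n i b = n i a₀ := by
      intro i hi
      have hc : ∀ b, n i b = n i a₀ := fun b => (Finset.mem_filter.1 hi).2 b a₀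
      refine ⟨?_, hc⟩
      have h := heq i (Finset.mem_univ i)
      rw [if_pos hi] at h
      simp only [hc, Finset.sum_const, Finset.card_univ, nsmul_eq_mul] at h
      have ht0 : (t : ℤ) ≠ 0 := by omega
      exact mul_left_cancel₀ ht0 (by rw [mul_one]; exact h.symm)
    have hY : ∀ i ∉ X, ∃ a, n i a ^ 2 = 1 ∧ ∀ b, b ≠ a → n i b = 0 := by
      intro i hi
      have h := heq i (Finset.mem_univ i)
      rw [if_neg hi] at h
      obtain ⟨a, ha⟩ := hne i
      rw [← Finset.add_sum_erase _ _ (Finset.mem_univ a)] at h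
      have h1 : 1 ≤ n i a ^ 2 := by nlinarith [mul_self_pos.2 ha]
      have h0 : 0 ≤ ∑ b ∈ Finset.univ.erase a, n i b ^ 2 :=
        Finset.sum_nonneg fun b _ => sq_nonneg _
      refine ⟨a, by linarith, fun b hb => ?_⟩
      have := (Finset.sum_eq_zero_iff_of_nonneg fun b _ => sq_nonneg (n i b)).1
        (show ∑ b ∈ Finset.univ.erase a, n i b ^ 2 = 0 by linarith) b
        (Finset.mem_erase.2 ⟨hb, Finset.mem_univ b⟩)
      simpa using this
    choose! w hw hw' using hY
    let c : ι → ℤ := fun i => if i ∈ X then n i a₀ else n i (w i)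
    refine ⟨X, by exact_mod_cast hXe, by exact_mod_cast hYt, c, fun i => ?_, fun i hi b => ?_,
      fun i hi => ⟨w i, fun b => ?_⟩, fun i hi j hj a hia hja => ?_⟩
    · simp only [c]
      split_ifs with hi
      · exact sq_eq_one_cases (hXsq i hi).1
      · exact sq_eq_one_cases (hw i hi)
    · simp only [c, if_pos hi]; exact (hXsq i hi).2 b
    · simp only [c, if_neg hi]
      split_ifs with hb
      · rw [hb]
      · exact hw' i hi b hb
    · by_contra hij
      have h := hnorm a
      rw [← Finset.sum_add_sum_compl X, Finset.sum_congr rfl fun k hk =>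
        show n k a ^ 2 = 1 by rw [(hXsq k hk).2 a]; exact (hXsq k hk).1] at h
      simp only [Finset.sum_const, nsmul_eq_mul, mul_one] at h
      have hpair : n i a ^ 2 + n j a ^ 2 ≤ ∑ k ∈ Xᶜ, n k a ^ 2 := by
        rw [← Finset.sum_pair hij (f := fun k => n k a ^ 2)]
        refine Finset.sum_le_sum_of_subset_of_nonneg ?_ fun _ _ _ => sq_nonneg _
        intro k hk
        rcases Finset.mem_insert.1 hk with rfl | hk
        · exact Finset.mem_compl.2 hi
        · rw [Finset.mem_singleton.1 hk]; exact Finset.mem_compl.2 hj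
      nlinarith [mul_self_pos.2 hia, mul_self_pos.2 hja]

end CfsgLib.Block
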