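import Cfsg.Agent.Lib.BlockDefectOne3
import Cfsg.Agent.Lib.BlockRowComb
import Cfsg.Agent.Lib.BlockPrinSection
import Cfsg.Agent.Lib.BlockCoverUnique
import Mathlib.NumberTheory.LegendreSymbol.AddCharacter

/-!
# The principal block when the Sylow subgroup has prime order
-/

set_option autoImplicit false
set_option linter.style.haveILetI false
set_option linter.unusedSectionVars false
set_option linter.unusedFintypeInType false

namespace CfsgLib.Block

open Cfsg CfsgLib.Char
open scoped ComplexConjugate Classical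

universe u

variable {G : Type u} [Group G] [Fintype G] {p : ℕ} [hpf : Fact p.Prime] {M : Ideal AlgInt}

/-- A `p`-group has one block. -/
theorem sqSum_principal_pGroup (hM : IsPModular p M) (hG : IsPGroup p G) :
    sqSum (principalBlock M G) = Nat.card G := by
  letI : Field (ResField M) := @Ideal.Quotient.field _ _ M hM.2.1
  have hB := isPBlock_principal (G := G) M
  have hsupp : ∀ g : G, g ≠ 1 → gFn hM (principalBlock M G) g = 0 := by
    intro g hg
    have hdvd : p ∣ orderOf g := by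
      obtain ⟨j, hj⟩ := IsPGroup.iff_orderOf.1 hG g
      rcases Nat.eq_zero_or_pos j with h | h
      · rw [h, pow_zero, orderOf_eq_one_iff] at hj; exact absurd hj hg
      · rw [hj]; exact dvd_pow_self p h.ne'
    have h0 : blockCoeff (principalBlock M G) g = 0 := by
      rw [blockCoeff_eq_coef]
      exact coef_indVal_singular hM hB hdvd
    rw [gFn, dif_pos (blockCoeff_mem hM hB g)]
    have h1 : (⟨blockCoeff (principalBlock M G) g, blockCoeff_mem hM hB g⟩ : locRing hM) = 0 :=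
      Subtype.ext h0
    rw [h1, map_zero]
  have hone : gFn hM (principalBlock M G) = gone := by
    funext g
    simp only [gone]
    split_ifs with hg
    · subst hg
      rw [← sum_gFn_principal hM (G := G)]
      exact (Finset.sum_eq_single (1 : G) (fun g _ hg => hsupp g hg)
        (fun h => absurd (Finset.mem_univ _) h)).symm
    · exact hsupp g hg
  rw [sqSum, ← finrank_blockSpace_eq hM hB]
  have htop : blockSpace hM (principalBlock M G) = ⊤ :=
    eq_top_iff.2 fun f _ => by rw [mem_blockSpace, hone, gone_gconv]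
  rw [htop, finrank_top, Module.finrank_fintype_fun_eq_card, Nat.card_eq_fintype_card]

variable {P : Sylow p G} {e : ℕ}

theorem CycData.regular_mem (D : CycData P e) {c : G}
    (hc : c ∈ Subgroup.centralizer ((P : Subgroup G) : Set G)) (hcp : ¬ p ∣ orderOf c) :
    c ∈ D.K := by
  have hp : p.Prime := hpf.out
  obtain ⟨z, hz, k, hk, rfl⟩ := D.hKdec c hc
  have hcomm : Commute z k := Subgroup.mem_centralizer_iff.1 (D.hKC hk) z hz
  have hzp : z ^ p = 1 := by
    obtain ⟨m, hm⟩ := (SetLike.ext_iff.1 D.hu z).1 hz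
    have h := pow_orderOf_eq_one D.u
    rw [D.hup] at h
    rw [← hm, ← zpow_natCast, ← zpow_mul, mul_comm, zpow_mul, zpow_natCast, h, one_zpow]
  have hkK : k ^ Nat.card D.K = 1 :=
    congrArg Subtype.val (pow_card_eq_one' (x := (⟨k, hk⟩ : D.K)))
  have h1 : (z * k) ^ (p * Nat.card D.K) = 1 := by
    rw [hcomm.mul_pow, pow_mul, hzp, one_pow, one_mul, mul_comm, pow_mul, hkK, one_pow]
  have h2 : orderOf (z * k) ∣ Nat.card D.K :=
    (Nat.Coprime.symm (hp.coprime_iff_not_dvd.2 hcp)).dvd_of_dvd_mul_left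
      (orderOf_dvd_of_pow_eq_one h1)
  have h3 : z ^ Nat.card D.K = 1 := by
    have := orderOf_dvd_iff_pow_eq_one.1 h2
    rwa [hcomm.mul_pow, hkK, mul_one] at this
  have h4 : z = 1 := by
    rw [← orderOf_eq_one_iff]
    exact Nat.eq_one_of_dvd_coprimes (hp.coprime_iff_not_dvd.2 D.hKp)
      (orderOf_dvd_of_pow_eq_one hzp) (orderOf_dvd_of_pow_eq_one h3)
  rw [h4, one_mul]
  exact hk

theorem CycData.sqSum_centralizer (D : CycData P e) (hM : IsPModular p M) {v : G}
    (hv : Subgroup.centralizer ({v} : Set G) = Subgroup.centralizer ((P : Subgroup G) : Set G)) :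
    sqSum (principalBlock M (Subgroup.centralizer ({v} : Set G))) = p := by
  set C := Subgroup.centralizer ({v} : Set G)
  have hPC : (P : Subgroup G) ≤ C := by
    rw [hv]
    intro x hx
    rw [Subgroup.mem_centralizer_iff]
    intro y hy
    obtain ⟨a, ha⟩ := (SetLike.ext_iff.1 D.hu x).1 hx
    obtain ⟨b, hb⟩ := (SetLike.ext_iff.1 D.hu y).1 hy
    rw [← ha, ← hb]; exact (Commute.refl D.u).zpow_zpow b a
  set Q : Sylow p C := P.subtype hPC
  set N : Subgroup C := (P : Subgroup G).subgroupOf C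
  have hQN : (Q : Subgroup C) = N := rfl
  have hcentral : ∀ n ∈ N, ∀ c : C, c * n = n * c := fun n hn c => by
    have hc := (SetLike.ext_iff.1 hv (c : G)).1 c.2
    exact Subtype.ext (Subgroup.mem_centralizer_iff.1 hc (n : G) hn).symm
  haveI : N.Normal := ⟨fun n hn c => by rwa [hcentral n hn c, mul_inv_cancel_right]⟩
  have hidx : ¬ p ∣ N.index := hQN ▸ Q.not_dvd_index
  have hsup : N ⊔ Subgroup.centralizer ((Q : Subgroup C) : Set C) = ⊤ := by
    rw [eq_top_iff, hQN]
    refine fun c _ => Subgroup.mem_sup_right ?_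
    rw [Subgroup.mem_centralizer_iff]
    exact fun n hn => (hcentral n hn c).symm
  haveI : Fintype N := Fintype.ofFinite _
  have hcardN : Nat.card N = p := by
    rw [Nat.card_congr (Subgroup.subgroupOfEquivOfLe hPC).toEquiv, D.hu, Nat.card_zpowers, D.hup]
  rw [← hcardN, ← sqSum_principal_pGroup hM (G := N) (IsPGroup.of_card (n := 1) (by rw [hcardN, pow_one]))]
  exact le_antisymm (sqSum_principal_le_of_supplement hM hidx Q hsup) (sqSum_principal_le hM).1

theorem CycData.centralizer_pow (D : CycData P e) {b : ZMod p} (hb : b ≠ 0) :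
    Subgroup.centralizer ({D.u ^ b.val} : Set G) =
      Subgroup.centralizer ((P : Subgroup G) : Set G) := by
  have h : Subgroup.zpowers (D.u ^ b.val) = (P : Subgroup G) := by
    refine Subgroup.eq_of_le_of_card_ge
      (Subgroup.zpowers_le.2 (Subgroup.pow_mem _ D.u_mem _)) ?_
    rw [Nat.card_zpowers, orderOf_pow' _ (by simpa using hb), D.hu, Nat.card_zpowers, D.hup]
    have hcop : Nat.gcd p b.val = 1 :=
      (hpf.out.coprime_iff_not_dvd.2 fun hd =>
        absurd (Nat.le_of_dvd (Nat.pos_of_ne_zero (by simpa using hb)) hd)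
          (not_le.2 (ZMod.val_lt b)))
    rw [hcop, Nat.div_one]
  rw [← centralizer_zpowers, h]

/-- Characters in the principal block ignore the `p'`-part in the centralizer. -/
theorem CycData.apply_mul (D : CycData P e) (hM : IsPModular p M) {χ : IrrCharacter G}
    (hχ : χ ∈ principalBlock M G) {b : ZMod p} (hb : b ≠ 0) {y : G}
    (hy : y ∈ Subgroup.centralizer ((P : Subgroup G) : Set G)) (hyp : ¬ p ∣ orderOf y) :
    (χ : G → ℂ) (D.u ^ b.val * y) = (χ : G → ℂ) (D.u ^ b.val) := by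
  set v := D.u ^ b.val with hvdef
  have hv := D.centralizer_pow hb
  have hvp : ∃ j, orderOf v = p ^ j := by
    obtain ⟨j, hj⟩ := IsPGroup.iff_orderOf.1 P.isPGroup' ⟨v, Subgroup.pow_mem _ D.u_mem _⟩
    exact ⟨j, by rwa [Subgroup.orderOf_mk] at hj⟩
  set C := Subgroup.centralizer ({v} : Set G) with hC
  have hyC : y ∈ C := by rw [hv]; exact hy
  haveI : (D.K.subgroupOf C).Normal := ⟨fun x hx c => by
    refine D.hKn c ?_ x hx
    have hc : (c : G) ∈ Subgroup.centralizer ((P : Subgroup G) : Set G) := by rw [← hv]; exact c.2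
    refine Subgroup.mem_normalizer_iff.2 fun w => ⟨fun hw => ?_, fun hw => ?_⟩
    · rwa [← Subgroup.mem_centralizer_iff.1 hc w hw, mul_inv_cancel_right]
    · have h := Subgroup.mem_centralizer_iff.1 hc _ hw
      rw [inv_mul_cancel_right] at h
      rwa [← mul_left_cancel h] at hw⟩
  have hKC' : D.K ≤ C := by rw [hv]; exact D.hKC
  have hKp' : ¬ p ∣ Nat.card (D.K.subgroupOf C) := by
    rw [Nat.card_congr (Subgroup.subgroupOfEquivOfLe hKC').toEquiv]; exact D.hKp
  have hyreg : ¬ p ∣ orderOf (⟨y, hyC⟩ : C) := by rwa [Subgroup.orderOf_mk]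
  have h1reg : ¬ p ∣ orderOf (1 : C) := by rw [orderOf_one]; exact hpf.out.not_dvd_one
  have e1 := apply_mul_eq_sum_secSet hM hvp (isPBlock_principal M) hχ (1 : C) h1reg
  have e2 := apply_mul_eq_sum_secSet hM hvp (isPBlock_principal M) hχ (⟨y, hyC⟩ : C) hyreg
  simp only [Subgroup.coe_one, mul_one] at e1
  rw [e2, e1]
  refine Finset.sum_congr rfl fun ξ _ => ?_
  by_cases hξ : ξ ∈ secSet M v (principalBlock M G)
  · rw [secSet_principal hM hvp] at hξ
    rw [apply_eq_of_principal hM hKp' hξ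
      (show (⟨y, hyC⟩ : C) ∈ D.K.subgroupOf C from D.regular_mem hy hyp)]
  · rw [indVal, if_neg hξ, zero_mul, zero_mul]

theorem CycData.gram_values (D : CycData P e) (hM : IsPModular p M) {b b' : ZMod p} (hb : b ≠ 0)
    (hb' : b' ≠ 0) :
    ∑ χ, indVal (principalBlock M G) χ *
        ((χ : G → ℂ) (D.u ^ b.val) * conj ((χ : G → ℂ) (D.u ^ b'.val))) =
      if IsConj (D.u ^ b'.val) (D.u ^ b.val) then (p : ℂ) else 0 := by
  have hvp : ∀ c : ZMod p, ∃ j, orderOf (D.u ^ c.val) = p ^ j := fun c => by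
    obtain ⟨j, hj⟩ := IsPGroup.iff_orderOf.1 P.isPGroup' ⟨_, Subgroup.pow_mem _ D.u_mem c.val⟩
    exact ⟨j, by rwa [Subgroup.orderOf_mk] at hj⟩
  have h1reg : ¬ p ∣ orderOf (1 : G) := by rw [orderOf_one]; exact hpf.out.not_dvd_one
  split_ifs with h
  · have hχ : ∀ χ : IrrCharacter G,
        (χ : G → ℂ) (D.u ^ b'.val) = (χ : G → ℂ) (D.u ^ b.val) := fun χ => by
      obtain ⟨g, hg⟩ := isConj_iff.1 h
      rw [← hg, isCharacter_classFunction χ.2.isCharacter']
    simp only [hχ]
    set v := D.u ^ b.val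
    have h1 : ¬ p ∣ orderOf (1 : Subgroup.centralizer ({v} : Set G)) := by
      rw [orderOf_one]; exact hpf.out.not_dvd_one
    have h2 := block_sum_section (isPBlock_principal (G := G) M) (hvp b) (1 : Subgroup.centralizer ({v} : Set G))
      1 h1 h1 hM
    simp only [Subgroup.coe_one, mul_one, mul_assoc] at h2
    rw [h2, secSet_principal hM (hvp b)]
    have h3 := D.sqSum_centralizer hM (D.centralizer_pow hb)
    rw [sqSum_eq] at h3
    refine Eq.trans ?_ (congrArg (fun n : ℕ => (n : ℂ)) h3)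
    beta_reduce
    rw [Nat.cast_sum, ← Finset.sum_subset (Finset.subset_univ
      (principalBlock M (Subgroup.centralizer ({v} : Set G))).toFinset)]
    · refine Finset.sum_congr rfl fun ξ hξ => ?_
      rw [indVal, if_pos (Set.mem_toFinset.1 hξ), one_mul, Nat.cast_pow,
        charDegree_cast ξ.2.isCharacter', sq]
      congr 1
      obtain ⟨d, hd⟩ := exists_degree ξ.2.isCharacter'
      rw [hd, map_natCast]
    · intro ξ _ hξ
      rw [indVal, if_neg (mt Set.mem_toFinset.2 hξ), zero_mul]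
  · have h2 := block_sum_eq_zero (isPBlock_principal (G := G) M) (hvp b) (hvp b') h1reg h1reg
      (Commute.one_right _) (Commute.one_right _) h hM
    simp only [mul_one, mul_assoc] at h2
    exact h2

theorem CycData.isConj_pow_iff (D : CycData P e) {b b' : (ZMod p)ˣ} :
    IsConj (D.u ^ (b : ZMod p).val) (D.u ^ (b' : ZMod p).val) ↔
      b' / b ∈ Subgroup.zpowers (D.r D.y) := by
  have hinj : ∀ x y : ZMod p, D.u ^ x.val = D.u ^ y.val → x = y := by
    intro x y h
    have h1 := pow_inj_mod.1 h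
    rw [D.hup, Nat.mod_eq_of_lt (ZMod.val_lt x), Nat.mod_eq_of_lt (ZMod.val_lt y)] at h1
    exact ZMod.val_injective p h1
  have hconj : ∀ n ∈ Subgroup.normalizer ((P : Subgroup G) : Set G), ∀ x : ZMod p,
      n * D.u ^ x.val * n⁻¹ = D.u ^ ((D.r n : ZMod p) * x).val := by
    intro n hn x
    have h := pow_mod_orderOf D.u ((D.r n : ZMod p).val * x.val)
    rw [D.hup] at h
    rw [← conj_pow, D.hr n hn, ← pow_mul, ZMod.val_mul, h]
  have hrpow : ∀ i : ℕ, D.r (D.y ^ i) = D.r D.y ^ i := by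
    intro i
    induction i with
    | zero => rw [pow_zero, pow_zero]; exact (D.hrC 1 (Subgroup.one_mem _)).2 (Subgroup.one_mem _)
    | succ i ih => rw [pow_succ, D.hrmul _ (Subgroup.pow_mem _ D.hy i) _ D.hy, ih, ← pow_succ]
  have hzp : ∀ x : (ZMod p)ˣ, Subgroup.zpowers (D.u ^ (x : ZMod p).val) = (P : Subgroup G) := by
    intro x
    refine Subgroup.eq_of_le_of_card_ge
      (Subgroup.zpowers_le.2 (Subgroup.pow_mem _ D.u_mem _)) ?_
    have hx : (x : ZMod p).val ≠ 0 := by simp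
    rw [Nat.card_zpowers, orderOf_pow' _ hx, D.hu, Nat.card_zpowers, D.hup]
    have hcop : Nat.gcd p (x : ZMod p).val = 1 :=
      (hpf.out.coprime_iff_not_dvd.2 fun hd =>
        absurd (Nat.le_of_dvd (Nat.pos_of_ne_zero hx) hd) (not_le.2 (ZMod.val_lt _)))
    rw [hcop, Nat.div_one]
  rw [isConj_iff]
  constructor
  · rintro ⟨g, hg⟩
    have hgN : g ∈ Subgroup.normalizer ((P : Subgroup G) : Set G) := by
      refine Subgroup.mem_normalizer_iff.2 fun w => ⟨fun hw => ?_, fun hw => ?_⟩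
      · rw [← hzp b] at hw
        obtain ⟨m, rfl⟩ := hw
        rw [← hzp b', ← hg]
        show g * (D.u ^ (b : ZMod p).val) ^ m * g⁻¹ ∈ _
        rw [← conj_zpow]
        exact Subgroup.zpow_mem_zpowers _ _
      · rw [← hzp b', ← hg] at hw
        obtain ⟨m, hm⟩ := hw
        rw [← hzp b]
        refine ⟨m, ?_⟩
        have h := hm
        simp only [conj_zpow, mul_left_inj, mul_right_inj] at h
        exact h
    obtain ⟨i, hi⟩ := D.hgen g hgN
    have hri : D.r g = D.r D.y ^ i := by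
      have h1 := (D.hrC _ (Subgroup.mul_mem _ hgN
        (Subgroup.inv_mem _ (Subgroup.pow_mem _ D.hy i)))).2 hi
      have h2 := D.hrmul _ (Subgroup.mul_mem _ hgN
        (Subgroup.inv_mem _ (Subgroup.pow_mem _ D.hy i))) _ (Subgroup.pow_mem _ D.hy i)
      rw [inv_mul_cancel_right, h1, one_mul, hrpow] at h2
      exact h2
    refine ⟨i, ?_⟩
    show D.r D.y ^ (i : ℤ) = b' / b
    rw [zpow_natCast, eq_div_iff_mul_eq', ← hri]
    refine Units.ext (hinj _ _ ?_)
    rw [Units.val_mul, ← hconj g hgN, hg]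
  · intro h
    obtain ⟨i, hi⟩ := (isOfFinOrder_of_finite _).mem_powers_iff_mem_zpowers.2 h
    have hi' : D.r D.y ^ i = b' / b := hi
    refine ⟨D.y ^ i, ?_⟩
    rw [hconj _ (Subgroup.pow_mem _ D.hy i), hrpow, hi', ← Units.val_mul, div_mul_cancel]

theorem exists_zeta (p : ℕ) [Fact p.Prime] :
    ∃ ψ : AddChar (ZMod p) ℂ, ψ.IsPrimitive ∧ IsPrimitiveRoot (ψ 1) p := by
  obtain ⟨ζ, hζ⟩ : ∃ ζ : ℂ, IsPrimitiveRoot ζ p :=
    ⟨_, Complex.isPrimitiveRoot_exp p (Fact.out : p.Prime).ne_zero⟩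
  refine ⟨AddChar.zmodChar p hζ.pow_eq_one, AddChar.zmodChar_primitive_of_primitive_root p hζ, ?_⟩
  rw [AddChar.zmodChar_apply]
  haveI : Fact (1 < p) := ⟨(Fact.out : p.Prime).one_lt⟩
  rw [ZMod.val_one, pow_one]
  exact hζ

theorem CycData.exists_mult (D : CycData P e) {ψ : AddChar (ZMod p) ℂ}
    (hψ : IsPrimitiveRoot (ψ 1) p) (χ : IrrCharacter G) :
    ∃ m : ZMod p → ℕ, ∀ b : ZMod p, (χ : G → ℂ) (D.u ^ b.val) = ∑ a, (m a : ℂ) * ψ (a * b) := by
  obtain ⟨d, ρ, -, hρ⟩ := χ.2
  obtain ⟨bas, μ, -, hμ, hchar⟩ := exists_rep_eigenbasis (ρ := ρ) D.u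
  have hex : ∀ i, ∃ a : ZMod p, μ i = ψ a := by
    intro i
    have h := hμ i
    rw [D.hup] at h
    obtain ⟨j, -, hj⟩ := hψ.eq_pow_of_pow_eq_one h
    exact ⟨(j : ZMod p), by rw [← hj, ← AddChar.map_nsmul_eq_pow, nsmul_eq_mul, mul_one]⟩
  choose a ha using hex
  refine ⟨fun x => (Finset.univ.filter fun i => a i = x).card, fun b => ?_⟩
  rw [show (χ : G → ℂ) (D.u ^ b.val) = ∑ i, μ i ^ b.val by rw [← hchar, hρ]]
  have hterm : ∀ i, μ i ^ b.val = ψ (a i * b) := fun i => by
    rw [ha i, ← AddChar.map_nsmul_eq_pow, nsmul_eq_mul, ZMod.natCast_zmod_val, mul_comm]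
  rw [Finset.sum_congr rfl fun i _ => hterm i,
    ← Finset.sum_fiberwise Finset.univ a (fun i => ψ (a i * b))]
  refine Finset.sum_congr rfl fun x _ => ?_
  rw [Finset.sum_congr rfl fun i hi => show ψ (a i * b) = ψ (x * b) by
    rw [(Finset.mem_filter.1 hi).2], Finset.sum_const, nsmul_eq_mul]

/-- The Fourier coefficient formula. -/
theorem mult_formula {ψ : AddChar (ZMod p) ℂ} (hψ : ψ.IsPrimitive) (m : ZMod p → ℕ) (a : ZMod p) :
    ∑ b : (ZMod p)ˣ, (∑ c, (m c : ℂ) * ψ (c * (b : ZMod p))) *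
        (ψ (-(a * (b : ZMod p))) - 1) = (p : ℂ) * ((m a : ℂ) - m 0) := by
  have hunits : ∀ F : ZMod p → ℂ, F 0 = 0 → ∑ b : (ZMod p)ˣ, F b = ∑ b : ZMod p, F b := by
    intro F hF
    refine Finset.sum_bij_ne_zero (fun b _ _ => (b : ZMod p)) (fun _ _ _ => Finset.mem_univ _)
      (fun _ _ _ _ _ _ h => Units.ext h) (fun x _ hx => ?_) (fun _ _ _ => rfl)
    refine ⟨Units.mk0 x fun h => hx (h ▸ hF), Finset.mem_univ _, hx, rfl⟩
  rw [hunits (fun b => (∑ c, (m c : ℂ) * ψ (c * b)) * (ψ (-(a * b)) - 1))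
    (by simp [AddChar.map_zero_eq_one])]
  simp only [Finset.sum_mul]
  rw [Finset.sum_comm]
  have h : ∀ c : ZMod p, ∑ b : ZMod p, (m c : ℂ) * ψ (c * b) * (ψ (-(a * b)) - 1) =
      (m c : ℂ) * ((if c - a = 0 then (p : ℂ) else 0) - if c = 0 then (p : ℂ) else 0) := by
    intro c
    rw [Finset.sum_congr rfl fun b _ => show (m c : ℂ) * ψ (c * b) * (ψ (-(a * b)) - 1) =
        (m c : ℂ) * (ψ (b * (c - a)) - ψ (b * c)) by
      rw [mul_assoc, mul_sub, ← AddChar.map_add_eq_mul, mul_one, mul_comm c b]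
      congr 3; ring, ← Finset.mul_sum, Finset.sum_sub_distrib, AddChar.sum_mulShift _ hψ,
      AddChar.sum_mulShift _ hψ, ZMod.card]
    simp
  rw [Finset.sum_congr rfl fun c _ => h c]
  simp only [mul_sub, Finset.sum_sub_distrib, mul_ite, mul_zero, sub_eq_zero,
    Finset.sum_ite_eq', Finset.mem_univ, if_true]
  ring

theorem kernel_sum {ψ : AddChar (ZMod p) ℂ} (hψ : ψ.IsPrimitive) (a a' : (ZMod p)ˣ) :
    ∑ b : (ZMod p)ˣ, (ψ (-((a : ZMod p) * b)) - 1) * (ψ ((a' : ZMod p) * b) - 1) =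
      (p : ℂ) * ((if a = a' then 1 else 0) + 1) := by
  have hunits : ∀ F : ZMod p → ℂ, F 0 = 0 → ∑ b : (ZMod p)ˣ, F b = ∑ b : ZMod p, F b := by
    intro F hF
    refine Finset.sum_bij_ne_zero (fun b _ _ => (b : ZMod p)) (fun _ _ _ => Finset.mem_univ _)
      (fun _ _ _ _ _ _ h => Units.ext h) (fun x _ hx => ?_) (fun _ _ _ => rfl)
    refine ⟨Units.mk0 x fun h => hx (h ▸ hF), Finset.mem_univ _, hx, rfl⟩
  rw [hunits (fun b => (ψ (-((a : ZMod p) * b)) - 1) * (ψ ((a' : ZMod p) * b) - 1))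
    (by simp [AddChar.map_zero_eq_one])]
  rw [Finset.sum_congr rfl fun b _ => show (ψ (-((a : ZMod p) * b)) - 1) *
      (ψ ((a' : ZMod p) * b) - 1) = ψ (b * ((a' : ZMod p) - a)) - ψ (b * -(a : ZMod p)) -
        ψ (b * (a' : ZMod p)) + ψ (b * 0) by
    rw [mul_zero, AddChar.map_zero_eq_one, mul_comm b (a' : ZMod p),
      show b * ((a' : ZMod p) - a) = -((a : ZMod p) * b) + (a' : ZMod p) * b by ring,
      AddChar.map_add_eq_mul, show b * -(a : ZMod p) = -((a : ZMod p) * b) by ring]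
    ring]
  simp only [Finset.sum_add_distrib, Finset.sum_sub_distrib, AddChar.sum_mulShift _ hψ, ZMod.card,
    sub_eq_zero, neg_eq_zero, Units.ne_zero, if_false, if_true]
  by_cases h : a = a'
  · subst h; simp; ring
  · have h' : ¬ (a' : ZMod p) = a := fun hh => h (Units.ext hh).symm
    simp [h, h']

theorem CycData.gram_mult (D : CycData P e) (hM : IsPModular p M) {ψ : AddChar (ZMod p) ℂ}
    (hψ : ψ.IsPrimitive) (hψ1 : IsPrimitiveRoot (ψ 1) p) (m : IrrCharacter G → ZMod p → ℕ)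
    (hm : ∀ χ : IrrCharacter G, ∀ b : ZMod p,
      (χ : G → ℂ) (D.u ^ b.val) = ∑ a, (m χ a : ℂ) * ψ (a * b))
    (a a' : (ZMod p)ˣ) :
    ∑ χ, indVal (principalBlock M G) χ *
        (((m χ a : ℂ) - m χ 0) * ((m χ a' : ℂ) - m χ 0)) =
      (e : ℂ) + if a' / a ∈ Subgroup.zpowers (D.r D.y) then 1 else 0 := by
  set K : ZMod p → (ZMod p)ˣ → ℂ := fun a b => ψ (-(a * (b : ZMod p))) - 1 with hK
  set V : IrrCharacter G → (ZMod p)ˣ → ℂ := fun χ b => (χ : G → ℂ) (D.u ^ (b : ZMod p).val) with hV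
  have hp0 : (p : ℂ) ≠ 0 := Nat.cast_ne_zero.2 hpf.out.ne_zero
  have hA : ∀ χ (a : ZMod p), ∑ b, V χ b * K a b = (p : ℂ) * ((m χ a : ℂ) - m χ 0) := fun χ a => by
    simp only [hV, hK, hm]
    exact mult_formula hψ (m χ) a
  have hA' : ∀ χ (a : ZMod p),
      ∑ b, conj (V χ b) * conj (K a b) = (p : ℂ) * ((m χ a : ℂ) - m χ 0) := fun χ a => by
    simp only [← map_mul, ← map_sum, hA]
    simp
  have h1 : (p : ℂ) * (p : ℂ) * ∑ χ, indVal (principalBlock M G) χ *
      (((m χ a : ℂ) - m χ 0) * ((m χ a' : ℂ) - m χ 0)) =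
      ∑ b, ∑ b', K (a : ZMod p) b * conj (K (a' : ZMod p) b') *
        if b / b' ∈ Subgroup.zpowers (D.r D.y) then (p : ℂ) else 0 := by
    rw [Finset.mul_sum]
    have h2 : ∀ b b', (if b / b' ∈ Subgroup.zpowers (D.r D.y) then (p : ℂ) else 0) =
        ∑ χ, indVal (principalBlock M G) χ * (V χ b * conj (V χ b')) := fun b b' => by
      rw [D.gram_values hM b.ne_zero b'.ne_zero]
      exact if_congr (D.isConj_pow_iff).symm rfl rfl
    simp only [h2, Finset.mul_sum]
    symm
    rw [Finset.sum_congr rfl fun b _ => Finset.sum_comm, Finset.sum_comm]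
    refine Finset.sum_congr rfl fun χ _ => ?_
    calc _ = indVal (principalBlock M G) χ *
          ((∑ b, V χ b * K (a : ZMod p) b) * ∑ b', conj (V χ b') * conj (K (a' : ZMod p) b')) := by
            rw [Finset.sum_mul, Finset.mul_sum]
            refine Finset.sum_congr rfl fun b _ => ?_
            rw [Finset.mul_sum, Finset.mul_sum]
            exact Finset.sum_congr rfl fun b' _ => by ring
      _ = _ := by rw [hA, hA']; ring
  have h3 : ∀ b, ∑ b', K (a : ZMod p) b * conj (K (a' : ZMod p) b') *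
        (if b / b' ∈ Subgroup.zpowers (D.r D.y) then (p : ℂ) else 0) =
      ∑ σ : Subgroup.zpowers (D.r D.y), (p : ℂ) *
        (K (a : ZMod p) b * (ψ ((a' : ZMod p) * ((σ : (ZMod p)ˣ) * b : (ZMod p)ˣ)) - 1)) := by
    intro b
    symm
    refine Finset.sum_bij_ne_zero (fun σ _ _ => (σ : (ZMod p)ˣ) * b)
      (fun _ _ _ => Finset.mem_univ _) (fun σ _ _ τ _ _ h => Subtype.ext (mul_right_cancel h))
      (fun b' _ hb' => ?_) (fun σ _ _ => ?_)
    · have hmem : b / b' ∈ Subgroup.zpowers (D.r D.y) := by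
        by_contra h; rw [if_neg h, mul_zero] at hb'; exact hb' rfl
      refine ⟨⟨b' / b, by rw [← inv_div]; exact Subgroup.inv_mem _ hmem⟩, Finset.mem_univ _, ?_,
        div_mul_cancel b' b⟩
      intro h
      refine hb' ?_
      rw [if_pos hmem]
      simp only [div_mul_cancel] at h
      rw [← h, hK]
      simp only [map_sub, map_one]
      rw [show conj (ψ (-((a' : ZMod p) * (b' : ZMod p)))) = ψ ((a' : ZMod p) * b') by
        rw [← AddChar.map_neg_eq_conj, neg_neg]]
      ring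
    · have hmem : b / ((σ : (ZMod p)ˣ) * b) ∈ Subgroup.zpowers (D.r D.y) := by
        rw [div_mul_eq_div_div_swap, div_self', one_div]
        exact Subgroup.inv_mem _ σ.2
      rw [if_pos hmem, hK]
      simp only [map_sub, map_one]
      rw [show conj (ψ (-((a' : ZMod p) * (((σ : (ZMod p)ˣ) * b : (ZMod p)ˣ) : ZMod p)))) =
        ψ ((a' : ZMod p) * (((σ : (ZMod p)ˣ) * b : (ZMod p)ˣ) : ZMod p)) by
          rw [← AddChar.map_neg_eq_conj, neg_neg]]
      ring
  have h4 : ∀ σ : Subgroup.zpowers (D.r D.y), ∑ b : (ZMod p)ˣ,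
      K (a : ZMod p) b * (ψ ((a' : ZMod p) * ((σ : (ZMod p)ˣ) * b : (ZMod p)ˣ)) - 1) =
        (p : ℂ) * ((if a = a' * σ then 1 else 0) + 1) := fun σ => by
    rw [← kernel_sum hψ a (a' * σ)]
    refine Finset.sum_congr rfl fun b _ => ?_
    simp only [hK, Units.val_mul, mul_assoc]
  rw [Finset.sum_congr rfl fun b _ => h3 b, Finset.sum_comm] at h1
  simp only [← Finset.mul_sum, h4] at h1
  rw [← mul_assoc] at h1
  rw [mul_left_cancel₀ (mul_ne_zero hp0 hp0) h1, Finset.sum_add_distrib, add_comm]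
  congr 1
  · rw [Finset.sum_const, Finset.card_univ, ← Nat.card_eq_fintype_card, Nat.card_zpowers, D.hry,
      nsmul_eq_mul, mul_one]
  · split_ifs with h
    · rw [Finset.sum_eq_single (⟨a / a', by rw [← inv_div]; exact Subgroup.inv_mem _ h⟩ :
        Subgroup.zpowers (D.r D.y))]
      · rw [if_pos (mul_div_cancel a' a).symm]
      · intro σ _ hne
        rw [if_neg fun h' => hne (Subtype.ext ?_)]
        show (σ : (ZMod p)ˣ) = a / a'
        rw [h', mul_div_cancel_left]
      · exact fun h => absurd (Finset.mem_univ _) h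
    · refine Finset.sum_eq_zero fun σ _ => if_neg fun h' => h ?_
      rw [h', div_mul_cancel_left]
      exact Subgroup.inv_mem _ σ.2

end CfsgLib.Block
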