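import Cfsg.Agent.Lib.BlockPrincipalPrime

/-!
# Characters of the principal block, Sylow subgroup of prime order
-/

set_option autoImplicit false
set_option linter.style.haveILetI false
set_option linter.unusedSectionVars false
set_option linter.unusedFintypeInType false

namespace CfsgLib.Block

open Cfsg CfsgLib.Char
open scoped ComplexConjugate Classical

universe u

variable {G : Type u} [Group G] [Fintype G] {p : ℕ} [hpf : Fact p.Prime] {M : Ideal AlgInt}

theorem sum_apply_span_ne {ι : Type*} [Fintype ι] (B : Set (IrrCharacter G))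
    (c : ι → IrrCharacter G → ℂ)
    (hind : ∀ x : ι → ℂ, (∀ χ ∈ B, ∑ i, x i * c i χ = 0) → ∀ i, x i = 0)
    (hvan : ∀ i, ∀ g : G, ¬ p ∣ orderOf g → ∑ χ, indVal B χ * c i χ * (χ : G → ℂ) g = 0)
    (hM : IsPModular p M) (hB : IsPBlock M B) :
    blockRank p B + Fintype.card ι ≤ Nat.card B := by
  let f : ι → G → ℂ := fun i => ∑ χ, (indVal B χ * c i χ) • (χ : G → ℂ)
  let R : Submodule ℂ (G → ℂ) :=
    Submodule.span ℂ ((fun χ : IrrCharacter G => pRegularPart p (χ : G → ℂ)) '' B)
  let S : Submodule ℂ (G → ℂ) := Submodule.span ℂ ((fun χ : IrrCharacter G => (χ : G → ℂ)) '' B)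
  let F : Submodule ℂ (G → ℂ) := Submodule.span ℂ (Set.range f)
  have hfS : ∀ i, f i ∈ S := fun i => Submodule.sum_mem _ fun χ _ => by
    by_cases hχ : χ ∈ B
    · exact Submodule.smul_mem _ _ (Submodule.subset_span ⟨χ, hχ, rfl⟩)
    · rw [indVal, if_neg hχ, zero_mul, zero_smul]; exact Submodule.zero_mem _
  have hRS : R ≤ S := Submodule.span_le.2 fun x ⟨χ, hχ, he⟩ => by
    rw [← he]
    show pRegularPart p (χ : G → ℂ) ∈ S
    rw [pRegularPart_eq, regPart_eq_sum_block hM hB hχ]
    refine Submodule.sum_mem _ fun φ _ => ?_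
    by_cases hφ : φ ∈ B
    · exact Submodule.smul_mem _ _ (Submodule.subset_span ⟨φ, hφ, rfl⟩)
    · rw [indVal, if_neg hφ, zero_mul, zero_smul]; exact Submodule.zero_mem _
  have hsing : ∀ x ∈ R, ∀ g : G, p ∣ orderOf g → x g = 0 := by
    intro x hx g hg
    induction hx using Submodule.span_induction with
    | mem x hx =>
      obtain ⟨χ, -, rfl⟩ := hx
      show pRegularPart p (χ : G → ℂ) g = 0
      rw [pRegularPart_eq, regPart, if_pos hg]
    | zero => rfl
    | add x y _ _ hx hy => rw [Pi.add_apply, hx, hy, add_zero]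
    | smul a x _ hx => rw [Pi.smul_apply, hx, smul_zero]
  have hreg : ∀ x ∈ F, ∀ g : G, ¬ p ∣ orderOf g → x g = 0 := by
    intro x hx g hg
    induction hx using Submodule.span_induction with
    | mem x hx =>
      obtain ⟨i, rfl⟩ := hx
      simp only [f, Finset.sum_apply, Pi.smul_apply, smul_eq_mul]
      exact hvan i g hg
    | zero => rfl
    | add x y _ _ hx hy => rw [Pi.add_apply, hx, hy, add_zero]
    | smul a x _ hx => rw [Pi.smul_apply, hx, smul_zero]
  have hdisj : R ⊓ F = ⊥ := by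
    rw [eq_bot_iff]
    intro x hx
    rw [Submodule.mem_bot]
    funext g
    by_cases hg : p ∣ orderOf g
    · exact hsing x (Submodule.mem_inf.1 hx).1 g hg
    · exact hreg x (Submodule.mem_inf.1 hx).2 g hg
  have hli : LinearIndependent ℂ f := by
    rw [Fintype.linearIndependent_iff]
    intro x hx
    refine hind x fun χ hχ => ?_
    have h2 : ∑ χ : IrrCharacter G, (indVal B χ * ∑ i, x i * c i χ) • (χ : G → ℂ) = 0 := by
      refine Eq.trans ?_ hx
      simp only [f, Finset.smul_sum, smul_smul, Finset.mul_sum, Finset.sum_smul]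
      rw [Finset.sum_comm]
      exact Finset.sum_congr rfl fun i _ => Finset.sum_congr rfl fun χ _ => by congr 1; ring
    have h3 := Fintype.linearIndependent_iff.1 irr_linearIndependent _ h2 χ
    rwa [indVal, if_pos hχ, one_mul] at h3
  have hS : Module.finrank ℂ S ≤ Nat.card B := by
    have himg : (fun χ : IrrCharacter G => (χ : G → ℂ)) '' B =
        Set.range fun χ : B => (((χ : IrrCharacter G)) : G → ℂ) := by
      ext x; constructor
      · rintro ⟨χ, hχ, rfl⟩; exact ⟨⟨χ, hχ⟩, rfl⟩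
      · rintro ⟨χ, rfl⟩; exact ⟨χ.1, χ.2, rfl⟩
    have h := finrank_range_le_card (R := ℂ) fun χ : B => (((χ : IrrCharacter G)) : G → ℂ)
    rw [Set.finrank, ← himg] at h
    rw [Nat.card_eq_fintype_card]
    exact h
  refine le_trans ?_ hS
  rw [← finrank_span_eq_card hli, blockRank]
  have h := Submodule.finrank_sup_add_finrank_inf_eq R F
  rw [hdisj, finrank_bot, add_zero] at h
  rw [← h]
  exact Submodule.finrank_mono (sup_le hRS (Submodule.span_le.2 fun x ⟨i, hi⟩ => hi ▸ hfS i))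

variable {P : Sylow p G} {e : ℕ}

/-- The structure of the principal block when the Sylow subgroup has prime order. -/
theorem principal_block_prime (hM : IsPModular p M) (hp2 : p ≠ 2) (P : Sylow p G)
    (hP : Nat.card P = p) (he : (Subgroup.centralizer ((P : Subgroup G) : Set G)).relIndex
      (Subgroup.normalizer ((P : Subgroup G) : Set G)) = e) :
    ∃ X Y : Set (IrrCharacter G), principalBlock M G = X ∪ Y ∧ Disjoint X Y ∧ Nat.card X = e ∧
      Nat.card Y = (p - 1) / e ∧ ∃ (εX : IrrCharacter G → ℤ) (ε : ℤ),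
        (∀ χ ∈ X, (εX χ = 1 ∨ εX χ = -1) ∧ (charDegree (χ : G → ℂ) : ℤ) ≡ εX χ [ZMOD p] ∧
          ∀ x : G, x ∈ (P : Subgroup G) → x ≠ 1 → ∀ y : G,
            y ∈ Subgroup.centralizer ((P : Subgroup G) : Set G) → ¬ p ∣ orderOf y →
              (χ : G → ℂ) (x * y) = (εX χ : ℂ)) ∧
        (ε = 1 ∨ ε = -1) ∧
        (∀ θ ∈ Y, (charDegree (θ : G → ℂ) : ℤ) ≡ ε * (e : ℤ) [ZMOD p]) ∧
        (∀ θ ∈ Y, ∀ θ' ∈ Y, ∀ g : G, ¬ p ∣ orderOf g → (θ : G → ℂ) g = (θ' : G → ℂ) g) ∧
        ∀ θ ∈ Y, ∀ g : G, ¬ p ∣ orderOf g →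
          (ε : ℂ) * (θ : G → ℂ) g = ∑ᶠ χ ∈ X, (εX χ : ℂ) * (χ : G → ℂ) g := by
  obtain ⟨D⟩ := exists_cycData P hP he
  obtain ⟨ψ, hψ, hψ1⟩ := exists_zeta p
  choose m hm using D.exists_mult (ψ := ψ) hψ1
  have hp : p.Prime := hpf.out
  have hp0 : (p : ℂ) ≠ 0 := Nat.cast_ne_zero.2 hp.ne_zero
  have hupow : ∀ b : (ZMod p)ˣ, p ∣ orderOf (D.u ^ (b : ZMod p).val) := by
    intro b
    have hb : (b : ZMod p).val ≠ 0 := by simp
    have hdvd : orderOf (D.u ^ (b : ZMod p).val) ∣ p := by
      have h := orderOf_pow_dvd (x := D.u) (b : ZMod p).val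
      rwa [D.hup] at h
    rcases hp.eq_one_or_self_of_dvd _ hdvd with h | h
    · exfalso
      rw [orderOf_eq_one_iff, ← orderOf_dvd_iff_pow_eq_one, D.hup] at h
      exact absurd (Nat.le_of_dvd (Nat.pos_of_ne_zero hb) h) (not_le.2 (ZMod.val_lt _))
    · rw [h]
  set E := Subgroup.zpowers (D.r D.y) with hE
  let n₀ : IrrCharacter G → (ZMod p)ˣ → ℤ := fun χ a => (m χ a : ℤ) - m χ 0
  have hninv : ∀ χ (σ : (ZMod p)ˣ), σ ∈ E → ∀ a, n₀ χ (a * σ) = n₀ χ a := by
    intro χ σ hσ a
    have hV : ∀ b : (ZMod p)ˣ, (χ : G → ℂ) (D.u ^ ((σ * b : (ZMod p)ˣ) : ZMod p).val) =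
        (χ : G → ℂ) (D.u ^ (b : ZMod p).val) := by
      intro b
      obtain ⟨g, hg⟩ := isConj_iff.1 ((D.isConj_pow_iff (b := b) (b' := σ * b)).2
        (by rw [mul_div_cancel_right]; exact hσ))
      rw [← hg, isCharacter_classFunction χ.2.isCharacter']
    have h1 := mult_formula hψ (m χ) ((a * σ : (ZMod p)ˣ) : ZMod p)
    have h2 := mult_formula hψ (m χ) (a : ZMod p)
    have h3 : (p : ℂ) * ((m χ ((a * σ : (ZMod p)ˣ) : ZMod p) : ℂ) - m χ 0) =
        (p : ℂ) * ((m χ (a : ZMod p) : ℂ) - m χ 0) := by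
      rw [← h1, ← h2]
      refine Fintype.sum_equiv (Equiv.mulLeft σ) _ _ fun b => ?_
      show _ = (∑ c, (m χ c : ℂ) * ψ (c * ((σ * b : (ZMod p)ˣ) : ZMod p))) *
        (ψ (-((a : ZMod p) * ((σ * b : (ZMod p)ˣ) : ZMod p))) - 1)
      rw [← hm χ, ← hm χ, hV]
      simp only [Units.val_mul, mul_assoc]
    have h4 := mul_left_cancel₀ hp0 h3
    have h5 : ((n₀ χ (a * σ) : ℤ) : ℂ) = (n₀ χ a : ℤ) := by
      simp only [n₀, Int.cast_sub, Int.cast_natCast]; exact h4
    exact_mod_cast h5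
  let Ω := (ZMod p)ˣ ⧸ E
  haveI : Fintype Ω := Fintype.ofFinite _
  have hcardΩ : Fintype.card Ω = (p - 1) / e := by
    have h1 := Subgroup.card_eq_card_quotient_mul_card_subgroup E
    rw [Nat.card_eq_fintype_card, ZMod.card_units, hE, Nat.card_zpowers, D.hry] at h1
    rw [← Nat.card_eq_fintype_card, h1]
    refine (Nat.mul_div_cancel _ (Nat.pos_of_ne_zero fun h0 => ?_)).symm
    have h1' : p - 1 = 0 := by rw [h1]; exact mul_eq_zero.2 (Or.inr h0)
    have := hp.two_le
    omega
  let n : {χ : IrrCharacter G // χ ∈ principalBlock M G} → Ω → ℤ := fun i ω => n₀ i.1 ω.out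
  have hout : ∀ χ (a : (ZMod p)ˣ), n₀ χ ((a : Ω)).out = n₀ χ a := by
    intro χ a
    obtain ⟨σ, hσ⟩ := QuotientGroup.mk_out_eq_mul E a
    rw [hσ, hninv χ σ σ.2]
  have hval : ∀ (χ : IrrCharacter G) (b : (ZMod p)ˣ), (χ : G → ℂ) (D.u ^ (b : ZMod p).val) =
      ∑ a : (ZMod p)ˣ, (n₀ χ a : ℂ) * ψ ((a : ZMod p) * b) := by
    intro χ b
    have hzero : ∑ c : ZMod p, ψ (c * (b : ZMod p)) = 0 := by
      rw [AddChar.sum_mulShift _ hψ, if_neg b.ne_zero, Nat.cast_zero]
    have h : ∑ c : ZMod p, ((m χ c : ℂ) - m χ 0) * ψ (c * (b : ZMod p)) =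
        (χ : G → ℂ) (D.u ^ (b : ZMod p).val) := by
      rw [Finset.sum_congr rfl fun c _ => sub_mul _ _ _, Finset.sum_sub_distrib, ← Finset.mul_sum,
        hzero, mul_zero, sub_zero, ← hm χ]
    rw [← h]
    symm
    refine Finset.sum_bij_ne_zero (fun a _ _ => (a : ZMod p)) (fun _ _ _ => Finset.mem_univ _)
      (fun _ _ _ _ _ _ h => Units.ext h) (fun x _ hx => ?_)
      (fun a _ _ => by simp only [n₀, Int.cast_sub, Int.cast_natCast])
    refine ⟨Units.mk0 x fun h0 => hx (by rw [h0, sub_self, zero_mul]), Finset.mem_univ _, ?_, rfl⟩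
    simpa [n₀] using hx
  have hgram : ∀ a b : Ω, ∑ i, n i a * n i b = (e : ℤ) + if a = b then 1 else 0 := by
    intro a b
    have h := D.gram_mult hM hψ hψ1 m hm a.out b.out
    have hiff : b.out / a.out ∈ Subgroup.zpowers (D.r D.y) ↔ a = b := by
      rw [div_eq_inv_mul, ← hE, ← QuotientGroup.eq, QuotientGroup.out_eq', QuotientGroup.out_eq']
    rw [if_congr hiff rfl rfl] at h
    have h2 : ((∑ i, n i a * n i b : ℤ) : ℂ) =
        ∑ χ, indVal (principalBlock M G) χ *
          (((m χ a.out : ℂ) - m χ 0) * ((m χ b.out : ℂ) - m χ 0)) := by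
      rw [Int.cast_sum]
      rw [← Finset.sum_subset (Finset.subset_univ (principalBlock M G).toFinset) (fun χ _ hχ => by
        rw [indVal, if_neg (mt Set.mem_toFinset.2 hχ), zero_mul])]
      symm
      rw [Finset.sum_subtype (p := fun χ => χ ∈ principalBlock M G) _ fun χ => Set.mem_toFinset]
      refine Finset.sum_congr rfl fun i _ => ?_
      rw [indVal, if_pos i.2, one_mul]
      simp only [n, n₀, Int.cast_mul, Int.cast_sub, Int.cast_natCast]
    rw [h] at h2
    exact_mod_cast h2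
  have hne : ∀ i, ∃ a, n i a ≠ 0 := by
    intro i
    by_contra hcon
    push Not at hcon
    have hn₀ : ∀ a, n₀ i.1 a = 0 := fun a => by rw [← hout]; exact hcon (a : Ω)
    have hv0 : (i.1 : G → ℂ) (D.u ^ ((1 : (ZMod p)ˣ) : ZMod p).val) = 0 := by
      rw [hval]; simp [hn₀]
    set v := D.u ^ ((1 : (ZMod p)ˣ) : ZMod p).val with hv
    have hblk := i.2 v
    simp only [centralChar, hv0, mul_zero, zero_div, sub_zero, mul_one, div_one] at hblk
    rw [memLocalIdeal_natCast_iff hM] at hblk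
    have hC : Subgroup.centralizer ({v} : Set G) =
        Subgroup.centralizer ((P : Subgroup G) : Set G) :=
      D.centralizer_pow (1 : (ZMod p)ˣ).ne_zero
    have hle : (P : Subgroup G) ≤ Subgroup.centralizer ((P : Subgroup G) : Set G) := by
      intro x hx
      rw [Subgroup.mem_centralizer_iff]
      intro y hy
      obtain ⟨a, ha⟩ := (SetLike.ext_iff.1 D.hu x).1 hx
      obtain ⟨b, hb⟩ := (SetLike.ext_iff.1 D.hu y).1 hy
      rw [← ha, ← hb]; exact (Commute.refl D.u).zpow_zpow b a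
    rw [hC] at hblk
    exact P.not_dvd_index (hblk.trans (Subgroup.index_dvd_of_le hle))
  have hvan : ∀ ω : Ω, ∀ g : G, ¬ p ∣ orderOf g →
      ∑ χ, indVal (principalBlock M G) χ * (n₀ χ ω.out : ℂ) * (χ : G → ℂ) g = 0 := by
    intro ω g hg
    refine mul_left_cancel₀ hp0 ?_
    rw [mul_zero, Finset.mul_sum]
    have hterm : ∀ χ : IrrCharacter G,
        (p : ℂ) * (indVal (principalBlock M G) χ * (n₀ χ ω.out : ℂ) * (χ : G → ℂ) g) =
        ∑ b : (ZMod p)ˣ, (ψ (-((ω.out : ZMod p) * b)) - 1) * (indVal (principalBlock M G) χ *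
          (χ : G → ℂ) (D.u ^ (b : ZMod p).val) * (χ : G → ℂ) g) := by
      intro χ
      calc (p : ℂ) * (indVal (principalBlock M G) χ * (n₀ χ ω.out : ℂ) * (χ : G → ℂ) g)
          = ((p : ℂ) * ((m χ (ω.out : ZMod p) : ℂ) - m χ 0)) *
            (indVal (principalBlock M G) χ * (χ : G → ℂ) g) := by
            simp only [n₀, Int.cast_sub, Int.cast_natCast]; ring
        _ = _ := by
            rw [← mult_formula hψ (m χ), Finset.sum_mul]
            refine Finset.sum_congr rfl fun b _ => ?_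
            rw [← hm χ]; ring
    rw [Finset.sum_congr rfl fun χ _ => hterm χ, Finset.sum_comm]
    refine Finset.sum_eq_zero fun b _ => ?_
    rw [← Finset.mul_sum]
    refine mul_eq_zero_of_right _ ?_
    have h := block_sum_singular_regular hM (isPBlock_principal (G := G) M)
      (x := g⁻¹) (by rwa [orderOf_inv]) (hupow b)
    refine Eq.trans (Finset.sum_congr rfl fun χ _ => ?_) h
    congr 1
    obtain ⟨d, ρ, -, hρ⟩ := χ.2
    rw [← hρ, char_inv_eq_conj, Complex.conj_conj]
  have hrank := sum_apply_span_ne (p := p) (principalBlock M G)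
    (fun ω : Ω => fun χ => (n₀ χ ω.out : ℂ)) ?hindep hvan hM (isPBlock_principal M)
  case hindep =>
    intro x hx ω
    have hzero : ∀ i, ∑ a, x a * (n i a : ℂ) = 0 := fun i => hx i.1 i.2
    have h1 : ∀ b, (e : ℂ) * (∑ a, x a) + x b = 0 := by
      intro b
      have hg : ∀ a, ∑ i, (n i a : ℂ) * (n i b : ℂ) = (e : ℂ) + if a = b then 1 else 0 := fun a => by
        exact_mod_cast hgram a b
      calc (e : ℂ) * (∑ a, x a) + x b = ∑ a, x a * ((e : ℂ) + if a = b then 1 else 0) := by
            simp only [mul_add, Finset.sum_add_distrib]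
            rw [← Finset.sum_mul, mul_comm (∑ a, x a) (e : ℂ), add_right_inj, Finset.sum_eq_single b]
            · simp
            · intro c _ hc; simp [hc]
            · exact fun h => absurd (Finset.mem_univ b) h
        _ = ∑ i, (∑ a, x a * (n i a : ℂ)) * (n i b : ℂ) := by
            simp only [← hg, Finset.mul_sum, Finset.sum_mul]
            rw [Finset.sum_comm]
            simp only [mul_assoc]
        _ = 0 := Finset.sum_eq_zero fun i _ => by rw [hzero, zero_mul]
    have h2 : ((e : ℂ) * Fintype.card Ω + 1) * (∑ a, x a) = 0 := by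
      have := Finset.sum_eq_zero (s := Finset.univ) fun b (_ : b ∈ Finset.univ) => h1 b
      rw [Finset.sum_add_distrib, Finset.sum_const, Finset.card_univ, nsmul_eq_mul] at this
      linear_combination this
    have h3 : ∑ a, x a = 0 := (mul_eq_zero.1 h2).resolve_left (by
      exact_mod_cast Nat.succ_ne_zero (e * Fintype.card Ω))
    simpa [h3] using h1 ω
  have hl := le_blockRank_principal hM hp2 P hP he
  have hcard : e + Fintype.card Ω ≤
      Fintype.card {χ : IrrCharacter G // χ ∈ principalBlock M G} := by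
    rw [← Nat.card_eq_fintype_card (α := {χ : IrrCharacter G // χ ∈ principalBlock M G})]
    exact le_trans (Nat.add_le_add_right hl _) hrank
  obtain ⟨X, hXe, hXc, c, hc, hX, hY, huniq⟩ := rows_of_gram n e
    (fun a b => by rw [hgram a b]; congr 1; congr) hne hcard
  let εX : IrrCharacter G → ℤ := fun χ => if h : χ ∈ principalBlock M G then -c ⟨χ, h⟩ else 0
  choose! w hw using hY
  have hreg : ∀ i ∉ X, ∀ g : G, ¬ p ∣ orderOf g →
      (c i : ℂ) * (i.1 : G → ℂ) g = ∑ j ∈ X, (-c j : ℂ) * (j.1 : G → ℂ) g := by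
    intro i hi g hg
    have h := hvan (w i) g hg
    rw [← Finset.sum_subset (Finset.subset_univ (principalBlock M G).toFinset) (fun χ _ hχ => by
      rw [indVal, if_neg (mt Set.mem_toFinset.2 hχ), zero_mul, zero_mul]),
      Finset.sum_subtype (p := fun χ => χ ∈ principalBlock M G) _ fun χ => Set.mem_toFinset,
      ← Finset.sum_add_sum_compl X] at h
    have hYsum : ∑ j ∈ Xᶜ, indVal (principalBlock M G) j.1 * (n₀ j.1 (w i).out : ℂ) *
        (j.1 : G → ℂ) g = (c i : ℂ) * (i.1 : G → ℂ) g := by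
      rw [Finset.sum_eq_single i]
      · rw [indVal, if_pos i.2, one_mul, show n₀ i.1 (w i).out = n i (w i) from rfl, hw i hi,
          if_pos rfl]
      · intro j hj hji
        rw [show n₀ j.1 (w i).out = n j (w i) from rfl]
        by_cases h0 : n j (w i) = 0
        · rw [h0, Int.cast_zero, mul_zero, zero_mul]
        · refine absurd (huniq i hi j (Finset.mem_compl.1 hj) (w i) ?_ h0).symm hji
          rw [hw i hi, if_pos rfl]
          rcases hc i with h | h <;> simp [h]
      · exact fun h => absurd (Finset.mem_compl.2 hi) h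
    rw [hYsum, Finset.sum_congr rfl fun j hj => show indVal (principalBlock M G) j.1 *
      (n₀ j.1 (w i).out : ℂ) * (j.1 : G → ℂ) g = (c j : ℂ) * (j.1 : G → ℂ) g by
        rw [indVal, if_pos j.2, one_mul, show n₀ j.1 (w i).out = n j (w i) from rfl, hX j hj]] at h
    simp only [neg_mul, Finset.sum_neg_distrib]
    linear_combination h
  obtain ⟨y₀, hy₀⟩ : ∃ i, i ∉ X := by
    by_contra h
    push Not at h
    rw [Finset.eq_univ_iff_forall.2 h, Finset.card_univ] at hXe
    have := Fintype.card_pos (α := Ω)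
    omega
  have hsame : ∀ i ∉ X, c i = c y₀ ∧
      ∀ g : G, ¬ p ∣ orderOf g → (i.1 : G → ℂ) g = (y₀.1 : G → ℂ) g := by
    intro i hi
    have h1 : ¬ p ∣ orderOf (1 : G) := by rw [orderOf_one]; exact hp.not_dvd_one
    have hcc : c i = c y₀ := by
      have h := (hreg i hi 1 h1).trans (hreg y₀ hy₀ 1 h1).symm
      rw [← charDegree_cast i.1.2.isCharacter', ← charDegree_cast y₀.1.2.isCharacter'] at h
      have h' : c i * (charDegree (i.1 : G → ℂ) : ℤ) =
          c y₀ * (charDegree (y₀.1 : G → ℂ) : ℤ) := by exact_mod_cast h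
      have d1 := charDegree_pos i.1
      have d2 := charDegree_pos y₀.1
      rcases hc i with e1 | e1 <;> rcases hc y₀ with e2 | e2 <;> rw [e1, e2] at h' ⊢ <;> omega
    refine ⟨hcc, fun g hg => ?_⟩
    have h := (hreg i hi g hg).trans (hreg y₀ hy₀ g hg).symm
    rw [hcc] at h
    refine mul_left_cancel₀ ?_ h
    rcases hc y₀ with e2 | e2 <;> simp [e2]
  have hdeg : ∀ i : {χ : IrrCharacter G // χ ∈ principalBlock M G},
      (charDegree (i.1 : G → ℂ) : ℤ) ≡ ∑ a : (ZMod p)ˣ, n₀ i.1 a [ZMOD p] := by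
    intro i
    have h := hm i.1 0
    simp only [ZMod.val_zero, pow_zero, mul_zero, AddChar.map_zero_eq_one, mul_one] at h
    rw [← charDegree_cast i.1.2.isCharacter'] at h
    have h' : (charDegree (i.1 : G → ℂ) : ℤ) = ∑ a : ZMod p, (m i.1 a : ℤ) := by exact_mod_cast h
    have hs : ∑ a : (ZMod p)ˣ, n₀ i.1 a = ∑ a : ZMod p, ((m i.1 a : ℤ) - m i.1 0) := by
      refine Finset.sum_bij_ne_zero (fun a _ _ => (a : ZMod p)) (fun _ _ _ => Finset.mem_univ _)
        (fun _ _ _ _ _ _ h => Units.ext h) (fun x _ hx => ?_) (fun _ _ _ => rfl)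
      exact ⟨Units.mk0 x fun h0 => hx (by rw [h0, sub_self]), Finset.mem_univ _, hx, rfl⟩
    rw [hs, h', Finset.sum_sub_distrib, Finset.sum_const, Finset.card_univ, ZMod.card, nsmul_eq_mul]
    exact Int.modEq_iff_dvd.2 ⟨-(m i.1 0 : ℤ), by ring⟩
  refine ⟨Subtype.val '' (X : Set {χ : IrrCharacter G // χ ∈ principalBlock M G}),
    Subtype.val '' ((Xᶜ : Finset {χ : IrrCharacter G // χ ∈ principalBlock M G}) :
      Set {χ : IrrCharacter G // χ ∈ principalBlock M G}), ?_, ?_, ?_, ?_, εX, c y₀,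
    ?_, hc y₀, ?_, ?_, ?_⟩
  · ext χ
    constructor
    · intro hχ
      by_cases h : (⟨χ, hχ⟩ : {χ : IrrCharacter G // χ ∈ principalBlock M G}) ∈ X
      · exact Or.inl ⟨⟨χ, hχ⟩, h, rfl⟩
      · exact Or.inr ⟨⟨χ, hχ⟩, Finset.mem_compl.2 h, rfl⟩
    · rintro (⟨i, -, rfl⟩ | ⟨i, -, rfl⟩) <;> exact i.2
  · rw [Set.disjoint_left]
    rintro χ ⟨i, hi, rfl⟩ ⟨j, hj, hji⟩
    rw [Subtype.ext hji] at hj
    exact Finset.mem_compl.1 hj hi
  · rw [Nat.card_image_of_injective Subtype.val_injective]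
    simpa using hXe
  · rw [Nat.card_image_of_injective Subtype.val_injective, ← hcardΩ, ← hXc]
    simp
    congr 1
    ext
    simp
  · rintro χ ⟨i, hi, rfl⟩
    have hεi : εX i.1 = -c i := by simp only [εX, dif_pos i.2]
    have hn : ∀ a, n₀ i.1 a = c i := fun a => by rw [← hout]; exact hX i hi _
    refine ⟨?_, ?_, ?_⟩
    · rw [hεi]; rcases hc i with h | h <;> simp [h]
    · refine (hdeg i).trans ?_
      rw [hεi, Finset.sum_congr rfl fun a _ => hn a, Finset.sum_const, Finset.card_univ,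
        ZMod.card_units, nsmul_eq_mul, Nat.cast_sub hp.one_le, Nat.cast_one]
      exact Int.modEq_iff_dvd.2 ⟨-c i, by ring⟩
    · intro x hx hx1 y hy hyp
      obtain ⟨k, hk⟩ := (isOfFinOrder_of_finite D.u).mem_powers_iff_mem_zpowers.2
        ((SetLike.ext_iff.1 D.hu x).1 hx)
      have hk' : D.u ^ k = x := hk
      have hkne : ((k : ZMod p)) ≠ 0 := by
        intro h
        rw [ZMod.natCast_eq_zero_iff] at h
        exact hx1 (by rw [← hk', ← orderOf_dvd_iff_pow_eq_one, D.hup]; exact h)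
      have hkx : D.u ^ (k : ZMod p).val = x := by
        have hmod := pow_mod_orderOf D.u k
        rw [D.hup] at hmod
        rw [ZMod.val_natCast, hmod, hk']
      rw [← hkx, D.apply_mul hM i.2 hkne hy hyp, hεi]
      rw [show (i.1 : G → ℂ) (D.u ^ (k : ZMod p).val) =
        (i.1 : G → ℂ) (D.u ^ ((Units.mk0 _ hkne : (ZMod p)ˣ) : ZMod p).val) from rfl, hval]
      simp only [hn, ← Finset.mul_sum]
      have hsum : ∑ a : (ZMod p)ˣ, ψ ((a : ZMod p) * (k : ZMod p)) = -1 := by
        have h := AddChar.sum_mulShift ((k : ZMod p)) hψ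
        rw [if_neg hkne, Nat.cast_zero, ← Finset.add_sum_erase _ _ (Finset.mem_univ (0 : ZMod p)),
          zero_mul, AddChar.map_zero_eq_one] at h
        have hb : ∑ a : (ZMod p)ˣ, ψ ((a : ZMod p) * (k : ZMod p)) =
            ∑ x ∈ Finset.univ.erase (0 : ZMod p), ψ (x * (k : ZMod p)) := by
          refine Finset.sum_bij (fun a _ => (a : ZMod p))
            (fun a _ => Finset.mem_erase.2 ⟨a.ne_zero, Finset.mem_univ _⟩)
            (fun _ _ _ _ h => Units.ext h)
            (fun x hx => ⟨Units.mk0 x (Finset.mem_erase.1 hx).1, Finset.mem_univ _, rfl⟩)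
            (fun _ _ => rfl)
        rw [hb]
        linear_combination h
      simp only [Units.val_mk0, hsum]
      push_cast
      ring
  · rintro θ ⟨i, hi, rfl⟩
    have hi' : i ∉ X := Finset.mem_compl.1 hi
    refine (hdeg i).trans ?_
    have hn : ∀ a : (ZMod p)ˣ, n₀ i.1 a = if (a : Ω) = w i then c i else 0 := fun a => by
      rw [← hout, show n₀ i.1 ((a : Ω)).out = n i (a : Ω) from rfl, hw i hi']
      congr
    rw [Finset.sum_congr rfl fun a _ => hn a, ← Finset.sum_filter, Finset.sum_const, nsmul_eq_mul,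
      (hsame i hi').1]
    have hfib : (Finset.univ.filter fun a : (ZMod p)ˣ => (a : Ω) = w i).card = e := by
      refine Eq.trans ?_ D.hry
      rw [← Nat.card_zpowers, ← hE, Nat.card_eq_fintype_card, ← Finset.card_univ]
      symm
      refine Finset.card_bij (fun σ _ => (w i).out * σ) (fun σ _ => ?_)
        (fun σ _ τ _ h => Subtype.ext (mul_left_cancel h)) (fun a ha => ?_)
      · refine Finset.mem_filter.2 ⟨Finset.mem_univ _, ?_⟩
        rw [QuotientGroup.mk_mul, QuotientGroup.out_eq', (QuotientGroup.eq_one_iff _).2 σ.2,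
          mul_one]
      · have ha' := (Finset.mem_filter.1 ha).2
        refine ⟨⟨(w i).out⁻¹ * a, ?_⟩, Finset.mem_univ _, mul_inv_cancel_left _ _⟩
        rw [← QuotientGroup.eq, QuotientGroup.out_eq']
        exact ha'.symm
    rw [hfib, mul_comm]
  · rintro θ ⟨i, hi, rfl⟩ θ' ⟨j, hj, rfl⟩ g hg
    rw [(hsame i (Finset.mem_compl.1 hi)).2 g hg, (hsame j (Finset.mem_compl.1 hj)).2 g hg]
  · rintro θ ⟨i, hi, rfl⟩ g hg
    have hi' : i ∉ X := Finset.mem_compl.1 hi
    rw [finsum_mem_image Subtype.val_injective.injOn, finsum_mem_coe_finset, ← (hsame i hi').1,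
      hreg i hi' g hg]
    exact Finset.sum_congr rfl fun j _ => by simp only [εX, dif_pos j.2]; push_cast; ring

end CfsgLib.Block
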