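import Cfsg.Agent.Lib.BlockSource
import Cfsg.Agent.Lib.BlockOrth
import Cfsg.Agent.Lib.BlockSection

/-!
# Values of a source idempotent on a section

For a `p`-element `u` of `P` the value `χ (u i)` of a source idempotent `i` only depends on the
part of `χ` in the block of the pair below `(P, ψ)` at `u`; so this part does not vanish for a
character of height zero.
-/

universe u

namespace CfsgLib.Block

open Cfsg CfsgLib.Char Polynomial
open scoped ComplexConjugate Classical

variable {G : Type u} [Group G] [Fintype G] {p : ℕ} {M : Ideal AlgInt}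

theorem ofCol_mul {R : Type*} [CommRing R] (a b : G → R) :
    ofCol a * ofCol b = ofCol (gconv a b) := by
  ext x z
  simp only [Matrix.mul_apply, ofCol, gconv]
  refine Fintype.sum_equiv ((Equiv.inv G).trans (Equiv.mulLeft x)) _ _ fun y => ?_
  simp [mul_assoc]

theorem ofCol_col (hM : IsPModular p M) {K : Matrix G G (locRing hM)} (hK : K ∈ grpRing hM G) :
    ofCol (fun g => K g 1) = K := by
  ext x z
  rw [ofCol, ← eq_col hM hK]

theorem ofCol_apply_one {R : Type*} [CommRing R] (a : G → R) (g : G) : ofCol a g 1 = a g := by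
  simp [ofCol]

theorem map_eq_of_redCol_eq (hM : IsPModular p M) {K L : Matrix G G (locRing hM)}
    (hK : K ∈ grpRing hM G) (hL : L ∈ grpRing hM G) (h : redCol hM K = redCol hM L) :
    (res hM).mapMatrix K = (res hM).mapMatrix L := by
  ext x z
  show res hM (K x z) = res hM (L x z)
  rw [eq_col hM hK, eq_col hM hL]
  exact congrFun h _

theorem kMat_mem_grpRing (hM : IsPModular p M) (v : intRing (G := G) hM) :
    kMat hM v ∈ grpRing hM G := fun x z h => by
  apply Subtype.ext
  show coef (v : IrrCharacter G → ℂ) (x * h * (z * h)⁻¹) = coef (v : IrrCharacter G → ℂ) (x * z⁻¹)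
  congr 1
  group

theorem redCol_kMat (hM : IsPModular p M) (v : intRing (G := G) hM) :
    redCol hM (kMat hM v) = cred hM v := by
  funext g
  simp only [redCol, kMat, inv_one, mul_one]
  rfl

theorem kMat_comm (hM : IsPModular p M) (v : intRing (G := G) hM)
    {K : Matrix G G (locRing hM)} (hK : K ∈ grpRing hM G) : kMat hM v * K = K * kMat hM v := by
  ext x z
  simp only [Matrix.mul_apply]
  congr 1
  refine Fintype.sum_equiv ((Equiv.inv G).trans ((Equiv.mulLeft z).trans (Equiv.mulRight x))) _ _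
    fun y => ?_
  simp only [Equiv.trans_apply, Equiv.inv_apply, Equiv.coe_mulLeft, Equiv.coe_mulRight]
  rw [mul_comm (K x (z * y⁻¹ * x))]
  congr 1
  · apply Subtype.ext
    show coef (v : IrrCharacter G → ℂ) (x * y⁻¹) =
      coef (v : IrrCharacter G → ℂ) (z * y⁻¹ * x * z⁻¹)
    rw [← coef_classFunction (v : IrrCharacter G → ℂ) (x * y⁻¹) (z * y⁻¹)]
    congr 1
    group
  · rw [eq_col hM hK y z, eq_col hM hK x (z * y⁻¹ * x)]
    congr 1
    group

theorem matVal_kMat_mul (hM : IsPModular p M) (v : intRing (G := G) hM)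
    (K : Matrix G G (locRing hM)) (ξ : IrrCharacter G) :
    matVal hM (ξ : G → ℂ) (kMat hM v * K) 1 =
      (v : IrrCharacter G → ℂ) ξ * matVal hM (ξ : G → ℂ) K 1 := by
  simp only [matVal, one_mul, Matrix.mul_apply, AddSubmonoidClass.coe_finsetSum, Subring.coe_mul,
    kMat, Finset.sum_mul, Finset.mul_sum]
  rw [Finset.sum_comm]
  refine Finset.sum_congr rfl fun x _ => ?_
  have h := sum_coef_mul_irr (v : IrrCharacter G → ℂ) ξ x
  rw [← mul_assoc, mul_comm ((v : IrrCharacter G → ℂ) ξ), mul_assoc, ← h, Finset.mul_sum]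
  refine Fintype.sum_equiv (Equiv.mulRight x⁻¹) _ _ fun g => ?_
  simp only [Equiv.coe_mulRight, inv_mul_cancel_right]
  ring

theorem bFn_eq_ext0_cred (hM : IsPModular p M) {H : Subgroup G} [Fintype H]
    {e : Set (IrrCharacter H)} (he : IsPBlock M e) :
    bFn hM H e = ext0 H (cred hM (bIdem hM he)) := by
  rw [bFn_eq_ext0, gFn_block]

theorem exists_idem_of_redCol (hM : IsPModular p M) {K : Matrix G G (locRing hM)}
    (hK : K ∈ grpRing hM G) (h : gconv (redCol hM K) (redCol hM K) = redCol hM K) :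
    ∃ ε ∈ grpRing hM G, ε * ε = ε ∧ redCol hM ε = redCol hM K := by
  obtain ⟨ε, hεm, hεε, hεK⟩ := exists_idempotent_lift hM K
    (map_eq_of_redCol_eq hM (mul_mem hK hK) hK (by rw [redCol_mul hM hK, h]))
  exact ⟨ε, Algebra.adjoin_le (Set.singleton_subset_iff.2 hK) hεm, hεε,
    redCol_eq_of_map_eq hM hεK⟩

variable {hM : IsPModular p M} {B : Set (IrrCharacter G)} {P : Subgroup G}
  {ψ : G → ResField M}

/-- The value at `u` of an idempotent of the source, through the part at the pair at `u`. -/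
theorem exists_section_theta [Fact p.Prime] (hψ : MaxPair hM B P ψ)
    {i : Matrix G G (locRing hM)} (hi : i ∈ grpRing hM G) (hii : i * i = i)
    (hiP : ∀ t ∈ P, ∀ g, i (t * g * t⁻¹) 1 = i g 1)
    (hib : ∀ (Q : Subgroup G) (φ : G → ResField M), Chain hM (Q, φ) (P, ψ) →
      gconv φ (trc Q (redCol hM i)) = trc Q (redCol hM i))
    {u : G} (hu : u ∈ P) {f : Set (IrrCharacter (Subgroup.centralizer ({u} : Set G)))}
    (hf : IsPBlock M f)
    (hc : Chain hM (Subgroup.zpowers u, bFn hM (Subgroup.centralizer ({u} : Set G)) f) (P, ψ)) :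
    ∃ Θ : Subgroup.centralizer ({u} : Set G) → ℂ, ∀ χ : IrrCharacter G,
      matVal hM (χ : G → ℂ) i u =
        (Nat.card (Subgroup.centralizer ({u} : Set G)) : ℂ)⁻¹ *
          ∑ b ∈ Finset.univ.filter
            (fun b : Subgroup.centralizer ({u} : Set G) => ¬ p ∣ orderOf b),
            Θ b * blockPart f
              (fun c : Subgroup.centralizer ({u} : Set G) => (χ : G → ℂ) (u * (c : G))) b := by
  haveI := charP_resField hM
  haveI := nontrivial_resField hM
  revert hc hf f
  set H := Subgroup.centralizer ({u} : Set G) with hH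
  intro f hf hc
  have hP : IsPGroup p P := hψ.1.1.1
  have hQP : Subgroup.zpowers u ≤ P := by rwa [Subgroup.zpowers_le]
  have huk : ∃ k, orderOf u = p ^ k := by
    obtain ⟨k, hk⟩ := IsPGroup.iff_orderOf.1 hP ⟨u, hu⟩
    exact ⟨k, by rwa [← Subgroup.orderOf_coe] at hk⟩
  have hHmem : ∀ g : G, g ∈ H ↔ g ∈ Subgroup.centralizer ((Subgroup.zpowers u : Subgroup G) : Set G) :=
    fun g => by rw [centralizer_zpowers]
  set K : Matrix H H (locRing hM) := ofCol fun h : H => i (h : G) 1 with hKdef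
  have hK : K ∈ grpRing hM H := ofCol_mem hM _
  have hKred : ext0 H (redCol hM K) = trc (Subgroup.zpowers u) (redCol hM i) := by
    funext g
    by_cases hg : g ∈ H
    · rw [ext0, dif_pos hg, trc, if_pos ((hHmem g).1 hg), redCol, redCol, hKdef, ofCol_apply_one]
    · rw [ext0, dif_neg hg, trc, if_neg (mt (hHmem g).2 hg)]
  have hQp : IsPGroup p (Subgroup.zpowers u) := hP.to_le hQP
  have hQi : InvBy (Subgroup.zpowers u) (redCol hM i) := fun t ht g => by
    simp only [redCol, hiP t (hQP ht) g]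
  obtain ⟨ε, hε, hεε, hεK⟩ := exists_idem_of_redCol hM hK (ext0_injective H (by
    rw [ext0_gconv, hKred, ← trc_gconv hQp hQi hQi, ← redCol_mul hM hi, hii]))
  have hEf : kMat hM (bIdem hM hf) * kMat hM (bIdem hM hf) = kMat hM (bIdem hM hf) :=
    kMat_idem hM (bIdem_sq hM hf)
  set E := kMat hM (bIdem hM hf) * ε with hEdef
  have hE : E ∈ grpRing hM H := mul_mem (kMat_mem_grpRing hM _) hε
  have hEE : E * E = E := by
    rw [hEdef, mul_assoc, ← mul_assoc ε, ← kMat_comm hM _ hε, mul_assoc, hεε, ← mul_assoc, hEf]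
  have hEred : ext0 H (redCol hM E) = trc (Subgroup.zpowers u) (redCol hM i) := by
    rw [hEdef, redCol_mul hM (kMat_mem_grpRing hM _), redCol_kMat, ext0_gconv,
      ← bFn_eq_ext0_cred, hεK, hKred]
    exact hib _ _ hc
  set E' : Matrix G G (locRing hM) := ofCol (ext0 H fun h => E h 1) with hE'def
  have hE' : E' ∈ grpRing hM G := ofCol_mem hM _
  have hEE' : E' * E' = E' := by
    rw [hE'def, ofCol_mul, ← ext0_gconv]
    congr 2
    have h2 : ofCol (gconv (fun h : H => E h 1) fun h => E h 1) = E := by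
      rw [← ofCol_mul, ofCol_col hM hE, hEE]
    funext h
    conv_rhs => rw [← h2, ofCol_apply_one]
  have hsupp : E' ∈ suppMat (R := locRing hM) H := fun x z hxz => by
    rw [hE'def, ofCol, ext0, dif_neg hxz]
  have hcu : ∀ g, i (u * g * u⁻¹) 1 = i g 1 := hiP u hu
  have hcu' : ∀ g, E' (u * g * u⁻¹) 1 = E' g 1 := fun g => by
    simp only [hE'def, ofCol_apply_one]
    by_cases hg : g ∈ H
    · have e : u * g * u⁻¹ = g := by
        rw [← Subgroup.mem_centralizer_singleton_iff.1 hg]
        group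
      rw [e]
    · have hg' : u * g * u⁻¹ ∉ H := fun h => hg (by
        have hu' : u ∈ H := Subgroup.mem_centralizer_singleton_iff.2 rfl
        simpa [mul_assoc] using H.mul_mem (H.mul_mem (H.inv_mem hu') h) hu')
      rw [ext0, ext0, dif_neg hg, dif_neg hg']
  have hcong : ∀ g ∈ H, res hM (i g 1) = res hM (E' g 1) := fun g hg => by
    have h1 := congrFun hEred g
    rw [ext0, dif_pos hg, trc, if_pos ((hHmem g).1 hg)] at h1
    rw [hE'def, ofCol_apply_one, ext0, dif_pos hg]
    exact h1.symm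
  refine ⟨fun b => ∑ φ : IrrCharacter H, matVal hM (φ : H → ℂ) E 1 * conj ((φ : H → ℂ) b),
    fun χ => ?_⟩
  rw [matVal_eq_of_congr hM hi hii hE' hEE' huk hcu hcu' hsupp hcong χ]
  have e1 : matVal hM (χ : G → ℂ) E' u =
      ∑ h : H, ((E h 1 : locRing hM) : ℂ) * (χ : G → ℂ) (u * (h : G)) := by
    rw [matVal, ← sum_ext0 H fun h : H => ((E h 1 : locRing hM) : ℂ) * (χ : G → ℂ) (u * (h : G))]
    refine Finset.sum_congr rfl fun g _ => ?_
    rw [hE'def, ofCol_apply_one]
    by_cases hg : g ∈ H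
    · rw [ext0, dif_pos hg, ext0, dif_pos hg]
    · rw [ext0, dif_neg hg, ext0, dif_neg hg]
      simp
  have e2 : matVal hM (χ : G → ℂ) E' u =
      ∑ ξ : IrrCharacter H, indVal f ξ * decNum u χ ξ * matVal hM (ξ : H → ℂ) E 1 := by
    rw [e1]
    have hexp := classFunction_eq_sum _ (translate_classFunction u χ)
    calc ∑ h : H, ((E h 1 : locRing hM) : ℂ) * (χ : G → ℂ) (u * (h : G))
        = ∑ h : H, ∑ ξ : IrrCharacter H,
            decNum u χ ξ * (((E h 1 : locRing hM) : ℂ) * (ξ : H → ℂ) h) := by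
          refine Finset.sum_congr rfl fun h _ => ?_
          rw [show (χ : G → ℂ) (u * (h : G)) = _ from congrFun hexp h]
          simp only [Finset.sum_apply, Pi.smul_apply, smul_eq_mul, Finset.mul_sum, decNum]
          refine Finset.sum_congr rfl fun ξ _ => ?_
          ring
      _ = ∑ ξ : IrrCharacter H, decNum u χ ξ * matVal hM (ξ : H → ℂ) E 1 := by
          rw [Finset.sum_comm]
          simp only [matVal, one_mul, Finset.mul_sum]
      _ = _ := by
          refine Finset.sum_congr rfl fun ξ _ => ?_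
          rw [hEdef, matVal_kMat_mul]
          rw [show ((bIdem hM hf : intRing (G := H) hM) : IrrCharacter H → ℂ) ξ = indVal f ξ from rfl]
          simp only [indVal]
          split <;> simp
  rw [e2]
  calc ∑ ξ : IrrCharacter H, indVal f ξ * decNum u χ ξ * matVal hM (ξ : H → ℂ) E 1
      = ∑ ξ : IrrCharacter H, indVal f ξ * decNum u χ ξ * ((Nat.card H : ℂ)⁻¹ *
          ∑ b ∈ Finset.univ.filter (fun b : H => ¬ p ∣ orderOf b),
            (∑ φ : IrrCharacter H, matVal hM (φ : H → ℂ) E 1 * conj ((φ : H → ℂ) b)) *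
              (ξ : H → ℂ) b) :=
        Finset.sum_congr rfl fun ξ _ => by rw [← matVal_idem_eq_regular hM hE hEE ξ]
    _ = _ := by
        simp only [Finset.mul_sum]
        rw [Finset.sum_comm]
        refine Finset.sum_congr rfl fun b _ => ?_
        rw [blockPart_eq]
        simp only [Finset.mul_sum, decNum]
        exact Finset.sum_congr rfl fun ξ _ => by ring

/-- The residue of the value of a source idempotent does not depend on the element of `P`. -/
theorem res_matVal_source (hP : IsPGroup p P) (χ : IrrCharacter G)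
    {i : Matrix G G (locRing hM)} (hi : i ∈ grpRing hM G) (hii : i * i = i)
    (hiP : ∀ t ∈ P, ∀ g, i (t * g * t⁻¹) 1 = i g 1) {u : G} (hu : u ∈ P) :
    res hM ⟨matVal hM (χ : G → ℂ) i u, matVal_mem hM χ i u⟩ =
      resVal hM χ (redCol hM i) := by
  haveI : Fact p.Prime := ⟨hM.1⟩
  rw [← res_matVal, res_eq_res_iff]
  show MemLocalIdeal M (matVal hM (χ : G → ℂ) i u - matVal hM (χ : G → ℂ) i 1)
  have hS : aeval i (((({0, 1} : Multiset (locRing hM))).map
      fun μ => Polynomial.X - C μ).prod) = 0 := by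
    simp [mul_sub, hii]
  obtain ⟨T, φ, hT, hφ, he⟩ := exists_matVal_decomp hM P χ.2.isCharacter' hi hiP hS
  have e := he ⟨u, hu⟩
  have e1 := he 1
  simp only [OneMemClass.coe_one] at e e1
  rw [e, e1, ← Finset.sum_sub_distrib, memLocalIdeal_iff_exists hM]
  have hz : ∀ z ∈ T, z ∈ locRing hM := fun z hz => by
    obtain ⟨μ, -, rfl⟩ := hT z hz
    exact μ.2
  have hv : ∀ z ∈ T, ∀ w : P, φ z w ∈ locRing hM := fun z hz w =>
    isIntegral_mem hM (isCharacter_isIntegral (hφ _ hz) w)
  refine ⟨sum_mem fun z h => sub_mem (mul_mem (hz z h) (hv z h _)) (mul_mem (hz z h) (hv z h _)),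
    ?_⟩
  have e2 : (⟨∑ z ∈ T, (z * φ z ⟨u, hu⟩ - z * φ z 1), sum_mem fun z h =>
      sub_mem (mul_mem (hz z h) (hv z h _)) (mul_mem (hz z h) (hv z h _))⟩ : locRing hM) =
      ∑ z ∈ T.attach, (⟨z, hz z z.2⟩ : locRing hM) *
        (⟨φ z ⟨u, hu⟩, hv z z.2 _⟩ - ⟨φ z 1, hv z z.2 _⟩) := by
    apply Subtype.ext
    simp only [AddSubmonoidClass.coe_finsetSum, Subring.coe_mul, AddSubgroupClass.coe_sub]
    rw [← Finset.sum_attach T]
    exact Finset.sum_congr rfl fun z _ => by ring
  rw [e2, map_sum]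
  refine Finset.sum_eq_zero fun z _ => ?_
  have hk : ∃ k, orderOf (⟨u, hu⟩ : P) = p ^ k := IsPGroup.iff_orderOf.1 hP ⟨u, hu⟩
  have h1 := res_apply_mul hM (hφ _ z.2) (Commute.one_right (⟨u, hu⟩ : P)) hk
    (by simpa using hM.1.not_dvd_one)
  simp only [mul_one] at h1
  rw [map_mul, map_sub, h1, sub_self, mul_zero]

/-- A height zero character does not vanish on the part of a pair below a maximal one. -/
theorem exists_blockPart_ne_zero [Fact p.Prime] (hψ : MaxPair hM B P ψ) {χ : IrrCharacter G}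
    (hχ : χ ∈ B) (h0 : blockHeight p B (χ : G → ℂ) = 0) {u : G} (hu : u ∈ P)
    {f : Set (IrrCharacter (Subgroup.centralizer ({u} : Set G)))} (hf : IsPBlock M f)
    (hc : Chain hM (Subgroup.zpowers u, bFn hM (Subgroup.centralizer ({u} : Set G)) f) (P, ψ)) :
    ∃ y : Subgroup.centralizer ({u} : Set G), ¬ p ∣ orderOf y ∧ blockPart f
      (fun c : Subgroup.centralizer ({u} : Set G) => (χ : G → ℂ) (u * (c : G))) y ≠ 0 := by
  obtain ⟨i, hi, hii, hiP, hib, hne⟩ := exists_source hψ hχ h0
  obtain ⟨Θ, hΘ⟩ := exists_section_theta hψ hi hii hiP hib hu hf hc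
  by_contra hall
  push Not at hall
  apply hne
  rw [← res_matVal_source hψ.1.1.1 χ hi hii hiP hu, res_eq_zero_iff]
  have e : matVal hM (χ : G → ℂ) i u = 0 := by
    rw [hΘ χ, Finset.sum_eq_zero (fun b hb => ?_), mul_zero]
    rw [hall b (Finset.mem_filter.1 hb).2, mul_zero]
  show MemLocalIdeal M (matVal hM (χ : G → ℂ) i u)
  rw [e, memLocalIdeal_iff_exists hM]
  exact ⟨zero_mem _, map_zero _⟩

/-- An induced block of the centralizer of a `p`-element gives a pair. -/
theorem pairIn_of_induced (hM : IsPModular p M) {u : G} (hu : ∃ k, orderOf u = p ^ k)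
    {B : Set (IrrCharacter G)} {b : Set (IrrCharacter (Subgroup.centralizer ({u} : Set G)))}
    (hb : IsInducedBlock M (Subgroup.centralizer ({u} : Set G)) b B) :
    PairIn hM B (Subgroup.zpowers u) (bFn hM (Subgroup.centralizer ({u} : Set G)) b) := by
  refine ⟨⟨isPGroup_zpowers hu, ?_⟩, hb.2.1, ?_⟩
  · rw [centralizer_zpowers]
    exact ⟨b, hb.1, rfl⟩
  have hsub : ∀ ξ ∈ b, ξ ∈ secSet M u B := fun ξ hξ => by
    show IsInducedBlock M _ _ B
    rw [← isPBlock_eq_blockOf hM hb.1 hξ]
    exact hb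
  have e : trc (Subgroup.zpowers u) (gFn hM B) =
      ext0 (Subgroup.centralizer ({u} : Set G))
        (cred hM (⟨_, secSet_mem hM hu hb.2.1⟩ :
          intRing (G := Subgroup.centralizer ({u} : Set G)) hM)) := by
    funext g
    by_cases hg : g ∈ Subgroup.centralizer ({u} : Set G)
    · rw [trc, if_pos (by rwa [centralizer_zpowers]), ext0, dif_pos hg, cred_secSet hM hu hb.2.1,
        gFn_block hM hb.2.1]
    · rw [trc, if_neg (by rwa [centralizer_zpowers]), ext0, dif_neg hg]
  rw [e, bFn_eq_ext0_cred hM hb.1, ← ext0_gconv, ← cred_mul_eq_gconv]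
  congr 2
  apply Subtype.ext
  funext ξ
  show indVal (secSet M u B) ξ * indVal b ξ = indVal b ξ
  simp only [indVal]
  by_cases hξ : ξ ∈ b
  · simp [hξ, hsub ξ hξ]
  · simp [hξ]

end CfsgLib.Block
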