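import Cfsg.Agent.Lib.BlockCore
import Cfsg.Agent.Lib.BlockPrincipal
import Cfsg.Agent.Lib.CharMult
import Cfsg.Agent.Lib.CharLinear
import Mathlib.GroupTheory.Subgroup.Simple

/-!
Small general facts: values at `p`-elements modulo the maximal ideal, products over two
conjugacy classes, double commutators, and scalar subgroups of representations.
-/

universe u

namespace CfsgLib.Block

open Cfsg CfsgLib.Char
open scoped ComplexConjugate Classical

variable {G : Type u} [Group G] [Fintype G] {p : ℕ} {M : Ideal AlgInt}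

/-- A character is congruent to its degree at a `p`-element. -/
theorem res_apply_pElement (hM : IsPModular p M) (χ : IrrCharacter G) {x : G}
    (hx : ∃ k, orderOf x = p ^ k) :
    res hM ⟨(χ : G → ℂ) x, irr_mem hM χ x⟩ = res hM ⟨(χ : G → ℂ) 1, irr_mem hM χ 1⟩ := by
  obtain ⟨k, hk⟩ := hx
  obtain ⟨d, ρ, -, hρ⟩ := χ.2
  obtain ⟨bas, μ, -, hμ, hchar⟩ := exists_rep_eigenbasis (ρ := ρ) x
  have hmem : ∀ i, μ i ∈ locRing hM := fun i =>
    isIntegral_mem hM (IsIntegral.of_pow (orderOf_pos x) (by rw [hμ]; exact isIntegral_one))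
  have h1 : ∀ i, res hM ⟨μ i, hmem i⟩ = 1 := fun i =>
    res_eq_one_of_pow_prime_pow hM (n := k) (Subtype.ext (by
      show μ i ^ p ^ k = 1
      rw [← hk, hμ]))
  have hx' : (⟨(χ : G → ℂ) x, irr_mem hM χ x⟩ : locRing hM) =
      ∑ i, (⟨μ i, hmem i⟩ : locRing hM) := Subtype.ext (by
    have h := hchar 1
    rw [pow_one] at h
    rw [AddSubmonoidClass.coe_finsetSum]
    show (χ : G → ℂ) x = _
    rw [← hρ]
    rw [h]
    simp)
  have h0' : (⟨(χ : G → ℂ) 1, irr_mem hM χ 1⟩ : locRing hM) =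
      ∑ _i : Fin (Module.finrank ℂ (Fin d → ℂ)), (1 : locRing hM) := Subtype.ext (by
    rw [AddSubmonoidClass.coe_finsetSum]
    show (χ : G → ℂ) 1 = _
    rw [← hρ]
    rw [Representation.char_one]
    simp)
  rw [hx', h0', map_sum, map_sum]
  exact Finset.sum_congr rfl fun i _ => by rw [h1, map_one]

/-- Sum over two conjugacy classes of the values at products. -/
theorem sum_conj_prod (χ : IrrCharacter G) (x y : G) :
    ∑ q : G × G, (χ : G → ℂ) (q.1 * x * q.1⁻¹ * (q.2 * y * q.2⁻¹)) =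
      (Nat.card G : ℂ) ^ 2 * (χ : G → ℂ) x * (χ : G → ℂ) y / (χ : G → ℂ) 1 := by
  have hi : ∀ a : G, ∑ b : G, (χ : G → ℂ) (a * x * a⁻¹ * (b * y * b⁻¹)) =
      (Nat.card G : ℂ) * (χ : G → ℂ) y * (χ : G → ℂ) x / (χ : G → ℂ) 1 := by
    intro a
    have h := sum_conj_mul χ y (a * x * a⁻¹)
    rw [isCharacter_classFunction χ.2.isCharacter' x a] at h
    rw [← h]
    refine Finset.sum_congr rfl fun b _ => ?_
    have hcl := isCharacter_classFunction χ.2.isCharacter' (b * y * b⁻¹ * (a * x * a⁻¹))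
      (a * x * a⁻¹)
    rw [← hcl]
    congr 1
    group
  rw [Fintype.sum_prod_type, Finset.sum_congr rfl fun a _ => hi a, Finset.sum_const,
    Finset.card_univ, ← Nat.card_eq_fintype_card, nsmul_eq_mul]
  ring

/-- The value of a character summed over products of two commutators. -/
theorem sum_two_commutators (χ : IrrCharacter G) :
    ∑ q : (G × G) × (G × G), (χ : G → ℂ)
        ((q.1.1 * q.1.2 * q.1.1⁻¹ * q.1.2⁻¹) * (q.2.1 * q.2.2 * q.2.1⁻¹ * q.2.2⁻¹)) =
      (Nat.card G : ℂ) ^ 4 / (χ : G → ℂ) 1 ^ 3 := by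
  obtain ⟨d, ρ, hρi, hρ⟩ := χ.2
  haveI := hρi
  set A : Module.End ℂ (Fin d → ℂ) := ∑ q : G × G, ρ (q.1 * q.2 * q.1⁻¹ * q.2⁻¹)
  have hA : ∀ g : G, A * ρ g = ρ g * A := by
    intro g
    simp only [A, Finset.sum_mul, Finset.mul_sum, ← map_mul]
    refine Fintype.sum_equiv (Equiv.prodCongr (MulAut.conj g⁻¹).toEquiv
      (MulAut.conj g⁻¹).toEquiv) _ _ fun q => ?_
    simp [MulAut.conj_apply, mul_assoc]
  obtain ⟨s, hs⟩ := schur_scalar (ρ := ρ) A hA
  have hd : (d : ℂ) = (χ : G → ℂ) 1 := by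
    rw [← hρ, Representation.char_one, Module.finrank_fin_fun]
  have htrA : s * (d : ℂ) = ∑ q : G × G, (χ : G → ℂ) (q.1 * q.2 * q.1⁻¹ * q.2⁻¹) := by
    have h1 : LinearMap.trace ℂ _ A = s * (d : ℂ) := by
      rw [hs, map_smul, LinearMap.trace_one, Module.finrank_fin_fun, smul_eq_mul]
    rw [← h1, map_sum, ← hρ]
    rfl
  have hsum : ∑ q : G × G, (χ : G → ℂ) (q.1 * q.2 * q.1⁻¹ * q.2⁻¹) =
      (Nat.card G : ℂ) ^ 2 / (χ : G → ℂ) 1 := by
    rw [← Finset.sum_fiberwise Finset.univ (fun q : G × G => q.1 * q.2 * q.1⁻¹ * q.2⁻¹)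
      (fun q => (χ : G → ℂ) (q.1 * q.2 * q.1⁻¹ * q.2⁻¹))]
    have h1 : ∀ z : G,
        ∑ q ∈ Finset.univ.filter (fun q : G × G => q.1 * q.2 * q.1⁻¹ * q.2⁻¹ = z),
          (χ : G → ℂ) (q.1 * q.2 * q.1⁻¹ * q.2⁻¹) =
        (χ : G → ℂ) z * conj ((Nat.card G : ℂ) *
          ∑ η : IrrCharacter G, (η : G → ℂ) z / (η : G → ℂ) 1) := by
      intro z
      rw [← count_commutator z, Complex.conj_natCast,
        Finset.sum_congr rfl fun q hq => by rw [(Finset.mem_filter.1 hq).2],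
        Finset.sum_const, nsmul_eq_mul, mul_comm]
      congr 2
      rw [Nat.card_eq_fintype_card, Fintype.card_subtype]
    simp only [h1, map_mul, map_sum, map_div₀, Complex.conj_natCast, irr_conj_one,
      Finset.mul_sum]
    rw [Finset.sum_comm]
    have h2 : ∀ η : IrrCharacter G,
        ∑ z : G, (χ : G → ℂ) z * ((Nat.card G : ℂ) * (conj ((η : G → ℂ) z) / (η : G → ℂ) 1)) =
        (Nat.card G : ℂ) ^ 2 / (η : G → ℂ) 1 * classInner (χ : G → ℂ) (η : G → ℂ) := by
      intro η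
      rw [classInner, Finset.mul_sum, Finset.mul_sum]
      refine Finset.sum_congr rfl fun z _ => ?_
      have := natCard_ne_zero G
      field_simp
    simp only [h2, irr_classInner, mul_ite, mul_one, mul_zero, Finset.sum_ite_eq,
      Finset.mem_univ, if_true]
  rw [hsum] at htrA
  have hA2 : ∑ q : (G × G) × (G × G), (χ : G → ℂ)
      ((q.1.1 * q.1.2 * q.1.1⁻¹ * q.1.2⁻¹) * (q.2.1 * q.2.2 * q.2.1⁻¹ * q.2.2⁻¹)) =
      LinearMap.trace ℂ _ (A * A) := by
    simp only [A, Finset.sum_mul, Finset.mul_sum, map_sum, ← map_mul]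
    rw [Fintype.sum_prod_type, ← hρ, Finset.sum_comm]
    rfl
  rw [hA2, hs, smul_mul_smul_comm, one_mul, map_smul, LinearMap.trace_one,
    Module.finrank_fin_fun, smul_eq_mul]
  have hd0 : (χ : G → ℂ) 1 ≠ 0 := irr_one_ne_zero χ
  rw [hd] at htrA ⊢
  rw [eq_div_iff hd0] at htrA
  rw [eq_div_iff (pow_ne_zero 3 hd0)]
  linear_combination (s * (χ : G → ℂ) 1 * (χ : G → ℂ) 1 + (Nat.card G : ℂ) ^ 2) * htrA

omit [Fintype G] in
/-- In a simple group an element acting by a scalar forces every element to do so. -/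
theorem forall_scalar_of_simple [IsSimpleGroup G] {V : Type*} [AddCommGroup V] [Module ℂ V]
    (ρ : Representation ℂ G V) {g : G} (hg : g ≠ 1) {c : ℂ}
    (hc : ρ g = c • (1 : Module.End ℂ V)) :
    ∀ x : G, ∃ a : ℂ, ρ x = a • (1 : Module.End ℂ V) := by
  let S : Subgroup G :=
    { carrier := {x | ∀ T : Module.End ℂ V, ρ x * T = T * ρ x}
      one_mem' := fun T => by simp
      mul_mem' := fun {a b} ha hb T => by rw [map_mul, mul_assoc, hb, ← mul_assoc, ha, mul_assoc]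
      inv_mem' := fun {a} ha T => by
        have h := congrArg (fun U => ρ a⁻¹ * U * ρ a⁻¹) (ha T)
        simp only [mul_assoc] at h
        rw [← map_mul ρ a a⁻¹, mul_inv_cancel, map_one, mul_one, ← mul_assoc (ρ a⁻¹) (ρ a),
          ← map_mul ρ a⁻¹ a, inv_mul_cancel, map_one, one_mul] at h
        exact h.symm }
  have hSn : S.Normal := ⟨fun x hx y T => by
    have h := hx (ρ y⁻¹ * T * ρ y)
    have h2 := congrArg (fun U => ρ y * U * ρ y⁻¹) h
    simp only [map_mul, mul_assoc] at h2 ⊢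
    rw [← map_mul ρ y y⁻¹, mul_inv_cancel, map_one, mul_one] at h2
    rw [← mul_assoc (ρ y) (ρ y⁻¹), ← map_mul ρ y y⁻¹, mul_inv_cancel, map_one, one_mul] at h2
    simpa [mul_assoc] using h2⟩
  have hgS : g ∈ S := fun T => by rw [hc, smul_mul_assoc, one_mul, mul_smul_comm, mul_one]
  have htop : S = ⊤ := hSn.eq_bot_or_eq_top.resolve_left fun h => hg (by
    rw [h] at hgS; exact hgS)
  intro x
  have hx : ∀ T : Module.End ℂ V, ρ x * T = T * ρ x :=
    (show x ∈ S from htop ▸ Subgroup.mem_top x)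
  by_cases hV : ∃ v : V, v ≠ 0
  swap
  · push Not at hV
    exact ⟨0, LinearMap.ext fun v => by rw [hV v]; simp⟩
  obtain ⟨v, hv⟩ := hV
  obtain ⟨φ, hφ⟩ : ∃ φ : V →ₗ[ℂ] ℂ, φ v = 1 := by
    obtain ⟨φ, hφ⟩ := LinearMap.exists_leftInverse_of_injective
      (LinearMap.toSpanSingleton ℂ V v) (LinearMap.ker_toSpanSingleton ℂ hv)
    exact ⟨φ, by simpa using LinearMap.congr_fun hφ 1⟩
  refine ⟨φ (ρ x v), LinearMap.ext fun w => ?_⟩
  have h := LinearMap.congr_fun (hx (φ.smulRight w)) v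
  simp only [Module.End.mul_apply, LinearMap.smulRight_apply, hφ, one_smul] at h
  rw [LinearMap.smul_apply, Module.End.one_apply, h]

end CfsgLib.Block
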