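import Cfsg.Agent.Lib.BlockDefectOne
import Mathlib.RingTheory.Valuation.LocalSubring
import Mathlib.RingTheory.Artinian.Module
import Mathlib.LinearAlgebra.Matrix.Charpoly.Coeff
import Mathlib.LinearAlgebra.Projection

/-!
Modular reduction of a faithful representation of small degree when a prime divides the group
order exactly once, and the resulting structure of the centralizer of a Sylow subgroup:
if a group generated by the conjugates of an element of order `p` has a faithful
representation of degree `n` with `2 * n ≤ p` over a field of characteristic `p`, and all its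
normal `p'`-subgroups are central, then the `p'`-part of the centralizer of the Sylow
`p`-subgroup is central.
-/

universe u

namespace CfsgLib.Block

open Cfsg CfsgLib.Char
open scoped Classical

/-- A valuation subring of the complex numbers in which the prime `p` is not a unit. -/
theorem exists_valuationSubring_prime (p : ℕ) (hp : p.Prime) :
    ∃ O : ValuationSubring ℂ, (p : O) ∈ IsLocalRing.maximalIdeal O := by
  let f : ℤ →+* ℂ := Int.castRingHom ℂ
  have hne : Ideal.span {(p : f.range)} ≠ ⊤ := by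
    rw [Ne, Ideal.span_singleton_eq_top]
    intro hu
    obtain ⟨⟨z, a, rfl⟩, hz⟩ := isUnit_iff_exists_inv.1 hu
    have hC : ((p : ℤ) : ℂ) * (a : ℂ) = 1 := by
      simpa [f, Subtype.ext_iff] using hz
    have : (p : ℤ) * a = 1 := by exact_mod_cast hC
    have := Int.eq_one_of_mul_eq_one_right (by positivity) this
    exact hp.ne_one (by exact_mod_cast this)
  obtain ⟨O, hle, hsub⟩ := Ideal.image_subset_nonunits_valuationSubring _ hne
  refine ⟨O, ?_⟩
  have h1 : ((p : f.range) : ℂ) ∈ O.nonunits :=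
    hsub ⟨_, Ideal.mem_span_singleton_self _, rfl⟩
  rw [← ValuationSubring.coe_mem_nonunits_iff]
  simpa using h1

/-- A finite subset of a vector space spans, over a valuation subring, the same submodule as
one of its linearly independent subsets. -/
theorem exists_indep_span_valuation {K : Type*} [Field K] (O : ValuationSubring K)
    {V : Type*} [AddCommGroup V] [Module K V] (S : Finset V) :
    ∃ T : Finset V, T ⊆ S ∧ LinearIndependent K (fun t : T => (t : V)) ∧
      ∀ s ∈ S, ∃ c : V → K, (∀ t, c t ∈ O) ∧ s = ∑ t ∈ T, c t • t := by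
  induction hn : S.card using Nat.strong_induction_on generalizing S with
  | _ n ih =>
  by_cases hind : LinearIndependent K (fun t : S => (t : V))
  · refine ⟨S, subset_rfl, hind, fun s hs => ⟨fun t => if t = s then 1 else 0, fun t => ?_, ?_⟩⟩
    · dsimp only
      split_ifs
      · exact O.one_mem
      · exact O.zero_mem
    · simp [hs, ite_smul]
  obtain ⟨g, hg, i, hi⟩ := Fintype.not_linearIndependent_iff.1 hind
  obtain ⟨i0, -, hmax⟩ := Finset.exists_max_image (Finset.univ : Finset S)
    (fun j => O.valuation (g j)) ⟨i, Finset.mem_univ _⟩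
  have hg0 : g i0 ≠ 0 := by
    intro h0
    have := hmax i (Finset.mem_univ _)
    rw [h0, map_zero] at this
    exact hi ((map_eq_zero _).1 (le_zero_iff.1 this))
  have hmem : ∀ j : S, -(g j / g i0) ∈ O := fun j => by
    refine O.neg_mem _ ((O.valuation_le_one_iff _).1 ?_)
    rw [map_div₀]
    exact div_le_one_of_le₀ (hmax j (Finset.mem_univ _)) zero_le'
  obtain ⟨T, hTS, hT, hspan⟩ := ih (S.erase (i0 : V)).card
    (by rw [← hn]; exact Finset.card_erase_lt_of_mem i0.2) _ rfl
  refine ⟨T, hTS.trans (Finset.erase_subset _ _), hT, fun s hs => ?_⟩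
  by_cases hsi : s = (i0 : V)
  swap
  · exact hspan s (Finset.mem_erase.2 ⟨hsi, hs⟩)
  have hrel : (i0 : V) = ∑ j ∈ (Finset.univ : Finset S).erase i0, (-(g j / g i0)) • (j : V) := by
    have h := congrArg (fun v => (g i0)⁻¹ • v)
      (Finset.sum_erase_add Finset.univ (fun j => g j • (j : V)) (Finset.mem_univ i0))
    simp only [hg, smul_zero, smul_add, Finset.smul_sum, smul_smul, inv_mul_cancel₀ hg0,
      one_smul] at h
    rw [eq_neg_of_add_eq_zero_right h, ← Finset.sum_neg_distrib]
    refine Finset.sum_congr rfl fun j _ => ?_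
    rw [← neg_smul, div_eq_inv_mul]
  have hne : ∀ j ∈ (Finset.univ : Finset S).erase i0, (j : V) ∈ S.erase (i0 : V) := fun j hj =>
    Finset.mem_erase.2 ⟨fun h => (Finset.mem_erase.1 hj).1 (Subtype.ext h), j.2⟩
  choose! c hcO hc using hspan
  refine ⟨fun t => ∑ j ∈ (Finset.univ : Finset S).erase i0, (-(g j / g i0)) * c j t,
    fun t => sum_mem fun j hj => mul_mem (hmem j) (hcO _ (hne j hj) t), ?_⟩
  rw [hsi, hrel]
  simp only [Finset.sum_smul]
  rw [Finset.sum_comm]
  refine Finset.sum_congr rfl fun j hj => ?_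
  conv_lhs => rw [hc _ (hne j hj)]
  rw [Finset.smul_sum]
  simp [smul_smul]

section Reduction

variable {G : Type u} [Group G] [Finite G] {p : ℕ} [hpf : Fact p.Prime]

/-- A complex representation can be written over a valuation subring of `ℂ`. -/
theorem exists_integral_form {n : ℕ} (O : ValuationSubring ℂ)
    (ρ : Representation ℂ G (Fin n → ℂ)) (hρ : Function.Injective ρ) :
    ∃ σ : G →* Matrix (Fin n) (Fin n) O, Function.Injective σ := by
  have : Fintype G := Fintype.ofFinite G
  obtain ⟨T, hTS, hT, hspan⟩ := exists_indep_span_valuation O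
    ((Finset.univ : Finset (G × Fin n)).image fun gi => ρ gi.1 (Pi.single gi.2 1))
  have hmem : ∀ (g : G) (i : Fin n), ∃ c : (Fin n → ℂ) → ℂ, (∀ t, c t ∈ O) ∧
      ρ g (Pi.single i 1) = ∑ t ∈ T, c t • t := fun g i =>
    hspan _ (Finset.mem_image.2 ⟨(g, i), Finset.mem_univ _, rfl⟩)
  have hsp : ⊤ ≤ Submodule.span ℂ (Set.range fun t : T => (t : Fin n → ℂ)) := by
    rw [← (Pi.basisFun ℂ (Fin n)).span_eq]
    refine Submodule.span_le.2 ?_
    rintro _ ⟨i, rfl⟩
    obtain ⟨c, -, hc⟩ := hmem 1 i
    have h1 : Pi.single i (1 : ℂ) = ∑ t ∈ T, c t • t := by simpa using hc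
    rw [Pi.basisFun_apply, h1]
    exact Submodule.sum_mem _ fun t ht =>
      Submodule.smul_mem _ _ (Submodule.subset_span ⟨⟨t, ht⟩, rfl⟩)
  let b0 : Module.Basis T ℂ (Fin n → ℂ) := Module.Basis.mk hT hsp
  have hcard : Fintype.card T = n := by
    simpa using (Module.finrank_eq_card_basis b0).symm
  let b := b0.reindex (Fintype.equivFinOfCardEq hcard)
  have hent : ∀ (g : G) (i j : Fin n), LinearMap.toMatrix b b (ρ g) i j ∈ O := by
    intro g i j
    set e := Fintype.equivFinOfCardEq hcard
    obtain ⟨t, ht⟩ : ∃ t : T, b j = t := ⟨e.symm j, by simp [b, e, b0, Module.Basis.mk_apply]⟩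
    obtain ⟨⟨h, l⟩, -, hl⟩ := Finset.mem_image.1 (hTS t.2)
    obtain ⟨c, hcO, hc⟩ := hmem (g * h) l
    have hval : ρ g (b j) = ∑ x : T, c x • b0 x := by
      have h1 : ρ g (b j) = ρ (g * h) (Pi.single l 1) := by
        rw [ht, ← hl, map_mul, Module.End.mul_apply]
      rw [h1, hc, ← Finset.sum_coe_sort T]
      simp [b0, Module.Basis.mk_apply]
    rw [LinearMap.toMatrix_apply, hval, Module.Basis.repr_reindex_apply]
    rw [b0.repr_sum_self fun x : T => c x]
    exact hcO _
  let σ : G →* Matrix (Fin n) (Fin n) O :=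
    { toFun := fun g => Matrix.of fun i j =>
        (⟨LinearMap.toMatrix b b (ρ g) i j, hent g i j⟩ : O)
      map_one' := by
        refine Matrix.ext fun i j => Subtype.ext ?_
        simp [Matrix.one_apply, apply_ite]
      map_mul' := fun g h => by
        refine Matrix.ext fun i j => Subtype.ext ?_
        simp [map_mul, LinearMap.toMatrix_mul, Matrix.mul_apply] }
  refine ⟨σ, fun g h hgh => hρ ?_⟩
  refine (LinearMap.toMatrix b b).injective (Matrix.ext fun i j => ?_)
  exact congrArg Subtype.val (congrFun (congrFun hgh i) j)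

/-- The kernel of the reduction modulo the maximal ideal consists of `p`-elements. -/
theorem not_prime_order_of_residue_one {n : ℕ} {O : ValuationSubring ℂ}
    (hO : (p : O) ∈ IsLocalRing.maximalIdeal O) {σ : G →* Matrix (Fin n) (Fin n) O}
    (hσ : Function.Injective σ) {g : G} {q : ℕ} (hq : q.Prime) (hqp : q ≠ p)
    (hg : orderOf g = q) :
    (IsLocalRing.residue O).mapMatrix (σ g) ≠ 1 := by
  intro hres
  set A := σ g
  have hAq : A ^ q = 1 := by rw [← map_pow, ← hg, pow_orderOf_eq_one, map_one]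
  have hzero : (∑ i ∈ Finset.range q, A ^ i) * (A - 1) = 0 := by
    rw [geom_sum_mul, hAq, sub_self]
  have hunit : IsUnit (∑ i ∈ Finset.range q, A ^ i) := by
    rw [Matrix.isUnit_iff_isUnit_det]
    refine (IsLocalRing.residue_ne_zero_iff_isUnit _).1 ?_
    rw [RingHom.map_det, map_sum]
    simp only [map_pow, hres, one_pow, Finset.sum_const, Finset.card_range, nsmul_one]
    rw [← Matrix.diagonal_natCast, Matrix.det_diagonal]
    refine Finset.prod_ne_zero_iff.2 fun _ _ => fun h0 => ?_
    have hp0 : (p : IsLocalRing.ResidueField O) = 0 := by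
      rw [← map_natCast (IsLocalRing.residue O)]
      exact (IsLocalRing.residue_eq_zero_iff _).2 hO
    have : CharP (IsLocalRing.ResidueField O) p :=
      (CharP.charP_iff_prime_eq_zero hpf.out).2 hp0
    have := (CharP.cast_eq_zero_iff (IsLocalRing.ResidueField O) p q).1 h0
    exact hqp ((Nat.prime_dvd_prime_iff_eq hpf.out hq).1 this).symm
  have h1 : A = 1 := sub_eq_zero.1 ((hunit.mul_right_eq_zero).1 hzero)
  have : g = 1 := hσ (by rw [map_one]; exact h1)
  rw [this, orderOf_one] at hg
  exact hq.one_lt.ne hg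

/-- **Reduction modulo `p`**: a group in which `p` divides the order exactly once and which has
no normal subgroup of order `p` keeps a faithful representation under reduction. -/
theorem exists_modular_rep {n : ℕ} (hsq : ¬ p ^ 2 ∣ Nat.card G)
    (hnn : ∀ H : Subgroup G, H.Normal → Nat.card H ≠ p)
    (ρ : Representation ℂ G (Fin n → ℂ)) (hρ : Function.Injective ρ) :
    ∃ (k : Type) (_ : Field k) (_ : CharP k p) (σ : G →* Matrix (Fin n) (Fin n) k),
      Function.Injective σ := by
  obtain ⟨O, hO⟩ := exists_valuationSubring_prime p hpf.out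
  obtain ⟨σ, hσ⟩ := exists_integral_form O ρ hρ
  have hp0 : (p : IsLocalRing.ResidueField O) = 0 := by
    rw [← map_natCast (IsLocalRing.residue O)]
    exact (IsLocalRing.residue_eq_zero_iff _).2 hO
  have hch : CharP (IsLocalRing.ResidueField O) p :=
    (CharP.charP_iff_prime_eq_zero hpf.out).2 hp0
  let τ : G →* Matrix (Fin n) (Fin n) (IsLocalRing.ResidueField O) :=
    ((IsLocalRing.residue O).mapMatrix : _ →+* _).toMonoidHom.comp σ
  refine ⟨_, inferInstance, hch, τ, (MonoidHom.ker_eq_bot_iff _).1 ?_⟩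
  have hpg : IsPGroup p τ.ker := by
    refine IsPGroup.iff_orderOf.2 fun x => ⟨_, Nat.eq_prime_pow_of_unique_prime_dvd
      (orderOf_pos x).ne' ?_⟩
    intro q hq hd
    by_contra hne
    have hy : orderOf ((x : G) ^ (orderOf x / q)) = q := by
      rw [← Subgroup.orderOf_coe] at hd ⊢
      exact orderOf_pow_orderOf_div (orderOf_pos _).ne' hd
    have hk : (x : G) ^ (orderOf x / q) ∈ τ.ker := Subgroup.pow_mem _ x.2 _
    exact not_prime_order_of_residue_one hO hσ hq hne hy (MonoidHom.mem_ker.1 hk)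
  obtain ⟨m, hm⟩ := IsPGroup.iff_card.1 hpg
  rcases m with _ | _ | m
  · rw [pow_zero] at hm
    exact Subgroup.card_eq_one.1 hm
  · exact absurd (by simpa using hm) (hnn τ.ker inferInstance)
  · exact absurd ((pow_dvd_pow p (by omega : 2 ≤ m + 1 + 1)).trans
      (hm ▸ Subgroup.card_subgroup_dvd_card τ.ker)) hsq

end Reduction

section Central

variable {G : Type u} [Group G] [Fintype G] {p : ℕ} [hpf : Fact p.Prime]
variable {k : Type*} [Field k] [CharP k p] {n : ℕ}

/-- Conjugation on the space of matrices. -/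
noncomputable def adRep (ρ : G →* Matrix (Fin n) (Fin n) k) :
    Representation k G (Matrix (Fin n) (Fin n) k) where
  toFun g := LinearMap.mulLeft k (ρ g) * LinearMap.mulRight k (ρ g⁻¹)
  map_one' := by
    refine LinearMap.ext fun a => ?_
    simp [Module.End.mul_apply]
  map_mul' a b := by
    refine LinearMap.ext fun x => ?_
    simp [Module.End.mul_apply, map_mul, mul_inv_rev, mul_assoc]

theorem adRep_apply (ρ : G →* Matrix (Fin n) (Fin n) k) (g : G) (a : Matrix (Fin n) (Fin n) k) :
    adRep ρ g a = ρ g * a * ρ g⁻¹ := by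
  simp [adRep, Module.End.mul_apply, mul_assoc]

theorem adRep_eq_self_iff (ρ : G →* Matrix (Fin n) (Fin n) k) (g : G)
    (a : Matrix (Fin n) (Fin n) k) : adRep ρ g a = a ↔ ρ g * a = a * ρ g := by
  rw [adRep_apply]
  constructor
  · intro h
    conv_rhs => rw [← h]
    rw [mul_assoc (ρ g * a), ← map_mul, inv_mul_cancel, map_one, mul_one]
  · intro h
    rw [h, mul_assoc, ← map_mul, mul_inv_cancel, map_one, mul_one]

/-- A nilpotent matrix vanishes at the power given by its size. -/
theorem matrix_pow_card_eq_zero {A : Matrix (Fin n) (Fin n) k} (hA : IsNilpotent A) :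
    A ^ n = 0 := by
  have h := Matrix.isNilpotent_charpoly_sub_pow_of_isNilpotent hA
  rw [isNilpotent_iff_eq_zero, sub_eq_zero] at h
  have h2 := Matrix.aeval_self_charpoly A
  rw [h] at h2
  simpa using h2

theorem sub_one_pow_adRep (ρ : G →* Matrix (Fin n) (Fin n) k) {x : G} (hx : x ^ p = 1)
    (hn : 2 * n ≤ p) : (adRep ρ x - 1) ^ (p - 1) = 0 := by
  have : CharP (Matrix (Fin n) (Fin n) k) p ∨ n = 0 := by
    rcases Nat.eq_zero_or_pos n with h | h
    · exact Or.inr h
    · have : Nonempty (Fin n) := ⟨⟨0, h⟩⟩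
      exact Or.inl inferInstance
  rcases this with hc | h0
  swap
  · subst h0
    exact LinearMap.ext fun a => Subsingleton.elim _ _
  have hnil : ∀ y : G, y ^ p = 1 → (ρ y - 1) ^ n = 0 := fun y hy => by
    refine matrix_pow_card_eq_zero ⟨p, ?_⟩
    rw [sub_pow_char_of_commute p (Commute.one_right (ρ y)), ← map_pow, hy, map_one, one_pow,
      sub_self]
  set L : Module.End k (Matrix (Fin n) (Fin n) k) := LinearMap.mulLeft k (ρ x)
  set R : Module.End k (Matrix (Fin n) (Fin n) k) := LinearMap.mulRight k (ρ x⁻¹)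
  have hL : L - 1 = LinearMap.mulLeft k (ρ x - 1) := by
    refine LinearMap.ext fun a => ?_
    simp [L, sub_mul]
  have hR : R - 1 = LinearMap.mulRight k (ρ x⁻¹ - 1) := by
    refine LinearMap.ext fun a => ?_
    simp [R, mul_sub]
  have hcomm : ∀ a b : Matrix (Fin n) (Fin n) k,
      Commute (LinearMap.mulLeft k a) (LinearMap.mulRight k b) :=
    fun a b => LinearMap.commute_mulLeft_right a b
  have hsplit : adRep ρ x - 1 = (L - 1) * R + (R - 1) := by
    show L * R - 1 = _
    rw [sub_mul, one_mul]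
    abel
  rw [hsplit]
  have hA : ((L - 1) * R) ^ n = 0 := by
    rw [Commute.mul_pow (by rw [hL]; exact hcomm _ _), hL, LinearMap.pow_mulLeft, hnil x hx,
      LinearMap.mulLeft_zero_eq_zero, zero_mul]
  have hB : (R - 1) ^ n = 0 := by
    rw [hR, LinearMap.pow_mulRight, hnil x⁻¹ (by rw [inv_pow, hx, inv_one]),
      LinearMap.mulRight_zero_eq_zero]
  refine Commute.add_pow_eq_zero_of_add_le_succ_of_pow_eq_zero ?_ hA hB (by omega)
  have h1 : Commute (L - 1) (R - 1) := by rw [hL, hR]; exact hcomm _ _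
  exact h1.mul_left ((Commute.refl R).sub_right (Commute.one_right R))

variable {P : Sylow p G} {e : ℕ}

/-- Averaged conjugation over the `p'`-part of the centralizer. -/
noncomputable def CycData.adProj (D : CycData P e) (ρ : G →* Matrix (Fin n) (Fin n) k) :
    Module.End k (Matrix (Fin n) (Fin n) k) :=
  (Nat.card D.K : k)⁻¹ • ∑ x : D.K, adRep ρ (x : G)

theorem CycData.card_K_cast_ne (D : CycData P e) : (Nat.card D.K : k) ≠ 0 :=
  fun h => D.hKp ((CharP.cast_eq_zero_iff k p _).1 h)

theorem CycData.adRep_mul_adProj (D : CycData P e) (ρ : G →* Matrix (Fin n) (Fin n) k) {y : G}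
    (hy : y ∈ D.K) : adRep ρ y * D.adProj ρ = D.adProj ρ := by
  rw [CycData.adProj, mul_smul_comm, Finset.mul_sum]
  congr 1
  refine Fintype.sum_equiv (Equiv.mulLeft (⟨y, hy⟩ : D.K)) _ _ fun x => ?_
  simp [map_mul]

theorem CycData.adProj_fix (D : CycData P e) (ρ : G →* Matrix (Fin n) (Fin n) k)
    {a : Matrix (Fin n) (Fin n) k} (ha : ∀ x ∈ D.K, adRep ρ x a = a) : D.adProj ρ a = a := by
  rw [CycData.adProj, LinearMap.smul_apply, LinearMap.sum_apply,
    Finset.sum_congr rfl fun (x : D.K) _ => ha x x.2, Finset.sum_const, Finset.card_univ,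
    ← Nat.card_eq_fintype_card, ← Nat.cast_smul_eq_nsmul k, inv_smul_smul₀ D.card_K_cast_ne]

theorem CycData.adProj_comm (D : CycData P e) (ρ : G →* Matrix (Fin n) (Fin n) k) {m : G}
    (hm : m ∈ Subgroup.normalizer ((P : Subgroup G) : Set G)) :
    adRep ρ m * D.adProj ρ = D.adProj ρ * adRep ρ m := by
  rw [CycData.adProj, mul_smul_comm, smul_mul_assoc, Finset.mul_sum, Finset.sum_mul]
  congr 1
  refine Fintype.sum_equiv
    { toFun := fun x : D.K => (⟨m * x * m⁻¹, D.hKn m hm x x.2⟩ : D.K)
      invFun := fun x : D.K => ⟨m⁻¹ * x * m⁻¹⁻¹, D.hKn m⁻¹ (inv_mem hm) x x.2⟩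
      left_inv := fun x => Subtype.ext (by simp [mul_assoc])
      right_inv := fun x => Subtype.ext (by simp [mul_assoc]) } _ _ fun x => ?_
  rw [← map_mul, ← map_mul]
  simp [mul_assoc]

theorem CycData.adProj_idem (D : CycData P e) (ρ : G →* Matrix (Fin n) (Fin n) k)
    (a : Matrix (Fin n) (Fin n) k) : D.adProj ρ (D.adProj ρ a) = D.adProj ρ a :=
  D.adProj_fix ρ fun x hx => by
    rw [← Module.End.mul_apply, D.adRep_mul_adProj ρ hx]

/-- An element of the normalizer of a Sylow subgroup of prime order whose conjugation keeps a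
nontrivial element inside the normalizer lies in it. -/
theorem mem_normalizer_of_conj_mem (hP : Nat.card P = p) {g y : G} (hy : y ∈ (P : Subgroup G))
    (hy1 : y ≠ 1) (h : g⁻¹ * y * g ∈ Subgroup.normalizer ((P : Subgroup G) : Set G)) :
    g⁻¹ ∈ Subgroup.normalizer ((P : Subgroup G) : Set G) := by
  have hyo : orderOf y = p := by
    have h1 : orderOf y ∣ p := hP ▸ Subgroup.orderOf_dvd_natCard _ hy
    rcases (Nat.dvd_prime hpf.out).1 h1 with h2 | h2
    · exact absurd (orderOf_eq_one_iff.1 h2) hy1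
    · exact h2
  have hyP : (P : Subgroup G) = Subgroup.zpowers y := by
    refine (Subgroup.eq_of_le_of_card_ge ((Subgroup.zpowers_le).2 hy) ?_).symm
    rw [Nat.card_zpowers, hyo, hP]
  have hord : orderOf (g⁻¹ * y * g) = p := by
    have h1 : g⁻¹ * y * g = MulAut.conj g⁻¹ y := by simp [MulAut.conj_apply]
    rw [h1]
    exact (orderOf_injective (MulAut.conj g⁻¹).toMonoidHom (MulAut.conj g⁻¹).injective y).trans hyo
  have hpg : IsPGroup p (Subgroup.zpowers (g⁻¹ * y * g)) :=
    IsPGroup.of_card (n := 1) (by rw [Nat.card_zpowers, hord, pow_one])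
  have hmem : g⁻¹ * y * g ∈ (P : Subgroup G) := by
    have h1 : g⁻¹ * y * g ∈ Subgroup.zpowers (g⁻¹ * y * g) ⊓
        Subgroup.normalizer ((P : Subgroup G) : Set G) :=
      Subgroup.mem_inf.2 ⟨Subgroup.mem_zpowers _, h⟩
    exact (Subgroup.mem_inf.1 ((le_of_eq (hpg.inf_normalizer_sylow P)) h1)).2
  refine Subgroup.mem_normalizer_fintype ?_
  intro x hx
  rw [SetLike.mem_coe, hyP] at hx
  obtain ⟨i, rfl⟩ := hx
  simp only [SetLike.mem_coe, inv_inv]
  have := Subgroup.zpow_mem _ hmem i
  have h2 : (g⁻¹ * y * g) ^ i = g⁻¹ * y ^ i * g := by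
    have h1 : g⁻¹ * y * g = MulAut.conj g⁻¹ y := by simp [MulAut.conj_apply]
    rw [h1, ← map_zpow]
    simp [MulAut.conj_apply]
  rwa [h2] at this

/-- The matrices commuting with the `p'`-part of the centralizer form an invariant subspace. -/
theorem CycData.adRep_preserves (D : CycData P e) (hP : Nat.card P = p)
    (ρ : G →* Matrix (Fin n) (Fin n) k) (hn : 2 * n ≤ p)
    (g : G) (a : Matrix (Fin n) (Fin n) k) (ha : D.adProj ρ a = a) :
    D.adProj ρ (adRep ρ g a) = adRep ρ g a := by
  letI : Algebra (ZMod p) k := ZMod.algebra k p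
  set c := adRep ρ
  set π := D.adProj ρ
  set N := Subgroup.normalizer ((P : Subgroup G) : Set G)
  let F : G ⧸ N → Module.End k (Matrix (Fin n) (Fin n) k) := fun q => c q.out * π * c q.out⁻¹
  have hF : ∀ g : G, F (g : G ⧸ N) = c g * π * c g⁻¹ := by
    intro g
    obtain ⟨m, hm⟩ := QuotientGroup.mk_out_eq_mul N g
    show c (g : G ⧸ N).out * π * c (g : G ⧸ N).out⁻¹ = _
    rw [hm, map_mul, mul_inv_rev, map_mul, mul_assoc (c g) (c (m : G)) π, D.adProj_comm ρ m.2,
      ← mul_assoc (c g) π, mul_assoc (c g * π), ← mul_assoc (c (m : G)), ← map_mul,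
      mul_inv_cancel, map_one, one_mul]
  set T := ∑ q : G ⧸ N, F q
  have hT : ∀ x : G, c x * T = T * c x := by
    intro x
    rw [Finset.mul_sum, Finset.sum_mul]
    refine Fintype.sum_equiv (MulAction.toPerm x) _ _ fun q => ?_
    induction q using QuotientGroup.induction_on with | _ g => ?_
    rw [MulAction.toPerm_apply, MulAction.Quotient.smul_coe, smul_eq_mul, hF, hF]
    rw [map_mul, mul_inv_rev, map_mul]
    simp only [mul_assoc]
    rw [← map_mul c x⁻¹ x, inv_mul_cancel, map_one, mul_one]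
  have hpow : ∀ w, ∑ x : (P : Subgroup G), c (x : G) w = 0 := by
    intro w
    have h0 : (c D.u - 1) ^ (p - 1) = 0 :=
      sub_one_pow_adRep ρ (by have h := pow_orderOf_eq_one D.u; rwa [D.hup] at h) hn
    rw [sub_one_pow_eq_sum] at h0
    have hbij : ∑ x : (P : Subgroup G), c (x : G) w =
        ∑ i ∈ Finset.range p, c (D.u ^ i) w := by
      refine (Finset.sum_bij (fun i (_ : i ∈ Finset.range p) =>
        (⟨D.u ^ i, by rw [D.hu]; exact pow_mem (Subgroup.mem_zpowers _) _⟩ : (P : Subgroup G)))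
        (fun _ _ => Finset.mem_univ _) (fun i hi j hj h => ?_) (fun b _ => ?_)
        (fun _ _ => rfl)).symm
      · have hup := D.hup
        refine pow_injOn_Iio_orderOf ?_ ?_ (congrArg Subtype.val h) <;>
          rw [Set.mem_Iio, hup] <;> exact Finset.mem_range.1 ‹_›
      · have hb : (b : G) ∈ Subgroup.zpowers D.u := D.hu ▸ b.2
        rw [← mem_powers_iff_mem_zpowers, Submonoid.mem_powers_iff] at hb
        obtain ⟨i, hi⟩ := hb
        refine ⟨i % p, Finset.mem_range.2 (Nat.mod_lt _ hpf.out.pos), Subtype.ext ?_⟩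
        show D.u ^ (i % p) = b
        have hm := pow_mod_orderOf D.u i
        rw [D.hup] at hm
        rw [hm, hi]
    rw [hbij]
    have h1 := LinearMap.congr_fun h0 w
    simpa [LinearMap.sum_apply, map_pow] using h1
  have hTfix : ∀ b : Matrix (Fin n) (Fin n) k, (∀ x ∈ (P : Subgroup G), c x b = b) →
      T b = π b := by
    intro b hb
    rw [LinearMap.sum_apply,
      ← Finset.sum_erase_add _ _ (Finset.mem_univ ((1 : G) : G ⧸ N)), hF]
    have hbase : (c 1 * π * c 1⁻¹) b = π b := by simp
    rw [hbase, add_eq_right]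
    have hsm : ∀ (y : (P : Subgroup G)) (g : G),
        y • ((g : G) : G ⧸ N) = (((y : G) * g : G) : G ⧸ N) := fun _ _ => rfl
    have h1 : ∀ (y : (P : Subgroup G)), ∀ q ∈ Finset.univ.erase ((1 : G) : G ⧸ N),
        y • q ∈ Finset.univ.erase ((1 : G) : G ⧸ N) := by
      intro y q hq
      refine Finset.mem_erase.2 ⟨fun h => ?_, Finset.mem_univ _⟩
      refine (Finset.mem_erase.1 hq).1 ?_
      have h1 : y⁻¹ • (y • q) = y⁻¹ • ((1 : G) : G ⧸ N) := by rw [h]
      rw [inv_smul_smul] at h1
      rw [h1, hsm, mul_one,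
        QuotientGroup.eq, mul_one, Subgroup.coe_inv, inv_inv]
      exact Subgroup.le_normalizer y.2
    have h2 : ∀ (y : (P : Subgroup G)), ∀ q ∈ Finset.univ.erase ((1 : G) : G ⧸ N),
        y • q = q → y = 1 := by
      intro y q hq hyq
      induction q using QuotientGroup.induction_on with | _ g => ?_
      by_contra hy1
      refine (Finset.mem_erase.1 hq).1 ?_
      rw [hsm, QuotientGroup.eq] at hyq
      have h2 : g⁻¹ * (y : G) * g ∈ N := by
        have := inv_mem hyq
        simpa [mul_assoc] using this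
      have h3 := mem_normalizer_of_conj_mem hP y.2 (fun h => hy1 (Subtype.ext h)) h2
      rw [QuotientGroup.eq, mul_one]
      exact h3
    have h3 : ∀ (y : (P : Subgroup G)), ∀ q ∈ Finset.univ.erase ((1 : G) : G ⧸ N),
        F (y • q) b = (c.comp (P : Subgroup G).subtype) y (F q b) := by
      intro y q _
      induction q using QuotientGroup.induction_on with | _ g => ?_
      rw [hsm, hF, hF]
      simp only [MonoidHom.comp_apply, Subgroup.coe_subtype, map_mul, mul_inv_rev,
        Module.End.mul_apply]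
      rw [hb _ (inv_mem y.2)]
    obtain ⟨w, hw⟩ := exists_sum_eq_trace_of_free
      (σ := c.comp (P : Subgroup G).subtype) (fun q : G ⧸ N => F q b)
      (Finset.univ.erase ((1 : G) : G ⧸ N)) h1 h2 h3
    rw [hw]; exact hpow w
  obtain ⟨m, hm1, hm⟩ : ∃ m : ℕ, 1 ≤ m ∧
      IsCompl (LinearMap.ker (T ^ m)) (LinearMap.range (T ^ m)) := by
    obtain ⟨m0, hm0⟩ := Filter.eventually_atTop.1 T.eventually_isCompl_ker_pow_range_pow
    exact ⟨max 1 m0, le_max_left _ _, hm0 _ (le_max_right _ _)⟩
  have hπu : ∀ x ∈ (P : Subgroup G), ∀ b, c x (π b) = π (c x b) := fun x hx b => by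
    rw [← Module.End.mul_apply, D.adProj_comm ρ (Subgroup.le_normalizer hx),
      Module.End.mul_apply]
  have hTm : ∀ b : Matrix (Fin n) (Fin n) k, (∀ x ∈ (P : Subgroup G), c x b = b) →
      (T ^ m) b = π b := by
    intro b hb
    obtain ⟨l, rfl⟩ : ∃ l, m = l + 1 := ⟨m - 1, by omega⟩
    clear hm hm1
    induction l with
    | zero => simpa using hTfix b hb
    | succ l ih =>
      rw [pow_succ', Module.End.mul_apply, ih,
        hTfix _ fun x hx => by rw [hπu x hx, hb x hx], D.adProj_idem ρ]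
  have hTc : ∀ (x : G), Commute (c x) (T ^ m) := fun x => (Commute.pow_right (hT x) m)
  have hkerinv : ∀ (x : G), ∀ b ∈ LinearMap.ker (T ^ m), c x b ∈ LinearMap.ker (T ^ m) := by
    intro x b hb
    rw [LinearMap.mem_ker] at hb ⊢
    rw [← Module.End.mul_apply, ← (hTc x).eq, Module.End.mul_apply, hb, map_zero]
  have hraninv : ∀ (x : G), ∀ b ∈ LinearMap.range (T ^ m), c x b ∈ LinearMap.range (T ^ m) := by
    rintro x b ⟨z, rfl⟩
    exact ⟨c x z, by rw [← Module.End.mul_apply, ← (hTc x).eq, Module.End.mul_apply]⟩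
  have hπinv : ∀ W : Submodule k (Matrix (Fin n) (Fin n) k),
      (∀ (x : G), ∀ b ∈ W, c x b ∈ W) → ∀ b ∈ W, π b ∈ W := fun W hW b hb => by
    show ((Nat.card D.K : k)⁻¹ • ∑ x : D.K, c (x : G)) b ∈ W
    rw [LinearMap.smul_apply, LinearMap.sum_apply]
    exact W.smul_mem _ (W.sum_mem fun x _ => hW _ _ hb)
  have hpP : IsPGroup p (P : Subgroup G) := P.2
  have hfixed : ∀ W : Submodule k (Matrix (Fin n) (Fin n) k),
      (∀ x ∈ (P : Subgroup G), ∀ b ∈ W, c x b ∈ W) →
      (∀ b ∈ W, (∀ x ∈ (P : Subgroup G), c x b = b) → b = 0) → W = ⊥ := by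
    intro W hW hz
    by_contra hne
    obtain ⟨w, hw, hw0, hwf⟩ := exists_fixed_vector hpP (c.comp (P : Subgroup G).subtype) W
      (fun x w hw => hW x x.2 w hw) hne
    exact hw0 (hz w hw fun x hx => hwf ⟨x, hx⟩)
  have hker : ∀ b ∈ LinearMap.ker (T ^ m), π b = 0 := by
    have h := hfixed ((LinearMap.ker (T ^ m)).map π)
      (by
        rintro x hx _ ⟨z, hz, rfl⟩
        exact ⟨c x z, hkerinv x z hz, (hπu x hx z).symm⟩)
      (by
        rintro _ ⟨z, hz, rfl⟩ hf
        have h2 : (T ^ m) (π z) = 0 := hπinv _ hkerinv z hz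
        rw [hTm _ hf, D.adProj_idem ρ] at h2
        exact h2)
    intro b hb
    exact (Submodule.mem_bot k).1 (h ▸ Submodule.mem_map_of_mem hb)
  have hran : ∀ b ∈ LinearMap.range (T ^ m), π b = b := by
    have h := hfixed ((LinearMap.range (T ^ m)).map (1 - π))
      (by
        rintro x hx _ ⟨z, hz, rfl⟩
        exact ⟨c x z, hraninv x z hz, by simp [hπu x hx z]⟩)
      (by
        rintro _ ⟨z, hz, rfl⟩ hf
        have hmem : (1 - π) z ∈ LinearMap.range (T ^ m) := by
          simpa using Submodule.sub_mem _ hz (hπinv _ hraninv z hz)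
        have hk : (1 - π) z ∈ LinearMap.ker (T ^ m) := by
          rw [LinearMap.mem_ker, hTm _ hf]
          simp only [LinearMap.sub_apply, Module.End.one_apply, map_sub]
          rw [sub_eq_zero]
          exact (D.adProj_idem ρ z).symm
        exact (Submodule.mem_bot k).1 (hm.disjoint.le_bot (Submodule.mem_inf.2 ⟨hk, hmem⟩)))
    intro b hb
    have := (Submodule.mem_bot k).1 (h ▸ Submodule.mem_map_of_mem (f := 1 - π) hb)
    simp only [LinearMap.sub_apply, Module.End.one_apply, sub_eq_zero] at this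
    exact this.symm
  have hain : a ∈ LinearMap.range (T ^ m) := by
    obtain ⟨x, y, hy⟩ : ∃ x : LinearMap.ker (T ^ m), ∃ y : LinearMap.range (T ^ m),
        (x : Matrix (Fin n) (Fin n) k) + y = a := by
      have h1 : a ∈ LinearMap.ker (T ^ m) ⊔ LinearMap.range (T ^ m) := by
        rw [hm.sup_eq_top]; exact Submodule.mem_top
      obtain ⟨x, hx, y, hy, h2⟩ := Submodule.mem_sup.1 h1
      exact ⟨⟨x, hx⟩, ⟨y, hy⟩, h2⟩
    have h2 := ha
    rw [← hy, map_add, hker _ x.2, hran _ y.2, zero_add] at h2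
    rw [← hy, ← h2]
    exact y.2
  exact hran _ (hraninv g a hain)

/-- An element of order `p` commuting with all matrices that commute with a `p'`-group acts
trivially. -/
theorem CycData.rho_eq_one_of_bicomm (D : CycData P e) (ρ : G →* Matrix (Fin n) (Fin n) k)
    (h : ∀ a, D.adProj ρ a = a → ρ D.u * a = a * ρ D.u) : ρ D.u = 1 := by
  set U : Module.End k (Fin n → k) := Matrix.toLin' (ρ D.u)
  set W := LinearMap.ker (U - 1)
  obtain ⟨W', hW'⟩ := W.exists_isCompl
  set e0 : Module.End k (Fin n → k) := W.subtype.comp (Submodule.linearProjOfIsCompl W W' hW')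
  set a : Matrix (Fin n) (Fin n) k := D.adProj ρ (LinearMap.toMatrix' e0)
  have hcK : ∀ (x : D.K) (v : Fin n → k), v ∈ W → (ρ (x : G)).mulVec v ∈ W := by
    intro x v hv
    rw [LinearMap.mem_ker, LinearMap.sub_apply, sub_eq_zero, Module.End.one_apply] at hv ⊢
    simp only [U, Matrix.toLin'_apply] at hv ⊢
    have hc : D.u * (x : G) = (x : G) * D.u :=
      Subgroup.mem_centralizer_iff.1 (D.hKC x.2) D.u
        (D.hu ▸ Subgroup.mem_zpowers D.u)
    rw [Matrix.mulVec_mulVec, ← map_mul, hc, map_mul, ← Matrix.mulVec_mulVec, hv]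
  have happ : ∀ v, a.mulVec v = (Nat.card D.K : k)⁻¹ •
      ∑ x : D.K, (ρ (x : G)).mulVec (e0 ((ρ (x : G)⁻¹).mulVec v)) := by
    intro v
    simp only [a, CycData.adProj, LinearMap.smul_apply, LinearMap.sum_apply, adRep_apply,
      Matrix.smul_mulVec, Matrix.sum_mulVec, ← Matrix.mulVec_mulVec,
      LinearMap.toMatrix'_mulVec]
  have hmem : ∀ v, a.mulVec v ∈ W := fun v => by
    rw [happ]
    exact W.smul_mem _ (W.sum_mem fun x _ => hcK x _ (Submodule.coe_mem _))
  have hid : ∀ v ∈ W, a.mulVec v = v := fun v hv => by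
    rw [happ, Finset.sum_congr rfl fun (x : D.K) _ => ?_, Finset.sum_const, Finset.card_univ,
      ← Nat.card_eq_fintype_card, ← Nat.cast_smul_eq_nsmul k, inv_smul_smul₀ D.card_K_cast_ne]
    have h1 : (ρ (x : G)⁻¹).mulVec v ∈ W := hcK x⁻¹ v hv
    have h2 : e0 ((ρ (x : G)⁻¹).mulVec v) = (ρ (x : G)⁻¹).mulVec v :=
      congrArg Subtype.val (Submodule.linearProjOfIsCompl_apply_left hW' ⟨_, h1⟩)
    rw [h2, Matrix.mulVec_mulVec, ← map_mul, mul_inv_cancel, map_one, Matrix.one_mulVec]
  have hcomm := h a (D.adProj_idem ρ _)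
  have hker : LinearMap.ker (Matrix.toLin' a) = ⊥ := by
    by_contra hne
    have hinv : ∀ (x : (P : Subgroup G)), ∀ w ∈ LinearMap.ker (Matrix.toLin' a),
        ((Matrix.toLinAlgEquiv' (R := k) (n := Fin n)).toRingEquiv.toMonoidHom.comp
          (ρ.comp (P : Subgroup G).subtype)) x w ∈ LinearMap.ker (Matrix.toLin' a) := by
      intro x w hw
      have hx : (x : G) ∈ Subgroup.zpowers D.u := D.hu ▸ x.2
      rw [← mem_powers_iff_mem_zpowers, Submonoid.mem_powers_iff] at hx
      obtain ⟨i, hi⟩ := hx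
      rw [LinearMap.mem_ker, Matrix.toLin'_apply] at hw ⊢
      show a.mulVec ((ρ (x : G)).mulVec w) = 0
      rw [Matrix.mulVec_mulVec, ← hi, map_pow, ((Commute.pow_left hcomm i).eq).symm,
        ← Matrix.mulVec_mulVec, hw, Matrix.mulVec_zero]
    obtain ⟨w, hw, hw0, hwf⟩ := exists_fixed_vector (p := p) P.2
      ((Matrix.toLinAlgEquiv' (R := k) (n := Fin n)).toRingEquiv.toMonoidHom.comp
        (ρ.comp (P : Subgroup G).subtype)) (LinearMap.ker (Matrix.toLin' a)) hinv hne
    refine hw0 ?_
    have hwW : w ∈ W := by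
      rw [LinearMap.mem_ker, LinearMap.sub_apply, sub_eq_zero, Module.End.one_apply]
      exact hwf ⟨D.u, D.hu ▸ Subgroup.mem_zpowers D.u⟩
    rw [LinearMap.mem_ker, Matrix.toLin'_apply, hid w hwW] at hw
    exact hw
  refine Matrix.toLin'.injective (LinearMap.ext fun v => ?_)
  obtain ⟨z, hz⟩ := (LinearMap.injective_iff_surjective.1 (LinearMap.ker_eq_bot.1 hker)) v
  have hv : v ∈ W := by
    rw [← hz, Matrix.toLin'_apply]
    exact hmem z
  rw [LinearMap.mem_ker, LinearMap.sub_apply, sub_eq_zero] at hv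
  rw [Matrix.toLin'_one]
  exact hv

/-- **Small modular degree forces a central centralizer**: the `p'`-part of the centralizer of
a Sylow subgroup of order `p` is central, when a faithful representation in characteristic
`p` has degree at most `p / 2`. -/
theorem CycData.K_le_center (D : CycData P e) (hP : Nat.card P = p)
    (ρ : G →* Matrix (Fin n) (Fin n) k) (hρ : Function.Injective ρ) (hn : 2 * n ≤ p)
    (hcore : ∀ H : Subgroup G, H.Normal → ¬ p ∣ Nat.card H → H ≤ Subgroup.center G) :
    D.K ≤ Subgroup.center G := by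
  let K0 : Subgroup G :=
    { carrier := {g | ∀ a, D.adProj ρ a = a → ρ g * a = a * ρ g}
      one_mem' := fun a _ => by simp
      mul_mem' := fun {x y} hx hy a ha => by
        rw [map_mul, mul_assoc, hy a ha, ← mul_assoc, hx a ha, mul_assoc]
      inv_mem' := fun {x} hx a ha => by
        rw [← adRep_eq_self_iff]
        have h1 := (adRep_eq_self_iff ρ x a).2 (hx a ha)
        conv_lhs => rw [← h1]
        rw [← Module.End.mul_apply, ← map_mul, inv_mul_cancel, map_one, Module.End.one_apply] }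
  have hN : K0.Normal := ⟨fun g hg y a ha => by
    have hb := D.adRep_preserves hP ρ hn y⁻¹ a ha
    have hfix := (adRep_eq_self_iff ρ g _).2 (hg _ hb)
    rw [← adRep_eq_self_iff, map_mul, map_mul, Module.End.mul_apply, Module.End.mul_apply, hfix,
      ← Module.End.mul_apply, ← map_mul, mul_inv_cancel, map_one, Module.End.one_apply]⟩
  have hu1 : D.u ≠ 1 := fun h => by
    have h2 := D.hup
    rw [h, orderOf_one] at h2
    exact hpf.out.one_lt.ne h2
  have hu : D.u ∉ K0 := fun hu => hu1 (hρ (by rw [map_one]; exact D.rho_eq_one_of_bicomm ρ hu))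
  have hp0 : ¬ p ∣ Nat.card K0 := by
    intro hd
    obtain ⟨x, hx⟩ := exists_prime_orderOf_dvd_card' p hd
    rw [← Subgroup.orderOf_coe] at hx
    obtain ⟨Q, hQ⟩ := (IsPGroup.of_card (p := p) (G := Subgroup.zpowers (x : G)) (n := 1)
      (by rw [Nat.card_zpowers, hx, pow_one])).exists_le_sylow
    obtain ⟨g, hg⟩ := MulAction.exists_smul_eq G Q P
    have hQc : Nat.card Q = p := by rw [Sylow.card_eq_multiplicity, ← Sylow.card_eq_multiplicity P, hP]
    have hQeq : (Q : Subgroup G) = Subgroup.zpowers (x : G) :=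
      (Subgroup.eq_of_le_of_card_ge hQ (by rw [Nat.card_zpowers, hx]; exact hQc.le)).symm
    have hQK : (Q : Subgroup G) ≤ K0 := hQeq ▸ (Subgroup.zpowers_le).2 x.2
    refine hu ?_
    have huP : D.u ∈ ((g • Q : Sylow p G) : Subgroup G) := by
      rw [hg, D.hu]; exact Subgroup.mem_zpowers _
    rw [Sylow.coe_subgroup_smul, Subgroup.mem_pointwise_smul_iff_inv_smul_mem] at huP
    have h2 := hN.conj_mem _ (hQK huP) g
    simpa [MulAut.smul_def, mul_assoc] using h2
  refine le_trans ?_ (hcore K0 hN hp0)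
  intro x hx a ha
  rw [← adRep_eq_self_iff]
  conv_lhs => rw [← ha]
  rw [← Module.End.mul_apply, D.adRep_mul_adProj ρ hx, ha]

end Central

end CfsgLib.Block
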