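import Cfsg.Agent.Lib.CharLeonard
import Cfsg.Agent.Lib.CharClifford
import Cfsg.Agent.Lib.CoreCoprime
import Mathlib.GroupTheory.PGroup
import Mathlib.Dynamics.PeriodicPts.Lemmas

/-!
# Elements of prime order modulo the centre in small degree
-/

set_option autoImplicit false
set_option linter.unusedSectionVars false
set_option linter.style.haveILetI false

namespace CfsgLib.SmallDegree

open Cfsg CfsgLib.Char
open scoped ComplexConjugate

universe u

/-- The quasi-kernel of an irreducible character of a group with central commutators. -/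
theorem center_of_char {Q : Type u} [Group Q] [Fintype Q]
    (hcl2 : ∀ a b z : Q, a * b * a⁻¹ * b⁻¹ * z = z * (a * b * a⁻¹ * b⁻¹))
    {θ : Q → ℂ} (hθ : IsIrrCharacter Q θ) {d : ℕ} (hd : θ 1 = d) :
    ∃ Z : Subgroup Q, Z.Normal ∧ Subgroup.center Q ≤ Z ∧ Z.index = d * d ∧
      ∀ g : Q, g ∈ Z ↔ ∀ y : Q, θ (y * g * y⁻¹ * g⁻¹) = θ 1 := by
  classical
  set K0 := charKer hθ.isCharacter' with hK0
  have hK0n : K0.Normal := charKer_normal hθ.isCharacter'
  let Z : Subgroup Q := (Subgroup.center (Q ⧸ K0)).comap (QuotientGroup.mk' K0)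
  have hmem : ∀ g : Q, g ∈ Z ↔ ∀ y : Q, θ (y * g * y⁻¹ * g⁻¹) = θ 1 := by
    intro g
    have e1 : ∀ y : Q, QuotientGroup.mk' K0 (y * g) = QuotientGroup.mk' K0 (g * y) ↔
        θ (y * g * y⁻¹ * g⁻¹) = θ 1 := by
      intro y
      rw [eq_comm, QuotientGroup.mk'_apply, QuotientGroup.mk'_apply, QuotientGroup.eq]
      show (g * y)⁻¹ * (y * g) ∈ K0 ↔ _
      constructor
      · intro h
        have := hK0n.conj_mem _ h (g * y)
        rw [show g * y * ((g * y)⁻¹ * (y * g)) * (g * y)⁻¹ = y * g * y⁻¹ * g⁻¹ by group] at this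
        exact this
      · intro h
        have := hK0n.conj_mem _ (show y * g * y⁻¹ * g⁻¹ ∈ K0 from h) (g * y)⁻¹
        rw [show (g * y)⁻¹ * (y * g * y⁻¹ * g⁻¹) * ((g * y)⁻¹)⁻¹ = (g * y)⁻¹ * (y * g) by group] at this
        exact this
    rw [Subgroup.mem_comap, Subgroup.mem_center_iff]
    refine ⟨fun h y => (e1 y).mp (by rw [map_mul, map_mul]; exact h _), fun h q => ?_⟩
    obtain ⟨y, rfl⟩ := QuotientGroup.mk'_surjective K0 q
    rw [← map_mul, ← map_mul]
    exact (e1 y).mpr (h y)
  refine ⟨Z, inferInstance, fun g hg => (hmem g).mpr fun y => by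
    rw [Subgroup.mem_center_iff.mp hg y]; simp, ?_, hmem⟩
  have hval : ∀ g : Q, Complex.normSq (θ g) = if g ∈ Z then (d : ℝ) * d else 0 := by
    intro g
    split_ifs with hg
    · obtain ⟨m, ρ, hρ, rfl⟩ := hθ
      haveI := hρ
      obtain ⟨ω, hω⟩ := schur_scalar ρ (ρ g) fun y => by
        have h1 : ρ (y * g * y⁻¹ * g⁻¹) = 1 := (char_eq_one_iff ρ _).mp ((hmem g).mp hg y)
        have h2 : ρ (y * g) = ρ (g * y) := by
          rw [show y * g = y * g * y⁻¹ * g⁻¹ * (g * y) by group, map_mul, h1, one_mul]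
        rw [← map_mul, ← map_mul, h2]
      have hval : ρ.character g = ω * ρ.character 1 := by
        show LinearMap.trace ℂ _ (ρ g) = ω * LinearMap.trace ℂ _ (ρ 1)
        rw [hω, map_one, map_smul, smul_eq_mul]
      have hpow : ω ^ orderOf g = 1 := by
        have h1 := congrArg (LinearMap.trace ℂ _) (show ρ (g ^ orderOf g) = ω ^ orderOf g • 1 by
          rw [map_pow, hω, smul_pow, one_pow])
        rw [pow_orderOf_eq_one, map_one, map_smul, LinearMap.trace_one, smul_eq_mul] at h1
        exact (mul_eq_right₀ (Nat.cast_ne_zero.mpr (finrank_pos_of_irreducible ρ).ne')).mp h1.symm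
      rw [hval, hd, Complex.normSq_mul, Complex.normSq_eq_norm_sq ω,
        Complex.norm_eq_one_of_pow_eq_one hpow (orderOf_pos g).ne', Complex.normSq_natCast]
      ring
    · rw [hmem] at hg
      push Not at hg
      obtain ⟨y, hy⟩ := hg
      obtain ⟨ω, hω, hωg⟩ := Leonard.center_scalar hθ
        (Subgroup.mem_center_iff.mpr fun z => (hcl2 y g z).symm : y * g * y⁻¹ * g⁻¹ ∈ Subgroup.center Q)
      have h1 : θ g = ω * θ g := by
        rw [← hωg]
        conv_lhs => rw [← isCharacter_classFunction hθ.isCharacter' g y]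
        congr 1
        calc y * g * y⁻¹ = (y * g * y⁻¹ * g⁻¹) * g := by group
          _ = g * (y * g * y⁻¹ * g⁻¹) := hcl2 y g g
      have h2 : ω ≠ 1 := fun e => hy (by
        have := hωg 1
        rwa [one_mul, e, one_mul] at this)
      have h3 : θ g = 0 := by
        by_contra h0
        exact h2 (mul_right_cancel₀ h0 (by rw [one_mul, ← h1]))
      rw [h3, map_zero]
  have hsum := Leonard.sum_sq_real θ
  rw [irr_inner_self hθ, Complex.one_re, mul_one, Finset.sum_congr rfl fun g _ => hval g,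
    ← Finset.sum_filter, Finset.sum_const, nsmul_eq_mul, ← Fintype.card_subtype,
    ← Nat.card_eq_fintype_card, ← Subgroup.card_mul_index Z, Nat.cast_mul] at hsum
  have h0 : (Nat.card Z : ℝ) ≠ 0 := by exact_mod_cast Nat.card_pos.ne'
  exact_mod_cast (mul_left_cancel₀ h0 hsum).symm

/-- The `q`-group case. -/
theorem centralizes_qgroup {G : Type u} [Group G] [Finite G] {n p q : ℕ} [Fact p.Prime] [Fact q.Prime]
    (ρ : Representation ℂ G (Fin n → ℂ)) (hρ : Function.Injective ρ) (hn : n + 1 < p) (x : G)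
    (hxA : IsPGroup p (Subgroup.zpowers x)) (hxp : x ^ p ∈ Subgroup.center G) :
    ∀ (m : ℕ) (Q : Subgroup G), Nat.card Q ≤ m → IsPGroup q Q → q ≠ p →
      x ∈ Subgroup.normalizer (Q : Set G) → x ∈ Subgroup.centralizer (Q : Set G) := by
  classical
  intro m
  induction m with
  | zero => intro Q h; exact absurd h (Nat.not_le.mpr Nat.card_pos)
  | succ m ih =>
  intro Q hQm hQ hqp hxQ
  by_contra hne
  have hQne : Q ≠ ⊥ := fun e => hne (by rw [e]; simp [Subgroup.mem_centralizer_iff])
  set A := Subgroup.zpowers x with hA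
  set C := Q ⊓ Subgroup.centralizer (A : Set G) with hC
  have hAQ : A ≤ Subgroup.normalizer (Q : Set G) := (Subgroup.zpowers_le).mpr hxQ
  have hIH : ∀ R : Subgroup G, R ≤ Q → R ≠ Q → A ≤ Subgroup.normalizer (R : Set G) →
      A ≤ Subgroup.centralizer (R : Set G) := by
    intro R hR hRQ hRA
    have hlt : Nat.card R < Nat.card Q :=
      lt_of_le_of_ne (Subgroup.card_le_of_le hR) fun e => hRQ (Subgroup.eq_of_le_of_card_ge hR e.ge)
    exact Subgroup.zpowers_le.mpr (ih R (by omega) (hQ.to_le hR) hqp (Subgroup.zpowers_le.mp hRA))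
  have hcop : (Nat.card A).Coprime (Nat.card Q) := by
    obtain ⟨a, ha⟩ := IsPGroup.iff_card.mp hxA
    obtain ⟨b, hb⟩ := IsPGroup.iff_card.mp hQ
    rw [ha, hb]
    exact Nat.Coprime.pow a b ((Nat.coprime_primes Fact.out Fact.out).mpr hqp.symm)
  haveI : IsMulCommutative A := inferInstance
  have hs : Group.IsSolvable A ∨ Group.IsSolvable Q := by
    left
    infer_instance
  have hTQ : ⁅Q, A⁆ = Q := by
    have hle := CfsgLib.Core.commutator_le_of_le_normalizer hAQ
    by_contra hT
    have h1 := hIH _ hle hT (CfsgLib.Core.le_normalizer_commutator_right Q A)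
    refine hne (Subgroup.zpowers_le.mp (CfsgLib.Core.le_centralizer_of_stabilizes hAQ hcop hs ?_))
    rw [Subgroup.commutator_eq_bot_iff_le_centralizer]
    rwa [← Subgroup.le_centralizer_iff]
  have hDQ : ⁅Q, Q⁆ ≠ Q := by
    haveI := hQ.isNilpotent
    haveI : Group.IsSolvable Q := inferInstance
    haveI := (Subgroup.nontrivial_iff_ne_bot Q).mpr hQne
    intro e
    refine (ne_of_lt (Group.IsSolvable.commutator_lt_top_of_nontrivial (G := Q))) ?_
    refine Subgroup.map_injective Q.subtype_injective ?_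
    rw [Subgroup.map_subtype_commutator, e, ← MonoidHom.range_eq_map, Subgroup.range_subtype]
  have hDle : ⁅Q, Q⁆ ≤ Q := Subgroup.commutator_le.mpr fun a ha b hb =>
    mul_mem (mul_mem (mul_mem ha hb) (inv_mem ha)) (inv_mem hb)
  have hDA : A ≤ Subgroup.normalizer ((⁅Q, Q⁆ : Subgroup G) : Set G) := by
    intro a ha
    rw [← CfsgLib.Core.conj_smul_eq_self_iff]
    show Subgroup.map (MulAut.conj a).toMonoidHom ⁅Q, Q⁆ = ⁅Q, Q⁆
    rw [Subgroup.map_commutator]
    have : Subgroup.map (MulAut.conj a).toMonoidHom Q = Q :=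
      CfsgLib.Core.conj_smul_of_mem_normalizer (hAQ ha)
    rw [this]
  have hDC : ⁅Q, Q⁆ ≤ C := le_inf hDle (Subgroup.le_centralizer_iff.mp (hIH _ hDle hDQ hDA))
  -- `C` is central in `Q`
  have hCQ : ⁅Q, C⁆ = ⊥ := by
    have hrot : ⁅⁅Q, A⁆, C⁆ = ⊥ := by
      refine Subgroup.commutator_commutator_eq_bot_of_rotate ?_ ?_
      · rw [Subgroup.commutator_eq_bot_iff_le_centralizer.mpr (Subgroup.le_centralizer_iff.mp inf_le_right)]
        exact Subgroup.commutator_bot_left _
      · rw [Subgroup.commutator_eq_bot_iff_le_centralizer]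
        refine le_trans ?_ (inf_le_right (a := Q))
        exact (Subgroup.commutator_mono inf_le_left le_rfl).trans hDC
    rwa [hTQ] at hrot
  have hCcen : ∀ c ∈ C, ∀ y ∈ Q, c * y = y * c := fun c hc y hy =>
    (Subgroup.mem_centralizer_iff.mp (Subgroup.commutator_eq_bot_iff_le_centralizer.mp hCQ hy) c hc)
  haveI : Fintype Q := Fintype.ofFinite Q
  haveI : Fintype G := Fintype.ofFinite G
  have hcl2 : ∀ a b z : Q, a * b * a⁻¹ * b⁻¹ * z = z * (a * b * a⁻¹ * b⁻¹) := fun a b z =>
    Subtype.ext (hCcen _ (hDC (Subgroup.commutator_mem_commutator a.2 b.2)) z z.2)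
  have hcenQ : ∀ c : Q, (c : G) ∈ C → c ∈ Subgroup.center Q := fun c hc =>
    Subgroup.mem_center_iff.mpr fun y => (Subtype.ext (hCcen _ hc y y.2)).symm
  -- the action of `x`
  let σ : Q ≃* Q :=
    { toFun := fun h => ⟨x * h * x⁻¹, (Subgroup.mem_set_normalizer_iff.mp hxQ h).mp h.2⟩
      invFun := fun h => ⟨x⁻¹ * h * x, (Subgroup.mem_set_normalizer_iff.mp hxQ _).mpr (by
        rw [show x * (x⁻¹ * (h : G) * x) * x⁻¹ = h by group]
        exact h.2)⟩
      left_inv := fun h => Subtype.ext (by show x⁻¹ * (x * h * x⁻¹) * x = h; group)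
      right_inv := fun h => Subtype.ext (by show x * (x⁻¹ * h * x) * x⁻¹ = h; group)
      map_mul' := fun h k => Subtype.ext (by
        show x * ((h : G) * k) * x⁻¹ = (x * h * x⁻¹) * (x * k * x⁻¹)
        group) }
  have hσpow : ∀ (k : ℕ) (h : Q), ((σ^[k] h : Q) : G) = x ^ k * h * (x ^ k)⁻¹ := by
    intro k
    induction k with
    | zero => intro h; simp
    | succ k ihk =>
      intro h
      rw [Function.iterate_succ_apply']
      show x * ((σ^[k] h : Q) : G) * x⁻¹ = _
      rw [ihk, pow_succ']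
      group
  have hσp : ∀ h : Q, σ^[p] h = h := fun h => Subtype.ext (by
    rw [hσpow, mul_inv_eq_iff_eq_mul]
    exact (Subgroup.mem_center_iff.mp hxp _).symm)
  set f : Q → ℂ := fun h => ρ.character h with hf
  have hfc : IsCharacter Q f := isCharacter_restrict (isCharacter_rep ρ) Q
  have hfσ : f ∘ σ = f := funext fun h => Representation.char_conj ρ (h : G) x
  choose mlt hmlt using fun θ : IrrCharacter Q => inner_character_nat hfc θ.2.isCharacter'
  choose dg hdg using fun θ : IrrCharacter Q => exists_degree_pos θ.2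
  let π : IrrCharacter Q → IrrCharacter Q := fun θ =>
    ⟨(θ : Q → ℂ) ∘ σ, isIrrCharacter_comp_equiv θ.2 σ⟩
  have hπm : ∀ θ, mlt (π θ) = mlt θ := fun θ => by
    have h1 := inner_comp_equiv σ f (θ : Q → ℂ)
    rw [hfσ] at h1
    rw [hmlt] at h1
    have h2 := hmlt (π θ)
    rw [show ((π θ : IrrCharacter Q) : Q → ℂ) = (θ : Q → ℂ) ∘ σ from rfl, h1] at h2
    exact_mod_cast h2.symm
  have hπk : ∀ (k : ℕ) θ, ((π^[k] θ : IrrCharacter Q) : Q → ℂ) = fun h => (θ : Q → ℂ) (σ^[k] h) := by
    intro k
    induction k with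
    | zero => intro θ; rfl
    | succ k ihk =>
      intro θ
      funext h
      rw [Function.iterate_succ_apply']
      show ((π^[k] θ : IrrCharacter Q) : Q → ℂ) (σ h) = _
      rw [ihk, Function.iterate_succ_apply]
  have hdeg : (n : ℂ) = ∑ θ : IrrCharacter Q, (mlt θ : ℂ) * dg θ := by
    have h1 := congrFun (classFunction_eq_sum f (isCharacter_classFunction hfc)) 1
    simp only [Finset.sum_apply, Pi.smul_apply, smul_eq_mul, hmlt, fun θ => (hdg θ).2] at h1
    rw [← h1]
    show (n : ℂ) = ρ.character ((1 : Q) : G)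
    rw [OneMemClass.coe_one, ρ.char_one, Module.finrank_fin_fun]
  have hdeg' : n = ∑ θ : IrrCharacter Q, mlt θ * dg θ := by exact_mod_cast hdeg
  have hinv : ∀ θ, mlt θ ≠ 0 → π θ = θ := by
    intro θ hθ
    by_contra hfix
    have hper : Function.IsPeriodicPt π p θ := Subtype.ext (by
      rw [hπk]
      funext h
      rw [hσp])
    have hmin : Function.minimalPeriod π θ = p := Function.minimalPeriod_eq_prime hper hfix
    have hinj : Set.InjOn (fun k => π^[k] θ) ↑(Finset.range p) := fun a ha b hb e => by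
      refine Function.iterate_injOn_Iio_minimalPeriod ?_ ?_ e
      · rw [Set.mem_Iio, hmin]; exact Finset.mem_range.mp ha
      · rw [Set.mem_Iio, hmin]; exact Finset.mem_range.mp hb
    have hm : ∀ k, mlt (π^[k] θ) = mlt θ := fun k => by
      induction k with
      | zero => rfl
      | succ k ihk => rw [Function.iterate_succ_apply', hπm, ihk]
    have h1 : p ≤ ∑ η : IrrCharacter Q, mlt η * dg η := by
      refine le_trans ?_ (Finset.sum_le_sum_of_subset
        (Finset.subset_univ ((Finset.range p).image fun k => π^[k] θ)))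
      rw [Finset.sum_image hinj]
      refine le_trans (le_of_eq (Finset.card_range p).symm) (Finset.card_eq_sum_ones _ ▸ ?_)
      refine Finset.sum_le_sum fun k _ => ?_
      rw [hm]
      exact Nat.one_le_iff_ne_zero.mpr (Nat.mul_ne_zero hθ (hdg _).1.ne')
    omega
  -- all constituents are linear
  have hlin : ∀ θ, mlt θ ≠ 0 → dg θ = 1 := by
    intro θ hθ
    by_contra hd1
    obtain ⟨Z, hZn, hZc, hZidx, hZmem⟩ := center_of_char hcl2 θ.2 (hdg θ).2
    have hfix := congrArg (fun η : IrrCharacter Q => (η : Q → ℂ)) (hinv θ hθ)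
    have hθσ : ∀ h, (θ : Q → ℂ) (σ h) = (θ : Q → ℂ) h := fun h => congrFun hfix h
    have hZσ : ∀ h ∈ Z, σ h ∈ Z := by
      intro h hh
      rw [hZmem]
      intro y
      obtain ⟨y, rfl⟩ := σ.surjective y
      rw [← map_mul, ← map_inv, ← map_mul, ← map_inv, ← map_mul, hθσ]
      exact (hZmem h).mp hh y
    haveI := hZn
    let τ : Q ⧸ Z → Q ⧸ Z := QuotientGroup.map Z Z σ.toMonoidHom (fun h hh => hZσ h hh)
    have hτk : ∀ (k : ℕ) (h : Q), τ^[k] (h : Q ⧸ Z) = ((σ^[k] h : Q) : Q ⧸ Z) := by
      intro k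
      induction k with
      | zero => intro h; rfl
      | succ k ihk =>
        intro h
        rw [Function.iterate_succ_apply', Function.iterate_succ_apply', ihk]
        rfl
    have hτp : τ^[p] = id := funext fun z => by
      induction z using QuotientGroup.induction_on with
      | H h => rw [hτk, hσp]; rfl
    let e : Equiv.Perm (Q ⧸ Z) :=
      ⟨τ, τ^[p - 1], fun z => by
          show τ^[p - 1] (τ z) = z
          rw [← Function.iterate_succ_apply, Nat.succ_eq_add_one,
            Nat.sub_add_cancel (Fact.out : p.Prime).one_le, hτp]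
          rfl,
        fun z => by
          show τ (τ^[p - 1] z) = z
          rw [← Function.iterate_succ_apply' τ (p - 1) z, Nat.succ_eq_add_one,
            Nat.sub_add_cancel (Fact.out : p.Prime).one_le, hτp]
          rfl⟩
    have hep : e ^ p = 1 := Equiv.ext fun z => by
      rw [Equiv.Perm.coe_pow]
      exact congrFun hτp z
    have hE : IsPGroup p (Subgroup.zpowers e) := by
      rintro ⟨g, i, rfl⟩
      refine ⟨1, Subtype.ext ?_⟩
      show (e ^ i) ^ p ^ 1 = 1
      rw [pow_one, ← zpow_natCast, ← zpow_mul, mul_comm, zpow_mul, zpow_natCast, hep, one_zpow]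
    have hmod := hE.card_modEq_card_fixedPoints (Q ⧸ Z)
    have hAQ' : A ⊓ Q = ⊥ := (Subgroup.disjoint_of_coprime_natCard hcop).eq_bot
    have hone : MulAction.fixedPoints (Subgroup.zpowers e) (Q ⧸ Z) = {((1 : Q) : Q ⧸ Z)} := by
      ext z
      rw [Set.mem_singleton_iff]
      constructor
      · intro hz
        have hz1 : τ z = z := hz ⟨e, Subgroup.mem_zpowers e⟩
        induction z using QuotientGroup.induction_on with
        | H h =>
        have hσh : h⁻¹ * σ h ∈ Z := QuotientGroup.eq.mp hz1.symm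
        set M := Z.map Q.subtype with hM
        have hMQ : M ≤ Q := Subgroup.map_subtype_le _
        have hQM : Q ≤ Subgroup.normalizer (M : Set G) := by
          refine (Subgroup.normal_subgroupOf_iff_le_normalizer hMQ).mp ?_
          rwa [hM, Subgroup.subgroupOf, Subgroup.comap_map_eq_self_of_injective Q.subtype_injective]
        have hxM : ∀ y ∈ M, x * y * x⁻¹ ∈ M := by
          rintro _ ⟨y, hy, rfl⟩
          exact ⟨σ y, hZσ y hy, rfl⟩
        have hAM : A ≤ Subgroup.normalizer (M : Set G) :=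
          Subgroup.zpowers_le.mpr (Subgroup.mem_normalizer_fintype hxM)
        have hfixM : ∀ a ∈ A, a * (h : G) * a⁻¹ * (h : G)⁻¹ ∈ M := by
          intro a ha
          obtain ⟨k, rfl⟩ := (mem_powers_iff_mem_zpowers.mpr ha)
          have h1 : ((σ^[k] h : Q) : Q ⧸ Z) = (h : Q ⧸ Z) := by
            rw [← hτk]
            exact Function.iterate_fixed hz1 k
          have h2 := hZn.conj_mem _ (QuotientGroup.eq.mp h1.symm) h
          refine ⟨h * (h⁻¹ * σ^[k] h) * h⁻¹, h2, ?_⟩
          simp [hσpow]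
        obtain ⟨c, hc, hcM⟩ := CfsgLib.Core.exists_fixed_of_fixed_mod hAQ hAQ' hMQ hQM hAM
          (hcop.coprime_dvd_right (Subgroup.card_dvd_of_le hMQ))
          (Or.inl inferInstance) h.2 hfixM
        obtain ⟨w, hw, hwc⟩ := hcM
        have hcZ : (⟨c, hc.1⟩ : Q) ∈ Z := hZc (hcenQ _ hc)
        have hh : h = ⟨c, hc.1⟩ * w⁻¹ := Subtype.ext (by
          show (h : G) = c * (w : G)⁻¹
          rw [show (w : G) = (h : G)⁻¹ * c from hwc]
          group)
        rw [QuotientGroup.eq, hh]
        simpa using mul_mem hw (inv_mem hcZ)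
      · rintro rfl ⟨g, i, rfl⟩
        show (e ^ i) ((1 : Q) : Q ⧸ Z) = _
        exact Equiv.Perm.zpow_apply_eq_self_of_apply_eq_self
          (show τ ((1 : Q) : Q ⧸ Z) = ((1 : Q) : Q ⧸ Z) from (QuotientGroup.map_mk _ _ _ _ _).trans
            (congrArg (QuotientGroup.mk : Q → Q ⧸ Z) (map_one σ))) i
    rw [hone, Nat.card_coe_set_eq, Set.ncard_singleton, ← Subgroup.index_eq_card, hZidx] at hmod
    have hd0 := (hdg θ).1
    have hdn : dg θ ≤ n := by
      rw [hdeg']
      exact le_trans (Nat.le_mul_of_pos_left _ (Nat.pos_of_ne_zero hθ))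
        (Finset.single_le_sum (f := fun η => mlt η * dg η) (fun _ _ => Nat.zero_le _) (Finset.mem_univ θ))
    have hdvd : p ∣ (dg θ - 1) * (dg θ + 1) := by
      have h1 : p ∣ dg θ * dg θ - 1 := (Nat.modEq_iff_dvd' (Nat.one_le_iff_ne_zero.mpr
        (Nat.mul_ne_zero hd0.ne' hd0.ne'))).mp hmod.symm
      obtain ⟨e, he⟩ := Nat.exists_eq_add_of_le (show 1 ≤ dg θ from hd0)
      rw [he, Nat.add_sub_cancel_left]
      rw [he, show (1 + e) * (1 + e) = 1 + e * (1 + e + 1) by ring, Nat.add_sub_cancel_left] at h1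
      exact h1
    rcases (Nat.Prime.dvd_mul Fact.out).mp hdvd with h | h <;>
      have := Nat.le_of_dvd (by omega) h <;> omega
  -- hence `x` fixes every element
  refine hne (Subgroup.mem_centralizer_iff.mpr fun y hy => ?_)
  set h : Q := ⟨y, hy⟩
  have hkey : ρ ((h⁻¹ * σ h : Q) : G) = 1 := by
    refine (char_eq_one_iff ρ _).mp ?_
    show f (h⁻¹ * σ h) = ρ.character 1
    have h1 : f (h⁻¹ * σ h) = f 1 := by
      rw [congrFun (classFunction_eq_sum f (isCharacter_classFunction hfc)) (h⁻¹ * σ h),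
        congrFun (classFunction_eq_sum f (isCharacter_classFunction hfc)) 1]
      simp only [Finset.sum_apply, Pi.smul_apply, smul_eq_mul]
      refine Finset.sum_congr rfl fun θ _ => ?_
      by_cases h0 : mlt θ = 0
      · rw [hmlt, h0, Nat.cast_zero, zero_mul, zero_mul]
      congr 1
      obtain ⟨φ, hφ⟩ := exists_hom_of_degree_one θ.2.isCharacter' (by
        rw [(hdg θ).2, hlin θ h0, Nat.cast_one])
      have hσθ : (θ : Q → ℂ) (σ h) = (θ : Q → ℂ) h :=
        congrFun (congrArg (fun η : IrrCharacter Q => (η : Q → ℂ)) (hinv θ h0)) h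
      simp only [hφ] at hσθ ⊢
      rw [map_mul, map_inv, Units.val_mul, hσθ, ← Units.val_mul, inv_mul_cancel, map_one]
    rw [h1]
    rfl
  have h2 := hρ (hkey.trans (map_one ρ).symm)
  have h3 : y⁻¹ * (x * y * x⁻¹) = 1 := h2
  rw [inv_mul_eq_one, eq_mul_inv_iff_mul_eq] at h3
  exact h3

/-- An element of prime order modulo the centre centralises the coprime subgroups it normalises,
in degree less than `p - 1`. -/
theorem centralizes_coprime {G : Type u} [Group G] [Finite G] {n p : ℕ} [Fact p.Prime]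
    (ρ : Representation ℂ G (Fin n → ℂ)) (hρ : Function.Injective ρ) (hn : n + 1 < p) (x : G)
    (hxA : IsPGroup p (Subgroup.zpowers x)) (hxp : x ^ p ∈ Subgroup.center G) (M : Subgroup G)
    (hM : ¬ p ∣ Nat.card M) (hxM : x ∈ Subgroup.normalizer (M : Set G)) :
    x ∈ Subgroup.centralizer (M : Set G) := by
  classical
  set A := Subgroup.zpowers x with hA
  haveI : IsMulCommutative A := inferInstance
  have hAM : A ≤ Subgroup.normalizer (M : Set G) := Subgroup.zpowers_le.mpr hxM
  have hcop : (Nat.card A).Coprime (Nat.card M) := by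
    obtain ⟨a, ha⟩ := IsPGroup.iff_card.mp hxA
    rw [ha]
    exact ((Nat.Prime.coprime_iff_not_dvd Fact.out).mpr hM).pow_left a
  set C := M ⊓ Subgroup.centralizer ({x} : Set G) with hC
  have hCM : C = M := by
    refine Subgroup.eq_of_le_of_card_ge inf_le_left (Nat.le_of_dvd Nat.card_pos ?_)
    refine (Nat.dvd_iff_prime_pow_dvd_dvd _ _).mpr fun q k hq hk => ?_
    haveI := Fact.mk hq
    rcases Nat.eq_zero_or_pos k with rfl | hk0
    · simp
    have hqp : q ≠ p := fun e => hM (e ▸ (dvd_pow_self q hk0.ne').trans hk)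
    obtain ⟨P, hP⟩ := CfsgLib.Core.exists_invariant_sylow q hAM hcop (Or.inl inferInstance)
    set Q := (P : Subgroup M).map M.subtype with hQ
    have hc := centralizes_qgroup (q := q) ρ hρ hn x hxA hxp _ Q le_rfl (P.2.map _) hqp
      (hP (Subgroup.mem_zpowers x))
    have hQC : Q ≤ C := le_inf (Subgroup.map_subtype_le _) fun y hy =>
      Subgroup.mem_centralizer_singleton_iff.mpr (Subgroup.mem_centralizer_iff.mp hc y hy)
    refine dvd_trans ?_ (Subgroup.card_dvd_of_le hQC)
    rw [hQ, CfsgLib.Core.card_sylow_map_subtype, P.card_eq_multiplicity]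
    exact (Nat.pow_dvd_pow_iff_le_right hq.one_lt).mpr
      ((hq.pow_dvd_iff_le_factorization Nat.card_pos.ne').mp hk)
  refine Subgroup.mem_centralizer_iff.mpr fun y hy => ?_
  rw [← hCM] at hy
  exact Subgroup.mem_centralizer_singleton_iff.mp hy.2

end CfsgLib.SmallDegree
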