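import Cfsg.Agent.Lib.BlockSmallDegree
import Cfsg.Agent.Lib.BlockPrincipalPrime2
import Cfsg.Agent.Lib.CharSmallDegreeCoprime
import Cfsg.Agent.Lib.CharGalois

/-!
Brauer's bound: a group whose order is divisible by the prime `p` exactly once and which has no
normal subgroup of order `p` has no faithful character of degree less than `(p - 1) / 2`.
-/

universe u

namespace CfsgLib.Block

open Cfsg CfsgLib.Char
open scoped ComplexConjugate Classical

section Numeric

/-- The finite table behind the degree bound for small primes. -/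
theorem smallDeg_table_bool : (List.range 50).all (fun p => p % 2 != 1 ||
    (List.range 25).all (fun f => decide (f < 2) || (p - 1) % f != 0 ||
      (List.range 25).all (fun m => !decide (2 * (m + f) + 1 < p) ||
        !decide (p * (m * m) < (m + f) * (m + f)) ||
        decide (((m + f) * (m + f) - 1) / (p + 1) + (m + f) * (m + f) / (p - 1) + 1 < f) ||
        (p == 13 && f == 3 && m == 1) || (p == 13 && f == 4 && m == 1)))) = true := by
  decide +kernel

/-- The table in propositional form. -/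
theorem smallDeg_table {p : ℕ} (hp : p < 50) (hp2 : p % 2 = 1) {f : ℕ} (hf : f < 25)
    (hf2 : 2 ≤ f) (hfp : f ∣ p - 1) {m : ℕ} (hm : m < 25) (h1 : 2 * (m + f) + 1 < p)
    (h2 : p * (m * m) < (m + f) * (m + f)) :
    ((m + f) * (m + f) - 1) / (p + 1) + (m + f) * (m + f) / (p - 1) + 1 < f ∨
      (p = 13 ∧ f = 3 ∧ m = 1) ∨ (p = 13 ∧ f = 4 ∧ m = 1) := by
  have h := smallDeg_table_bool
  simp only [List.all_eq_true, List.mem_range, Bool.or_eq_true, Bool.and_eq_true, bne_iff_ne,
    ne_eq, decide_eq_true_eq, Bool.not_eq_true', decide_eq_false_iff_not, beq_iff_eq] at h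
  have hmod : (p - 1) % f = 0 := Nat.mod_eq_zero_of_dvd hfp
  rcases h p hp with h | h
  · exact absurd hp2 h
  rcases h f hf with (h | h) | h
  · omega
  · exact absurd hmod h
  rcases h m hm with (((h | h) | h) | h) | h
  · exact absurd h1 h
  · exact absurd h2 h
  · exact Or.inl h
  · exact Or.inr (Or.inl ⟨h.1.1, h.1.2, h.2⟩)
  · exact Or.inr (Or.inr ⟨h.1.1, h.1.2, h.2⟩)

/-- The numerical contradiction. -/
theorem smallDeg_numeric {p f m a b : ℕ} (hp : p % 2 = 1) (hf : 2 ≤ f) (hfp : f ∣ p - 1)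
    (hn : 2 * (m + f) + 1 < p) (hm : p * (m * m) < (m + f) * (m + f))
    (hab : f ≤ a + b + 1)
    (ha : a * (p + 1) + 1 ≤ (m + f) * (m + f)) (ha' : a * (p + 1) + 2 ≠ (m + f) * (m + f))
    (hb : b * (p - 1) ≤ (m + f) * (m + f)) (hb' : b * (p - 1) + 1 ≠ (m + f) * (m + f)) :
    False := by
  rcases lt_or_ge p 50 with hp50 | hp50
  · have hA : a ≤ ((m + f) * (m + f) - 1) / (p + 1) :=
      (Nat.le_div_iff_mul_le (by omega)).2 (by omega)
    have hB : b ≤ (m + f) * (m + f) / (p - 1) := (Nat.le_div_iff_mul_le (by omega)).2 hb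
    rcases smallDeg_table hp50 hp (f := f) (by omega) hf hfp (m := m) (by omega) hn hm with
      h | ⟨rfl, rfl, rfl⟩ | ⟨rfl, rfl, rfl⟩
    · omega
    · omega
    · omega
  obtain ⟨t, ht⟩ := hfp
  have ht3 : 3 ≤ t := by
    by_contra h
    have : f * t ≤ f * 2 := Nat.mul_le_mul le_rfl (by omega)
    omega
  have hft : 3 * f ≤ p - 1 := by
    rw [ht, mul_comm 3 f]
    exact Nat.mul_le_mul le_rfl ht3
  have hkey : (f - 1) * (p - 1) + 1 ≤ 2 * ((m + f) * (m + f)) := by
    have h1 : (f - 1) * (p - 1) ≤ (a + b) * (p - 1) := Nat.mul_le_mul (by omega) le_rfl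
    have h2 : a * (p - 1) ≤ a * (p + 1) := Nat.mul_le_mul le_rfl (by omega)
    rw [add_mul] at h1
    omega
  have hm7 : 7 * m < m + f := by
    by_contra h
    have h1 : (m + f) * (m + f) ≤ (7 * m) * (7 * m) := Nat.mul_le_mul (by omega) (by omega)
    have h2 : 50 * (m * m) ≤ p * (m * m) := Nat.mul_le_mul hp50 le_rfl
    have h3 : (7 * m) * (7 * m) = 49 * (m * m) := by ring
    omega
  obtain ⟨g, rfl⟩ : ∃ g, f = g + 1 := ⟨f - 1, by omega⟩
  rw [Nat.add_sub_cancel] at hkey
  have h3 : g * (3 * (g + 1)) ≤ g * (p - 1) := Nat.mul_le_mul le_rfl hft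
  rcases Nat.eq_zero_or_pos m with rfl | hm0
  · simp only [zero_add] at hkey
    have hg : g ≤ 2 := by nlinarith
    have : g * 49 ≤ g * (p - 1) := Nat.mul_le_mul le_rfl (by omega)
    interval_cases g <;> omega
  · have h6 : 6 * (m + (g + 1)) ≤ 7 * (g + 1) := by omega
    have h36 : 36 * ((m + (g + 1)) * (m + (g + 1))) ≤ 49 * ((g + 1) * (g + 1)) := by
      have := Nat.mul_le_mul h6 h6
      linarith
    have hg : g ≤ 9 := by nlinarith
    have hm1 : m ≤ 1 := by omega
    have : g * 49 ≤ g * (p - 1) := Nat.mul_le_mul le_rfl (by omega)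
    interval_cases m
    interval_cases g <;> omega

end Numeric

section Degree

variable {G : Type u} [Group G] [Fintype G]

/-- A degree count: a character containing prescribed nonlinear constituents. -/
theorem degree_count {ψ : G → ℂ} (hψ : IsCharacter G ψ) {n2 : ℕ} (hn2 : ψ 1 = n2)
    {c0 : ℕ} (hc0 : classInner ψ (fun _ => 1) = c0) (A : Finset (IrrCharacter G)) {d : ℕ}
    (htriv : trivIrr G ∉ A)
    (hlin : ∀ χ : IrrCharacter G, charDegree (χ : G → ℂ) = 1 → χ = trivIrr G)
    (hA : ∀ χ ∈ A, classInner ψ (χ : G → ℂ) ≠ 0 ∧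
      (charDegree (χ : G → ℂ) = d ∨ d + 2 ≤ charDegree (χ : G → ℂ)))
    (hd : 2 ≤ d ∨ A = ∅) :
    c0 + A.card * d ≤ n2 ∧ c0 + A.card * d + 1 ≠ n2 := by
  have hnat : ∀ χ : IrrCharacter G, ∃ c : ℕ, classInner ψ (χ : G → ℂ) = c := fun χ =>
    inner_character_nat hψ χ.2.isCharacter'
  choose c hc using hnat
  have hsum : n2 = ∑ χ, c χ * charDegree (χ : G → ℂ) := by
    have h := congrFun (classFunction_eq_sum ψ (isCharacter_classFunction hψ)) 1
    rw [hn2] at h
    simp only [Finset.sum_apply, Pi.smul_apply, smul_eq_mul, hc,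
      ← charDegree_cast (IsIrrCharacter.isCharacter' (Subtype.prop _))] at h
    exact_mod_cast h
  have htc : c (trivIrr G) = c0 := by
    have h := hc (trivIrr G)
    rw [show ((trivIrr G : IrrCharacter G) : G → ℂ) = fun _ => (1 : ℂ) from rfl, hc0] at h
    exact_mod_cast h.symm
  rw [← Finset.sum_erase_add _ _ (Finset.mem_univ (trivIrr G)), htc, charDegree_triv,
    mul_one] at hsum
  set E : IrrCharacter G → ℕ := fun χ =>
    c χ * charDegree (χ : G → ℂ) - if χ ∈ A then d else 0
  have hE : ∀ χ ∈ Finset.univ.erase (trivIrr G),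
      c χ * charDegree (χ : G → ℂ) = E χ + (if χ ∈ A then d else 0) ∧ E χ ≠ 1 := by
    intro χ hχ
    have h2 : 2 ≤ charDegree (χ : G → ℂ) := by
      have h1 := charDegree_pos χ
      have h3 : charDegree (χ : G → ℂ) ≠ 1 :=
        fun h => (Finset.mem_erase.1 hχ).1 (hlin χ h)
      omega
    by_cases hA' : χ ∈ A
    · have hd2 : 2 ≤ d := hd.resolve_right fun h => by simp [h] at hA'
      obtain ⟨hne, hdeg⟩ := hA χ hA'
      have hc1 : c χ ≠ 0 := fun h => hne (by rw [hc, h, Nat.cast_zero])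
      simp only [E, if_pos hA']
      rcases Nat.lt_or_ge (c χ) 2 with h | h
      · rw [show c χ = 1 by omega, one_mul]
        omega
      · have h4 : 2 * charDegree (χ : G → ℂ) ≤ c χ * charDegree (χ : G → ℂ) :=
          Nat.mul_le_mul h le_rfl
        omega
    · simp only [E, if_neg hA', Nat.sub_zero, add_zero]
      refine ⟨trivial, fun h => ?_⟩
      have := Nat.eq_one_of_mul_eq_one_left h
      omega
  rw [Finset.sum_congr rfl fun χ hχ => (hE χ hχ).1, Finset.sum_add_distrib] at hsum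
  have hAs : ∑ χ ∈ Finset.univ.erase (trivIrr G), (if χ ∈ A then d else 0) = A.card * d := by
    rw [← Finset.sum_filter, Finset.sum_const, smul_eq_mul]
    congr 2
    ext χ
    simp only [Finset.mem_filter, Finset.mem_erase, Finset.mem_univ, and_true]
    exact ⟨fun h => h.2, fun h => ⟨fun h' => htriv (h' ▸ h), h⟩⟩
  rw [hAs] at hsum
  refine ⟨by omega, fun h => ?_⟩
  have hE1 : ∑ χ ∈ Finset.univ.erase (trivIrr G), E χ = 1 := by omega
  obtain ⟨χ, hχ, hχ0⟩ : ∃ χ ∈ Finset.univ.erase (trivIrr G), E χ ≠ 0 :=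
    Finset.exists_ne_zero_of_sum_ne_zero (by omega)
  have := Finset.single_le_sum (fun x _ => Nat.zero_le (E x)) hχ
  have := (hE χ hχ).2
  omega

end Degree

section Fourier

variable {p : ℕ} [hpf : Fact p.Prime]

theorem sum_char_mul {ψ : AddChar (ZMod p) ℂ} (hψ : ψ.IsPrimitive) (w : ZMod p → ℕ)
    (a : (ZMod p)ˣ) :
    ∑ b : ZMod p, (∑ c, (w c : ℂ) * ψ (c * b)) *
        conj (∑ c, (w c : ℂ) * ψ (c * ((a : ZMod p) * b))) =
      (p : ℂ) * ∑ d, (w ((a : ZMod p) * d) : ℂ) * (w d : ℂ) := by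
  have hexp : ∀ b : ZMod p, (∑ c, (w c : ℂ) * ψ (c * b)) *
      conj (∑ c, (w c : ℂ) * ψ (c * ((a : ZMod p) * b))) =
      ∑ d, ∑ c, (w c : ℂ) * (w d : ℂ) * ψ (b * (c - (a : ZMod p) * d)) := by
    intro b
    rw [map_sum, Finset.sum_mul_sum, Finset.sum_comm]
    refine Finset.sum_congr rfl fun d _ => Finset.sum_congr rfl fun c _ => ?_
    rw [show b * (c - (a : ZMod p) * d) = c * b + -(d * ((a : ZMod p) * b)) by ring,
      AddChar.map_add_eq_mul, map_mul (starRingEnd ℂ), Complex.conj_natCast, ← AddChar.map_neg_eq_conj]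
    ring
  simp only [hexp]
  rw [Finset.sum_comm, Finset.mul_sum]
  refine Finset.sum_congr rfl fun d _ => ?_
  rw [Finset.sum_comm]
  simp only [← Finset.mul_sum, AddChar.sum_mulShift _ hψ, sub_eq_zero, mul_ite, mul_zero,
    ZMod.card, Nat.cast_ite, Nat.cast_zero]
  rw [Finset.sum_ite_eq']
  simp [mul_comm, mul_left_comm]

theorem sum_char_inj {ψ : AddChar (ZMod p) ℂ} (hψ : ψ.IsPrimitive) {v w : ZMod p → ℕ}
    (h : ∀ b : ZMod p, ∑ c, (v c : ℂ) * ψ (c * b) = ∑ c, (w c : ℂ) * ψ (c * b)) : v = w := by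
  funext d
  have h1 : ∀ u : ZMod p → ℕ, ∑ b : ZMod p, (∑ c, (u c : ℂ) * ψ (c * b)) * ψ (-(d * b)) =
      (p : ℂ) * u d := by
    intro u
    simp only [Finset.sum_mul, mul_assoc, ← AddChar.map_add_eq_mul]
    rw [Finset.sum_comm]
    simp only [← Finset.mul_sum]
    have h2 : ∀ c : ZMod p, ∑ b : ZMod p, ψ (c * b + -(d * b)) =
        if c = d then (p : ℂ) else 0 := by
      intro c
      simp_rw [show ∀ b : ZMod p, c * b + -(d * b) = b * (c - d) from fun b => by ring]
      rw [AddChar.sum_mulShift _ hψ]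
      simp [sub_eq_zero, ZMod.card]
    simp [h2, mul_comm]
  have h3 := h1 v
  simp only [h] at h3
  rw [h1 w] at h3
  exact_mod_cast (mul_left_cancel₀ (Nat.cast_ne_zero.2 hpf.out.ne_zero) h3).symm

end Fourier

section Main

variable {G : Type u} [Group G] [Fintype G] {p : ℕ} [hpf : Fact p.Prime]
variable {P : Sylow p G} {e : ℕ}

/-- A normal subgroup of order divisible by `p` contains the Sylow subgroup of order `p`. -/
theorem sylow_le_of_normal (hP : Nat.card P = p) {H : Subgroup G} [hH : H.Normal]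
    (hd : p ∣ Nat.card H) : (P : Subgroup G) ≤ H := by
  obtain ⟨x, hx⟩ := exists_prime_orderOf_dvd_card' p hd
  rw [← Subgroup.orderOf_coe] at hx
  obtain ⟨Q, hQ⟩ := (IsPGroup.of_card (p := p) (G := Subgroup.zpowers (x : G)) (n := 1)
    (by rw [Nat.card_zpowers, hx, pow_one])).exists_le_sylow
  obtain ⟨g, hg⟩ := MulAction.exists_smul_eq G Q P
  have hQc : Nat.card Q = p := by
    rw [Sylow.card_eq_multiplicity, ← Sylow.card_eq_multiplicity P, hP]
  have hQeq : (Q : Subgroup G) = Subgroup.zpowers (x : G) :=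
    (Subgroup.eq_of_le_of_card_ge hQ (by rw [Nat.card_zpowers, hx]; exact hQc.le)).symm
  have hQH : (Q : Subgroup G) ≤ H := hQeq ▸ (Subgroup.zpowers_le).2 x.2
  intro y hy
  rw [← hg, Sylow.coe_subgroup_smul, Subgroup.mem_pointwise_smul_iff_inv_smul_mem] at hy
  have h2 := hH.conj_mem _ (hQH hy) g
  simpa [MulAut.smul_def, mul_assoc] using h2

/-- The sum over the group of a class function vanishing on `p`-regular elements. -/
theorem CycData.sum_singular (D : CycData P e) (hP : Nat.card P = p) {φ : G → ℂ}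
    (hcl : IsClassFunction G φ) (hreg : ∀ g : G, ¬ p ∣ orderOf g → φ g = 0) :
    (∑ g : G, φ g) / (Nat.card G : ℂ) =
      (∑ b : (ZMod p)ˣ, ∑ z : D.K, φ (D.u ^ (b : ZMod p).val * (z : G))) /
        ((e : ℂ) * (p : ℂ) * (Nat.card D.K : ℂ)) := by
  set C := Subgroup.centralizer ((P : Subgroup G) : Set G)
  set N := Subgroup.normalizer ((P : Subgroup G) : Set G)
  have hQc : ∀ Q : Sylow p G, Nat.card Q = p := fun Q => by
    rw [Sylow.card_eq_multiplicity, ← Sylow.card_eq_multiplicity P, hP]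
  have huniq : ∀ g : G, p ∣ orderOf g →
      (Finset.univ.filter fun Q : Sylow p G =>
        g ∈ Subgroup.centralizer ((Q : Subgroup G) : Set G)).card = 1 := by
    intro g hg
    set x := g ^ (orderOf g / p)
    have hx : orderOf x = p := orderOf_pow_orderOf_div (orderOf_pos g).ne' hg
    have hxp : IsPGroup p (Subgroup.zpowers x) :=
      IsPGroup.of_card (n := 1) (by rw [Nat.card_zpowers, hx, pow_one])
    obtain ⟨Q0, hQ0⟩ := hxp.exists_le_sylow
    have hQ0eq : (Q0 : Subgroup G) = Subgroup.zpowers x :=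
      (Subgroup.eq_of_le_of_card_ge hQ0 (by rw [Nat.card_zpowers, hx]; exact (hQc Q0).le)).symm
    rw [Finset.card_eq_one]
    refine ⟨Q0, Finset.eq_singleton_iff_unique_mem.2
      ⟨Finset.mem_filter.2 ⟨Finset.mem_univ _, ?_⟩, fun Q hQ => ?_⟩⟩
    · rw [hQ0eq, Subgroup.mem_centralizer_iff]
      intro y hy
      obtain ⟨i, rfl⟩ := hy
      exact (((Commute.refl g).pow_left _).zpow_left i).eq
    · have hgQ := (Finset.mem_filter.1 hQ).2
      have hxQ : x ∈ Subgroup.zpowers x ⊓
          Subgroup.normalizer ((Q : Subgroup G) : Set G) :=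
        Subgroup.mem_inf.2 ⟨Subgroup.mem_zpowers _,
          Subgroup.centralizer_le_normalizer _ (pow_mem hgQ _)⟩
      have hxQ' := (Subgroup.mem_inf.1 ((le_of_eq (hxp.inf_normalizer_sylow Q)) hxQ)).2
      refine Sylow.ext ?_
      rw [hQ0eq]
      exact (Subgroup.eq_of_le_of_card_ge ((Subgroup.zpowers_le).2 hxQ')
        (by rw [Nat.card_zpowers, hx]; exact (hQc Q).le)).symm
  have hstep : ∑ g : G, φ g =
      ∑ Q : Sylow p G, ∑ g ∈ Finset.univ.filter (fun g : G =>
        g ∈ Subgroup.centralizer ((Q : Subgroup G) : Set G) ∧ p ∣ orderOf g), φ g := by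
    simp only [Finset.sum_filter]
    rw [Finset.sum_comm]
    refine Finset.sum_congr rfl fun g _ => ?_
    by_cases hg : p ∣ orderOf g
    · simp only [hg, and_true]
      rw [← Finset.sum_filter, Finset.sum_const, huniq g hg, one_smul]
    · simp [hg, hreg g hg]
  have hsame : ∀ Q : Sylow p G, ∑ g ∈ Finset.univ.filter (fun g : G =>
        g ∈ Subgroup.centralizer ((Q : Subgroup G) : Set G) ∧ p ∣ orderOf g), φ g =
      ∑ g ∈ Finset.univ.filter (fun g : G => g ∈ C ∧ p ∣ orderOf g), φ g := by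
    intro Q
    obtain ⟨x, hx⟩ := MulAction.exists_smul_eq G Q P
    have hmem : ∀ y : G, y ∈ (P : Subgroup G) ↔ x⁻¹ * y * x ∈ (Q : Subgroup G) := fun y => by
      rw [← hx, Sylow.coe_subgroup_smul, Subgroup.mem_pointwise_smul_iff_inv_smul_mem]
      simp [MulAut.smul_def]
    have hiff : ∀ g : G, x * g * x⁻¹ ∈ C ↔
        g ∈ Subgroup.centralizer ((Q : Subgroup G) : Set G) := by
      intro g
      rw [Subgroup.mem_centralizer_iff, Subgroup.mem_centralizer_iff]
      constructor
      · intro h y hy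
        have h1 := h (x * y * x⁻¹) ((hmem _).2 (by
          rw [show x⁻¹ * (x * y * x⁻¹) * x = y by group]; exact hy))
        have h2 := congrArg (fun z => x⁻¹ * z * x) h1
        simpa [mul_assoc] using h2
      · intro h y hy
        have h1 := h _ ((hmem _).1 hy)
        have h2 := congrArg (fun z => x * z * x⁻¹) h1
        simpa [mul_assoc] using h2
    have hord : ∀ g : G, orderOf (x * g * x⁻¹) = orderOf g := fun g => by
      have h1 := orderOf_injective (MulAut.conj x).toMonoidHom (MulAut.conj x).injective g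
      simpa using h1
    refine Finset.sum_bij' (fun g _ => x * g * x⁻¹) (fun g _ => x⁻¹ * g * x) ?_ ?_ ?_ ?_ ?_
    · intro g hg
      obtain ⟨h1, h2⟩ := (Finset.mem_filter.1 hg).2
      exact Finset.mem_filter.2 ⟨Finset.mem_univ _, (hiff g).2 h1, by rw [hord]; exact h2⟩
    · intro g hg
      obtain ⟨h1, h2⟩ := (Finset.mem_filter.1 hg).2
      have hg' : x * (x⁻¹ * g * x) * x⁻¹ = g := by group
      exact Finset.mem_filter.2 ⟨Finset.mem_univ _, (hiff _).1 (by rw [hg']; exact h1),
        by rw [← hord, hg']; exact h2⟩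
    · intro g _; group
    · intro g _; group
    · intro g _; exact (hcl g x).symm
  have hKu : ∀ z : D.K, Commute D.u (z : G) := fun z =>
    Subgroup.mem_centralizer_iff.1 (D.hKC z.2) D.u (D.hu ▸ Subgroup.mem_zpowers D.u)
  have hbo : ∀ b : (ZMod p)ˣ, orderOf (D.u ^ (b : ZMod p).val) = p := fun b => by
    have hb : ¬ p ∣ (b : ZMod p).val := fun h => by
      have h1 := Nat.eq_zero_of_dvd_of_lt h (ZMod.val_lt _)
      exact b.ne_zero ((ZMod.val_eq_zero _).1 h1)
    rw [Nat.Coprime.orderOf_pow (by rw [D.hup]; exact (hpf.out.coprime_iff_not_dvd.2 hb))]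
    exact D.hup
  have hzo : ∀ z : D.K, Nat.Coprime p (orderOf (z : G)) := fun z =>
    hpf.out.coprime_iff_not_dvd.2 fun h =>
      D.hKp (h.trans (Subgroup.orderOf_dvd_natCard _ z.2))
  have hord : ∀ (b : (ZMod p)ˣ) (z : D.K),
      orderOf (D.u ^ (b : ZMod p).val * (z : G)) = p * orderOf (z : G) := fun b z => by
    rw [((hKu z).pow_left _).orderOf_mul_eq_mul_orderOf_of_coprime (by rw [hbo]; exact hzo z),
      hbo]
  have hdisj : ∀ g : G, g ∈ (P : Subgroup G) → g ∈ D.K → g = 1 := by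
    intro g h1 h2
    rw [← orderOf_eq_one_iff]
    have ha : orderOf g ∣ p := hP ▸ Subgroup.orderOf_dvd_natCard _ h1
    have hb : orderOf g ∣ Nat.card D.K := Subgroup.orderOf_dvd_natCard _ h2
    exact Nat.eq_one_of_dvd_coprimes (hpf.out.coprime_iff_not_dvd.2 D.hKp) ha hb
  have hS : ∑ g ∈ Finset.univ.filter (fun g : G => g ∈ C ∧ p ∣ orderOf g), φ g =
      ∑ b : (ZMod p)ˣ, ∑ z : D.K, φ (D.u ^ (b : ZMod p).val * (z : G)) := by
    rw [← Finset.sum_product']
    refine (Finset.sum_bij (fun bz (_ : bz ∈ (Finset.univ ×ˢ Finset.univ :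
      Finset ((ZMod p)ˣ × D.K))) => D.u ^ (bz.1 : ZMod p).val * (bz.2 : G))
      (fun bz _ => ?_) (fun bz _ bz' _ h => ?_) (fun g hg => ?_) (fun _ _ => rfl)).symm
    · refine Finset.mem_filter.2 ⟨Finset.mem_univ _, mul_mem (pow_mem ?_ _) (D.hKC bz.2.2),
        by rw [hord]; exact dvd_mul_right _ _⟩
      rw [Subgroup.mem_centralizer_iff]
      intro y hy
      rw [SetLike.mem_coe, D.hu] at hy
      obtain ⟨i, rfl⟩ := hy
      exact ((Commute.refl D.u).zpow_left i).eq
    · have h1 : (D.u ^ (bz'.1 : ZMod p).val)⁻¹ * D.u ^ (bz.1 : ZMod p).val =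
          (bz'.2 : G) * (bz.2 : G)⁻¹ := by
        rw [eq_mul_inv_iff_mul_eq, mul_assoc, h, inv_mul_cancel_left]
      have hu : D.u ∈ (P : Subgroup G) := D.u_mem
      have h2 := hdisj _ (mul_mem (inv_mem (pow_mem hu _)) (pow_mem hu _))
        (h1 ▸ mul_mem bz'.2.2 (inv_mem bz.2.2))
      have h3 : (bz.2 : G) = (bz'.2 : G) := by
        rw [h1, mul_inv_eq_one] at h2
        exact h2.symm
      rw [inv_mul_eq_one] at h2
      refine Prod.ext (Units.ext (ZMod.val_injective _ ?_)) (Subtype.ext h3)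
      have hup := D.hup
      refine pow_injOn_Iio_orderOf ?_ ?_ h2.symm <;>
        rw [Set.mem_Iio, hup] <;> exact ZMod.val_lt _
    · obtain ⟨hgC, hgp⟩ := (Finset.mem_filter.1 hg).2
      obtain ⟨z, hz, k, hk, rfl⟩ := D.hKdec g hgC
      rw [D.hu] at hz
      rw [← mem_powers_iff_mem_zpowers, Submonoid.mem_powers_iff] at hz
      obtain ⟨i, rfl⟩ := hz
      have hi : (i : ZMod p) ≠ 0 := by
        intro h0
        have hd := (ZMod.natCast_eq_zero_iff i p).1 h0
        have h1 : D.u ^ i = 1 := orderOf_dvd_iff_pow_eq_one.1 (by rw [D.hup]; exact hd)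
        rw [h1, one_mul] at hgp
        exact D.hKp (hgp.trans (Subgroup.orderOf_dvd_natCard _ hk))
      refine ⟨(Units.mk0 (i : ZMod p) hi, ⟨k, hk⟩), by simp, ?_⟩
      show D.u ^ (i : ZMod p).val * k = D.u ^ i * k
      have hm := pow_mod_orderOf D.u i
      rw [D.hup] at hm
      rw [ZMod.val_natCast, hm]
  rw [hstep, Finset.sum_congr rfl fun Q _ => hsame Q, Finset.sum_const, Finset.card_univ, hS,
    ← Nat.card_eq_fintype_card, Sylow.card_eq_index_normalizer P, nsmul_eq_mul]
  have hcardC : Nat.card C = p * Nat.card D.K := by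
    have hPC : (P : Subgroup G) ≤ C := by
      intro y hy
      rw [Subgroup.mem_centralizer_iff]
      intro w hw
      rw [D.hu] at hy
      rw [SetLike.mem_coe, D.hu] at hw
      obtain ⟨i, rfl⟩ := hy
      obtain ⟨j, rfl⟩ := hw
      exact (((Commute.refl D.u).zpow_right i).zpow_left j).eq
    have hprod : Nat.card (↥(P : Subgroup G) × D.K) = p * Nat.card D.K := by
      rw [Nat.card_prod, hP]
    rw [← hprod]
    refine (Nat.card_congr (Equiv.ofBijective (fun yz : ↥(P : Subgroup G) × D.K =>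
      (⟨(yz.1 : G) * (yz.2 : G), mul_mem (hPC yz.1.2) (D.hKC yz.2.2)⟩ : C)) ⟨?_, ?_⟩)).symm
    · intro a b h
      have h' : (a.1 : G) * (a.2 : G) = (b.1 : G) * (b.2 : G) := congrArg Subtype.val h
      have h1 : (b.1 : G)⁻¹ * (a.1 : G) = (b.2 : G) * (a.2 : G)⁻¹ := by
        rw [eq_mul_inv_iff_mul_eq, mul_assoc, h', inv_mul_cancel_left]
      have h2 := hdisj _ (mul_mem (inv_mem b.1.2) a.1.2)
        (h1 ▸ mul_mem b.2.2 (inv_mem a.2.2))
      have h3 : (a.2 : G) = (b.2 : G) := by
        rw [h1, mul_inv_eq_one] at h2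
        exact h2.symm
      exact Prod.ext (Subtype.ext (inv_mul_eq_one.1 h2).symm) (Subtype.ext h3)
    · rintro ⟨c, hc⟩
      obtain ⟨z, hz, k, hk, rfl⟩ := D.hKdec c hc
      exact ⟨(⟨z, hz⟩, ⟨k, hk⟩), rfl⟩
  have hyN := D.hy
  have hidx : C.relIndex N = e := by
    rw [← D.hry, ← Nat.card_zpowers]
    let F : N →* (ZMod p)ˣ :=
      { toFun := fun x => D.r x
        map_one' := (D.hrC 1 (one_mem _)).2 (one_mem _)
        map_mul' := fun x y => D.hrmul _ x.2 _ y.2 }
    have hker : F.ker = C.subgroupOf N := by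
      ext x
      rw [MonoidHom.mem_ker, Subgroup.mem_subgroupOf]
      exact D.hrC x x.2
    have hran : F.range = Subgroup.zpowers (D.r D.y) := by
      refine le_antisymm ?_ (by rw [Subgroup.zpowers_le]; exact ⟨⟨D.y, D.hy⟩, rfl⟩)
      rintro _ ⟨x, rfl⟩
      obtain ⟨i, hi⟩ := D.hgen x x.2
      have hyi : D.y ^ i ∈ N := pow_mem D.hy i
      have h1 : D.r ((x : G) * (D.y ^ i)⁻¹) = 1 :=
        (D.hrC _ (mul_mem x.2 (inv_mem hyi))).2 hi
      have h2 : D.r (x : G) = D.r (D.y ^ i) := by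
        have h3 := D.hrmul ((x : G) * (D.y ^ i)⁻¹) (mul_mem x.2 (inv_mem hyi)) _ hyi
        rw [inv_mul_cancel_right, h1, one_mul] at h3
        exact h3
      show D.r (x : G) ∈ _
      rw [h2]
      have h4 : F ⟨D.y ^ i, hyi⟩ = F ⟨D.y, D.hy⟩ ^ i := by
        rw [← map_pow]; rfl
      rw [show D.r (D.y ^ i) = D.r D.y ^ i from h4]
      exact pow_mem (Subgroup.mem_zpowers _) _
    rw [Subgroup.relIndex, ← hker, Subgroup.index_ker, hran]
  have hG : Nat.card G = N.index * (e * (p * Nat.card D.K)) := by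
    rw [← hcardC, ← hidx, ← Subgroup.index_mul_card N]
    congr 1
    rw [mul_comm, Subgroup.relIndex]
    have := Subgroup.index_mul_card (C.subgroupOf N)
    rw [← this, mul_comm, Nat.card_congr (Subgroup.subgroupOfEquivOfLe
      (show C ≤ N from Subgroup.centralizer_le_normalizer _)).toEquiv]
  have hNi : (N.index : ℂ) ≠ 0 := Nat.cast_ne_zero.2 Subgroup.index_ne_zero_of_finite
  rw [hG]
  push_cast
  show ((N.index : ℂ) * _) / _ = _
  rw [mul_div_mul_left _ _ hNi, mul_assoc (e : ℂ)]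

/-- Central elements act on an irreducible character by scalars of norm one. -/
theorem exists_central_scalar {χ : G → ℂ} (hχ : IsIrrCharacter G χ) {z : G}
    (hz : z ∈ Subgroup.center G) :
    ∃ ω : ℂ, ‖ω‖ = 1 ∧ χ z = ω * χ 1 ∧ ∀ g : G, χ (g * z) = ω * χ g := by
  obtain ⟨n, ρ, hρ, rfl⟩ := hχ
  obtain ⟨ω, hω⟩ := schur_scalar (ρ := ρ) (ρ z) fun g => by
    rw [← map_mul, ← map_mul, Subgroup.mem_center_iff.1 hz g]
  have hmul : ∀ g : G, ρ.character (g * z) = ω * ρ.character g := fun g => by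
    show LinearMap.trace ℂ _ (ρ (g * z)) = ω * LinearMap.trace ℂ _ (ρ g)
    rw [map_mul, hω, mul_smul_comm, mul_one, map_smul, smul_eq_mul]
  refine ⟨ω, ?_, by simpa using hmul 1, hmul⟩
  refine norm_eq_one_of_pow_eq_one' (orderOf_pos z) ?_
  have h1 : (ρ z) ^ orderOf z = 1 := by rw [← map_pow, pow_orderOf_eq_one, map_one]
  rw [hω, smul_pow, one_pow] at h1
  have : Nontrivial (Fin n → ℂ) := @nontrivial_of_irreducible G _ _ _ _ ρ hρ
  obtain ⟨v, hv⟩ := exists_ne (0 : Fin n → ℂ)
  have h2 : ω ^ orderOf z • v = v := LinearMap.congr_fun h1 v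
  by_contra hne
  exact hv ((smul_eq_zero.1 (by rw [sub_smul, h2, one_smul, sub_self] :
    (ω ^ orderOf z - 1) • v = 0)).resolve_left (sub_ne_zero.2 hne))

set_option maxHeartbeats 1600000 in
/-- **Brauer's degree bound**, for a group generated by the conjugates of a Sylow subgroup. -/
theorem smallDeg_core (P : Sylow p G) (hP : Nat.card P = p)
    (hgen : ∀ H : Subgroup G, H.Normal → (P : Subgroup G) ≤ H → H = ⊤)
    (hPn : ¬ (P : Subgroup G).Normal) (θ : IrrCharacter G)
    (hfaith : ∀ g : G, (θ : G → ℂ) g = (θ : G → ℂ) 1 → g = 1)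
    (hdeg : 2 * charDegree (θ : G → ℂ) + 1 < p) : False := by
  set n := charDegree (θ : G → ℂ)
  have hθc : IsCharacter G (θ : G → ℂ) := θ.2.isCharacter'
  have hn1 : (θ : G → ℂ) 1 = n := (charDegree_cast hθc).symm
  have hnpos : 0 < n := charDegree_pos θ
  have hp2 : p ≠ 2 := by omega
  have hpodd : p % 2 = 1 := (hpf.out.eq_two_or_odd).resolve_left hp2
  obtain ⟨f, hf⟩ : ∃ f, (Subgroup.centralizer ((P : Subgroup G) : Set G)).relIndex
      (Subgroup.normalizer ((P : Subgroup G) : Set G)) = f := ⟨_, rfl⟩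
  obtain ⟨D⟩ := exists_cycData P hP hf
  have hu1 : D.u ≠ 1 := fun h => by
    have h2 := D.hup
    rw [h, orderOf_one] at h2
    exact hpf.out.one_lt.ne h2
  -- the representation
  obtain ⟨d, ρ, hρirr, hρ⟩ := θ.2
  have hd : d = n := by
    have h := congrFun hρ 1
    rw [Representation.char_one, Module.finrank_fin_fun, hn1] at h
    exact_mod_cast h
  subst hd
  have hρinj : Function.Injective ρ := by
    intro a b hab
    have h1 : ρ (a⁻¹ * b) = 1 := by rw [map_mul, ← hab, ← map_mul, inv_mul_cancel, map_one]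
    have h2 : a⁻¹ * b = 1 := hfaith _ (by rw [← hρ]; exact (char_eq_one_iff ρ _).2 h1)
    exact inv_mul_eq_one.1 h2
  -- normal subgroups of order prime to p are central
  have hcore : ∀ H : Subgroup G, H.Normal → ¬ p ∣ Nat.card H → H ≤ Subgroup.center G := by
    intro H hH hpH
    have hx : D.u ∈ Subgroup.centralizer (H : Set G) :=
      CfsgLib.SmallDegree.centralizes_coprime ρ hρinj (by omega) D.u
        (IsPGroup.of_card (n := 1) (by rw [Nat.card_zpowers, D.hup, pow_one]))
        (by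
          have h := pow_orderOf_eq_one D.u
          rw [D.hup] at h
          rw [h]; exact one_mem _)
        H hpH (by rw [Subgroup.normalizer_eq_top_iff.2 hH]; exact Subgroup.mem_top _)
    have hPH : (P : Subgroup G) ≤ Subgroup.centralizer (H : Set G) := by
      rw [D.hu, Subgroup.zpowers_le]; exact hx
    have htop := hgen _ inferInstance hPH
    intro y hy
    rw [Subgroup.mem_center_iff]
    intro g
    exact (Subgroup.mem_centralizer_iff.1 (htop ▸ Subgroup.mem_top g) y hy).symm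
  have hnn : ∀ H : Subgroup G, H.Normal → Nat.card H ≠ p := by
    intro H hH hc
    have hle : (P : Subgroup G) ≤ H := sylow_le_of_normal hP (by rw [hc])
    exact hPn ((Subgroup.eq_of_le_of_card_ge hle (by rw [hc, hP])).symm ▸ hH)
  have hsq : ¬ p ^ 2 ∣ Nat.card G := by
    intro h
    have h1 := (hpf.out.pow_dvd_iff_le_factorization Nat.card_pos.ne').1 h
    have h2 := Sylow.card_eq_multiplicity P
    rw [hP] at h2
    have h3 : (Nat.card G).factorization p = 1 :=
      (Nat.pow_right_injective hpf.out.two_le (show p ^ 1 = p ^ _ by rw [pow_one]; exact h2)).symm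
    omega
  obtain ⟨k, _, _, σ, hσ⟩ := exists_modular_rep hsq hnn ρ hρinj
  have hKcen : D.K ≤ Subgroup.center G := D.K_le_center hP σ hσ (by omega) hcore
  -- perfectness
  have hperf : commutator G = ⊤ := by
    by_contra hne
    have hpd : ¬ p ∣ Nat.card (commutator G) := fun h =>
      hne (hgen _ inferInstance (sylow_le_of_normal hP h))
    set Cp := Subgroup.centralizer ((P : Subgroup G) : Set G)
    have hcle : commutator G ≤ Cp :=
      (hcore _ inferInstance hpd).trans (Subgroup.center_le_centralizer _)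
    have hCn : Cp.Normal := ⟨fun x hx y => by
      have h1 : y * x * y⁻¹ = (y * x * y⁻¹ * x⁻¹) * x := by group
      rw [h1]
      exact mul_mem (hcle (Subgroup.commutator_mem_commutator (Subgroup.mem_top y)
        (Subgroup.mem_top x))) hx⟩
    have hPC : (P : Subgroup G) ≤ Cp := by
      intro y hy
      rw [Subgroup.mem_centralizer_iff]
      intro w hw
      rw [D.hu] at hy
      rw [SetLike.mem_coe, D.hu] at hw
      obtain ⟨i, rfl⟩ := hy
      obtain ⟨j, rfl⟩ := hw
      exact (((Commute.refl D.u).zpow_right i).zpow_left j).eq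
    have htop := hgen Cp hCn hPC
    refine hPn ⟨fun x hx g => ?_⟩
    have hg : g ∈ Cp := by rw [htop]; exact Subgroup.mem_top g
    rw [← Subgroup.mem_centralizer_iff.1 hg x hx, mul_inv_cancel_right]
    exact hx
  have hlin : ∀ χ : IrrCharacter G, charDegree (χ : G → ℂ) = 1 → χ = trivIrr G := by
    intro χ hχ
    obtain ⟨h, hh⟩ := exists_hom_of_degree_one χ.2.isCharacter'
      (by rw [← charDegree_cast χ.2.isCharacter', hχ, Nat.cast_one])
    refine Subtype.ext ?_
    rw [hh]
    funext g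
    have hg : g ∈ h.ker := by
      refine (Abelianization.commutator_subset_ker h) ?_
      rw [hperf]; exact Subgroup.mem_top g
    simp [MonoidHom.mem_ker.1 hg]
    rfl
  -- the centre has order prime to p
  have hf2 : 2 ≤ f := by
    have hf0 : f ≠ 0 := hf ▸ Subgroup.index_ne_zero_of_finite
    by_contra h
    have hf1 : f = 1 := by omega
    have hNC : Subgroup.normalizer ((P : Subgroup G) : Set G) ≤
        Subgroup.centralizer ((P : Subgroup G) : Set G) :=
      Subgroup.relIndex_eq_one.1 (hf1 ▸ hf)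
    have hcomp := MonoidHom.ker_transferSylow_isComplement' P hNC
    have hkc := hcore _ inferInstance (MonoidHom.not_dvd_card_ker_transferSylow P hNC)
    refine hPn ⟨fun x hx g => ?_⟩
    obtain ⟨⟨z, y⟩, rfl⟩ := hcomp.2 g
    have hz : (y : G) * x * (y : G)⁻¹ ∈ (P : Subgroup G) :=
      mul_mem (mul_mem y.2 hx) (inv_mem y.2)
    have h1 : (z : G) * y * x * ((z : G) * y)⁻¹ = y * x * (y : G)⁻¹ := by
      rw [mul_inv_rev, show (z : G) * y * x * ((y : G)⁻¹ * (z : G)⁻¹) =
        (z : G) * (y * x * (y : G)⁻¹) * (z : G)⁻¹ by group,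
        ← Subgroup.mem_center_iff.1 (hkc z.2) _, mul_inv_cancel_right]
    show (z : G) * y * x * ((z : G) * y)⁻¹ ∈ _
    rw [h1]; exact hz
  have hfp : f ∣ p - 1 := by
    rw [← D.hry, ← ZMod.card_units p]
    exact orderOf_dvd_card
  -- values on the singular section
  obtain ⟨ψ, hψp, hψ1⟩ := exists_zeta p
  obtain ⟨m, hm⟩ := D.exists_mult hψ1 θ
  set η : ZMod p → ℂ := fun b => ∑ c, (m c : ℂ) * ψ (c * b)
  have hη : ∀ b : ZMod p, (θ : G → ℂ) (D.u ^ b.val) = η b := hm
  have hη0 : η 0 = n := by rw [← hη 0, ZMod.val_zero, pow_zero, hn1]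
  have hmsum : ∑ c, m c = n := by
    have h := hη0
    simp only [η, mul_zero, AddChar.map_zero_eq_one, mul_one] at h
    exact_mod_cast h
  have hval : ∀ b : ℕ, (θ : G → ℂ) (D.u ^ b) = η (b : ZMod p) := fun b => by
    have h := pow_mod_orderOf D.u b
    rw [D.hup] at h
    rw [← hη, ZMod.val_natCast, h]
  have hinv : ∀ c : ZMod p, m ((D.r D.y : ZMod p) * c) = m c := by
    have h1 : (fun c => m ((((D.r D.y)⁻¹ : (ZMod p)ˣ) : ZMod p) * c)) = m := by
      refine sum_char_inj hψp fun b => ?_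
      refine (Fintype.sum_equiv (Equiv.mulLeft₀ (((D.r D.y)⁻¹ : (ZMod p)ˣ) : ZMod p)
        (Units.ne_zero _)) (fun c => (m ((((D.r D.y)⁻¹ : (ZMod p)ˣ) : ZMod p) * c) : ℂ) *
          ψ (c * b)) (fun c => (m c : ℂ) * ψ (c * ((D.r D.y : ZMod p) * b))) fun c => ?_).trans ?_
      · simp only [Equiv.mulLeft₀_apply]
        congr 2
        rw [mul_mul_mul_comm, Units.inv_mul, one_mul]
      · show η ((D.r D.y : ZMod p) * b) = η b
        have hy := D.hr D.y D.hy
        have h3 := congrArg (fun x => x ^ b.val) hy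
        simp only [conj_pow, ← pow_mul] at h3
        have h4 := hval ((D.r D.y : ZMod p).val * b.val)
        rw [← h3, Nat.cast_mul, ZMod.natCast_zmod_val, ZMod.natCast_zmod_val] at h4
        rw [← h4, (isCharacter_classFunction hθc) _ D.y, hη]
    intro c
    have h2 := congrFun h1 ((D.r D.y : ZMod p) * c)
    rw [Units.inv_mul_cancel_left] at h2
    exact h2.symm
  have hKcast : (Nat.card D.K : ℂ) ≠ 0 := natCard_ne_zero D.K
  -- Galois conjugates
  obtain ⟨q, hq⟩ : p ∣ Nat.card G := hP ▸ Subgroup.card_subgroup_dvd_card _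
  have hpq : p.Coprime q := hpf.out.coprime_iff_not_dvd.2 fun h =>
    hsq (by rw [hq, pow_two]; exact Nat.mul_dvd_mul_left p h)
  have htw : ∀ a : (ZMod p)ˣ, ∃ θa : IrrCharacter G,
      (∀ g : G, ¬ p ∣ orderOf g → (θa : G → ℂ) g = (θ : G → ℂ) g) ∧
      ∀ (b : (ZMod p)ˣ) (z : D.K), (θ : G → ℂ) (D.u ^ (b : ZMod p).val * (z : G)) *
        conj ((θa : G → ℂ) (D.u ^ (b : ZMod p).val * (z : G))) =
          η b * conj (η ((a : ZMod p) * b)) := by
    intro a
    have hcop : Nat.Coprime (a : ZMod p).val p :=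
      Nat.Coprime.symm (hpf.out.coprime_iff_not_dvd.2 fun h =>
        a.ne_zero ((ZMod.val_eq_zero _).1 (Nat.eq_zero_of_dvd_of_lt h (ZMod.val_lt _))))
    obtain ⟨χ', hχ'c, hχ'i, hdiv, hreg⟩ := exists_partial_twist hq hpq hcop hθc
    have hχ'irr := hχ'i θ.2
    refine ⟨⟨χ', hχ'irr⟩,
      fun g hg => hreg g (hpf.out.coprime_iff_not_dvd.2 hg).symm, fun b z => ?_⟩
    obtain ⟨ω, hω, hz1, hzm⟩ := exists_central_scalar θ.2 (hKcen z.2)
    obtain ⟨ω', -, hz1', hzm'⟩ := exists_central_scalar hχ'irr (hKcen z.2)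
    have hone : χ' 1 = (θ : G → ℂ) 1 := hreg 1 (by simp)
    have hzreg : χ' (z : G) = (θ : G → ℂ) (z : G) :=
      hreg _ (hpf.out.coprime_iff_not_dvd.2 fun h =>
        D.hKp (h.trans (Subgroup.orderOf_dvd_natCard _ z.2))).symm
    have hωω : ω' = ω := by
      rw [hz1, hz1', hone] at hzreg
      exact mul_right_cancel₀ (by rw [hn1]; exact Nat.cast_ne_zero.2 hnpos.ne') hzreg
    show (θ : G → ℂ) _ * conj (χ' _) = _
    rw [hzm, hzm', hωω, hdiv _ ((orderOf_pow_dvd _).trans (dvd_of_eq D.hup)), ← pow_mul, hη, hval,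
      Nat.cast_mul, ZMod.natCast_zmod_val, ZMod.natCast_zmod_val, mul_comm (b : ZMod p), map_mul]
    have h2 : ω * conj ω = 1 := by
      rw [Complex.mul_conj', hω]; simp
    linear_combination (η b * conj (η ((a : ZMod p) * b))) * h2
  choose T hTreg hTval using htw
  have hT1 : ∀ b : (ZMod p)ˣ, ∀ z : D.K, (θ : G → ℂ) (D.u ^ (b : ZMod p).val * (z : G)) *
      conj ((θ : G → ℂ) (D.u ^ (b : ZMod p).val * (z : G))) = η b * conj (η b) := by
    intro b z
    obtain ⟨ω, hω, -, hzm⟩ := exists_central_scalar θ.2 (hKcen z.2)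
    rw [hzm, hη, map_mul]
    have h2 : ω * conj ω = 1 := by
      rw [Complex.mul_conj', hω]; simp
    linear_combination (η b * conj (η b)) * h2
  set φ : (ZMod p)ˣ → G → ℂ := fun a g => (θ : G → ℂ) g * conj ((θ : G → ℂ) g) -
    (θ : G → ℂ) g * conj ((T a : G → ℂ) g)
  have hφcl : ∀ a, IsClassFunction G (φ a) := fun a g h => by
    simp only [φ, isCharacter_classFunction hθc g h,
      isCharacter_classFunction (T a).2.isCharacter' g h]
  have hφreg : ∀ a g, ¬ p ∣ orderOf g → φ a g = 0 := fun a g hg => by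
    simp only [φ, hTreg a g hg, sub_self]
  have havg : ∀ a, (∑ g, φ a g) / (Nat.card G : ℂ) = 1 - if θ = T a then 1 else 0 := by
    intro a
    rw [← irr_classInner θ (T a), ← irr_inner_self θ.2]
    simp only [φ, classInner, Finset.sum_sub_distrib, div_eq_inv_mul, mul_sub]
  -- the orbit equations
  have hsumb : ∀ a : (ZMod p)ˣ,
      ∑ b : (ZMod p)ˣ, (η b * conj (η b) - η b * conj (η ((a : ZMod p) * b))) =
        (p : ℂ) * ((∑ c, (m c : ℂ) * (m c : ℂ)) -
          ∑ c, (m ((a : ZMod p) * c) : ℂ) * (m c : ℂ)) := by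
    intro a
    have h0 : ∑ b : ZMod p, (η b * conj (η b) - η b * conj (η ((a : ZMod p) * b))) =
        ∑ b : (ZMod p)ˣ, (η b * conj (η b) - η b * conj (η ((a : ZMod p) * b))) := by
      rw [← Finset.sum_erase_add _ _ (Finset.mem_univ (0 : ZMod p)), mul_zero, sub_self,
        add_zero]
      refine Finset.sum_bij' (fun x hx => Units.mk0 x (Finset.mem_erase.1 hx).1)
        (fun b _ => (b : ZMod p)) (fun _ _ => Finset.mem_univ _)
        (fun b _ => Finset.mem_erase.2 ⟨b.ne_zero, Finset.mem_univ _⟩) (fun _ _ => rfl)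
        (fun b _ => Units.ext rfl) (fun _ _ => rfl)
    rw [← h0, Finset.sum_sub_distrib, mul_sub, ← sum_char_mul hψp m a]
    congr 1
    have h := sum_char_mul hψp m 1
    simp only [Units.val_one, one_mul] at h
    exact h
  have horb : ∀ a : (ZMod p)ˣ, (∑ c, (m c : ℤ) * (m c : ℤ)) -
      ∑ c, (m ((a : ZMod p) * c) : ℤ) * (m c : ℤ) =
        (f : ℤ) * if θ = T a then 0 else 1 := by
    intro a
    have h := D.sum_singular hP (hφcl a) (hφreg a)
    rw [havg a] at h
    simp only [φ, hT1, hTval, Finset.sum_const, Finset.card_univ, nsmul_eq_mul,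
      ← Nat.card_eq_fintype_card, ← Finset.mul_sum, hsumb a] at h
    have hp0 : (p : ℂ) ≠ 0 := Nat.cast_ne_zero.2 hpf.out.ne_zero
    have hf0 : (f : ℂ) ≠ 0 := Nat.cast_ne_zero.2 (by omega)
    rw [eq_div_iff (mul_ne_zero (mul_ne_zero hf0 hp0) hKcast)] at h
    have h2 : ((∑ c, (m c : ℂ) * (m c : ℂ)) - ∑ c, (m ((a : ZMod p) * c) : ℂ) * (m c : ℂ)) =
        (f : ℂ) * if θ = T a then 0 else 1 := by
      apply mul_left_cancel₀ (mul_ne_zero hKcast hp0)
      rw [mul_assoc, ← h]
      split_ifs <;> ring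
    exact_mod_cast h2
  -- analysing the multiplicities
  set w : (ZMod p)ˣ → ℕ := fun c => m (c : ZMod p)
  have hunits : ∀ F : ZMod p → ℤ, ∑ c, F c = F 0 + ∑ c : (ZMod p)ˣ, F (c : ZMod p) := by
    intro F
    rw [← Finset.add_sum_erase _ _ (Finset.mem_univ (0 : ZMod p))]
    congr 1
    refine Finset.sum_bij' (fun x hx => Units.mk0 x (Finset.mem_erase.1 hx).1)
      (fun b _ => (b : ZMod p)) (fun _ _ => Finset.mem_univ _)
      (fun b _ => Finset.mem_erase.2 ⟨b.ne_zero, Finset.mem_univ _⟩) (fun _ _ => rfl)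
      (fun b _ => Units.ext rfl) (fun _ _ => rfl)
  set S : ℤ := ∑ c, (w c : ℤ) * (w c : ℤ)
  have hwsum : (∑ c, (w c : ℤ)) + (m 0 : ℤ) = n := by
    rw [add_comm, ← hunits fun c => (m c : ℤ)]
    exact_mod_cast hmsum
  have horb' : ∀ a : (ZMod p)ˣ, S - ∑ c, (w (a * c) : ℤ) * (w c : ℤ) =
      (f : ℤ) * if θ = T a then 0 else 1 := by
    intro a
    have h := horb a
    rw [hunits, hunits fun c => (m ((a : ZMod p) * c) : ℤ) * (m c : ℤ), mul_zero,
      add_sub_add_left_eq_sub] at h
    simpa [S, w] using h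
  have htot : (Nat.card (ZMod p)ˣ : ℤ) * S - (∑ c, (w c : ℤ)) ^ 2 =
      (f : ℤ) * ∑ a : (ZMod p)ˣ, if θ = T a then (0 : ℤ) else 1 := by
    have h1 : ∑ a : (ZMod p)ˣ, (S - ∑ c, (w (a * c) : ℤ) * (w c : ℤ)) =
        (f : ℤ) * ∑ a : (ZMod p)ˣ, if θ = T a then (0 : ℤ) else 1 := by
      rw [Finset.mul_sum]
      exact Finset.sum_congr rfl fun a _ => horb' a
    have h2 : ∑ a : (ZMod p)ˣ, ∑ c, (w (a * c) : ℤ) * (w c : ℤ) = (∑ c, (w c : ℤ)) ^ 2 := by
      rw [Finset.sum_comm, sq, Finset.mul_sum]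
      refine Finset.sum_congr rfl fun c _ => ?_
      rw [← Finset.sum_mul]
      congr 1
      exact Fintype.sum_equiv (Equiv.mulRight c) _ _ fun a => rfl
    rw [← h1, Finset.sum_sub_distrib, h2, Finset.sum_const, Finset.card_univ,
      ← Nat.card_eq_fintype_card, nsmul_eq_mul]
  rw [Nat.card_eq_fintype_card, ZMod.card_units, Nat.cast_sub hpf.out.one_le,
    Nat.cast_one] at htot
  have hδle : ∑ a : (ZMod p)ˣ, (if θ = T a then (0 : ℤ) else 1) ≤ (p : ℤ) - 1 := by
    refine (Finset.sum_le_sum fun a _ => show (if θ = T a then (0 : ℤ) else 1) ≤ 1 by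
      split_ifs <;> simp).trans ?_
    rw [Finset.sum_const, Finset.card_univ, ZMod.card_units, nsmul_one,
      Nat.cast_sub hpf.out.one_le, Nat.cast_one]
  have hA : (∑ c, (w c : ℤ)) ^ 2 ≤ n * S := by
    rw [sq]
    refine mul_le_mul (by omega) (Finset.sum_le_sum fun c _ => ?_)
      (Finset.sum_nonneg fun c _ => by positivity) (by omega)
    rcases Nat.eq_zero_or_pos (w c) with h | h
    · simp [h]
    · exact le_mul_of_one_le_right (by positivity) (by exact_mod_cast h)
  have hSpos : 0 < S := by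
    by_contra hS
    have hw : ∀ c, w c = 0 := fun c => by
      have h1 := Finset.single_le_sum (f := fun c => (w c : ℤ) * (w c : ℤ))
        (fun x _ => mul_self_nonneg _) (Finset.mem_univ c)
      have h2 : (w c : ℤ) * (w c : ℤ) ≤ 0 := h1.trans (not_lt.1 hS)
      have := mul_self_eq_zero.1 (le_antisymm h2 (mul_self_nonneg _))
      exact_mod_cast this
    refine hu1 (hfaith _ ?_)
    have h1 := hval 1
    rw [pow_one, Nat.cast_one] at h1
    rw [h1, hn1, ← hη0]
    show ∑ c, (m c : ℂ) * ψ (c * 1) = ∑ c, (m c : ℂ) * ψ (c * 0)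
    refine Finset.sum_congr rfl fun c _ => ?_
    by_cases hc : c = 0
    · simp [hc]
    · have : m c = 0 := hw (Units.mk0 c hc)
      simp [this]
  have hnp : 2 * (n : ℤ) + 2 ≤ p := by omega
  set O : Finset (ZMod p)ˣ := Finset.univ.filter fun c => c ∈ Subgroup.zpowers (D.r D.y)
  have hwinv : ∀ x ∈ Subgroup.zpowers (D.r D.y), ∀ c, w (x * c) = w c := by
    intro x hx c
    rw [← mem_powers_iff_mem_zpowers, Submonoid.mem_powers_iff] at hx
    obtain ⟨i, rfl⟩ := hx
    induction i with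
    | zero => simp
    | succ i ih =>
      rw [pow_succ', mul_assoc]
      show m (((D.r D.y * (D.r D.y ^ i * c) : (ZMod p)ˣ)) : ZMod p) = m c
      rw [Units.val_mul, hinv]
      exact ih
  have hOcard : O.card = f := by
    rw [← D.hry, ← Nat.card_zpowers, Nat.card_eq_fintype_card, Fintype.card_subtype]
  have hcoset : ∀ c0 : (ZMod p)ˣ,
      ∑ c ∈ O.image (· * c0), (w c : ℤ) * (w c : ℤ) = (f : ℤ) * ((w c0 : ℤ) * (w c0 : ℤ)) := by
    intro c0
    rw [Finset.sum_image fun a _ b _ h => mul_right_cancel h]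
    rw [Finset.sum_congr rfl fun x hx => by rw [hwinv x (Finset.mem_filter.1 hx).2],
      Finset.sum_const, hOcard, nsmul_eq_mul]
  have hsmall : S < 2 * (f : ℤ) := by
    by_contra h
    have hfS : (f : ℤ) * ∑ a : (ZMod p)ˣ, (if θ = T a then (0 : ℤ) else 1) ≤
        (f : ℤ) * ((p : ℤ) - 1) := mul_le_mul_of_nonneg_left hδle (by positivity)
    have h2 : 2 * (f : ℤ) * ((p : ℤ) - 1) ≤ S * ((p : ℤ) - 1) :=
      mul_le_mul_of_nonneg_right (not_lt.1 h) (by omega)
    have h3 : (2 * (n : ℤ) + 2) * S ≤ (p : ℤ) * S :=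
      mul_le_mul_of_nonneg_right hnp hSpos.le
    nlinarith
  obtain ⟨c0, hc0⟩ : ∃ c0, w c0 ≠ 0 := by
    by_contra h
    push Not at h
    have : S = 0 := Finset.sum_eq_zero fun c _ => by simp [h c]
    omega
  have hsplit := Finset.sum_sdiff (f := fun c => (w c : ℤ) * (w c : ℤ))
    (Finset.subset_univ (O.image (· * c0)))
  rw [hcoset c0] at hsplit
  have hw0 : w c0 = 1 := by
    by_contra h
    have h2 : (4 : ℤ) ≤ (w c0 : ℤ) * (w c0 : ℤ) := by
      have h3 : (2 : ℤ) ≤ w c0 := by exact_mod_cast (show 2 ≤ w c0 by omega)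
      nlinarith
    have h4 : 0 ≤ ∑ c ∈ Finset.univ \ O.image (· * c0), (w c : ℤ) * (w c : ℤ) :=
      Finset.sum_nonneg fun c _ => mul_self_nonneg _
    nlinarith
  have hout : ∀ c, c ∉ O.image (· * c0) → w c = 0 := by
    intro c hc
    by_contra h
    have hsub : O.image (· * c) ⊆ Finset.univ \ O.image (· * c0) := by
      intro x hx
      refine Finset.mem_sdiff.2 ⟨Finset.mem_univ _, fun hx0 => hc ?_⟩
      obtain ⟨a, ha, rfl⟩ := Finset.mem_image.1 hx
      obtain ⟨b, hb, hab⟩ := Finset.mem_image.1 hx0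
      refine Finset.mem_image.2 ⟨a⁻¹ * b, ?_, ?_⟩
      · refine Finset.mem_filter.2 ⟨Finset.mem_univ _, mul_mem (inv_mem ?_) ?_⟩
        · exact (Finset.mem_filter.1 ha).2
        · exact (Finset.mem_filter.1 hb).2
      · rw [mul_assoc, hab, inv_mul_cancel_left]
    have h2 := Finset.sum_le_sum_of_subset_of_nonneg hsub
      (f := fun c => (w c : ℤ) * (w c : ℤ)) fun c _ _ => mul_self_nonneg _
    rw [hcoset c] at h2
    have h3 : (1 : ℤ) ≤ (w c : ℤ) * (w c : ℤ) := by
      have h3 : (1 : ℤ) ≤ w c := by exact_mod_cast (show 1 ≤ w c by omega)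
      nlinarith
    rw [hw0] at hsplit
    push_cast at hsplit
    have h4 := mul_le_mul_of_nonneg_left h3 (show (0 : ℤ) ≤ (f : ℤ) by positivity)
    linarith
  have hSf : S = f := by
    have h4 : ∑ c ∈ Finset.univ \ O.image (· * c0), (w c : ℤ) * (w c : ℤ) = 0 :=
      Finset.sum_eq_zero fun c hc => by simp [hout c (Finset.mem_sdiff.1 hc).2]
    rw [h4, hw0] at hsplit
    simp only [zero_add, Nat.cast_one, mul_one] at hsplit
    exact hsplit.symm
  have hws : ∑ c, (w c : ℤ) = f := by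
    rw [← hSf]
    refine Finset.sum_congr rfl fun c _ => ?_
    by_cases hc : c ∈ O.image (· * c0)
    · obtain ⟨x, hx, rfl⟩ := Finset.mem_image.1 hc
      simp [hwinv x (Finset.mem_filter.1 hx).2, hw0]
    · simp [hout c hc]
  have hnm : n = m 0 + f := by omega
  obtain ⟨a, ha⟩ : ∃ a, θ ≠ T a := by
    by_contra h
    push Not at h
    rw [hws, hSf] at htot
    simp [← h] at htot
    nlinarith
  -- the regular part is positive
  have hR : p * (m 0 * m 0) < (m 0 + f) * (m 0 + f) := by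
    set R : G → ℂ := fun g =>
      if p ∣ orderOf g then (θ : G → ℂ) g * conj ((θ : G → ℂ) g) else 0
    have hRcl : IsClassFunction G R := fun g x => by
      have ho : orderOf (x * g * x⁻¹) = orderOf g := by
        simpa using orderOf_injective (MulAut.conj x).toMonoidHom (MulAut.conj x).injective g
      simp only [R, ho, isCharacter_classFunction hθc g x]
    have h := D.sum_singular hP hRcl fun g hg => if_neg hg
    have hRv : ∀ (b : (ZMod p)ˣ) (z : D.K),
        R (D.u ^ (b : ZMod p).val * (z : G)) = η b * conj (η b) := fun b z => by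
      have hdiv : p ∣ orderOf (D.u ^ (b : ZMod p).val * (z : G)) := by
        have hc : Commute (D.u ^ (b : ZMod p).val) (z : G) :=
          Subgroup.mem_center_iff.1 (hKcen z.2) _
        have hbo : orderOf (D.u ^ (b : ZMod p).val) = p := by
          rw [Nat.Coprime.orderOf_pow (by
            rw [D.hup]
            exact hpf.out.coprime_iff_not_dvd.2 fun h =>
              b.ne_zero ((ZMod.val_eq_zero _).1 (Nat.eq_zero_of_dvd_of_lt h (ZMod.val_lt _))))]
          exact D.hup
        rw [hc.orderOf_mul_eq_mul_orderOf_of_coprime (by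
          rw [hbo]
          exact hpf.out.coprime_iff_not_dvd.2 fun h =>
            D.hKp (h.trans (Subgroup.orderOf_dvd_natCard _ z.2))), hbo]
        exact dvd_mul_right _ _
      simp only [R, if_pos hdiv, hT1]
    simp only [hRv, Finset.sum_const, Finset.card_univ, nsmul_eq_mul,
      ← Nat.card_eq_fintype_card, ← Finset.mul_sum] at h
    have hb : ∑ b : (ZMod p)ˣ, η b * conj (η b) =
        (p : ℂ) * ((m 0 * m 0 + f : ℕ) : ℂ) - (n : ℂ) * n := by
      have h1 := sum_char_mul hψp m 1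
      simp only [Units.val_one, one_mul] at h1
      rw [← Finset.add_sum_erase _ _ (Finset.mem_univ (0 : ZMod p))] at h1
      have h2 : ∑ x ∈ Finset.univ.erase (0 : ZMod p), η x * conj (η x) =
          ∑ b : (ZMod p)ˣ, η b * conj (η b) := by
        refine Finset.sum_bij' (fun x hx => Units.mk0 x (Finset.mem_erase.1 hx).1)
          (fun b _ => (b : ZMod p)) (fun _ _ => Finset.mem_univ _)
          (fun b _ => Finset.mem_erase.2 ⟨b.ne_zero, Finset.mem_univ _⟩) (fun _ _ => rfl)
          (fun b _ => Units.ext rfl) (fun _ _ => rfl)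
      have h3 : ∑ c, (m c : ℤ) * (m c : ℤ) = ((m 0 * m 0 + f : ℕ) : ℤ) := by
        rw [hunits]
        push_cast
        rw [← hSf]
      have h4 : ∑ c, (m c : ℂ) * (m c : ℂ) = ((m 0 * m 0 + f : ℕ) : ℂ) := by
        exact_mod_cast h3
      rw [h4] at h1
      rw [← h2, ← h1]
      show _ = η 0 * conj (η 0) + _ - _
      rw [hη0, Complex.conj_natCast]
      ring
    rw [hb] at h
    have hp0 : (p : ℂ) ≠ 0 := Nat.cast_ne_zero.2 hpf.out.ne_zero
    have hf0 : (f : ℂ) ≠ 0 := Nat.cast_ne_zero.2 (by omega)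
    rw [mul_comm ((f : ℂ) * (p : ℂ)) (Nat.card D.K : ℂ), mul_div_mul_left _ _ hKcast] at h
    have hlt : ((∑ g, R g) / (Nat.card G : ℂ)).re < 1 := by
      have hself := CfsgLib.Char.inner_self_eq_norm_sq (θ : G → ℂ)
      rw [irr_inner_self θ.2] at hself
      have hR2 : ∀ g, (R g).re ≤ ‖(θ : G → ℂ) g‖ ^ 2 := fun g => by
        simp only [R]
        split_ifs
        · rw [Complex.mul_conj']; norm_cast
        · simp
      have hlt' : ∑ g, (R g).re < ∑ g, ‖(θ : G → ℂ) g‖ ^ 2 := by
        refine Finset.sum_lt_sum (fun g _ => hR2 g) ⟨1, Finset.mem_univ _, ?_⟩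
        simp only [R, orderOf_one, Nat.dvd_one, hpf.out.ne_one, if_false, Complex.zero_re, hn1,
          Complex.norm_natCast]
        positivity
      rw [Complex.div_natCast_re, Complex.re_sum]
      have hG : (0 : ℝ) < Nat.card G := by exact_mod_cast Nat.card_pos
      rw [div_lt_one hG]
      have h5 : (Nat.card G : ℝ) = ∑ g, ‖(θ : G → ℂ) g‖ ^ 2 := by
        have h6 := congrArg Complex.re hself
        rw [Complex.one_re, Complex.ofReal_re] at h6
        field_simp at h6
        linarith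
      linarith
    rw [h] at hlt
    have hfp' : ((f : ℂ) * p).re = (f : ℝ) * p := by simp
    have hre : (((p : ℂ) * ((m 0 * m 0 + f : ℕ) : ℂ) - (n : ℂ) * n) / ((f : ℂ) * p)).re =
        ((p : ℝ) * (m 0 * m 0 + f) - (n : ℝ) * n) / ((f : ℝ) * p) := by
      have he : ((p : ℂ) * ((m 0 * m 0 + f : ℕ) : ℂ) - (n : ℂ) * n) / ((f : ℂ) * p) =
          ((((p : ℝ) * (m 0 * m 0 + f) - (n : ℝ) * n) / ((f : ℝ) * p) : ℝ) : ℂ) := by
        push_cast; ring
      rw [he, Complex.ofReal_re]
    rw [hre, div_lt_one (mul_pos (by exact_mod_cast (show 0 < f by omega))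
      (by exact_mod_cast hpf.out.pos))] at hlt
    rw [hnm] at hlt
    push_cast at hlt
    have : (p : ℝ) * ((m 0 : ℝ) * m 0) < ((m 0 : ℝ) + f) * ((m 0 : ℝ) + f) := by linarith
    exact_mod_cast this
  -- the non-exceptional characters of the principal block
  obtain ⟨M, hM⟩ := exists_isPModular hpf.out
  obtain ⟨X, Y, -, -, hXcard, -, εX, ε, hX, -⟩ := principal_block_prime hM hp2 P hP hf
  set ψ1 : G → ℂ := fun g => (θ : G → ℂ) g * conj ((θ : G → ℂ) g)
  set ψ2 : G → ℂ := fun g => (θ : G → ℂ) g * conj ((T a : G → ℂ) g)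
  have hψ1c : IsCharacter G ψ1 := isCharacter_mul hθc (isCharacter_conj hθc)
  have hψ2c : IsCharacter G ψ2 := isCharacter_mul hθc (isCharacter_conj (T a).2.isCharacter')
  have hone1 : classInner ψ1 (fun _ => 1) = ((1 : ℕ) : ℂ) := by
    refine Eq.trans ?_ ((irr_inner_self θ.2).trans Nat.cast_one.symm)
    simp [classInner, ψ1]
  have hone2 : classInner ψ2 (fun _ => 1) = ((0 : ℕ) : ℂ) := by
    refine Eq.trans ?_ ((irr_inner_ne θ.2 (T a).2 fun h => ha (Subtype.ext h)).trans
      Nat.cast_zero.symm)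
    simp [classInner, ψ2]
  have hTd : (T a : G → ℂ) 1 = (n : ℂ) := by
    rw [hTreg a 1 (by simp [hpf.out.ne_one]), hn1]
  have hdeg1 : ψ1 1 = ((n * n : ℕ) : ℂ) := by simp [ψ1, hn1]
  have hdeg2 : ψ2 1 = ((n * n : ℕ) : ℂ) := by simp [ψ2, hn1, hTd]
  have hdiff : ∀ χ ∈ X, classInner ψ1 (χ : G → ℂ) - classInner ψ2 (χ : G → ℂ) = εX χ := by
    intro χ hχ
    obtain ⟨-, -, hv⟩ := hX χ hχ
    have hcl : IsClassFunction G (fun g => φ a g * conj ((χ : G → ℂ) g)) := fun g x => by
      simp only [hφcl a g x, isCharacter_classFunction χ.2.isCharacter' g x]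
    have h1 := D.sum_singular hP hcl fun g hg => by simp [hφreg a g hg]
    have h2 := D.sum_singular hP (hφcl a) (hφreg a)
    rw [havg a, if_neg ha, sub_zero] at h2
    have hlhs : (∑ g, φ a g * conj ((χ : G → ℂ) g)) / (Nat.card G : ℂ) =
        classInner ψ1 (χ : G → ℂ) - classInner ψ2 (χ : G → ℂ) := by
      simp only [φ, classInner, ψ1, ψ2, sub_mul, Finset.sum_sub_distrib, div_eq_inv_mul, mul_sub]
    rw [← hlhs, h1]
    have hconst : ∀ (b : (ZMod p)ˣ) (z : D.K),
        φ a (D.u ^ (b : ZMod p).val * (z : G)) *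
          conj ((χ : G → ℂ) (D.u ^ (b : ZMod p).val * (z : G))) =
        φ a (D.u ^ (b : ZMod p).val * (z : G)) * (εX χ : ℂ) := by
      intro b z
      have hne : D.u ^ (b : ZMod p).val ≠ 1 := by
        intro h0
        have h5 := orderOf_dvd_iff_pow_eq_one.2 h0
        rw [D.hup] at h5
        exact b.ne_zero ((ZMod.val_eq_zero _).1 (Nat.eq_zero_of_dvd_of_lt h5 (ZMod.val_lt _)))
      rw [hv _ (pow_mem D.u_mem _) hne _ (D.hKC z.2) fun h =>
        D.hKp (h.trans (Subgroup.orderOf_dvd_natCard _ z.2)), map_intCast]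
    simp only [hconst, ← Finset.sum_mul, mul_div_right_comm]
    rw [← h2, one_mul]
  set Xf : Finset (IrrCharacter G) :=
    (Finset.univ.filter fun χ => χ ∈ X).erase (trivIrr G)
  have hXf : f ≤ Xf.card + 1 := by
    have h1 : (Finset.univ.filter fun χ => χ ∈ X).card = f := by
      rw [← hXcard, Nat.card_eq_fintype_card, Fintype.card_subtype]
    have h2 : (Finset.univ.filter fun χ => χ ∈ X).card - 1 ≤ Xf.card :=
      Finset.pred_card_le_card_erase
    omega
  have hnatc : ∀ χ : IrrCharacter G, ∃ i j : ℕ, classInner ψ1 (χ : G → ℂ) = i ∧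
      classInner ψ2 (χ : G → ℂ) = j := fun χ => by
    obtain ⟨i, hi⟩ := inner_character_nat hψ1c χ.2.isCharacter'
    obtain ⟨j, hj⟩ := inner_character_nat hψ2c χ.2.isCharacter'
    exact ⟨i, j, hi, hj⟩
  have hXmem : ∀ χ ∈ Xf, χ ≠ trivIrr G ∧ χ ∈ X := fun χ hχ =>
    ⟨(Finset.mem_erase.1 hχ).1, (Finset.mem_filter.1 (Finset.mem_erase.1 hχ).2).2⟩
  have hdegX : ∀ χ ∈ Xf,
      (εX χ = 1 → charDegree (χ : G → ℂ) = p + 1 ∨ p + 3 ≤ charDegree (χ : G → ℂ)) ∧
      (εX χ = -1 → charDegree (χ : G → ℂ) = p - 1 ∨ p + 1 ≤ charDegree (χ : G → ℂ)) := by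
    intro χ hχ
    obtain ⟨hne, hmem⟩ := hXmem χ hχ
    obtain ⟨-, hmod, -⟩ := hX χ hmem
    have h1 := charDegree_pos χ
    have h2 : charDegree (χ : G → ℂ) ≠ 1 := fun h => hne (hlin χ h)
    obtain ⟨l, hl⟩ := Int.modEq_iff_dvd.1 hmod
    constructor <;> intro he <;> rw [he] at hl
    · have hl0 : l < 0 := by
        by_contra hcon
        have : 0 ≤ (p : ℤ) * l := mul_nonneg (by positivity) (not_lt.1 hcon)
        omega
      rcases (show l = -1 ∨ l ≤ -2 by omega) with rfl | hl2
      · left; omega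
      · right
        have : (p : ℤ) * l ≤ (p : ℤ) * (-2) := mul_le_mul_of_nonneg_left hl2 (by positivity)
        omega
    · have hl0 : l < 0 := by
        by_contra hcon
        have : 0 ≤ (p : ℤ) * l := mul_nonneg (by positivity) (not_lt.1 hcon)
        omega
      rcases (show l = -1 ∨ l ≤ -2 by omega) with rfl | hl2
      · left; omega
      · right
        have : (p : ℤ) * l ≤ (p : ℤ) * (-2) := mul_le_mul_of_nonneg_left hl2 (by positivity)
        omega
  have hplus := degree_count hψ1c hdeg1 hone1 (Xf.filter fun χ => εX χ = 1) (d := p + 1)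
    (fun h => (hXmem _ (Finset.mem_filter.1 h).1).1 rfl) hlin
    (fun χ hχ => by
      obtain ⟨hχX, hε⟩ := Finset.mem_filter.1 hχ
      refine ⟨fun h0 => ?_, (hdegX χ hχX).1 hε⟩
      have h1 := hdiff χ (hXmem χ hχX).2
      obtain ⟨i, j, hi, hj⟩ := hnatc χ
      rw [h0, hj, hε] at h1
      have h2 : (0 : ℤ) - (j : ℤ) = 1 := by exact_mod_cast h1
      omega)
    (Or.inl (by omega))
  have hminus := degree_count hψ2c hdeg2 hone2 (Xf.filter fun χ => ¬ εX χ = 1) (d := p - 1)
    (fun h => (hXmem _ (Finset.mem_filter.1 h).1).1 rfl) hlin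
    (fun χ hχ => by
      obtain ⟨hχX, hε⟩ := Finset.mem_filter.1 hχ
      have hε' : εX χ = -1 := ((hX χ (hXmem χ hχX).2).1).resolve_left hε
      refine ⟨fun h0 => ?_, ?_⟩
      · have h1 := hdiff χ (hXmem χ hχX).2
        obtain ⟨i, j, hi, hj⟩ := hnatc χ
        rw [h0, hi, hε'] at h1
        have h2 : (i : ℤ) - 0 = -1 := by exact_mod_cast h1
        omega
      · have := (hdegX χ hχX).2 hε'
        omega)
    (Or.inl (by omega))
  have hcard := Finset.card_filter_add_card_filter_not (s := Xf) (p := fun χ => εX χ = 1)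
  rw [hnm] at hplus hminus
  exact smallDeg_numeric hpodd hf2 hfp (by omega) hR (by omega)
    (a := (Xf.filter fun χ => εX χ = 1).card) (b := (Xf.filter fun χ => ¬ εX χ = 1).card)
    (by omega) (by omega) (by omega) (by omega)

end Main

/-- **Brauer**: a faithful character of a group whose order is divisible by `p` exactly once,
without a normal subgroup of order `p`, has degree at least `(p - 1) / 2`. -/
theorem faithful_degree_bound {G : Type u} [Group G] [Finite G] {p : ℕ} (hp : p.Prime)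
    (hdiv : p ∣ Nat.card G) (hsq : ¬ p ^ 2 ∣ Nat.card G)
    (hnn : ∀ H : Subgroup G, H.Normal → Nat.card H ≠ p) {χ : G → ℂ} (hχ : IsCharacter G χ)
    (hfaith : ∀ g : G, χ g = χ 1 → g = 1) : p ≤ 2 * charDegree χ + 1 := by
  have : Fintype G := Fintype.ofFinite G
  have : Fact p.Prime := ⟨hp⟩
  by_contra hlt
  obtain ⟨P⟩ := (inferInstance : Nonempty (Sylow p G))
  have hfac : (Nat.card G).factorization p = 1 := by
    have h1 := (hp.dvd_iff_one_le_factorization Nat.card_pos.ne').1 hdiv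
    have h2 : ¬ 2 ≤ (Nat.card G).factorization p := fun h =>
      hsq ((hp.pow_dvd_iff_le_factorization Nat.card_pos.ne').2 h)
    omega
  have hP : Nat.card P = p := by rw [Sylow.card_eq_multiplicity, hfac, pow_one]
  -- pass to the subgroup generated by the conjugates of P
  set K := Subgroup.normalClosure ((P : Subgroup G) : Set G)
  have hPK : (P : Subgroup G) ≤ K := Subgroup.subset_normalClosure
  set PK : Sylow p K := P.subtype hPK
  have hPKc : Nat.card PK = p := by
    exact (Nat.card_congr (Subgroup.subgroupOfEquivOfLe hPK).toEquiv).trans hP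
  have hgenK : ∀ H : Subgroup K, H.Normal → (PK : Subgroup K) ≤ H → H = ⊤ := by
    intro H hH hle
    suffices hKH : K ≤ H.map K.subtype by
      rw [eq_top_iff]
      rintro ⟨x, hx⟩ -
      obtain ⟨y, hy, hyx⟩ := hKH hx
      exact (Subtype.ext hyx : y = ⟨x, hx⟩) ▸ hy
    refine (Subgroup.closure_le _).2 fun x hx => ?_
    obtain ⟨y, hy, hconj⟩ := Group.mem_conjugatesOfSet_iff.1 hx
    obtain ⟨g, rfl⟩ := isConj_iff.1 hconj
    have hle2 : ((g • P : Sylow p G) : Subgroup G) ≤ K := by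
      intro z hz
      rw [Sylow.coe_subgroup_smul, Subgroup.mem_pointwise_smul_iff_inv_smul_mem] at hz
      have h2 : g * ((MulAut.conj g)⁻¹ • z) * g⁻¹ ∈ K :=
        (Subgroup.normalClosure_normal (s := ((P : Subgroup G) : Set G))).conj_mem _ (hPK hz) g
      have h3 : g * ((MulAut.conj g)⁻¹ • z) * g⁻¹ = z := by
        simp [MulAut.smul_def, mul_assoc]
      rwa [h3] at h2
    obtain ⟨k, hk⟩ := MulAction.exists_smul_eq K PK ((g • P : Sylow p G).subtype hle2)
    have hgy : (MulAut.conj g)⁻¹ • (g * y * g⁻¹) = y := by simp [MulAut.smul_def, mul_assoc]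
    have hxm : (⟨g * y * g⁻¹, hle2 (by
        rw [Sylow.coe_subgroup_smul, Subgroup.mem_pointwise_smul_iff_inv_smul_mem, hgy]
        exact hy)⟩ : K) ∈
        (((g • P : Sylow p G).subtype hle2 : Sylow p K) : Subgroup K) := by
      rw [Sylow.coe_subtype, Subgroup.mem_subgroupOf]
      show g * y * g⁻¹ ∈ ((g • P : Sylow p G) : Subgroup G)
      rw [Sylow.coe_subgroup_smul, Subgroup.mem_pointwise_smul_iff_inv_smul_mem, hgy]
      exact hy
    rw [← hk, Sylow.coe_subgroup_smul, Subgroup.mem_pointwise_smul_iff_inv_smul_mem] at hxm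
    have h2 := hH.conj_mem _ (hle hxm) k
    refine ⟨_, h2, ?_⟩
    simp [MulAut.smul_def, mul_assoc]
  have hPKn : ¬ (PK : Subgroup K).Normal := by
    intro hn
    have htop := hgenK _ hn le_rfl
    have hKP : K ≤ (P : Subgroup G) := fun x hx =>
      Subgroup.mem_subgroupOf.1 (show (⟨x, hx⟩ : K) ∈ (P : Subgroup G).subgroupOf K from
        (show (PK : Subgroup K) = (P : Subgroup G).subgroupOf K from rfl) ▸
          (htop ▸ Subgroup.mem_top _))
    have : (P : Subgroup G) = K := le_antisymm hPK hKP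
    exact hnn _ (this ▸ Subgroup.normalClosure_normal) hP
  -- a constituent nontrivial on P
  obtain ⟨⟨u, huP⟩, hu1⟩ : ∃ u : (P : Subgroup G), u ≠ 1 := by
    have : Nontrivial (P : Subgroup G) :=
      Finite.one_lt_card_iff_nontrivial.1 (by rw [hP]; exact hp.one_lt)
    exact exists_ne 1
  have hψ : IsCharacter K (fun x : K => χ x) := isCharacter_restrict hχ K
  have : Fintype K := Fintype.ofFinite K
  set uK : K := ⟨u, hPK huP⟩
  obtain ⟨θ, hθc, hθu⟩ : ∃ θ : IrrCharacter K,
      classInner (fun x : K => χ x) (θ : K → ℂ) ≠ 0 ∧ (θ : K → ℂ) uK ≠ (θ : K → ℂ) 1 := by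
    by_contra hcon
    push Not at hcon
    refine hu1 (Subtype.ext (hfaith u ?_))
    have h1 := congrFun (classFunction_eq_sum _ (isCharacter_classFunction hψ)) uK
    have h2 := congrFun (classFunction_eq_sum _ (isCharacter_classFunction hψ)) 1
    simp only [Finset.sum_apply, Pi.smul_apply, smul_eq_mul] at h1 h2
    have h3 : χ (uK : G) = χ ((1 : K) : G) := by
      rw [h1, h2]
      refine Finset.sum_congr rfl fun θ _ => ?_
      by_cases hc : classInner (fun x : K => χ x) (θ : K → ℂ) = 0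
      · simp [hc]
      · rw [hcon θ hc]
    simpa [uK] using h3
  have hθdeg : charDegree (θ : K → ℂ) ≤ charDegree χ := by
    have h1 := congrFun (classFunction_eq_sum _ (isCharacter_classFunction hψ)) 1
    simp only [Finset.sum_apply, Pi.smul_apply, smul_eq_mul, Subgroup.coe_one,
      ← charDegree_cast hχ, ← charDegree_cast (IsIrrCharacter.isCharacter' (Subtype.prop _))] at h1
    choose c hc using fun η : IrrCharacter K => inner_character_nat hψ η.2.isCharacter'
    simp only [hc] at h1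
    have h2 : charDegree χ = ∑ η, c η * charDegree (η : K → ℂ) := by exact_mod_cast h1
    rw [h2]
    have hc1 : 1 ≤ c θ := Nat.one_le_iff_ne_zero.2 fun h => hθc (by rw [hc, h, Nat.cast_zero])
    calc charDegree (θ : K → ℂ) = 1 * charDegree (θ : K → ℂ) := (one_mul _).symm
      _ ≤ c θ * charDegree (θ : K → ℂ) := Nat.mul_le_mul_right _ hc1
      _ ≤ _ := Finset.single_le_sum (f := fun η => c η * charDegree (η : K → ℂ))
          (fun _ _ => Nat.zero_le _) (Finset.mem_univ θ)
  -- pass to the quotient by the kernel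
  set L := charKer θ.2.isCharacter'
  have huL : uK ∉ L := fun h => hθu h
  have hLp : ¬ p ∣ Nat.card L := fun h =>
    huL (sylow_le_of_normal hPKc h (show uK ∈ (PK : Subgroup K) from huP))
  obtain ⟨θ', hθ'c, hθ'eq, hθ'irr⟩ := exists_deflate θ.2.isCharacter' (QuotientGroup.mk' L)
    (QuotientGroup.mk'_surjective L) fun k hk => by
      rw [QuotientGroup.ker_mk'] at hk
      exact hk
  have : Fintype (K ⧸ L) := Fintype.ofFinite _
  set PL : Sylow p (K ⧸ L) := PK.mapSurjective (QuotientGroup.mk'_surjective L)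
  have hPLc : Nat.card PL = p := by
    refine Eq.trans ?_ hPKc
    refine (Nat.card_congr (Equiv.ofBijective
      (fun x : (PK : Subgroup K) => (⟨QuotientGroup.mk' L x.1, ⟨x.1, x.2, rfl⟩⟩ :
        (PL : Subgroup (K ⧸ L)))) ⟨fun x y hxy => ?_, ?_⟩)).symm
    · have h1 : (x.1 : K ⧸ L) = (y.1 : K ⧸ L) := congrArg Subtype.val hxy
      rw [QuotientGroup.eq] at h1
      have h2 : x.1⁻¹ * y.1 ∈ (PK : Subgroup K) := mul_mem (inv_mem x.2) y.2
      refine Subtype.ext ?_
      rw [← inv_mul_eq_one, ← orderOf_eq_one_iff]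
      have ha : orderOf (x.1⁻¹ * y.1) ∣ p := by
        have := Subgroup.orderOf_dvd_natCard _ h2
        rwa [hPKc] at this
      exact Nat.eq_one_of_dvd_coprimes (hp.coprime_iff_not_dvd.2 hLp) ha
        (Subgroup.orderOf_dvd_natCard _ h1)
    · rintro ⟨_, x, hx, rfl⟩
      exact ⟨⟨x, hx⟩, rfl⟩
  have hgenL : ∀ H : Subgroup (K ⧸ L), H.Normal → (PL : Subgroup (K ⧸ L)) ≤ H → H = ⊤ := by
    intro H hH hle
    have h1 := hgenK (H.comap (QuotientGroup.mk' L)) inferInstance fun x hx =>
      Subgroup.mem_comap.2 (hle ⟨x, hx, rfl⟩)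
    refine Subgroup.comap_injective (QuotientGroup.mk'_surjective L) ?_
    rw [h1, Subgroup.comap_top]
  have hPLn : ¬ (PL : Subgroup (K ⧸ L)).Normal := by
    intro hn
    -- then K = P L with L central, so P is normal in K
    have htop := hgenL _ hn le_rfl
    have hLc : ∀ l ∈ L, ∀ x ∈ (PK : Subgroup K), l * x = x * l := by
      obtain ⟨d, ρ, hρ⟩ := hχ
      let ρK : Representation ℂ K (Fin d → ℂ) := ρ.comp K.subtype
      have hinj : Function.Injective ρK := by
        intro a b hab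
        have h1 : ρ ((a⁻¹ * b : K) : G) = 1 := by
          show ρK (a⁻¹ * b) = 1
          rw [map_mul, ← hab, ← map_mul, inv_mul_cancel, map_one]
        have h2 : ((a⁻¹ * b : K) : G) = 1 :=
          hfaith _ (by rw [← hρ]; exact (char_eq_one_iff ρ _).2 h1)
        exact inv_mul_eq_one.1 (Subtype.ext h2)
      have hd : d = charDegree χ := by
        have h := congrFun hρ 1
        rw [Representation.char_one, Module.finrank_fin_fun] at h
        have h2 := charDegree_cast (χ := χ) ⟨d, ρ, hρ⟩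
        rw [← h] at h2
        exact_mod_cast h2.symm
      intro l hl x hx
      have hxo : x ^ p = 1 := by
        have := Subgroup.orderOf_dvd_natCard _ hx
        rw [hPKc] at this
        exact orderOf_dvd_iff_pow_eq_one.1 this
      have hxp : IsPGroup p (Subgroup.zpowers x) := by
        refine PK.2.to_le ?_
        rw [Subgroup.zpowers_le]; exact hx
      have h3 := CfsgLib.SmallDegree.centralizes_coprime ρK hinj (by omega) x hxp
        (by rw [hxo]; exact one_mem _) L hLp
        (by rw [Subgroup.normalizer_eq_top_iff.2 inferInstance]; exact Subgroup.mem_top _)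
      exact Subgroup.mem_centralizer_iff.1 h3 l hl
    refine hPKn ⟨fun x hx g => ?_⟩
    obtain ⟨y, hy, hyg⟩ := (htop ▸ Subgroup.mem_top (g : K ⧸ L) :
      (g : K ⧸ L) ∈ (PL : Subgroup (K ⧸ L)))
    have hl : y⁻¹ * g ∈ L := QuotientGroup.eq.1 hyg
    have hg : g = y * (y⁻¹ * g) := by group
    rw [hg, show y * (y⁻¹ * g) * x * (y * (y⁻¹ * g))⁻¹ =
      y * ((y⁻¹ * g) * x * (y⁻¹ * g)⁻¹) * y⁻¹ by group, hLc _ hl x hx, mul_inv_cancel_right]
    exact mul_mem (mul_mem hy hx) (inv_mem hy)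
  refine smallDeg_core PL hPLc hgenL hPLn ⟨θ', hθ'irr θ.2⟩ ?_ ?_
  · intro g hg
    induction g using QuotientGroup.induction_on with | _ g => ?_
    refine (QuotientGroup.eq_one_iff g).2 ?_
    show (θ : K → ℂ) g = (θ : K → ℂ) 1
    rw [← hθ'eq]
    exact hg
  · have hd' : charDegree θ' = charDegree (θ : K → ℂ) := by
      unfold charDegree
      have h := congrFun hθ'eq 1
      simp only [Function.comp_apply, map_one] at h
      rw [h]
    show 2 * charDegree θ' + 1 < p
    omega

end CfsgLib.Block
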