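import Cfsg.Agent.Lib.BlockNilExpand
import Cfsg.Agent.Lib.BlockGalInt
import Cfsg.Agent.Lib.BlockBound

/-!
# Subsections with a block of rank one
-/

set_option autoImplicit false
set_option linter.style.haveILetI false
set_option linter.unusedSectionVars false

namespace CfsgLib.Block

open Cfsg CfsgLib.Char
open scoped ComplexConjugate Classical

universe u

variable {G : Type u} [Group G] [Fintype G] {p : ℕ} {M : Ideal AlgInt}

/-- The structure data of a nilpotent block. -/
def NilData (p : ℕ) (B : Set (IrrCharacter G)) : Prop :=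
  ∃ χ₀ ∈ B, blockHeight p B (χ₀ : G → ℂ) = 0 ∧ blockMat p B χ₀ χ₀ = 1 ∧
    ∀ ξ ∈ B, ∃ n : ℤ, regPart p (ξ : G → ℂ) = (n : ℂ) • regPart p (χ₀ : G → ℂ)

theorem regPart_apply_regular {f : G → ℂ} {g : G} (hg : ¬ p ∣ orderOf g) : regPart p f g = f g := by
  simp [regPart, hg]

theorem eq_mul_of_regPart_eq {f h : G → ℂ} {c : ℂ} (e : regPart p f = c • regPart p h) {g : G}
    (hg : ¬ p ∣ orderOf g) : f g = c * h g := by
  have := congrFun e g
  rwa [Pi.smul_apply, smul_eq_mul, regPart_apply_regular hg, regPart_apply_regular hg] at this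

theorem blockMat_eq_sum (B : Set (IrrCharacter G)) (ξ η : IrrCharacter G) :
    blockMat p B ξ η = (p : ℂ) ^ blockDefect p B * ((Nat.card G : ℂ)⁻¹ *
      ∑ g ∈ Finset.univ.filter (fun g => ¬ p ∣ orderOf g), (ξ : G → ℂ) g * conj ((η : G → ℂ) g)) := by
  rw [blockMat, CfsgLib.Char.inner_smul_left, classInner_regPart]

/-- The value of the linear character of a central element. -/
noncomputable def centVal (χ : IrrCharacter G) (z : G) : ℂ := (χ : G → ℂ) z / (χ : G → ℂ) 1

theorem centVal_spec (χ : IrrCharacter G) {z : G} (hz : z ∈ Subgroup.center G) :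
    centVal χ z ^ orderOf z = 1 ∧ ∀ v, (χ : G → ℂ) (z * v) = centVal χ z * (χ : G → ℂ) v := by
  obtain ⟨ω, hω, hv⟩ := irr_central_mul χ hz
  have e : centVal χ z = ω := by
    have h1 := hv 1
    rw [mul_one] at h1
    rw [centVal, h1, mul_div_assoc, div_self (irr_one_ne_zero χ), mul_one]
  rw [e]
  exact ⟨hω, hv⟩

theorem centVal_mul (χ : IrrCharacter G) {z w : G} (hz : z ∈ Subgroup.center G) :
    centVal χ (z * w) = centVal χ z * centVal χ w := by
  rw [centVal, centVal, centVal, ← mul_div_assoc]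
  congr 1
  exact (centVal_spec χ hz).2 w

theorem centVal_one (χ : IrrCharacter G) : centVal χ 1 = 1 := div_self (irr_one_ne_zero χ)

theorem centVal_mul_conj (χ : IrrCharacter G) {z : G} (hz : z ∈ Subgroup.center G) :
    centVal χ z * conj (centVal χ z) = 1 := by
  have h := (centVal_spec χ hz).1
  rw [← CfsgLib.Char.inv_eq_conj_of_pow_eq_one (orderOf_pos z) h]
  refine mul_inv_cancel₀ fun h0 => ?_
  rw [h0, zero_pow (orderOf_pos z).ne'] at h
  exact zero_ne_one h

theorem centVal_pow (χ : IrrCharacter G) {z : G} (hz : z ∈ Subgroup.center G) (k : ℕ) :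
    centVal χ (z ^ k) = centVal χ z ^ k := by
  induction k with
  | zero => simp [centVal_one]
  | succ k ih => rw [pow_succ', centVal_mul χ hz, ih, pow_succ']

variable {hM : IsPModular p M} {B : Set (IrrCharacter G)} {P : Subgroup G}
  {ψ : G → ResField M}

theorem isInduced_top_block {H : Subgroup G} (hH : H = ⊤) {e : Set (IrrCharacter H)}
    (he : IsPBlock M e) (hB : IsPBlock M B)
    (hpair : gconv (gFn hM B) (bFn hM H e) = bFn hM H e) :
    subgroupBlockCoeff H e = blockCoeff B := by
  subst hH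
  set φ : (⊤ : Subgroup G) ≃* G := Subgroup.topEquiv with hφ
  have hcoe : ∀ g : G, subgroupBlockCoeff (⊤ : Subgroup G) e g = blockCoeff (irrMap φ '' e) g := by
    intro g
    have h1 := subgroupBlockCoeff_coe (⊤ : Subgroup G) e ⟨g, Subgroup.mem_top g⟩
    rw [h1, ← blockCoeff_irrMap φ e ⟨g, Subgroup.mem_top g⟩]
    rfl
  have he' : IsPBlock M (irrMap φ '' e) := isPBlock_irrMap φ he
  have hfn : bFn hM (⊤ : Subgroup G) e = gFn hM (irrMap φ '' e) := by
    funext g
    simp only [bFn, gFn, hcoe]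
  rw [hfn, gFn_mul_gFn hM hB he'] at hpair
  by_cases h : B = irrMap φ '' e
  · funext g
    rw [hcoe, ← h]
  · rw [if_neg h] at hpair
    exact absurd hpair.symm (gFn_ne_zero hM he')

theorem subCoef_central [Fact p.Prime] (hψ : MaxPair hM B P ψ) {z : G} (hz : z ∈ P)
    (hzc : z ∈ Subgroup.center G) : subCoef hψ.1.1 z = blockCoeff B := by
  obtain ⟨f, hf, hfe, hcf⟩ := exists_subBlock hψ.1.1 hz
  have hpair := ((chain_subFn hψ.1.1 (Subgroup.zpowers_le.2 hz)).pairIn_iff B).1 hψ.1
  have htop : Subgroup.centralizer ({z} : Set G) = ⊤ := by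
    rw [eq_top_iff]
    intro g _
    exact Subgroup.mem_centralizer_singleton_iff.2 (Subgroup.mem_center_iff.1 hzc g)
  rw [hcf]
  refine isInduced_top_block (hM := hM) htop hf hψ.1.2.1 ?_
  have h3 := hpair.2.2
  rw [trc_eq_self (fun g hg => absurd (by rw [centralizer_zpowers, htop]; trivial) hg)] at h3
  rw [hfe]
  exact h3

theorem subInner_central [Fact p.Prime] (hψ : MaxPair hM B P ψ) {z : G} (hz : z ∈ P)
    (hzc : z ∈ Subgroup.center G) {ξ η : IrrCharacter G} (hξ : ξ ∈ B) (hη : η ∈ B) :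
    subInner hψ.1.1 z (ξ : G → ℂ) (η : G → ℂ) =
      centVal ξ z * conj (centVal η z) * blockMat p B ξ η := by
  have htop : ∀ g : G, g ∈ Subgroup.centralizer ({z} : Set G) := fun g =>
    Subgroup.mem_centralizer_singleton_iff.2 (Subgroup.mem_center_iff.1 hzc g)
  have hsec : ∀ χ : IrrCharacter G, χ ∈ B → ∀ y, secFun z (blockCoeff B) (χ : G → ℂ) y =
      centVal χ z * (χ : G → ℂ) y := by
    intro χ hχ y
    rw [secFun]
    calc ∑ c, blockCoeff B c * (χ : G → ℂ) (z * (c * y))
        = ∑ c, centVal χ z * (coef (indVal B) c * (χ : G → ℂ) (c * y)) := by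
          refine Finset.sum_congr rfl fun c _ => ?_
          rw [(centVal_spec χ hzc).2, blockCoeff_eq_coef]
          ring
      _ = _ := by
          rw [← Finset.mul_sum, sum_coef_mul_irr]
          simp [indVal, hχ]
  rw [subInner, subCoef_central hψ hz hzc, secInner, blockMat_eq_sum]
  have hdom : secDom p z = Finset.univ.filter (fun g => ¬ p ∣ orderOf g) := by
    ext g
    simp [mem_secDom, htop g]
  have hcG : Nat.card (Subgroup.centralizer ({z} : Set G)) = Nat.card G := by
    rw [show Subgroup.centralizer ({z} : Set G) = ⊤ from eq_top_iff.2 fun g _ => htop g]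
    exact Subgroup.card_top
  have hcP : (Nat.card (P ⊓ Subgroup.centralizer ({z} : Set G) : Subgroup G) : ℂ) =
      (p : ℂ) ^ blockDefect p B := by
    rw [inf_eq_left.2 fun g _ => htop g, card_defectGroup hM hψ.1.2.1 hψ.isDefectGroup]
    push_cast
    rfl
  rw [hdom, hcG, hcP, Finset.mul_sum, Finset.mul_sum, Finset.mul_sum, Finset.mul_sum,
    Finset.mul_sum]
  refine Finset.sum_congr rfl fun g _ => ?_
  rw [hsec ξ hξ, hsec η hη, map_mul]
  ring

theorem nilpotent_sub [Fact p.Prime] (hψ : MaxPair hM B P ψ) (hnil : IsNilpotentBlock p M B)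
    {Q : Subgroup G} (hQP : Q ≤ P) {H : Subgroup G} (hH : H = Subgroup.centralizer (Q : Set G))
    {f : Set (IrrCharacter H)} (hf : IsPBlock M f) (hfe : bFn hM H f = subFn hψ.1.1 Q) :
    IsNilpotentBlock p M f ∧
      IsDefectGroup p M f ((P ⊓ Subgroup.centralizer (Q : Set G)).subgroupOf H) := by
  subst hH
  have hc : Chain hM (Q, pFn hM Q f) (P, ψ) := by
    rw [show pFn hM Q f = subFn hψ.1.1 Q from hfe]
    exact chain_subFn hψ.1.1 hQP
  exact ⟨nilpotent_centralizer hnil hf ((hc.pairIn_iff B).1 hψ.1),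
    isDefectGroup_centralizer_of_nilpotent hψ hnil hf hc⟩

theorem galVal_of_root {ζ₀ ω : ℂ} {N : ℕ} (hN : 0 < N) (hζ : IsPrimitiveRoot ζ₀ N)
    (hω : ω ^ N = 1) : GalVal p ζ₀ fun k => ω ^ k := by
  haveI : NeZero N := ⟨hN.ne'⟩
  obtain ⟨j, -, rfl⟩ := hζ.eq_pow_of_pow_eq_one hω
  exact galVal_root j

theorem exists_pow_eq_of_coprime {u : G} (hu : ∃ j, orderOf u = p ^ j) (hp : p.Prime) {k : ℕ}
    (hk : ¬ p ∣ k) : Subgroup.zpowers (u ^ k) = Subgroup.zpowers u := by
  obtain ⟨j, hj⟩ := hu
  obtain ⟨m, hm⟩ := exists_pow_eq_self_of_coprime (n := k) (x := u)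
    (hj ▸ Nat.Coprime.pow_right j ((hp.coprime_iff_not_dvd.2 hk).symm))
  refine le_antisymm (Subgroup.zpowers_le.2 (Subgroup.pow_mem _ (Subgroup.mem_zpowers u) k))
    (Subgroup.zpowers_le.2 ?_)
  have h2 := Subgroup.pow_mem _ (Subgroup.mem_zpowers (u ^ k)) m
  rwa [hm] at h2

/-- The data of a subsection with a block of rank one. -/
theorem exists_subDec [Fact p.Prime] (hψ : MaxPair hM B P ψ) (hnil : IsNilpotentBlock p M B)
    (ih : ∀ H : Subgroup G, H ≠ ⊤ → ∀ f : Set (IrrCharacter H), IsNilpotentBlock p M f →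
      NilData p f)
    {ζ₀ : ℂ} (hζ : IsPrimitiveRoot ζ₀ (Nat.card P)) {u : G} (hu : u ∈ P)
    (huc : u ∉ Subgroup.center G) :
    ∃ A : IrrCharacter G → ℕ → ℂ, (∀ ξ, GalVal p ζ₀ (A ξ)) ∧
      (∀ k, ¬ p ∣ k → ∀ ξ η : IrrCharacter G,
        subInner hψ.1.1 (u ^ k) (ξ : G → ℂ) (η : G → ℂ) = A ξ k * conj (A η k)) ∧
      ∀ i ∈ grpRing hM G, i * i = i → (∀ t ∈ P, ∀ g, i (t * g * t⁻¹) 1 = i g 1) →
        (∀ (Q : Subgroup G) (φ : G → ResField M), Chain hM (Q, φ) (P, ψ) →
          gconv φ (trc Q (redCol hM i)) = trc Q (redCol hM i)) →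
        ∃ m : ℂ, ∀ χ : IrrCharacter G, matVal hM (χ : G → ℂ) i u = A χ 1 * m := by
  have hP : IsPGroup p P := hψ.1.1.1
  have hp : p.Prime := hM.1
  have huk : ∃ j, orderOf u = p ^ j := by
    obtain ⟨j, hj⟩ := IsPGroup.iff_orderOf.1 hP ⟨u, hu⟩
    exact ⟨j, by rwa [← Subgroup.orderOf_coe] at hj⟩
  have hblk := exists_subBlock hψ.1.1 hu
  set H := Subgroup.centralizer ({u} : Set G) with hH
  obtain ⟨f, hf, hfe, hcf⟩ := hblk
  have hHt : H ≠ ⊤ := by
    intro ht
    refine huc (Subgroup.mem_center_iff.2 fun g => ?_)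
    have hg : g ∈ H := by rw [ht]; trivial
    exact Subgroup.mem_centralizer_singleton_iff.1 hg
  obtain ⟨hfn, hfD⟩ := nilpotent_sub hψ hnil (Subgroup.zpowers_le.2 hu) (centralizer_zpowers u).symm
    hf hfe
  obtain ⟨η₀, hη₀, -, hη1, hreg⟩ := ih _ hHt f hfn
  choose dn hdn using hreg
  have hcard : (p : ℂ) ^ blockDefect p f =
      (Nat.card (P ⊓ H : Subgroup G) : ℂ) := by
    rw [show P ⊓ H = P ⊓ Subgroup.centralizer ((Subgroup.zpowers u : Subgroup G) : Set G) by
        rw [centralizer_zpowers],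
      ← Nat.card_congr (Subgroup.subgroupOfEquivOfLe
        (show P ⊓ Subgroup.centralizer ((Subgroup.zpowers u : Subgroup G) : Set G) ≤ H from
          inf_le_right.trans (centralizer_zpowers u).le)).toEquiv,
      card_defectGroup hM hf hfD]
    push_cast
    rfl
  set u' : H := ⟨u, Subgroup.mem_centralizer_singleton_iff.2 rfl⟩ with hu'
  have hu'c : u' ∈ Subgroup.center H := Subgroup.mem_center_iff.2 fun g =>
    Subtype.ext (Subgroup.mem_centralizer_singleton_iff.1 g.2)
  set nm : IrrCharacter G → IrrCharacter H → ℂ := fun χ z =>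
    classInner (fun h : H => (χ : G → ℂ) h) (z : H → ℂ) with hnm
  set d' : IrrCharacter H → ℤ := fun z => if hz : z ∈ f then dn z hz else 0 with hd'
  refine ⟨fun χ k => ∑ z : IrrCharacter H, nm χ z * (d' z : ℂ) * centVal z u' ^ k,
    fun χ => ?_, ?_, ?_⟩
  · refine galVal_sum _ _ fun z _ => ?_
    obtain ⟨n, hn⟩ := inner_character_nat (isCharacter_restrict χ.2.isCharacter' H)
      z.2.isCharacter'
    have hroot : centVal z u' ^ Nat.card P = 1 := by
      have h1 : u' ^ Nat.card P = 1 := by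
        apply Subtype.ext
        have h2 : (⟨u, hu⟩ : P) ^ Nat.card P = 1 := pow_card_eq_one'
        have h3 := congrArg Subtype.val h2
        rw [Subgroup.coe_pow, Subgroup.coe_one] at h3 ⊢
        exact h3
      rw [← centVal_pow z hu'c, h1, centVal_one]
    refine GalVal.congr ((galVal_const (n : ℤ)).mul ((galVal_const (d' z)).mul
      (galVal_of_root Nat.card_pos hζ hroot))) fun k _ => ?_
    simp only [hnm]
    rw [hn]
    push_cast
    ring
  case refine_2 =>
    intro k hk ξ η
    have hz := exists_pow_eq_of_coprime huk hp hk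
    have hC : Subgroup.centralizer ({u ^ k} : Set G) = H := by
      rw [← centralizer_zpowers, hz, centralizer_zpowers]
    have hco : subCoef hψ.1.1 (u ^ k) = subgroupBlockCoeff H f := by
      rw [← hcf, subCoef, subCoef, hz, hC]
    have hval : ∀ (χ : IrrCharacter G) (s : H), ¬ p ∣ orderOf s →
        secFun (u ^ k) (subgroupBlockCoeff H f) (χ : G → ℂ) s =
          (∑ z : IrrCharacter H, nm χ z * (d' z : ℂ) * centVal z u' ^ k) * (η₀ : H → ℂ) s := by
      intro χ s hs
      have e1 : secFun (u ^ k) (subgroupBlockCoeff H f) (χ : G → ℂ) s =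
          ∑ c : H, blockCoeff f c * (χ : G → ℂ) ((u' ^ k * (c * s) : H) : G) := by
        rw [secFun, ← sum_ext0 H]
        refine Finset.sum_congr rfl fun c _ => ?_
        by_cases hc : c ∈ H
        · lift c to H using hc
          rw [ext0_coe, subgroupBlockCoeff_coe]
          simp [hu']
        · rw [subgroupBlockCoeff_not_mem _ _ hc, zero_mul, ext0, dif_neg hc]
      have hexp : ∀ h : H, (χ : G → ℂ) h = ∑ z : IrrCharacter H, nm χ z * (z : H → ℂ) h := by
        intro h
        have := congrFun (classFunction_eq_sum (fun h : H => (χ : G → ℂ) h)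
          (isCharacter_classFunction (isCharacter_restrict χ.2.isCharacter' H))) h
        simpa [Finset.sum_apply, hnm] using this
      rw [e1]
      simp only [hexp, (centVal_spec _ (Subgroup.pow_mem _ hu'c k)).2, centVal_pow _ hu'c,
        Finset.mul_sum]
      rw [Finset.sum_comm, Finset.sum_mul]
      refine Finset.sum_congr rfl fun z _ => ?_
      calc ∑ c : H, blockCoeff f c * (nm χ z * (centVal z u' ^ k * (z : H → ℂ) (c * s)))
          = nm χ z * centVal z u' ^ k * ∑ c : H, coef (indVal f) c * (z : H → ℂ) (c * s) := by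
            rw [Finset.mul_sum]
            refine Finset.sum_congr rfl fun c _ => ?_
            rw [blockCoeff_eq_coef]
            ring
        _ = _ := by
            rw [sum_coef_mul_irr]
            by_cases hzf : z ∈ f
            · rw [eq_mul_of_regPart_eq (hdn z hzf) hs]
              simp only [indVal, hd', if_pos hzf, dif_pos hzf]
              ring
            · simp [indVal, hd', hzf]
    rw [blockMat_eq_sum, hcard] at hη1
    rw [subInner, secInner, hco, hC, show secDom p (u ^ k) = secDom p u by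
      unfold secDom; rw [hC], sum_secDom]
    rw [Finset.sum_congr rfl fun s hs => by
      rw [hval ξ s (Finset.mem_filter.1 hs).2, hval η s (Finset.mem_filter.1 hs).2]]
    simp only [map_mul, Finset.mul_sum] at hη1 ⊢
    set a := ∑ z : IrrCharacter H, nm ξ z * (d' z : ℂ) * centVal z u' ^ k
    set b := conj (∑ z : IrrCharacter H, nm η z * (d' z : ℂ) * centVal z u' ^ k)
    calc _ = ∑ s ∈ Finset.univ.filter (fun s : H => ¬ p ∣ orderOf s), (a * b) *
          ((Nat.card (P ⊓ H : Subgroup G) : ℂ) * ((Nat.card H : ℂ)⁻¹ *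
            ((η₀ : H → ℂ) s * conj ((η₀ : H → ℂ) s)))) :=
          Finset.sum_congr rfl fun s _ => by ring
      _ = _ := by rw [← Finset.mul_sum, hη1, mul_one]
  case refine_3 =>
    intro i hi hii hiP hib
    have hc : Chain hM (Subgroup.zpowers u, bFn hM H f) (P, ψ) := by
      rw [hfe]
      exact chain_subFn hψ.1.1 (Subgroup.zpowers_le.2 hu)
    obtain ⟨Θ, hΘ⟩ := exists_section_theta hψ hi hii hiP hib hu hf hc
    refine ⟨(Nat.card H : ℂ)⁻¹ * ∑ b ∈ Finset.univ.filter (fun b : H => ¬ p ∣ orderOf b),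
      Θ b * (η₀ : H → ℂ) b, fun χ => ?_⟩
    rw [hΘ χ, Finset.mul_sum, Finset.mul_sum, Finset.mul_sum]
    refine Finset.sum_congr rfl fun b hb => ?_
    rw [blockPart_eq]
    simp only [Finset.mul_sum, Finset.sum_mul]
    refine Finset.sum_congr rfl fun z _ => ?_
    have htr : classInner (fun c : H => (χ : G → ℂ) (u * (c : G))) (z : H → ℂ) =
        centVal z u' * nm χ z := by
      have hexp : (fun c : H => (χ : G → ℂ) (u * (c : G))) =
          ∑ w : IrrCharacter H, (nm χ w * centVal w u') • (w : H → ℂ) := by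
        funext c
        have := congrFun (classFunction_eq_sum (fun h : H => (χ : G → ℂ) h)
          (isCharacter_classFunction (isCharacter_restrict χ.2.isCharacter' H))) (u' * c)
        simp only [Finset.sum_apply, Pi.smul_apply, smul_eq_mul] at this ⊢
        rw [show u * (c : G) = ((u' * c : H) : G) from rfl, this]
        refine Finset.sum_congr rfl fun w _ => ?_
        rw [(centVal_spec w hu'c).2]
        ring
      rw [hexp, inner_sum_left, Finset.sum_eq_single z]
      · rw [CfsgLib.Char.inner_smul_left, irr_inner_self z.2]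
        ring
      · intro w _ hw
        rw [CfsgLib.Char.inner_smul_left, irr_classInner, if_neg hw, mul_zero]
      · simp
    rw [htr]
    by_cases hzf : z ∈ f
    · rw [eq_mul_of_regPart_eq (hdn z hzf) (Finset.mem_filter.1 hb).2]
      simp only [indVal, hd', if_pos hzf, dif_pos hzf, pow_one]
      ring
    · simp [indVal, hd', hzf]

end CfsgLib.Block
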