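import Cfsg.Agent.Lib.BlockModSimple
import Mathlib.RingTheory.RootsOfUnity.Basic

/-!
# Fixed points modulo traces for a group of prime order
-/

set_option autoImplicit false
set_option linter.style.haveILetI false
set_option linter.unusedSectionVars false
set_option linter.unusedFintypeInType false

namespace CfsgLib.Block

open scoped Classical

universe u

section Free

variable {k : Type*} [Field k] {V : Type*} [AddCommGroup V] [Module k V]

/-- A sum over free orbits is a trace. -/
theorem exists_sum_eq_trace_of_free {P : Type*} [Group P] [Fintype P] {X : Type*}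
    [MulAction P X] (σ : P →* Module.End k V) (f : X → V) :
    ∀ s : Finset X, (∀ (u : P), ∀ x ∈ s, u • x ∈ s) → (∀ (u : P), ∀ x ∈ s, u • x = x → u = 1) →
      (∀ (u : P), ∀ x ∈ s, f (u • x) = σ u (f x)) →
      ∃ w : V, ∑ x ∈ s, f x = ∑ u : P, σ u w := by
  intro s
  induction s using Finset.strongInduction with
  | _ s ih =>
    intro hst hfree hf
    rcases s.eq_empty_or_nonempty with rfl | ⟨x, hx⟩
    · exact ⟨0, by simp⟩
    set O : Finset X := Finset.univ.image fun u : P => u • x
    have hO : O ⊆ s := by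
      intro y hy
      obtain ⟨u, -, rfl⟩ := Finset.mem_image.1 hy
      exact hst u x hx
    have hxO : x ∈ O := Finset.mem_image.2 ⟨1, Finset.mem_univ _, one_smul _ _⟩
    have hmem : ∀ (u : P) y, y ∈ s \ O → u • y ∈ s \ O := by
      intro u y hy
      obtain ⟨hys, hyO⟩ := Finset.mem_sdiff.1 hy
      refine Finset.mem_sdiff.2 ⟨hst u y hys, fun h => hyO ?_⟩
      obtain ⟨v, -, hv⟩ := Finset.mem_image.1 h
      exact Finset.mem_image.2 ⟨u⁻¹ * v, Finset.mem_univ _, by rw [mul_smul, hv, inv_smul_smul]⟩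
    obtain ⟨w, hw⟩ := ih (s \ O) (Finset.sdiff_ssubset hO ⟨x, hxO⟩) hmem
      (fun u y hy => hfree u y (Finset.mem_sdiff.1 hy).1)
      (fun u y hy => hf u y (Finset.mem_sdiff.1 hy).1)
    refine ⟨w + f x, ?_⟩
    rw [← Finset.sum_sdiff hO, hw]
    simp only [map_add, Finset.sum_add_distrib]
    congr 1
    rw [Finset.sum_image]
    · exact Finset.sum_congr rfl fun u _ => hf u x hx
    · intro u _ v _ huv
      have h := hfree (v⁻¹ * u) x hx (by rw [mul_smul]; simp only at huv; rw [huv, inv_smul_smul])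
      rwa [inv_mul_eq_one, eq_comm] at h

end Free

section Chain

variable {k : Type*} [Field k] {V : Type*} [AddCommGroup V] [Module k V] [FiniteDimensional k V]

/-- Projectors onto eigenspaces of an operator of finite order. -/
noncomputable def eigProj (Y : Module.End k V) (o : ℕ) (c : k) : Module.End k V :=
  (o : k)⁻¹ • ∑ i ∈ Finset.range o, (c⁻¹) ^ i • Y ^ i

variable {Y : Module.End k V} {o : ℕ} {ζ : k}

theorem mul_eigProj (hY : Y ^ o = 1) {c : k} (hc : c ^ o = 1) (ho : o ≠ 0) :
    Y * eigProj Y o c = c • eigProj Y o c := by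
  have hc0 : c ≠ 0 := fun h => by rw [h, zero_pow ho] at hc; exact zero_ne_one hc
  simp only [eigProj, mul_smul_comm, Finset.mul_sum, Finset.smul_sum, smul_smul]
  have hterm : ∀ i, c * ((o : k)⁻¹ * (c⁻¹) ^ (i + 1)) = (o : k)⁻¹ * (c⁻¹) ^ i := fun i => by
    rw [pow_succ]; field_simp
  let f : ℕ → Module.End k V := fun i => (c * ((o : k)⁻¹ * (c⁻¹) ^ i)) • Y ^ i
  have h1 : ∀ i, ((o : k)⁻¹ * (c⁻¹) ^ i) • (Y * Y ^ i) = f (i + 1) := fun i => by
    simp only [f, hterm]; rw [pow_succ']
  rw [Finset.sum_congr rfl fun i _ => h1 i]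
  show ∑ i ∈ Finset.range o, f (i + 1) = ∑ i ∈ Finset.range o, f i
  have h2 := Finset.sum_range_succ' f o
  rw [Finset.sum_range_succ, show f o = f 0 by simp [f, hY, inv_pow, hc]] at h2
  exact (add_right_cancel h2).symm

theorem eigProj_apply_eigen (hY : Y ^ o = 1) (ho : (o : k) ≠ 0) {c a : k} (hc : c ^ o = 1)
    (ha : a ^ o = 1) {v : V} (hv : Y v = a • v) :
    eigProj Y o c v = if c = a then v else 0 := by
  have hc0 : c ≠ 0 := fun h => by
    rw [h, zero_pow (fun e => ho (by rw [e, Nat.cast_zero]))] at hc; exact zero_ne_one hc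
  have hpow : ∀ i, (Y ^ i) v = a ^ i • v := fun i => by
    induction i with
    | zero => simp
    | succ i ih => rw [pow_succ', Module.End.mul_apply, ih, map_smul, hv, smul_smul, pow_succ]
  simp only [eigProj, LinearMap.smul_apply, LinearMap.sum_apply, hpow, smul_smul, ← mul_pow]
  rw [← Finset.sum_smul, smul_smul]
  split_ifs with h
  · subst h
    rw [inv_mul_cancel₀ hc0]
    simp [ho]
  · rw [geom_sum_eq (fun e => h (inv_mul_eq_one₀ hc0 |>.1 e)), mul_pow, inv_pow, hc, ha, inv_one,
      one_mul, sub_self, zero_div, mul_zero, zero_smul]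

theorem sum_eigProj (ho : (o : k) ≠ 0) (hζ : IsPrimitiveRoot ζ o) :
    ∑ j ∈ Finset.range o, eigProj Y o (ζ ^ j) = 1 := by
  have ho' : 0 < o := Nat.pos_of_ne_zero fun e => ho (by rw [e, Nat.cast_zero])
  simp only [eigProj, ← Finset.smul_sum]
  rw [Finset.sum_comm]
  simp only [← Finset.sum_smul]
  rw [Finset.sum_eq_single 0]
  · simp [smul_smul, ho]
  · intro i hi hi0
    rw [Finset.sum_congr rfl (g := fun j => ((ζ⁻¹) ^ i) ^ j) fun j _ => by
      rw [← inv_pow, ← pow_mul, ← pow_mul, mul_comm]]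
    have hne : (ζ⁻¹) ^ i ≠ 1 := by
      rw [inv_pow, Ne, inv_eq_one]
      exact hζ.pow_ne_one_of_pos_of_lt hi0 (Finset.mem_range.1 hi)
    rw [geom_sum_eq hne, ← pow_mul, mul_comm, pow_mul, inv_pow, hζ.pow_eq_one, inv_one, one_pow,
      sub_self, zero_div, zero_smul]
  · exact fun h => absurd (Finset.mem_range.2 ho') h

variable {X : Module.End k V} {ω : k}

theorem pow_mul_of_qcomm (hYX : Y * X = ω • (X * Y)) :
    ∀ i : ℕ, Y * X ^ i = ω ^ i • (X ^ i * Y)
  | 0 => by simp
  | i + 1 => by
    rw [pow_succ, ← mul_assoc, pow_mul_of_qcomm hYX i, smul_mul_assoc, mul_assoc, hYX,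
      mul_smul_comm, smul_smul, ← mul_assoc, ← pow_succ, ← pow_succ]

/-- One step: a cyclic direct summand. -/
theorem exists_chain_split (hY : Y ^ o = 1) (ho : (o : k) ≠ 0) (hζ : IsPrimitiveRoot ζ o)
    (hω : ω ^ o = 1) (hYX : Y * X = ω • (X * Y)) {p : ℕ} (hX : X ^ p = 0)
    {π : Module.End k V} (hπX : π * X = X * π) (hπY : π * Y = Y * π) (hπ : π * π = π) (hπ0 : π ≠ 0) :
    ∃ (q : Module.End k V) (z : V), q * X = X * q ∧ q * Y = Y * q ∧ q * q = q ∧ π * q = q ∧
      q * π = q ∧ z ≠ 0 ∧ q z = z ∧ ∀ x, X x = 0 → q x ∈ Submodule.span k {z} := by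
  have ho' : o ≠ 0 := fun e => ho (by rw [e, Nat.cast_zero])
  have hex : ∃ m, X ^ m * π = 0 := ⟨p, by rw [hX, zero_mul]⟩
  set m := Nat.find hex with hm
  have hm0 : 0 < m := Nat.pos_of_ne_zero fun e => hπ0 (by
    have := Nat.find_spec hex
    rwa [← hm, e, pow_zero, one_mul] at this)
  have hmm : X ^ m * π = 0 := Nat.find_spec hex
  have hm1 : X ^ (m - 1) * π ≠ 0 := Nat.find_min hex (by omega)
  have hπXi : ∀ i : ℕ, π * X ^ i = X ^ i * π := fun i => (Commute.pow_right hπX i).eq
  have hπR : ∀ c, π * eigProj Y o c = eigProj Y o c * π := fun c => by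
    simp only [eigProj, mul_smul_comm, smul_mul_assoc, Finset.mul_sum, Finset.sum_mul,
      (Commute.pow_right hπY _).eq]
  -- a homogeneous vector of maximal height
  obtain ⟨j, x, hjx⟩ : ∃ (j : ℕ) (x : V), (X ^ (m - 1)) (π (eigProj Y o (ζ ^ j) x)) ≠ 0 := by
    by_contra hcon
    push Not at hcon
    refine hm1 (LinearMap.ext fun x => ?_)
    rw [Module.End.mul_apply, LinearMap.zero_apply,
      ← Module.End.one_apply (R := k) x, ← sum_eigProj (Y := Y) ho hζ, LinearMap.sum_apply,
      map_sum, map_sum]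
    exact Finset.sum_eq_zero fun j _ => hcon j x
  set a := ζ ^ j with ha
  have hao : a ^ o = 1 := by rw [ha, ← pow_mul, mul_comm, pow_mul, hζ.pow_eq_one, one_pow]
  set w := π (eigProj Y o a x) with hw
  have hYw : Y w = a • w := by
    show (Y * π) (eigProj Y o a x) = a • π (eigProj Y o a x)
    rw [← hπY]
    show π ((Y * eigProj Y o a) x) = _
    rw [mul_eigProj hY hao ho', LinearMap.smul_apply, map_smul]
  have hπw : π w = w := by rw [hw, ← Module.End.mul_apply, hπ]
  set z := (X ^ (m - 1)) w with hz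
  have hmw : (X ^ m) w = 0 := by rw [← hπw, ← Module.End.mul_apply, hmm, LinearMap.zero_apply]
  have hhigh : ∀ i, m ≤ i → (X ^ i) w = 0 := fun i hi => by
    rw [← Nat.sub_add_cancel hi, pow_add, Module.End.mul_apply, hmw, map_zero]
  let S : Submodule k V := Submodule.span k ((fun l => (X ^ l) w) '' {l | l < m - 1})
  have hzS : z ∉ S := by
    intro hzS
    obtain ⟨c, hc, hcz⟩ := (Finsupp.mem_span_image_iff_linearCombination k).1 hzS
    by_cases hc0 : c = 0
    · rw [hc0, map_zero] at hcz; exact hjx hcz.symm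
    set l := c.support.min' (Finsupp.support_nonempty_iff.2 hc0) with hl
    have hls : l ∈ c.support := Finset.min'_mem _ _
    have hlm : l < m - 1 := hc hls
    have h1 : (X ^ (m - 1 - l)) z = 0 := by
      rw [hz, ← Module.End.mul_apply, ← pow_add, hhigh _ (by omega)]
    rw [← hcz, Finsupp.linearCombination_apply, Finsupp.sum, map_sum,
      Finset.sum_eq_single l] at h1
    · rw [map_smul, ← Module.End.mul_apply, ← pow_add,
        show m - 1 - l + l = m - 1 by omega] at h1
      rcases smul_eq_zero.1 h1 with h | h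
      · exact Finsupp.mem_support_iff.1 hls h
      · exact hjx h
    · intro l' hl' hne
      have := Finset.min'_le c.support l' hl'
      rw [map_smul, ← Module.End.mul_apply, ← pow_add, hhigh _ (by omega), smul_zero]
    · exact fun h => absurd hls h
  obtain ⟨φ₀, hφz, hφS⟩ := Submodule.exists_dual_map_eq_bot_of_notMem hzS inferInstance
  set b := ω ^ (m - 1) * a with hb
  have hbo : b ^ o = 1 := by
    rw [hb, mul_pow, ← pow_mul, mul_comm (m - 1), pow_mul, hω, one_pow, one_mul, hao]
  have hYl : ∀ l, Y ((X ^ l) w) = (ω ^ l * a) • (X ^ l) w := fun l => by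
    rw [← Module.End.mul_apply, pow_mul_of_qcomm hYX l, LinearMap.smul_apply, Module.End.mul_apply,
      hYw, map_smul, smul_smul]
  let φ : V →ₗ[k] k := (φ₀ z)⁻¹ • (φ₀.comp (eigProj Y o b))
  have hφ1 : φ z = 1 := by
    show (φ₀ z)⁻¹ * φ₀ (eigProj Y o b z) = 1
    rw [eigProj_apply_eigen hY ho hbo hbo (hYl (m - 1)), if_pos rfl, inv_mul_cancel₀ hφz]
  have hφ0 : ∀ l, l < m - 1 → φ ((X ^ l) w) = 0 := fun l hl => by
    show (φ₀ z)⁻¹ * φ₀ (eigProj Y o b ((X ^ l) w)) = 0
    have hSl : φ₀ ((X ^ l) w) = 0 := by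
      have := Submodule.mem_map_of_mem (f := φ₀)
        (Submodule.subset_span ⟨l, hl, rfl⟩ : (X ^ l) w ∈ S)
      rwa [hφS, Submodule.mem_bot] at this
    rw [eigProj_apply_eigen hY ho hbo (by rw [mul_pow, ← pow_mul, mul_comm l, pow_mul, hω, one_pow,
      one_mul, hao]) (hYl l)]
    split <;> simp [hSl]
  have hφY : ∀ x, φ (Y x) = b * φ x := fun x => by
    show (φ₀ z)⁻¹ * φ₀ (eigProj Y o b (Y x)) = b * ((φ₀ z)⁻¹ * φ₀ (eigProj Y o b x))
    have hcomm : eigProj Y o b * Y = Y * eigProj Y o b := by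
      simp only [eigProj, mul_smul_comm, smul_mul_assoc, Finset.mul_sum, Finset.sum_mul,
        ← pow_succ, ← pow_succ']
    rw [← Module.End.mul_apply, hcomm, mul_eigProj hY hbo ho', LinearMap.smul_apply, map_smul,
      smul_eq_mul]
    ring
  let q : Module.End k V := ∑ i ∈ Finset.range m,
    LinearMap.smulRight (φ.comp ((X ^ (m - 1 - i)) * π)) ((X ^ i) w)
  have hq : ∀ x, q x = ∑ i ∈ Finset.range m, φ ((X ^ (m - 1 - i)) (π x)) • (X ^ i) w := fun x => by
    simp [q, LinearMap.sum_apply]
  have hqfix : ∀ i, q ((X ^ i) w) = (X ^ i) w := by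
    intro i
    have hπi : π ((X ^ i) w) = (X ^ i) w := by
      rw [← Module.End.mul_apply, hπXi, Module.End.mul_apply, hπw]
    rw [hq, hπi]
    by_cases him : m ≤ i
    · simp [hhigh i him]
    rw [Finset.sum_eq_single i]
    · rw [← Module.End.mul_apply, ← pow_add, show m - 1 - i + i = m - 1 by omega, ← hz, hφ1,
        one_smul]
    · intro i' hi' hne
      rw [← Module.End.mul_apply, ← pow_add]
      rcases lt_or_gt_of_ne hne with h | h
      · rw [hhigh _ (by have := Finset.mem_range.1 hi'; omega), map_zero, zero_smul]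
      · rw [hφ0 _ (by have := Finset.mem_range.1 hi'; omega), zero_smul]
    · exact fun h => absurd (Finset.mem_range.2 (by omega)) h
  refine ⟨q, z, ?_, ?_, ?_, ?_, ?_, hjx, hqfix _, ?_⟩
  · refine LinearMap.ext fun x => ?_
    rw [Module.End.mul_apply, Module.End.mul_apply, hq, hq, map_sum]
    rw [← Module.End.mul_apply π X, hπX, Module.End.mul_apply]
    obtain ⟨m', hm'⟩ : ∃ m', m = m' + 1 := ⟨m - 1, by omega⟩
    rw [hm', Finset.sum_range_succ', Finset.sum_range_succ]
    have e0 : (X ^ (m' + 1 - 1 - 0)) (X (π x)) = 0 := by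
      rw [← Module.End.mul_apply, ← pow_succ, show m' + 1 - 1 - 0 + 1 = m by omega,
        ← Module.End.mul_apply, hmm, LinearMap.zero_apply]
    have e1 : X ((X ^ m') w) = 0 := by
      rw [← Module.End.mul_apply, ← pow_succ', ← hm', hmw]
    rw [e0, map_zero, zero_smul, add_zero, map_smul, e1, smul_zero, add_zero]
    refine Finset.sum_congr rfl fun i hi => ?_
    rw [map_smul, ← Module.End.mul_apply (X ^ _) X, ← pow_succ, ← Module.End.mul_apply X (X ^ i),
      ← pow_succ', show m' + 1 - 1 - (i + 1) + 1 = m' + 1 - 1 - i by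
        have := Finset.mem_range.1 hi; omega]
  · refine LinearMap.ext fun x => ?_
    rw [Module.End.mul_apply, Module.End.mul_apply, hq, hq, map_sum]
    rw [← Module.End.mul_apply π Y, hπY, Module.End.mul_apply]
    refine Finset.sum_congr rfl fun i hi => ?_
    rw [map_smul, hYl]
    have h1 : (X ^ (m - 1 - i)) (Y (π x)) =
        (ω ^ (m - 1 - i))⁻¹ • Y ((X ^ (m - 1 - i)) (π x)) := by
      have hω0 : ω ^ (m - 1 - i) ≠ 0 := pow_ne_zero _ fun e => by
        rw [e, zero_pow ho'] at hω; exact zero_ne_one hω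
      rw [show Y ((X ^ (m - 1 - i)) (π x)) = (Y * X ^ (m - 1 - i)) (π x) from rfl,
        pow_mul_of_qcomm hYX, LinearMap.smul_apply, smul_smul, inv_mul_cancel₀ hω0, one_smul]
      rfl
    rw [h1, map_smul, hφY, smul_eq_mul, smul_smul]
    congr 1
    have hω0 : ω ≠ 0 := fun e => by rw [e, zero_pow ho'] at hω; exact zero_ne_one hω
    rw [hb, show ω ^ (m - 1) = ω ^ (m - 1 - i) * ω ^ i by
      rw [← pow_add]; congr 1; have := Finset.mem_range.1 hi; omega]
    field_simp
  · refine LinearMap.ext fun x => ?_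
    rw [Module.End.mul_apply, hq x, map_sum]
    exact Finset.sum_congr rfl fun i _ => by rw [map_smul, hqfix]
  · refine LinearMap.ext fun x => ?_
    rw [Module.End.mul_apply, hq x, map_sum]
    refine Finset.sum_congr rfl fun i _ => ?_
    rw [map_smul, ← Module.End.mul_apply π, hπXi, Module.End.mul_apply, hπw]
  · refine LinearMap.ext fun x => ?_
    rw [Module.End.mul_apply, hq, hq, ← Module.End.mul_apply π π, hπ]
  · intro x hx
    rw [hq]
    refine Submodule.sum_mem _ fun i hi => ?_
    rcases Nat.eq_or_lt_of_le (Nat.le_sub_one_of_lt (Finset.mem_range.1 hi)) with h | h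
    · rw [h]; exact Submodule.smul_mem _ _ (Submodule.subset_span rfl)
    · have hπx : X (π x) = 0 := by
        rw [← Module.End.mul_apply, ← hπX, Module.End.mul_apply, hx, map_zero]
      rw [show m - 1 - i = (m - 1 - i - 1) + 1 by omega, pow_succ, Module.End.mul_apply, hπx,
        map_zero, map_zero, zero_smul]
      exact Submodule.zero_mem _

/-- A non-projective part contains a non-projective cyclic summand. -/
theorem exists_chain_summand (hY : Y ^ o = 1) (ho : (o : k) ≠ 0) (hζ : IsPrimitiveRoot ζ o)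
    (hω : ω ^ o = 1) (hYX : Y * X = ω • (X * Y)) {p : ℕ} (hX : X ^ p = 0) :
    ∀ (n : ℕ) (π : Module.End k V), π * X = X * π → π * Y = Y * π → π * π = π →
      Module.finrank k (LinearMap.range π) ≤ n →
      (∃ v, π v = v ∧ X v = 0 ∧ ∀ y, v ≠ (X ^ (p - 1)) y) →
      ∃ (q : Module.End k V) (z : V), q * X = X * q ∧ q * Y = Y * q ∧ π * q = q ∧ q * π = q ∧
        q z = z ∧ (∀ y, z ≠ (X ^ (p - 1)) y) ∧ X z = 0 ∧
        ∀ x, X x = 0 → q x ∈ Submodule.span k {z} := by
  intro n
  induction n with
  | zero =>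
    intro π _ _ _ hrank ⟨v, hv, _, hne⟩
    have h0 : LinearMap.range π = ⊥ := Submodule.finrank_eq_zero.1 (Nat.le_zero.1 hrank)
    have : v = 0 := (Submodule.mem_bot k).1 (h0 ▸ ⟨v, hv⟩)
    exact absurd (this.trans (map_zero _).symm) (hne 0)
  | succ n ih =>
    intro π hπX hπY hπ hrank ⟨v, hv, hXv, hne⟩
    have hπ0 : π ≠ 0 := by
      rintro rfl
      exact hne 0 (hv.symm.trans (map_zero _).symm)
    obtain ⟨q, z, hqX, hqY, hqq, hπq, hqπ, hz0, hqz, hker⟩ :=
      exists_chain_split hY ho hζ hω hYX hX hπX hπY hπ hπ0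
    by_cases hfull : ∃ y, q v = (X ^ (p - 1)) y
    · obtain ⟨y, hy⟩ := hfull
      have hπXi : ∀ i : ℕ, π * X ^ i = X ^ i * π := fun i => (Commute.pow_right hπX i).eq
      set π' := π - q with hπ'
      have hπ'2 : π' * π' = π' := by
        rw [hπ', mul_sub, sub_mul, sub_mul, hπ, hqπ, hπq, hqq]; abel
      obtain ⟨q', z', h1, h2, h3, h4, h5, h6, h7, h8⟩ := ih π'
        (by rw [hπ', sub_mul, mul_sub, hπX, hqX]) (by rw [hπ', sub_mul, mul_sub, hπY, hqY]) hπ'2
        (by
          have hlt : LinearMap.range π' < LinearMap.range π := by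
            refine lt_of_le_of_ne ?_ fun he => ?_
            · rintro _ ⟨x, rfl⟩
              exact ⟨π' x, by rw [← Module.End.mul_apply, hπ', mul_sub, hπ, hπq]⟩
            · have hzmem : z ∈ LinearMap.range π' := by
                rw [he]; exact ⟨z, by conv_lhs => rw [← hqz, ← Module.End.mul_apply, hπq, hqz]⟩
              obtain ⟨x, hx⟩ := hzmem
              have hx' : π' z = z := by rw [← hx, ← Module.End.mul_apply, hπ'2]
              rw [hπ', LinearMap.sub_apply, hqz, sub_eq_iff_eq_add] at hx'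
              have hπz : π z = z := by rw [← hqz, ← Module.End.mul_apply, hπq, hqz]
              rw [hπz] at hx'
              exact hz0 (by simpa using hx'.symm)
          have := Submodule.finrank_lt_finrank_of_lt hlt
          omega)
        ⟨π' v, by rw [← Module.End.mul_apply, hπ'2], by
          rw [← Module.End.mul_apply, hπ', mul_sub, ← hπX, ← hqX, ← sub_mul, Module.End.mul_apply,
            hXv, map_zero],
          fun y' hy' => hne (y' + y) (by
            rw [hπ', LinearMap.sub_apply, hv, sub_eq_iff_eq_add] at hy'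
            rw [map_add, ← hy]; exact hy')⟩
      refine ⟨q', z', h1, h2, ?_, ?_, h5, h6, h7, h8⟩
      · rw [← h3, ← mul_assoc, hπ', mul_sub, hπ, hπq]
      · rw [← h4, mul_assoc, hπ', sub_mul, hπ, hqπ]
    · push Not at hfull
      refine ⟨q, z, hqX, hqY, hπq, hqπ, hqz, fun y hy => ?_, ?_, hker⟩
      · obtain ⟨c, hc⟩ := Submodule.mem_span_singleton.1 (hker v hXv)
        exact hfull (c • y) (by rw [map_smul, ← hy, hc])
      · have h0 := hfull 0
        rw [map_zero] at h0
        obtain ⟨c, hc⟩ := Submodule.mem_span_singleton.1 (hker v hXv)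
        have hc0 : c ≠ 0 := fun e => h0 (by rw [← hc, e, zero_smul])
        have : X (q v) = 0 := by
          rw [← Module.End.mul_apply, ← hqX, Module.End.mul_apply, hXv, map_zero]
        rw [← hc, map_smul] at this
        exact (smul_eq_zero.1 this).resolve_left hc0

end Chain

section Operator

open Polynomial

variable {p : ℕ} [Fact p.Prime] {k : Type*} [Field k] [CharP k p] [Algebra (ZMod p) k]
  {V : Type*} [AddCommGroup V] [Module k V]

/-- The eigenvector generator of the augmentation ideal of a group of prime order. -/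
noncomputable def augGen (U : Module.End k V) : Module.End k V :=
  ∑ a : (ZMod p)ˣ, (algebraMap (ZMod p) k (a⁻¹ : (ZMod p)ˣ)) • U ^ (a : ZMod p).val

theorem augGen_poly (hp : p ≠ 2) :
    ∃ Q : k[X], Q.eval 1 = -1 ∧ ∀ U : Module.End k V,
      augGen (p := p) U = aeval U ((Polynomial.X - C 1) * Q) := by
  let P : k[X] := ∑ a : (ZMod p)ˣ,
    C (algebraMap (ZMod p) k (a⁻¹ : (ZMod p)ˣ)) * Polynomial.X ^ (a : ZMod p).val
  have hp2 : 2 < p := lt_of_le_of_ne (Fact.out : p.Prime).two_le (Ne.symm hp)
  have hroot : P.eval 1 = 0 := by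
    simp only [P, eval_finsetSum, eval_mul, eval_C, eval_pow, eval_X, one_pow, mul_one, ← map_sum]
    rw [show (∑ a : (ZMod p)ˣ, ((a⁻¹ : (ZMod p)ˣ) : ZMod p)) = 0 from ?_, map_zero]
    rw [Fintype.sum_equiv (Equiv.inv (ZMod p)ˣ) (fun a => ((a⁻¹ : (ZMod p)ˣ) : ZMod p)) (fun a => (a : ZMod p))
      fun a => rfl]
    have h := FiniteField.sum_pow_units (ZMod p) 1
    rw [ZMod.card, if_neg (fun hd => by have := Nat.le_of_dvd Nat.one_pos hd; omega)] at h
    simpa using h
  obtain ⟨Q, hQ⟩ := dvd_iff_isRoot.2 (show P.IsRoot 1 from hroot)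
  have hder : P.derivative.eval 1 = -1 := by
    simp only [P, derivative_sum, derivative_C_mul_X_pow, eval_finsetSum, eval_mul, eval_C,
      eval_pow, eval_X, one_pow, mul_one]
    rw [Finset.sum_congr rfl (g := fun _ => (1 : k)) fun a _ => by
      rw [← map_natCast (algebraMap (ZMod p) k) (a : ZMod p).val, ← map_mul, ZMod.natCast_zmod_val,
        ← Units.val_mul, inv_mul_cancel, Units.val_one, map_one]]
    rw [Finset.sum_const, Finset.card_univ, ZMod.card_units, nsmul_eq_mul, mul_one,
      Nat.cast_sub (Fact.out : p.Prime).one_le, CharP.cast_eq_zero, Nat.cast_one, zero_sub]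
  have hQ1 : Q.eval 1 = -1 := by
    rw [← hder, hQ, derivative_mul]
    simp
  refine ⟨Q, hQ1, fun U => ?_⟩
  rw [← hQ]
  simp only [P, augGen, map_sum, map_mul, map_pow, aeval_C, aeval_X, Algebra.smul_def]

theorem augGen_spec (hp : p ≠ 2) (U : Module.End k V) (hU : U ^ p = 1) :
    ∃ W : Module.End k V, IsUnit W ∧ Commute U W ∧ augGen (p := p) U = (U - 1) * W := by
  obtain ⟨Q, hQ1, hQ⟩ := augGen_poly (k := k) (V := V) hp
  obtain ⟨g, hg⟩ := dvd_iff_isRoot.2
    (show (Q + 1).IsRoot 1 by rw [IsRoot, eval_add, hQ1, eval_one, neg_add_cancel])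
  have hnil : IsNilpotent (aeval U (Polynomial.X - C (1 : k))) := ⟨p, by
    haveI : CharP (Module.End k V) p ∨ Subsingleton (Module.End k V) := by
      rcases subsingleton_or_nontrivial (Module.End k V) with h | h
      · exact Or.inr h
      · exact Or.inl (charP_of_injective_algebraMap
          (FaithfulSMul.algebraMap_injective k (Module.End k V)) p)
    rcases this with h | h
    · haveI := h
      rw [map_sub, aeval_X, aeval_C, map_one,
        sub_pow_char_of_commute (p := p) (h := Commute.one_right U), hU, one_pow, sub_self]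
    · exact Subsingleton.elim _ _⟩
  refine ⟨aeval U Q, ?_, ?_, ?_⟩
  · rw [show Q = (Polynomial.X - C 1) * g + (-1) by rw [← hg]; ring, map_add, map_mul, map_neg,
      map_one (aeval U)]
    have hc : Commute (aeval U (Polynomial.X - C (1 : k))) (aeval U g) := (Commute.all _ g).map _
    exact (hc.isNilpotent_mul_right hnil).isUnit_add_right_of_commute isUnit_one.neg
      ((Commute.one_right _).neg_right)
  · have h1 := (Commute.all (Polynomial.X : k[X]) Q).map (aeval U)
    rwa [aeval_X] at h1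
  · rw [hQ U, map_mul, map_sub, aeval_X, aeval_C, map_one]

/-- Operators commuting with the eigenvector generator commute with the group element. -/
theorem commute_of_commute_augGen (hp : p ≠ 2) {U q : Module.End k V} (hU : U ^ p = 1)
    (hq : Commute q (augGen (p := p) U)) : Commute q U := by
  obtain ⟨Q, hQ1, hQ⟩ := augGen_poly (k := k) (V := V) hp
  set T : k[X] := Polynomial.X - C 1 with hT
  have hTp : aeval U (T ^ p) = 0 := by
    rw [hT, show ((1 : k)) = 1 from rfl, map_one, sub_pow_char, one_pow, map_sub, map_pow, aeval_X,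
      map_one, hU, sub_self]
  have hmain : ∀ m j : ℕ, 1 ≤ j → j + m = p → ∀ g : k[X], Commute q (aeval U (T ^ j * g)) := by
    intro m
    induction m with
    | zero =>
      intro j _ hj g
      rw [Nat.add_zero] at hj
      rw [hj, map_mul, hTp, zero_mul]
      exact Commute.zero_right q
    | succ m ih =>
      intro j hj1 hj g
      have hnext : ∀ g : k[X], Commute q (aeval U (T ^ (j + 1) * g)) :=
        ih (j + 1) (by omega) (by omega)
      obtain ⟨g1, hg1⟩ := dvd_iff_isRoot.2 (show (g - C (g.eval 1)).IsRoot 1 by simp [IsRoot])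
      obtain ⟨g2, hg2⟩ := dvd_iff_isRoot.2
        (show (Q ^ j - C ((-1 : k) ^ j)).IsRoot 1 by simp [IsRoot, hQ1])
      have hdec : T ^ j * g = C (g.eval 1) * (C ((-1 : k) ^ j) * (T * Q) ^ j) +
          T ^ (j + 1) * (g1 - C (g.eval 1) * C ((-1 : k) ^ j) * g2) := by
        have e1 : g = C (g.eval 1) + T * g1 := by rw [hT, ← hg1]; ring
        have e2 : Q ^ j = C ((-1 : k) ^ j) + T * g2 := by rw [hT, ← hg2]; ring
        have e3 : C ((-1 : k) ^ j) * C ((-1 : k) ^ j) = 1 := by
          rw [← map_mul, ← mul_pow, neg_one_mul, neg_neg, one_pow, map_one]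
        conv_lhs => rw [e1]
        rw [mul_pow, e2]
        linear_combination (-(C (g.eval 1) * T ^ j)) * e3
      rw [hdec, map_add, map_mul, map_mul, aeval_C, aeval_C, map_pow (aeval U) (T * Q), show aeval U (T * Q) = augGen (p := p) U from (hQ U).symm]
      exact ((Algebra.commute_algebraMap_right _ q).mul_right
        ((Algebra.commute_algebraMap_right _ q).mul_right (hq.pow_right j))).add_right (hnext _)
  have h1 := hmain (p - 1) 1 le_rfl (by have := (Fact.out : p.Prime).one_le; omega) 1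
  rw [pow_one, mul_one, hT, map_sub, aeval_X, aeval_C, map_one] at h1
  have h2 := h1.add_right (Commute.one_right q)
  rwa [sub_add_cancel] at h2

/-- The power of the augmentation is the sum of all powers. -/
theorem sub_one_pow_eq_sum (U : Module.End k V) :
    (U - 1) ^ (p - 1) = ∑ i ∈ Finset.range p, U ^ i := by
  haveI : CharP k[X] p := inferInstance
  have h : ((Polynomial.X : k[X]) - 1) ^ (p - 1) = ∑ i ∈ Finset.range p, (Polynomial.X : k[X]) ^ i := by
    refine mul_right_cancel₀ (b := (Polynomial.X : k[X]) - 1) ?_ ?_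
    · exact Polynomial.X_sub_C_ne_zero (1 : k) |> fun h => by simpa using h
    · rw [geom_sum_mul, ← pow_succ, Nat.sub_add_cancel (Fact.out : p.Prime).one_le, sub_pow_char,
        one_pow]
  have := congrArg (aeval U) h
  simpa using this

end Operator

end CfsgLib.Block
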