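import Cfsg.Agent.Lib.CharGalois
import Cfsg.Agent.Lib.CharMult

/-!
# Counting zeros of characters by the arithmetic-geometric mean argument
-/

set_option autoImplicit false
set_option linter.style.haveILetI false
set_option linter.unusedSectionVars false

namespace CfsgLib.Block

open Cfsg CfsgLib.Char Polynomial
open scoped ComplexConjugate

universe u

variable {G : Type u} [Group G] [Finite G]

/-- A character vanishes at a power prime to the order only with the element. -/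
theorem apply_pow_eq_zero_iff {χ : G → ℂ} (hχ : IsCharacter G χ) {k : ℕ}
    (hk : k.Coprime (Nat.card G)) (g : G) : χ (g ^ k) = 0 ↔ χ g = 0 := by
  haveI := Fintype.ofFinite G
  have hn0 : 0 < Nat.card G := Nat.card_pos
  have hζ : IsPrimitiveRoot (Complex.exp (2 * Real.pi * Complex.I / (Nat.card G))) (Nat.card G) :=
    Complex.isPrimitiveRoot_exp _ hn0.ne'
  have key : ∀ (a : G) (j : ℕ), j.Coprime (Nat.card G) → χ a = 0 → χ (a ^ j) = 0 := by
    intro a j hj ha
    obtain ⟨Q, hQ⟩ := hasGalPoly_char hζ hχ a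
    have h1 := hQ 1 (Nat.coprime_one_left _)
    rw [pow_one, pow_one, ha] at h1
    rw [hQ j hj, aeval_pow_eq_rat hn0 hζ Q 0 (by rw [← h1, Rat.cast_zero]) hj, Rat.cast_zero]
  refine ⟨fun h => ?_, key g k hk⟩
  obtain ⟨m, hm⟩ := exists_pow_eq_self_of_coprime (hk.coprime_dvd_right (orderOf_dvd_natCard g))
  obtain ⟨j, hj, hjm⟩ := exists_coprime_congr hn0 (orderOf_dvd_natCard g) (a := m) (by
    have h2 : orderOf ((g ^ k) ^ m) = orderOf g := by rw [hm]
    have h3 : g ^ (k * m) = g ^ 1 := by rw [pow_mul, hm, pow_one]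
    have h4 : k * m ≡ 1 [MOD orderOf g] := pow_eq_pow_iff_modEq.mp h3
    exact Nat.Coprime.coprime_mul_left (k := k) (by rw [Nat.Coprime, h4.gcd_eq, Nat.gcd_one_left]))
  have h5 : (g ^ k) ^ j = g := by
    conv_rhs => rw [← hm]
    rw [← pow_mul, ← pow_mul, pow_eq_pow_iff_modEq]
    exact hjm.mul_left k
  exact h5 ▸ key (g ^ k) j hj h

/-- An integral value of the squared norm of a character value is a Galois invariant. -/
theorem normSq_apply_pow {χ : G → ℂ} (hχ : IsCharacter G χ) {q : ℚ} {g : G}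
    (hg : ‖χ g‖ ^ 2 = (q : ℝ)) {k : ℕ} (hk : k.Coprime (Nat.card G)) :
    ‖χ (g ^ k)‖ ^ 2 = (q : ℝ) := by
  haveI := Fintype.ofFinite G
  have hn0 : 0 < Nat.card G := Nat.card_pos
  have hζ : IsPrimitiveRoot (Complex.exp (2 * Real.pi * Complex.I / (Nat.card G))) (Nat.card G) :=
    Complex.isPrimitiveRoot_exp _ hn0.ne'
  obtain ⟨Q, hQ⟩ := hasGalPoly_char hζ hχ g
  obtain ⟨R, hR⟩ := hasGalPoly_char hζ hχ g⁻¹
  have hsq : ∀ z : ℂ, z * conj z = ((‖z‖ ^ 2 : ℝ) : ℂ) := fun z => by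
    rw [Complex.mul_conj, Complex.normSq_eq_norm_sq]
  have e1 : aeval (Complex.exp (2 * Real.pi * Complex.I / (Nat.card G))) (Q * R) = (q : ℂ) := by
    have h1 := hQ 1 (Nat.coprime_one_left _)
    have h2 := hR 1 (Nat.coprime_one_left _)
    rw [pow_one, pow_one] at h1 h2
    rw [map_mul, ← h1, ← h2, isCharacter_inv_eq_conj hχ, hsq, hg, Complex.ofReal_ratCast]
  have e2 := aeval_pow_eq_rat hn0 hζ (Q * R) q e1 hk
  rw [map_mul, ← hQ k hk, ← hR k hk, inv_pow, isCharacter_inv_eq_conj hχ, hsq,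
    ← Complex.ofReal_ratCast] at e2
  exact Complex.ofReal_inj.mp e2

/-- On a Galois stable set without zeros the squared norms average to at least one. -/
theorem card_le_sum_normSq {χ : G → ℂ} (hχ : IsCharacter G χ) (s : Finset G)
    (hs : ∀ k : ℕ, k.Coprime (Nat.card G) → ∀ g : G, g ^ k ∈ s ↔ g ∈ s)
    (hne : ∀ g ∈ s, χ g ≠ 0) : (s.card : ℝ) ≤ ∑ g ∈ s, ‖χ g‖ ^ 2 := by
  classical
  haveI := Fintype.ofFinite G
  have hn0 : 0 < Nat.card G := Nat.card_pos
  have hζ : IsPrimitiveRoot (Complex.exp (2 * Real.pi * Complex.I / (Nat.card G))) (Nat.card G) :=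
    Complex.isPrimitiveRoot_exp _ hn0.ne'
  choose Q hQ using hasGalPoly_char hζ hχ
  obtain ⟨q, hq⟩ := rat_of_invariant hn0 hζ (∏ g ∈ s, Q g) (∏ g ∈ s, χ g) fun k hk => by
    rw [map_prod]
    exact Finset.prod_equiv (powCoprime hk.symm) (fun g => (hs k hk g).symm)
      fun g _ => (hQ g k hk).symm
  obtain ⟨z, hz⟩ := int_of_isIntegral_rat q
    (hq ▸ IsIntegral.prod _ fun g _ => isCharacter_isIntegral hχ g)
  have hz0 : z ≠ 0 := fun e => by
    rw [← hz, e, Int.cast_zero, Rat.cast_zero] at hq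
    exact Finset.prod_ne_zero_iff.mpr hne hq
  have hge : (1 : ℝ) ≤ ∏ g ∈ s, ‖χ g‖ ^ 2 := by
    rw [Finset.prod_pow, ← norm_prod, hq, ← hz, Rat.cast_intCast, Complex.norm_intCast]
    exact one_le_pow₀ (by exact_mod_cast Int.one_le_abs hz0)
  have hle : ∏ g ∈ s, ‖χ g‖ ^ 2 ≤ Real.exp (∑ g ∈ s, (‖χ g‖ ^ 2 - 1)) := by
    rw [Real.exp_sum]
    refine Finset.prod_le_prod (fun g _ => sq_nonneg _) fun g _ => ?_
    linarith [Real.add_one_le_exp (‖χ g‖ ^ 2 - 1)]
  have h0 : 0 ≤ ∑ g ∈ s, (‖χ g‖ ^ 2 - 1) := Real.one_le_exp_iff.mp (hge.trans hle)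
  rw [Finset.sum_sub_distrib, Finset.sum_const, nsmul_eq_mul, mul_one] at h0
  linarith

/-- The squared norms of an irreducible character sum to the group order. -/
theorem sum_normSq_irr [Fintype G] {χ : G → ℂ} (hχ : IsIrrCharacter G χ) :
    ∑ g, ‖χ g‖ ^ 2 = (Nat.card G : ℝ) := by
  have h := irr_inner_self hχ
  rw [CfsgLib.Char.inner_self_eq_norm_sq, Complex.ofReal_eq_one,
    inv_mul_eq_one₀ (by exact_mod_cast (Nat.card_pos (α := G)).ne')] at h
  exact h.symm

/-- Multiplicativity on products of two classes carrying a constant value. -/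
theorem mul_apply_of_const {χ : G → ℂ} (hχ : IsIrrCharacter G χ) (u v : G)
    (hc : ∀ x y : G, χ (x * u * x⁻¹ * (y * v * y⁻¹)) = χ (u * v)) :
    χ u * χ v = χ 1 * χ (u * v) := by
  haveI := Fintype.ofFinite G
  obtain ⟨n, ρ, hρ, he⟩ := hχ
  haveI := hρ
  subst he
  have h : LinearMap.trace ℂ _ ((∑ x : G, ρ (x * u * x⁻¹)) * ∑ y : G, ρ (y * v * y⁻¹)) =
      ∑ x : G, ∑ y : G, ρ.character (x * u * x⁻¹ * (y * v * y⁻¹)) := by
    rw [Finset.sum_mul_sum, map_sum]
    simp only [map_sum, ← map_mul]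
    rfl
  simp only [hc, Finset.sum_const, Finset.card_univ, nsmul_eq_mul] at h
  rw [sum_rep_conj, sum_rep_conj, smul_mul_smul_comm, one_mul, map_smul, LinearMap.trace_one,
    smul_eq_mul, ← Nat.card_eq_fintype_card] at h
  rw [ρ.char_one]
  have hd : (Module.finrank ℂ (Fin n → ℂ) : ℂ) ≠ 0 := by
    exact_mod_cast (finrank_pos_of_irreducible ρ).ne'
  have hG := natCard_ne_zero G
  field_simp at h
  linear_combination h

end CfsgLib.Block
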