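import Cfsg.Agent.Lib.CharVirtual
import Cfsg.Agent.Lib.CharInd
import Cfsg.Agent.Lib.CharLinear
import Cfsg.Agent.Lib.CharMult
import Cfsg.Agent.Lib.CharRep
import Mathlib.GroupTheory.SpecificGroups.Quaternion
import Mathlib.GroupTheory.Transfer
import Mathlib.RingTheory.IntegralDomain

/-!
# Groups with a generalized quaternion Sylow subgroup of order at least sixteen
-/

set_option autoImplicit false
set_option linter.style.haveILetI false
set_option linter.unusedSectionVars false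

namespace CfsgLib.BS

open Cfsg Representation CfsgLib.Char
open scoped ComplexConjugate commutatorElement

universe u

variable {G : Type u} [Group G]

/-- Generators of a generalized quaternion subgroup. -/
structure Quat (S : Subgroup G) (n : ℕ) (a b : G) : Prop where
  a_mem : a ∈ S
  b_mem : b ∈ S
  order_a : orderOf a = 2 ^ (n + 3)
  b_mul : b * a = a⁻¹ * b
  cases : ∀ s ∈ S, ∃ i : ℕ, s = a ^ i ∨ s = b * a ^ i
  order_ba : ∀ i : ℕ, orderOf (b * a ^ i) = 4
  comm_le : ⁅S, S⁆ ≤ Subgroup.zpowers (a ^ 2)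

theorem exists_quat (S : Subgroup G) (n : ℕ) (e : S ≃* QuaternionGroup (2 ^ (n + 2))) :
    ∃ a b : G, Quat S n a b := by
  haveI : NeZero (2 ^ (n + 2)) := ⟨(Nat.two_pow_pos _).ne'⟩
  let ι : QuaternionGroup (2 ^ (n + 2)) →* G := S.subtype.comp e.symm.toMonoidHom
  have hinj : Function.Injective ι := fun x y h => e.symm.injective (Subtype.ext h)
  have hsurj : ∀ s ∈ S, ∃ x, ι x = s := fun s hs =>
    ⟨e ⟨s, hs⟩, congrArg Subtype.val (e.symm_apply_apply ⟨s, hs⟩)⟩
  have hpow : ∀ i : ZMod (2 * 2 ^ (n + 2)),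
      ι (QuaternionGroup.a i) = ι (QuaternionGroup.a 1) ^ i.val := fun i => by
    rw [← map_pow, QuaternionGroup.a_one_pow, ZMod.natCast_zmod_val]
  refine ⟨ι (QuaternionGroup.a 1), ι (QuaternionGroup.xa 0), ⟨(e.symm _).2, (e.symm _).2, ?_, ?_, ?_,
    ?_, ?_⟩⟩
  · rw [orderOf_injective ι hinj, QuaternionGroup.orderOf_a_one, ← pow_succ']
  · rw [eq_inv_mul_iff_mul_eq, ← map_mul, ← map_mul]
    simp
  · intro s hs
    obtain ⟨x, rfl⟩ := hsurj s hs
    rcases x with i | i
    · exact ⟨i.val, .inl (hpow i)⟩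
    · refine ⟨i.val, .inr ?_⟩
      rw [← map_pow, QuaternionGroup.a_one_pow, ← map_mul, ZMod.natCast_zmod_val,
        QuaternionGroup.xa_mul_a, zero_add]
  · intro i
    rw [← map_pow, ← map_mul, orderOf_injective ι hinj, QuaternionGroup.a_one_pow,
      QuaternionGroup.xa_mul_a, QuaternionGroup.orderOf_xa]
  · rw [Subgroup.commutator_le]
    intro s hs t ht
    obtain ⟨x, rfl⟩ := hsurj s hs
    obtain ⟨y, rfl⟩ := hsurj t ht
    have hxa : ∀ i : ZMod (2 * 2 ^ (n + 2)), (QuaternionGroup.xa i)⁻¹ =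
        QuaternionGroup.xa (((2 ^ (n + 2) : ℕ) : ZMod (2 * 2 ^ (n + 2))) + i) := fun _ => rfl
    have ha : ∀ i : ZMod (2 * 2 ^ (n + 2)), (QuaternionGroup.a i)⁻¹ = QuaternionGroup.a (-i) :=
      fun _ => rfl
    have hm : ((2 ^ (n + 2) : ℕ) : ZMod (2 * 2 ^ (n + 2))) + ((2 ^ (n + 2) : ℕ) :) = 0 := by
      rw [← Nat.cast_add, ← two_mul, ZMod.natCast_self]
    obtain ⟨k, hk⟩ : ∃ k, ⁅x, y⁆ = QuaternionGroup.a (k + k) := by
      rcases x with i | i <;> rcases y with j | j <;>
        simp only [commutatorElement_def, hxa, ha, QuaternionGroup.a_mul_a, QuaternionGroup.a_mul_xa,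
          QuaternionGroup.xa_mul_a, QuaternionGroup.xa_mul_xa, QuaternionGroup.a.injEq]
      · exact ⟨0, by ring⟩
      · exact ⟨i, by linear_combination hm⟩
      · exact ⟨-j, by linear_combination hm⟩
      · exact ⟨j - i, by linear_combination hm⟩
    rw [← map_commutatorElement, hk, ← QuaternionGroup.a_mul_a, map_mul, hpow k, ← pow_add, ← two_mul,
      pow_mul]
    exact Subgroup.npow_mem_zpowers _ _

theorem Quat.a_pow_eq_one {S : Subgroup G} {n : ℕ} {a b : G} (q : Quat S n a b) {k : ℕ}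
    (h : a ^ k = 1) : 2 ^ (n + 3) ∣ k := q.order_a ▸ orderOf_dvd_of_pow_eq_one h

theorem Quat.conj_a {S : Subgroup G} {n : ℕ} {a b : G} (q : Quat S n a b) :
    b * a * b⁻¹ = a⁻¹ := by rw [q.b_mul, mul_inv_cancel_right]

theorem Quat.conj_pow_a {S : Subgroup G} {n : ℕ} {a b : G} (q : Quat S n a b) (i : ℕ) :
    b * a ^ i * b⁻¹ = (a ^ i)⁻¹ := by rw [← conj_pow, q.conj_a, inv_pow]

theorem Quat.derived {S : Subgroup G} {n : ℕ} {a b : G} (q : Quat S n a b) :
    ⁅S, S⁆ = Subgroup.zpowers (a ^ 2) := by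
  refine le_antisymm q.comm_le (Subgroup.zpowers_le.mpr ?_)
  have h : ⁅a, b⁆ = a ^ 2 := by
    rw [commutatorElement_def, mul_assoc a, mul_assoc a]
    have : b * a⁻¹ * b⁻¹ = a := by
      rw [← inv_inj, show (b * a⁻¹ * b⁻¹)⁻¹ = b * a * b⁻¹ from by group, q.conj_a]
    rw [this, sq]
  exact h ▸ Subgroup.commutator_mem_commutator q.a_mem q.b_mem

/-- The centraliser of the derived subgroup meets the Sylow subgroup in the cyclic part. -/
theorem Quat.mem_zpowers_of_commute {S : Subgroup G} {n : ℕ} {a b : G} (q : Quat S n a b) {s : G}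
    (hs : s ∈ S) (hc : s * a ^ 2 = a ^ 2 * s) : s ∈ Subgroup.zpowers a := by
  obtain ⟨i, rfl | rfl⟩ := q.cases s hs
  · exact Subgroup.npow_mem_zpowers a i
  exfalso
  have h1 : b * a ^ 2 * b⁻¹ = a ^ 2 := by
    have : b * a ^ i * a ^ 2 = a ^ 2 * (b * a ^ i) := hc
    calc b * a ^ 2 * b⁻¹ = (b * a ^ i * a ^ 2) * (a ^ i)⁻¹ * b⁻¹ := by group
      _ = a ^ 2 * (b * a ^ i) * (a ^ i)⁻¹ * b⁻¹ := by rw [this]
      _ = a ^ 2 := by group
  rw [q.conj_pow_a] at h1
  have h4 : a ^ 4 = 1 := by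
    rw [show (4 : ℕ) = 2 + 2 from rfl, pow_add]
    nth_rewrite 1 [← h1]
    exact inv_mul_cancel _
  have := Nat.le_of_dvd (by norm_num) (q.a_pow_eq_one h4)
  have : 2 ^ 3 ≤ 2 ^ (n + 3) := Nat.pow_le_pow_right (by norm_num) (by omega)
  omega

/-- The involution in a generalized quaternion group is unique. -/
theorem Quat.involution {S : Subgroup G} {n : ℕ} {a b : G} (q : Quat S n a b) {s : G}
    (hs : s ∈ S) (h2 : orderOf s = 2) : s = a ^ 2 ^ (n + 2) := by
  obtain ⟨i, rfl | rfl⟩ := q.cases s hs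
  · have h1 : a ^ (i * 2) = 1 := by rw [pow_mul, ← h2, pow_orderOf_eq_one]
    have hne : a ^ i ≠ 1 := fun e => by rw [e, orderOf_one] at h2; omega
    obtain ⟨k, hk⟩ : 2 ^ (n + 2) ∣ i := Nat.dvd_of_mul_dvd_mul_right (show 0 < 2 by norm_num)
      (by rw [← pow_succ]; exact q.a_pow_eq_one h1)
    rcases Nat.even_or_odd k with ⟨j, rfl⟩ | ⟨j, rfl⟩
    · refine absurd ?_ hne
      rw [hk, show 2 ^ (n + 2) * (j + j) = 2 ^ (n + 3) * j by rw [pow_succ 2 (n + 2)]; ring, pow_mul,
        ← q.order_a, pow_orderOf_eq_one, one_pow]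
    · rw [hk, show 2 ^ (n + 2) * (2 * j + 1) = 2 ^ (n + 3) * j + 2 ^ (n + 2) by
        rw [pow_succ 2 (n + 2)]; ring, pow_add a, pow_mul, ← q.order_a, pow_orderOf_eq_one, one_pow,
        one_mul]
  · rw [q.order_ba i] at h2; omega

variable [Finite G]

/-- All involutions are conjugate. -/
theorem isConj_involutions (S : Sylow 2 G) {n : ℕ} {a b : G} (q : Quat (S : Subgroup G) n a b)
    {s : G} (h2 : orderOf s = 2) : IsConj s (a ^ 2 ^ (n + 2)) := by
  haveI : Fact (Nat.Prime 2) := ⟨Nat.prime_two⟩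
  have hp : IsPGroup 2 (Subgroup.zpowers s) :=
    IsPGroup.of_card (n := 1) (by rw [Nat.card_zpowers, h2, pow_one])
  obtain ⟨T, hT⟩ := hp.exists_le_sylow
  obtain ⟨g, hg⟩ := MulAction.exists_smul_eq G T S
  have hm : g * s * g⁻¹ ∈ (S : Subgroup G) := by
    rw [← hg, Sylow.coe_subgroup_smul, Subgroup.mem_pointwise_smul_iff_inv_smul_mem]
    simpa [MulAut.smul_def, mul_assoc] using hT (Subgroup.mem_zpowers s)
  rw [← q.involution hm (by rw [show g * s * g⁻¹ = MulAut.conj g s from rfl, MulEquiv.orderOf_eq, h2])]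
  exact isConj_iff.mpr ⟨g, rfl⟩

/-- The map from the centraliser of the derived subgroup onto the cyclic part. -/
theorem exists_retraction (S : Sylow 2 G) {n : ℕ} {a b : G} (q : Quat (S : Subgroup G) n a b)
    {D : Subgroup G} (hD : D = Subgroup.zpowers (a ^ 2))
    (ha : a ∈ Subgroup.centralizer (D : Set G)) :
    ∃ f : ↥(Subgroup.centralizer (D : Set G)) →* G, (∀ c, f c ∈ Subgroup.zpowers a) ∧
      (∀ c, f c = 1 → Odd (orderOf c)) ∧ orderOf (f ⟨a, ha⟩) = 2 ^ (n + 3) ∧
      ∀ c, ∃ i : ℕ, f c = f ⟨a, ha⟩ ^ i := by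
  classical
  haveI : Fact (Nat.Prime 2) := ⟨Nat.prime_two⟩
  set C := Subgroup.centralizer (D : Set G) with hC
  set N := Subgroup.normalizer (D : Set G) with hN
  have hCN : C ≤ N := Subgroup.centralizer_le_normalizer _
  set A := Subgroup.zpowers a with hA
  have hAC : A ≤ C := Subgroup.zpowers_le.mpr ha
  have hAp : IsPGroup 2 (A.subgroupOf C) := (IsPGroup.of_card (n := n + 3)
    (by rw [Nat.card_zpowers, q.order_a]) : IsPGroup 2 A).of_equiv
      (Subgroup.subgroupOfEquivOfLe hAC).symm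
  obtain ⟨T, hT⟩ := hAp.exists_le_sylow
  have hSN : (S : Subgroup G) ≤ N := by
    intro s hs
    rw [hN, hD, ← q.derived]
    refine Subgroup.mem_normalizer_iff_map_conj_eq.mpr ?_
    rw [Subgroup.map_commutator]
    have : (S : Subgroup G).map ((MulAut.conj s : G ≃* G) : G →* G) = (S : Subgroup G) :=
      Subgroup.mem_normalizer_iff_map_conj_eq.mp (Subgroup.le_normalizer hs)
    rw [this]
  set T' := (T : Subgroup C).map C.subtype with hT'
  have hT'C : T' ≤ C := Subgroup.map_subtype_le _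
  obtain ⟨R, hR⟩ := ((T.isPGroup'.map C.subtype).comap_subtype (K := N) :
    IsPGroup 2 (T'.subgroupOf N)).exists_le_sylow
  obtain ⟨x, hx⟩ := MulAction.exists_smul_eq N R (S.subtype hSN)
  have hTA : ∀ t ∈ T', (x : G) * t * (x : G)⁻¹ ∈ A := by
    intro t ht
    have h1 : x * ⟨t, hCN (hT'C ht)⟩ * x⁻¹ ∈ ((S.subtype hSN : Sylow 2 N) : Subgroup N) := by
      rw [← hx, Sylow.coe_subgroup_smul, Subgroup.mem_pointwise_smul_iff_inv_smul_mem]
      simpa [MulAut.smul_def, mul_assoc] using hR (Subgroup.mem_subgroupOf.mpr ht)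
    refine q.mem_zpowers_of_commute (by simpa [Sylow.coe_subtype, Subgroup.mem_subgroupOf] using h1) ?_
    have h2 : (x : G) * t * (x : G)⁻¹ ∈ C := by
      rw [hC, Subgroup.mem_centralizer_iff]
      intro d hd
      have hd' : (x : G)⁻¹ * d * x ∈ D := by
        have := (Subgroup.mem_normalizer_iff.mp (N.inv_mem x.2) d).mp hd
        simpa using this
      have h3 := Subgroup.mem_centralizer_iff.mp (hT'C ht) _ hd'
      calc d * ((x : G) * t * (x : G)⁻¹) = x * (((x : G)⁻¹ * d * x) * t) * (x : G)⁻¹ := by group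
        _ = x * (t * ((x : G)⁻¹ * d * x)) * (x : G)⁻¹ := by rw [h3]
        _ = _ := by group
    exact (Subgroup.mem_centralizer_iff.mp h2 _ (hD ▸ Subgroup.mem_zpowers _)).symm
  have hcard : Nat.card T' ≤ Nat.card A := by
    refine Nat.card_le_card_of_injective (fun t => ⟨_, hTA t t.2⟩) fun t t' h => ?_
    exact Subtype.ext (mul_left_cancel (mul_right_cancel (congrArg Subtype.val h)))
  have hTeq : (T : Subgroup C) = A.subgroupOf C := by
    refine (Subgroup.eq_of_le_of_card_ge hT ?_).symm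
    rw [hT', Subgroup.card_map_of_injective C.subtype_injective] at hcard
    rwa [Nat.card_congr (Subgroup.subgroupOfEquivOfLe hAC).toEquiv]
  have haT : (⟨a, ha⟩ : C) ∈ (T : Subgroup C) := by
    rw [hTeq]; exact Subgroup.mem_subgroupOf.mpr (Subgroup.mem_zpowers a)
  have hcyc : IsCyclic T := by
    haveI : IsCyclic (A.subgroupOf C) :=
      isCyclic_of_surjective _ (Subgroup.subgroupOfEquivOfLe hAC).symm.surjective
    exact hTeq ▸ this
  have hmin : (Nat.card C).minFac = 2 := by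
    rw [Nat.minFac_eq_two_iff]
    exact dvd_trans (dvd_pow_self 2 (Nat.succ_ne_zero (n + 2))) (q.order_a ▸
      (Subgroup.orderOf_mk a ha ▸ orderOf_dvd_natCard (⟨a, ha⟩ : C)))
  set φ := MonoidHom.transferSylow T (hcyc.normalizer_le_centralizer hmin) with hφ
  have hcompl := hcyc.isComplement' hmin
  let f : C →* G := (C.subtype.comp (T : Subgroup C).subtype).comp φ
  have hval : ∀ c, f c ∈ Subgroup.zpowers a := fun c => by
    exact Subgroup.mem_subgroupOf.mp (hTeq.le (φ c).2)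
  have hinjT : ∀ t ∈ (T : Subgroup C), f t = 1 → t = 1 := fun t ht h => by
    have hk : t ∈ φ.ker := Subtype.ext (Subtype.ext h)
    exact Subgroup.mem_bot.mp (hcompl.disjoint.le_bot ⟨hk, ht⟩)
  have hord : orderOf (f ⟨a, ha⟩) = 2 ^ (n + 3) := by
    refine (orderOf_map_dvd f _).antisymm ?_ |>.trans (by rw [Subgroup.orderOf_mk, q.order_a])
    refine orderOf_dvd_of_pow_eq_one (hinjT _ ((T : Subgroup C).pow_mem haT _) ?_)
    rw [map_pow, pow_orderOf_eq_one]
  refine ⟨f, hval, fun c hc => ?_, hord, fun c => ?_⟩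
  · have hk : c ∈ φ.ker := Subtype.ext (Subtype.ext hc)
    have h1 : orderOf c ∣ Nat.card φ.ker := φ.ker.orderOf_dvd_natCard hk
    have h2 : Nat.card φ.ker = (T : Subgroup C).index := hcompl.index_eq_card.symm
    refine Odd.of_dvd_nat ?_ (h2 ▸ h1)
    rw [← Nat.not_even_iff_odd, even_iff_two_dvd]
    exact T.not_dvd_index
  · have hz : Subgroup.zpowers (f ⟨a, ha⟩) = Subgroup.zpowers a :=
      Subgroup.eq_of_le_of_card_ge (Subgroup.zpowers_le.mpr (hval _))
        (by rw [Nat.card_zpowers, Nat.card_zpowers, hord, q.order_a])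
    obtain ⟨i, hi⟩ := Submonoid.mem_powers_iff _ _ |>.mp
      (mem_powers_iff_mem_zpowers.mpr (hz ▸ hval c))
    exact ⟨i, hi.symm⟩

/-- The basic facts about the normaliser and centraliser of the derived subgroup. -/
structure Setup (S : Subgroup G) (n : ℕ) (a b : G) (D : Subgroup G)
    (f : ↥(Subgroup.centralizer (D : Set G)) →* G) : Prop where
  quat : Quat S n a b
  eqD : D = Subgroup.zpowers (a ^ 2)
  cardD : Nat.card D = 2 ^ (n + 2)
  aC : a ∈ Subgroup.centralizer (D : Set G)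
  bN : b ∈ Subgroup.normalizer (D : Set G)
  bnC : b ∉ Subgroup.centralizer (D : Set G)
  odd_ker : ∀ c, f c = 1 → Odd (orderOf c)
  order_fa : orderOf (f ⟨a, aC⟩) = 2 ^ (n + 3)
  gen : ∀ c, ∃ i : ℕ, f c = f ⟨a, aC⟩ ^ i
  coset : ∀ g ∈ Subgroup.normalizer (D : Set G), g ∈ Subgroup.centralizer (D : Set G) ∨
    b⁻¹ * g ∈ Subgroup.centralizer (D : Set G)

theorem exists_setup (S : Sylow 2 G) (n : ℕ)
    (e : (S : Subgroup G) ≃* QuaternionGroup (2 ^ (n + 2))) (D : Subgroup G)
    (hD : D = ⁅(S : Subgroup G), (S : Subgroup G)⁆) :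
    ∃ a b f, Setup (S : Subgroup G) n a b D f := by
  classical
  haveI : Fact (Nat.Prime 2) := ⟨Nat.prime_two⟩
  obtain ⟨a, b, q⟩ := exists_quat (S : Subgroup G) n e
  have hDz : D = Subgroup.zpowers (a ^ 2) := hD.trans q.derived
  have ha : a ∈ Subgroup.centralizer (D : Set G) := by
    rw [hDz, Subgroup.mem_centralizer_iff]
    rintro _ ⟨i, rfl⟩
    exact ((Commute.refl a).pow_left 2).zpow_left i
  set C := Subgroup.centralizer (D : Set G) with hC
  set N := Subgroup.normalizer (D : Set G) with hN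
  obtain ⟨f, -, hodd, hord, hgen⟩ := exists_retraction S q hDz ha
  have hSN : (S : Subgroup G) ≤ N := by
    intro s hs
    rw [hN, hD]
    refine Subgroup.mem_normalizer_iff_map_conj_eq.mpr ?_
    rw [Subgroup.map_commutator]
    have : (S : Subgroup G).map ((MulAut.conj s : G ≃* G) : G →* G) = (S : Subgroup G) :=
      Subgroup.mem_normalizer_iff_map_conj_eq.mp (Subgroup.le_normalizer hs)
    rw [this]
  have hcardD : Nat.card D = 2 ^ (n + 2) := by
    rw [hDz, Nat.card_zpowers, orderOf_pow, q.order_a,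
      Nat.gcd_eq_right (dvd_pow_self 2 (Nat.succ_ne_zero (n + 2))), pow_succ, Nat.mul_div_cancel _
        (by norm_num)]
  have hCN : C ≤ N := Subgroup.centralizer_le_normalizer _
  have hbC : b ∉ C := fun hb => by
    have h1 := q.mem_zpowers_of_commute q.b_mem
      (Subgroup.mem_centralizer_iff.mp hb _ (hDz ▸ Subgroup.mem_zpowers _)).symm
    obtain ⟨i, hi⟩ := Submonoid.mem_powers_iff _ _ |>.mp (mem_powers_iff_mem_zpowers.mpr h1)
    have h2 := q.conj_a
    rw [← hi, ((Commute.refl a).pow_left i).eq, mul_inv_cancel_right] at h2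
    have h3 : a ^ 2 = 1 := by rw [sq]; nth_rewrite 1 [h2]; exact inv_mul_cancel a
    have := Nat.le_of_dvd (by norm_num) (q.a_pow_eq_one h3)
    have : 2 ^ 3 ≤ 2 ^ (n + 3) := Nat.pow_le_pow_right (by norm_num) (by omega)
    omega
  haveI : IsCyclic D := by rw [hDz]; exact Subgroup.isCyclic_zpowers _
  have hidx : C.relIndex N ∣ 2 ^ (n + 1) := by
    have h1 := Subgroup.card_dvd_of_injective _
      (QuotientGroup.kerLift_injective D.normalizerMonoidHom)
    rw [Subgroup.normalizerMonoidHom_ker, ← Subgroup.index, ← Subgroup.relIndex,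
      IsCyclic.card_mulAut, hcardD, Nat.totient_prime_pow Nat.prime_two (by omega)] at h1
    simpa using h1
  have hCn : (C.subgroupOf N).Normal := by
    rw [hC, hN, ← Subgroup.normalizerMonoidHom_ker]; infer_instance
  haveI := hCn
  have htop : (S : Subgroup G).subgroupOf N ⊔ C.subgroupOf N = ⊤ := by
    rw [← Subgroup.index_eq_one]
    set X := (S : Subgroup G).subgroupOf N ⊔ C.subgroupOf N with hX
    have h1 : X.index ∣ 2 ^ (n + 1) :=
      dvd_trans (Subgroup.index_dvd_of_le le_sup_right) hidx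
    have h2 : ¬ 2 ∣ X.index := fun h => S.not_dvd_index
      (dvd_trans (h.trans (Subgroup.index_dvd_of_le le_sup_left))
        (Subgroup.relIndex_dvd_index_of_le hSN))
    obtain ⟨j, -, hj⟩ := (Nat.dvd_prime_pow Nat.prime_two).mp h1
    rcases j with _ | j
    · simpa using hj
    · exact absurd (hj ▸ dvd_pow_self 2 (Nat.succ_ne_zero j)) h2
  refine ⟨a, b, f, ⟨q, hDz, hcardD, ha, hSN q.b_mem, hbC, hodd, hord, hgen, fun g hg => ?_⟩⟩
  have hmem : (⟨g, hg⟩ : N) ∈ (S : Subgroup G).subgroupOf N ⊔ C.subgroupOf N := by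
    rw [htop]; exact Subgroup.mem_top _
  obtain ⟨s, hs, c, hc, hsc⟩ := Subgroup.mem_sup_of_normal_right.mp hmem
  have hg' : g = (s : G) * (c : G) := (congrArg Subtype.val hsc).symm
  obtain ⟨i, hi | hi⟩ := q.cases _ (Subgroup.mem_subgroupOf.mp hs)
  · refine .inl ?_
    rw [hg', hi]
    exact C.mul_mem (C.pow_mem ha i) (Subgroup.mem_subgroupOf.mp hc)
  · refine .inr ?_
    rw [hg', hi, ← mul_assoc, inv_mul_cancel_left]
    exact C.mul_mem (C.pow_mem ha i) (Subgroup.mem_subgroupOf.mp hc)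

end CfsgLib.BS
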