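import Cfsg.Agent.Lib.CharBS

/-!
# The exceptional characters in the Brauer-Suzuki theorem
-/

set_option autoImplicit false
set_option linter.style.haveILetI false
set_option linter.unusedSectionVars false

namespace CfsgLib.BS

open Cfsg Representation CfsgLib.Char
open scoped ComplexConjugate commutatorElement

universe u

variable {G : Type u} [Group G] [Finite G] {S : Subgroup G} {n : ℕ} {a b : G} {D : Subgroup G}
  {f : ↥(Subgroup.centralizer (D : Set G)) →* G}

theorem Setup.conj_mem (st : Setup S n a b D f) {g : G} (hg : g ∈ Subgroup.normalizer (D : Set G))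
    {y : G} (hy : y ∈ Subgroup.centralizer (D : Set G)) :
    g * y * g⁻¹ ∈ Subgroup.centralizer (D : Set G) := by
  rw [Subgroup.mem_centralizer_iff]
  intro d hd
  have hd' : g⁻¹ * d * g ∈ D := by
    simpa using (Subgroup.mem_normalizer_iff.mp ((Subgroup.normalizer (D : Set G)).inv_mem hg) d).mp hd
  have h3 := Subgroup.mem_centralizer_iff.mp hy _ hd'
  calc d * (g * y * g⁻¹) = g * ((g⁻¹ * d * g) * y) * g⁻¹ := by group
    _ = g * (y * (g⁻¹ * d * g)) * g⁻¹ := by rw [h3]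
    _ = _ := by group

theorem Setup.order_value (st : Setup S n a b D f) (c : ↥(Subgroup.centralizer (D : Set G))) :
    orderOf (f c) ∣ 2 ^ (n + 3) := by
  obtain ⟨i, hi⟩ := st.gen c
  rw [hi, ← st.order_fa]
  exact orderOf_dvd_of_pow_eq_one (by rw [← pow_mul, mul_comm, pow_mul, pow_orderOf_eq_one, one_pow])

theorem Setup.ker_of_odd (st : Setup S n a b D f) {c : ↥(Subgroup.centralizer (D : Set G))}
    (h : Odd (orderOf c)) : f c = 1 := by
  rw [← orderOf_eq_one_iff]
  refine Nat.eq_one_of_dvd_coprimes ?_ (st.order_value c) (orderOf_map_dvd f c)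
  exact (Nat.coprime_two_left.mpr h).pow_left _

theorem Setup.comm_value (st : Setup S n a b D f) (c c' : ↥(Subgroup.centralizer (D : Set G))) :
    f c * f c' = f c' * f c := by
  obtain ⟨i, hi⟩ := st.gen c
  obtain ⟨j, hj⟩ := st.gen c'
  rw [hi, hj, ← pow_add, ← pow_add, add_comm]

theorem Setup.conj_b (st : Setup S n a b D f) (c : ↥(Subgroup.centralizer (D : Set G))) :
    f ⟨b * c * b⁻¹, st.conj_mem st.bN c.2⟩ = (f c)⁻¹ := by
  let σ : ↥(Subgroup.centralizer (D : Set G)) →* ↥(Subgroup.centralizer (D : Set G)) :=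
    { toFun := fun x => ⟨b * x * b⁻¹, st.conj_mem st.bN x.2⟩
      map_one' := Subtype.ext (show b * 1 * b⁻¹ = 1 by group)
      map_mul' := fun x y => Subtype.ext (show b * (x * y : G) * b⁻¹ = b * x * b⁻¹ * (b * y * b⁻¹) by
        group) }
  show f (σ c) = (f c)⁻¹
  obtain ⟨i, hi⟩ := st.gen c
  set α : ↥(Subgroup.centralizer (D : Set G)) := ⟨a, st.aC⟩ with hα
  set k := c * (α ^ i)⁻¹ with hk
  have hk1 : f k = 1 := by rw [hk, map_mul, map_inv, map_pow, hi, mul_inv_cancel]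
  have hk2 : f (σ k) = 1 := by
    refine st.ker_of_odd ?_
    exact (st.odd_ker k hk1).of_dvd_nat (orderOf_map_dvd σ k)
  have ha : σ α = α⁻¹ := Subtype.ext st.quat.conj_a
  have hc : c = k * α ^ i := by rw [hk, inv_mul_cancel_right]
  rw [hi, hc, map_mul, map_pow, ha, map_mul, hk2, one_mul, map_pow, map_inv, inv_pow]

/-- The key property of the special elements. -/
theorem Setup.le_zpowers (st : Setup S n a b D f) {y : G}
    (hy : y ∈ Subgroup.centralizer (D : Set G)) (hdvd : Nat.card D ∣ orderOf y) :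
    D ≤ Subgroup.zpowers y := by
  set α : ↥(Subgroup.centralizer (D : Set G)) := ⟨a, st.aC⟩ with hα
  rw [st.cardD] at hdvd
  obtain ⟨z, hzy, hz⟩ : ∃ z, z ∈ Subgroup.zpowers y ∧ orderOf z = 2 ^ (n + 2) := by
    refine ⟨y ^ (orderOf y / 2 ^ (n + 2)), Subgroup.npow_mem_zpowers y _, ?_⟩
    rw [orderOf_pow_of_dvd _ (Nat.div_dvd_of_dvd hdvd), Nat.div_div_self hdvd (orderOf_pos y).ne']
    exact (Nat.div_pos (Nat.le_of_dvd (orderOf_pos y) hdvd) (by positivity)).ne'
  have hzC : z ∈ Subgroup.centralizer (D : Set G) := (Subgroup.zpowers_le.mpr hy) hzy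
  set ζ : ↥(Subgroup.centralizer (D : Set G)) := ⟨z, hzC⟩ with hζ
  have hm : ζ ^ 2 ^ (n + 2) = 1 := Subtype.ext (by rw [← hz]; exact pow_orderOf_eq_one z)
  obtain ⟨i, hi⟩ := st.gen ζ
  have h1 : f α ^ (i * 2 ^ (n + 2)) = 1 := by rw [pow_mul, ← hi, ← map_pow, hm, map_one]
  have h2 : 2 * 2 ^ (n + 2) ∣ i * 2 ^ (n + 2) := by
    rw [← pow_succ']; exact st.order_fa ▸ orderOf_dvd_of_pow_eq_one h1
  obtain ⟨j, rfl⟩ : 2 ∣ i := Nat.dvd_of_mul_dvd_mul_right (show 0 < 2 ^ (n + 2) by positivity) h2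
  have hd : a ^ (2 * j) ∈ D := by rw [st.eqD, pow_mul]; exact Subgroup.npow_mem_zpowers _ j
  have hcomm : Commute ζ (α ^ (2 * j)) :=
    Subtype.ext (Subgroup.mem_centralizer_iff.mp hzC _ hd).symm
  set w := ζ * (α ^ (2 * j))⁻¹ with hw
  have hw1 : f w = 1 := by rw [hw, map_mul, map_inv, map_pow, hi, mul_inv_cancel]
  have hw2 : w ^ 2 ^ (n + 2) = 1 := by
    rw [hw, hcomm.inv_right.mul_pow, hm, one_mul, inv_pow, inv_eq_one, ← pow_mul]
    refine Subtype.ext ?_
    show a ^ (2 * j * 2 ^ (n + 2)) = 1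
    rw [show 2 * j * 2 ^ (n + 2) = 2 ^ (n + 3) * j by rw [pow_succ 2 (n + 2)]; ring, pow_mul,
      ← st.quat.order_a, pow_orderOf_eq_one, one_pow]
  have hw3 : w = 1 := orderOf_eq_one_iff.mp (Nat.eq_one_of_dvd_coprimes
    ((Nat.coprime_two_left.mpr (st.odd_ker w hw1)).pow_left (n + 2))
    (orderOf_dvd_of_pow_eq_one hw2) dvd_rfl)
  have hze : ζ = α ^ (2 * j) := by
    rw [hw, mul_inv_eq_one] at hw3; exact hw3
  have hzD : z ∈ D := by
    have : z = a ^ (2 * j) := congrArg Subtype.val hze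
    rw [this]; exact hd
  have hDz : Subgroup.zpowers z = D := Subgroup.eq_of_le_of_card_ge (Subgroup.zpowers_le.mpr hzD)
    (by rw [Nat.card_zpowers, hz, st.cardD])
  rw [← hDz]
  exact Subgroup.zpowers_le.mpr hzy

theorem Setup.mem_normalizer (st : Setup S n a b D f) {g y : G}
    (hy : y ∈ Subgroup.centralizer (D : Set G)) (hdvd : Nat.card D ∣ orderOf y)
    (hg : g * y * g⁻¹ ∈ Subgroup.centralizer (D : Set G)) : g ∈ Subgroup.normalizer (D : Set G) := by
  have hord : orderOf (g * y * g⁻¹) = orderOf y := MulEquiv.orderOf_eq (MulAut.conj g) y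
  have h1 := st.le_zpowers hy hdvd
  have h2 := st.le_zpowers hg (hord ▸ hdvd)
  have h3 : D.map (MulAut.conj g).toMonoidHom ≤ Subgroup.zpowers (g * y * g⁻¹) := by
    refine (Subgroup.map_mono h1).trans (le_of_eq ?_)
    rw [MonoidHom.map_zpowers]
    rfl
  have heq : D.map (MulAut.conj g).toMonoidHom = D := by
    set Z := Subgroup.zpowers (g * y * g⁻¹) with hZ
    have e1 : Nat.card ((D.map (MulAut.conj g).toMonoidHom).subgroupOf Z) =
        Nat.card (D.subgroupOf Z) := by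
      rw [Nat.card_congr (Subgroup.subgroupOfEquivOfLe h3).toEquiv,
        Nat.card_congr (Subgroup.subgroupOfEquivOfLe h2).toEquiv,
        Subgroup.card_map_of_injective (MulAut.conj g).injective]
    haveI : IsCyclic Z := Subgroup.isCyclic_zpowers _
    obtain ⟨x, hx⟩ := IsCyclic.exists_generator (α := Z)
    have hsub : ∀ H : Subgroup Z, H = Subgroup.zpowers (x ^ H.index) := fun H => by
      refine (Subgroup.eq_of_le_of_card_ge (Subgroup.zpowers_le.mpr ?_) ?_).symm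
      · exact Subgroup.pow_index_mem H x
      · rw [Nat.card_zpowers, orderOf_pow, orderOf_eq_card_of_forall_mem_zpowers hx,
          Nat.gcd_eq_right H.index_dvd_card, ← H.card_mul_index,
          Nat.mul_div_cancel _ (Nat.pos_of_ne_zero Subgroup.index_ne_zero_of_finite)]
    have e2 : (D.map (MulAut.conj g).toMonoidHom).subgroupOf Z = D.subgroupOf Z := by
      have i1 := (D.map (MulAut.conj g).toMonoidHom).subgroupOf Z |>.card_mul_index
      have i2 := (D.subgroupOf Z).card_mul_index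
      rw [hsub ((D.map (MulAut.conj g).toMonoidHom).subgroupOf Z), hsub (D.subgroupOf Z)]
      congr 2
      rw [e1] at i1
      exact Nat.eq_of_mul_eq_mul_left Nat.card_pos (i1.trans i2.symm)
    have e3 := congrArg (Subgroup.map Z.subtype) e2
    rwa [Subgroup.map_subgroupOf_eq_of_le h3, Subgroup.map_subgroupOf_eq_of_le h2] at e3
  exact Subgroup.mem_normalizer_iff_map_conj_eq.mpr heq

theorem Setup.index_two (st : Setup S n a b D f) :
    ((Subgroup.centralizer (D : Set G)).subgroupOf (Subgroup.normalizer (D : Set G))).index = 2 := by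
  rw [Subgroup.index_eq_two_iff]
  refine ⟨⟨b, st.bN⟩⁻¹, fun g => ?_⟩
  simp only [Subgroup.mem_subgroupOf, Subgroup.coe_mul, InvMemClass.coe_inv]
  rcases st.coset g g.2 with h | h
  · refine .inr ⟨h, fun hb => st.bnC ?_⟩
    have := (Subgroup.centralizer (D : Set G)).mul_mem ((Subgroup.centralizer (D : Set G)).inv_mem h) hb
    rw [inv_mul_cancel_left] at this
    simpa using (Subgroup.centralizer (D : Set G)).inv_mem this
  · refine .inl ⟨?_, fun hg => st.bnC ?_⟩
    · have := st.conj_mem st.bN h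
      simpa [mul_assoc] using this
    · have := (Subgroup.centralizer (D : Set G)).mul_mem hg ((Subgroup.centralizer (D : Set G)).inv_mem h)
      simpa [mul_assoc] using this

/-- The linear character of order four. -/
theorem Setup.exists_lam (st : Setup S n a b D f) :
    ∃ lam : ↥(Subgroup.centralizer (D : Set G)) →* ℂˣ,
      (lam ⟨a, st.aC⟩ : ℂ) = Complex.I ∧ (∀ c, (lam c : ℂ) ^ 4 = 1) ∧
      (∀ c : ↥(Subgroup.centralizer (D : Set G)),
        lam ⟨b * c * b⁻¹, st.conj_mem st.bN c.2⟩ = (lam c)⁻¹) ∧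
      ∀ c : ↥(Subgroup.centralizer (D : Set G)), ¬ Nat.card D ∣ orderOf (c : G) → lam c = 1 := by
  set α : ↥(Subgroup.centralizer (D : Set G)) := ⟨a, st.aC⟩ with hα
  set Z := Subgroup.zpowers (f α) with hZ
  have hmem : ∀ c, f c ∈ Z := fun c => by
    obtain ⟨i, hi⟩ := st.gen c
    rw [hi]; exact Subgroup.npow_mem_zpowers _ i
  let g : Z := ⟨f α, Subgroup.mem_zpowers _⟩
  let ι : ℂˣ := ⟨Complex.I, -Complex.I, by simp, by simp⟩
  have hι : ι ^ 4 = 1 := Units.ext (by simp [ι])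
  have hgen : ∀ x : Z, x ∈ Subgroup.zpowers g := fun x => by
    obtain ⟨k, hk⟩ := Subgroup.mem_zpowers_iff.mp x.2
    exact Subgroup.mem_zpowers_iff.mpr ⟨k, Subtype.ext hk⟩
  have hdvd : orderOf ι ∣ orderOf g := by
    refine (orderOf_dvd_of_pow_eq_one hι).trans ?_
    rw [show orderOf g = orderOf (f α) from Subgroup.orderOf_mk _ _, st.order_fa]
    exact dvd_trans (by norm_num) (pow_dvd_pow 2 (show 2 ≤ n + 3 by omega))
  let ψ : Z →* ℂˣ := monoidHomOfForallMemZpowers hgen hdvd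
  let lam : ↥(Subgroup.centralizer (D : Set G)) →* ℂˣ := ψ.comp (f.codRestrict Z hmem)
  have hval : ∀ c (i : ℕ), f c = f α ^ i → lam c = ι ^ i := fun c i hi => by
    show ψ ⟨f c, hmem c⟩ = ι ^ i
    rw [show (⟨f c, hmem c⟩ : Z) = g ^ i from Subtype.ext hi, map_pow,
      monoidHomOfForallMemZpowers_apply_gen]
  refine ⟨lam, ?_, fun c => ?_, fun c => ?_, fun c hc => ?_⟩
  · rw [hval α 1 (pow_one _).symm, pow_one]
  · obtain ⟨i, hi⟩ := st.gen c
    rw [hval c i hi, ← Units.val_pow_eq_pow_val, ← pow_mul, mul_comm, pow_mul, hι, one_pow,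
      Units.val_one]
  · obtain ⟨i, hi⟩ := st.gen c
    show ψ ⟨_, _⟩ = (ψ ⟨_, _⟩)⁻¹
    rw [← map_inv]
    exact congrArg ψ (Subtype.ext (st.conj_b c))
  · obtain ⟨i, hi⟩ := st.gen c
    rw [hval c i hi]
    have h0 : orderOf (f c) ∣ 2 ^ (n + 1) := by
      obtain ⟨k, hk, hk'⟩ := (Nat.dvd_prime_pow Nat.prime_two).mp (st.order_value c)
      rw [hk']
      refine pow_dvd_pow 2 ?_
      by_contra hlt
      refine hc ?_
      rw [st.cardD, Subgroup.orderOf_coe]
      exact dvd_trans (pow_dvd_pow 2 (show n + 2 ≤ k by omega)) (hk' ▸ orderOf_map_dvd f c)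
    have h1 : f α ^ (i * 2 ^ (n + 1)) = 1 := by rw [pow_mul, ← hi, orderOf_dvd_iff_pow_eq_one.mp h0]
    have h2 : 4 * 2 ^ (n + 1) ∣ i * 2 ^ (n + 1) := by
      rw [show 4 * 2 ^ (n + 1) = 2 ^ (n + 3) by ring]
      exact st.order_fa ▸ orderOf_dvd_of_pow_eq_one h1
    obtain ⟨j, rfl⟩ := Nat.dvd_of_mul_dvd_mul_right (show 0 < 2 ^ (n + 1) by positivity) h2
    rw [pow_mul, hι, one_pow]

/-- A virtual character of norm two and value `-1` at the identity. -/
theorem genChar_norm_two' {X : Type u} [Group X] [Fintype X] {θ : X → ℂ}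
    (hθ : IsGeneralizedCharacter X θ) (h : classInner θ θ = 2) (h1 : θ 1 = -1)
    (ho : classInner θ (fun _ => 1) = 0) :
    ∃ χ ψ : X → ℂ, IsIrrCharacter X χ ∧ IsIrrCharacter X ψ ∧ χ ≠ (fun _ => 1) ∧ ψ ≠ (fun _ => 1) ∧
      χ 1 = ψ 1 + 1 ∧ θ = ψ - χ := by
  classical
  obtain ⟨c, hc, hexp, hnorm⟩ := genChar_coeffs hθ
  rw [h] at hnorm
  have hsum : ∑ χ : IrrCharacter X, c χ ^ 2 = 2 := by exact_mod_cast hnorm.symm
  set T := Finset.univ.filter fun χ : IrrCharacter X => c χ ≠ 0 with hT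
  have hT2 : ∑ χ ∈ T, c χ ^ 2 = 2 := by
    refine Eq.trans ?_ hsum
    rw [hT]
    exact Finset.sum_filter_of_ne fun χ _ hne hz => hne (by rw [hz]; norm_num)
  have hsq : ∀ χ ∈ T, c χ ^ 2 = 1 := fun χ hχ => by
    have h0 : c χ ≠ 0 := (Finset.mem_filter.mp hχ).2
    have h2 : c χ ^ 2 ≤ 2 :=
      hT2 ▸ Finset.single_le_sum (f := fun χ => c χ ^ 2) (fun _ _ => sq_nonneg _) hχ
    have hu : c χ ≤ 1 := by nlinarith
    have hl : -1 ≤ c χ := by nlinarith
    rcases (by omega : c χ = -1 ∨ c χ = 0 ∨ c χ = 1) with e | e | e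
    · rw [e]; norm_num
    · exact absurd e h0
    · rw [e]; norm_num
  have hcard : T.card = 2 := by
    rw [Finset.sum_congr rfl hsq] at hT2
    simp only [Finset.sum_const, nsmul_eq_mul, mul_one] at hT2
    exact_mod_cast hT2
  have hne1 : ∀ χ ∈ T, (χ : X → ℂ) ≠ fun _ => 1 := fun χ hχ e => by
    have h0 := hc χ
    rw [e, ho] at h0
    exact (Finset.mem_filter.mp hχ).2 (Int.cast_eq_zero.mp h0.symm)
  obtain ⟨x, y, hxy, hTxy⟩ := Finset.card_eq_two.mp hcard
  have hθ' : θ = (c x : ℂ) • (x : X → ℂ) + (c y : ℂ) • (y : X → ℂ) := by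
    rw [hexp, ← Finset.sum_filter_of_ne (p := fun χ : IrrCharacter X => c χ ≠ 0)
      (fun χ _ hne hz => hne (by simp [hz])), ← hT, hTxy, Finset.sum_pair hxy]
  obtain ⟨dx, hdx, hdx'⟩ := exists_degree_pos x.2
  obtain ⟨dy, hdy, hdy'⟩ := exists_degree_pos y.2
  have h1' := congrFun hθ' 1
  simp only [Pi.add_apply, Pi.smul_apply, smul_eq_mul, h1, hdx', hdy'] at h1'
  have h1z : (-1 : ℤ) = c x * dx + c y * dy := by exact_mod_cast h1'
  have hx := hTxy ▸ Finset.mem_insert_self x _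
  have hy := hTxy ▸ Finset.mem_insert_of_mem (Finset.mem_singleton_self y)
  rcases sq_eq_one_iff.mp (hsq x hx) with ex | ex <;> rcases sq_eq_one_iff.mp (hsq y hy) with ey | ey
  · exfalso; rw [ex, ey] at h1z; omega
  · refine ⟨y, x, y.2, x.2, hne1 y hy, hne1 x hx, ?_, ?_⟩
    · rw [hdx', hdy']; rw [ex, ey] at h1z
      exact_mod_cast (show dy = dx + 1 by omega)
    · rw [hθ', ex, ey]; simp [sub_eq_add_neg]
  · refine ⟨x, y, x.2, y.2, hne1 x hx, hne1 y hy, ?_, ?_⟩
    · rw [hdx', hdy']; rw [ex, ey] at h1z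
      exact_mod_cast (show dx = dy + 1 by omega)
    · rw [hθ', ex, ey]; simp [sub_eq_add_neg, add_comm]
  · exfalso; rw [ex, ey] at h1z; omega

end CfsgLib.BS
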