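import Cfsg.Agent.Lib.CharBS2
import Cfsg.Agent.Lib.CharPerm

/-!
# The Brauer-Suzuki theorem for Sylow subgroups of order at least sixteen
-/

set_option autoImplicit false
set_option linter.style.haveILetI false
set_option linter.unusedSectionVars false

namespace CfsgLib.BS

open Cfsg Representation CfsgLib.Char
open scoped ComplexConjugate commutatorElement

universe u

variable {G : Type u} [Group G] [Fintype G]

theorem natDeg_real {χ : G → ℂ} (hχ : IsIrrCharacter G χ) {t : G} (ht : t * t = 1) :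
    conj (χ t) = χ t := by
  rw [← isCharacter_inv_eq_conj hχ.isCharacter', inv_eq_of_mul_eq_one_right ht]

/-- Commuting involutions are equal. -/
theorem involution_eq_of_commute (S : Sylow 2 G) {n : ℕ} {a b : G}
    (q : Quat (S : Subgroup G) n a b) {s w : G} (hs : orderOf s = 2) (hw : orderOf w = 2)
    (hc : s * w = w * s) : s = w := by
  haveI : Fact (Nat.Prime 2) := ⟨Nat.prime_two⟩
  have hp : ∀ x : G, orderOf x = 2 → IsPGroup 2 (Subgroup.zpowers x) := fun x hx =>
    IsPGroup.of_card (n := 1) (by rw [Nat.card_zpowers, hx, pow_one])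
  have hle : Subgroup.zpowers s ≤ Subgroup.normalizer (Subgroup.zpowers w : Set G) := by
    refine Subgroup.zpowers_le.mpr (Subgroup.centralizer_le_normalizer _ ?_)
    rw [Subgroup.mem_centralizer_iff]
    rintro _ ⟨i, rfl⟩
    exact ((show Commute s w from hc).zpow_right i).eq.symm
  obtain ⟨T, hT⟩ := (IsPGroup.to_sup_of_normal_right' (hp s hs) (hp w hw) hle).exists_le_sylow
  obtain ⟨g, hg⟩ := MulAction.exists_smul_eq G T S
  have hmem : ∀ x ∈ (T : Subgroup G), g * x * g⁻¹ ∈ (S : Subgroup G) := fun x hx => by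
    rw [← hg, Sylow.coe_subgroup_smul, Subgroup.mem_pointwise_smul_iff_inv_smul_mem]
    simpa [MulAut.smul_def, mul_assoc] using hx
  have h1 := q.involution (hmem s (hT (Subgroup.mem_sup_left (Subgroup.mem_zpowers s))))
    (by rw [show g * s * g⁻¹ = MulAut.conj g s from rfl, MulEquiv.orderOf_eq, hs])
  have h2 := q.involution (hmem w (hT (Subgroup.mem_sup_right (Subgroup.mem_zpowers w))))
    (by rw [show g * w * g⁻¹ = MulAut.conj g w from rfl, MulEquiv.orderOf_eq, hw])
  exact mul_left_cancel (mul_right_cancel (h1.trans h2.symm))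

open scoped Classical in
/-- The exceptional pair of characters. -/
theorem exists_pair (S : Sylow 2 G) (n : ℕ)
    (e : (S : Subgroup G) ≃* QuaternionGroup (2 ^ (n + 2))) :
    ∃ χ₁ χ₂ : G → ℂ, IsIrrCharacter G χ₁ ∧ IsIrrCharacter G χ₂ ∧ χ₁ ≠ (fun _ => 1) ∧
      χ₂ ≠ (fun _ => 1) ∧ χ₁ 1 = χ₂ 1 + 1 ∧ (∀ g : G, ¬ 4 ∣ orderOf g → χ₁ g - χ₂ g = 1) ∧
      (∀ t : G, orderOf t = 2 → χ₁ t = χ₁ 1 ∧ χ₂ t = χ₂ 1) ∧
      ∃ a b : G, Quat (S : Subgroup G) n a b ∧ χ₁ (a ^ 2) - χ₂ (a ^ 2) = -3 := by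
  obtain ⟨D, hD⟩ : ∃ D : Subgroup G, D = ⁅(S : Subgroup G), (S : Subgroup G)⁆ := ⟨_, rfl⟩
  set C := Subgroup.centralizer (D : Set G) with hC
  set N := Subgroup.normalizer (D : Set G) with hN
  obtain ⟨a, b, f, st⟩ := exists_setup S n e D hD
  haveI : Fintype N := Fintype.ofFinite _
  haveI : Fintype C := Fintype.ofFinite _
  set C' := C.subgroupOf N with hC'
  haveI : Fintype C' := Fintype.ofFinite _
  haveI hCn : C'.Normal := ⟨fun x hx g => Subgroup.mem_subgroupOf.mpr
    (st.conj_mem g.2 (Subgroup.mem_subgroupOf.mp hx))⟩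
  obtain ⟨lam, hI, h4, hconj, hlam1⟩ := st.exists_lam
  let inC : C' → C := fun y => ⟨((y : N) : G), Subgroup.mem_subgroupOf.mp y.2⟩
  let lamN : C' →* ℂˣ :=
    { toFun := fun y => lam (inC y)
      map_one' := map_one lam
      map_mul' := fun y z => map_mul lam (inC y) (inC z) }
  set θ : C' → ℂ := fun y => 1 - (lamN y : ℂ) with hθ
  have hθg : IsGeneralizedCharacter C' θ :=
    isGenChar_sub (θ := fun _ => (1 : ℂ)) (φ := fun y => (lamN y : ℂ))
      (isGenChar_of_isCharacter isIrrCharacter_one.isCharacter')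
      (isGenChar_of_isCharacter (isIrrCharacter_hom lamN).isCharacter')
  set φ := indFun C' θ with hφ
  have hφg : IsGeneralizedCharacter N φ := isGenChar_indFun hθg
  have hcardN : Nat.card N = 2 * Nat.card C' := by
    rw [← C'.card_mul_index, st.index_two, mul_comm]
  have hφout : ∀ y : N, y ∉ C' → φ y = 0 := fun y hy => indFun_normal_not_mem θ hy
  have hφin : ∀ y : C', φ y = 2 - (lamN y : ℂ) - ((lamN y)⁻¹ : ℂˣ) := by
    intro y
    rw [hφ, indFun_normal_mem]
    have hterm : ∀ x : N, θ ⟨x * y * x⁻¹, hCn.conj_mem y y.2 x⟩ =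
        if x ∈ C' then 1 - (lamN y : ℂ) else 1 - (((lamN y)⁻¹ : ℂˣ) : ℂ) := by
      intro x
      split_ifs with hx
      · show 1 - (lamN _ : ℂ) = _
        rw [show (⟨x * y * x⁻¹, hCn.conj_mem y y.2 x⟩ : C') = ⟨x, hx⟩ * y * ⟨x, hx⟩⁻¹ from rfl,
          map_mul, map_mul, map_inv, mul_comm (lamN ⟨x, hx⟩), mul_inv_cancel_right]
      · rcases st.coset x x.2 with h | h
        · exact absurd (Subgroup.mem_subgroupOf.mpr h) hx
        · show 1 - ((lam _ : ℂˣ) : ℂ) = 1 - (((lam (inC y))⁻¹ : ℂˣ) : ℂ)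
          set c : C := ⟨b⁻¹ * (x : G), h⟩ with hc
          have e1 : inC ⟨x * y * x⁻¹, hCn.conj_mem y y.2 x⟩ =
              ⟨b * ((c * inC y * c⁻¹ : C) : G) * b⁻¹, st.conj_mem st.bN (c * inC y * c⁻¹).2⟩ := by
            refine Subtype.ext ?_
            show (x : G) * ((y : N) : G) * (x : G)⁻¹ =
              b * (b⁻¹ * (x : G) * ((y : N) : G) * (b⁻¹ * (x : G))⁻¹) * b⁻¹
            group
          rw [e1, hconj, map_mul, map_mul, map_inv, mul_comm (lam c), mul_inv_cancel_right]
    rw [Finset.sum_congr rfl fun x _ => hterm x, Finset.sum_ite, Finset.sum_const, Finset.sum_const,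
      nsmul_eq_mul, nsmul_eq_mul]
    have h1 : (Finset.univ.filter fun x : N => x ∈ C').card = Nat.card C' := by
      rw [Nat.card_eq_fintype_card, Fintype.card_subtype]
    have h2 : (Finset.univ.filter fun x : N => x ∉ C').card = Nat.card C' := by
      have h3 := Finset.card_filter_add_card_filter_not (s := (Finset.univ : Finset N)) (fun x => x ∈ C')
      rw [h1, Finset.card_univ, ← Nat.card_eq_fintype_card, hcardN] at h3
      omega
    rw [h1, h2]
    field_simp [natCard_ne_zero C']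
    ring
  have hsupp : ∀ y : N, φ y ≠ 0 → (y : G) ∈ C ∧ Nat.card D ∣ orderOf (y : G) := by
    intro y hy
    have hyC : y ∈ C' := by_contra fun h => hy (hφout y h)
    refine ⟨Subgroup.mem_subgroupOf.mp hyC, by_contra fun h => hy ?_⟩
    have h1 := hφin ⟨y, hyC⟩
    rw [show φ y = φ (⟨y, hyC⟩ : C') from rfl, h1, show lamN ⟨y, hyC⟩ = 1 from hlam1 _ h]
    norm_num
  set Φ := indFun N φ with hΦ
  have hΦg : IsGeneralizedCharacter G Φ := isGenChar_indFun hφg
  have hΦcl := isGenChar_classFunction hΦg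
  have hΦ0 : ∀ g : G, ¬ 4 ∣ orderOf g → Φ g = 0 := by
    intro g hg
    rw [hΦ, indFun_apply]
    refine mul_eq_zero_of_right _ (Finset.sum_eq_zero fun x _ => ?_)
    by_cases hm : x⁻¹ * g * x ∈ N
    · rw [extendByZero_mem φ hm]
      by_contra hne
      obtain ⟨-, h2⟩ := hsupp ⟨_, hm⟩ hne
      change Nat.card D ∣ orderOf (x⁻¹ * g * x) at h2
      rw [st.cardD, show x⁻¹ * g * x = MulAut.conj x⁻¹ g by simp, MulEquiv.orderOf_eq] at h2
      exact hg (dvd_trans (pow_dvd_pow 2 (show 2 ≤ n + 2 by omega)) h2)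
    · exact extendByZero_not_mem φ hm
  have hΦeq : ∀ y : N, (y : G) ∈ C → Nat.card D ∣ orderOf (y : G) → Φ y = φ y := by
    intro y hy hd
    refine indFun_eq_of_fusion φ (isGenChar_classFunction hφg) y fun x hx => ?_
    by_cases hm : x⁻¹ * (y : G) * x ∈ N
    · rw [extendByZero_mem φ hm]
      by_contra hne
      obtain ⟨h1, -⟩ := hsupp ⟨_, hm⟩ hne
      exact hx (inv_inv x ▸ N.inv_mem (st.mem_normalizer hy hd (g := x⁻¹) (by simpa using h1)))
    · exact extendByZero_not_mem φ hm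
  have hΦ1 : Φ 1 = 0 := hΦ0 1 (by rw [orderOf_one]; norm_num)
  have hsumlam : ∀ k : ℕ, ¬ 4 ∣ k → ∑ y : C', (lamN y : ℂ) ^ k = 0 := by
    intro k hk
    refine sum_hom_units_eq_zero (((Units.coeHom ℂ).comp lamN) ^ k : C' →* ℂ) fun h => hk ?_
    have h1 := DFunLike.congr_fun h (⟨⟨a, Subgroup.centralizer_le_normalizer _ st.aC⟩, st.aC⟩ : C')
    have h2 : (lam ⟨a, st.aC⟩ : ℂ) ^ k = 1 := h1
    rw [hI] at h2
    have h3 : k % 4 = 0 := by
      rw [← Nat.div_add_mod k 4, pow_add, pow_mul, Complex.I_pow_four, one_pow, one_mul] at h2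
      have := Nat.mod_lt k (show 4 > 0 by norm_num)
      interval_cases hm : k % 4
      · rfl
      · simp [Complex.ext_iff] at h2
      · simp [Complex.ext_iff, pow_two] at h2; norm_num at h2
      · simp [Complex.ext_iff, pow_succ] at h2
    omega
  have hpow4 : ∀ y : C', (((lamN y)⁻¹ : ℂˣ) : ℂ) = (lamN y : ℂ) ^ 3 := fun y => by
    have h := h4 (inC y)
    refine mul_left_cancel₀ (Units.ne_zero (lamN y)) ?_
    rw [Units.mul_inv, ← pow_succ']
    exact h.symm
  have hreal : ∀ y : C', conj (φ y) = φ y := fun y => by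
    rw [hφin y, map_sub, map_sub, map_ofNat, Units.val_inv_eq_inv_val, map_inv₀]
    have h1 : conj (lamN y : ℂ) = (lamN y : ℂ)⁻¹ :=
      (inv_eq_conj_of_pow_eq_one (show 0 < 4 by norm_num) (h4 (inC y))).symm
    rw [h1, inv_inv]; ring
  have hsumN : ∀ F : N → ℂ, (∀ y, y ∉ C' → F y = 0) → ∑ y : N, F y = ∑ y : C', F y := by
    intro F hF
    rw [← Finset.sum_filter_of_ne (p := fun y => y ∈ C') fun y _ h => by_contra fun hn => h (hF y hn)]
    exact Finset.sum_subtype _ (fun y => by simp) F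
  have hin1 : classInner φ (fun _ : N => 1) = 1 := by
    rw [classInner]
    simp only [map_one, mul_one]
    rw [hsumN φ hφout, Finset.sum_congr rfl fun y _ => hφin y]
    simp only [hpow4, Finset.sum_sub_distrib]
    have hs1 := hsumlam 1 (by norm_num)
    simp only [pow_one] at hs1
    rw [hs1, hsumlam 3 (by norm_num), Finset.sum_const, Finset.card_univ, ← Nat.card_eq_fintype_card,
      hcardN, nsmul_eq_mul]
    push_cast
    field_simp [natCard_ne_zero C']
    ring
  have hin2 : classInner φ φ = 3 := by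
    rw [classInner, hsumN _ (fun y hy => by rw [hφout y hy, zero_mul])]
    rw [Finset.sum_congr rfl (g := fun y : C' =>
      6 - 4 * (lamN y : ℂ) + 2 * (lamN y : ℂ) ^ 2 - 4 * (lamN y : ℂ) ^ 3) fun y _ => by
      rw [hreal y, hφin y, hpow4 y]
      linear_combination ((lamN y : ℂ) ^ 2 + 2) * h4 (inC y)]
    simp only [Finset.sum_sub_distrib, Finset.sum_add_distrib, ← Finset.mul_sum]
    have hs1 := hsumlam 1 (by norm_num)
    simp only [pow_one] at hs1
    rw [hs1, hsumlam 2 (by norm_num), hsumlam 3 (by norm_num), Finset.sum_const, Finset.card_univ,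
      ← Nat.card_eq_fintype_card, hcardN, nsmul_eq_mul]
    push_cast
    field_simp [natCard_ne_zero C']
    ring
  have hI1 : classInner Φ (fun _ : G => 1) = 1 := by
    rw [hΦ, frobenius φ _ (fun _ _ => rfl)]; exact hin1
  have hI2 : classInner Φ Φ = 3 := by
    rw [show classInner Φ Φ = classInner φ (fun y : N => Φ y) from frobenius φ Φ hΦcl, ← hin2]
    unfold classInner
    congr 1
    refine Finset.sum_congr rfl fun y _ => ?_
    rcases eq_or_ne (φ y) 0 with h | h
    · rw [h, zero_mul, zero_mul]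
    · beta_reduce
      rw [hΦeq y (hsupp y h).1 (hsupp y h).2]
  set η : G → ℂ := Φ - fun _ => 1 with hη
  have hηg : IsGeneralizedCharacter G η :=
    isGenChar_sub hΦg (isGenChar_of_isCharacter isIrrCharacter_one.isCharacter')
  have hI3 : classInner (fun _ : G => (1 : ℂ)) Φ = 1 := by rw [← Char.inner_conj_symm, hI1, map_one]
  obtain ⟨χ₁, χ₂, hχ₁, hχ₂, h11, h21, hdeg, hηe⟩ := genChar_norm_two' hηg
    (by rw [hη, Char.inner_sub_left, Char.inner_sub_right, Char.inner_sub_right, hI2, hI1, hI3,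
      irr_inner_self isIrrCharacter_one]; norm_num)
    (by rw [hη, Pi.sub_apply, hΦ1]; norm_num)
    (by rw [hη, Char.inner_sub_left, hI1, irr_inner_self isIrrCharacter_one, sub_self])
  have hne : χ₁ ≠ χ₂ := fun h => by simp [h] at hdeg
  have hval : ∀ g, χ₁ g - χ₂ g = 1 - Φ g := fun g => by
    have h := congrFun hηe g
    simp only [hη, Pi.sub_apply] at h
    linear_combination h
  have hdiff : ∀ g : G, ¬ 4 ∣ orderOf g → χ₁ g - χ₂ g = 1 := fun g hg => by
    rw [hval, hΦ0 g hg, sub_zero]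
  refine ⟨χ₁, χ₂, hχ₁, hχ₂, h11, h21, hdeg, hdiff, fun t ht => ?_, a, b, st.quat, ?_⟩
  · -- the involutions lie in the kernels
    have ht2 : t * t = 1 := by rw [← pow_two, ← ht, pow_orderOf_eq_one]
    have ht1 : t ≠ 1 := fun h => by rw [h, orderOf_one] at ht; omega
    have hzero : ∀ g : G, 4 ∣ orderOf g →
        ∑ χ : IrrCharacter G, conj ((χ : G → ℂ) t) * conj ((χ : G → ℂ) t) * (χ : G → ℂ) g /
          (χ : G → ℂ) 1 = 0 := by
      intro g hg
      have hempty : IsEmpty {p : G × G // p.1 * t * p.1⁻¹ * (p.2 * t * p.2⁻¹) = g} := by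
        refine ⟨fun p => ?_⟩
        obtain ⟨⟨x, z⟩, hp⟩ := p
        simp only at hp
        set s := x * t * x⁻¹ with hs
        set s' := z * t * z⁻¹ with hs'
        have hso : orderOf s = 2 := by
          rw [hs, show x * t * x⁻¹ = MulAut.conj x t from rfl, MulEquiv.orderOf_eq, ht]
        have hs2 : s * s = 1 := by rw [← pow_two, ← hso, pow_orderOf_eq_one]
        have hs'2 : s' * s' = 1 := by
          rw [hs', show z * t * z⁻¹ * (z * t * z⁻¹) = z * (t * t) * z⁻¹ by group, ht2, mul_one,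
            mul_inv_cancel]
        have hinv : s * g * s⁻¹ = g⁻¹ := by
          rw [← hp, inv_eq_of_mul_eq_one_right hs2, mul_inv_rev, inv_eq_of_mul_eq_one_right hs2,
            inv_eq_of_mul_eq_one_right hs'2, show s * (s * s') * s = (s * s) * s' * s by group, hs2,
            one_mul]
        set k := orderOf g / 2 with hk
        have hk2 : orderOf g = 2 * k := (Nat.mul_div_cancel' (dvd_trans (by norm_num) hg)).symm
        have hk0 : 0 < k := by have := orderOf_pos g; omega
        have hwo : orderOf (g ^ k) = 2 := by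
          rw [orderOf_pow_of_dvd hk0.ne' ⟨2, by rw [hk2, mul_comm]⟩, hk2, Nat.mul_div_cancel _ hk0]
        have hwinv : (g ^ k)⁻¹ = g ^ k := inv_eq_of_mul_eq_one_right (by
          rw [← pow_add, ← two_mul, ← hk2, pow_orderOf_eq_one])
        have hsw : s = g ^ k := involution_eq_of_commute S st.quat hso hwo (by
          have h1 : s * g ^ k * s⁻¹ = g ^ k := by rw [← conj_pow, hinv, inv_pow, hwinv]
          exact mul_inv_eq_iff_eq_mul.mp h1)
        rw [hsw, ((Commute.refl g).pow_left k).eq, mul_inv_cancel_right] at hinv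
        have : orderOf g ∣ 2 := orderOf_dvd_of_pow_eq_one (by
          rw [sq]; nth_rewrite 2 [hinv]; exact mul_inv_cancel g)
        have := Nat.le_of_dvd (by norm_num) (dvd_trans hg this)
        omega
      have h := count_conj_mul t t g
      rw [Nat.card_of_isEmpty, Nat.cast_zero] at h
      exact (mul_eq_zero.mp h.symm).resolve_left (natCard_ne_zero G)
    set u : IrrCharacter G → ℂ := fun χ =>
      conj ((χ : G → ℂ) t) * conj ((χ : G → ℂ) t) / (χ : G → ℂ) 1 with hu
    have hT : ∑ χ : IrrCharacter G, u χ * classInner (χ : G → ℂ) Φ = 0 := by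
      simp only [classInner, Finset.mul_sum]
      rw [Finset.sum_comm]
      refine Finset.sum_eq_zero fun g _ => ?_
      by_cases hg : 4 ∣ orderOf g
      · rw [← mul_zero ((Nat.card G : ℂ)⁻¹ * conj (Φ g)), ← hzero g hg, Finset.mul_sum]
        refine Finset.sum_congr rfl fun χ _ => ?_
        rw [hu]; ring
      · refine Finset.sum_eq_zero fun χ _ => ?_
        rw [hΦ0 g hg, map_zero, mul_zero, mul_zero, mul_zero]
    have hΦe : Φ = (fun _ => (1 : ℂ)) + χ₂ - χ₁ := by
      rw [add_sub_assoc, ← hηe, hη]; abel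
    set i0 : IrrCharacter G := ⟨_, isIrrCharacter_one⟩
    set i1 : IrrCharacter G := ⟨χ₁, hχ₁⟩
    set i2 : IrrCharacter G := ⟨χ₂, hχ₂⟩
    simp only [hΦe, Char.inner_sub_right, Char.inner_add_right] at hT
    rw [Finset.sum_congr rfl (g := fun χ : IrrCharacter G =>
      (if χ = i0 then u χ else 0) + (if χ = i2 then u χ else 0) - (if χ = i1 then u χ else 0))
      fun χ _ => by
        rw [show (fun _ : G => (1 : ℂ)) = (i0 : G → ℂ) from rfl,
          show χ₂ = (i2 : G → ℂ) from rfl, show χ₁ = (i1 : G → ℂ) from rfl,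
          irr_classInner χ i0, irr_classInner χ i2, irr_classInner χ i1]
        split_ifs <;> ring,
      Finset.sum_sub_distrib, Finset.sum_add_distrib, Finset.sum_ite_eq', Finset.sum_ite_eq',
      Finset.sum_ite_eq'] at hT
    simp only [Finset.mem_univ, if_true, hu, natDeg_real i0.2 ht2, natDeg_real i1.2 ht2,
      natDeg_real i2.2 ht2] at hT
    change 1 * 1 / 1 + χ₂ t * χ₂ t / χ₂ 1 - χ₁ t * χ₁ t / χ₁ 1 = 0 at hT
    have hu1 : χ₁ t = χ₂ t + 1 := by linear_combination hdiff t (by rw [ht]; norm_num)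
    rw [hu1, hdeg] at hT
    have hd2 := irr_apply_one_ne_zero hχ₂
    have hd1 : χ₂ 1 + 1 ≠ 0 := hdeg ▸ irr_apply_one_ne_zero hχ₁
    field_simp at hT
    have hsq : (χ₂ t - χ₂ 1) ^ 2 = 0 := by linear_combination hT
    have hu2 : χ₂ t = χ₂ 1 := sub_eq_zero.mp (pow_eq_zero_iff (two_ne_zero) |>.mp hsq)
    exact ⟨by rw [hu1, hu2, hdeg], hu2⟩
  · have haN : a ^ 2 ∈ N :=
      Subgroup.pow_mem _ (Subgroup.centralizer_le_normalizer _ st.aC) 2
    have haC : a ^ 2 ∈ C := C.pow_mem st.aC 2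
    have hd : Nat.card D ∣ orderOf (a ^ 2) := by
      rw [st.eqD, Nat.card_zpowers]
    rw [hval, show Φ (a ^ 2) = Φ ((⟨a ^ 2, haN⟩ : N) : G) from rfl, hΦeq ⟨a ^ 2, haN⟩ haC hd,
      show φ ⟨a ^ 2, haN⟩ = φ ((⟨⟨a ^ 2, haN⟩, haC⟩ : C') : N) from rfl, hφin]
    have h1 : lamN ⟨⟨a ^ 2, haN⟩, haC⟩ = lam ⟨a, st.aC⟩ ^ 2 := map_pow lam (⟨a, st.aC⟩ : C) 2
    rw [h1, Units.val_inv_eq_inv_val, Units.val_pow_eq_pow_val, hI, Complex.I_sq]
    norm_num

end CfsgLib.BS
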