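import Cfsg.Agent.Lib.CharBS3
import Cfsg.Agent.Lib.CoreTransfer

/-!
# The Brauer-Suzuki theorem: involutions and the centre
-/

set_option autoImplicit false
set_option linter.style.haveILetI false
set_option linter.unusedSectionVars false

namespace CfsgLib.BS

open Cfsg Representation CfsgLib.Char
open scoped ComplexConjugate commutatorElement

universe u

variable {G : Type u} [Group G] [Finite G]

theorem isCyclic_sylow_closure_involutions (S : Sylow 2 G) (n : ℕ)
    (e : (S : Subgroup G) ≃* QuaternionGroup (2 ^ (n + 2)))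
    (Q : Sylow 2 ↥(Subgroup.closure {g : G | orderOf g = 2})) : IsCyclic Q := by
  classical
  haveI : Fact (Nat.Prime 2) := ⟨Nat.prime_two⟩
  haveI : Fintype G := Fintype.ofFinite G
  obtain ⟨χ₁, χ₂, hχ₁, hχ₂, -, -, hdeg, -, hinv, a, b, q, h3⟩ := exists_pair S n e
  generalize hI : Subgroup.closure {g : G | orderOf g = 2} = I at Q ⊢
  replace hI := hI.symm
  haveI hIn : I.Normal := ⟨fun x hx g => by
    have h : I.map (MulAut.conj g).toMonoidHom ≤ I := by
      rw [hI, MonoidHom.map_closure, Subgroup.closure_le]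
      rintro _ ⟨t, ht, rfl⟩
      exact Subgroup.subset_closure (by
        show orderOf _ = 2
        rw [MulEquiv.coe_toMonoidHom, MulEquiv.orderOf_eq]; exact ht)
    exact h ⟨x, hx, rfl⟩⟩
  have hker : I ≤ charKer hχ₁.isCharacter' ⊓ charKer hχ₂.isCharacter' := by
    rw [hI, Subgroup.closure_le]
    exact fun t ht => Subgroup.mem_inf.mpr ⟨(hinv t ht).1, (hinv t ht).2⟩
  have ha2 : a ^ 2 ∉ I := fun h => by
    obtain ⟨h1, h2⟩ := Subgroup.mem_inf.mp (hker h)
    rw [mem_charKer] at h1 h2
    rw [h1, h2, hdeg, add_sub_cancel_left] at h3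
    norm_num at h3
  have hle : ∀ s ∈ (S : Subgroup G), s ∈ I → s ∈ Subgroup.zpowers a := by
    intro s hs hsI
    obtain ⟨i, rfl | rfl⟩ := q.cases s hs
    · exact Subgroup.npow_mem_zpowers a i
    · refine absurd ?_ ha2
      have h1 : a * (b * a ^ i) * a⁻¹ ∈ I := hIn.conj_mem _ hsI a
      have h2 : a * (b * a ^ i) * a⁻¹ * (b * a ^ i)⁻¹ = a ^ 2 := by
        have hb : b * a⁻¹ * b⁻¹ = a := by
          rw [← inv_inj, show (b * a⁻¹ * b⁻¹)⁻¹ = b * a * b⁻¹ from by group, q.conj_a]
        calc a * (b * a ^ i) * a⁻¹ * (b * a ^ i)⁻¹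
            = a * (b * (a ^ i * a⁻¹ * (a ^ i)⁻¹) * b⁻¹) := by group
          _ = a * (b * a⁻¹ * b⁻¹) := by
            rw [((Commute.refl a).pow_left i).inv_right.eq, mul_inv_cancel_right]
          _ = a ^ 2 := by rw [hb, sq]
      exact h2 ▸ I.mul_mem h1 (I.inv_mem hsI)
  obtain ⟨T, hT⟩ := (Q.isPGroup'.map I.subtype).exists_le_sylow
  obtain ⟨g, hg⟩ := MulAction.exists_smul_eq G T S
  have hval : ∀ x : (Q : Subgroup I), g * ((x : I) : G) * g⁻¹ ∈ Subgroup.zpowers a := by
    intro x
    refine hle _ ?_ (hIn.conj_mem _ (x : I).2 g)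
    rw [← hg, Sylow.coe_subgroup_smul, Subgroup.mem_pointwise_smul_iff_inv_smul_mem]
    simpa [MulAut.smul_def, mul_assoc] using hT ⟨(x : I), x.2, rfl⟩
  let ι : (Q : Subgroup I) →* Subgroup.zpowers a :=
    { toFun := fun x => ⟨_, hval x⟩
      map_one' := Subtype.ext (by show g * 1 * g⁻¹ = 1; group)
      map_mul' := fun x y => Subtype.ext (by
        show g * (((x : I) : G) * ((y : I) : G)) * g⁻¹ =
          g * ((x : I) : G) * g⁻¹ * (g * ((y : I) : G) * g⁻¹)
        group) }
  haveI : IsCyclic (Subgroup.zpowers a) := Subgroup.isCyclic_zpowers _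
  refine isCyclic_of_injective ι fun x y h => ?_
  exact Subtype.ext (Subtype.ext (mul_left_cancel (mul_right_cancel (congrArg Subtype.val h))))

theorem card_center_of_quaternion (S : Sylow 2 G) (n : ℕ)
    (e : (S : Subgroup G) ≃* QuaternionGroup (2 ^ (n + 2)))
    (hO : ∀ N : Subgroup G, N.Normal → Odd (Nat.card N) → N = ⊥) :
    Nat.card (Subgroup.center G) = 2 := by
  classical
  haveI : Fact (Nat.Prime 2) := ⟨Nat.prime_two⟩
  obtain ⟨a, b, q⟩ := exists_quat (S : Subgroup G) n e
  set t := a ^ 2 ^ (n + 2) with ht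
  have ht2 : orderOf t = 2 := by
    rw [ht, orderOf_pow_of_dvd (Nat.two_pow_pos _).ne', q.order_a, pow_succ 2 (n + 2),
      Nat.mul_div_cancel_left _ (Nat.two_pow_pos _)]
    rw [q.order_a]; exact pow_dvd_pow 2 (by omega)
  set I := Subgroup.closure {g : G | orderOf g = 2} with hI
  haveI hIn : I.Normal := ⟨fun x hx g => by
    have h : I.map (MulAut.conj g).toMonoidHom ≤ I := by
      rw [hI, MonoidHom.map_closure, Subgroup.closure_le]
      rintro _ ⟨t, ht, rfl⟩
      exact Subgroup.subset_closure (by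
        show orderOf _ = 2
        rw [MulEquiv.coe_toMonoidHom, MulEquiv.orderOf_eq]; exact ht)
    exact h ⟨x, hx, rfl⟩⟩
  have htI : t ∈ I := Subgroup.subset_closure ht2
  obtain ⟨Q⟩ : Nonempty (Sylow 2 I) := inferInstance
  have hQ := isCyclic_sylow_closure_involutions S n e Q
  have hmin : (Nat.card I).minFac = 2 := by
    rw [Nat.minFac_eq_two_iff, ← ht2, ← Subgroup.orderOf_mk t htI]
    exact orderOf_dvd_natCard _
  -- the normal complement is trivial
  have hcompl := hQ.isComplement' hmin
  set K := (MonoidHom.transferSylow Q (hQ.normalizer_le_centralizer hmin)).ker with hK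
  have hKodd : Odd (Nat.card K) := by
    rw [← hcompl.index_eq_card, ← Nat.not_even_iff_odd, even_iff_two_dvd]
    exact Q.not_dvd_index
  have hKbot : K = ⊥ := by
    have hchar : K = Cfsg.pPrimeCore 2 I := by
      refine le_antisymm (Core.le_pPrimeCore inferInstance (Nat.coprime_two_right.mpr hKodd)) ?_
      intro x hx
      have h1 : Odd (orderOf x) := Nat.coprime_two_right.mp
        ((Core.coprime_card_pPrimeCore (G := I) 2).coprime_dvd_left
          ((Cfsg.pPrimeCore 2 I).orderOf_dvd_natCard hx))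
      rw [hK, MonoidHom.mem_ker, ← orderOf_eq_one_iff]
      obtain ⟨k, hk⟩ := Q.isPGroup'.exists_card_eq
      refine Nat.eq_one_of_dvd_coprimes ((Nat.coprime_two_left.mpr h1).pow_left k)
        (hk ▸ orderOf_dvd_natCard _) (orderOf_map_dvd _ x)
    have hn : (K.map I.subtype).Normal :=
      Core.map_subtype_normal_of_characteristic hIn (hchar ▸ Core.characteristic_pPrimeCore 2)
    exact (Subgroup.map_eq_bot_iff_of_injective _ I.subtype_injective).mp
      (hO _ hn (by rwa [Subgroup.card_map_of_injective I.subtype_injective]))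
  have hIp : IsPGroup 2 I := by
    have : (Q : Subgroup I) = ⊤ := Subgroup.eq_top_of_card_eq _ (by
      rw [← hcompl.symm.index_eq_card.symm.trans rfl |>.symm, hKbot, Subgroup.index_bot])
    have h := Q.isPGroup'
    rw [this] at h
    exact h.of_equiv Subgroup.topEquiv
  have huniq : ∀ s : G, orderOf s = 2 → s = t := by
    intro s hs
    obtain ⟨T, hT⟩ := hIp.exists_le_sylow
    obtain ⟨g, hg⟩ := MulAction.exists_smul_eq G T S
    have hm : ∀ x ∈ I, x ∈ (S : Subgroup G) := fun x hx => by
      have := hT (hIn.conj_mem x hx g⁻¹)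
      rw [← hg, Sylow.coe_subgroup_smul, Subgroup.mem_pointwise_smul_iff_inv_smul_mem]
      simpa [MulAut.smul_def, mul_assoc] using this
    exact q.involution (hm s (Subgroup.subset_closure hs)) hs
  have htZ : t ∈ Subgroup.center G := Subgroup.mem_center_iff.mpr fun g => by
    have := huniq (g * t * g⁻¹)
      (by rw [show g * t * g⁻¹ = MulAut.conj g t from rfl, MulEquiv.orderOf_eq, ht2])
    exact mul_inv_eq_iff_eq_mul.mp this
  -- the centre is a two-group
  have hZ : ∀ z ∈ Subgroup.center G, z ∈ Subgroup.zpowers t := by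
    intro z hz
    have hodd : ∀ w ∈ Subgroup.center G, Odd (orderOf w) → w = 1 := fun w hw ho => by
      haveI : (Subgroup.zpowers w).Normal := ⟨fun x hx g => by
        have hxc := (Subgroup.zpowers_le.mpr hw) hx
        rwa [Subgroup.mem_center_iff.mp hxc g, mul_inv_cancel_right]⟩
      exact Subgroup.zpowers_eq_bot.mp (hO _ inferInstance (by rwa [Nat.card_zpowers]))
    have h2 : IsPGroup 2 (Subgroup.center G) := fun w => by
      obtain ⟨k, m, hm, hkm⟩ := Nat.exists_eq_two_pow_mul_odd (orderOf_pos (w : G)).ne'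
      refine ⟨k, Subtype.ext (hodd _ ((Subgroup.center G).pow_mem w.2 _) ?_)⟩
      rw [SubmonoidClass.coe_pow, orderOf_pow, hkm, Nat.gcd_eq_right (Dvd.intro _ rfl),
        Nat.mul_div_cancel_left _ (Nat.two_pow_pos _)]
      exact hm
    obtain ⟨T, hT⟩ := h2.exists_le_sylow
    obtain ⟨g, hg⟩ := MulAction.exists_smul_eq G T S
    have hzS : z ∈ (S : Subgroup G) := by
      have := hT hz
      rw [← hg, Sylow.coe_subgroup_smul, Subgroup.mem_pointwise_smul_iff_inv_smul_mem]
      simpa [MulAut.smul_def, mul_assoc, ← Subgroup.mem_center_iff.mp hz g] using this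
    have hza : z * a = a * z := (Subgroup.mem_center_iff.mp hz a).symm
    have hzb : b * z = z * b := Subgroup.mem_center_iff.mp hz b
    obtain ⟨i, rfl | rfl⟩ := q.cases z hzS
    · have h1 : a ^ (i + i) = 1 := by
        have h := q.conj_pow_a i
        rw [hzb, mul_inv_cancel_right] at h
        rw [pow_add]
        nth_rewrite 2 [h]
        exact mul_inv_cancel _
      obtain ⟨k, hk⟩ : 2 ^ (n + 2) ∣ i := Nat.dvd_of_mul_dvd_mul_left (show 0 < 2 by norm_num)
        (by rw [← pow_succ', two_mul]; exact q.a_pow_eq_one h1)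
      rw [hk, pow_mul]
      exact Subgroup.npow_mem_zpowers t k
    · exfalso
      have h1 : (a⁻¹) * b = b * a⁻¹⁻¹ := by
        rw [inv_inv, ← q.b_mul]
      have h2 : b * a = a * b := by
        have h3 : b * a ^ i * a = a * b * a ^ i := by rw [mul_assoc a b]; exact hza
        rw [mul_assoc b, ← pow_succ, pow_succ', ← mul_assoc] at h3
        exact mul_right_cancel h3
      rw [q.b_mul] at h2
      have h4 : a⁻¹ = a := mul_right_cancel h2
      have h5 : a ^ 2 = 1 := by rw [sq]; nth_rewrite 1 [← h4]; exact inv_mul_cancel a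
      have := Nat.le_of_dvd (by norm_num) (q.a_pow_eq_one h5)
      have : 2 ^ 3 ≤ 2 ^ (n + 3) := Nat.pow_le_pow_right (by norm_num) (by omega)
      omega
  rw [show Subgroup.center G = Subgroup.zpowers t from
    le_antisymm hZ (Subgroup.zpowers_le.mpr htZ), Nat.card_zpowers, ht2]

end CfsgLib.BS
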