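import Cfsg.Agent.Lib.CharBrauer
import Cfsg.Agent.Lib.CharClifford
import Cfsg.Agent.Lib.CharLinear
import Cfsg.Agent.Lib.CoreCoprime
import Mathlib.GroupTheory.Nilpotent

/-!
# Brauer's induction theorem
-/

set_option autoImplicit false
set_option linter.style.haveILetI false
set_option linter.unusedSectionVars false

namespace CfsgLib.Char

open Cfsg
open scoped ComplexConjugate

universe u v

variable {G : Type u} [Group G]

/-- An invariant linear character trivial on the fixed points is trivial. -/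
theorem invariant_linear_trivial [Finite G] (p : ℕ) [hp : Fact p.Prime] (C P : Subgroup G)
    [hC : C.Normal] (hP : IsPGroup p P) (hcop : (Nat.card C).Coprime p) (f : C →* ℂˣ)
    (hinv : ∀ (g : G) (c : C), f ⟨g * c * g⁻¹, hC.conj_mem (c : G) c.2 g⟩ = f c)
    (hker : ∀ c : C, (c : G) ∈ Subgroup.centralizer (P : Set G) → f c = 1) : ∀ c : C, f c = 1 := by
  intro c
  set N := f.ker.map C.subtype with hN
  haveI hNn : N.Normal := ⟨fun x hx g => by
    obtain ⟨y, hy, rfl⟩ := hx
    exact ⟨⟨g * y * g⁻¹, hC.conj_mem (y : G) y.2 g⟩, (hinv g y).trans hy, rfl⟩⟩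
  obtain ⟨k, hk⟩ := hP.exists_card_eq
  have hNC : N ≤ C := Subgroup.map_subtype_le _
  obtain ⟨c', hc', hcc'⟩ := CfsgLib.Core.exists_fixed_of_fixed_mod (A := P) (K := C) (N := N)
    (CfsgLib.Core.le_normalizer_normal _)
    (CfsgLib.Core.inf_eq_bot_of_coprime (hk ▸ (hcop.symm.pow_left k))) hNC
    (CfsgLib.Core.le_normalizer_normal _) (CfsgLib.Core.le_normalizer_normal _)
    ((hk ▸ (hcop.symm.pow_left k) : (Nat.card P).Coprime (Nat.card C)).coprime_dvd_right
      (Subgroup.card_dvd_of_le hNC))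
    (.inl (by haveI := hP.isNilpotent; infer_instance)) c.2 (fun a _ => by
      refine ⟨⟨a * c * a⁻¹, hC.conj_mem (c : G) c.2 a⟩ * c⁻¹, ?_, rfl⟩
      rw [SetLike.mem_coe, MonoidHom.mem_ker, map_mul, hinv, map_inv, mul_inv_cancel])
  obtain ⟨y, hy, hye⟩ := hcc'
  have e : c = ⟨c', hc'.1⟩ * y⁻¹ := Subtype.ext (by
    rw [Subgroup.coe_mul, Subgroup.coe_inv]
    show (c : G) = c' * ((C.subtype y))⁻¹
    rw [hye]; group)
  rw [e, map_mul, map_inv, hy, inv_one, mul_one]
  exact hker _ hc'.2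

theorem isElementary_of_equiv {p : ℕ} {E : Type u} {E' : Type v} [Group E] [Group E'] (e : E ≃* E')
    (h : IsElementary p E) : IsElementary p E' := by
  obtain ⟨x, hx, hcop, k, hk⟩ := h
  refine ⟨e x, ?_, by rwa [MulEquiv.orderOf_eq], k, ?_⟩
  · rw [Subgroup.mem_center_iff] at hx ⊢
    intro g
    obtain ⟨y, rfl⟩ := e.surjective g
    rw [← map_mul, ← map_mul, hx y]
  · rw [← hk, ← Subgroup.index_map_of_bijective (f := e.toMonoidHom) e.bijective (Subgroup.zpowers x)]
    congr 1
    exact (MonoidHom.map_zpowers e.toMonoidHom x).symm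

theorem isElementary_subgroup [Finite G] {p : ℕ} (hp : p.Prime) (h : IsElementary p G)
    (U : Subgroup G) : IsElementary p U := by
  obtain ⟨x, hx, hcop, k, hk⟩ := h
  set Z := Subgroup.zpowers x with hZ
  haveI : IsCyclic ((Z ⊓ U : Subgroup G)) := Subgroup.isCyclic_of_le inf_le_left
  haveI : IsCyclic (Z.subgroupOf U) := by
    refine isCyclic_of_injective
      ((U.subtype.comp (Z.subgroupOf U).subtype).codRestrict (Z ⊓ U) fun y => ⟨y.2, y.1.2⟩) ?_
    intro a b e
    have h := congrArg (fun z : (Z ⊓ U : Subgroup G) => (z : G)) e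
    exact Subtype.ext (Subtype.ext h)
  obtain ⟨z, hz⟩ := (Subgroup.isCyclic_iff_exists_zpowers_eq_top _).mp ‹IsCyclic (Z.subgroupOf U)›
  have hzZ : (z : G) ∈ Z := Subgroup.mem_subgroupOf.mp (hz ▸ Subgroup.mem_zpowers z)
  refine ⟨z, ?_, hcop.coprime_dvd_left ?_, ?_⟩
  · have hzc : (z : G) ∈ Subgroup.center G := Subgroup.zpowers_le.mpr hx hzZ
    exact Subgroup.mem_center_iff.mpr fun g => Subtype.ext (Subgroup.mem_center_iff.mp hzc g)
  · rw [← Subgroup.orderOf_coe, ← Nat.card_zpowers x]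
    exact Z.orderOf_dvd_natCard hzZ
  · haveI : Z.Normal := ⟨fun n hn g => by
      rw [Subgroup.mem_center_iff.mp (Subgroup.zpowers_le.mpr hx hn) g, mul_inv_cancel_right]
      exact hn⟩
    rw [hz]
    obtain ⟨j, -, hj⟩ := (Nat.dvd_prime_pow hp).mp (hk ▸ Subgroup.relIndex_dvd_index_of_normal Z U)
    exact ⟨j, hj⟩

theorem isNilpotent_of_isElementary [Finite G] {p : ℕ} (hp : p.Prime) (h : IsElementary p G) :
    Group.IsNilpotent G := by
  haveI := Fact.mk hp
  obtain ⟨x, hx, -, k, hk⟩ := h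
  haveI : (Subgroup.zpowers x).Normal := ⟨fun n hn g => by
    rw [Subgroup.mem_center_iff.mp (Subgroup.zpowers_le.mpr hx hn) g, mul_inv_cancel_right]
    exact hn⟩
  haveI := (IsPGroup.of_card (G := G ⧸ Subgroup.zpowers x) (n := k) hk).isNilpotent
  exact Subgroup.isNilpotent_of_ker_le_center (QuotientGroup.mk' (Subgroup.zpowers x))
    (by rw [QuotientGroup.ker_mk']; exact Subgroup.zpowers_le.mpr hx)

variable [Fintype G]

/-- The inner product with the principal character, for a character trivial on a normal `C`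
with `C E = G`. -/
theorem sum_eq_of_trivial_on_normal (C E : Subgroup G) [C.Normal] [Fintype E] (hCE : E ⊔ C = ⊤)
    (χ : G → ℂ) (hχ : ∀ g : G, ∀ c ∈ C, χ (g * c) = χ g) :
    (Nat.card E : ℂ) * ∑ g, χ g = (Nat.card G : ℂ) * ∑ e : E, χ e := by
  have h1 : ∀ x : G, ∑ e : E, χ (e * x) = ∑ e : E, χ e := fun x => by
    obtain ⟨e₀, he₀, c, hc, rfl⟩ :=
      Subgroup.mem_sup_of_normal_right.mp (hCE ▸ Subgroup.mem_top x : x ∈ E ⊔ C)
    refine Fintype.sum_equiv (Equiv.mulRight (⟨e₀, he₀⟩ : E)) _ _ fun e => ?_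
    rw [← mul_assoc, hχ _ c hc]
    rfl
  calc (Nat.card E : ℂ) * ∑ g, χ g = ∑ _e : E, ∑ g, χ g := by
        rw [Finset.sum_const, nsmul_eq_mul, Finset.card_univ, Nat.card_eq_fintype_card]
    _ = ∑ e : E, ∑ x, χ (e * x) := Finset.sum_congr rfl fun e _ =>
        (Fintype.sum_equiv (Equiv.mulLeft (e : G)) _ _ fun x => rfl).symm
    _ = ∑ x, ∑ e : E, χ (e * x) := Finset.sum_comm
    _ = _ := by
        simp only [h1, Finset.sum_const, nsmul_eq_mul, Finset.card_univ, Nat.card_eq_fintype_card]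

/-- In a quasi-elementary group which is not elementary a proper elementary subgroup splits off
the principal character. -/
theorem elementary_step {p : ℕ} (hp : p.Prime) (C : Subgroup G) [hC : C.Normal] [IsCyclic C]
    (hcop : (Nat.card C).Coprime p) (hind : ∃ k, C.index = p ^ k) (hne : ¬ IsElementary p G) :
    ∃ E : Subgroup G, E ≠ ⊤ ∧ IsElementary p E ∧ classInner (indFun E (fun _ => 1)) (fun _ => 1) = 1 ∧
      ∀ χ : G → ℂ, IsIrrCharacter G χ → classInner (indFun E (fun _ => 1)) χ ≠ 0 →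
        χ = (fun _ => 1) ∨
        ∃ T : Subgroup G, T ≠ ⊤ ∧ ∃ ψ : T → ℂ, IsCharacter T ψ ∧ indFun T ψ = χ := by
  classical
  haveI := Fact.mk hp
  obtain ⟨P⟩ : Nonempty (Sylow p G) := inferInstance
  obtain ⟨k, hk⟩ := hind
  obtain ⟨j, hj⟩ := P.isPGroup'.exists_card_eq
  have hCP : (P : Subgroup G) ⊔ C = ⊤ := by
    refine Subgroup.index_eq_one.mp (Nat.eq_one_of_dvd_coprimes (a := p ^ k) (b := (P : Subgroup G).index)
      (((hp.coprime_iff_not_dvd).mpr P.not_dvd_index).pow_left k) ?_ ?_)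
    · exact hk ▸ Subgroup.index_dvd_of_le le_sup_right
    · exact Subgroup.index_dvd_of_le le_sup_left
  set C₀ := C ⊓ Subgroup.centralizer ((P : Subgroup G) : Set G) with hC₀
  have hPC₀ : (P : Subgroup G) ≤ Subgroup.normalizer (C₀ : Set G) := fun a ha => by
    refine Subgroup.centralizer_le_normalizer _ (Subgroup.mem_centralizer_iff.mpr fun c hc => ?_)
    exact ((Subgroup.mem_centralizer_iff.mp (SetLike.mem_coe.mp hc).2) a ha).symm
  set E := (P : Subgroup G) ⊔ C₀ with hE
  haveI : IsCyclic C₀ := Subgroup.isCyclic_of_le inf_le_left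
  have hE' : IsElementary p E := by
    obtain ⟨x, hx⟩ := (Subgroup.isCyclic_iff_exists_zpowers_eq_top _).mp ‹IsCyclic C₀›
    have hxE : x ∈ E := Subgroup.mem_sup_right (hx ▸ Subgroup.mem_zpowers x)
    have hx₀ : x ∈ C₀ := hx ▸ Subgroup.mem_zpowers x
    refine ⟨⟨x, hxE⟩, ?_, ?_, ?_⟩
    · rw [Subgroup.mem_center_iff]
      rintro ⟨g, hg⟩
      refine Subtype.ext ?_
      have hle : E ≤ Subgroup.centralizer ({x} : Set G) := by
        refine sup_le (fun a ha => ?_) (fun c hc => ?_) <;> rw [Subgroup.mem_centralizer_singleton_iff]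
        · exact Subgroup.mem_centralizer_iff.mp hx₀.2 a ha
        · rw [← hx] at hc
          obtain ⟨i, rfl⟩ := hc
          exact ((Commute.refl x).zpow_left i).eq
      exact Subgroup.mem_centralizer_singleton_iff.mp (hle hg)
    · rw [Subgroup.orderOf_mk, ← Nat.card_zpowers]
      exact hcop.coprime_dvd_left (Subgroup.card_dvd_of_le (Subgroup.zpowers_le.mpr hx₀.1))
    · have e : (Subgroup.zpowers (⟨x, hxE⟩ : E)).map E.subtype = C₀ := by
        rw [MonoidHom.map_zpowers]; exact hx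
      have h1 : (Subgroup.zpowers (⟨x, hxE⟩ : E)).index = C₀.relIndex E := by
        have h2 := congrArg (fun S : Subgroup G => S.subgroupOf E) e
        simp only [Subgroup.subgroupOf, Subgroup.comap_map_eq_self_of_injective E.subtype_injective] at h2
        rw [h2]; rfl
      rw [h1, hE, CfsgLib.Core.relIndex_sup_eq_of_le_normalizer hPC₀]
      obtain ⟨i, -, hi⟩ := (Nat.dvd_prime_pow hp).mp (show C₀.relIndex (P : Subgroup G) ∣ p ^ j from
        hj ▸ ⟨_, (CfsgLib.Core.card_inf_mul_relIndex C₀ (P : Subgroup G)).symm.trans (mul_comm _ _)⟩)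
      exact ⟨i, hi⟩
  refine ⟨E, fun e => hne ?_, hE', ?_, ?_⟩
  · exact isElementary_of_equiv (Subgroup.topEquiv (G := G)) (e ▸ hE')
  · rw [frobenius (fun _ : E => (1 : ℂ)) (fun _ : G => (1 : ℂ)) fun _ _ => rfl]
    exact irr_inner_self isIrrCharacter_one
  intro χ hχ hcon
  rw [frobenius _ _ (isCharacter_classFunction hχ.isCharacter')] at hcon
  obtain ⟨θ, hθ, hθc⟩ := exists_irr_under (H := C) hχ
  by_cases hT : inertia θ = ⊤
  swap
  · obtain ⟨ψ, hψ, hψe, -⟩ := exists_clifford_correspondent hχ hθ hθc (inertia θ) rfl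
      (le_inertia (isCharacter_classFunction hθ.isCharacter'))
    exact .inr ⟨inertia θ, hT, ψ, hψ.isCharacter', hψe⟩
  refine .inl ?_
  letI : CommGroup C := IsCyclic.commGroup
  obtain ⟨f, rfl⟩ := exists_hom_of_irr_comm (fun a b : C => mul_comm a b) hθ
  have horb : conjOrbit (fun c : C => (f c : ℂ)) = {fun c : C => (f c : ℂ)} := by
    refine Finset.eq_singleton_iff_unique_mem.mpr ⟨self_mem_conjOrbit _, fun φ hφ => ?_⟩
    obtain ⟨t, rfl⟩ := mem_conjOrbit.mp hφ
    exact mem_inertia.mp (hT ▸ Subgroup.mem_top t)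
  have hres := clifford hχ hθ hθc
  rw [horb, Finset.sum_singleton] at hres
  have hval : ∀ c : C, χ c = χ 1 * f c := fun c => by
    have h1 := congrFun hres c
    have h0 := congrFun hres 1
    simp only [Pi.smul_apply, smul_eq_mul, map_one, Units.val_one, mul_one, Subgroup.coe_one] at h1 h0
    rw [h1, h0]
  obtain ⟨n, ρ, hρ, rfl⟩ := hχ
  haveI := hρ
  have hfin : ρ.character 1 = (n : ℂ) := by rw [ρ.char_one, Module.finrank_fin_fun]
  have hn0 : (n : ℂ) ≠ 0 := hfin ▸ irr_apply_one_ne_zero ⟨n, ρ, hρ, rfl⟩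
  have hscal : ∀ c : C, ρ (c : G) = (f c : ℂ) • (LinearMap.id : (Fin n → ℂ) →ₗ[ℂ] (Fin n → ℂ)) :=
    fun c => by
    have hfc : ‖(f c : ℂ)‖ = 1 := by
      refine norm_eq_one_of_pow_eq_one' (orderOf_pos c) ?_
      rw [← Units.val_pow_eq_pow_val, ← map_pow, pow_orderOf_eq_one, map_one, Units.val_one]
    obtain ⟨ω, hω⟩ := (norm_rep_char_eq_iff ρ (c : G)).mp (by
      rw [hval, norm_mul, hfin, hfc, mul_one, Module.finrank_fin_fun, Complex.norm_natCast])
    have h2 : ρ.character (c : G) = ω * n := by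
      show LinearMap.trace ℂ _ (ρ (c : G)) = _
      rw [hω, map_smul, LinearMap.trace_id, Module.finrank_fin_fun, smul_eq_mul]
    rw [hval, hfin, mul_comm] at h2
    rw [hω, mul_right_cancel₀ hn0 h2]
  have hmul : ∀ (g : G) (c : C), ρ.character (g * c) = (f c : ℂ) * ρ.character g := fun g c => by
    show LinearMap.trace ℂ _ (ρ (g * c)) = _
    rw [map_mul, hscal, show (ρ g) * ((f c : ℂ) • (LinearMap.id : (Fin n → ℂ) →ₗ[ℂ] (Fin n → ℂ))) =
      (f c : ℂ) • ρ g from LinearMap.ext fun v => by simp, map_smul, smul_eq_mul]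
    rfl
  have hsum0 : ∑ e : E, ρ.character e ≠ 0 := fun h0 => hcon (by
    simp only [classInner, one_mul, ← map_sum, h0, map_zero, mul_zero])
  have hf0 : ∀ c : C, (c : G) ∈ Subgroup.centralizer ((P : Subgroup G) : Set G) → f c = 1 := fun c hc => by
    have hcE : (c : G) ∈ E := Subgroup.mem_sup_right ⟨c.2, hc⟩
    have h1 : ∑ e : E, ρ.character e = (f c : ℂ) * ∑ e : E, ρ.character e := by
      rw [Finset.mul_sum]
      refine ((Fintype.sum_equiv (Equiv.mulRight (⟨c, hcE⟩ : E)) _ _ fun e => ?_).symm)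
      rw [← hmul]; rfl
    exact Units.val_eq_one.mp (mul_right_cancel₀ hsum0 (h1.symm.trans (one_mul _).symm))
  have hinv : ∀ (g : G) (c : C), f ⟨g * c * g⁻¹, hC.conj_mem (c : G) c.2 g⟩ = f c := fun g c =>
    Units.ext (congrFun (mem_inertia.mp (hT ▸ Subgroup.mem_top g) :
      conjFn g (fun c : C => (f c : ℂ)) = fun c : C => (f c : ℂ)) c)
  have hf1 := invariant_linear_trivial p C P P.isPGroup' hcop f hinv hf0
  have htriv : ∀ g : G, ∀ c ∈ C, ρ.character (g * c) = ρ.character g := fun g c hc => by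
    rw [show g * c = g * ((⟨c, hc⟩ : C) : G) from rfl, hmul, hf1, Units.val_one, one_mul]
  have hCE : E ⊔ C = ⊤ := eq_top_iff.mpr (hCP ▸ sup_le_sup_right le_sup_left C)
  have hkey := sum_eq_of_trivial_on_normal C E hCE ρ.character htriv
  have hin1 : classInner ρ.character (fun _ => 1) ≠ 0 := by
    intro h0
    simp only [classInner, map_one, mul_one, mul_eq_zero, inv_eq_zero, natCard_ne_zero, false_or] at h0
    rw [h0, mul_zero, eq_comm, mul_eq_zero] at hkey
    exact hsum0 (hkey.resolve_left (natCard_ne_zero G))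
  by_contra hne1
  exact hin1 (irr_inner_ne ⟨n, ρ, hρ, rfl⟩ isIrrCharacter_one hne1)

omit [Fintype G] in
theorem indFun_map_aux [Fintype G] (K : Subgroup G) [Fintype K] (T' : Subgroup G) (hle : T' ≤ K)
    (T : Subgroup K) (hT : T = T'.subgroupOf K) (φ : T → ℂ) :
    ∃ e : T' ≃* T, indFun K (indFun T φ) = indFun T' (fun x => φ (e x)) := by
  subst hT
  refine ⟨(Subgroup.subgroupOfEquivOfLe hle).symm, ?_⟩
  have h := indFun_trans T' K hle (fun x => φ ((Subgroup.subgroupOfEquivOfLe hle).symm x))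
  exact h

/-- Transitivity of induction from a subgroup of a subgroup. -/
theorem indFun_map (K : Subgroup G) [Fintype K] (T : Subgroup K) (φ : T → ℂ) :
    ∃ e : T.map K.subtype ≃* T, indFun K (indFun T φ) = indFun (T.map K.subtype) (fun x => φ (e x)) :=
  indFun_map_aux K _ (Subgroup.map_subtype_le T) T
    (Subgroup.comap_map_eq_self_of_injective K.subtype_injective T).symm φ

/-- Combinations of characters induced from elementary subgroups. -/
def elemSpan (P : ℕ → Prop) : AddSubgroup (G → ℂ) :=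
  AddSubgroup.closure {f | ∃ (q : ℕ) (E : Subgroup G) (φ : E → ℂ), P q ∧ IsElementary q E ∧
    IsCharacter E φ ∧ f = indFun E φ}

theorem ind_mem_elemSpan {p : ℕ} (hp : p.Prime) : ∀ H : Subgroup G, QE p H → ∀ ψ : H → ℂ,
    IsCharacter H ψ → indFun H ψ ∈ elemSpan (G := G) (· = p) := by
  classical
  intro H
  induction hn : Nat.card H using Nat.strong_induction_on generalizing H with
  | _ n ih =>
  intro hH ψ hψ
  obtain ⟨C, hCH, hHN, hC, hcop, k, hk⟩ := hH
  by_cases hel : IsElementary p H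
  · exact AddSubgroup.subset_closure ⟨p, H, ψ, rfl, hel, hψ, rfl⟩
  haveI : (C.subgroupOf H).Normal := ⟨fun x hx y => Subgroup.mem_subgroupOf.mpr
      ((Subgroup.mem_normalizer_iff.mp (hHN y.2) x).mp (Subgroup.mem_subgroupOf.mp hx))⟩
  haveI : IsCyclic (C.subgroupOf H) := by
    haveI := hC
    exact isCyclic_of_surjective _ (Subgroup.subgroupOfEquivOfLe hCH).symm.surjective
  obtain ⟨E, hEt, hEe, h1, hcons⟩ := elementary_step (G := H) hp (C.subgroupOf H)
    (by rwa [Nat.card_congr (Subgroup.subgroupOfEquivOfLe hCH).toEquiv]) ⟨k, hk⟩ hel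
  have hmap : ∀ (T : Subgroup H), T ≠ ⊤ → ∀ φ : T → ℂ, IsCharacter T φ →
      indFun H (indFun T φ) ∈ elemSpan (G := G) (· = p) := fun T hT φ hφ => by
    obtain ⟨e, he⟩ := indFun_map H T φ
    rw [he]
    refine ih _ ?_ (T.map H.subtype) rfl (QE.mono hp ⟨C, hCH, hHN, hC, hcop, k, hk⟩
      (Subgroup.map_subtype_le T)) _ (isCharacter_comp hφ e.toMonoidHom)
    rw [← hn, Subgroup.card_map_of_injective H.subtype_injective]
    by_contra hc
    exact hT (Subgroup.eq_top_of_le_card T (not_lt.mp hc))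
  have hchar1 : IsCharacter H (indFun E (fun _ => 1)) := isCharacter_indFun isCharacter_one
  have hψc := isCharacter_classFunction hψ
  have hdec : ψ = indFun E (fun e : E => ψ e) -
      ∑ χ ∈ Finset.univ.filter (fun χ : IrrCharacter H => (χ : H → ℂ) ≠ fun _ => 1),
        classInner (indFun E (fun _ => 1)) χ • ((χ : H → ℂ) * ψ) := by
    have h := classFunction_eq_sum _ (isCharacter_classFunction hchar1)
    rw [← Finset.sum_filter_add_sum_filter_not Finset.univ
      (fun χ : IrrCharacter H => (χ : H → ℂ) ≠ fun _ => 1)] at h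
    have h2 : (Finset.univ.filter fun χ : IrrCharacter H => ¬ (χ : H → ℂ) ≠ fun _ => 1) =
        {⟨fun _ => 1, isIrrCharacter_one⟩} := by
      ext χ; simp [Subtype.ext_iff]
    rw [h2, Finset.sum_singleton, h1, one_smul] at h
    have h3 := indFun_mul (fun _ : E => (1 : ℂ)) ψ hψc
    rw [h, add_mul, Finset.sum_mul] at h3
    have h4 : (fun e : E => ψ e) = (fun _ : E => (1 : ℂ)) * fun e : E => ψ e := by
      funext e; simp
    rw [h4, ← h3]
    funext y
    simp [Finset.sum_apply]
  rw [hdec, indFun_sub, indFun_sum]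
  refine AddSubgroup.sub_mem _ (hmap E hEt _ (isCharacter_restrict hψ E))
    (AddSubgroup.sum_mem _ fun χ hχ => ?_)
  rw [indFun_smul]
  obtain ⟨a, ha⟩ := inner_character_nat hchar1 χ.2.isCharacter'
  rw [ha, Nat.cast_smul_eq_nsmul]
  by_cases ha0 : a = 0
  · rw [ha0, zero_smul]; exact AddSubgroup.zero_mem _
  refine AddSubgroup.nsmul_mem _ ?_ a
  rcases hcons χ χ.2 (by rw [ha]; exact_mod_cast ha0) with h | ⟨T, hT, φ, hφ, he⟩
  · exact absurd h (Finset.mem_filter.mp hχ).2
  · rw [← he, indFun_mul _ _ hψc]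
    exact hmap T hT _ (isCharacter_mul hφ (isCharacter_restrict hψ T))

theorem brauer_local {p : ℕ} (hp : p.Prime) :
    ∃ m : ℤ, ¬ (p : ℤ) ∣ m ∧ (fun _ : G => (m : ℂ)) ∈ elemSpan (G := G) (· = p) := by
  obtain ⟨m, hm, hmem⟩ := solomon_local (G := G) hp
  refine ⟨m, hm, (AddSubgroup.closure_le _).mpr ?_ hmem⟩
  rintro _ ⟨H, hH, rfl⟩
  exact ind_mem_elemSpan hp H hH _ isCharacter_one

theorem brauer_one : (fun _ : G => (1 : ℂ)) ∈ elemSpan (G := G) Nat.Prime := by
  let c : ℤ →+ (G → ℂ) := AddMonoidHom.mk' (fun m => fun _ : G => (m : ℂ))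
    fun a b => funext fun _ => by push_cast; rfl
  obtain ⟨d, hd⟩ := Int.subgroup_cyclic ((elemSpan (G := G) Nat.Prime).comap c)
  have hd1 : d.natAbs = 1 := by
    by_contra h
    obtain ⟨p, hp, hpd⟩ := Nat.exists_prime_and_dvd h
    obtain ⟨m, hm, hmem⟩ := brauer_local (G := G) hp
    refine hm ((Int.natCast_dvd.mpr hpd).trans ?_)
    have : m ∈ (elemSpan (G := G) Nat.Prime).comap c := by
      refine (AddSubgroup.closure_mono ?_) hmem
      rintro _ ⟨q, E, φ, rfl, h⟩
      exact ⟨q, E, φ, hp, h⟩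
    rw [hd, AddSubgroup.mem_closure_singleton] at this
    obtain ⟨z, hz⟩ := this
    exact ⟨z, by rw [← hz, smul_eq_mul, mul_comm]⟩
  have : (1 : ℤ) ∈ (elemSpan (G := G) Nat.Prime).comap c := by
    rw [hd, AddSubgroup.mem_closure_singleton]
    rcases Int.natAbs_eq_iff.mp hd1 with rfl | rfl
    · exact ⟨1, by simp⟩
    · exact ⟨-1, by simp⟩
  simpa [c] using this

theorem exists_elem_list {P : ℕ → Prop} {f : G → ℂ} (hf : f ∈ elemSpan (G := G) P) :
    ∃ l : List ((E : Subgroup G) × ((E → ℂ) × ℤ)),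
      (∀ t ∈ l, (∃ q, P q ∧ IsElementary q t.1) ∧ IsCharacter t.1 t.2.1) ∧
      f = (l.map fun t => (t.2.2 : ℂ) • indFun t.1 t.2.1).sum := by
  induction hf using AddSubgroup.closure_induction with
  | mem f hf =>
    obtain ⟨q, E, φ, hq, hE, hφ, rfl⟩ := hf
    exact ⟨[⟨E, φ, 1⟩], fun t ht => by simp at ht; subst ht; exact ⟨⟨q, hq, hE⟩, hφ⟩, by simp⟩
  | zero => exact ⟨[], by simp, by simp⟩
  | add a b _ _ iha ihb =>
    obtain ⟨l, hl, rfl⟩ := iha
    obtain ⟨l', hl', rfl⟩ := ihb
    exact ⟨l ++ l', fun t ht => (List.mem_append.mp ht).elim (hl t) (hl' t), by simp⟩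
  | neg a _ iha =>
    obtain ⟨l, hl, rfl⟩ := iha
    refine ⟨l.map fun t => ⟨t.1, t.2.1, -t.2.2⟩, fun t ht => ?_, ?_⟩
    · obtain ⟨s, hs, rfl⟩ := List.mem_map.mp ht
      exact hl s hs
    · clear * - l
      induction l with
      | nil => simp
      | cons t l ih =>
        rw [List.map_cons, List.map_cons, List.map_cons, List.sum_cons, List.sum_cons, neg_add, ih]
        simp

/-- Brauer's characterisation of virtual characters. -/
theorem brauer_characterization {θ : G → ℂ} (hθ : IsClassFunction G θ)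
    (hE : ∀ (E : Subgroup G) (p : ℕ), p.Prime → IsElementary p E →
      IsGeneralizedCharacter E (fun e : E => θ e)) : IsGeneralizedCharacter G θ := by
  suffices h : ∀ f ∈ elemSpan (G := G) Nat.Prime, IsGeneralizedCharacter G (f * θ) by
    simpa [funext_iff, Pi.mul_def] using h _ brauer_one
  intro f hf
  induction hf using AddSubgroup.closure_induction with
  | mem f hf =>
    obtain ⟨q, E, φ, hq, hEe, hφ, rfl⟩ := hf
    rw [indFun_mul _ _ hθ]
    exact isGenChar_indFun (isGenChar_mul (isGenChar_of_isCharacter hφ) (hE E q hq hEe))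
  | zero => rw [zero_mul]; exact isGenChar_of_isCharacter isCharacter_zero
  | add a b _ _ iha ihb => rw [add_mul]; exact isGenChar_add iha ihb
  | neg a _ iha => rw [neg_mul]; exact isGenChar_neg iha

/-! ### Monomial characters -/

theorem indFun_comap {K : Type v} [Group K] [Fintype K] (π : G →* K) (hπ : Function.Surjective π)
    (U : Subgroup K) (φ : U → ℂ) :
    indFun (U.comap π) (fun x => φ ⟨π x, x.2⟩) = indFun U φ ∘ π := by
  classical
  funext g
  rw [Function.comp_apply, indFun_apply, indFun_apply]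
  have hext : ∀ x : G, extendByZero (U.comap π) (fun x => φ ⟨π x, x.2⟩) (x⁻¹ * g * x) =
      extendByZero U φ ((π x)⁻¹ * π g * π x) := fun x => by
    rw [← map_inv, ← map_mul, ← map_mul]
    by_cases h : π (x⁻¹ * g * x) ∈ U
    · rw [extendByZero_mem _ h, extendByZero_mem (H := U.comap π) _ h]
    · rw [extendByZero_not_mem _ h, extendByZero_not_mem (H := U.comap π) _ h]
  simp only [hext]
  have hfib : ∀ b : K, (Finset.univ.filter fun x : G => π x = b).card = Nat.card π.ker := fun b => by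
    obtain ⟨a, rfl⟩ := hπ b
    rw [← Nat.card_eq_finsetCard]
    refine Nat.card_congr ⟨fun x => ⟨a⁻¹ * x, by
        rw [MonoidHom.mem_ker, map_mul, map_inv, (Finset.mem_filter.mp x.2).2, inv_mul_cancel]⟩,
      fun k => ⟨a * k, by simp [MonoidHom.mem_ker.mp k.2]⟩, fun x => Subtype.ext (by simp),
      fun k => Subtype.ext (by simp)⟩
  rw [← Finset.sum_fiberwise Finset.univ (fun x => π x)
    (fun x => extendByZero U φ ((π x)⁻¹ * π g * π x)), Finset.mul_sum, Finset.mul_sum]
  refine Finset.sum_congr rfl fun b _ => ?_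
  rw [Finset.sum_congr rfl (g := fun _ => extendByZero U φ (b⁻¹ * π g * b)) (fun x hx => by
    rw [(Finset.mem_filter.mp hx).2]), Finset.sum_const, hfib, nsmul_eq_mul, ← mul_assoc]
  congr 1
  have h1 := CfsgLib.Core.card_mul_relIndex (Subgroup.ker_le_comap π U)
  rw [Subgroup.relIndex_ker, Subgroup.map_comap_eq_self_of_surjective hπ] at h1
  rw [← h1, Nat.cast_mul, mul_inv, mul_comm (Nat.card π.ker : ℂ)⁻¹, mul_assoc,
    inv_mul_cancel₀ (natCard_ne_zero π.ker), mul_one]

/-- Irreducible characters of nilpotent groups are monomial. -/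
theorem nilpotent_monomial : ∀ (n : ℕ) (X : Type u) [Group X] [Fintype X], Nat.card X = n →
    Group.IsNilpotent X → ∀ χ : X → ℂ, IsIrrCharacter X χ →
      ∃ (U : Subgroup X) (f : U →* ℂˣ), χ = indFun U (fun x => (f x : ℂ)) := by
  intro n
  induction n using Nat.strong_induction_on with
  | _ n ih =>
  intro X _ _ hn hX χ hχ
  classical
  haveI := hX
  by_cases hk : charKer hχ.isCharacter' = ⊥
  swap
  · set K := charKer hχ.isCharacter' with hK
    obtain ⟨χ', -, hχe, hirr⟩ := exists_deflate hχ.isCharacter' (QuotientGroup.mk' K)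
      (QuotientGroup.mk'_surjective K) fun k hk => by
        rw [QuotientGroup.ker_mk'] at hk; exact mem_charKer.mp hk
    haveI : Fintype (X ⧸ K) := Fintype.ofFinite _
    have hlt : Nat.card (X ⧸ K) < n := by
      rw [← hn, Subgroup.card_eq_card_quotient_mul_card_subgroup K]
      exact lt_mul_of_one_lt_right Nat.card_pos ((Subgroup.one_lt_card_iff_ne_bot K).mpr hk)
    obtain ⟨U, f, hf⟩ := ih _ hlt (X ⧸ K) rfl (Group.nilpotent_of_surjective (QuotientGroup.mk' K)
      (QuotientGroup.mk'_surjective K)) χ' (hirr hχ)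
    refine ⟨U.comap (QuotientGroup.mk' K), f.comp ((QuotientGroup.mk' K).subgroupComap U), ?_⟩
    exact hχe.symm.trans ((congrArg (fun ψ : X ⧸ K → ℂ => ψ ∘ QuotientGroup.mk' K) hf).trans
      (indFun_comap _ (QuotientGroup.mk'_surjective K) U _).symm)
  by_cases hab : Subgroup.center X = ⊤
  · have hc : ∀ a b : X, a * b = b * a := fun a b =>
      (Subgroup.mem_center_iff.mp (hab ▸ Subgroup.mem_top a) b).symm
    obtain ⟨f, rfl⟩ := exists_hom_of_irr_comm hc hχ
    refine ⟨⊤, f.comp (⊤ : Subgroup X).subtype, funext fun g => ?_⟩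
    exact (indFun_eq_of_fusion (H := (⊤ : Subgroup X)) _ (isCharacter_classFunction
      (isCharacter_hom (f.comp (⊤ : Subgroup X).subtype))) ⟨g, Subgroup.mem_top g⟩
      fun x hx => absurd (Subgroup.mem_top x) hx).symm
  set Z := Subgroup.center X with hZ
  haveI : Nontrivial (X ⧸ Z) := QuotientGroup.nontrivial_iff.mpr hab
  haveI : Nontrivial (Subgroup.center (X ⧸ Z)) := (Subgroup.nontrivial_iff_ne_bot _).mpr (Group.IsNilpotent.center_ne_bot _)
  obtain ⟨⟨xb, hxb⟩, hxb1⟩ := exists_ne (1 : Subgroup.center (X ⧸ Z))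
  obtain ⟨x, rfl⟩ := QuotientGroup.mk_surjective xb
  have hxZ : x ∉ Z := fun h => hxb1 (Subtype.ext ((QuotientGroup.eq_one_iff x).mpr h))
  set A := Z ⊔ Subgroup.zpowers x with hA
  haveI hAn : A.Normal := by
    have hAe : A = (Subgroup.zpowers (x : X ⧸ Z)).comap (QuotientGroup.mk' Z) := by
      rw [show Subgroup.zpowers (x : X ⧸ Z) = (Subgroup.zpowers x).map (QuotientGroup.mk' Z) from
        ((QuotientGroup.mk' Z).map_zpowers x).symm, Subgroup.comap_map_eq, QuotientGroup.ker_mk',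
        sup_comm]
    haveI : (Subgroup.zpowers (x : X ⧸ Z)).Normal := ⟨fun m hm g => by
      rw [Subgroup.mem_center_iff.mp (Subgroup.zpowers_le.mpr hxb hm) g, mul_inv_cancel_right]
      exact hm⟩
    rw [hAe]; infer_instance
  have hAc : ∀ a b : A, a * b = b * a := fun a b => by
    have hle : A ≤ Subgroup.centralizer ({x} : Set X) := sup_le (fun z hz =>
      Subgroup.mem_centralizer_singleton_iff.mpr (Subgroup.mem_center_iff.mp hz x).symm)
      (Subgroup.zpowers_le.mpr (Subgroup.mem_centralizer_singleton_iff.mpr rfl))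
    have hle2 : A ≤ Subgroup.centralizer (A : Set X) := sup_le (fun z hz =>
      Subgroup.mem_centralizer_iff.mpr fun w _ => Subgroup.mem_center_iff.mp hz w)
      (Subgroup.zpowers_le.mpr (Subgroup.mem_centralizer_iff.mpr fun w hw =>
        (Subgroup.mem_centralizer_singleton_iff.mp (hle hw))))
    exact Subtype.ext ((Subgroup.mem_centralizer_iff.mp (hle2 b.2) a a.2))
  obtain ⟨θ, hθ, hθc⟩ := exists_irr_under (H := A) hχ
  by_cases hT : inertia θ = ⊤
  · exfalso
    refine hxZ ?_
    obtain ⟨f, rfl⟩ := exists_hom_of_irr_comm hAc hθ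
    have horb : conjOrbit (fun c : A => (f c : ℂ)) = {fun c : A => (f c : ℂ)} := by
      refine Finset.eq_singleton_iff_unique_mem.mpr ⟨self_mem_conjOrbit _, fun φ hφ => ?_⟩
      obtain ⟨t, rfl⟩ := mem_conjOrbit.mp hφ
      exact mem_inertia.mp (hT ▸ Subgroup.mem_top t)
    have hres := clifford hχ hθ hθc
    rw [horb, Finset.sum_singleton] at hres
    have hx : x ∈ A := Subgroup.mem_sup_right (Subgroup.mem_zpowers x)
    have h1 := congrFun hres ⟨x, hx⟩
    have h0 := congrFun hres 1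
    simp only [Pi.smul_apply, smul_eq_mul, map_one, Units.val_one, mul_one, Subgroup.coe_one] at h1 h0
    rw [← h0] at h1
    obtain ⟨m, ρ, hρ, rfl⟩ := hχ
    have hfin : ρ.character 1 = (m : ℂ) := by rw [ρ.char_one, Module.finrank_fin_fun]
    obtain ⟨ω, hω⟩ := (norm_rep_char_eq_iff ρ x).mp (by
      rw [h1, norm_mul, hfin, Module.finrank_fin_fun, Complex.norm_natCast,
        norm_eq_one_of_pow_eq_one' (orderOf_pos (⟨x, hx⟩ : A))
          (by rw [← Units.val_pow_eq_pow_val, ← map_pow, pow_orderOf_eq_one, map_one, Units.val_one]),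
        mul_one])
    rw [Subgroup.mem_center_iff]
    intro g
    have hmem : x⁻¹ * g⁻¹ * x * g ∈ charKer (isCharacter_rep ρ) := by
      rw [mem_charKer]
      show LinearMap.trace ℂ _ (ρ (x⁻¹ * g⁻¹ * x * g)) = LinearMap.trace ℂ _ (ρ 1)
      congr 1
      have hcom : ρ x * ρ g = ρ g * ρ x := by rw [hω]; ext v; simp
      rw [map_mul, map_mul, map_mul, mul_assoc, hcom, ← map_mul, ← map_mul, ← map_mul]
      congr 1; group
    have hk' : charKer (isCharacter_rep ρ) = ⊥ := hk
    rw [hk', Subgroup.mem_bot] at hmem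
    calc g * x = g * x * (x⁻¹ * g⁻¹ * x * g) := by rw [hmem, mul_one]
      _ = x * g := by group
  · obtain ⟨ψ, hψ, hψe, -⟩ := exists_clifford_correspondent hχ hθ hθc (inertia θ) rfl
      (le_inertia (isCharacter_classFunction hθ.isCharacter'))
    obtain ⟨U, f, hf⟩ := ih _ (by
      rw [← hn]
      by_contra hc
      exact hT (Subgroup.eq_top_of_le_card _ (not_lt.mp hc))) (inertia θ) rfl inferInstance ψ hψ
    obtain ⟨e, he⟩ := indFun_map (inertia θ) U (fun y => (f y : ℂ))
    exact ⟨U.map (inertia θ).subtype, f.comp e.toMonoidHom, by rw [← hψe, hf, he]; rfl⟩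

/-- Combinations of monomial characters of elementary subgroups. -/
def monSpan : AddSubgroup (G → ℂ) :=
  AddSubgroup.closure {f | ∃ (p : ℕ) (E : Subgroup G) (l : E →* ℂˣ), p.Prime ∧ IsElementary p E ∧
    f = indFun E (fun e => (l e : ℂ))}

/-- Brauer's induction theorem. -/
theorem brauer_induction {χ : G → ℂ} (hχ : IsCharacter G χ) : χ ∈ monSpan (G := G) := by
  classical
  suffices h : ∀ f ∈ elemSpan (G := G) Nat.Prime, f * χ ∈ monSpan (G := G) by
    simpa [funext_iff, Pi.mul_def] using h _ brauer_one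
  intro f hf
  induction hf using AddSubgroup.closure_induction with
  | mem f hf =>
    obtain ⟨q, E, φ, hq, hEe, hφ, rfl⟩ := hf
    have hc := isCharacter_mul hφ (isCharacter_restrict hχ E)
    rw [indFun_mul _ _ (isCharacter_classFunction hχ),
      classFunction_eq_sum _ (isCharacter_classFunction hc), indFun_sum]
    refine AddSubgroup.sum_mem _ fun ξ _ => ?_
    obtain ⟨a, ha⟩ := inner_character_nat hc ξ.2.isCharacter'
    rw [indFun_smul, ha, Nat.cast_smul_eq_nsmul]
    refine AddSubgroup.nsmul_mem _ ?_ a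
    obtain ⟨U, l, hl⟩ := nilpotent_monomial _ E rfl (isNilpotent_of_isElementary hq hEe) ξ ξ.2
    obtain ⟨e, he⟩ := indFun_map E U (fun y => (l y : ℂ))
    rw [hl, he]
    exact AddSubgroup.subset_closure ⟨q, _, l.comp e.toMonoidHom, hq,
      isElementary_of_equiv e.symm (isElementary_subgroup hq hEe U), rfl⟩
  | zero => rw [zero_mul]; exact AddSubgroup.zero_mem _
  | add a b _ _ iha ihb => rw [add_mul]; exact AddSubgroup.add_mem _ iha ihb
  | neg a _ iha => rw [neg_mul]; exact AddSubgroup.neg_mem _ iha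

theorem exists_lin_list {Q : Subgroup G → Prop} {f : G → ℂ}
    (hf : f ∈ AddSubgroup.closure {f : G → ℂ | ∃ (E : Subgroup G) (l : E →* ℂˣ), Q E ∧
      f = indFun E (fun e => (l e : ℂ))}) :
    ∃ l : List ((E : Subgroup G) × ((E →* ℂˣ) × ℤ)), (∀ t ∈ l, Q t.1) ∧
      f = (l.map fun t => (t.2.2 : ℂ) • indFun t.1 (fun e => (t.2.1 e : ℂ))).sum := by
  induction hf using AddSubgroup.closure_induction with
  | mem f hf =>
    obtain ⟨E, φ, hQ, rfl⟩ := hf
    exact ⟨[⟨E, φ, 1⟩], fun t ht => by simp at ht; subst ht; exact hQ, by simp⟩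
  | zero => exact ⟨[], by simp, by simp⟩
  | add a b _ _ iha ihb =>
    obtain ⟨l, hl, rfl⟩ := iha
    obtain ⟨l', hl', rfl⟩ := ihb
    exact ⟨l ++ l', fun t ht => (List.mem_append.mp ht).elim (hl t) (hl' t), by simp⟩
  | neg a _ iha =>
    obtain ⟨l, hl, rfl⟩ := iha
    refine ⟨l.map fun t => ⟨t.1, t.2.1, -t.2.2⟩, fun t ht => ?_, ?_⟩
    · obtain ⟨s, hs, rfl⟩ := List.mem_map.mp ht
      exact hl s hs
    · clear * - l
      induction l with
      | nil => simp
      | cons t l ih =>
        rw [List.map_cons, List.map_cons, List.map_cons, List.sum_cons, List.sum_cons, neg_add, ih]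
        simp

/-- Artin's induction theorem. -/
theorem artin_induction {χ : G → ℂ} (hχ : IsCharacter G χ) :
    (Nat.card G : ℂ) • χ ∈ AddSubgroup.closure {f : G → ℂ | ∃ (E : Subgroup G) (l : E →* ℂˣ),
      IsCyclic E ∧ f = indFun E (fun e => (l e : ℂ))} := by
  classical
  set P : AddSubgroup (G → ℂ) :=
    AddSubgroup.closure {f | ∃ H : Subgroup G, IsCyclic H ∧ f = indFun H (fun _ => 1)} with hP
  have h1 : (fun _ : G => (Nat.card G : ℂ)) ∈ P := by
    have he : (fun _ : G => (Nat.card G : ℂ)) =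
        ∑ C ∈ Finset.univ.image (fun x : G => Subgroup.zpowers x), genCount C := by
      funext y
      simp only [Finset.sum_apply, genCount]
      rw [← Nat.cast_sum, ← Finset.card_eq_sum_card_fiberwise
        (f := fun x : G => Subgroup.zpowers (x⁻¹ * y * x))
        (fun x _ => Finset.mem_image.mpr ⟨_, Finset.mem_univ _, rfl⟩), Finset.card_univ,
        Nat.card_eq_fintype_card]
    rw [he]
    exact AddSubgroup.sum_mem _ fun C _ => genCount_mem_of
      (fun z => hP.symm ▸ AddSubgroup.subset_closure (show indFun (Subgroup.zpowers z) (fun _ => 1) ∈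
        {f | ∃ H : Subgroup G, IsCyclic H ∧ f = indFun H (fun _ => 1)} from ⟨_, inferInstance, rfl⟩)) C
  suffices h : ∀ f ∈ P, f * χ ∈ AddSubgroup.closure {f : G → ℂ | ∃ (E : Subgroup G) (l : E →* ℂˣ),
      IsCyclic E ∧ f = indFun E (fun e => (l e : ℂ))} by
    exact (h _ h1)
  intro f hf
  induction hf using AddSubgroup.closure_induction with
  | mem f hf =>
    obtain ⟨E, hE, rfl⟩ := hf
    letI : CommGroup E := IsCyclic.commGroup
    have hc : IsCharacter E ((fun _ : E => (1 : ℂ)) * fun e : E => χ e) :=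
      isCharacter_mul isCharacter_one (isCharacter_restrict hχ E)
    rw [indFun_mul _ _ (isCharacter_classFunction hχ),
      classFunction_eq_sum _ (isCharacter_classFunction hc), indFun_sum]
    refine AddSubgroup.sum_mem _ fun ξ _ => ?_
    obtain ⟨a, ha⟩ := inner_character_nat hc ξ.2.isCharacter'
    rw [indFun_smul, ha, Nat.cast_smul_eq_nsmul]
    obtain ⟨l, hl⟩ := exists_hom_of_irr_comm (fun a b : E => mul_comm a b) ξ.2
    refine AddSubgroup.nsmul_mem _ ?_ a
    exact AddSubgroup.subset_closure ⟨E, l, hE, by rw [hl]⟩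
  | zero => rw [zero_mul]; exact AddSubgroup.zero_mem _
  | add a b _ _ iha ihb => rw [add_mul]; exact AddSubgroup.add_mem _ iha ihb
  | neg a _ iha => rw [neg_mul]; exact AddSubgroup.neg_mem _ iha

end CfsgLib.Char
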