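import Cfsg.Agent.Lib.CharFrobCoh3
import Cfsg.Agent.Lib.CharPerm
import Cfsg.Agent.Lib.CharRep

/-!
# No group of odd order is partitioned by nilpotent Frobenius kernels
-/

set_option autoImplicit false
set_option linter.style.haveILetI false
set_option linter.unusedSectionVars false

namespace CfsgLib.Char

open Cfsg Representation
open scoped ComplexConjugate

universe u

section Kernel

variable {L : Type u} [Group L] [Fintype L] {K : Subgroup L}

open scoped Classical in
/-- The nonidentity elements of a subgroup. -/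
noncomputable def kSet (K : Subgroup L) : Finset L :=
  Finset.univ.filter fun x => x ∈ K ∧ x ≠ 1

theorem mem_kSet {x : L} : x ∈ kSet K ↔ x ∈ K ∧ x ≠ 1 := by simp [kSet]

theorem card_kSet : (kSet K).card + 1 = Nat.card K := by
  classical
  have h : kSet K = (Finset.univ.filter fun x : L => x ∈ K).erase 1 := by
    ext x; simp [mem_kSet, and_comm]
  rw [h, Finset.card_erase_add_one (Finset.mem_filter.mpr ⟨Finset.mem_univ _, K.one_mem⟩),
    Nat.card_eq_fintype_card, Fintype.card_subtype]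

variable [K.Normal] (hC : ∀ k ∈ K, k ≠ 1 → Subgroup.centralizer ({k} : Set L) ≤ K)
include hC

theorem relChars_dvd {χ : L → ℂ} (hχ : χ ∈ relChars K ⊥) : ∃ r : ℕ, natDeg χ = K.index * r := by
  obtain ⟨f, hf, -, -⟩ := relChars_bound hC (A := ⊥) (B := ⊥) bot_le bot_le (by simp) hχ
  exact ⟨f, hf⟩

open scoped Classical in
theorem natDeg_div_mul {χ : L → ℂ} (hχ : χ ∈ relChars K ⊥) :
    χ 1 = (K.index : ℂ) * ((natDeg χ / K.index : ℕ) : ℂ) := by
  obtain ⟨r, hr⟩ := relChars_dvd hC hχ
  rw [natDeg_spec (relChars_irr χ hχ).isCharacter', hr,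
    Nat.mul_div_cancel_left r (Nat.pos_of_ne_zero Subgroup.index_ne_zero_of_finite), Nat.cast_mul]

/-- The regular relation restricted to the kernel. -/
theorem relChars_sum_mul {x : L} (hx : x ∈ K) (hx1 : x ≠ 1) :
    ∑ χ ∈ relChars K ⊥, χ 1 * χ x = -(K.index : ℂ) ∧
      ∑ χ ∈ relChars K ⊥, χ x * conj (χ x) =
        (Nat.card (Subgroup.centralizer ({x} : Set L)) : ℂ) - K.index := by
  classical
  have hsub : relChars K ⊥ = (Finset.univ.filter fun χ : IrrCharacter L =>
      (χ : L → ℂ) ∈ relChars K ⊥).image Subtype.val := by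
    ext χ
    simp only [Finset.mem_image, Finset.mem_filter, Finset.mem_univ, true_and]
    exact ⟨fun h => ⟨⟨χ, relChars_irr χ h⟩, h, rfl⟩, fun ⟨ξ, h, e⟩ => e ▸ h⟩
  have hconv : ∀ F : (L → ℂ) → ℂ, ∑ χ ∈ relChars K ⊥, F χ =
      ∑ χ ∈ Finset.univ.filter (fun χ : IrrCharacter L => (χ : L → ℂ) ∈ relChars K ⊥), F χ :=
    fun F => by
      conv_lhs => rw [hsub]
      rw [Finset.sum_image fun a _ b _ h => Subtype.ext h]
  have hnot : ∀ χ : IrrCharacter L, (χ : L → ℂ) ∉ relChars K ⊥ →
      (χ : L → ℂ) x = (χ : L → ℂ) 1 := by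
    intro χ h
    by_contra hne
    exact h (mem_relChars.mpr ⟨χ.2, ⟨x, hx, hne⟩, fun a ha => by rw [Subgroup.mem_bot.mp ha]⟩)
  set T := Finset.univ.filter (fun χ : IrrCharacter L => ¬ (χ : L → ℂ) ∈ relChars K ⊥) with hT
  have hT1 : ∑ χ ∈ T, (χ : L → ℂ) 1 ^ 2 = (K.index : ℂ) := by
    have h := sum_degree_sq (G := L)
    rw [← Finset.sum_filter_add_sum_filter_not _
      (fun χ : IrrCharacter L => (χ : L → ℂ) ∈ relChars K ⊥), ← hconv fun χ => χ 1 ^ 2] at h
    have h2 := relChars_sum (K := K) hC (A := ⊥) bot_le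
    rw [Subgroup.index_bot] at h2
    have h3 : ∑ χ ∈ relChars K ⊥, χ 1 ^ 2 = ((∑ χ ∈ relChars K ⊥, natDeg χ ^ 2 : ℕ) : ℂ) := by
      push_cast
      exact Finset.sum_congr rfl fun χ hχ => by rw [natDeg_spec (relChars_irr χ hχ).isCharacter']
    rw [h3, ← h2, Nat.cast_add, add_right_inj] at h
    exact h
  refine ⟨?_, ?_⟩
  · have h := sum_degree_mul x
    rw [if_neg hx1, ← Finset.sum_filter_add_sum_filter_not _
      (fun χ : IrrCharacter L => (χ : L → ℂ) ∈ relChars K ⊥), ← hconv fun χ => χ 1 * χ x] at h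
    rw [← hT, Finset.sum_congr rfl (g := fun χ : IrrCharacter L => (χ : L → ℂ) 1 ^ 2) fun χ hχ => by
      rw [hnot χ (Finset.mem_filter.mp hχ).2, sq], hT1] at h
    linear_combination h
  · have h := column_orth_conj (IsConj.refl x)
    rw [← Finset.sum_filter_add_sum_filter_not _
      (fun χ : IrrCharacter L => (χ : L → ℂ) ∈ relChars K ⊥), ← hconv fun χ => χ x * conj (χ x)] at h
    rw [← hT, Finset.sum_congr rfl (g := fun χ : IrrCharacter L => (χ : L → ℂ) 1 ^ 2) fun χ hχ => by
      rw [hnot χ (Finset.mem_filter.mp hχ).2, natDeg_spec χ.2.isCharacter', Complex.conj_natCast,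
        sq], hT1] at h
    linear_combination h

/-- A kernel character of least degree exists. -/
theorem exists_relChar_index (hnil : Group.IsNilpotent K) (hK : K ≠ ⊥) :
    ∃ a ∈ relChars K ⊥, natDeg a = K.index := by
  classical
  haveI : (⁅K, K⁆).Normal := inferInstance
  have hK'K : ⁅K, K⁆ ≤ K := Subgroup.commutator_le_self K
  have hlt : ⁅K, K⁆ ≠ K := by
    intro h
    refine hK ?_
    obtain ⟨n, hn⟩ := (Subgroup.isNilpotent_iff_lowerCentralSeries K).mp hnil
    have hall : ∀ i, K.lowerCentralSeries i = K := by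
      intro i
      induction i with
      | zero => rfl
      | succ i ih => rw [Subgroup.lowerCentralSeries_succ, ih]; exact h
    rw [← hall n, hn]
  have hne : (relChars K ⁅K, K⁆).Nonempty := by
    rw [Finset.nonempty_iff_ne_empty]
    intro h
    have hs := relChars_sum hC hK'K
    rw [h, Finset.sum_empty, zero_add, ← Subgroup.relIndex_mul_index hK'K] at hs
    exact hlt (le_antisymm hK'K (Subgroup.relIndex_eq_one.mp
      (mul_eq_right₀ Subgroup.index_ne_zero_of_finite |>.mp hs.symm)))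
  obtain ⟨a, ha⟩ := hne
  obtain ⟨f, hf, hf2, -⟩ := relChars_bound hC (A := K) (B := ⁅K, K⁆) le_rfl hK'K le_rfl ha
  refine ⟨a, relChars_mono bot_le ha, ?_⟩
  have h1 : f ^ 2 ≤ 1 := Nat.le_of_mul_le_mul_right (by rwa [one_mul]) (Nat.card_pos (α := K))
  have h2 : f ≤ 1 := le_trans (Nat.le_self_pow two_ne_zero f) h1
  rcases Nat.eq_zero_or_pos f with h | h
  · exact absurd (hf.trans (by rw [h, mul_zero])) (natDeg_pos (relChars_irr a ha)).ne'
  · rw [hf, show f = 1 by omega, mul_one]

open scoped Classical in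
/-- Values on the kernel from the multiplicity relations. -/
theorem kernel_value {θ : L → ℂ} (hθ : IsGeneralizedCharacter L θ) {a : L → ℂ}
    (ha : a ∈ relChars K ⊥) (δ : ℤ)
    (hrel : ∀ χ ∈ relChars K ⊥, (K.index : ℂ) * classInner θ χ - χ 1 * classInner θ a =
      (δ : ℂ) * ((if χ = a then (K.index : ℂ) else 0) - χ 1)) :
    ∃ v : ℤ, ∀ x ∈ K, x ≠ 1 → θ x = (δ : ℂ) * a x + v := by
  classical
  have hint : ∀ χ : IrrCharacter L, ∃ n : ℤ, classInner θ (χ : L → ℂ) = (n : ℂ) := fun χ =>
    inner_genChar_int hθ (isGenChar_of_isCharacter χ.2.isCharacter')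
  choose c hc using hint
  set T := Finset.univ.filter (fun χ : IrrCharacter L => ¬ (χ : L → ℂ) ∈ relChars K ⊥) with hT
  refine ⟨(∑ χ ∈ T, c χ * natDeg (χ : L → ℂ)) - c ⟨a, relChars_irr a ha⟩ + δ, fun x hx hx1 => ?_⟩
  have he : (K.index : ℂ) ≠ 0 := Nat.cast_ne_zero.mpr Subgroup.index_ne_zero_of_finite
  have hexp : θ x = ∑ χ : IrrCharacter L, (c χ : ℂ) * (χ : L → ℂ) x := by
    have h := congrFun (classFunction_eq_sum _ (isGenChar_classFunction hθ)) x
    simpa [Finset.sum_apply, hc] using h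
  have hS : ∑ χ ∈ Finset.univ.filter (fun χ : IrrCharacter L => (χ : L → ℂ) ∈ relChars K ⊥),
      (K.index : ℂ) * ((c χ : ℂ) * (χ : L → ℂ) x) =
      (K.index : ℂ) * ((δ : ℂ) * a x) +
        ((c ⟨a, relChars_irr a ha⟩ : ℂ) - δ) * -(K.index : ℂ) := by
    rw [← (relChars_sum_mul hC hx hx1).1]
    calc _ = ∑ χ ∈ relChars K ⊥, ((δ : ℂ) * (if χ = a then (K.index : ℂ) * χ x else 0) +
          ((c ⟨a, relChars_irr a ha⟩ : ℂ) - δ) * (χ 1 * χ x)) := by
          refine Finset.sum_bij (fun χ _ => (χ : L → ℂ)) (fun χ h => (Finset.mem_filter.mp h).2)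
            (fun _ _ _ _ h => Subtype.ext h)
            (fun χ h => ⟨⟨χ, relChars_irr χ h⟩, Finset.mem_filter.mpr ⟨Finset.mem_univ _, h⟩, rfl⟩)
            fun χ h => ?_
          have h' := hrel _ (Finset.mem_filter.mp h).2
          rw [hc χ, hc ⟨a, relChars_irr a ha⟩] at h'
          split_ifs at h' ⊢ with e
          · linear_combination (χ : L → ℂ) x * h'
          · linear_combination (χ : L → ℂ) x * h'
      _ = _ := by
          rw [Finset.sum_add_distrib, ← Finset.mul_sum, ← Finset.mul_sum, Finset.sum_ite_eq',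
            if_pos ha]
          ring
  refine mul_left_cancel₀ he ?_
  rw [hexp, ← Finset.sum_filter_add_sum_filter_not _
    (fun χ : IrrCharacter L => (χ : L → ℂ) ∈ relChars K ⊥), mul_add, Finset.mul_sum, hS, ← hT,
    Finset.sum_congr rfl (g := fun χ : IrrCharacter L => (c χ : ℂ) * (natDeg (χ : L → ℂ) : ℂ))
      fun χ hχ => ?_]
  · push_cast; ring
  · rw [← natDeg_spec χ.2.isCharacter']
    congr 1
    by_contra hne
    exact (Finset.mem_filter.mp hχ).2
      (mem_relChars.mpr ⟨χ.2, ⟨x, hx, hne⟩, fun a ha => by rw [Subgroup.mem_bot.mp ha]⟩)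

open scoped Classical in
/-- The mass of a shifted kernel character. -/
theorem kernel_norm_ge {a : L → ℂ} (ha : a ∈ relChars K ⊥) (hda : natDeg a = K.index)
    (hs : 2 * K.index + 1 ≤ Nat.card K) (v : ℤ) :
    (K.index : ℝ) * Nat.card K - (K.index : ℝ) ^ 2 ≤ ∑ x ∈ kSet K, ‖a x + (v : ℂ)‖ ^ 2 := by
  classical
  have hirr := relChars_irr a ha
  have hnot : ∀ x : L, x ∉ K → a x = 0 := fun x hx => relChars_vanish hC ha hx
  have ha1 : a 1 = (K.index : ℂ) := by rw [natDeg_spec hirr.isCharacter', hda]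
  have huniv : ∀ F : L → ℝ, (∀ x, x ∉ K → F x = 0) → ∑ x, F x = F 1 + ∑ x ∈ kSet K, F x := by
    intro F hF
    rw [← Finset.sum_insert (s := kSet K) (a := 1) fun h => (mem_kSet.mp h).2 rfl]
    refine (Finset.sum_subset (Finset.subset_univ _) fun x _ hx => hF x fun hK => hx ?_).symm
    rcases eq_or_ne x 1 with rfl | h
    · exact Finset.mem_insert_self _ _
    · exact Finset.mem_insert_of_mem (mem_kSet.mpr ⟨hK, h⟩)
  have h1 : ∑ x ∈ kSet K, ‖a x‖ ^ 2 = (K.index : ℝ) * Nat.card K - (K.index : ℝ) ^ 2 := by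
    have h := irr_inner_self hirr
    rw [inner_self_eq_norm_sq] at h
    have h' : (Nat.card L : ℝ)⁻¹ * ∑ x, ‖a x‖ ^ 2 = 1 := by exact_mod_cast h
    rw [inv_mul_eq_iff_eq_mul₀ (by exact_mod_cast Nat.card_pos.ne'), mul_one,
      huniv _ (fun x hx => by simp [hnot x hx]), ha1, Complex.norm_natCast,
      ← K.index_mul_card, Nat.cast_mul] at h'
    linarith
  have h2 : ∑ x ∈ kSet K, (a x).re = -(K.index : ℝ) := by
    have hne : a ≠ fun _ => 1 := by
      obtain ⟨-, ⟨k, -, hk⟩, -⟩ := mem_relChars.mp ha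
      intro e; exact hk (by rw [e])
    have h := irr_inner_ne hirr isIrrCharacter_one hne
    simp only [classInner, map_one, mul_one] at h
    have h0 : ∑ x, a x = 0 := by
      refine (mul_eq_zero.mp h).resolve_left ?_
      simp
    have h3 := congrArg Complex.re h0
    rw [Complex.re_sum, huniv _ (fun x hx => by simp [hnot x hx]), ha1, Complex.natCast_re,
      Complex.zero_re] at h3
    linarith
  have hexp : ∀ x, ‖a x + (v : ℂ)‖ ^ 2 = ‖a x‖ ^ 2 + (v : ℝ) ^ 2 + 2 * v * (a x).re := by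
    intro x
    rw [Complex.sq_norm, Complex.sq_norm, Complex.normSq_apply, Complex.normSq_apply]
    simp only [Complex.add_re, Complex.add_im, Complex.intCast_re, Complex.intCast_im, add_zero]
    ring
  simp only [hexp, Finset.sum_add_distrib, ← Finset.mul_sum, h1, h2, Finset.sum_const, nsmul_eq_mul]
  have hk : ((2 * K.index : ℕ) : ℝ) ≤ ((kSet K).card : ℝ) := by
    have := card_kSet (K := K); exact_mod_cast (by omega : 2 * K.index ≤ (kSet K).card)
  push_cast at hk
  rcases eq_or_ne v 0 with rfl | hv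
  · simp
  have hv1 : (1 : ℝ) ≤ |(v : ℝ)| := by exact_mod_cast Int.one_le_abs hv
  have h3 : 2 * (K.index : ℝ) * |(v : ℝ)| ≤ ((kSet K).card : ℝ) * (v : ℝ) ^ 2 := by
    have h4 : |(v : ℝ)| ≤ (v : ℝ) ^ 2 := by rw [← sq_abs]; nlinarith
    exact mul_le_mul hk h4 (abs_nonneg _) (Nat.cast_nonneg _)
  have h5 : 2 * (v : ℝ) * (K.index : ℝ) ≤ 2 * (K.index : ℝ) * |(v : ℝ)| := by
    nlinarith [le_abs_self (v : ℝ), Nat.cast_nonneg (α := ℝ) K.index]
  nlinarith

end Kernel

section Global

variable {G : Type u} [Group G] [Fintype G]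

/-- Two norm one pairs with orthogonal differences are orthogonal. -/
theorem orth_of_pairs {x x' y y' : G → ℂ} (hx : IsGeneralizedCharacter G x)
    (hy : IsGeneralizedCharacter G y)
    (hxn : classInner x x = 1) (hyn : classInner y y = 1)
    (hx'n : classInner x' x' = 1) (hy'n : classInner y' y' = 1)
    (hx'g : IsGeneralizedCharacter G x') (hy'g : IsGeneralizedCharacter G y')
    (hxx : classInner x x' = 0) (hyy : classInner y y' = 0)
    (hd : classInner (x - x') (y - y') = 0) (hx1 : x 1 = x' 1) (hy1 : y 1 = y' 1) :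
    classInner x y = 0 := by
  by_contra hne
  obtain ⟨he, hc⟩ := eq_smul_of_norm_one hx hy hxn hyn hne
  set c := classInner x y with hcdef
  have h01 : classInner x y' = 0 := by rw [he, inner_smul_left, hyy, mul_zero]
  have h10 : classInner x' y = 0 := by
    have h : classInner x' x = 0 := by rw [← inner_conj_symm, hxx, map_zero]
    rw [he, inner_smul_right] at h
    exact (mul_eq_zero.mp h).resolve_left fun e => hne (star_eq_zero.mp e)
  rw [inner_sub_left, inner_sub_right, inner_sub_right, h01, h10, ← hcdef] at hd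
  have h11 : classInner x' y' = -c := by linear_combination hd
  obtain ⟨he', -⟩ := eq_smul_of_norm_one hx'g hy'g hx'n hy'n (by rw [h11]; exact neg_ne_zero.mpr hne)
  rw [h11] at he'
  have e1 := congrFun he 1
  have e2 := congrFun he' 1
  simp only [Pi.smul_apply, smul_eq_mul] at e1 e2
  rw [← hx1, ← hy1] at e2
  have hzero : x 1 = 0 := by linear_combination (e1 + e2) / 2
  rcases genChar_norm_one hx hxn with h | h
  · exact irr_apply_one_ne_zero h hzero
  · exact irr_apply_one_ne_zero h (by simp [hzero])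

/-- Induction agrees with the original function on a TI kernel. -/
theorem indFun_eq_of_TI {H N : Subgroup G} [Fintype N]
    (hTI : ∀ g : G, g ∉ N → ∀ h ∈ H, g * h * g⁻¹ ∈ H → h = 1) {α : N → ℂ}
    (hα : IsClassFunction N α) (hvan : ∀ x : N, (x : G) ∉ H → α x = 0) (t : N) (ht : (t : G) ∈ H)
    (ht1 : t ≠ 1) : indFun N α t = α t := by
  refine indFun_eq_of_fusion α hα t fun x hx => ?_
  by_cases hmem : x⁻¹ * (t : G) * x ∈ N
  · rw [extendByZero_mem α hmem]
    refine hvan _ fun hH => ht1 ?_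
    have hx' : x⁻¹ ∉ N := fun e => hx (by simpa using N.inv_mem e)
    exact Subtype.ext (hTI x⁻¹ hx' (t : G) ht (by simpa using hH))
  · exact extendByZero_not_mem α hmem

/-- Induced functions vanish away from the conjugates of their support. -/
theorem indFun_eq_zero_of_forall {H N : Subgroup G} [Fintype N] {α : N → ℂ}
    (hvan : ∀ x : N, (x : G) ∉ H → α x = 0) {g : G} (hg : ∀ x : G, x * g * x⁻¹ ∉ H) :
    indFun N α g = 0 := by
  rw [indFun_apply]
  refine mul_eq_zero_of_right _ (Finset.sum_eq_zero fun x _ => ?_)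
  by_cases hmem : x⁻¹ * g * x ∈ N
  · rw [extendByZero_mem α hmem]
    exact hvan _ (by simpa using hg x⁻¹)
  · exact extendByZero_not_mem α hmem

open scoped Classical in
/-- Sum of a class function over a group covered by coprime TI subgroups. -/
theorem sum_cover {ι : Type*} [Fintype ι] (L H : ι → Subgroup G) [∀ i, Fintype (L i)]
    (hHL : ∀ i, H i ≤ L i)
    (hTI : ∀ i, ∀ g : G, g ∉ L i → ∀ h ∈ H i, g * h * g⁻¹ ∈ H i → h = 1)
    (hHn : ∀ i, ∀ x ∈ L i, ∀ h ∈ H i, x * h * x⁻¹ ∈ H i)
    (hcop : ∀ i j, i ≠ j → Nat.Coprime (Nat.card (H i)) (Nat.card (H j)))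
    (hcover : ∀ g : G, g ≠ 1 → ∃ i, ∃ x : G, x * g * x⁻¹ ∈ H i)
    {M : Type*} [AddCommMonoid M] (F : G → M) (hF : ∀ x g : G, F (x * g * x⁻¹) = F g) :
    ∑ g, F g = F 1 + ∑ i, (L i).index • ∑ x ∈ kSet ((H i).subgroupOf (L i)), F x := by
  classical
  haveI : ∀ i, Fintype (G ⧸ L i) := fun i => Fintype.ofFinite _
  rw [← Finset.add_sum_erase _ _ (Finset.mem_univ (1 : G))]
  congr 1
  have hsep : ∀ i j : ι, ∀ g ∈ H i, ∀ x : G, x * g * x⁻¹ ∈ H j → g ≠ 1 → i = j := by
    intro i j g hg x hx hg1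
    by_contra hne
    have h1 := (H i).orderOf_dvd_natCard hg
    have h2 := (H j).orderOf_dvd_natCard hx
    rw [show x * g * x⁻¹ = MulAut.conj x g from rfl, MulEquiv.orderOf_eq] at h2
    exact hg1 (orderOf_eq_one_iff.mp (Nat.eq_one_of_dvd_coprimes (hcop i j hne) h1 h2))
  calc ∑ g ∈ Finset.univ.erase 1, F g
      = ∑ p ∈ Finset.univ.sigma (fun i => (Finset.univ : Finset (G ⧸ L i)) ×ˢ
          kSet ((H i).subgroupOf (L i))), F (p.2.2 : G) := by
        symm
        refine Finset.sum_bij (fun p _ => p.2.1.out * (p.2.2 : G) * p.2.1.out⁻¹) ?_ ?_ ?_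
          (fun p _ => (hF _ _).symm)
        · rintro ⟨i, q, x⟩ hp
          have hx := mem_kSet.mp (Finset.mem_product.mp (Finset.mem_sigma.mp hp).2).2
          refine Finset.mem_erase.mpr ⟨fun e => hx.2 (Subtype.ext ?_), Finset.mem_univ _⟩
          exact conj_eq_one_iff.mp e
        · rintro ⟨i, q, x⟩ hp ⟨j, r, y⟩ hp' he
          simp only at he
          obtain ⟨hxK, hx1⟩ := mem_kSet.mp (Finset.mem_product.mp (Finset.mem_sigma.mp hp).2).2
          obtain ⟨hyK, -⟩ := mem_kSet.mp (Finset.mem_product.mp (Finset.mem_sigma.mp hp').2).2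
          have hconj : (r.out⁻¹ * q.out) * (x : G) * (r.out⁻¹ * q.out)⁻¹ = y := by
            calc (r.out⁻¹ * q.out) * (x : G) * (r.out⁻¹ * q.out)⁻¹
                = r.out⁻¹ * (q.out * x * q.out⁻¹) * r.out := by group
              _ = r.out⁻¹ * (r.out * y * r.out⁻¹) * r.out := by rw [he]
              _ = y := by group
          have hx1' : (x : G) ≠ 1 := fun e => hx1 (Subtype.ext e)
          obtain rfl := hsep i j x (Subgroup.mem_subgroupOf.mp hxK) _
            (hconj ▸ Subgroup.mem_subgroupOf.mp hyK) hx1'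
          have hmem : r.out⁻¹ * q.out ∈ L i := by
            by_contra hn
            exact hx1' (hTI i _ hn x (Subgroup.mem_subgroupOf.mp hxK)
              (hconj ▸ Subgroup.mem_subgroupOf.mp hyK))
          rw [← QuotientGroup.eq, QuotientGroup.out_eq', QuotientGroup.out_eq'] at hmem
          subst hmem
          have : x = y := Subtype.ext (mul_left_cancel (mul_right_cancel he))
          rw [this]
        · intro g hg
          obtain ⟨i, x, hx⟩ := hcover g (Finset.mem_erase.mp hg).1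
          set q : G ⧸ L i := QuotientGroup.mk x⁻¹ with hq
          have hout : x * q.out ∈ L i := by
            have := QuotientGroup.eq.mp ((QuotientGroup.out_eq' q).trans hq).symm
            simpa using this
          have hy : (x * q.out)⁻¹ * (x * g * x⁻¹) * (x * q.out) ∈ H i := by
            have := hHn i (x * q.out)⁻¹ ((L i).inv_mem hout) _ hx
            rwa [inv_inv] at this
          refine ⟨⟨i, q, ⟨_, hHL i hy⟩⟩, Finset.mem_sigma.mpr ⟨Finset.mem_univ _,
            Finset.mem_product.mpr ⟨Finset.mem_univ _, mem_kSet.mpr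
              ⟨Subgroup.mem_subgroupOf.mpr hy, fun e => (Finset.mem_erase.mp hg).1 ?_⟩⟩⟩, ?_⟩
          · have e' := congrArg Subtype.val e
            simp only [OneMemClass.coe_one] at e'
            calc g = x⁻¹ * (x * q.out) * ((x * q.out)⁻¹ * (x * g * x⁻¹) * (x * q.out)) *
                  (x * q.out)⁻¹ * x := by group
              _ = 1 := by rw [e']; group
          · show q.out * ((x * q.out)⁻¹ * (x * g * x⁻¹) * (x * q.out)) * q.out⁻¹ = g
            group
    _ = _ := by
        rw [Finset.sum_sigma]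
        refine Finset.sum_congr rfl fun i _ => ?_
        rw [Finset.sum_product]
        simp only
        rw [Finset.sum_const, Finset.card_univ, Subgroup.index_eq_card, Nat.card_eq_fintype_card]

end Global

/-- The arithmetic at the end of the partition theorem. -/
theorem cn_arith {e h N : ℝ} (he : 3 ≤ e) (hh : 2 * e + 1 ≤ h) (hN : h * (h + 2) ≤ N)
    (hlt : 1 - 1 / N < e / h + (h - 1) / (e * h) + (e - 1) / (h + 2)) : False := by
  have he0 : 0 < e := by linarith
  have hh0 : 0 < h := by linarith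
  have hD : 0 < h * (h + 2) := by positivity
  have h1 : 1 / N ≤ 1 / (h * (h + 2)) := one_div_le_one_div_of_le hD hN
  have h2 : 1 - 1 / (h * (h + 2)) < e / h + (h - 1) / (e * h) + (e - 1) / (h + 2) := by linarith
  have h3 : (e * h * (h + 2) - e) < e ^ 2 * (h + 2) + (h - 1) * (h + 2) + (e - 1) * e * h := by
    have hpos : 0 < e * h * (h + 2) := by positivity
    have := mul_lt_mul_of_pos_left h2 hpos
    field_simp at this
    nlinarith [this]
  have h4 : (2 * e + 1) * 2 ≤ h * (h - (2 * e - 1)) :=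
    mul_le_mul hh (by linarith) zero_le_two hh0.le
  nlinarith [mul_le_mul_of_nonneg_left h4 (show 0 ≤ e - 1 by linarith),
    mul_le_mul_of_nonneg_left he (show 0 ≤ 2 * e by linarith)]

end CfsgLib.Char
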