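import Cfsg.Agent.Lib.CharCN

/-!
# The partition theorem for nilpotent Frobenius kernels in odd order
-/

set_option autoImplicit false
set_option linter.style.haveILetI false
set_option linter.unusedSectionVars false

namespace CfsgLib.Char

open Cfsg Representation
open scoped ComplexConjugate

universe u

variable {G : Type u} [Group G] [Fintype G]

theorem isIntegral_genChar {θ : G → ℂ} (h : IsGeneralizedCharacter G θ) (g : G) :
    IsIntegral ℤ (θ g) := by
  obtain ⟨a, b, ha, hb, rfl⟩ := h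
  exact (isCharacter_isIntegral ha g).sub (isCharacter_isIntegral hb g)

open scoped Classical in
/-- A group of odd order is not covered by two or more coprime nilpotent TI Frobenius kernels. -/
theorem cn_partition {ι : Type*} [Fintype ι] (hι : 2 ≤ Fintype.card ι) (hodd : Odd (Nat.card G))
    (L H : ι → Subgroup G) (hHL : ∀ i, H i ≤ L i) (hne : ∀ i, H i ≠ L i) (hH1 : ∀ i, H i ≠ ⊥)
    (hnil : ∀ i, Group.IsNilpotent (H i))
    (hHn : ∀ i, ∀ x ∈ L i, ∀ h ∈ H i, x * h * x⁻¹ ∈ H i)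
    (hfrob : ∀ i, ∀ h ∈ H i, h ≠ 1 → L i ⊓ Subgroup.centralizer ({h} : Set G) ≤ H i)
    (hcop : ∀ i j, i ≠ j → Nat.Coprime (Nat.card (H i)) (Nat.card (H j)))
    (hTI : ∀ i, ∀ g : G, g ∉ L i → ∀ h ∈ H i, g * h * g⁻¹ ∈ H i → h = 1)
    (hN : ∀ i, Subgroup.normalizer (H i : Set G) = L i)
    (hcover : ∀ g : G, g ≠ 1 → ∃ i, ∃ x : G, x * g * x⁻¹ ∈ H i) : False := by
  haveI hFin : ∀ i, Fintype (L i) := fun i => Fintype.ofFinite _
  set K : ∀ i, Subgroup (L i) := fun i => (H i).subgroupOf (L i) with hKdef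
  haveI hKn : ∀ i, (K i).Normal := fun i =>
    ⟨fun h hh x => Subgroup.mem_subgroupOf.mpr (hHn i x x.2 h (Subgroup.mem_subgroupOf.mp hh))⟩
  haveI hKn' : ∀ i, ((H i).subgroupOf (L i)).Normal := hKn
  have hCG : ∀ i, ∀ h ∈ H i, h ≠ 1 → Subgroup.centralizer ({h} : Set G) ≤ H i := by
    intro i h hh h1 x hx
    refine hfrob i h hh h1 ⟨?_, hx⟩
    by_contra hxL
    refine h1 (hTI i x hxL h hh ?_)
    rw [Subgroup.mem_centralizer_singleton_iff] at hx
    rw [hx, mul_inv_cancel_right]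
    exact hh
  have hC : ∀ i, ∀ k ∈ K i, k ≠ 1 → Subgroup.centralizer ({k} : Set (L i)) ≤ K i :=
    fun i => centralizer_le_subgroupOf (hCG i)
  have hKne : ∀ i, K i ≠ ⊥ := fun i e => hH1 i (by
    have := congrArg (Subgroup.map (L i).subtype) e
    rwa [hKdef, Subgroup.subgroupOf_map_subtype, inf_eq_left.mpr (hHL i), Subgroup.map_bot] at this)
  have hcardK : ∀ i, Nat.card (K i) = Nat.card (H i) := fun i =>
    Nat.card_congr (Subgroup.subgroupOfEquivOfLe (hHL i)).toEquiv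
  have hnilK : ∀ i, Group.IsNilpotent (K i) := fun i => by
    haveI := hnil i
    exact Group.nilpotent_of_mulEquiv (Subgroup.subgroupOfEquivOfLe (hHL i)).symm
  have hLodd : ∀ i, Odd (Nat.card (L i)) := fun i => hodd.of_dvd_nat (L i).card_subgroup_dvd_card
  set e : ι → ℕ := fun i => (K i).index with he
  set h : ι → ℕ := fun i => Nat.card (H i) with hh
  have he0 : ∀ i, 0 < e i := fun i => Nat.pos_of_ne_zero Subgroup.index_ne_zero_of_finite
  have heodd : ∀ i, Odd (e i) := fun i => (hLodd i).of_dvd_nat (K i).index_dvd_card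
  have hhodd : ∀ i, Odd (h i) := fun i => hodd.of_dvd_nat (H i).card_subgroup_dvd_card
  have he3 : ∀ i, 3 ≤ e i := fun i => by
    have h1 : e i ≠ 1 := fun e1 => hne i (le_antisymm (hHL i) fun x hx => by
      have h2 : K i = ⊤ := Subgroup.index_eq_one.mp e1
      exact Subgroup.mem_subgroupOf.mp (h2 ▸ Subgroup.mem_top (⟨x, hx⟩ : L i)))
    obtain ⟨k, hk⟩ := heodd i
    omega
  have hcardL : ∀ i, Nat.card G = (L i).index * (e i * h i) := fun i => by
    rw [show h i = Nat.card (K i) from (hcardK i).symm, show e i = (K i).index from rfl,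
      (K i).index_mul_card, (L i).index_mul_card]
  choose s hs using fun i => relChars_index (hC i) (A := ⊥) bot_le
  have hhs : ∀ i, h i = e i * s i + 1 := fun i => by
    rw [← hs i, Subgroup.relIndex_bot_left, hcardK]
  have hh2 : ∀ i, 2 * e i + 1 ≤ h i := fun i =>
    two_mul_succ_le (hhs i) (hhodd i) (heodd i) fun e1 => hH1 i (Subgroup.card_eq_one.mp e1)
  have hseven : ∀ i, Even (s i) := fun i => by
    by_contra hcon
    rw [Nat.not_even_iff_odd] at hcon
    have := hhodd i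
    rw [hhs i] at this
    exact (Nat.not_even_iff_odd.mpr this) (((heodd i).mul hcon).add_one)
  have hs2 : ∀ i, 2 ≤ s i := fun i => by
    have h1 := hh2 i
    rw [hhs i] at h1
    exact Nat.le_of_mul_le_mul_left (by omega) (he0 i)
  -- exceptional characters
  choose f hf using fun i => frobenius_coherent (H i) (L i) (hHL i) (hTI i) (hN i) (hC i) (hnilK i)
    (hLodd i) (hKne i)
  choose a ha hda using fun i => exists_relChar_index (hC i) (hnilK i) (hKne i)
  have hirr : ∀ i, ∀ χ ∈ relChars (K i) ⊥, IsIrrCharacter (L i) χ := fun i => relChars_irr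
  have hgen : ∀ i, ∀ χ ∈ relChars (K i) ⊥, IsGeneralizedCharacter G (f i χ) := fun i => (hf i).gen
  have hnorm : ∀ i, ∀ χ ∈ relChars (K i) ⊥, classInner (f i χ) (f i χ) = 1 := fun i χ hχ => by
    rw [(hf i).inner χ hχ χ hχ, irr_inner_self (hirr i χ hχ)]
  set r : ∀ i, (L i → ℂ) → ℕ := fun i χ => natDeg χ / e i with hr
  have hdeg : ∀ i, ∀ χ ∈ relChars (K i) ⊥, χ 1 = (e i : ℂ) * (r i χ : ℂ) := fun i χ hχ =>
    natDeg_div_mul (hC i) hχ
  have hdeg' : ∀ i, ∀ χ ∈ relChars (K i) ⊥, natDeg χ = e i * r i χ := fun i χ hχ => by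
    have h1 := hdeg i χ hχ
    rw [natDeg_spec (hirr i χ hχ).isCharacter'] at h1
    exact_mod_cast h1
  have ha1 : ∀ i, a i 1 = (e i : ℂ) := fun i => by
    rw [natDeg_spec (hirr i _ (ha i)).isCharacter', hda i]
  have hsumr : ∀ i, ∑ χ ∈ relChars (K i) ⊥, r i χ ^ 2 = s i := fun i => by
    have h1 := relChars_sum (K := K i) (hC i) (A := ⊥) bot_le
    rw [Subgroup.index_bot, ← (K i).index_mul_card, hcardK i, Finset.sum_congr rfl
      (g := fun χ => e i ^ 2 * r i χ ^ 2) fun χ hχ => by rw [hdeg' i χ hχ, mul_pow],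
      ← Finset.mul_sum] at h1
    change e i ^ 2 * _ + e i = e i * h i at h1
    rw [hhs i] at h1
    have h2 : e i * (e i * ∑ χ ∈ relChars (K i) ⊥, r i χ ^ 2) = e i * (e i * s i) := by
      rw [← mul_assoc, ← sq]; linarith
    exact Nat.eq_of_mul_eq_mul_left (he0 i) (Nat.eq_of_mul_eq_mul_left (he0 i) h2)
  have hvanK : ∀ i, ∀ χ ∈ relChars (K i) ⊥, ∀ x : L i, (x : G) ∉ H i → χ x = 0 :=
    fun i χ hχ x hx => relChars_vanish (hC i) hχ fun e => hx (Subgroup.mem_subgroupOf.mp e)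
  have hcls : ∀ i, ∀ χ ∈ relChars (K i) ⊥, IsClassFunction G (f i χ) := fun i χ hχ =>
    isGenChar_classFunction (hgen i χ hχ)
  -- the relations
  set al : ∀ i, (L i → ℂ) → (L i → ℂ) :=
    fun i χ => (e i : ℤ) • χ - (natDeg χ : ℤ) • a i with hal
  have hrel : ∀ i, ∀ χ ∈ relChars (K i) ⊥,
      indFun (L i) (al i χ) = (e i : ℤ) • f i χ - (natDeg χ : ℤ) • f i (a i) := fun i χ hχ => by
    refine (hf i).rel χ hχ (a i) (ha i) _ _ ?_
    rw [ha1, hdeg i χ hχ, hdeg' i χ hχ]
    push_cast; ring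
  have halv : ∀ i, ∀ χ ∈ relChars (K i) ⊥, ∀ x : L i, (x : G) ∉ H i → al i χ x = 0 :=
    fun i χ hχ x hx => by
      simp [hal, hvanK i χ hχ x hx, hvanK i _ (ha i) x hx]
  have hout : ∀ i, ∀ χ ∈ relChars (K i) ⊥, ∀ g : G, (∀ x : G, x * g * x⁻¹ ∉ H i) →
      f i χ g = (r i χ : ℂ) * f i (a i) g := fun i χ hχ g hg => by
    have h1 := congrFun (hrel i χ hχ) g
    rw [indFun_eq_zero_of_forall (halv i χ hχ) hg] at h1
    simp only [Pi.sub_apply, Pi.smul_apply, zsmul_eq_mul] at h1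
    rw [hdeg' i χ hχ] at h1
    push_cast at h1
    simp only [Pi.mul_apply, Pi.natCast_apply] at h1
    refine mul_left_cancel₀ (show (e i : ℂ) ≠ 0 from Nat.cast_ne_zero.mpr (he0 i).ne') ?_
    linear_combination -h1
  have hkin : ∀ i, ∀ χ ∈ relChars (K i) ⊥, ∀ x ∈ K i, x ≠ 1 →
      f i χ x - χ x = (r i χ : ℂ) * (f i (a i) x - a i x) := fun i χ hχ x hx hx1 => by
    have h1 := congrFun (hrel i χ hχ) (x : G)
    have hgc : IsGeneralizedCharacter (L i) (al i χ) :=
      isGenChar_sub (isGenChar_zsmul (isGenChar_of_isCharacter (hirr i χ hχ).isCharacter') _)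
        (isGenChar_zsmul (isGenChar_of_isCharacter (hirr i _ (ha i)).isCharacter') _)
    rw [indFun_eq_of_TI (hTI i) (isGenChar_classFunction hgc) (halv i χ hχ) x
      (Subgroup.mem_subgroupOf.mp hx) hx1] at h1
    simp only [hal, Pi.sub_apply, Pi.smul_apply, zsmul_eq_mul] at h1
    rw [hdeg' i χ hχ] at h1
    push_cast at h1
    simp only [Pi.mul_apply, Pi.natCast_apply] at h1
    refine mul_left_cancel₀ (show (e i : ℂ) ≠ 0 from Nat.cast_ne_zero.mpr (he0 i).ne') ?_
    linear_combination -h1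
  have hsep : ∀ i j : ι, ∀ g : G, g ≠ 1 → ∀ x y : G, x * g * x⁻¹ ∈ H i → y * g * y⁻¹ ∈ H j →
      i = j := by
    intro i j g hg x y hx hy
    by_contra hij
    have h1 := (H i).orderOf_dvd_natCard hx
    have h2 := (H j).orderOf_dvd_natCard hy
    rw [show x * g * x⁻¹ = MulAut.conj x g from rfl, MulEquiv.orderOf_eq] at h1
    rw [show y * g * y⁻¹ = MulAut.conj y g from rfl, MulEquiv.orderOf_eq] at h2
    exact hg (orderOf_eq_one_iff.mp (Nat.eq_one_of_dvd_coprimes (hcop i j hij) h1 h2))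
  -- orthogonality between different families
  have horth : ∀ i j, i ≠ j → ∀ χ ∈ relChars (K i) ⊥, ∀ φ ∈ relChars (K j) ⊥,
      classInner (f i χ) (f j φ) = 0 := by
    intro i j hij χ hχ φ hφ
    obtain ⟨hχ', hχne⟩ := two_le_card_relChars (hLodd i) hχ
    obtain ⟨hφ', hφne⟩ := two_le_card_relChars (hLodd j) hφ
    set χ' : L i → ℂ := fun x => conj (χ x) with hχ'def
    set φ' : L j → ℂ := fun x => conj (φ x) with hφ'def
    have hc1 : ∀ k, ∀ ξ ∈ relChars (K k) ⊥, conj (ξ 1) = ξ 1 := fun k ξ hξ => by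
      rw [natDeg_spec (hirr k ξ hξ).isCharacter', Complex.conj_natCast]
    have hr1 : indFun (L i) (χ - χ') = f i χ - f i χ' := by
      have h1 := (hf i).rel χ hχ χ' hχ' 1 1 (by simp [hχ'def, hc1 i χ hχ])
      simpa only [one_smul] using h1
    have hr2 : indFun (L j) (φ - φ') = f j φ - f j φ' := by
      have h1 := (hf j).rel φ hφ φ' hφ' 1 1 (by simp [hφ'def, hc1 j φ hφ])
      simpa only [one_smul] using h1
    have hv1 : ∀ g, (∀ x : G, x * g * x⁻¹ ∉ H i) → (f i χ - f i χ') g = 0 := fun g hg => by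
      rw [← hr1, indFun_eq_zero_of_forall
        (fun x hx => by simp [hvanK i χ hχ x hx, hvanK i χ' hχ' x hx]) hg]
    have hv2 : ∀ g, (∀ x : G, x * g * x⁻¹ ∉ H j) → (f j φ - f j φ') g = 0 := fun g hg => by
      rw [← hr2, indFun_eq_zero_of_forall
        (fun x hx => by simp [hvanK j φ hφ x hx, hvanK j φ' hφ' x hx]) hg]
    have h11 : (f i χ - f i χ') 1 = 0 := by
      rw [← hr1, indFun_one_apply]; simp [hχ'def, hc1 i χ hχ]
    have h21 : (f j φ - f j φ') 1 = 0 := by
      rw [← hr2, indFun_one_apply]; simp [hφ'def, hc1 j φ hφ]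
    have hd : classInner (f i χ - f i χ') (f j φ - f j φ') = 0 := by
      unfold classInner
      rw [Finset.sum_eq_zero fun g _ => ?_, mul_zero]
      rcases eq_or_ne g 1 with rfl | hg
      · rw [h11, zero_mul]
      by_cases hgi : ∃ x : G, x * g * x⁻¹ ∈ H i
      · obtain ⟨x, hx⟩ := hgi
        rw [hv2 g fun y hy => hij (hsep i j g hg x y hx hy), map_zero, mul_zero]
      · rw [hv1 g (not_exists.mp hgi), zero_mul]
    refine orth_of_pairs (hgen i χ hχ) (hgen j φ hφ) (hnorm i χ hχ) (hnorm j φ hφ) (hnorm i χ' hχ')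
      (hnorm j φ' hφ') (hgen i χ' hχ') (hgen j φ' hφ') ?_ ?_ hd (sub_eq_zero.mp h11)
      (sub_eq_zero.mp h21)
    · rw [(hf i).inner χ hχ χ' hχ', irr_inner_ne (hirr i χ hχ) (hirr i χ' hχ') hχne.symm]
    · rw [(hf j).inner φ hφ φ' hφ', irr_inner_ne (hirr j φ hφ) (hirr j φ' hφ') hφne.symm]
  have hmult : ∀ j, ∀ θ : G → ℂ, IsGeneralizedCharacter G θ → ∀ χ ∈ relChars (K j) ⊥,
      (e j : ℂ) * classInner (fun x : L j => θ x) χ - χ 1 * classInner (fun x : L j => θ x) (a j) =
        (e j : ℂ) * classInner θ (f j χ) - χ 1 * classInner θ (f j (a j)) := by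
    intro j θ hθ χ hχ
    have h1 : classInner θ (indFun (L j) (al j χ)) =
        classInner (fun x : L j => θ x) (al j χ) := by
      rw [← inner_conj_symm, frobenius _ _ (isGenChar_classFunction hθ), inner_conj_symm]
    rw [hrel j χ hχ, hal, inner_sub_right, inner_sub_right, inner_zsmul_right, inner_zsmul_right,
      inner_zsmul_right, inner_zsmul_right, Int.cast_natCast, Int.cast_natCast] at h1
    rw [natDeg_spec (hirr j χ hχ).isCharacter']
    exact h1.symm
  have hconst : ∀ θ : G → ℂ, IsGeneralizedCharacter G θ → ∀ j,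
      (∀ χ ∈ relChars (K j) ⊥, classInner θ (f j χ) = 0) →
        ∃ v : ℤ, ∀ x ∈ K j, x ≠ 1 → θ x = (v : ℂ) := by
    intro θ hθ j hz
    obtain ⟨v, hv⟩ := kernel_value (hC j) (isGenChar_restrict' hθ (L j)) (ha j) 0 fun χ hχ => by
      rw [hmult j θ hθ χ hχ, hz χ hχ, hz _ (ha j)]; simp
    exact ⟨v, fun x hx hx1 => by rw [hv x hx hx1]; simp⟩
  -- every nonprincipal irreducible is exceptional
  have hexh : ∀ ψ : IrrCharacter G, (ψ : G → ℂ) ≠ (fun _ => 1) →
      ∃ i, ∃ χ ∈ relChars (K i) ⊥, classInner (ψ : G → ℂ) (f i χ) ≠ 0 := by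
    intro ψ hψ
    by_contra hcon
    push Not at hcon
    refine hψ (real_irr_odd hodd ψ fun g => ?_)
    rcases eq_or_ne g 1 with rfl | hg
    · rw [natDeg_spec ψ.2.isCharacter', Complex.natCast_im]
    obtain ⟨i, x, hx⟩ := hcover g hg
    obtain ⟨v, hv⟩ := hconst _ (isGenChar_of_isCharacter ψ.2.isCharacter') i (hcon i)
    rw [← isCharacter_classFunction ψ.2.isCharacter' g x,
      hv ⟨x * g * x⁻¹, hHL i hx⟩ hx fun e => hg (conj_eq_one_iff.mp (congrArg Subtype.val e)),
      Complex.intCast_im]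
  have hpick : ∀ i, ∀ χ ∈ relChars (K i) ⊥, ∃ ψ : IrrCharacter G,
      f i χ = (ψ : G → ℂ) ∨ f i χ = -(ψ : G → ℂ) := fun i χ hχ => by
    rcases genChar_norm_one (hgen i χ hχ) (hnorm i χ hχ) with h1 | h1
    · exact ⟨⟨_, h1⟩, .inl rfl⟩
    · exact ⟨⟨_, h1⟩, .inr (neg_neg _).symm⟩
  choose pick hpick using hpick
  have hpne : ∀ i χ hχ, (pick i χ hχ : G → ℂ) ≠ fun _ => 1 := by
    intro i χ hχ e1
    obtain ⟨hχ', hχne⟩ := two_le_card_relChars (hLodd i) hχ
    set χ' : L i → ℂ := fun x => conj (χ x) with hχ'def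
    have hc1 : conj (χ 1) = χ 1 := by rw [natDeg_spec (hirr i χ hχ).isCharacter', Complex.conj_natCast]
    have h1 := (hf i).rel χ hχ χ' hχ' 1 1 (by simp [hχ'def, hc1])
    simp only [one_smul] at h1
    have h2 : classInner (fun _ : G => (1 : ℂ)) (indFun (L i) (χ - χ')) = 0 := by
      rw [← inner_conj_symm, frobenius _ _ (fun g x => rfl), inner_sub_left,
        irr_inner_ne (hirr i χ hχ) isIrrCharacter_one ?_,
        irr_inner_ne (hirr i χ' hχ') isIrrCharacter_one ?_]
      · simp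
      · obtain ⟨-, ⟨k, -, hk⟩, -⟩ := mem_relChars.mp hχ'; intro e; exact hk (by rw [e])
      · obtain ⟨-, ⟨k, -, hk⟩, -⟩ := mem_relChars.mp hχ; intro e; exact hk (by rw [e])
    rw [h1, inner_sub_right] at h2
    have h3 : classInner (f i χ) (f i χ') = 0 := by
      rw [(hf i).inner χ hχ χ' hχ', irr_inner_ne (hirr i χ hχ) (hirr i χ' hχ') hχne.symm]
    rcases hpick i χ hχ with hp | hp
    · rw [hp, e1] at h3
      rw [hp, e1, h3, irr_inner_self isIrrCharacter_one, sub_zero] at h2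
      exact one_ne_zero h2
    · rw [hp, e1, inner_neg_left, neg_eq_zero] at h3
      rw [hp, e1, inner_neg_right, h3, irr_inner_self isIrrCharacter_one, sub_zero, neg_eq_zero] at h2
      exact one_ne_zero h2
  have hsum : ∀ F : (G → ℂ) → ℂ, (∀ θ, F (-θ) = F θ) →
      ∑ ψ : IrrCharacter G, F ψ = F (fun _ => 1) + ∑ i, ∑ χ ∈ relChars (K i) ⊥, F (f i χ) := by
    intro F hF
    rw [← Finset.add_sum_erase _ _ (Finset.mem_univ (⟨_, isIrrCharacter_one⟩ : IrrCharacter G))]
    congr 1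
    rw [Finset.sum_sigma']
    symm
    refine Finset.sum_bij (fun p hp => pick p.1 p.2 (Finset.mem_sigma.mp hp).2) ?_ ?_ ?_ ?_
    · intro p hp
      exact Finset.mem_erase.mpr ⟨fun e => hpne _ _ _ (congrArg Subtype.val e), Finset.mem_univ _⟩
    · rintro ⟨i, χ⟩ hp ⟨j, φ⟩ hp' heq
      have hχ := (Finset.mem_sigma.mp hp).2
      have hφ := (Finset.mem_sigma.mp hp').2
      simp only at heq hχ hφ
      have h1 : classInner (f i χ) (f j φ) ≠ 0 := by
        rcases hpick i χ hχ with a1 | a1 <;> rcases hpick j φ hφ with a2 | a2 <;>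
          simp [a1, a2, heq, inner_neg_left, inner_neg_right, irr_inner_self (pick j φ hφ).2]
      by_cases hij : i = j
      · subst hij
        by_cases hχφ : χ = φ
        · rw [hχφ]
        · exact absurd ((hf i).inner χ hχ φ hφ ▸ irr_inner_ne (hirr i χ hχ) (hirr i φ hφ) hχφ) h1
      · exact absurd (horth i j hij χ hχ φ hφ) h1
    · intro ψ hψ
      obtain ⟨i, χ, hχ, hne'⟩ := hexh ψ fun e => (Finset.mem_erase.mp hψ).1 (Subtype.ext e)
      refine ⟨⟨i, χ⟩, Finset.mem_sigma.mpr ⟨Finset.mem_univ _, hχ⟩, Subtype.ext ?_⟩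
      by_contra hψne
      refine hne' ?_
      have h1 := irr_inner_ne ψ.2 (pick i χ hχ).2 (Ne.symm hψne)
      rcases hpick i χ hχ with a1 | a1 <;> simp [a1, inner_neg_right, h1]
    · intro p hp
      rcases hpick p.1 p.2 (Finset.mem_sigma.mp hp).2 with a1 | a1 <;> rw [a1]
      exact hF _
  -- values
  have hval : ∀ i j, ∃ v : ℤ, ∀ x ∈ K j, x ≠ 1 →
      f i (a i) x = (if i = j then a j x else 0) + (v : ℂ) := by
    intro i j
    by_cases hij : i = j
    · subst hij
      obtain ⟨v, hv⟩ := kernel_value (hC i) (isGenChar_restrict' (hgen i _ (ha i)) (L i)) (ha i) 1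
        fun χ hχ => by
          rw [hmult i _ (hgen i _ (ha i)) χ hχ, (hf i).inner _ (ha i) χ hχ,
            (hf i).inner _ (ha i) _ (ha i), irr_inner_self (hirr i _ (ha i))]
          by_cases hχa : χ = a i
          · subst hχa; rw [irr_inner_self (hirr i _ hχ), if_pos rfl]; simp [he]
          · rw [irr_inner_ne (hirr i _ (ha i)) (hirr i χ hχ) (Ne.symm hχa), if_neg hχa]; simp
      exact ⟨v, fun x hx hx1 => by rw [hv x hx hx1, if_pos rfl]; simp⟩
    · obtain ⟨v, hv⟩ := hconst _ (hgen i _ (ha i)) j fun φ hφ => horth i j hij _ (ha i) φ hφ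
      exact ⟨v, fun x hx hx1 => by rw [hv x hx hx1, if_neg hij, zero_add]⟩
  choose v hv using hval
  have hvin : ∀ i, ∀ χ ∈ relChars (K i) ⊥, ∀ x ∈ K i, x ≠ 1 →
      f i χ x = χ x + (r i χ : ℂ) * (v i i : ℂ) := fun i χ hχ x hx hx1 => by
    have h1 := hkin i χ hχ x hx hx1
    rw [hv i i x hx hx1, if_pos rfl] at h1
    linear_combination h1
  have hvoff : ∀ i j, i ≠ j → ∀ χ ∈ relChars (K i) ⊥, ∀ x ∈ K j, x ≠ 1 →
      f i χ x = (r i χ : ℂ) * (v i j : ℂ) := fun i j hij χ hχ x hx hx1 => by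
    rw [hout i χ hχ x fun y hy => hij (hsep i j x (fun e => hx1 (Subtype.ext e)) y 1 hy
      (by simpa using Subgroup.mem_subgroupOf.mp hx)), hv i j x hx hx1, if_neg hij, zero_add]
  have hxex : ∀ i, ∃ x ∈ K i, x ≠ 1 := fun i => by
    by_contra hcon
    push Not at hcon
    exact hKne i ((Subgroup.eq_bot_iff_forall _).mpr hcon)
  have hsr : ∀ k, ∑ χ ∈ relChars (K k) ⊥, (r k χ : ℂ) * (r k χ : ℂ) = (s k : ℂ) := fun k => by
    rw [← hsumr k]; push_cast; simp [sq]
  -- column bound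
  have hcol : ∀ i, 1 + ∑ k ∈ Finset.univ.erase i, v k i ^ 2 * (s k : ℤ) ≤ (e i : ℤ) := by
    intro i
    obtain ⟨x, hx, hx1⟩ := hxex i
    have h1 := hsum (fun θ => θ x * conj (θ x)) (fun θ => by simp)
    rw [column_orth_conj (IsConj.refl (x : G)), ← Finset.add_sum_erase _ _ (Finset.mem_univ i)] at h1
    have hCeq : Nat.card (Subgroup.centralizer ({(x : G)} : Set G)) =
        Nat.card (Subgroup.centralizer ({x} : Set (L i))) := by
      refine Nat.card_congr
        { toFun := fun y => ⟨⟨y, hHL i (hCG i x (Subgroup.mem_subgroupOf.mp hx)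
              (fun e => hx1 (Subtype.ext e)) y.2)⟩, Subgroup.mem_centralizer_singleton_iff.mpr
              (Subtype.ext (Subgroup.mem_centralizer_singleton_iff.mp y.2))⟩
          invFun := fun y => ⟨y.1, Subgroup.mem_centralizer_singleton_iff.mpr
            (congrArg Subtype.val (Subgroup.mem_centralizer_singleton_iff.mp y.2))⟩
          left_inv := fun _ => rfl
          right_inv := fun _ => rfl }
    obtain ⟨hsum1, hsum2⟩ := relChars_sum_mul (hC i) hx hx1
    have hm1 : ∑ χ ∈ relChars (K i) ⊥, (r i χ : ℂ) * χ x = -1 := by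
      refine mul_left_cancel₀ (show (e i : ℂ) ≠ 0 from Nat.cast_ne_zero.mpr (he0 i).ne') ?_
      rw [Finset.mul_sum, mul_neg_one, ← hsum1]
      exact Finset.sum_congr rfl fun χ hχ => by rw [hdeg i χ hχ]; ring
    have hm2 : ∑ χ ∈ relChars (K i) ⊥, (r i χ : ℂ) * conj (χ x) = -1 := by
      have := congrArg conj hm1
      simpa [map_sum] using this
    have hsame : ∑ χ ∈ relChars (K i) ⊥, f i χ x * conj (f i χ x) =
        (Nat.card (Subgroup.centralizer ({x} : Set (L i))) : ℂ) - e i - 2 * (v i i : ℂ) +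
          (v i i : ℂ) ^ 2 * (s i : ℂ) := by
      rw [Finset.sum_congr rfl (g := fun χ => χ x * conj (χ x) +
        (v i i : ℂ) * ((r i χ : ℂ) * χ x) + (v i i : ℂ) * ((r i χ : ℂ) * conj (χ x)) +
          (v i i : ℂ) ^ 2 * ((r i χ : ℂ) * (r i χ : ℂ))) fun χ hχ => by
        rw [hvin i χ hχ x hx hx1]; simp; ring]
      rw [Finset.sum_add_distrib, Finset.sum_add_distrib, Finset.sum_add_distrib, ← Finset.mul_sum,
        ← Finset.mul_sum, ← Finset.mul_sum, hm1, hm2, hsum2, hsr]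
      ring
    have hoth : ∀ k ∈ Finset.univ.erase i, ∑ χ ∈ relChars (K k) ⊥, f k χ x * conj (f k χ x) =
        (v k i : ℂ) ^ 2 * (s k : ℂ) := fun k hk => by
      rw [← hsr k, Finset.mul_sum]
      refine Finset.sum_congr rfl fun χ hχ => ?_
      rw [hvoff k i (Finset.mem_erase.mp hk).1 χ hχ x hx hx1]
      simp; ring
    rw [hsame, Finset.sum_congr rfl hoth, hCeq] at h1
    simp only [map_one, mul_one] at h1
    have h2 : ((1 + ∑ k ∈ Finset.univ.erase i, v k i ^ 2 * (s k : ℤ) : ℤ) : ℂ) =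
        (((e i : ℤ) + 2 * v i i - v i i ^ 2 * (s i : ℤ) : ℤ) : ℂ) := by
      push_cast
      linear_combination -h1
    rw [Int.cast_inj] at h2
    have h3 : 2 * v i i ≤ v i i ^ 2 * (s i : ℤ) := by
      have h4 : (2 : ℤ) ≤ (s i : ℤ) := by exact_mod_cast hs2 i
      have h5 : v i i ≤ v i i ^ 2 := Int.le_self_sq _
      nlinarith [sq_nonneg (v i i)]
    omega
  -- parity
  have hpar : ∀ i j, i ≠ j → v i j ≠ 0 ∨ v j i ≠ 0 := by
    intro i j hij
    by_contra hcon
    push Not at hcon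
    obtain ⟨x, hx, hx1⟩ := hxex i
    obtain ⟨y, hy, hy1⟩ := hxex j
    have hnc : ¬ IsConj (x : G) (y : G) := by
      intro hc
      obtain ⟨z, hz⟩ := isConj_iff.mp hc
      exact hij (hsep i j x (fun e => hx1 (Subtype.ext e)) 1 z
        (by simpa using Subgroup.mem_subgroupOf.mp hx) (hz ▸ Subgroup.mem_subgroupOf.mp hy))
    have h1 := hsum (fun θ => θ x * conj (θ y)) (fun θ => by simp)
    rw [column_orth_not_conj hnc] at h1
    have hk : ∀ k, ∃ z : ℂ, IsIntegral ℤ z ∧
        ∑ χ ∈ relChars (K k) ⊥, f k χ x * conj (f k χ y) = 2 * z := by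
      intro k
      rcases eq_or_ne k i with rfl | hki
      · refine ⟨0, isIntegral_zero, ?_⟩
        rw [mul_zero]
        refine Finset.sum_eq_zero fun χ hχ => ?_
        rw [hvoff k j hij χ hχ y hy hy1, hcon.1]; simp
      rcases eq_or_ne k j with rfl | hkj
      · refine ⟨0, isIntegral_zero, ?_⟩
        rw [mul_zero]
        refine Finset.sum_eq_zero fun χ hχ => ?_
        rw [hvoff k i (Ne.symm hij) χ hχ x hx hx1, hcon.2]; simp
      obtain ⟨m, hm⟩ := hseven k
      refine ⟨((v k i * v k j * (m : ℤ) : ℤ) : ℂ), isIntegral_algebraMap, ?_⟩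
      rw [Finset.sum_congr rfl (g := fun χ => ((v k i : ℂ) * (v k j : ℂ)) *
        ((r k χ : ℂ) * (r k χ : ℂ))) fun χ hχ => by
          rw [hvoff k i hki χ hχ x hx hx1, hvoff k j hkj χ hχ y hy hy1]; simp; ring,
        ← Finset.mul_sum, hsr, hm]
      push_cast; ring
    choose z hzint hz using hk
    simp only [map_one, mul_one, hz, ← Finset.mul_sum] at h1
    have hint : IsIntegral ℤ ((-1 / 2 : ℚ) : ℂ) := by
      have : ((-1 / 2 : ℚ) : ℂ) = ∑ k, z k := by push_cast; linear_combination (1 / 2 : ℂ) * h1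
      rw [this]
      exact IsIntegral.sum _ fun k _ => hzint k
    obtain ⟨n, hn⟩ := int_of_isIntegral_rat _ hint
    have : (2 * n : ℚ) = -1 := by rw [hn]; norm_num
    have : 2 * n = -1 := by exact_mod_cast this
    omega
  -- mass bound
  set uu : ι → ℝ := fun k => ((h k : ℝ) - 1) / ((e k : ℝ) * h k) with huu
  have hepos : ∀ k, (0 : ℝ) < e k := fun k => Nat.cast_pos.mpr (he0 k)
  have hhpos : ∀ k, (0 : ℝ) < h k := fun k => Nat.cast_pos.mpr Nat.card_pos
  have hNpos : (0 : ℝ) < Nat.card G := Nat.cast_pos.mpr Nat.card_pos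
  have hidx : ∀ k, ((L k).index : ℝ) * ((h k : ℝ) - 1) = (Nat.card G : ℝ) * uu k := fun k => by
    rw [huu, hcardL k]
    have := hepos k
    have := hhpos k
    push_cast
    field_simp
  have hkc : ∀ k, ((kSet (K k)).card : ℝ) = (h k : ℝ) - 1 := fun k => by
    have h1 := card_kSet (K := K k)
    rw [hcardK k] at h1
    rw [eq_sub_iff_add_eq]
    exact_mod_cast h1
  have hmass : ∀ i, ∑ k ∈ Finset.univ.erase i, (v i k : ℝ) ^ 2 * uu k < (e i : ℝ) / h i := by
    intro i
    set θ := f i (a i) with hθ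
    have h1 := sum_cover L H hHL hTI hHn hcop hcover (fun g => ‖θ g‖ ^ 2)
      (fun x g => by show ‖θ (x * g * x⁻¹)‖ ^ 2 = ‖θ g‖ ^ 2; rw [hθ, hcls i _ (ha i) g x])
    have h2 : ∑ g, ‖θ g‖ ^ 2 = (Nat.card G : ℝ) := by
      have h := hnorm i _ (ha i)
      rw [inner_self_eq_norm_sq] at h
      have h' : (Nat.card G : ℝ)⁻¹ * ∑ g, ‖θ g‖ ^ 2 = 1 := by exact_mod_cast h
      rwa [inv_mul_eq_iff_eq_mul₀ hNpos.ne', mul_one] at h'
    have h3 : 0 < ‖θ 1‖ ^ 2 := by
      refine pow_pos (norm_pos_iff.mpr fun e1 => ?_) 2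
      rcases genChar_norm_one (hgen i _ (ha i)) (hnorm i _ (ha i)) with h | h
      · exact irr_apply_one_ne_zero h e1
      · exact irr_apply_one_ne_zero h (by rw [Pi.neg_apply]; simp [hθ ▸ e1])
    have h4 : (e i : ℝ) * h i - (e i : ℝ) ^ 2 ≤ ∑ x ∈ kSet (K i), ‖θ x‖ ^ 2 := by
      rw [Finset.sum_congr rfl (g := fun x => ‖a i x + (v i i : ℂ)‖ ^ 2) fun x hx => by
        rw [hθ, hv i i x (mem_kSet.mp hx).1 (mem_kSet.mp hx).2, if_pos rfl]]
      rw [show h i = Nat.card (K i) from (hcardK i).symm]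
      exact kernel_norm_ge (hC i) (ha i) (hda i) (hcardK i ▸ hh2 i) _
    have h5 : ∀ k ∈ Finset.univ.erase i,
        (L k).index • ∑ x ∈ kSet (K k), ‖θ x‖ ^ 2 = (Nat.card G : ℝ) * ((v i k : ℝ) ^ 2 * uu k) := by
      intro k hk
      rw [Finset.sum_congr rfl (g := fun _ => (v i k : ℝ) ^ 2) fun x hx => by
        rw [hθ, hv i k x (mem_kSet.mp hx).1 (mem_kSet.mp hx).2, if_neg (Finset.mem_erase.mp hk).1.symm,
          zero_add, Complex.norm_intCast, sq_abs], Finset.sum_const, nsmul_eq_mul, nsmul_eq_mul,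
        hkc k, ← mul_assoc, hidx k]
      ring
    rw [h2, ← Finset.add_sum_erase _ _ (Finset.mem_univ i)] at h1
    rw [Finset.sum_congr rfl h5, ← Finset.mul_sum, nsmul_eq_mul] at h1
    have h6 : ((L i).index : ℝ) * ((e i : ℝ) * h i - (e i : ℝ) ^ 2) =
        (Nat.card G : ℝ) - (Nat.card G : ℝ) * ((e i : ℝ) / h i) := by
      rw [hcardL i]
      have := hepos i
      have := hhpos i
      push_cast
      field_simp
    have h7 := mul_le_mul_of_nonneg_left h4 (Nat.cast_nonneg (α := ℝ) (L i).index)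
    refine lt_of_mul_lt_mul_left ?_ hNpos.le
    linarith
  have htot : ∑ k, uu k = 1 - 1 / (Nat.card G : ℝ) := by
    have h1 := sum_cover L H hHL hTI hHn hcop hcover (fun _ => (1 : ℝ)) (fun _ _ => rfl)
    simp only [Finset.sum_const, Finset.card_univ, nsmul_eq_mul, mul_one] at h1
    rw [← Nat.card_eq_fintype_card] at h1
    rw [Finset.sum_congr rfl (g := fun k => (Nat.card G : ℝ) * uu k) fun k _ => by
      rw [hkc k, hidx k], ← Finset.mul_sum] at h1
    field_simp
    linarith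
  -- the smallest kernel
  haveI : Nonempty ι := Fintype.card_pos_iff.mp (show 0 < Fintype.card ι by omega)
  obtain ⟨o, -, hmin⟩ := Finset.exists_min_image (Finset.univ : Finset ι) h Finset.univ_nonempty
  have hlarge : ∀ k, k ≠ o → h o + 2 ≤ h k := fun k hk => by
    have h1 := hmin k (Finset.mem_univ k)
    have h2 : h o ≠ h k := fun e1 => by
      have h3 := hcop o k (Ne.symm hk)
      change Nat.Coprime (h o) (h k) at h3
      rw [← e1, Nat.coprime_self] at h3
      exact absurd (hh2 o) (by rw [h3]; have := he0 o; omega)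
    obtain ⟨m, hm⟩ := hhodd o
    obtain ⟨n, hn⟩ := hhodd k
    omega
  obtain ⟨k₁, hk₁⟩ := Fintype.exists_ne_of_one_lt_card (α := ι) hι o
  have hNbig : (h o : ℝ) * ((h o : ℝ) + 2) ≤ (Nat.card G : ℝ) := by
    have hd : h o * h k₁ ∣ Nat.card G := (hcop o k₁ hk₁.symm).mul_dvd_of_dvd_of_dvd
      (H o).card_subgroup_dvd_card (H k₁).card_subgroup_dvd_card
    have h1 : h o * (h o + 2) ≤ Nat.card G :=
      (Nat.mul_le_mul_left _ (hlarge k₁ hk₁)).trans (Nat.le_of_dvd Nat.card_pos hd)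
    exact_mod_cast h1
  have hu0 : ∀ k, 0 ≤ uu k := fun k => div_nonneg
    (by have : (1 : ℝ) ≤ h k := Nat.one_le_cast.mpr Nat.card_pos; linarith)
    (mul_nonneg (hepos k).le (hhpos k).le)
  set A := (Finset.univ.erase o).filter (fun k => v o k ≠ 0) with hA
  set B := (Finset.univ.erase o).filter (fun k => ¬ v o k ≠ 0) with hB
  have hAb : ∑ k ∈ A, uu k < (e o : ℝ) / h o := by
    refine lt_of_le_of_lt ?_ (hmass o)
    refine le_trans (Finset.sum_le_sum fun k hk => ?_) (Finset.sum_le_sum_of_subset_of_nonneg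
      (Finset.filter_subset _ _) fun k _ _ => mul_nonneg (sq_nonneg _) (hu0 k))
    refine le_mul_of_one_le_left (hu0 k) ?_
    rw [← sq_abs, ← Int.cast_abs]
    exact one_le_pow₀ (by exact_mod_cast Int.one_le_abs (Finset.mem_filter.mp hk).2)
  have hBb : ∑ k ∈ B, uu k ≤ ((e o : ℝ) - 1) / ((h o : ℝ) + 2) := by
    rw [le_div_iff₀ (by positivity), Finset.sum_mul]
    have h1 : ∑ k ∈ B, (s k : ℤ) ≤ (e o : ℤ) - 1 := by
      refine le_trans ?_ (le_sub_iff_add_le'.mpr (hcol o))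
      refine le_trans (Finset.sum_le_sum fun k hk => ?_) (Finset.sum_le_sum_of_subset_of_nonneg
        (Finset.filter_subset _ _) fun k _ _ => mul_nonneg (sq_nonneg _) (Nat.cast_nonneg _))
      have hk' := Finset.mem_filter.mp hk
      have hne0 : v k o ≠ 0 :=
        (hpar o k (Finset.mem_erase.mp hk'.1).1.symm).resolve_left hk'.2
      refine le_mul_of_one_le_left (Nat.cast_nonneg _) ?_
      rw [← sq_abs]
      exact one_le_pow₀ (Int.one_le_abs hne0)
    have h2 : ((∑ k ∈ B, (s k : ℤ) : ℤ) : ℝ) ≤ (((e o : ℤ) - 1 : ℤ) : ℝ) := Int.cast_le.mpr h1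
    push_cast at h2
    refine le_trans (Finset.sum_le_sum fun k hk => ?_) h2
    have hk' := (Finset.mem_erase.mp (Finset.mem_filter.mp hk).1).1
    have h3 : uu k * (h k : ℝ) = (s k : ℝ) := by
      rw [huu]
      have h4 : (h k : ℝ) = (e k : ℝ) * (s k : ℝ) + 1 := by exact_mod_cast hhs k
      have := hepos k
      have := hhpos k
      field_simp
      linarith
    rw [← h3]
    exact mul_le_mul_of_nonneg_left (by exact_mod_cast hlarge k hk') (hu0 k)
  have hsplit : ∑ k, uu k = uu o + (∑ k ∈ A, uu k + ∑ k ∈ B, uu k) := by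
    rw [hA, hB, Finset.sum_filter_add_sum_filter_not, Finset.add_sum_erase _ _ (Finset.mem_univ o)]
  refine cn_arith (e := (e o : ℝ)) (h := (h o : ℝ)) (N := (Nat.card G : ℝ)) ?_ ?_ hNbig ?_
  · exact_mod_cast he3 o
  · exact_mod_cast hh2 o
  · rw [← htot, hsplit]
    show ((h o : ℝ) - 1) / ((e o : ℝ) * h o) + _ < _
    linarith

end CfsgLib.Char
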