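import Cfsg.Agent.Lib.CoreFitting
import Cfsg.Agent.Lib.CoreCoprime
import Cfsg.Agent.Lib.CorePGroup
import Mathlib.GroupTheory.Nilpotent
import Cfsg.Prelude.Def_LieExceptional

/-!
# Groups in which centralisers of nonidentity elements are nilpotent
-/

set_option autoImplicit false
set_option linter.style.haveILetI false
set_option linter.unusedSectionVars false

namespace CfsgLib.CN

open Cfsg
open scoped Pointwise commutatorElement

universe u

variable {G : Type u} [Group G]

/-- In a nilpotent group elements of coprime order commute. -/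
theorem commute_of_coprime_orderOf [Finite G] [Group.IsNilpotent G] :
    ∀ x y : G, (orderOf x).Coprime (orderOf y) → x * y = y * x := by
  refine Group.nilpotent_center_quotient_ind (P := fun X _ _ => Finite X → ∀ x y : X,
    (orderOf x).Coprime (orderOf y) → x * y = y * x) G (fun X _ _ _ x y _ => Subsingleton.elim _ _)
    (fun X _ _ ih hX x y hxy => ?_) inferInstance
  haveI := hX
  have h1 := ih inferInstance (QuotientGroup.mk x) (QuotientGroup.mk y)
    (hxy.coprime_dvd_left (orderOf_map_dvd (QuotientGroup.mk' (Subgroup.center X)) x)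
      |>.coprime_dvd_right (orderOf_map_dvd (QuotientGroup.mk' (Subgroup.center X)) y))
  set c := x * y * x⁻¹ * y⁻¹ with hc
  have hcZ : c ∈ Subgroup.center X := by
    rw [← QuotientGroup.eq_one_iff, hc]
    simp only [QuotientGroup.mk_mul, QuotientGroup.mk_inv, h1]
    group
  have hcomm : ∀ z : X, z * c = c * z := Subgroup.mem_center_iff.mp hcZ
  have hpow : ∀ n : ℕ, x * y ^ n * x⁻¹ = c ^ n * y ^ n := fun n => by
    rw [← conj_pow, show x * y * x⁻¹ = c * y by rw [hc]; group,
      (show Commute c y from (hcomm y).symm).mul_pow]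
  have hy : c ^ orderOf y = 1 := by
    have := hpow (orderOf y)
    rw [pow_orderOf_eq_one, mul_one, mul_inv_cancel, mul_one] at this
    exact this.symm
  have hpowx : ∀ n : ℕ, y * x ^ n * y⁻¹ = (c⁻¹) ^ n * x ^ n := fun n => by
    rw [← conj_pow, show y * x * y⁻¹ = c⁻¹ * x by rw [hc]; group,
      (show Commute c x from (hcomm x).symm).inv_left.mul_pow]
  have hx : c ^ orderOf x = 1 := by
    have := hpowx (orderOf x)
    rw [pow_orderOf_eq_one, mul_one, mul_inv_cancel, mul_one, inv_pow] at this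
    exact inv_eq_one.mp this.symm
  have h2 : c = 1 := orderOf_eq_one_iff.mp (Nat.eq_one_of_dvd_coprimes hxy
    (orderOf_dvd_of_pow_eq_one hx) (orderOf_dvd_of_pow_eq_one hy))
  rw [hc, mul_inv_eq_one, mul_inv_eq_iff_eq_mul] at h2
  exact h2

theorem commute_of_mem_nilpotent [Finite G] {H : Subgroup G} (hH : Group.IsNilpotent H) {x y : G}
    (hx : x ∈ H) (hy : y ∈ H) (hxy : (orderOf x).Coprime (orderOf y)) : x * y = y * x := by
  haveI := hH
  exact congrArg Subtype.val (commute_of_coprime_orderOf (⟨x, hx⟩ : H) ⟨y, hy⟩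
    (by rwa [Subgroup.orderOf_mk, Subgroup.orderOf_mk]))

theorem isNilpotent_of_le {H K : Subgroup G} (hHK : H ≤ K) (hK : Group.IsNilpotent K) :
    Group.IsNilpotent H := by
  haveI := hK
  exact Group.nilpotent_of_mulEquiv (Subgroup.subgroupOfEquivOfLe hHK)

theorem mem_centralizer_of_commute {x y : G} (h : x * y = y * x) :
    x ∈ Subgroup.centralizer ({y} : Set G) :=
  Subgroup.mem_centralizer_singleton_iff.mpr h

/-- In a CN-group commuting with a common element transfers to elements of coprime order. -/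
theorem commute_trans [Finite G] (hCN : Cfsg.IsCNGroup G) {a x y : G} (ha : a ≠ 1)
    (hx : x * a = a * x) (hy : y * a = a * y) (h : (orderOf x).Coprime (orderOf y)) :
    x * y = y * x :=
  commute_of_mem_nilpotent (hCN a ha) (mem_centralizer_of_commute hx)
    (mem_centralizer_of_commute hy) h

theorem orderOf_eq_pow_of_mem [Finite G] {p : ℕ} [Fact p.Prime] {S : Subgroup G}
    (hS : IsPGroup p S) {x : G} (hx : x ∈ S) : ∃ k, orderOf x = p ^ k := by
  obtain ⟨k, hk⟩ := IsPGroup.iff_orderOf.mp hS ⟨x, hx⟩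
  exact ⟨k, by rwa [Subgroup.orderOf_mk] at hk⟩

/-- An element of order prime to `p` commuting with a nonidentity element of a `p`-subgroup
centralises the whole subgroup. -/
theorem commute_pgroup [Finite G] (hCN : Cfsg.IsCNGroup G) {p : ℕ} [Fact p.Prime] {S : Subgroup G}
    (hS : IsPGroup p S) {x y : G} (hx : x ∈ S) (hx1 : x ≠ 1) (hxy : y * x = x * y)
    (hy : (orderOf y).Coprime p) : ∀ s ∈ S, y * s = s * y := by
  haveI : Nontrivial S := ⟨⟨⟨x, hx⟩, 1, fun e => hx1 (congrArg Subtype.val e)⟩⟩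
  obtain ⟨⟨a, haS⟩, ha, ha1⟩ :=
    (Subgroup.center S).bot_or_exists_ne_one.resolve_left
      ((Subgroup.nontrivial_iff_ne_bot _).mp hS.center_nontrivial)
  have hac : ∀ s ∈ S, s * a = a * s := fun s hs =>
    congrArg Subtype.val (Subgroup.mem_center_iff.mp ha ⟨s, hs⟩)
  have ha1' : a ≠ 1 := fun e => ha1 (Subtype.ext e)
  obtain ⟨i, hi⟩ := orderOf_eq_pow_of_mem hS haS
  have hya : y * a = a * y :=
    commute_trans hCN hx1 hxy (hac x hx).symm (hi ▸ hy.pow_right i)
  intro s hs
  obtain ⟨j, hj⟩ := orderOf_eq_pow_of_mem hS hs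
  exact commute_trans hCN ha1' hya (hac s hs) (hj ▸ hy.pow_right j)

/-- A nilpotent subgroup not properly contained in another one. -/
def MaxNil (H : Subgroup G) : Prop :=
  Group.IsNilpotent H ∧ ∀ L : Subgroup G, Group.IsNilpotent L → H ≤ L → L = H

theorem exists_maxNil [Finite G] {N : Subgroup G} (hN : Group.IsNilpotent N) :
    ∃ H, MaxNil H ∧ N ≤ H := by
  obtain ⟨H, hH, hmax⟩ := (Set.toFinite {L : Subgroup G | Group.IsNilpotent L ∧ N ≤ L}).exists_maximal
    ⟨N, hN, le_rfl⟩
  exact ⟨H, ⟨hH.1, fun L hL hle => le_antisymm (hmax ⟨hL, hH.2.trans hle⟩ hle) hle⟩, hH.2⟩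

theorem MaxNil.map [Finite G] {H : Subgroup G} (h : MaxNil H) (g : G) :
    MaxNil (H.map (MulAut.conj g).toMonoidHom) := by
  have hinv : ∀ K : Subgroup G, Group.IsNilpotent K → ∀ e : G ≃* G,
      Group.IsNilpotent (K.map e.toMonoidHom) := fun K hK e => by
    haveI := hK
    exact Group.nilpotent_of_mulEquiv (e.subgroupMap K)
  refine ⟨hinv H h.1 _, fun L hL hle => ?_⟩
  have h1 := h.2 (L.map (MulAut.conj g).symm.toMonoidHom) (hinv L hL _) fun x hx =>
    ⟨MulAut.conj g x, hle ⟨x, hx, rfl⟩, (MulAut.conj g).symm_apply_apply x⟩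
  rw [← h1, Subgroup.map_map]
  have : ((MulAut.conj g).toMonoidHom.comp (MulAut.conj g).symm.toMonoidHom) = MonoidHom.id G :=
    MonoidHom.ext fun x => (MulAut.conj g).apply_symm_apply x
  rw [this, Subgroup.map_id]

variable [Finite G]

/-- A nilpotent subgroup has central elements of every prime order dividing its order. -/
theorem exists_central_prime {H : Subgroup G} (hH : Group.IsNilpotent H) {q : ℕ} [Fact q.Prime]
    (hq : q ∣ Nat.card H) : ∃ z ∈ H, orderOf z = q ∧ ∀ h ∈ H, h * z = z * h := by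
  haveI := hH
  obtain ⟨R⟩ : Nonempty (Sylow q H) := inferInstance
  have hR1 : (R : Subgroup H) ≠ ⊥ := R.ne_bot_of_dvd_card hq
  obtain ⟨c, hc, hc1⟩ := ((R : Subgroup H) ⊓ Subgroup.center H).bot_or_exists_ne_one.resolve_left
    (CfsgLib.Core.nilpotent_inf_center_ne_bot hR1)
  obtain ⟨k, hk⟩ := orderOf_eq_pow_of_mem R.isPGroup' hc.1
  rcases k with _ | k
  · exact absurd (orderOf_eq_one_iff.mp (by rwa [pow_zero] at hk)) hc1
  refine ⟨((c ^ q ^ k : H) : G), (c ^ q ^ k).2, ?_, fun h hh => ?_⟩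
  · rw [Subgroup.orderOf_coe, orderOf_pow_of_dvd (pow_ne_zero _ (Fact.out : q.Prime).ne_zero)
      (hk ▸ pow_dvd_pow q k.le_succ), hk, pow_succ, Nat.mul_div_cancel_left _
      (pow_pos (Fact.out : q.Prime).pos _)]
  · exact congrArg Subtype.val
      (Subgroup.mem_center_iff.mp ((Subgroup.center H).pow_mem hc.2 _) ⟨h, hh⟩)

theorem MaxNil.centralizer_eq (hCN : Cfsg.IsCNGroup G) {H : Subgroup G} (h : MaxNil H) {z : G}
    (hz1 : z ≠ 1) (hz : ∀ x ∈ H, x * z = z * x) : Subgroup.centralizer ({z} : Set G) = H :=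
  h.2 _ (hCN z hz1) fun x hx => mem_centralizer_of_commute (hz x hx)

/-- A maximal nilpotent subgroup contains a Sylow subgroup for each prime dividing its order. -/
theorem MaxNil.exists_sylow (hCN : Cfsg.IsCNGroup G) {H : Subgroup G} (h : MaxNil H) {p : ℕ}
    [hp : Fact p.Prime] (hpd : p ∣ Nat.card H) : ∃ S : Sylow p G, (S : Subgroup G) ≤ H := by
  by_cases hq : ∃ q : ℕ, q.Prime ∧ q ≠ p ∧ q ∣ Nat.card H
  · obtain ⟨q, hqp, hne, hqd⟩ := hq
    haveI := Fact.mk hqp
    obtain ⟨z, -, hzo, hzc⟩ := exists_central_prime h.1 hqd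
    obtain ⟨x, hxH, hxo, -⟩ := exists_central_prime h.1 hpd
    have hpx : IsPGroup p (Subgroup.zpowers x) :=
      IsPGroup.of_card (n := 1) (by rw [Nat.card_zpowers, hxo, pow_one])
    obtain ⟨S, hS⟩ := hpx.exists_le_sylow
    refine ⟨S, fun s hs => ?_⟩
    have hz1 : z ≠ 1 := fun e => hqp.ne_one (by rw [← hzo, e, orderOf_one])
    rw [← h.centralizer_eq hCN hz1 hzc]
    refine mem_centralizer_of_commute (commute_pgroup hCN S.isPGroup' (hS (Subgroup.mem_zpowers x))
      (fun e => hp.out.ne_one (by rw [← hxo, e, orderOf_one])) (hzc x hxH).symm ?_ s hs).symm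
    rw [hzo]; exact (Nat.coprime_primes hqp hp.out).mpr hne
  · push Not at hq
    have hHp : IsPGroup p H := IsPGroup.of_card (Nat.eq_prime_pow_of_unique_prime_dvd
      Nat.card_pos.ne' fun {q} hqp hqd => by_contra fun hne => hq q hqp hne hqd)
    obtain ⟨S, hS⟩ := hHp.exists_le_sylow
    exact ⟨S, (h.2 S (S.isPGroup'.isNilpotent) hS).le⟩

/-- A maximal nilpotent subgroup is a Hall subgroup. -/
theorem MaxNil.coprime_index (hCN : Cfsg.IsCNGroup G) {H : Subgroup G} (h : MaxNil H) :
    (Nat.card H).Coprime H.index := by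
  refine Nat.coprime_of_dvd fun p hp h1 h2 => ?_
  haveI := Fact.mk hp
  obtain ⟨S, hS⟩ := h.exists_sylow hCN h1
  exact S.not_dvd_index (h2.trans (Subgroup.index_dvd_of_le hS))

theorem exists_prime_power_order {x : G} (hx : x ≠ 1) :
    ∃ (p : ℕ) (k : ℕ), p.Prime ∧ orderOf (x ^ k) = p := by
  obtain ⟨p, hp, hd⟩ := Nat.exists_prime_and_dvd (fun e => hx (orderOf_eq_one_iff.mp e))
  refine ⟨p, orderOf x / p, hp, ?_⟩
  rw [orderOf_pow_of_dvd (Nat.div_pos (Nat.le_of_dvd (orderOf_pos x) hd) hp.pos).ne'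
    (Nat.div_dvd_of_dvd hd), Nat.div_div_self hd (orderOf_pos x).ne']

/-- Subgroups whose Sylow elements lie in `H` are contained in `H`. -/
theorem le_of_primePower {W H : Subgroup G}
    (h : ∀ (p : ℕ), p.Prime → ∀ t ∈ W, (∃ k, orderOf t = p ^ k) → t ∈ H) : W ≤ H := by
  have htop : H.subgroupOf W = ⊤ := CfsgLib.Core.eq_top_of_sylow_le fun p hp =>
    ⟨default, fun t ht => Subgroup.mem_subgroupOf.mpr (h p hp.out t t.2 (by
      obtain ⟨k, hk⟩ := orderOf_eq_pow_of_mem (default : Sylow p W).isPGroup' ht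
      exact ⟨k, by rw [Subgroup.orderOf_coe, hk]⟩))⟩
  exact fun t ht => Subgroup.mem_subgroupOf.mp (htop ▸ Subgroup.mem_top (⟨t, ht⟩ : W))

/-- Centralisers inside a maximal nilpotent subgroup with two prime divisors. -/
theorem MaxNil.centralizer_le_of_two (hCN : Cfsg.IsCNGroup G) {H : Subgroup G} (h : MaxNil H)
    (h2 : ¬ IsPrimePow (Nat.card H)) : ∀ x ∈ H, x ≠ 1 → Subgroup.centralizer ({x} : Set G) ≤ H := by
  intro x hx hx1
  obtain ⟨q, k, hq, hwo⟩ := exists_prime_power_order hx1
  set w := x ^ k with hw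
  have hw1 : w ≠ 1 := fun e => hq.ne_one (by rw [← hwo, e, orderOf_one])
  have hle : Subgroup.centralizer ({x} : Set G) ≤ Subgroup.centralizer ({w} : Set G) := fun c hc => by
    rw [Subgroup.mem_centralizer_singleton_iff] at hc ⊢
    exact (Commute.pow_right hc k).eq
  refine hle.trans (le_of_primePower fun s hs t ht ⟨j, hj⟩ => ?_)
  obtain ⟨r, hr, hrne, hrd⟩ : ∃ r : ℕ, r.Prime ∧ r ≠ s ∧ r ∣ Nat.card H := by
    by_contra hcon
    push Not at hcon
    have hne1 : Nat.card H ≠ 1 := fun e => hx1 (by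
      rw [Subgroup.eq_bot_of_card_eq _ e] at hx
      exact Subgroup.mem_bot.mp hx)
    have hu : ∀ {d : ℕ}, d.Prime → d ∣ Nat.card H → d = s := fun {d} hd hdd =>
      by_contra fun hne => hcon d hd hne hdd
    have hpow := Nat.eq_prime_pow_of_unique_prime_dvd Nat.card_pos.ne' hu
    exact h2 ⟨s, _, hs.prime, Nat.pos_of_ne_zero fun e => hne1 (by rw [hpow, e, pow_zero]), hpow.symm⟩
  haveI := Fact.mk hr
  obtain ⟨b, -, hbo, hbc⟩ := exists_central_prime h.1 hrd
  have hb1 : b ≠ 1 := fun e => hr.ne_one (by rw [← hbo, e, orderOf_one])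
  rw [← h.centralizer_eq hCN hb1 hbc]
  refine mem_centralizer_of_commute (commute_trans hCN hw1
    (Subgroup.mem_centralizer_singleton_iff.mp ht) (hbc w (H.pow_mem hx k)).symm ?_)
  rw [hj, hbo]
  exact ((Nat.coprime_primes hs hr).mpr hrne.symm).pow_left j

/-- Two maximal nilpotent subgroups with a common Sylow subgroup coincide. -/
theorem MaxNil.eq_of_sylow (hCN : Cfsg.IsCNGroup G) {H K : Subgroup G} (hH : MaxNil H)
    (hK : MaxNil K) {r : ℕ} [hr : Fact r.Prime] (R : Sylow r G) (hR : (R : Subgroup G) ≤ H)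
    (hR' : (R : Subgroup G) ≤ K) (hR1 : (R : Subgroup G) ≠ ⊥) : H = K := by
  have hrK : r ∣ Nat.card K := by
    obtain ⟨x, hx, hx1⟩ := (R : Subgroup G).bot_or_exists_ne_one.resolve_left hR1
    obtain ⟨j, hj⟩ := orderOf_eq_pow_of_mem R.isPGroup' hx
    rcases j with _ | j
    · exact absurd (orderOf_eq_one_iff.mp (by rwa [pow_zero] at hj)) hx1
    · exact dvd_trans (dvd_pow_self r (Nat.succ_ne_zero j)) (hj ▸ K.orderOf_dvd_natCard (hR' hx))
  have hmem : ∀ M : Subgroup G, (R : Subgroup G) ≤ M → Group.IsNilpotent M →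
      ∀ t ∈ M, (∃ k, orderOf t = r ^ k) → t ∈ (R : Subgroup G) := by
    intro M hRM hM t ht ⟨k, hk⟩
    haveI := hM
    have ht' : IsPGroup r (Subgroup.zpowers (⟨t, ht⟩ : M)) :=
      IsPGroup.of_card (n := k) (by rw [Nat.card_zpowers, Subgroup.orderOf_mk, hk])
    obtain ⟨Q, hQ⟩ := ht'.exists_le_sylow
    letI := Sylow.unique_of_normal Q inferInstance
    rw [Subsingleton.elim Q (R.subtype hRM)] at hQ
    simpa [Sylow.coe_subtype, Subgroup.mem_subgroupOf] using hQ (Subgroup.mem_zpowers _)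
  obtain ⟨z, hzK, hzo, hzc⟩ := exists_central_prime hK.1 hrK
  have hz1 : z ≠ 1 := fun e => hr.out.ne_one (by rw [← hzo, e, orderOf_one])
  have hzR : z ∈ (R : Subgroup G) := hmem K hR' hK.1 z hzK ⟨1, by rw [pow_one, hzo]⟩
  refine (hH.2 K hK.1 ?_).symm
  refine le_of_primePower fun s hs t ht hts => ?_
  by_cases hsr : s = r
  · subst hsr; exact hR' (hmem H hR hH.1 t ht hts)
  · rw [← hK.centralizer_eq hCN hz1 hzc]
    obtain ⟨j, hj⟩ := hts
    refine mem_centralizer_of_commute (commute_of_mem_nilpotent hH.1 ht (hR hzR) ?_)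
    rw [hj, hzo]
    exact ((Nat.coprime_primes hs hr.out).mpr hsr).pow_left j

/-- Maximal nilpotent subgroups sharing a prime are conjugate. -/
theorem MaxNil.exists_conj (hCN : Cfsg.IsCNGroup G) {H K : Subgroup G} (hH : MaxNil H)
    (hK : MaxNil K) {r : ℕ} [hr : Fact r.Prime] (hrH : r ∣ Nat.card H) (hrK : r ∣ Nat.card K) :
    ∃ g : G, K = H.map (MulAut.conj g).toMonoidHom := by
  obtain ⟨R, hR⟩ := hH.exists_sylow hCN hrH
  obtain ⟨R', hR'⟩ := hK.exists_sylow hCN hrK
  obtain ⟨g, hg⟩ := MulAction.exists_smul_eq G R R'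
  refine ⟨g, ((hH.map g).eq_of_sylow hCN hK R' ?_ hR' ?_).symm⟩
  · rw [← hg, Sylow.coe_subgroup_smul]
    exact Subgroup.map_mono hR
  · exact R'.ne_bot_of_dvd_card (hrK.trans K.card_subgroup_dvd_card)

/-- Trivial intersection for two or more prime divisors. -/
theorem MaxNil.ti_of_two (hCN : Cfsg.IsCNGroup G) {H : Subgroup G} (h : MaxNil H)
    (h2 : ¬ IsPrimePow (Nat.card H)) {g : G}
    (hg : H ⊓ H.map (MulAut.conj g).toMonoidHom ≠ ⊥) : H.map (MulAut.conj g).toMonoidHom = H := by
  obtain ⟨x, ⟨hxH, hxK⟩, hx1⟩ := (H ⊓ H.map (MulAut.conj g).toMonoidHom).bot_or_exists_ne_one.resolve_left hg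
  set K := H.map (MulAut.conj g).toMonoidHom with hK
  have hK2 : ¬ IsPrimePow (Nat.card K) := by
    rwa [hK, Subgroup.card_map_of_injective (MulAut.conj g).injective]
  obtain ⟨q, hq, hqd⟩ := Nat.exists_prime_and_dvd (fun e : Nat.card H = 1 => hx1 (by
    rw [Subgroup.eq_bot_of_card_eq _ e] at hxH
    exact Subgroup.mem_bot.mp hxH))
  haveI := Fact.mk hq
  obtain ⟨b, hbH, hbo, hbc⟩ := exists_central_prime h.1 hqd
  have hb1 : b ≠ 1 := fun e => hq.ne_one (by rw [← hbo, e, orderOf_one])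
  have hbK : b ∈ K := (h.map g).centralizer_le_of_two hCN hK2 x hxK hx1
    (mem_centralizer_of_commute (hbc x hxH).symm)
  have hle : H ≤ K := by
    rw [← h.centralizer_eq hCN hb1 hbc]
    exact (h.map g).centralizer_le_of_two hCN hK2 b hbK hb1
  exact h.2 K (h.map g).1 hle

/-- A trivial intersection maximal nilpotent subgroup contains the centralisers of its elements. -/
theorem MaxNil.centralizer_le_of_ti (hCN : Cfsg.IsCNGroup G) {H : Subgroup G} (h : MaxNil H)
    (hTI : ∀ g : G, H ⊓ H.map (MulAut.conj g).toMonoidHom ≠ ⊥ →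
      H.map (MulAut.conj g).toMonoidHom = H) :
    ∀ x ∈ H, x ≠ 1 → Subgroup.centralizer ({x} : Set G) ≤ H := by
  by_cases h2 : IsPrimePow (Nat.card H)
  swap
  · exact h.centralizer_le_of_two hCN h2
  intro x hx hx1
  obtain ⟨p, n, hp, hn, hpn⟩ := h2
  rw [← Nat.prime_iff] at hp
  haveI := Fact.mk hp
  have hHp : IsPGroup p H := IsPGroup.of_card hpn.symm
  refine le_of_primePower fun s hs t ht ⟨j, hj⟩ => ?_
  rw [Subgroup.mem_centralizer_singleton_iff] at ht
  by_cases hsp : s = p
  · subst hsp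
    have hp2 : IsPGroup s (Subgroup.zpowers t ⊔ Subgroup.zpowers x : Subgroup G) :=
      IsPGroup.to_sup_of_normal_right' (IsPGroup.of_card (n := j) (by rw [Nat.card_zpowers, hj]))
        (hHp.to_le (Subgroup.zpowers_le.mpr hx))
        (Subgroup.zpowers_le.mpr (Subgroup.centralizer_le_normalizer _ (by
          rw [Subgroup.mem_centralizer_iff]
          rintro _ ⟨i, rfl⟩
          exact ((show Commute t x from ht).zpow_right i).eq.symm)))
    obtain ⟨T, hT⟩ := hp2.exists_le_sylow
    obtain ⟨S, hS⟩ := hHp.exists_le_sylow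
    have hSH : (S : Subgroup G) = H := h.2 S S.isPGroup'.isNilpotent hS
    obtain ⟨g, hg⟩ := MulAction.exists_smul_eq G S T
    have hT' : (T : Subgroup G) = H.map (MulAut.conj g).toMonoidHom := by
      rw [← hg, Sylow.coe_subgroup_smul, hSH]; rfl
    have hne : H ⊓ H.map (MulAut.conj g).toMonoidHom ≠ ⊥ := fun e => hx1 (by
      have : x ∈ H ⊓ H.map (MulAut.conj g).toMonoidHom :=
        ⟨hx, hT' ▸ hT (Subgroup.mem_sup_right (Subgroup.mem_zpowers x))⟩
      rwa [e, Subgroup.mem_bot] at this)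
    rw [← hTI g hne, ← hT']
    exact hT (Subgroup.mem_sup_left (Subgroup.mem_zpowers t))
  · obtain ⟨z, hzH, hzo, hzc⟩ := exists_central_prime h.1 (hpn ▸ dvd_pow_self p hn.ne' : p ∣ Nat.card H)
    have hz1 : z ≠ 1 := fun e => hp.ne_one (by rw [← hzo, e, orderOf_one])
    rw [← h.centralizer_eq hCN hz1 hzc]
    refine mem_centralizer_of_commute (commute_pgroup hCN hHp hx hx1 ht ?_ z hzH)
    rw [hj]
    exact ((Nat.coprime_primes hs hp).mpr hsp).pow_left j

/-- The quotient of a CN-group by a normal `p`-subgroup is a CN-group. -/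
theorem isCNGroup_quotient_pgroup (hCN : Cfsg.IsCNGroup G) {p : ℕ} [hp : Fact p.Prime]
    {P : Subgroup G} [P.Normal] (hP : IsPGroup p P) (hP1 : P ≠ ⊥) : Cfsg.IsCNGroup (G ⧸ P) := by
  intro g hg
  obtain ⟨r, k, hr, hwo⟩ := exists_prime_power_order hg
  set wb := g ^ k with hwb
  have hle : Subgroup.centralizer ({g} : Set (G ⧸ P)) ≤ Subgroup.centralizer ({wb} : Set (G ⧸ P)) :=
    fun c hc => by
      rw [Subgroup.mem_centralizer_singleton_iff] at hc ⊢
      exact (Commute.pow_right hc k).eq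
  refine isNilpotent_of_le hle ?_
  haveI := Fact.mk hr
  set π := QuotientGroup.mk' P with hπ
  set Y := (Subgroup.zpowers wb).comap π with hY
  set W := (Subgroup.centralizer ({wb} : Set (G ⧸ P))).comap π with hW
  have hmap : W.map π = Subgroup.centralizer ({wb} : Set (G ⧸ P)) :=
    Subgroup.map_comap_eq_self_of_surjective (QuotientGroup.mk'_surjective P) _
  have hπ1 : ∀ x, π x = 1 ↔ x ∈ P := fun x => QuotientGroup.eq_one_iff x
  have hPY : P ≤ Y := fun x hx => by
    rw [hY, Subgroup.mem_comap, (hπ1 x).mpr hx]; exact Subgroup.one_mem _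
  have hPW : P ≤ W := fun x hx => by
    rw [hW, Subgroup.mem_comap, (hπ1 x).mpr hx]; exact Subgroup.one_mem _
  have hWY : ∀ x ∈ W, ∀ y ∈ Y, x * y * x⁻¹ * y⁻¹ ∈ P := fun x hx y hy => by
    rw [hW, Subgroup.mem_comap, Subgroup.mem_centralizer_singleton_iff] at hx
    obtain ⟨i, hi⟩ := Subgroup.mem_zpowers_iff.mp hy
    rw [← hπ1, map_mul, map_mul, map_mul, map_inv, map_inv, ← hi,
      ((show Commute (π x) wb from hx).zpow_right i).eq]
    group
  have hcardY : Nat.card Y = Nat.card P * r := by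
    have hker : P = π.ker := (QuotientGroup.ker_mk' P).symm
    have h1 := Subgroup.relIndex_mul_relIndex ⊥ P Y bot_le hPY
    rw [Subgroup.relIndex_bot_left, Subgroup.relIndex_bot_left] at h1
    rw [← h1]; congr 1
    rw [hker, Subgroup.relIndex_ker, hY,
      Subgroup.map_comap_eq_self_of_surjective (QuotientGroup.mk'_surjective P), Nat.card_zpowers, hwo]
  rcases eq_or_ne r p with rfl | hrp
  · -- the prime of the normal subgroup: the whole preimage is nilpotent
    have hYp : IsPGroup r Y := by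
      obtain ⟨n, hn⟩ := hP.exists_card_eq
      exact IsPGroup.of_card (n := n + 1) (by rw [hcardY, hn, pow_succ])
    haveI hYnorm : (Y.subgroupOf W).Normal := ⟨fun y hy x => by
      rw [Subgroup.mem_subgroupOf] at hy ⊢
      have h1 := hWY x x.2 y hy
      have h2 : (x : G) * y * (x : G)⁻¹ = ((x : G) * y * (x : G)⁻¹ * (y : G)⁻¹) * y := by group
      show (x : G) * y * (x : G)⁻¹ ∈ Y
      rw [h2]; exact Y.mul_mem (hPY h1) hy⟩
    obtain ⟨T⟩ : Nonempty (Sylow r W) := inferInstance
    set T' := (T : Subgroup W).map W.subtype with hT'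
    have hT'p : IsPGroup r T' := T.isPGroup'.map _
    have hYW : Y ≤ W := fun y hy => by
      obtain ⟨i, hi⟩ := Subgroup.mem_zpowers_iff.mp hy
      rw [hW, Subgroup.mem_comap, Subgroup.mem_centralizer_singleton_iff, ← hi]
      exact ((Commute.refl wb).zpow_left i).eq
    have hYT : Y ≤ T' := by
      have hYT0 : Y.subgroupOf W ≤ T :=
        (hYp.of_equiv (Subgroup.subgroupOfEquivOfLe hYW).symm).le_sylow_of_normal T
      exact fun y hy => ⟨⟨y, hYW hy⟩, hYT0 (Subgroup.mem_subgroupOf.mpr hy), rfl⟩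
    obtain ⟨a, ha, ha1⟩ : ∃ a : G, (a ∈ P ∧ ∀ t ∈ T', t * a = a * t) ∧ a ≠ 1 := by
      haveI : Group.IsNilpotent T' := hT'p.isNilpotent
      have hne : P.subgroupOf T' ≠ ⊥ := fun e => hP1 (by
        have := congrArg (Subgroup.map T'.subtype) e
        rwa [Subgroup.subgroupOf_map_subtype, inf_eq_left.mpr (hPY.trans hYT), Subgroup.map_bot]
          at this)
      haveI : (P.subgroupOf T').Normal := Subgroup.Normal.comap ‹P.Normal› _
      obtain ⟨c, hc, hc1⟩ := (P.subgroupOf T' ⊓ Subgroup.center T').bot_or_exists_ne_one.resolve_left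
        (CfsgLib.Core.nilpotent_inf_center_ne_bot hne)
      exact ⟨c, ⟨Subgroup.mem_subgroupOf.mp hc.1, fun t ht =>
        congrArg Subtype.val (Subgroup.mem_center_iff.mp hc.2 ⟨t, ht⟩)⟩, fun e => hc1 (Subtype.ext e)⟩
    have hWa : W ≤ Subgroup.centralizer ({a} : Set G) := by
      have htop : (Subgroup.centralizer ({a} : Set G)).subgroupOf W = ⊤ := by
        refine CfsgLib.Core.eq_top_of_sylow_le fun s hs => ?_
        by_cases hsr : s = r
        · subst hsr
          exact ⟨T, fun t ht => mem_centralizer_of_commute (ha.2 t ⟨t, ht, rfl⟩)⟩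
        refine ⟨default, fun t ht => ?_⟩
        obtain ⟨j, hj⟩ := orderOf_eq_pow_of_mem (default : Sylow s W).isPGroup' ht
        have hto : orderOf (t : G) = s ^ j := by rw [Subgroup.orderOf_coe, hj]
        obtain ⟨y₀, hy₀, hy₀P⟩ : ∃ y₀ ∈ Y, y₀ ∉ P := by
          by_contra hcon
          push Not at hcon
          have := Subgroup.card_dvd_of_le hcon
          rw [hcardY] at this
          have := Nat.le_of_dvd Nat.card_pos this
          have := Nat.mul_le_mul_left (Nat.card P) (Fact.out : r.Prime).two_le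
          have := Nat.card_pos (α := P)
          omega
        have hcopA : ∀ U : Subgroup G, IsPGroup r U →
            (Nat.card (Subgroup.zpowers (t : G))).Coprime (Nat.card U) := fun U hU => by
          obtain ⟨n, hn⟩ := hU.exists_card_eq
          rw [Nat.card_zpowers, hto, hn]
          exact (((Nat.coprime_primes hs.out hr).mpr hsr).pow_left j).pow_right n
        have hAW : Subgroup.zpowers (t : G) ≤ W := Subgroup.zpowers_le.mpr t.2
        have hAY : Subgroup.zpowers (t : G) ≤ Subgroup.normalizer (Y : Set G) := fun x hx =>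
          Subgroup.mem_normalizer_iff.mpr fun y => by
            have hn : ∀ x ∈ W, ∀ y ∈ Y, x * y * x⁻¹ ∈ Y := fun x hx y hy => by
              have h2 : x * y * x⁻¹ = (x * y * x⁻¹ * y⁻¹) * y := by group
              rw [h2]; exact Y.mul_mem (hPY (hWY x hx y hy)) hy
            refine ⟨hn x (hAW hx) y, fun h => ?_⟩
            have := hn x⁻¹ (W.inv_mem (hAW hx)) _ h
            simpa [mul_assoc] using this
        obtain ⟨c, hc, hcP⟩ := CfsgLib.Core.exists_fixed_of_fixed_mod
          (A := Subgroup.zpowers (t : G)) (K := Y) (N := P) hAY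
          (CfsgLib.Core.inf_eq_bot_of_coprime (hcopA Y hYp)) hPY
          (CfsgLib.Core.le_normalizer_normal _) (CfsgLib.Core.le_normalizer_normal _)
          (hcopA P hP) (.inr (by haveI := hP.isNilpotent; infer_instance)) hy₀
          (fun x hx => hWY x (hAW hx) y₀ hy₀)
        have hc1 : c ≠ 1 := fun e => hy₀P (by
          rw [e, mul_one] at hcP
          simpa using P.inv_mem hcP)
        obtain ⟨i, hi⟩ := orderOf_eq_pow_of_mem hP ha.1
        exact mem_centralizer_of_commute (commute_trans hCN hc1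
          (Subgroup.mem_centralizer_iff.mp hc.2 _ (Subgroup.mem_zpowers (t : G)))
          (ha.2 c (hYT hc.1)).symm (by
            rw [Subgroup.coe_subtype, hto, hi]
            exact (((Nat.coprime_primes hs.out hr).mpr hsr).pow_left j).pow_right i))
      exact fun t ht => Subgroup.mem_subgroupOf.mp (htop ▸ Subgroup.mem_top (⟨t, ht⟩ : W))
    rw [← hmap]
    haveI := isNilpotent_of_le hWa (hCN a ha1)
    exact Group.nilpotent_of_surjective (π.subgroupMap W) (π.subgroupMap_surjective W)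
  · -- a coprime prime: the centraliser lifts
    obtain ⟨w₀, hw₀⟩ := exists_prime_orderOf_dvd_card' (G := Y) r (hcardY ▸ dvd_mul_left r _)
    have hw : orderOf (w₀ : G) = r := by rw [Subgroup.orderOf_coe, hw₀]
    have hcopP : (Nat.card P).Coprime r := by
      obtain ⟨n, hn⟩ := hP.exists_card_eq
      rw [hn]; exact ((Nat.coprime_primes hp.out hr).mpr (Ne.symm hrp)).pow_left n
    have hwP : (w₀ : G) ∉ P := fun h => by
      have h1 := P.orderOf_dvd_natCard h
      rw [hw] at h1
      exact hr.ne_one (Nat.eq_one_of_dvd_coprimes hcopP h1 dvd_rfl)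
    have hw1 : (w₀ : G) ≠ 1 := fun e => hwP (e ▸ P.one_mem)
    set A := Subgroup.zpowers (w₀ : G) with hA
    have hAY : A ≤ Y := Subgroup.zpowers_le.mpr w₀.2
    have hcardA : Nat.card (A.subgroupOf Y) = r := by
      rw [Nat.card_congr (Subgroup.subgroupOfEquivOfLe hAY).toEquiv, hA, Nat.card_zpowers, hw]
    have hWC : W ≤ P ⊔ Subgroup.centralizer ({(w₀ : G)} : Set G) := by
      intro x hx
      have hxY : ∀ y ∈ Y, x * y * x⁻¹ ∈ Y := fun y hy => by
        have h2 : x * y * x⁻¹ = (x * y * x⁻¹ * y⁻¹) * y := by group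
        rw [h2]; exact Y.mul_mem (hPY (hWY x hx y hy)) hy
      set B := A.map (MulAut.conj x).toMonoidHom with hB
      have hBY : B ≤ Y := by
        rintro _ ⟨y, hy, rfl⟩; exact hxY y (hAY hy)
      have hfac : (Nat.card Y).factorization r = 1 := by
        rw [hcardY, Nat.factorization_mul Nat.card_pos.ne' hr.ne_zero, Finsupp.add_apply,
          Nat.factorization_eq_zero_of_not_dvd (fun h => hr.ne_one
            (Nat.eq_one_of_dvd_coprimes hcopP h dvd_rfl)), hr.factorization_self]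
      let SA : Sylow r Y := Sylow.ofCard (A.subgroupOf Y) (by rw [hcardA, hfac, pow_one])
      let SB : Sylow r Y := Sylow.ofCard (B.subgroupOf Y) (by
        rw [Nat.card_congr (Subgroup.subgroupOfEquivOfLe hBY).toEquiv, hB,
          Subgroup.card_map_of_injective (MulAut.conj x).injective,
          ← Nat.card_congr (Subgroup.subgroupOfEquivOfLe hAY).toEquiv, hcardA, hfac, pow_one])
      obtain ⟨⟨v, hv⟩, hvS⟩ := MulAction.exists_smul_eq Y SB SA
      -- split the conjugating element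
      obtain ⟨u, hu, a, ha, huv⟩ : ∃ u ∈ P, ∃ a ∈ A, u * a = v⁻¹ := by
        have hsup : P ⊔ A = Y := by
          refine Subgroup.eq_of_le_of_card_ge (sup_le hPY hAY) ?_
          rw [hcardY]
          refine Nat.le_of_dvd Nat.card_pos
            (hcopP.mul_dvd_of_dvd_of_dvd (Subgroup.card_dvd_of_le le_sup_left) ?_)
          rw [← hw, ← Nat.card_zpowers]
          exact Subgroup.card_dvd_of_le le_sup_right
        have : v⁻¹ ∈ P ⊔ A := hsup ▸ Y.inv_mem hv
        exact Subgroup.mem_sup_of_normal_left.mp this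
      set c := u⁻¹ * x with hc
      have hconjA : c * (w₀ : G) * c⁻¹ ∈ A := by
        have h1 : (⟨x * w₀ * x⁻¹, hxY _ w₀.2⟩ : Y) ∈ (SB : Subgroup Y) :=
          ⟨(w₀ : G), Subgroup.mem_zpowers _, rfl⟩
        have h2 : (⟨v, hv⟩ : Y) * ⟨x * w₀ * x⁻¹, hxY _ w₀.2⟩ * (⟨v, hv⟩ : Y)⁻¹ ∈
            (SA : Subgroup Y) := by
          rw [← hvS, Sylow.coe_subgroup_smul]
          exact Subgroup.smul_mem_pointwise_smul _ (MulAut.conj (⟨v, hv⟩ : Y)) _ h1
        have h3 : v * (x * w₀ * x⁻¹) * v⁻¹ ∈ A := h2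
        have h4 : u⁻¹ = a * v := by
          have : v = a⁻¹ * u⁻¹ := by rw [← mul_inv_rev, huv, inv_inv]
          rw [this]; group
        have h5 : c * (w₀ : G) * c⁻¹ = a * (v * (x * w₀ * x⁻¹) * v⁻¹) * a⁻¹ := by
          rw [hc, h4]; group
        rw [h5]
        exact A.mul_mem (A.mul_mem ha h3) (A.inv_mem ha)
      have hcomm : c * (w₀ : G) * c⁻¹ * (w₀ : G)⁻¹ ∈ P :=
        hWY c (W.mul_mem (W.inv_mem (hPW hu)) hx) _ w₀.2
      have hPA : P ⊓ A = ⊥ := CfsgLib.Core.inf_eq_bot_of_coprime (by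
        rw [hA, Nat.card_zpowers, hw]; exact hcopP)
      have hone : c * (w₀ : G) * c⁻¹ * (w₀ : G)⁻¹ = 1 := by
        have : c * (w₀ : G) * c⁻¹ * (w₀ : G)⁻¹ ∈ P ⊓ A :=
          ⟨hcomm, A.mul_mem hconjA (A.inv_mem (Subgroup.mem_zpowers _))⟩
        rwa [hPA, Subgroup.mem_bot] at this
      rw [mul_inv_eq_one, mul_inv_eq_iff_eq_mul] at hone
      rw [show x = u * c by rw [hc, mul_inv_cancel_left]]
      exact mul_mem (Subgroup.mem_sup_left hu) (Subgroup.mem_sup_right (mem_centralizer_of_commute hone))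
    have hle2 : Subgroup.centralizer ({wb} : Set (G ⧸ P)) ≤
        (Subgroup.centralizer ({(w₀ : G)} : Set G)).map π := by
      have hbot : P.map π = ⊥ := by rw [hπ, Subgroup.map_eq_bot_iff, QuotientGroup.ker_mk']
      rw [← hmap]
      refine (Subgroup.map_mono hWC).trans ?_
      rw [Subgroup.map_sup, hbot, bot_sup_eq]
    refine isNilpotent_of_le hle2 ?_
    haveI := hCN _ hw1
    exact Group.nilpotent_of_surjective (π.subgroupMap _) (π.subgroupMap_surjective _)

/-- The quotient of a CN-group by a soluble normal subgroup is a CN-group. -/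
theorem isCNGroup_quotient (hCN : Cfsg.IsCNGroup G) (H : Subgroup G) [H.Normal]
    (hH : Group.IsSolvable H) : Cfsg.IsCNGroup (G ⧸ H) := by
  suffices key : ∀ n, ∀ (X : Type u) [Group X] [Finite X], Cfsg.IsCNGroup X →
      ∀ (K : Subgroup X) [K.Normal], Group.IsSolvable K → Nat.card K = n → Cfsg.IsCNGroup (X ⧸ K) from
    key _ G hCN H hH rfl
  have hiso : ∀ (X Y : Type u) [Group X] [Group Y], (X ≃* Y) → Cfsg.IsCNGroup X →
      Cfsg.IsCNGroup Y := by
    intro X Y _ _ e hX y hy
    haveI := hX (e.symm y) (by simpa using hy)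
    have : Group.IsNilpotent ((Subgroup.centralizer ({e.symm y} : Set X)).map e.toMonoidHom) :=
      Group.nilpotent_of_mulEquiv (e.subgroupMap _)
    refine isNilpotent_of_le (fun z hz => Subgroup.mem_map.mpr ⟨e.symm z, ?_, e.apply_symm_apply z⟩) this
    rw [Subgroup.mem_centralizer_singleton_iff, ← map_mul, ← map_mul,
      Subgroup.mem_centralizer_singleton_iff.mp hz]
  intro n
  induction n using Nat.strong_induction_on with
  | _ n ih =>
  intro X _ _ hX K _ hK hn
  rcases eq_or_ne K ⊥ with rfl | hK1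
  · exact hiso X _ (QuotientGroup.quotientBot (G := X)).symm hX
  obtain ⟨P, hPn, hP1, hPK, hmin⟩ := CfsgLib.Core.exists_minimal_normal_le hK1
  haveI := hPn
  haveI := hK
  haveI : Group.IsSolvable P :=
    Group.isSolvable_of_isSolvable_injective (Subgroup.inclusion_injective hPK)
  obtain ⟨p, hp, hPp⟩ := CfsgLib.Core.exists_isPGroup_of_minimal_normal hP1 hmin
  haveI := Fact.mk hp
  set K' := K.map (QuotientGroup.mk' P) with hK'
  haveI : K'.Normal := Subgroup.Normal.map ‹_› _ (QuotientGroup.mk'_surjective P)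
  haveI : Group.IsSolvable K' :=
    Group.isSolvable_of_surjective ((QuotientGroup.mk' P).subgroupMap_surjective K)
  have hcard : Nat.card K' * Nat.card P = n := by
    have := CfsgLib.Core.card_map_mk' (N := P) K
    rwa [inf_eq_left.mpr hPK, hn] at this
  have hlt : Nat.card K' < n := by
    rw [← hcard]
    have := Subgroup.one_lt_card_iff_ne_bot P |>.mpr hP1
    exact lt_mul_of_one_lt_right Nat.card_pos this
  exact hiso _ _ (QuotientGroup.quotientQuotientEquivQuotient P K hPK)
    (ih _ hlt (X ⧸ P) (isCNGroup_quotient_pgroup hX hPp hP1) K' inferInstance rfl)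

end CfsgLib.CN
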