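import Cfsg.Agent.Lib.CoreFpfComplement
import Cfsg.Agent.Lib.CoreLayer
import Cfsg.Agent.Lib.StableSeries
import Cfsg.Agent.Lib.LocalFusion
import Mathlib.GroupTheory.SpecificGroups.ZGroup
import Mathlib.GroupTheory.Focal

/-!
# Simple groups of odd order in which centralisers of `p`-elements are `p`-groups
-/

set_option autoImplicit false
set_option linter.style.haveILetI false
set_option linter.unusedSectionVars false

namespace CfsgLib.CN

open CfsgLib.Stable
open scoped Pointwise commutatorElement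

universe u

/-- The centralisers of nonidentity elements of `p`-subgroups are `p`-groups. -/
def PCent (p : ℕ) (G : Type u) [Group G] : Prop :=
  ∀ P : Subgroup G, IsPGroup p P → ∀ x ∈ P, x ≠ 1 →
    IsPGroup p (Subgroup.centralizer ({x} : Set G))

variable {G : Type u} [Group G]

theorem PCent.subgroup {p : ℕ} (h : PCent p G) (U : Subgroup G) : PCent p U := by
  intro P hP x hx hx1
  refine ((h (P.map U.subtype) (hP.map _) x ⟨x, hx, rfl⟩ fun e => hx1 (Subtype.ext e)).comap_of_injective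
    U.subtype U.subtype_injective).to_le fun c hc => ?_
  rw [Subgroup.mem_comap, Subgroup.mem_centralizer_singleton_iff]
  exact congrArg Subtype.val (Subgroup.mem_centralizer_singleton_iff.mp hc)

theorem le_normalizer_map_of_normal {U : Subgroup G} {N : Subgroup U} (hN : N.Normal) :
    U ≤ Subgroup.normalizer (N.map U.subtype : Set G) := by
  intro x hx
  rw [Subgroup.mem_normalizer_iff]
  intro y
  constructor
  · rintro ⟨n, hn, rfl⟩
    exact ⟨⟨x, hx⟩ * n * ⟨x, hx⟩⁻¹, hN.conj_mem n hn _, rfl⟩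
  · rintro ⟨n, hn, he⟩
    refine ⟨⟨x, hx⟩⁻¹ * n * ⟨x, hx⟩, by simpa using hN.conj_mem n hn ⟨x, hx⟩⁻¹, ?_⟩
    simp only [map_mul, map_inv, he]
    show x⁻¹ * (x * y * x⁻¹) * x = y
    group

theorem normalizer_le_Zsub [Finite G] (e : ℕ) (D : Subgroup G) :
    Subgroup.normalizer (D : Set G) ≤ Subgroup.normalizer (Zsub e D : Set G) :=
  (normalizer_le_Jsub e D).trans (normalizer_Jsub_le_Zsub e D)

variable [Finite G]

theorem Zsub_zero_ne_bot {p : ℕ} [hp : Fact p.Prime] {S : Subgroup G} (hS : IsPGroup p S)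
    (hS1 : S ≠ ⊥) : Zsub 0 S ≠ ⊥ := by
  haveI : Nontrivial S := (Subgroup.nontrivial_iff_ne_bot S).2 hS1
  haveI := hS.center_nontrivial
  set C := (Subgroup.center S).map S.subtype with hC
  have hCab : IsAb 0 C := by
    refine ⟨?_, fun a _ => pow_zero a⟩
    rintro _ ⟨a, ha, rfl⟩ _ ⟨b, -, rfl⟩
    exact congrArg Subtype.val (Subgroup.mem_center_iff.mp ha b).symm
  have hC1 : C ≠ ⊥ := fun e =>
    (Subgroup.nontrivial_iff_ne_bot _).1 ‹Nontrivial (Subgroup.center S)›
      ((Subgroup.map_eq_bot_iff_of_injective _ S.subtype_injective).1 e)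
  obtain ⟨A, hA⟩ := exists_isMax 0 S
  have hA1 : A ≠ ⊥ := fun e => hC1 (by
    have := hA.2.2 C (Subgroup.map_subtype_le _) hCab
    rw [e, Subgroup.card_bot] at this
    exact Subgroup.eq_bot_of_card_le _ this)
  have hJ1 : Jsub 0 S ≠ ⊥ := fun e => hA1 (by
    rw [eq_bot_iff, ← e]; exact isMax_le_Jsub hA)
  haveI : Nontrivial (Jsub 0 S) := (Subgroup.nontrivial_iff_ne_bot _).2 hJ1
  haveI := (hS.to_le (Jsub_le 0 S)).center_nontrivial
  intro e
  refine (Subgroup.nontrivial_iff_ne_bot _).1 ‹Nontrivial (Subgroup.center (Jsub 0 S))› ?_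
  rw [eq_bot_iff]
  intro z hz
  have : (z : G) ∈ Zsub 0 S := ⟨z.2, fun a ha =>
    congrArg Subtype.val (Subgroup.mem_center_iff.mp hz ⟨a, ha⟩)⟩
  rw [e, Subgroup.mem_bot] at this
  exact Subgroup.mem_bot.2 (Subtype.ext this)

/-- The local structure of a soluble group of odd order with `O_p ≠ 1` and `PCent`. -/
theorem local_structure {p : ℕ} [hp : Fact p.Prime] (X : Type u) [Group X] [Finite X]
    [Group.IsSolvable X] (hodd : Odd (Nat.card X)) (hpc : PCent p X)
    (hF : Cfsg.pCore p X ≠ ⊥) (T : Sylow p X) :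
    (Zsub 0 (T : Subgroup X)).Normal ∧
      ((T : Subgroup X).Normal ∨ p ∣ (commutator X).index) := by
  haveI := CfsgLib.Core.normal_pCore (G := X) p
  set F := Cfsg.pCore p X with hFdef
  have hFp : IsPGroup p F := CfsgLib.Core.isPGroup_pCore p
  obtain ⟨a, haF, ha1⟩ := F.bot_or_exists_ne_one.resolve_left hF
  have hCF : Subgroup.centralizer (F : Set X) ≤ F := CfsgLib.Core.le_pCore inferInstance
    ((hpc F hFp a haF ha1).to_le (Subgroup.centralizer_le (Set.singleton_subset_iff.2 haF)))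
  have hp2 : p ≠ 2 := by
    rintro rfl
    have h2 : (2 : ℕ) ∣ Nat.card F := (hFp.card_eq_or_dvd).resolve_left fun e =>
      hF (Subgroup.eq_bot_of_card_eq _ e)
    exact (Nat.not_even_iff_odd.2 hodd) (even_iff_two_dvd.2 (h2.trans F.card_subgroup_dvd_card))
  set π := QuotientGroup.mk' F with hπ
  have hπs : Function.Surjective π := QuotientGroup.mk'_surjective F
  have hker : π.ker = F := QuotientGroup.ker_mk' F
  haveI : Group.IsSolvable (X ⧸ F) := Group.isSolvable_of_surjective hπs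
  set Kb := Cfsg.fittingSubgroup (X ⧸ F) with hKb
  haveI hKn : Kb.Normal := by
    haveI := CfsgLib.Core.characteristic_fittingSubgroup (G := X ⧸ F)
    infer_instance
  haveI : Group.IsNilpotent Kb := CfsgLib.Core.isNilpotent_fittingSubgroup
  -- the Sylow `p`-subgroup of the Fitting subgroup of the quotient is trivial
  have hKp : ∀ R : Sylow p Kb, (R : Subgroup Kb) = ⊥ := fun R => by
    have hRn : (R : Subgroup Kb).Normal :=
      (CfsgLib.Core.isNilpotent_iff_sylow_normal.1 inferInstance) p hp R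
    haveI := R.characteristic_of_normal hRn
    haveI : ((R : Subgroup Kb).map Kb.subtype).Normal := inferInstance
    have h := CfsgLib.Core.le_pCore this (R.isPGroup'.map Kb.subtype)
    rw [CfsgLib.Core.pCore_quotient_pCore p, le_bot_iff] at h
    exact (Subgroup.map_eq_bot_iff_of_injective _ Kb.subtype_injective).1 h
  have hpK : ¬ p ∣ Nat.card Kb := fun h => (default : Sylow p Kb).ne_bot_of_dvd_card h (hKp _)
  haveI hZ : IsZGroup Kb := by
    rw [isZGroup_iff]
    intro q hq R
    haveI := Fact.mk hq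
    rcases eq_or_ne q p with rfl | hqp
    · rw [hKp R]; infer_instance
    obtain ⟨R', hR'⟩ := (R.isPGroup'.map Kb.subtype).exists_le_sylow
    obtain ⟨Q, rfl⟩ := Sylow.mapSurjective_surjective hπs q R'
    have hQ : IsCyclic (Q : Subgroup X) := by
      refine (CfsgLib.Core.cyclic_or_quaternion_of_fpf Q.isPGroup' (K := F)
        (Subgroup.normalizer_eq_top (H := F) ▸ le_top) hF fun b hb hb1 v hv hbv => ?_).resolve_right ?_
      · by_contra hv1
        refine hb1 ?_
        have hbC : b ∈ Subgroup.centralizer ({v} : Set X) :=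
          Subgroup.mem_centralizer_singleton_iff.2 hbv
        exact Subgroup.disjoint_def.1 (IsPGroup.disjoint_of_ne q p hqp _ _ Q.isPGroup'
          (hpc F hFp v hv hv1)) hb hbC
      · rintro ⟨rfl, n, ⟨e⟩⟩
        have h2 : 2 ∣ Nat.card (Q : Subgroup X) := by
          rw [Nat.card_congr e.toEquiv, Nat.card_eq_fintype_card, QuaternionGroup.card]
          exact dvd_mul_of_dvd_left (by norm_num) _
        exact (Nat.not_even_iff_odd.2 hodd)
          (even_iff_two_dvd.2 (h2.trans (Subgroup.card_subgroup_dvd_card _)))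
    haveI := hQ
    haveI : IsCyclic ((Q : Subgroup X).map π) :=
      isCyclic_of_surjective _ (π.subgroupMap_surjective _)
    rw [Sylow.coe_mapSurjective] at hR'
    haveI := Subgroup.isCyclic_of_le hR'
    exact isCyclic_of_surjective _
      ((R : Subgroup Kb).equivMapOfInjective Kb.subtype Kb.subtype_injective).symm.surjective
  haveI : IsCyclic Kb := inferInstance
  have hF1 : ∀ y : X, π y = 1 ↔ y ∈ F := fun y => QuotientGroup.eq_one_iff y
  have hcomm : commutator (X ⧸ F) ≤ Kb := by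
    refine le_trans ?_ CfsgLib.Core.centralizer_fitting_le
    rw [commutator_def, Subgroup.commutator_le]
    intro x _ y _
    have hc : Commute (MulAut.conjNormal x : MulAut Kb) (MulAut.conjNormal y) := by
      obtain ⟨m, hm⟩ := MonoidHom.map_cyclic (MulAut.conjNormal x : MulAut Kb).toMonoidHom
      obtain ⟨n, hn⟩ := MonoidHom.map_cyclic (MulAut.conjNormal y : MulAut Kb).toMonoidHom
      refine MulEquiv.ext fun k => ?_
      simp only [MulEquiv.coe_toMonoidHom] at hm hn
      rw [MulAut.mul_apply, MulAut.mul_apply, hn, hm, hm, hn, ← zpow_mul, ← zpow_mul, mul_comm]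
    rw [Subgroup.mem_centralizer_iff]
    intro k hk
    have h1 : MulAut.conjNormal ⁅x, y⁆ = (1 : MulAut Kb) := by
      rw [map_commutatorElement]; exact commutatorElement_eq_one_iff_commute.2 hc
    have h2 := congrArg Subtype.val (DFunLike.congr_fun h1 ⟨k, hk⟩)
    rw [MulAut.conjNormal_apply, MulAut.one_apply] at h2
    exact (mul_inv_eq_iff_eq_mul.1 h2).symm
  set K := Kb.comap π with hK
  haveI hKnorm : K.Normal := hKn.comap π
  have hFK : F ≤ K := hker.ge.trans (Subgroup.ker_le_comap π Kb)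
  have hXK : commutator X ≤ K := by
    rw [hK, ← Subgroup.map_le_iff_le_comap, commutator_def, Subgroup.map_commutator,
      Subgroup.map_top_of_surjective π hπs, ← commutator_def]
    exact hcomm
  set X0 := K ⊔ (T : Subgroup X) with hX0
  haveI hX0n : X0.Normal :=
    CfsgLib.Core.normal_of_commutator_le (hXK.trans le_sup_left)
  have hFX0 : F ≤ X0 := hFK.trans le_sup_left
  set U0 := F.subgroupOf X0 with hU0
  haveI : U0.Normal := Subgroup.Normal.subgroupOf ‹F.Normal› X0
  have hU0p : IsPGroup p U0 := hFp.of_equiv (Subgroup.subgroupOfEquivOfLe hFX0).symm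
  have hseries : HasSeries p X0 := by
    refine ⟨U0, K.subgroupOf X0, inferInstance, hKnorm.subgroupOf X0, hU0p,
      fun x hx => hFK hx, fun x hx y hy => ?_, fun x hx => ?_, fun g => ?_⟩
    · rw [hU0, Subgroup.mem_subgroupOf]
      show (x : X) * y * (x : X)⁻¹ * (y : X)⁻¹ ∈ F
      rw [← hF1, map_mul, map_mul, map_mul, map_inv, map_inv]
      letI := IsCyclic.commGroup (α := Kb)
      have := congrArg Subtype.val (mul_comm (⟨π (x : X), hx⟩ : Kb) ⟨π (y : X), hy⟩)
      simp only [Subgroup.coe_mul] at this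
      rw [this, mul_inv_cancel_right, mul_inv_cancel]
    · refine ⟨Nat.card Kb, ((hp.out.coprime_iff_not_dvd).2 hpK).symm, ?_⟩
      rw [hU0, Subgroup.mem_subgroupOf]
      show (x : X) ^ Nat.card Kb ∈ F
      rw [← hF1, map_pow]
      exact congrArg Subtype.val (pow_card_eq_one' (x := (⟨π (x : X), hx⟩ : Kb)))
    · obtain ⟨k, hk, t, ht, hkt⟩ := Subgroup.mem_sup_of_normal_left.1 g.2
      obtain ⟨j, hj⟩ := (T.isPGroup'.map (QuotientGroup.mk' K))
        ⟨QuotientGroup.mk' K t, t, ht, rfl⟩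
      refine ⟨j, ?_⟩
      rw [Subgroup.mem_subgroupOf, ← QuotientGroup.eq_one_iff]
      have h1 := congrArg Subtype.val hj
      show ((g : X) ^ p ^ j : X ⧸ K) = 1
      rw [← hkt]
      simpa [QuotientGroup.eq_one_iff k |>.2 hk] using h1
  set T0 := T.subtype (le_sup_right : (T : Subgroup X) ≤ X0) with hT0
  have hc0 : Subgroup.centralizer (Cfsg.pCore p X0 : Set X0) ≤ Cfsg.pCore p X0 := fun x hx =>
    CfsgLib.Core.le_pCore (inferInstance : U0.Normal) hU0p (Subgroup.mem_subgroupOf.2 (hCF fun f hf =>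
      congrArg Subtype.val (hx ⟨f, hFX0 hf⟩
        (CfsgLib.Core.le_pCore (inferInstance : U0.Normal) hU0p (Subgroup.mem_subgroupOf.2 hf)))))
  have hZ0 := Zsub_normal hp2 (.inl rfl) (stab_of_hasSeries hp2 hseries) hc0 T0 (sclosed_self _)
  haveI := Zsub_characteristic T0 hZ0
  refine ⟨?_, ?_⟩
  · have hn : ((Zsub 0 (T0 : Subgroup X0)).map X0.subtype).Normal := inferInstance
    have h := map_Zsub 0 (T0 : Subgroup X0) X0.subtype X0.subtype_injective.injOn
    rw [hT0, Sylow.coe_subtype, Subgroup.subgroupOf_map_subtype,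
      inf_eq_left.2 (le_sup_right : (T : Subgroup X) ≤ X0)] at h
    rw [← h]
    exact hn
  · rw [or_iff_not_imp_right]
    intro hind
    have h1 : ¬ p ∣ F.index := by
      rw [← Subgroup.relIndex_mul_index hFK]
      intro h
      rcases hp.out.dvd_mul.1 h with h | h
      · refine hpK ?_
        rwa [← hker, Subgroup.relIndex_ker, hK, Subgroup.map_comap_eq_self_of_surjective hπs] at h
      · exact hind (h.trans (Subgroup.index_dvd_of_le hXK))
    let FS : Sylow p X := hFp.toSylow h1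
    letI := Sylow.unique_of_normal FS (by rw [IsPGroup.toSylow_coe]; infer_instance)
    rw [Subsingleton.elim T FS, IsPGroup.toSylow_coe]
    infer_instance

/-- The version for a `p`-local subgroup. -/
theorem local_subgroup {p : ℕ} [hp : Fact p.Prime] (hodd : Odd (Nat.card G))
    (hsol : ∀ H : Subgroup G, H ≠ ⊤ → Group.IsSolvable H) (hpc : PCent p G)
    {U : Subgroup G} (hU : U ≠ ⊤) {P : Subgroup G} (hP : IsPGroup p P) (hP1 : P ≠ ⊥)
    (hPU : P ≤ U) (hUP : U ≤ Subgroup.normalizer (P : Set G)) (T : Sylow p U) :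
    U ≤ Subgroup.normalizer (Zsub 0 ((T : Subgroup U).map U.subtype) : Set G) ∧
      ((T : Subgroup U).Normal ∨ p ∣ (commutator U).index) := by
  haveI := hsol U hU
  have hF : Cfsg.pCore p U ≠ ⊥ := fun e => hP1 (by
    have hn : (P.subgroupOf U).Normal := ⟨fun x hx g => Subgroup.mem_subgroupOf.2
      ((Subgroup.mem_normalizer_iff.1 (hUP g.2) x).1 (Subgroup.mem_subgroupOf.1 hx))⟩
    have h := CfsgLib.Core.le_pCore hn (hP.of_equiv (Subgroup.subgroupOfEquivOfLe hPU).symm)
    rw [e, le_bot_iff, Subgroup.subgroupOf_eq_bot] at h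
    exact le_bot_iff.1 (h le_rfl hPU))
  obtain ⟨h1, h2⟩ := local_structure U (hodd.of_dvd_nat (Subgroup.card_subgroup_dvd_card U))
    (hpc.subgroup U) hF T
  refine ⟨?_, h2⟩
  rw [← map_Zsub 0 _ U.subtype U.subtype_injective.injOn]
  exact le_normalizer_map_of_normal h1

/-- The Sylow `p`-subgroups form trivial intersections. -/
theorem sylow_ti {p : ℕ} [hp : Fact p.Prime] (hodd : Odd (Nat.card G)) [IsSimpleGroup G]
    (hns : ¬ Group.IsSolvable G) (hsol : ∀ H : Subgroup G, H ≠ ⊤ → Group.IsSolvable H)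
    (hpc : PCent p G) (S : Sylow p G) (g : G)
    (hne : (S : Subgroup G) ⊓ (g • S : Sylow p G) ≠ ⊥) : g • S = S := by
  have hproper : ∀ P : Subgroup G, IsPGroup p P → P ≠ ⊥ →
      Subgroup.normalizer (P : Set G) ≠ ⊤ := fun P hP hP1 e => by
    rcases (Subgroup.normalizer_eq_top_iff.1 e).eq_bot_or_eq_top with h | h
    · exact hP1 h
    · refine hns ?_
      haveI := hP.isNilpotent
      rw [h] at this
      exact Group.isSolvable_of_surjective (f := (Subgroup.topEquiv (G := G)).toMonoidHom)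
        Subgroup.topEquiv.surjective
  have hbot : ∀ P : Subgroup G, P ≠ ⊥ → Nat.card P ≤ Nat.card G := fun P _ =>
    Nat.le_of_dvd Nat.card_pos P.card_subgroup_dvd_card
  have hQ : ∀ n, ∀ T : Subgroup G, Nat.card G - Nat.card T = n → IsPGroup p T → T ≠ ⊥ →
      ∃ S' : Sylow p G, T ≤ S' ∧ Subgroup.normalizer (Zsub 0 T : Set G) ≤
        Subgroup.normalizer (Zsub 0 (S' : Subgroup G) : Set G) := by
    intro n
    induction n using Nat.strong_induction_on with
    | _ n ih =>
    intro T hn hT hT1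
    set U := Subgroup.normalizer (Zsub 0 T : Set G) with hU
    have hTU : T ≤ U := Subgroup.le_normalizer.trans (normalizer_le_Zsub 0 T)
    have hUp : U ≠ ⊤ := hproper _ (hT.to_le (Zsub_le 0 T)) (Zsub_zero_ne_bot hT hT1)
    obtain ⟨T2, hT2⟩ := (hT.of_equiv (Subgroup.subgroupOfEquivOfLe hTU).symm).exists_le_sylow
    set T'' := (T2 : Subgroup U).map U.subtype with hT''
    have hTT : T ≤ T'' := by
      rw [hT'', ← inf_eq_left.2 hTU, ← Subgroup.subgroupOf_map_subtype]
      exact Subgroup.map_mono hT2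
    by_cases he : T'' = T
    · obtain ⟨S', hS'⟩ := hT.exists_le_sylow
      refine ⟨S', hS', ?_⟩
      suffices (S' : Subgroup G) = T by rw [this]
      by_contra hne'
      obtain ⟨m, ⟨hm, hmN⟩, hmT⟩ := CfsgLib.Local.exists_normalizer_not_mem S'.isPGroup'
        (lt_of_le_of_ne hS' (Ne.symm hne'))
      have hmU : m ∈ U := normalizer_le_Zsub 0 T hmN
      have hle : (T2 : Subgroup U) ≤ ((S' : Subgroup G) ⊓ U).subgroupOf U := fun x hx =>
        Subgroup.mem_subgroupOf.2 ⟨hS' (he ▸ ⟨x, hx, rfl⟩), x.2⟩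
      have heq := T2.is_maximal' ((S'.isPGroup'.to_le inf_le_left).of_equiv
        (Subgroup.subgroupOfEquivOfLe inf_le_right).symm) hle
      refine hmT (he ▸ ⟨⟨m, hmU⟩, ?_, rfl⟩)
      rw [SetLike.mem_coe, ← heq]
      exact Subgroup.mem_subgroupOf.2 ⟨hm, hmU⟩
    · have hlt : Nat.card T < Nat.card T'' := by
        by_contra hc
        exact he (Subgroup.eq_of_le_of_card_ge hTT (not_lt.1 hc)).symm
      have hT''1 : T'' ≠ ⊥ := fun e => hT1 (le_bot_iff.1 (e ▸ hTT))
      obtain ⟨S', hS', hN⟩ := ih _ (by have := hbot T'' hT''1; omega) T'' rfl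
        (T2.isPGroup'.map _) hT''1
      refine ⟨S', hTT.trans hS', le_trans ?_ hN⟩
      exact (local_subgroup hodd hsol hpc hUp (hT.to_le (Zsub_le 0 T)) (Zsub_zero_ne_bot hT hT1)
        ((Zsub_le 0 T).trans hTU) le_rfl T2).1
  have hclaim : ∀ n, ∀ (D : Subgroup G) (S1 S2 : Sylow p G), Nat.card G - Nat.card D = n →
      D ≠ ⊥ → D ≤ S1 → D ≤ S2 → Zsub 0 (S1 : Subgroup G) = Zsub 0 (S2 : Subgroup G) := by
    intro n
    induction n using Nat.strong_induction_on with
    | _ n ih =>
    intro D S1 S2 hn hD1 h1 h2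
    have hbig : ∀ (E : Subgroup G) (R1 R2 : Sylow p G), D < E → E ≤ R1 → E ≤ R2 →
        Zsub 0 (R1 : Subgroup G) = Zsub 0 (R2 : Subgroup G) := fun E R1 R2 hlt hE1 hE2 => by
      have hE : E ≠ ⊥ := fun e => hD1 (le_bot_iff.1 (e ▸ hlt.le))
      have hc : Nat.card D < Nat.card E := by
        by_contra hc
        exact hlt.ne (Subgroup.eq_of_le_of_card_ge hlt.le (not_lt.1 hc))
      exact ih _ (by have := hbot E hE; omega) E R1 R2 rfl hE hE1 hE2
    rcases eq_or_lt_of_le (le_inf h1 h2) with he | hlt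
    swap
    · exact hbig _ S1 S2 hlt inf_le_left inf_le_right
    by_cases hS : (S1 : Subgroup G) = S2
    · rw [hS]
    have hne1 : D < (S1 : Subgroup G) := lt_of_le_of_ne h1 fun e => hS
      (S1.is_maximal' S2.isPGroup' (e ▸ h2)).symm
    have hne2 : D < (S2 : Subgroup G) := lt_of_le_of_ne h2 fun e => hS
      (S2.is_maximal' S1.isPGroup' (e ▸ h1))
    set U := Subgroup.normalizer (D : Set G) with hU
    have hDp : IsPGroup p D := S1.isPGroup'.to_le h1
    have hUp : U ≠ ⊤ := hproper D hDp hD1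
    have hlt' : ∀ R : Sylow p G, D < (R : Subgroup G) → D < (R : Subgroup G) ⊓ U := fun R hR => by
      obtain ⟨m, hm, hmD⟩ := CfsgLib.Local.exists_normalizer_not_mem R.isPGroup' hR
      exact lt_of_le_of_ne (le_inf hR.le Subgroup.le_normalizer) fun e => hmD (e ▸ hm)
    have hsyl : ∀ R : Sylow p G, ∃ Q : Sylow p U, (R : Subgroup G) ⊓ U ≤
        (Q : Subgroup U).map U.subtype := fun R => by
      obtain ⟨Q, hQ⟩ := ((R.isPGroup'.to_le inf_le_left).of_equiv
        (Subgroup.subgroupOfEquivOfLe (inf_le_right : (R : Subgroup G) ⊓ U ≤ U)).symm).exists_le_sylow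
      refine ⟨Q, fun x hx => ⟨⟨x, hx.2⟩, hQ (Subgroup.mem_subgroupOf.2 hx), rfl⟩⟩
    obtain ⟨Q1, hQ1⟩ := hsyl S1
    obtain ⟨Q2, hQ2⟩ := hsyl S2
    set T := (Q1 : Subgroup U).map U.subtype with hT
    have hT1 : T ≠ ⊥ := fun e => hD1 (le_bot_iff.1 (e ▸ (hlt' S1 hne1).le.trans hQ1))
    obtain ⟨S3, hS3, hN⟩ := hQ _ T rfl (Q1.isPGroup'.map _) hT1
    have hUN : U ≤ Subgroup.normalizer (Zsub 0 (S3 : Subgroup G) : Set G) :=
      (local_subgroup hodd hsol hpc hUp hDp hD1 Subgroup.le_normalizer le_rfl Q1).1.trans hN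
    obtain ⟨u, hu⟩ := MulAction.exists_smul_eq U Q1 Q2
    have e1 := hbig _ S1 S3 (hlt' S1 hne1) inf_le_left (hQ1.trans hS3)
    have e2 : Zsub 0 (((u : G) • S3 : Sylow p G) : Subgroup G) = Zsub 0 (S3 : Subgroup G) := by
      have h : (((u : G) • S3 : Sylow p G) : Subgroup G) =
          (S3 : Subgroup G).map (MulAut.conj (u : G)).toMonoidHom := rfl
      rw [h, ← Zsub_conj]
      exact CfsgLib.Core.conj_smul_of_mem_normalizer (hUN u.2)
    have e3 := hbig _ S2 ((u : G) • S3) (hlt' S2 hne2) inf_le_left (hQ2.trans (by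
      rintro _ ⟨x, hx, rfl⟩
      rw [← hu] at hx
      obtain ⟨y, hy, rfl⟩ := hx
      exact ⟨(y : G), hS3 ⟨y, hy, rfl⟩, rfl⟩))
    rw [e1, e3, e2]
  -- `N(Z(J(S)))` controls fusion
  have hctrl : ∀ (x h : G), x ∈ (S : Subgroup G) → x ≠ 1 → x ∈ (h • S : Sylow p G) →
      h ∈ Subgroup.normalizer (Zsub 0 (S : Subgroup G) : Set G) := fun x h hx hx1 hxh => by
    have e := hclaim _ (Subgroup.zpowers x) S (h • S) rfl
      (fun e => hx1 (Subgroup.zpowers_eq_bot.1 e)) (Subgroup.zpowers_le.2 hx)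
      (Subgroup.zpowers_le.2 hxh)
    have h' : ((h • S : Sylow p G) : Subgroup G) =
        (S : Subgroup G).map (MulAut.conj h).toMonoidHom := rfl
    rw [h', ← Zsub_conj] at e
    exact Stable.mem_normalizer_of_map_eq fun y hy => e.symm.le ⟨y, hy, rfl⟩
  set M := Subgroup.normalizer (Zsub 0 (S : Subgroup G) : Set G) with hM
  have hS1 : (S : Subgroup G) ≠ ⊥ := fun e => hne (by rw [e, bot_inf_eq])
  have hSM : (S : Subgroup G) ≤ M := Subgroup.le_normalizer.trans (normalizer_le_Zsub 0 _)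
  have hperf : commutator G = ⊤ :=
    ((inferInstance : (commutator G).Normal).eq_bot_or_eq_top).resolve_left fun e => hns
      (Group.isSolvable_of_comm fun a b => commutatorElement_eq_one_iff_mul_comm.1
        (Subgroup.mem_bot.1 (e ▸ Subgroup.commutator_mem_commutator (Subgroup.mem_top a)
          (Subgroup.mem_top b))))
  have hSM' : (S : Subgroup G) ≤ ⁅M, M⁆ := by
    have hfoc := Subgroup.commutator_inf_eq_focalSubgroup S
    rw [hperf, top_inf_eq] at hfoc
    refine hfoc.le.trans ?_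
    rw [Subgroup.focalSubgroup_def, Subgroup.closure_le]
    rintro _ ⟨hc, x, hx, h, rfl⟩
    by_cases hx1 : x = 1
    · rw [hx1, commutatorElement_one_left]; exact Subgroup.one_mem _
    refine Subgroup.commutator_mem_commutator (hSM hx) ?_
    have h2 : h * x⁻¹ * h⁻¹ ∈ (S : Subgroup G) := by
      have := S.mul_mem (S.inv_mem hx) hc
      simpa [commutatorElement_def, mul_assoc] using this
    have h3 : h * x * h⁻¹ ∈ (S : Subgroup G) := by simpa [mul_assoc] using S.inv_mem h2
    have h4 : h⁻¹ ∈ M := hctrl x h⁻¹ hx hx1 ⟨h * x * h⁻¹, h3, by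
      show h⁻¹ * (h * x * h⁻¹) * h⁻¹⁻¹ = x
      group⟩
    simpa using M.inv_mem h4
  have hMp : M ≠ ⊤ := hproper _ (S.isPGroup'.to_le (Zsub_le 0 _))
    (Zsub_zero_ne_bot S.isPGroup' hS1)
  set SM := S.subtype hSM with hSMd
  have hSMn : (SM : Subgroup M).Normal := by
    refine (local_subgroup hodd hsol hpc hMp (S.isPGroup'.to_le (Zsub_le 0 _))
      (Zsub_zero_ne_bot S.isPGroup' hS1) ((Zsub_le 0 _).trans hSM) le_rfl SM).2.resolve_right
      fun h => SM.not_dvd_index (h.trans (Subgroup.index_dvd_of_le ?_))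
    intro x hx
    have hx' : (x : G) ∈ ⁅M, M⁆ := hSM' (Subgroup.mem_subgroupOf.1 hx)
    rw [← Subgroup.map_subtype_commutator] at hx'
    obtain ⟨y, hy, he⟩ := hx'
    exact Subtype.ext he ▸ hy
  obtain ⟨x, ⟨hxS, hxg⟩, hx1⟩ :=
    ((S : Subgroup G) ⊓ (g • S : Sylow p G)).bot_or_exists_ne_one.resolve_left hne
  have hgM := hctrl x g hxS hx1 hxg
  refine Sylow.ext (Subgroup.eq_of_le_of_card_ge ?_ ?_)
  · rintro _ ⟨y, hy, rfl⟩
    exact Subgroup.mem_subgroupOf.1
      (hSMn.conj_mem ⟨y, hSM hy⟩ (Subgroup.mem_subgroupOf.2 hy) ⟨g, hgM⟩)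
  · exact (card_conj (S : Subgroup G) g).ge

end CfsgLib.CN
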