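import Cfsg.Agent.Lib.CharCN2
import Cfsg.Agent.Lib.CharCN3
import Cfsg.Agent.Lib.CharCN4
import Cfsg.Agent.Lib.CharFrobenius
import Cfsg.Prelude.Def_OddOrder

/-!
# CN-groups of odd order are soluble
-/

set_option autoImplicit false
set_option linter.style.haveILetI false
set_option linter.unusedSectionVars false

namespace CfsgLib.CN

open scoped Pointwise

universe u

variable {G : Type u} [Group G] [Finite G]

theorem isNilpotent_zpowers (x : G) : Group.IsNilpotent (Subgroup.zpowers x) :=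
  letI : CommGroup (Subgroup.zpowers x) := IsCyclic.commGroup
  CommGroup.isNilpotent

theorem ti_of_minsimple (hodd : Odd (Nat.card G)) (hCN : Cfsg.IsCNGroup G) [IsSimpleGroup G]
    (hns : ¬ Group.IsSolvable G) (hsol : ∀ H : Subgroup G, H ≠ ⊤ → Group.IsSolvable H)
    {H : Subgroup G} (h : MaxNil H) {g : G}
    (hg : H ⊓ H.map (MulAut.conj g).toMonoidHom ≠ ⊥) : H.map (MulAut.conj g).toMonoidHom = H := by
  by_cases h2 : IsPrimePow (Nat.card H)
  swap
  · exact h.ti_of_two hCN h2 hg
  obtain ⟨p, n, hp, hn, hpn⟩ := h2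
  rw [← Nat.prime_iff] at hp
  haveI := Fact.mk hp
  have hpd : p ∣ Nat.card H := hpn ▸ dvd_pow_self p hn.ne'
  obtain ⟨S, hS⟩ := h.exists_sylow hCN hpd
  have hSH : (S : Subgroup G) = H := by
    obtain ⟨S', hS'⟩ := (IsPGroup.of_card hpn.symm : IsPGroup p H).exists_le_sylow
    rw [S.is_maximal' S'.isPGroup' (hS.trans hS')] at hS'
    exact le_antisymm hS hS'
  have hpc : PCent p G := fun P hP x hx hx1 => by
    by_contra hnp
    obtain ⟨q, hq, hne, hqd⟩ : ∃ q : ℕ, q.Prime ∧ q ≠ p ∧
        q ∣ Nat.card (Subgroup.centralizer ({x} : Set G)) := by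
      by_contra hcon
      push Not at hcon
      exact hnp (IsPGroup.of_card (Nat.eq_prime_pow_of_unique_prime_dvd Nat.card_pos.ne'
        fun {d} hd hdd => by_contra fun hne => hcon d hd hne hdd))
    haveI := Fact.mk hq
    obtain ⟨y, hy⟩ := exists_prime_orderOf_dvd_card' q hqd
    have hcomm : (y : G) * x = x * y := Subgroup.mem_centralizer_singleton_iff.1 y.2
    obtain ⟨K, hK, hle⟩ := exists_maxNil (hCN x hx1)
    have hxK : x ∈ K := hle (mem_centralizer_of_commute rfl)
    obtain ⟨j, hj⟩ := orderOf_eq_pow_of_mem hP hx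
    rcases j with _ | j
    · exact hx1 (orderOf_eq_one_iff.1 (by rwa [pow_zero] at hj))
    have hpK : p ∣ Nat.card K :=
      (dvd_pow_self p (Nat.succ_ne_zero j)).trans (hj ▸ K.orderOf_dvd_natCard hxK)
    have hqK : q ∣ Nat.card K := by
      rw [← hy, ← Subgroup.orderOf_coe]
      exact K.orderOf_dvd_natCard (hle (mem_centralizer_of_commute hcomm))
    obtain ⟨c, hc⟩ := h.exists_conj hCN hK hpd hpK
    rw [hc, Subgroup.card_map_of_injective (MulAut.conj c).injective, ← hpn] at hqK
    exact hne ((Nat.prime_dvd_prime_iff_eq hq hp).1 (hq.dvd_of_dvd_pow hqK))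
  have hcoe : ((g • S : Sylow p G) : Subgroup G) = H.map (MulAut.conj g).toMonoidHom := by
    rw [← hSH]; rfl
  have := sylow_ti hodd hns hsol hpc S g (by rwa [hcoe, hSH])
  rw [← hcoe, this, hSH]

/-- There is no minimal simple CN-group of odd order. -/
theorem no_minsimple (hodd : Odd (Nat.card G)) (hCN : Cfsg.IsCNGroup G) [IsSimpleGroup G]
    (hns : ¬ Group.IsSolvable G) (hsol : ∀ H : Subgroup G, H ≠ ⊤ → Group.IsSolvable H) : False := by
  classical
  haveI := Fintype.ofFinite G
  have hne0 : ∀ {H : Subgroup G}, MaxNil H → H ≠ ⊥ := fun {H} h e => by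
    obtain ⟨x, hx⟩ := exists_ne (1 : G)
    have := h.2 (Subgroup.zpowers x) (isNilpotent_zpowers x) (e ▸ bot_le)
    exact hx (Subgroup.zpowers_eq_bot.1 (this.trans e))
  have htop : ∀ {H : Subgroup G}, MaxNil H → H ≠ ⊤ := fun {H} h e => hns (by
    haveI := h.1
    subst e
    exact Group.isSolvable_of_surjective (f := (Subgroup.topEquiv (G := G)).toMonoidHom)
      Subgroup.topEquiv.surjective)
  have hti : ∀ {H : Subgroup G}, MaxNil H → ∀ g : G, g ∉ Subgroup.normalizer (H : Set G) →
      ∀ h ∈ H, g * h * g⁻¹ ∈ H → h = 1 := fun {H} hH g hg h hh hgh => by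
    by_contra h1
    refine hg (CfsgLib.Stable.mem_normalizer_of_map_eq fun y hy => ?_)
    have e := ti_of_minsimple hodd hCN hns hsol hH (g := g) fun e => h1 (by
      have : g * h * g⁻¹ ∈ H ⊓ H.map (MulAut.conj g).toMonoidHom := ⟨hgh, h, hh, rfl⟩
      rw [e, Subgroup.mem_bot, conj_eq_one_iff] at this
      exact this)
    exact e.le ⟨y, hy, rfl⟩
  have hNH : ∀ {H : Subgroup G}, MaxNil H → H ≠ Subgroup.normalizer (H : Set G) := fun {H} h e => by
    obtain ⟨K, hKn, hKH, hKH', -, -⟩ :=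
      CfsgLib.Char.exists_frobenius_kernel H fun g hg => hti h g (e ▸ hg)
    rcases hKn.eq_bot_or_eq_top with hK | hK
    · exact htop h (by rwa [hK, bot_sup_eq] at hKH')
    · exact hne0 h (by rwa [hK, top_inf_eq] at hKH)
  -- representatives
  have hex : ∀ p : ℕ, ∃ H : Subgroup G, MaxNil H ∧ (p.Prime → p ∣ Nat.card G → p ∣ Nat.card H) := by
    intro p
    by_cases hp : p.Prime ∧ p ∣ Nat.card G
    · haveI := Fact.mk hp.1
      obtain ⟨x, hx⟩ := exists_prime_orderOf_dvd_card' p hp.2
      obtain ⟨H, hH, hle⟩ := exists_maxNil (N := Subgroup.zpowers x) (isNilpotent_zpowers x)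
      exact ⟨H, hH, fun _ _ => hx ▸ H.orderOf_dvd_natCard (hle (Subgroup.mem_zpowers x))⟩
    · obtain ⟨H, hH, -⟩ := exists_maxNil (N := (⊥ : Subgroup G)) inferInstance
      exact ⟨H, hH, fun a b => absurd ⟨a, b⟩ hp⟩
  choose R hR hRd using hex
  set P := (Nat.card G).primeFactors.filter (fun p => (Nat.card (R p)).minFac = p) with hP
  have hPm : ∀ p ∈ P, p.Prime ∧ p ∣ Nat.card G ∧ (Nat.card (R p)).minFac = p := fun p hp => by
    rw [hP, Finset.mem_filter, Nat.mem_primeFactors] at hp
    exact ⟨hp.1.1, hp.1.2.1, hp.2⟩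
  have hcover : ∀ g : G, g ≠ 1 → ∃ i : P, ∃ x : G, x * g * x⁻¹ ∈ R i := fun g hg => by
    obtain ⟨K, hK, hle⟩ := exists_maxNil (N := Subgroup.zpowers g) (isNilpotent_zpowers g)
    have hgK : g ∈ K := hle (Subgroup.mem_zpowers g)
    have hK1 : Nat.card K ≠ 1 := fun e => hne0 hK (Subgroup.eq_bot_of_card_eq _ e)
    have hq := Nat.minFac_prime hK1
    have hqK := Nat.minFac_dvd (Nat.card K)
    have hqG := hqK.trans K.card_subgroup_dvd_card
    haveI := Fact.mk hq
    obtain ⟨c, hc⟩ := hK.exists_conj hCN (hR _) hqK (hRd _ hq hqG)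
    have key : (Nat.card (R (Nat.card K).minFac)).minFac = (Nat.card K).minFac :=
      congrArg Nat.minFac (by rw [hc, Subgroup.card_map_of_injective (MulAut.conj c).injective])
    refine ⟨⟨_, ?_⟩, c, hc.ge ⟨g, hgK, rfl⟩⟩
    rw [hP, Finset.mem_filter, Nat.mem_primeFactors]
    exact ⟨⟨hq, hqG, Nat.card_pos.ne'⟩, key⟩
  have hcard : 2 ≤ Fintype.card P := by
    obtain ⟨g, hg⟩ := exists_ne (1 : G)
    obtain ⟨i, -⟩ := hcover g hg
    by_contra hlt
    haveI : Subsingleton P := Fintype.card_le_one_iff_subsingleton.1 (by omega)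
    refine htop (hR i) (Subgroup.index_eq_one.1 (by_contra fun hne => ?_))
    obtain ⟨q, hq, hqd⟩ := Nat.exists_prime_and_dvd hne
    haveI := Fact.mk hq
    obtain ⟨x, hx⟩ := exists_prime_orderOf_dvd_card' q (hqd.trans (R i).index_dvd_card)
    obtain ⟨j, c, hc⟩ := hcover x fun e => hq.ne_one (by rw [← hx, e, orderOf_one])
    rw [Subsingleton.elim j i] at hc
    have h1 := (R i).orderOf_dvd_natCard hc
    rw [← MulAut.conj_apply, MulEquiv.orderOf_eq, hx] at h1
    exact hq.ne_one (Nat.eq_one_of_dvd_coprimes ((hR i).coprime_index hCN) h1 hqd)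
  refine CfsgLib.Char.cn_partition hcard hodd (fun i : P => Subgroup.normalizer (R i : Set G))
    (fun i => R i) (fun i => Subgroup.le_normalizer) (fun i => hNH (hR i)) (fun i => hne0 (hR i))
    (fun i => (hR i).1) (fun i x hx h hh => (Subgroup.mem_normalizer_iff.1 hx h).1 hh)
    (fun i h hh h1 => inf_le_right.trans ((hR i).centralizer_le_of_ti hCN
      (fun g => ti_of_minsimple hodd hCN hns hsol (hR i)) h hh h1))
    (fun i j hij => Nat.coprime_of_dvd fun q hq h1 h2 => hij (Subtype.ext ?_))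
    (fun i => hti (hR i)) (fun i => rfl) hcover
  haveI := Fact.mk hq
  obtain ⟨c, hc⟩ := (hR i).exists_conj hCN (hR j) h1 h2
  rw [← (hPm i i.2).2.2, ← (hPm j j.2).2.2, hc,
    Subgroup.card_map_of_injective (MulAut.conj c).injective]

/-- Feit, M. Hall and Thompson: CN-groups of odd order are soluble. -/
theorem isSolvable_of_odd : ∀ (n : ℕ) (G : Type u) [Group G] [Finite G], Nat.card G = n →
    Odd (Nat.card G) → Cfsg.IsCNGroup G → Group.IsSolvable G := by
  intro n
  induction n using Nat.strong_induction_on with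
  | _ n ih =>
  intro G _ _ hn hodd hCN
  by_contra hns
  have hsol : ∀ H : Subgroup G, H ≠ ⊤ → Group.IsSolvable H := fun H hH => by
    refine ih _ ?_ H rfl (hodd.of_dvd_nat H.card_subgroup_dvd_card) fun x hx => ?_
    · by_contra hle
      exact hH (Subgroup.eq_top_of_le_card _ (hn ▸ not_lt.1 hle))
    · haveI := hCN (x : G) fun e => hx (Subtype.ext e)
      haveI : Group.IsNilpotent ((Subgroup.centralizer ({(x : G)} : Set G)) ⊓ H : Subgroup G) :=
        isNilpotent_of_le inf_le_left this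
      refine Group.nilpotent_of_mulEquiv (G := ((Subgroup.centralizer ({(x : G)} : Set G)) ⊓ H :
        Subgroup G)) ?_
      refine MulEquiv.symm ((Subgroup.equivMapOfInjective _ H.subtype H.subtype_injective).trans
        (MulEquiv.subgroupCongr ?_))
      ext y
      simp only [Subgroup.mem_map, Subgroup.mem_inf, Subgroup.mem_centralizer_singleton_iff,
        Subgroup.coe_subtype]
      exact ⟨fun ⟨z, hz, e⟩ => e ▸ ⟨congrArg Subtype.val hz, z.2⟩,
        fun ⟨hy, hyH⟩ => ⟨⟨y, hyH⟩, Subtype.ext hy, rfl⟩⟩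
  haveI : Nontrivial G := not_subsingleton_iff_nontrivial.1 fun _ => hns inferInstance
  haveI : IsSimpleGroup G := ⟨fun N hN => by
    by_contra hcon
    push Not at hcon
    haveI := hN
    haveI := hsol N hcon.2
    haveI : Group.IsSolvable (G ⧸ N) := by
      refine ih _ ?_ (G ⧸ N) rfl (hodd.of_dvd_nat N.index_dvd_card)
        (isCNGroup_quotient hCN N inferInstance)
      rw [← hn]
      conv_rhs => rw [Subgroup.card_eq_card_quotient_mul_card_subgroup N]
      exact lt_mul_of_one_lt_right Nat.card_pos ((Subgroup.one_lt_card_iff_ne_bot N).2 hcon.1)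
    exact hns (Group.isSolvable_of_ker_le_range N.subtype (QuotientGroup.mk' N)
      (by rw [QuotientGroup.ker_mk', Subgroup.range_subtype]))⟩
  exact no_minsimple hodd hCN hns hsol

theorem not_minSimpleOdd (hG : Cfsg.IsMinSimpleOddOrder G) (hCN : Cfsg.IsCNGroup G) : False := by
  obtain ⟨hodd, hs, hnc, hsol⟩ := hG
  haveI := hs
  refine no_minsimple hodd hCN (fun h => hnc ⟨⟨fun a b => ?_⟩⟩) hsol
  exact IsSimpleGroup.comm_iff_isSolvable.2 h a b

end CfsgLib.CN
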