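import Cfsg.Prelude.Def_CharExt
import Cfsg.Agent.Lib.CharExtend
import Cfsg.Agent.Lib.CharLinear
import Mathlib.LinearAlgebra.Determinant

/-!
# Determinantal characters and extensions of coprime degree
-/

set_option autoImplicit false
set_option linter.style.haveILetI false
set_option linter.unusedSectionVars false

namespace CfsgLib.Char

open Cfsg Representation
open scoped ComplexConjugate

universe u v w

variable {G : Type u} [Group G]

/-- The determinantal character is the determinant of any representation with that character. -/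
theorem detChar_eq_det [Finite G] {n : ℕ} (ρ : Representation ℂ G (Fin n → ℂ)) (g : G) :
    detChar ρ.character g = LinearMap.det (ρ g) := by
  classical
  have h : IsCharacter G ρ.character := ⟨n, ρ, rfl⟩
  unfold detChar
  rw [dif_pos h]
  set σ := Classical.choose (Classical.choose_spec h)
  have hσ : σ.character = ρ.character := Classical.choose_spec (Classical.choose_spec h)
  obtain ⟨e⟩ := equiv_of_char_eq _ (Fin n → ℂ) (Fin (Classical.choose h) → ℂ) ρ σ rfl hσ.symm
  have he : e.toLinearEquiv.toLinearMap ∘ₗ ρ g ∘ₗ e.toLinearEquiv.symm.toLinearMap = σ g :=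
    LinearMap.ext fun v => by
      have := IntertwiningMap.isIntertwining ρ σ e.toIntertwiningMap g (e.toLinearEquiv.symm v)
      show e.toLinearEquiv (ρ g (e.toLinearEquiv.symm v)) = σ g v
      refine this.trans (congrArg (σ g) ?_)
      exact e.toLinearEquiv.apply_symm_apply v
  show LinearMap.det (σ g) = _
  rw [← he, LinearMap.det_conj]

variable {N : Subgroup G} [hN : N.Normal]

/-- A retraction of the intertwiner group gives an extension of the representation. -/
theorem exists_rep_of_retraction [Finite G] {d : ℕ} (ρ : Representation ℂ N (Fin d → ℂ))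
    [ρ.IsIrreducible] (hπ : Function.Surjective (intertwinerFst ρ))
    (f : intertwiners ρ →* ℂˣ) (hfι : ∀ a, f (intertwinerScalar ρ a) = a)
    (hfN : ∀ m ∈ (intertwinerIncl ρ).range, f m = 1) :
    ∃ τ : Representation ℂ G (Fin d → ℂ), τ.IsIrreducible ∧ (∀ n : N, τ n = ρ n) ∧
      ∀ x : intertwiners ρ, ((x.1.2 : Module.End ℂ (Fin d → ℂ))) = (f x : ℂ) • τ x.1.1 := by
  classical
  haveI := nontrivial_of_irreducible ρ
  let sc : ℂˣ →* (Module.End ℂ (Fin d → ℂ))ˣ :=
    Units.map (algebraMap ℂ (Module.End ℂ (Fin d → ℂ))).toMonoidHom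
  have hscc : ∀ (a : ℂˣ) (A : (Module.End ℂ (Fin d → ℂ))ˣ), Commute (sc a) A := fun a A =>
    Units.ext (Algebra.commutes (a : ℂ) _)
  let F : intertwiners ρ →* (Module.End ℂ (Fin d → ℂ))ˣ := MonoidHom.mk'
    (fun x => intertwinerSnd ρ x * (sc (f x))⁻¹) fun x y => by
      rw [map_mul, map_mul, map_mul, (hscc (f x) (sc (f y))).eq, mul_inv_rev]
      exact mul_mul_mul_comm' (intertwinerSnd ρ x) (intertwinerSnd ρ y) (sc (f x))⁻¹
        (sc (f y))⁻¹ (hscc (f x) (intertwinerSnd ρ y)).inv_left.eq.symm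
  have hker : (intertwinerFst ρ).ker ≤ F.ker := by
    intro x hx
    have hx1 : (x : G × (Module.End ℂ (Fin d → ℂ))ˣ).1 = 1 := hx
    obtain ⟨c, hc⟩ := schur_scalar ρ ((x : G × (Module.End ℂ (Fin d → ℂ))ˣ).2 :
        Module.End ℂ (Fin d → ℂ)) fun n => by
      have := x.2 n
      rwa [hx1, map_one, MulAut.one_apply] at this
    have hc0 : c ≠ 0 := fun h0 => by
      rw [h0, zero_smul] at hc
      exact Units.ne_zero _ hc
    have hxe : x = intertwinerScalar ρ (Units.mk0 c hc0) :=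
      Subtype.ext (Prod.ext hx1 (Units.ext (by
        rw [hc, ← Algebra.algebraMap_eq_smul_one]; rfl)))
    rw [MonoidHom.mem_ker, hxe]
    show intertwinerSnd ρ _ * (sc (f _))⁻¹ = 1
    rw [hfι, mul_inv_eq_one]
    rfl
  let R : G →* (Module.End ℂ (Fin d → ℂ))ˣ :=
    (intertwinerFst ρ).liftOfSurjective hπ ⟨F, hker⟩
  have hR : ∀ x, R (intertwinerFst ρ x) = F x := fun x =>
    MonoidHom.liftOfRightInverse_comp_apply _ _ _ ⟨F, hker⟩ x
  let τ : Representation ℂ G (Fin d → ℂ) := (Units.coeHom _).comp R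
  have hτA : ∀ x : intertwiners ρ,
      ((x.1.2 : Module.End ℂ (Fin d → ℂ))) = (f x : ℂ) • τ x.1.1 := fun x => by
    show _ = (f x : ℂ) • ((R (intertwinerFst ρ x) : (Module.End ℂ (Fin d → ℂ))ˣ) :
      Module.End ℂ (Fin d → ℂ))
    rw [hR x]
    show _ = (f x : ℂ) • ((intertwinerSnd ρ x : (Module.End ℂ (Fin d → ℂ))ˣ) *
      (sc (f x))⁻¹ : (Module.End ℂ (Fin d → ℂ))ˣ).val
    rw [Algebra.smul_def, ← map_inv sc (f x), ← (hscc (f x)⁻¹ (intertwinerSnd ρ x)).eq,
      Units.val_mul, ← mul_assoc]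
    show _ = algebraMap ℂ _ (f x : ℂ) * algebraMap ℂ _ (((f x)⁻¹ : ℂˣ) : ℂ) * _
    rw [← map_mul, Units.mul_inv, map_one, one_mul]
    rfl
  have hτN : ∀ n : N, τ n = ρ n := fun n => by
    have h := hτA (intertwinerIncl ρ n)
    rw [hfN _ ⟨n, rfl⟩, Units.val_one, one_smul] at h
    exact h.symm
  refine ⟨τ, ?_, hτN, hτA⟩
  rw [isIrreducible_iff_forall]
  refine ⟨inferInstance, fun p hp => ?_⟩
  exact subrep_eq_bot_or_eq_top ρ p fun n v hv => hτN n ▸ hp (n : G) v hv

/-- Extension with prescribed determinant when the degree is coprime to the index. -/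
theorem exists_extension_det [Finite G] {d : ℕ} (ρ : Representation ℂ N (Fin d → ℂ))
    [ρ.IsIrreducible] (hinv : ∀ (g : G) (n : N), ρ.character (MulAut.conjNormal g n) = ρ.character n)
    (hcop : N.index.Coprime d) (μ : G →* ℂˣ) (hμ : ∀ n : N, (μ n : ℂ) = LinearMap.det (ρ n)) :
    ∃ τ : Representation ℂ G (Fin d → ℂ), τ.IsIrreducible ∧ (∀ n : N, τ n = ρ n) ∧
      ∀ g : G, LinearMap.det (τ g) = μ g := by
  classical
  haveI := nontrivial_of_irreducible ρ
  have hπ := intertwinerFst_surjective ρ hinv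
  set H := N.comap (intertwinerFst ρ) with hH
  have hex : ∀ x : H, ∃ c : ℂˣ,
      ((x : intertwiners ρ).1.2 : Module.End ℂ (Fin d → ℂ)) =
        (c : ℂ) • ρ ⟨(x : intertwiners ρ).1.1, x.2⟩ := by
    intro x
    set n : N := ⟨(x : intertwiners ρ).1.1, x.2⟩ with hn
    obtain ⟨c, hc⟩ := schur_scalar ρ (ρ n⁻¹ * ((x : intertwiners ρ).1.2 : Module.End ℂ _))
      fun k => by
        rw [mul_assoc, (x : intertwiners ρ).2 k, ← mul_assoc, ← mul_assoc, ← map_mul, ← map_mul]
        congr 2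
        exact Subtype.ext (by simp [hn, mul_assoc])
    have hc0 : c ≠ 0 := fun h0 => by
      rw [h0, zero_smul] at hc
      have := ((Group.isUnit n⁻¹).map ρ).mul (x : intertwiners ρ).1.2.isUnit
      rw [hc] at this
      exact not_isUnit_zero this
    refine ⟨Units.mk0 c hc0, ?_⟩
    have h3 : ρ n * (ρ n⁻¹ * ((x : intertwiners ρ).1.2 : Module.End ℂ (Fin d → ℂ))) =
        ρ n * (c • 1) := by rw [hc]
    rwa [← mul_assoc, ← map_mul, mul_inv_cancel, map_one, one_mul, mul_smul_comm, mul_one] at h3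
  choose c hc using hex
  have huniq : ∀ (x : H) (a : ℂ),
      ((x : intertwiners ρ).1.2 : Module.End ℂ (Fin d → ℂ)) =
        a • ρ ⟨(x : intertwiners ρ).1.1, x.2⟩ → (c x : ℂ) = a := fun x a h => by
    obtain ⟨v, hv⟩ := exists_ne (0 : Fin d → ℂ)
    set n : N := ⟨(x : intertwiners ρ).1.1, x.2⟩
    have h1 : (c x : ℂ) • ρ n v = a • ρ n v := LinearMap.congr_fun ((hc x).symm.trans h) v
    refine smul_left_injective ℂ (fun h0 => hv ?_) h1
    rw [← ρ.inv_self_apply n v, h0, map_zero]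
  let φ : H →* ℂˣ := MonoidHom.mk' c fun x y => Units.ext <| by
    rw [Units.val_mul]
    refine huniq (x * y) _ ?_
    show ((x : intertwiners ρ).1.2 : Module.End ℂ (Fin d → ℂ)) *
      ((y : intertwiners ρ).1.2 : Module.End ℂ (Fin d → ℂ)) = _
    rw [hc, hc, smul_mul_smul_comm, ← map_mul]
    rfl
  haveI : H.FiniteIndex :=
    ⟨by rw [hH, Subgroup.index_comap_of_surjective _ hπ]; exact Subgroup.index_ne_zero_of_finite⟩
  have hidx : H.index = N.index := Subgroup.index_comap_of_surjective _ hπ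
  let f2 : intertwiners ρ →* ℂˣ := MonoidHom.transfer φ
  have hιH : ∀ a, intertwinerScalar ρ a ∈ H := fun a => N.one_mem
  have hφι : ∀ a, φ ⟨intertwinerScalar ρ a, hιH a⟩ = a := fun a => Units.ext (huniq _ _ (by
    show algebraMap ℂ _ (a : ℂ) = (a : ℂ) • ρ ⟨1, N.one_mem⟩
    rw [show (⟨1, N.one_mem⟩ : N) = 1 from rfl, map_one, Algebra.algebraMap_eq_smul_one]))
  have hφN : ∀ n (hn : intertwinerIncl ρ n ∈ H), φ ⟨intertwinerIncl ρ n, hn⟩ = 1 := fun n hn =>
    Units.ext (huniq _ _ (by rw [Units.val_one, one_smul]; rfl))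
  have hf2ι : ∀ a, f2 (intertwinerScalar ρ a) = a ^ N.index := fun a => by
    show MonoidHom.transfer φ (intertwinerScalar ρ a) = _
    rw [MonoidHom.transfer_eq_pow φ (intertwinerScalar ρ a) fun k g₀ _ => by
        rw [← map_pow, mul_assoc, intertwinerScalar_central, ← mul_assoc, inv_mul_cancel, one_mul]]
    rw [show (⟨intertwinerScalar ρ a ^ H.index, H.pow_mem (hιH a) _⟩ : H) =
      ⟨intertwinerScalar ρ a, hιH a⟩ ^ H.index from rfl, map_pow, hφι, hidx]
  have hf2N : ∀ n, f2 (intertwinerIncl ρ n) = 1 := fun n => by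
    haveI : Fintype (intertwiners ρ ⧸ H) := H.fintypeQuotientOfFiniteIndex
    show MonoidHom.transfer φ (intertwinerIncl ρ n) = _
    rw [MonoidHom.transfer_eq_prod_quotient_orbitRel_zpowers_quot]
    refine Finset.prod_eq_one fun q _ => ?_
    obtain ⟨m, hm⟩ := (intertwinerIncl_normal ρ).conj_mem _
      ((intertwinerIncl ρ).range.pow_mem ⟨n, rfl⟩
        (Function.minimalPeriod (intertwinerIncl ρ n • ·) q.out)) q.out.out⁻¹
    rw [inv_inv] at hm
    exact (congrArg φ (Subtype.ext hm.symm)).trans (hφN m (show (m : G) ∈ N from m.2))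
  let h : intertwiners ρ →* ℂˣ :=
    ((Units.map LinearMap.det).comp (intertwinerSnd ρ)) / (μ.comp (intertwinerFst ρ))
  have hhι : ∀ a, h (intertwinerScalar ρ a) = a ^ d := fun a => Units.ext (by
    show ((Units.map LinearMap.det (intertwinerSnd ρ (intertwinerScalar ρ a)) / μ 1 : ℂˣ) : ℂ) = _
    rw [map_one, div_one]
    show LinearMap.det (algebraMap ℂ (Module.End ℂ (Fin d → ℂ)) (a : ℂ)) = _
    rw [Algebra.algebraMap_eq_smul_one, LinearMap.det_smul, map_one, mul_one,
      Module.finrank_fin_fun, Units.val_pow_eq_pow_val])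
  have hhN : ∀ n, h (intertwinerIncl ρ n) = 1 := fun n => by
    show Units.map LinearMap.det (intertwinerSnd ρ (intertwinerIncl ρ n)) / μ n = 1
    rw [div_eq_one]
    exact Units.ext (hμ n).symm
  obtain ⟨a, b, hab⟩ : ∃ a b : ℤ, a * d + b * N.index = 1 := by
    obtain ⟨a, b, hab⟩ := (Nat.isCoprime_iff_coprime.mpr hcop.symm)
    exact ⟨a, b, hab⟩
  let f : intertwiners ρ →* ℂˣ := h ^ a * f2 ^ b
  have hfι : ∀ c, f (intertwinerScalar ρ c) = c := fun c => by
    show h _ ^ a * f2 _ ^ b = c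
    rw [hhι, hf2ι, ← zpow_natCast, ← zpow_natCast c, ← zpow_mul, ← zpow_mul, ← zpow_add,
      mul_comm (d : ℤ), mul_comm (N.index : ℤ), hab, zpow_one]
  have hfN : ∀ n, f (intertwinerIncl ρ n) = 1 := fun n => by
    show h _ ^ a * f2 _ ^ b = 1
    rw [hhN, hf2N, one_zpow, one_zpow, one_mul]
  let r : intertwiners ρ →* ℂˣ := h / f ^ d
  have hrι : ∀ c, r (intertwinerScalar ρ c) = 1 := fun c => by
    show h _ / f _ ^ d = 1
    rw [hhι, hfι, div_self']
  have hrN : ∀ n, r (intertwinerIncl ρ n) = 1 := fun n => by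
    show h _ / f _ ^ d = 1
    rw [hhN, hfN, one_pow, div_one]
  have hr : ∀ x, r x ^ (N.index : ℤ) = 1 := fun x => by
    rw [zpow_natCast, ← map_pow]
    have hx : (x ^ N.index : intertwiners ρ).1.1 ∈ N := by
      show intertwinerFst ρ (x ^ N.index) ∈ N
      rw [map_pow]
      exact Subgroup.pow_index_mem N _
    set y : H := ⟨x ^ N.index, hx⟩ with hy
    have hye : (y : intertwiners ρ) =
        intertwinerScalar ρ (c y) * intertwinerIncl ρ ⟨_, hx⟩ := by
      refine Subtype.ext (Prod.ext (one_mul _).symm (Units.ext ?_))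
      show _ = algebraMap ℂ _ (c y : ℂ) * ρ ⟨_, hx⟩
      rw [← Algebra.smul_def]
      exact hc y
    rw [show x ^ N.index = (y : intertwiners ρ) from rfl, hye, map_mul, hrι, hrN, one_mul]
  let f' : intertwiners ρ →* ℂˣ := f * r ^ a
  obtain ⟨τ, hτ, hτN, hτA⟩ := exists_rep_of_retraction ρ hπ f'
    (fun c => by show f _ * r _ ^ a = c; rw [hfι, hrι, one_zpow, mul_one])
    (by rintro _ ⟨n, rfl⟩; show f _ * r _ ^ a = 1; rw [hfN, hrN, one_zpow, one_mul])
  refine ⟨τ, hτ, hτN, fun g => ?_⟩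
  obtain ⟨x, rfl⟩ := hπ g
  have hf' : f' x ^ d = h x := by
    show (f x * r x ^ a) ^ d = h x
    rw [mul_pow, ← zpow_natCast (r x ^ a), ← zpow_mul,
      show a * (d : ℤ) = 1 - b * N.index by linarith, zpow_sub, zpow_one, mul_comm b, zpow_mul,
      hr, one_zpow, inv_one, mul_one]
    show f x ^ d * (h x / f x ^ d) = h x
    rw [mul_div_cancel]
  have h1 := congrArg LinearMap.det (hτA x)
  rw [LinearMap.det_smul, Module.finrank_fin_fun] at h1
  have h2 : ((f' x : ℂˣ) : ℂ) ^ d * μ (intertwinerFst ρ x) =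
      LinearMap.det ((x.1.2 : Module.End ℂ (Fin d → ℂ))) := by
    rw [← Units.val_pow_eq_pow_val, hf', ← Units.val_mul]
    show ((Units.map LinearMap.det (intertwinerSnd ρ x) / μ (intertwinerFst ρ x) *
      μ (intertwinerFst ρ x) : ℂˣ) : ℂ) = _
    rw [div_mul_cancel]
    rfl
  rw [h1] at h2
  exact (mul_left_cancel₀ (pow_ne_zero _ (Units.ne_zero _)) h2).symm

/-- An extension is determined by its determinant when the degree is coprime to the index. -/
theorem extension_unique_det [Finite G] {d : ℕ} (ρ : Representation ℂ N (Fin d → ℂ))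
    [ρ.IsIrreducible] (hcop : N.index.Coprime d) {χ χ' : G → ℂ} (hχ : IsCharacter G χ)
    (hχ' : IsCharacter G χ') (h : ∀ n : N, χ n = ρ.character n)
    (h' : ∀ n : N, χ' n = ρ.character n) (hdet : detChar χ = detChar χ') : χ = χ' := by
  classical
  haveI := nontrivial_of_irreducible ρ
  have key : ∀ {ψ : G → ℂ}, IsCharacter G ψ → (∀ n : N, ψ n = ρ.character n) →
      ∃ τ : Representation ℂ G (Fin d → ℂ), τ.character = ψ ∧ ∀ n : N, τ n = ρ n := by
    rintro ψ ⟨m, σ, rfl⟩ hres
    obtain ⟨e⟩ := equiv_of_char_eq _ (Fin d → ℂ) (Fin m → ℂ) ρ (σ.comp N.subtype) rfl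
      (funext fun n => (hres n).symm)
    let τ : Representation ℂ G (Fin d → ℂ) :=
      { toFun := fun x => e.toLinearEquiv.symm.toLinearMap ∘ₗ σ x ∘ₗ e.toLinearEquiv.toLinearMap
        map_one' := LinearMap.ext fun v => by
          show e.toLinearEquiv.symm (σ 1 (e.toLinearEquiv v)) = v
          rw [map_one]; exact e.toLinearEquiv.symm_apply_apply v
        map_mul' := fun x y => LinearMap.ext fun v => by
          show e.toLinearEquiv.symm (σ (x * y) (e.toLinearEquiv v)) = e.toLinearEquiv.symm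
            (σ x (e.toLinearEquiv (e.toLinearEquiv.symm (σ y (e.toLinearEquiv v)))))
          rw [map_mul, LinearEquiv.apply_symm_apply]; rfl }
    refine ⟨τ, funext fun g => ?_, fun n => LinearMap.ext fun v => ?_⟩
    · show LinearMap.trace ℂ _ (e.toLinearEquiv.symm.toLinearMap ∘ₗ σ g ∘ₗ
        e.toLinearEquiv.toLinearMap) = _
      exact LinearMap.trace_conj' (σ g) e.toLinearEquiv.symm
    · have h1 : e.toLinearEquiv (ρ n v) = σ n (e.toLinearEquiv v) :=
        IntertwiningMap.isIntertwining ρ (σ.comp N.subtype) e.toIntertwiningMap n v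
      show e.toLinearEquiv.symm (σ n (e.toLinearEquiv v)) = ρ n v
      rw [← h1, LinearEquiv.symm_apply_apply]
  obtain ⟨τ, rfl, hτ⟩ := key hχ h
  obtain ⟨τ', rfl, hτ'⟩ := key hχ' h'
  have hex : ∀ g : G, ∃ c : ℂ, τ' g = c • τ g := by
    intro g
    obtain ⟨c, hc⟩ := schur_scalar ρ (τ g⁻¹ * τ' g) fun n => by
      have h1 : τ' g * ρ n = ρ (MulAut.conjNormal g n) * τ' g := by
        rw [← hτ', ← hτ', ← map_mul, ← map_mul]
        congr 1
        simp [MulAut.conjNormal_apply]
      have h2 : τ g⁻¹ * ρ (MulAut.conjNormal g n) = ρ n * τ g⁻¹ := by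
        rw [← hτ, ← hτ, ← map_mul, ← map_mul]
        congr 1
        simp [MulAut.conjNormal_apply, mul_assoc]
      rw [mul_assoc, h1, ← mul_assoc, h2, mul_assoc]
    refine ⟨c, ?_⟩
    have h3 : τ g * (τ g⁻¹ * τ' g) = τ g * (c • 1) := by rw [hc]
    rwa [← mul_assoc, ← map_mul, mul_inv_cancel, map_one, one_mul, mul_smul_comm, mul_one] at h3
  choose c hc using hex
  have hinj : ∀ (g : G) (a b : ℂ), a • τ g = b • τ g → a = b := fun g a b e => by
    obtain ⟨v, hv⟩ := exists_ne (0 : Fin d → ℂ)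
    have h1 : a • τ g v = b • τ g v := LinearMap.congr_fun e v
    refine smul_left_injective ℂ (fun h0 => hv ?_) h1
    rw [← τ.inv_self_apply g v, h0, map_zero]
  have hcd : ∀ g, c g ^ d = 1 := fun g => by
    have h1 := congrFun hdet g
    rw [detChar_eq_det, detChar_eq_det, hc g, LinearMap.det_smul, Module.finrank_fin_fun] at h1
    have h2 : LinearMap.det (τ g) ≠ 0 :=
      (((Group.isUnit g).map τ).map LinearMap.det).ne_zero
    exact (mul_eq_right₀ h2).mp h1.symm
  have hcm : ∀ g, c g ^ N.index = 1 := fun g => by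
    have hcpow : ∀ k : ℕ, τ' (g ^ k) = c g ^ k • τ (g ^ k) := fun k => by
      rw [map_pow, map_pow, hc g, smul_pow]
    have hn := Subgroup.pow_index_mem N g
    refine hinj (g ^ N.index) _ _ ?_
    rw [one_smul, ← hcpow]
    exact (hτ' ⟨_, hn⟩).trans (hτ ⟨_, hn⟩).symm
  funext g
  have hc1 : c g = 1 := by
    have h1 := (pow_gcd_eq_one (a := c g)).mpr ⟨hcd g, hcm g⟩
    rwa [Nat.Coprime.gcd_eq_one hcop.symm, pow_one] at h1
  show LinearMap.trace ℂ _ (τ g) = LinearMap.trace ℂ _ (τ' g)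
  rw [hc g, hc1, one_smul]

end CfsgLib.Char
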