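import Mathlib.NumberTheory.Zsqrtd.Basic
import Mathlib.Data.ZMod.Basic
import Mathlib.Algebra.BigOperators.Group.Finset.Basic

/-!
# Tables for the group of invertible two by two matrices over the field with three elements
-/

set_option autoImplicit false

namespace CfsgLib.GLTwoThree

/-- The ring generated by a square root of `-2`. -/
abbrev R : Type := Zsqrtd (-2)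

/-- A matrix over the field with three elements, as a quadruple. -/
abbrev Q : Type := ZMod 3 × ZMod 3 × ZMod 3 × ZMod 3

/-- The product of two matrices. -/
def qm (a b : Q) : Q :=
  (a.1 * b.1 + a.2.1 * b.2.2.1, a.1 * b.2.1 + a.2.1 * b.2.2.2,
    a.2.2.1 * b.1 + a.2.2.2 * b.2.2.1, a.2.2.1 * b.2.1 + a.2.2.2 * b.2.2.2)

/-- The determinant. -/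
def qdet (a : Q) : ZMod 3 := a.1 * a.2.2.2 - a.2.1 * a.2.2.1

/-- The identity matrix. -/
def qone : Q := (1, 0, 0, 1)

/-- Minus the identity matrix. -/
def qneg : Q := (2, 0, 0, 2)

/-- The invertible matrices. -/
def U : Finset Q := Finset.univ.filter fun a => qdet a ≠ 0

/-- The involutions. -/
def J : Finset Q := U.filter fun a => qm a a = qone ∧ a ≠ qone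

/-- The elements with a power equal to minus the identity. -/
def inS (a : Q) : Prop :=
  a = qneg ∨ qm a a = qneg ∨ qm (qm a a) a = qneg ∨ qm (qm a a) (qm a a) = qneg

instance (a : Q) : Decidable (inS a) := by unfold inS; infer_instance

/-- A two-dimensional representation. -/
def tab : List (R × R × R × R) :=
  [(⟨0, 0⟩, ⟨0, 0⟩, ⟨0, 0⟩, ⟨0, 0⟩), (⟨0, 0⟩, ⟨0, 0⟩, ⟨0, 0⟩, ⟨0, 0⟩), (⟨0, 0⟩, ⟨0, 0⟩, ⟨0, 0⟩, ⟨0, 0⟩),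
   (⟨0, 0⟩, ⟨0, 0⟩, ⟨0, 0⟩, ⟨0, 0⟩), (⟨0, 0⟩, ⟨0, 0⟩, ⟨0, 0⟩, ⟨0, 0⟩), (⟨0, 0⟩, ⟨0, 0⟩, ⟨0, 0⟩, ⟨0, 0⟩),
   (⟨0, 0⟩, ⟨0, 0⟩, ⟨0, 0⟩, ⟨0, 0⟩), (⟨0, 0⟩, ⟨0, 0⟩, ⟨0, 0⟩, ⟨0, 0⟩), (⟨0, 0⟩, ⟨0, 0⟩, ⟨0, 0⟩, ⟨0, 0⟩),
   (⟨0, 0⟩, ⟨0, 0⟩, ⟨0, 0⟩, ⟨0, 0⟩), (⟨0, 0⟩, ⟨0, 0⟩, ⟨0, 0⟩, ⟨0, 0⟩), (⟨0, 0⟩, ⟨0, 0⟩, ⟨0, 0⟩, ⟨0, 0⟩),
   (⟨-1, 0⟩, ⟨-1, -1⟩, ⟨0, 0⟩, ⟨1, 0⟩), (⟨0, 0⟩, ⟨1, 0⟩, ⟨1, 0⟩, ⟨0, 1⟩), (⟨1, 0⟩, ⟨0, 1⟩, ⟨-1, 0⟩, ⟨-1, -1⟩),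
   (⟨-1, -1⟩, ⟨0, -1⟩, ⟨2, 0⟩, ⟨1, 1⟩), (⟨2, 0⟩, ⟨1, 1⟩, ⟨-1, 1⟩, ⟨-1, 0⟩), (⟨-1, 1⟩, ⟨-1, 0⟩, ⟨-1, -1⟩, ⟨0, -1⟩),
   (⟨0, 0⟩, ⟨0, 0⟩, ⟨0, 0⟩, ⟨0, 0⟩), (⟨0, 0⟩, ⟨0, 0⟩, ⟨0, 0⟩, ⟨0, 0⟩), (⟨0, 0⟩, ⟨0, 0⟩, ⟨0, 0⟩, ⟨0, 0⟩),
   (⟨1, 1⟩, ⟨0, 1⟩, ⟨-2, 0⟩, ⟨-1, -1⟩), (⟨1, -1⟩, ⟨1, 0⟩, ⟨1, 1⟩, ⟨0, 1⟩), (⟨-2, 0⟩, ⟨-1, -1⟩, ⟨1, -1⟩, ⟨1, 0⟩),
   (⟨1, 0⟩, ⟨1, 1⟩, ⟨0, 0⟩, ⟨-1, 0⟩), (⟨-1, 0⟩, ⟨0, -1⟩, ⟨1, 0⟩, ⟨1, 1⟩), (⟨0, 0⟩, ⟨-1, 0⟩, ⟨-1, 0⟩, ⟨0, -1⟩),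
   (⟨0, 0⟩, ⟨0, 0⟩, ⟨0, 0⟩, ⟨0, 0⟩), (⟨1, 0⟩, ⟨0, 0⟩, ⟨0, 0⟩, ⟨1, 0⟩), (⟨1, 1⟩, ⟨-1, 1⟩, ⟨-2, 0⟩, ⟨-1, -1⟩),
   (⟨0, 0⟩, ⟨0, 0⟩, ⟨0, 0⟩, ⟨0, 0⟩), (⟨0, 0⟩, ⟨1, 0⟩, ⟨-1, 0⟩, ⟨-1, 0⟩), (⟨-2, 0⟩, ⟨-1, -1⟩, ⟨1, -1⟩, ⟨2, 0⟩),
   (⟨0, 0⟩, ⟨0, 0⟩, ⟨0, 0⟩, ⟨0, 0⟩), (⟨-1, 0⟩, ⟨-1, 0⟩, ⟨1, 0⟩, ⟨0, 0⟩), (⟨1, -1⟩, ⟨2, 0⟩, ⟨1, 1⟩, ⟨-1, 1⟩),
   (⟨0, 0⟩, ⟨0, 0⟩, ⟨0, 0⟩, ⟨0, 0⟩), (⟨-1, -1⟩, ⟨1, -1⟩, ⟨1, 0⟩, ⟨0, 1⟩), (⟨0, -1⟩, ⟨1, -1⟩, ⟨1, 1⟩, ⟨0, 1⟩),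
   (⟨1, 1⟩, ⟨0, 1⟩, ⟨-1, 0⟩, ⟨-1, 0⟩), (⟨0, 0⟩, ⟨0, 0⟩, ⟨0, 0⟩, ⟨0, 0⟩), (⟨1, 0⟩, ⟨0, 1⟩, ⟨0, 1⟩, ⟨-1, 0⟩),
   (⟨0, 1⟩, ⟨-1, 0⟩, ⟨-1, -1⟩, ⟨1, -1⟩), (⟨-1, 0⟩, ⟨-1, 0⟩, ⟨0, -1⟩, ⟨1, -1⟩), (⟨0, 0⟩, ⟨0, 0⟩, ⟨0, 0⟩, ⟨0, 0⟩),
   (⟨0, 0⟩, ⟨0, 0⟩, ⟨0, 0⟩, ⟨0, 0⟩), (⟨0, 1⟩, ⟨-1, 1⟩, ⟨-1, 0⟩, ⟨-1, -1⟩), (⟨-1, 0⟩, ⟨0, 0⟩, ⟨1, -1⟩, ⟨1, 0⟩),
   (⟨-1, 0⟩, ⟨-1, -1⟩, ⟨1, -1⟩, ⟨2, 0⟩), (⟨1, -1⟩, ⟨1, 0⟩, ⟨0, 1⟩, ⟨-1, 0⟩), (⟨0, 0⟩, ⟨0, 0⟩, ⟨0, 0⟩, ⟨0, 0⟩),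
   (⟨0, 1⟩, ⟨-1, 0⟩, ⟨-1, 0⟩, ⟨0, 0⟩), (⟨0, 0⟩, ⟨0, 0⟩, ⟨0, 0⟩, ⟨0, 0⟩), (⟨1, -1⟩, ⟨2, 0⟩, ⟨0, 1⟩, ⟨-1, 1⟩),
   (⟨0, 0⟩, ⟨0, 0⟩, ⟨0, 0⟩, ⟨0, 0⟩), (⟨-1, -1⟩, ⟨1, -1⟩, ⟨2, 0⟩, ⟨1, 1⟩), (⟨-1, 0⟩, ⟨0, 0⟩, ⟨0, 0⟩, ⟨-1, 0⟩),
   (⟨0, 0⟩, ⟨0, 0⟩, ⟨0, 0⟩, ⟨0, 0⟩), (⟨-1, 1⟩, ⟨-2, 0⟩, ⟨-1, -1⟩, ⟨1, -1⟩), (⟨1, 0⟩, ⟨1, 0⟩, ⟨-1, 0⟩, ⟨0, 0⟩),
   (⟨0, 0⟩, ⟨0, 0⟩, ⟨0, 0⟩, ⟨0, 0⟩), (⟨2, 0⟩, ⟨1, 1⟩, ⟨-1, 1⟩, ⟨-2, 0⟩), (⟨0, 0⟩, ⟨-1, 0⟩, ⟨1, 0⟩, ⟨1, 0⟩),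
   (⟨0, 0⟩, ⟨0, 0⟩, ⟨0, 0⟩, ⟨0, 0⟩), (⟨1, 0⟩, ⟨0, 0⟩, ⟨-1, 1⟩, ⟨-1, 0⟩), (⟨0, -1⟩, ⟨1, -1⟩, ⟨1, 0⟩, ⟨1, 1⟩),
   (⟨0, -1⟩, ⟨1, 0⟩, ⟨1, 0⟩, ⟨0, 0⟩), (⟨-1, 1⟩, ⟨-2, 0⟩, ⟨0, -1⟩, ⟨1, -1⟩), (⟨0, 0⟩, ⟨0, 0⟩, ⟨0, 0⟩, ⟨0, 0⟩),
   (⟨1, 0⟩, ⟨1, 1⟩, ⟨-1, 1⟩, ⟨-2, 0⟩), (⟨0, 0⟩, ⟨0, 0⟩, ⟨0, 0⟩, ⟨0, 0⟩), (⟨-1, 1⟩, ⟨-1, 0⟩, ⟨0, -1⟩, ⟨1, 0⟩),
   (⟨0, 0⟩, ⟨0, 0⟩, ⟨0, 0⟩, ⟨0, 0⟩), (⟨0, 1⟩, ⟨-1, 1⟩, ⟨-1, -1⟩, ⟨0, -1⟩), (⟨1, 1⟩, ⟨-1, 1⟩, ⟨-1, 0⟩, ⟨0, -1⟩),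
   (⟨0, -1⟩, ⟨1, 0⟩, ⟨1, 1⟩, ⟨-1, 1⟩), (⟨0, 0⟩, ⟨0, 0⟩, ⟨0, 0⟩, ⟨0, 0⟩), (⟨1, 0⟩, ⟨1, 0⟩, ⟨0, 1⟩, ⟨-1, 1⟩),
   (⟨-1, -1⟩, ⟨0, -1⟩, ⟨1, 0⟩, ⟨1, 0⟩), (⟨-1, 0⟩, ⟨0, -1⟩, ⟨0, -1⟩, ⟨1, 0⟩), (⟨0, 0⟩, ⟨0, 0⟩, ⟨0, 0⟩, ⟨0, 0⟩)]

/-- The matrix of an element in the two-dimensional representation. -/
def rep (a : Q) : R × R × R × R :=
  tab.getD (27 * a.1.val + 9 * a.2.1.val + 3 * a.2.2.1.val + a.2.2.2.val) (0, 0, 0, 0)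

/-- The product of two matrices over `R`. -/
def rm (a b : R × R × R × R) : R × R × R × R :=
  (a.1 * b.1 + a.2.1 * b.2.2.1, a.1 * b.2.1 + a.2.1 * b.2.2.2,
    a.2.2.1 * b.1 + a.2.2.2 * b.2.2.1, a.2.2.1 * b.2.1 + a.2.2.2 * b.2.2.2)

/-- The determinant character. -/
def C2 (a : Q) : R := if qdet a = 1 then 1 else -1

/-- The character of the two-dimensional representation. -/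
def C6 (a : Q) : R := (rep a).1 + (rep a).2.2.2

/-- Its conjugate. -/
def C7 (a : Q) : R := star (C6 a)

/-- The first character of degree three. -/
def C4 (a : Q) : R := C6 a * C6 a - C2 a

/-- The second character of degree three. -/
def C5 (a : Q) : R := C6 a * C7 a - 1

/-- The rational character of degree two. -/
def C3 (a : Q) : R := C4 a * C4 a - C4 a - C5 a - 1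

/-- The character of degree four. -/
def C8 (a : Q) : R := C6 a * C3 a

/-- The first exceptional function. -/
def tA (a : Q) : R := 1 + C3 a - C4 a

/-- The second exceptional function. -/
def tB (a : Q) : R := 1 + C5 a - C8 a

/-- The third exceptional function. -/
def tG (a : Q) : R := C2 a + C3 a - C5 a

/-- The fourth exceptional function. -/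
def tD (a : Q) : R := C3 a - C6 a

/-- The fifth exceptional function. -/
def tE (a : Q) : R := C3 a - C7 a

theorem rep_one : rep qone = (1, 0, 0, 1) := by decide +kernel

theorem rep_mul : ∀ a ∈ U, ∀ b ∈ U, rep (qm a b) = rm (rep a) (rep b) := by decide +kernel

theorem supported : ∀ a ∈ U, ¬ inS a →
    tA a = 0 ∧ tB a = 0 ∧ tG a = 0 ∧ tD a = 0 ∧ tE a = 0 := by decide +kernel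

theorem gram :
    (∑ a ∈ U, tA a * star (tA a) = 144) ∧ (∑ a ∈ U, tB a * star (tB a) = 144) ∧
    (∑ a ∈ U, tG a * star (tG a) = 144) ∧ (∑ a ∈ U, tD a * star (tD a) = 96) ∧
    (∑ a ∈ U, tE a * star (tE a) = 96) ∧
    (∑ a ∈ U, tA a * star (tB a) = 48) ∧ (∑ a ∈ U, tA a * star (tG a) = 48) ∧
    (∑ a ∈ U, tA a * star (tD a) = 48) ∧ (∑ a ∈ U, tA a * star (tE a) = 48) ∧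
    (∑ a ∈ U, tB a * star (tG a) = -48) ∧ (∑ a ∈ U, tB a * star (tD a) = 0) ∧
    (∑ a ∈ U, tB a * star (tE a) = 0) ∧ (∑ a ∈ U, tG a * star (tD a) = 48) ∧
    (∑ a ∈ U, tG a * star (tE a) = 48) ∧ (∑ a ∈ U, tD a * star (tE a) = 48) := by decide +kernel

theorem trivial_sums :
    (∑ a ∈ U, tA a = 48) ∧ (∑ a ∈ U, tB a = 48) ∧ (∑ a ∈ U, tG a = 0) ∧ (∑ a ∈ U, tD a = 0) ∧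
      (∑ a ∈ U, tE a = 0) := by decide +kernel

theorem at_neg : ∀ a ∈ U,
    4 * tB a - 3 * tA a + tG a + 2 * (tD a + tE a) = if a = qneg then 48 else 0 := by decide +kernel

theorem C4_split : ∀ a ∈ U, 48 * C4 a = 12 * tB a - 27 * tA a + 9 * tG a + 6 * (tD a + tE a)
    + (if a = qone then 144 else 0) + (if a ∈ J.erase qneg then 48 else 0) := by decide +kernel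

theorem card_U : U.card = 48 := by decide +kernel

theorem card_J : J.card = 13 ∧ (J.erase qneg).card = 12 := by decide +kernel

theorem pair_sums : (∑ a ∈ J, ∑ b ∈ J, tA (qm a b) = 96) ∧ (∑ a ∈ J, ∑ b ∈ J, tB (qm a b) = 192) := by
  decide +kernel

theorem unique_power : ∀ a ∈ U, inS a →
    ∀ b ∈ [a, qm a a, qm (qm a a) a, qm (qm a a) (qm a a)], qm b b = qone → b ≠ qone →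
      b = qneg := by decide +kernel

theorem center : ∀ a ∈ U, (∀ b ∈ U, qm a b = qm b a) → a = qone ∨ a = qneg := by decide +kernel

theorem centralizer_small : ∀ a ∈ J, a ≠ qneg → (U.filter fun b => qm a b = qm b a).card ≤ 4 := by
  decide +kernel

theorem det_one_involution : ∀ a ∈ J, qdet a = 1 → a = qneg := by decide +kernel

theorem inS_inv : ∀ a ∈ U, ∀ b ∈ U, qm a b = qone → inS a → inS b := by decide +kernel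

theorem not_inS_one : ¬ inS qone := by decide +kernel

theorem C2_mul : ∀ a ∈ U, ∀ b ∈ U, C2 (qm a b) = C2 a * C2 b := by decide +kernel

theorem noncommutative : ∃ a ∈ U, ∃ b ∈ U, qm a b ≠ qm b a := by decide +kernel

end CfsgLib.GLTwoThree
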