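import Cfsg.Agent.Lib.CharClifford
import Cfsg.Agent.Lib.CharDet
import Mathlib.RepresentationTheory.Invariants
import Mathlib.RepresentationTheory.Character
import Mathlib.LinearAlgebra.PID

/-!
# Extensions of invariant characters and Gallagher's theorem
-/

set_option autoImplicit false
set_option linter.style.haveILetI false
set_option linter.unusedSectionVars false

namespace CfsgLib.Char

open Cfsg
open scoped ComplexConjugate

universe u

variable {G : Type u} [Group G]

/-! ### Linear characters as functions -/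

theorem orderOf_homFn (f : G →* ℂˣ) : orderOf (fun g => (f g : ℂ)) = orderOf f :=
  orderOf_injective
    ({ toFun := fun φ g => (φ g : ℂ), map_one' := rfl, map_mul' := fun _ _ => rfl } :
      (G →* ℂˣ) →* (G → ℂ))
    (fun a b h => MonoidHom.ext fun g => Units.ext (congrFun h g)) f

theorem homPow_apply (f : G →* ℂˣ) (a : ℕ) (g : G) : (f ^ a) g = f g ^ a := MonoidHom.pow_apply f a g

/-- Extension of an invariant linear character of coprime order. -/
theorem linear_extension_unique [Finite G] (N : Subgroup G) [hN : N.Normal] {lam : N → ℂ}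
    (hlam : IsCharacter N lam ∧ lam 1 = 1)
    (hinv : ∀ (g : G) (n : N), lam ⟨g * n * g⁻¹, hN.conj_mem (n : G) n.2 g⟩ = lam n)
    (hcop : Nat.Coprime N.index (orderOf lam)) :
    ∃ μ : G → ℂ, (IsCharacter G μ ∧ μ 1 = 1 ∧ (∀ n : N, μ n = lam n) ∧ orderOf μ = orderOf lam) ∧
      ∀ μ' : G → ℂ, IsCharacter G μ' ∧ μ' 1 = 1 → (∀ n : N, μ' n = lam n) →
        Nat.Coprime N.index (orderOf μ') → μ' = μ := by
  obtain ⟨l, rfl⟩ := exists_hom_of_degree_one hlam.1 hlam.2
  rw [orderOf_homFn] at hcop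
  obtain ⟨μ₀, hμ₀⟩ := exists_linear_extension l
    (fun g n => Units.ext (by
      rw [show (MulAut.conjNormal g : MulAut N) n = ⟨g * n * g⁻¹, hN.conj_mem (n : G) n.2 g⟩ from
        Subtype.ext (MulAut.conjNormal_apply g n)]
      exact hinv g n))
    fun p _ hpl => ⟨N, le_rfl, l, hcop.coprime_dvd_right hpl, fun n => rfl⟩
  set o := orderOf l with ho
  have hlo : ∀ n : N, l n ^ o = 1 := fun n => by
    rw [← homPow_apply, ho, pow_orderOf_eq_one]; rfl
  have hind : ∀ g : G, (μ₀ g ^ o) ^ N.index = 1 := fun g => by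
    rw [← pow_mul, mul_comm, pow_mul, ← map_pow,
      hμ₀ ⟨g ^ N.index, Subgroup.pow_index_mem N g⟩]
    exact hlo _
  obtain ⟨a, ha1, ha0⟩ := Nat.chineseRemainder hcop.symm 1 0
  have hμN : ∀ n : N, (μ₀ ^ a) (n : G) = l n := fun n => by
    rw [homPow_apply, hμ₀, pow_eq_pow_mod a (hlo n), ha1, ← pow_eq_pow_mod 1 (hlo n), pow_one]
  have hord : orderOf (μ₀ ^ a) = o := by
    refine Nat.dvd_antisymm (orderOf_dvd_of_pow_eq_one (MonoidHom.ext fun g => ?_))
      (orderOf_dvd_of_pow_eq_one (MonoidHom.ext fun n => ?_))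
    · rw [homPow_apply, homPow_apply, ← pow_mul, mul_comm, pow_mul, MonoidHom.one_apply]
      obtain ⟨k, hk⟩ := Nat.modEq_zero_iff_dvd.mp ha0
      rw [hk, pow_mul, hind g, one_pow]
    · rw [homPow_apply, MonoidHom.one_apply, ← hμN n, ← homPow_apply, pow_orderOf_eq_one]
      rfl
  refine ⟨fun g => ((μ₀ ^ a) g : ℂ), ⟨isCharacter_hom _, by simp, fun n => congrArg Units.val (hμN n), by
    rw [orderOf_homFn, orderOf_homFn, hord]⟩, ?_⟩
  rintro μ' ⟨hc, h1⟩ hres hcop'
  obtain ⟨f, rfl⟩ := exists_hom_of_degree_one hc h1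
  rw [orderOf_homFn] at hcop'
  funext g
  suffices h : f g = (μ₀ ^ a) g by rw [h]
  set x := f g * ((μ₀ ^ a) g)⁻¹ with hx
  have hxi : x ^ N.index = 1 := by
    rw [hx, mul_pow, inv_pow, ← map_pow, ← map_pow, mul_inv_eq_one]
    exact Units.ext ((hres ⟨_, Subgroup.pow_index_mem N g⟩).trans
      (congrArg Units.val (hμN ⟨_, Subgroup.pow_index_mem N g⟩)).symm)
  have hxo : x ^ (orderOf f * o) = 1 := by
    rw [hx, mul_pow, inv_pow, pow_mul, ← homPow_apply, pow_orderOf_eq_one, MonoidHom.one_apply,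
      one_pow, mul_comm (orderOf f), pow_mul, ← homPow_apply (μ₀ ^ a), ← hord, pow_orderOf_eq_one,
      MonoidHom.one_apply, one_pow, inv_one, mul_one]
  have h0 : orderOf x = 1 := Nat.dvd_one.mp ((hcop'.mul_right hcop).gcd_eq_one ▸
    Nat.dvd_gcd (orderOf_dvd_of_pow_eq_one hxi) (orderOf_dvd_of_pow_eq_one hxo))
  exact mul_inv_eq_one.mp (orderOf_eq_one_iff.mp h0)

/-! ### Determinants and extensions -/

theorem detChar_isLinear [Finite G] {χ : G → ℂ} (hχ : IsCharacter G χ) :
    IsCharacter G (detChar χ) ∧ detChar χ 1 = 1 := by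
  obtain ⟨n, ρ, rfl⟩ := hχ
  refine ⟨?_, by rw [detChar_eq_det, map_one, map_one]⟩
  let d : G →* ℂ := ⟨⟨fun g => LinearMap.det (ρ g), by simp⟩, fun a b => by simp⟩
  rw [show detChar ρ.character = fun g => (d.toHomUnits g : ℂ) from
    funext fun g => (detChar_eq_det ρ g).trans rfl]
  exact isCharacter_hom _

theorem detChar_restrict [Finite G] (N : Subgroup G) {χ : G → ℂ} (hχ : IsCharacter G χ) {ϑ : N → ℂ}
    (hres : ∀ n : N, χ n = ϑ n) (n : N) : detChar χ n = detChar ϑ n := by
  obtain ⟨m, ρ, rfl⟩ := hχ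
  let σ : Representation ℂ N (Fin m → ℂ) := ρ.comp N.subtype
  rw [show ϑ = σ.character from funext fun x => (hres x).symm, detChar_eq_det, detChar_eq_det]
  rfl

theorem detChar_invariant [Finite G] (N : Subgroup G) [hN : N.Normal] {ϑ : N → ℂ}
    (hϑ : IsCharacter N ϑ)
    (hinv : ∀ (g : G) (n : N), ϑ ⟨g * n * g⁻¹, hN.conj_mem (n : G) n.2 g⟩ = ϑ n) (g : G) (n : N) :
    detChar ϑ ⟨g * n * g⁻¹, hN.conj_mem (n : G) n.2 g⟩ = detChar ϑ n := by
  obtain ⟨m, ρ, rfl⟩ := hϑ
  let σ : Representation ℂ N (Fin m → ℂ) := ρ.comp (MulAut.conjNormal g : MulAut N).toMonoidHom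
  have hσ : σ.character = ρ.character := funext fun x => by
    refine Eq.trans ?_ (hinv g x)
    show ρ.character ((MulAut.conjNormal g : MulAut N) x) = _
    exact congrArg _ (Subtype.ext (MulAut.conjNormal_apply g x))
  conv_rhs => rw [← hσ, detChar_eq_det]
  rw [detChar_eq_det]
  show _ = LinearMap.det (ρ ((MulAut.conjNormal g : MulAut N) n))
  rw [show (MulAut.conjNormal g : MulAut N) n = ⟨g * n * g⁻¹, hN.conj_mem (n : G) n.2 g⟩ from
    Subtype.ext (MulAut.conjNormal_apply g n)]

/-- An invariant character of degree coprime to the index extends exactly when its determinant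
does. -/
theorem extends_iff_det [Finite G] (N : Subgroup G) [hN : N.Normal] {ϑ : N → ℂ}
    (hϑ : IsIrrCharacter N ϑ)
    (hinv : ∀ (g : G) (n : N), ϑ ⟨g * n * g⁻¹, hN.conj_mem (n : G) n.2 g⟩ = ϑ n) {d : ℕ}
    (hd : ϑ 1 = d) (hcop : Nat.Coprime N.index d) :
    (∃ χ : G → ℂ, IsIrrCharacter G χ ∧ (∀ n : N, χ n = ϑ n)) ↔
      ∃ μ : G → ℂ, IsCharacter G μ ∧ μ 1 = 1 ∧ ∀ n : N, μ n = detChar ϑ n := by
  constructor
  · rintro ⟨χ, hχ, hres⟩
    exact ⟨detChar χ, (detChar_isLinear hχ.isCharacter').1, (detChar_isLinear hχ.isCharacter').2,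
      fun n => detChar_restrict N hχ.isCharacter' hres n⟩
  · rintro ⟨μ, hμ, hμ1, hμN⟩
    obtain ⟨f, rfl⟩ := exists_hom_of_degree_one hμ hμ1
    obtain ⟨m, ρ, hρ, rfl⟩ := hϑ
    haveI := hρ
    have hm : m = d := by rw [ρ.char_one, Module.finrank_fin_fun] at hd; exact_mod_cast hd
    subst hm
    obtain ⟨τ, hτ, hres, -⟩ := exists_extension_det ρ (fun g n => by
      rw [show (MulAut.conjNormal g : MulAut N) n = ⟨g * n * g⁻¹, hN.conj_mem (n : G) n.2 g⟩ from
        Subtype.ext (MulAut.conjNormal_apply g n)]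
      exact hinv g n) hcop f fun n => (hμN n).trans (detChar_eq_det ρ n)
    exact ⟨τ.character, ⟨_, τ, hτ, rfl⟩, fun n => congrArg (LinearMap.trace ℂ _) (hres n)⟩

/-- The canonical extension. -/
theorem canonical_extension [Finite G] (N : Subgroup G) [hN : N.Normal] {ϑ : N → ℂ}
    (hϑ : IsIrrCharacter N ϑ)
    (hinv : ∀ (g : G) (n : N), ϑ ⟨g * n * g⁻¹, hN.conj_mem (n : G) n.2 g⟩ = ϑ n) {d : ℕ}
    (hd : ϑ 1 = d) (hcop : Nat.Coprime N.index (detOrder ϑ * d)) :
    ∃ χ : G → ℂ, (IsIrrCharacter G χ ∧ (∀ n : N, χ n = ϑ n) ∧ detOrder χ = detOrder ϑ) ∧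
      ∀ χ' : G → ℂ, IsIrrCharacter G χ' → (∀ n : N, χ' n = ϑ n) →
        Nat.Coprime N.index (detOrder χ') → χ' = χ := by
  obtain ⟨μ, ⟨hμc, hμ1, hμN, hμo⟩, huniq⟩ := linear_extension_unique N
    (detChar_isLinear hϑ.isCharacter') (detChar_invariant N hϑ.isCharacter' hinv)
    (hcop.coprime_dvd_right (dvd_mul_right _ _))
  obtain ⟨f, rfl⟩ := exists_hom_of_degree_one hμc hμ1
  have hcd : N.index.Coprime d := hcop.coprime_dvd_right (dvd_mul_left _ _)
  obtain ⟨m, ρ, hρ, rfl⟩ := hϑ
  haveI := hρ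
  have hm : m = d := by rw [ρ.char_one, Module.finrank_fin_fun] at hd; exact_mod_cast hd
  subst hm
  obtain ⟨τ, hτ, hres, hdet⟩ := exists_extension_det ρ (fun g n => by
      rw [show (MulAut.conjNormal g : MulAut N) n = ⟨g * n * g⁻¹, hN.conj_mem (n : G) n.2 g⟩ from
        Subtype.ext (MulAut.conjNormal_apply g n)]
      exact hinv g n) hcd f fun n => (hμN n).trans (detChar_eq_det ρ n)
  have hres' : ∀ n : N, τ.character n = ρ.character n := fun n =>
    congrArg (LinearMap.trace ℂ _) (hres n)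
  have hdc : detChar τ.character = fun g => (f g : ℂ) :=
    funext fun g => (detChar_eq_det τ g).trans (hdet g)
  refine ⟨τ.character, ⟨⟨_, τ, hτ, rfl⟩, hres', by rw [detOrder, hdc, hμo]; rfl⟩,
    fun χ' hχ' h' hc' => ?_⟩
  refine extension_unique_det ρ hcd hχ'.isCharacter' ⟨_, τ, rfl⟩ h' hres' ?_
  rw [hdc]
  exact huniq _ (detChar_isLinear hχ'.isCharacter')
    (fun n => detChar_restrict N hχ'.isCharacter' h' n) hc'

/-! ### Gallagher -/

theorem trace_comp_proj {V : Type*} [AddCommGroup V] [Module ℂ V] [FiniteDimensional ℂ V]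
    (p : Submodule ℂ V) (f A : Module.End ℂ V) (hf : LinearMap.IsProj p f)
    (hA : ∀ x ∈ p, A x ∈ p) :
    LinearMap.trace ℂ V (A * f) = LinearMap.trace ℂ p (A.restrict hA) := by
  have hmem : ∀ x, (A * f) x ∈ p := fun x => hA _ (hf.map_mem x)
  rw [← LinearMap.trace_restrict_eq_of_forall_mem p (A * f) hmem]
  congr 1
  ext x
  show A (f x) = A x
  rw [hf.map_id x x.2]

/-- The average of `ψ · χ̄` over the cosets of a normal subgroup. -/
noncomputable def cosetAvg [Fintype G] (N : Subgroup G) (ψ χ : G → ℂ) : G → ℂ :=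
  haveI := Fintype.ofFinite N
  fun g => (Nat.card N : ℂ)⁻¹ * ∑ n : N, ψ ((n : G) * g) * conj (χ ((n : G) * g))

theorem cosetAvg_eq [Fintype G] (N : Subgroup G) [Fintype N] (ψ χ : G → ℂ) (g : G) :
    cosetAvg N ψ χ g = (Nat.card N : ℂ)⁻¹ * ∑ n : N, ψ ((n : G) * g) * conj (χ ((n : G) * g)) := by
  simp only [cosetAvg]
  congr 1
  exact Finset.sum_congr (by ext; simp) fun _ _ => rfl

theorem cosetAvg_isCharacter [Fintype G] (N : Subgroup G) [N.Normal] {ψ χ : G → ℂ}
    (hψ : IsCharacter G ψ) (hχ : IsCharacter G χ) : IsCharacter G (cosetAvg N ψ χ) := by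
  classical
  haveI := Fintype.ofFinite N
  obtain ⟨a, π, rfl⟩ := hψ
  obtain ⟨b, σ, rfl⟩ := hχ
  set L := Representation.linHom σ π with hL
  haveI : Invertible (Fintype.card N : ℂ) := invertibleOfNonzero (by simp)
  set W := Representation.invariants (L.comp N.subtype) with hW
  let L' : @Representation ℂ G ↥W _ _ (Submodule.addCommGroup W).toAddCommMonoid W.module :=
    { toFun := fun g => (L g).restrict fun x hx => Representation.le_comap_invariants L N g hx
      map_one' := LinearMap.ext fun x => Subtype.ext (by simp)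
      map_mul' := fun a c => LinearMap.ext fun x => Subtype.ext (by simp) }
  have heq : cosetAvg N π.character σ.character = Representation.character (k := ℂ) (V := ↥W) L' := by
    funext g
    rw [cosetAvg_eq]
    have hP := Representation.isProj_averageMap (L.comp N.subtype)
    have h1 := trace_comp_proj _ _ (L g) hP (fun x hx => Representation.le_comap_invariants L N g hx)
    refine Eq.trans ?_ h1
    rw [Representation.averageMap, GroupAlgebra.average, map_smul, map_sum, mul_smul_comm,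
      map_smul, smul_eq_mul, invOf_eq_inv, ← Nat.card_eq_fintype_card]
    congr 1
    rw [Finset.mul_sum, map_sum]
    refine Finset.sum_congr rfl fun n _ => ?_
    rw [MonoidAlgebra.of_apply, Representation.asAlgebraHom_single, one_smul]
    show _ = LinearMap.trace ℂ _ (L g * L (n : G))
    rw [← map_mul]
    show _ = L.character (g * (n : G))
    rw [hL, Representation.char_linHom, isCharacter_inv_eq_conj ⟨b, σ, rfl⟩,
      Representation.char_mul_comm σ g (n : G), Representation.char_mul_comm π g (n : G), mul_comm]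
  rw [heq]
  exact isCharacter_rep _

theorem cosetAvg_mul_coset [Fintype G] (N : Subgroup G) [Fintype N] (ψ χ : G → ℂ) (m : N) (g : G) :
    cosetAvg N ψ χ ((m : G) * g) = cosetAvg N ψ χ g := by
  rw [cosetAvg_eq, cosetAvg_eq]
  congr 1
  exact Fintype.sum_equiv (Equiv.mulRight m) _ _ fun n => by simp [mul_assoc]

/-- Averages over cosets. -/
theorem sum_cosetAvg [Fintype G] (N : Subgroup G) [Fintype N] (ψ χ F : G → ℂ)
    (hF : ∀ (n : N) (g : G), F ((n : G) * g) = F g) :
    ∑ g : G, F g * cosetAvg N ψ χ g = ∑ g : G, F g * (ψ g * conj (χ g)) := by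
  simp only [cosetAvg_eq, Finset.mul_sum]
  rw [Finset.sum_comm]
  have h : ∀ n : N, ∑ g : G, F g * ((Nat.card N : ℂ)⁻¹ * (ψ ((n : G) * g) * conj (χ ((n : G) * g)))) =
      (Nat.card N : ℂ)⁻¹ * ∑ g : G, F g * (ψ g * conj (χ g)) := fun n => by
    rw [Finset.mul_sum]
    refine Fintype.sum_equiv (Equiv.mulLeft (n : G)) _ _ fun g => ?_
    simp only [Equiv.coe_mulLeft, hF]
    ring
  rw [Finset.sum_congr rfl fun n _ => h n, Finset.sum_const, Finset.card_univ, nsmul_eq_mul,
    ← Nat.card_eq_fintype_card, mul_inv_cancel_left₀ (natCard_ne_zero N)]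

theorem cosetAvg_one [Fintype G] (N : Subgroup G) [Fintype N] (ψ χ : G → ℂ) :
    cosetAvg N ψ χ 1 = classInner (fun n : N => ψ n) (fun n : N => χ n) := by
  simp [cosetAvg_eq, classInner]

/-- `|χ|²` averages to one on each coset when the restriction is irreducible. -/
theorem cosetAvg_self [Fintype G] (N : Subgroup G) [N.Normal] [Fintype N] {χ : G → ℂ}
    (hχ : IsIrrCharacter G χ) (hχN : IsIrrCharacter N (fun n : N => χ n)) :
    cosetAvg N χ χ = fun _ => 1 := by
  have hc := cosetAvg_isCharacter N hχ.isCharacter' hχ.isCharacter'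
  refine eq_of_constituent_of_degree hc isIrrCharacter_one ?_ ?_
  · have h := sum_cosetAvg N χ χ (fun _ => 1) (fun _ _ => rfl)
    simp only [one_mul] at h
    simp only [classInner, map_one, mul_one, h]
    rw [show (Nat.card G : ℂ)⁻¹ * ∑ g, χ g * conj (χ g) = classInner χ χ from rfl, irr_inner_self hχ]
    exact one_ne_zero
  · rw [cosetAvg_one, irr_inner_self hχN]

/-- A function fixed by `N`-translation pairs with `|χ|²` as with one. -/
theorem inner_mul_ext [Fintype G] (N : Subgroup G) [N.Normal] [Fintype N] {χ : G → ℂ}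
    (hχ : IsIrrCharacter G χ) (hχN : IsIrrCharacter N (fun n : N => χ n)) {β γ : G → ℂ}
    (hβ : ∀ (n : N) (g : G), β ((n : G) * g) = β g) (hγ : ∀ (n : N) (g : G), γ ((n : G) * g) = γ g) :
    classInner (β * χ) (γ * χ) = classInner β γ := by
  have h := sum_cosetAvg N χ χ (fun g => β g * conj (γ g)) (fun n g => by simp only [hβ, hγ])
  rw [cosetAvg_self N hχ hχN] at h
  simp only [classInner]
  congr 1
  simp only [mul_one] at h
  rw [h]
  exact Finset.sum_congr rfl fun g _ => by simp only [Pi.mul_apply, map_mul]; ring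

/-- Gallagher: the quotient of two characters over an extendible one. -/
theorem gallagher [Fintype G] (N : Subgroup G) [hN : N.Normal] [Fintype N] {χ : G → ℂ}
    (hχ : IsIrrCharacter G χ) (hχN : IsIrrCharacter N (fun n : N => χ n)) {ψ : G → ℂ}
    (hψ : IsIrrCharacter G ψ) :
    (classInner (fun n : N => ψ n) (fun n : N => χ n) ≠ 0 →
      IsIrrCharacter G (cosetAvg N ψ χ) ∧ cosetAvg N ψ χ * χ = ψ) ∧
    (classInner (fun n : N => ψ n) (fun n : N => χ n) = 0 → cosetAvg N ψ χ = 0) := by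
  set η := cosetAvg N ψ χ with hη
  have hc : IsCharacter G η := cosetAvg_isCharacter N hψ.isCharacter' hχ.isCharacter'
  have hη1 : η 1 = classInner (fun n : N => ψ n) (fun n : N => χ n) := cosetAvg_one N ψ χ
  have hηN : ∀ (n : N) (g : G), η ((n : G) * g) = η g := cosetAvg_mul_coset N ψ χ
  refine ⟨fun h => ?_, fun h => ?_⟩
  · have hin : classInner (η * χ) ψ = classInner η η := by
      have h2 := sum_cosetAvg N ψ χ (fun g => conj (η g)) (fun n g => by simp only [hηN])
      rw [← hη] at h2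
      simp only [classInner]
      rw [show ∑ g, η g * conj (η g) = ∑ g, conj (η g) * η g from
        Finset.sum_congr rfl fun g _ => mul_comm _ _, h2]
      rw [← Complex.conj_conj ((Nat.card G : ℂ)⁻¹ * ∑ g, conj (η g) * (ψ g * conj (χ g)))]
      have hreal : conj ((Nat.card G : ℂ)⁻¹ * ∑ g, conj (η g) * (ψ g * conj (χ g))) =
          (Nat.card G : ℂ)⁻¹ * ∑ g, conj (η g) * (ψ g * conj (χ g)) := by
        rw [← h2, map_mul, map_inv₀, Complex.conj_natCast, map_sum]
        congr 1
        exact Finset.sum_congr rfl fun g _ => by rw [map_mul, Complex.conj_conj, mul_comm]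
      rw [hreal]
      conv_rhs => rw [map_mul, map_inv₀, Complex.conj_natCast, map_sum]
      congr 1
      exact Finset.sum_congr rfl fun g _ => by
        simp only [Pi.mul_apply, map_mul, Complex.conj_conj]; ring
    have hne : classInner η η ≠ 0 := fun e => h (by
      rw [← hη1, inner_self_eq_zero.mp e, Pi.zero_apply])
    have he : η * χ = ψ := by
      refine eq_of_constituent_of_degree (isCharacter_mul hc hχ.isCharacter') hψ (hin ▸ hne) ?_
      rw [Pi.mul_apply, hη1]
      obtain ⟨n, hn⟩ := inner_character_nat (isCharacter_restrict hψ.isCharacter' N)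
        (isCharacter_restrict hχ.isCharacter' N)
      have hinv : inertia (fun m : N => χ m) = ⊤ := by
        rw [eq_top_iff]
        intro g _
        rw [mem_inertia]
        exact classFunction_restrict_conjFn (isCharacter_classFunction hχ.isCharacter') g
      have hcl := clifford_degree hψ hχN h
      rw [hinv, Subgroup.index_top, Nat.cast_one, mul_one, Subgroup.coe_one] at hcl
      rw [← hcl]
    refine ⟨isIrr_of_inner_self_one hc ?_, he⟩
    rw [← inner_mul_ext N hχ hχN hηN hηN, he, irr_inner_self hψ]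
  · funext g
    have hn := isCharacter_norm_le hc g
    rw [hη1, h, Complex.zero_re, norm_le_zero_iff] at hn
    exact hn

open Classical in
/-- Multiplication by an extension of `ϑ` carries the characters over `φ` to those over `φϑ`. -/
theorem bijOn_mul_extension [Fintype G] (N : Subgroup G) [hN : N.Normal] {φ ϑ : N → ℂ}
    (hφ : IsIrrCharacter N φ)
    (hφinv : ∀ (g : G) (n : N), φ ⟨g * n * g⁻¹, hN.conj_mem (n : G) n.2 g⟩ = φ n)
    (hϑinv : ∀ (g : G) (n : N), ϑ ⟨g * n * g⁻¹, hN.conj_mem (n : G) n.2 g⟩ = ϑ n)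
    (hprod : IsIrrCharacter N (φ * ϑ)) {χ : G → ℂ} (hχ : IsIrrCharacter G χ)
    (hext : ∀ n : N, χ n = ϑ n) :
    Set.BijOn (fun β : G → ℂ => β * χ)
      {β : G → ℂ | IsIrrCharacter G β ∧ classInner (indFun N φ) β ≠ 0}
      {ψ : G → ℂ | IsIrrCharacter G ψ ∧ classInner (indFun N (φ * ϑ)) ψ ≠ 0} := by
  haveI := Fintype.ofFinite N
  set P := indFun N φ with hP
  have hPc : IsCharacter G P := isCharacter_indFun hφ.isCharacter'
  have hprod' : indFun N (φ * ϑ) = P * χ := by
    rw [hP, indFun_mul φ χ (isCharacter_classFunction hχ.isCharacter')]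
    congr 1
    funext n
    simp [hext n]
  choose e he using fun ξ : IrrCharacter G => inner_character_nat hPc ξ.2.isCharacter'
  have hPs : P = ∑ ξ : IrrCharacter G, (e ξ : ℂ) • (ξ : G → ℂ) := by
    conv_lhs => rw [classFunction_eq_sum P (isCharacter_classFunction hPc)]
    exact Finset.sum_congr rfl fun ξ _ => by rw [he]
  have hQs : P * χ = ∑ ξ : IrrCharacter G, (e ξ : ℂ) • ((ξ : G → ℂ) * χ) := by
    conv_lhs => rw [hPs, Finset.sum_mul]
    exact Finset.sum_congr rfl fun ξ _ => smul_mul_assoc _ _ _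
  have hnorm : ∀ θ : N → ℂ, IsIrrCharacter N θ →
      (∀ (g : G) (n : N), θ ⟨g * n * g⁻¹, hN.conj_mem (n : G) n.2 g⟩ = θ n) →
      classInner (indFun N θ) (indFun N θ) = (N.index : ℂ) := fun θ hθ hi => by
    refine mul_left_cancel₀ (natCard_ne_zero N) ?_
    rw [inner_indFun_normal_self hθ, show inertia θ = ⊤ from eq_top_iff.mpr fun g _ =>
      mem_inertia.mpr (funext fun n => hi g n), Subgroup.card_top, ← Nat.cast_mul, mul_comm,
      N.index_mul_card]
  have h1 := hnorm φ hφ hφinv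
  have h2 := hnorm (φ * ϑ) hprod fun g n => by simp only [Pi.mul_apply, hφinv, hϑinv]
  rw [hprod', hQs] at h2
  rw [← hP] at h1
  have hc : ∀ ξ : IrrCharacter G, IsCharacter G ((ξ : G → ℂ) * χ) := fun ξ =>
    isCharacter_mul ξ.2.isCharacter' hχ.isCharacter'
  choose m hm using fun p : IrrCharacter G × IrrCharacter G =>
    inner_character_nat (hc p.1) (hc p.2)
  have h1' : ∑ p : IrrCharacter G × IrrCharacter G, e p.1 * e p.2 * (if p.1 = p.2 then 1 else 0) =
      N.index := by
    have h3 : ((∑ p : IrrCharacter G × IrrCharacter G,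
        e p.1 * e p.2 * (if p.1 = p.2 then 1 else 0) : ℕ) : ℂ) = (N.index : ℂ) := by
      rw [← h1, hPs]
      push_cast
      rw [inner_sum_left, Fintype.sum_prod_type]
      refine Finset.sum_congr rfl fun a _ => ?_
      rw [inner_sum_right]
      refine Finset.sum_congr rfl fun b _ => ?_
      rw [inner_smul_left, inner_smul_right, Complex.conj_natCast, irr_classInner, mul_assoc]
    exact_mod_cast h3
  have h2' : ∑ p : IrrCharacter G × IrrCharacter G, e p.1 * e p.2 * m p = N.index := by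
    have h3 : ((∑ p : IrrCharacter G × IrrCharacter G, e p.1 * e p.2 * m p : ℕ) : ℂ) =
        (N.index : ℂ) := by
      rw [← h2]
      push_cast
      rw [inner_sum_left, Fintype.sum_prod_type]
      refine Finset.sum_congr rfl fun a _ => ?_
      rw [inner_sum_right]
      refine Finset.sum_congr rfl fun b _ => ?_
      rw [inner_smul_left, inner_smul_right, Complex.conj_natCast, ← hm (a, b), mul_assoc]
    exact_mod_cast h3
  have hχ0 : χ 1 ≠ 0 := irr_apply_one_ne_zero hχ
  have hmdiag : ∀ ξ, 1 ≤ m (ξ, ξ) := fun ξ => Nat.pos_of_ne_zero fun hz => by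
    have := hm (ξ, ξ)
    rw [hz, Nat.cast_zero, inner_self_eq_zero] at this
    exact mul_ne_zero (irr_apply_one_ne_zero ξ.2) hχ0 (congrFun this 1)
  have hle : ∀ p ∈ (Finset.univ : Finset (IrrCharacter G × IrrCharacter G)),
      e p.1 * e p.2 * (if p.1 = p.2 then 1 else 0) ≤ e p.1 * e p.2 * m p := fun p _ => by
    refine Nat.mul_le_mul_left _ ?_
    split_ifs with hpe
    · obtain ⟨a, b⟩ := p
      change a = b at hpe
      subst hpe
      exact hmdiag a
    · exact Nat.zero_le _
  have heq := (Finset.sum_eq_sum_iff_of_le hle).mp (h1'.trans h2'.symm)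
  have hkey : ∀ a b : IrrCharacter G, e a ≠ 0 → e b ≠ 0 →
      classInner ((a : G → ℂ) * χ) ((b : G → ℂ) * χ) = if a = b then 1 else 0 := fun a b ha hb => by
    have h3 := mul_left_cancel₀ (mul_ne_zero ha hb) (heq (a, b) (Finset.mem_univ _))
    rw [hm (a, b), ← h3]
    split_ifs <;> simp
  have hirr : ∀ a : IrrCharacter G, e a ≠ 0 → IsIrrCharacter G ((a : G → ℂ) * χ) := fun a ha =>
    isIrr_of_inner_self_one (hc a) (by rw [hkey a a ha ha, if_pos rfl])
  have hmem : ∀ {β : G → ℂ} (hβ : IsIrrCharacter G β), classInner P β ≠ 0 → e ⟨β, hβ⟩ ≠ 0 :=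
    fun {β} hβ hne hz => hne (by rw [he ⟨β, hβ⟩, hz, Nat.cast_zero])
  refine ⟨fun β ⟨hβ, hne⟩ => ?_, fun β ⟨hβ, hne⟩ β' ⟨hβ', hne'⟩ heq' => ?_, fun ψ ⟨hψ, hne⟩ => ?_⟩
  · refine ⟨hirr ⟨β, hβ⟩ (hmem hβ hne), ?_⟩
    rw [hprod', hQs, inner_sum_left]
    simp only [inner_smul_left]
    rw [Finset.sum_eq_single (⟨β, hβ⟩ : IrrCharacter G) (fun ξ _ hξ => ?_)
      (fun h => absurd (Finset.mem_univ _) h), hkey _ _ (hmem hβ hne) (hmem hβ hne), if_pos rfl,
      mul_one]
    · exact_mod_cast hmem hβ hne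
    · by_cases hz : e ξ = 0
      · rw [hz, Nat.cast_zero, zero_mul]
      · rw [hkey ξ ⟨β, hβ⟩ hz (hmem hβ hne), if_neg hξ, mul_zero]
  · by_contra hbne
    have h3 := hkey ⟨β, hβ⟩ ⟨β', hβ'⟩ (hmem hβ hne) (hmem hβ' hne')
    rw [if_neg (fun h => hbne (congrArg Subtype.val h))] at h3
    simp only at heq' h3
    rw [heq', irr_inner_self (hirr ⟨β', hβ'⟩ (hmem hβ' hne'))] at h3
    exact one_ne_zero h3
  · rw [hprod', hQs, inner_sum_left] at hne
    obtain ⟨a, -, ha⟩ := Finset.exists_ne_zero_of_sum_ne_zero hne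
    rw [inner_smul_left] at ha
    have hea : e a ≠ 0 := fun hz => ha (by rw [hz, Nat.cast_zero, zero_mul])
    refine ⟨(a : G → ℂ), ⟨a.2, by rw [he a]; exact_mod_cast hea⟩, ?_⟩
    by_contra hd
    exact (right_ne_zero_of_mul ha) (irr_inner_ne (hirr a hea) hψ hd)

end CfsgLib.Char
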