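import Cfsg.Agent.Lib.CharLinear
import Cfsg.Agent.Lib.CharMisc

/-!
# Degrees of characters and abelian subgroups met by few centralisers
-/

set_option autoImplicit false
set_option linter.unusedSectionVars false
set_option linter.style.haveILetI false

namespace CfsgLib.Leonard

open Cfsg CfsgLib.Char
open scoped ComplexConjugate

universe u

variable {G : Type u} [Group G] [Fintype G]

theorem sum_sq_real {K : Type u} [Group K] [Fintype K] (φ : K → ℂ) :
    (∑ g : K, Complex.normSq (φ g) : ℝ) = (Nat.card K : ℝ) * (classInner φ φ).re := by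
  rw [Char.inner_self_eq_norm_sq, Complex.ofReal_re, ← mul_assoc,
    mul_inv_cancel₀ (by exact_mod_cast (Nat.card_pos (α := K)).ne'), one_mul]
  simp [Complex.normSq_eq_norm_sq]

/-- Averaging a character over a normal subgroup splits it into two orthogonal characters. -/
theorem average_split {N : Type u} [Group N] [Fintype N] (K : Subgroup N) [K.Normal] [Fintype K]
    {χ : N → ℂ} (hχ : IsCharacter N χ) :
    let ψ : N → ℂ := fun g => (Nat.card K : ℂ)⁻¹ * ∑ h : K, χ ((h : N) * g)
    (∀ (h : K) (g : N), ψ ((h : N) * g) = ψ g) ∧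
    (∃ k : ℕ, classInner (χ - ψ) (χ - ψ) = k) ∧
    classInner χ χ = classInner ψ ψ + classInner (χ - ψ) (χ - ψ) := by
  classical
  intro ψ
  have hinv : ∀ (h : K) (g : N), ψ ((h : N) * g) = ψ g := by
    intro h g
    show _ * _ = _ * _
    congr 1
    refine Fintype.sum_equiv (Equiv.mulRight h) _ _ fun k => ?_
    rw [Equiv.coe_mulRight, Subgroup.coe_mul, mul_assoc]
  have hcl : IsClassFunction N χ := isCharacter_classFunction hχ
  have hψcl : IsClassFunction N ψ := by
    intro g x
    show _ * _ = _ * _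
    congr 1
    refine Fintype.sum_equiv (MulAut.conjNormal x⁻¹ : MulAut K).toEquiv _ _ fun h => ?_
    rw [MulEquiv.toEquiv_eq_coe, MulEquiv.coe_toEquiv, MulAut.conjNormal_apply, inv_inv,
      ← hcl (x⁻¹ * (h : N) * x * g) x]
    congr 1
    group
  have hadj : ∀ f : N → ℂ, classInner ψ f =
      classInner χ (fun g => (Nat.card K : ℂ)⁻¹ * ∑ h : K, f ((h : N) * g)) := by
    intro f
    simp only [classInner, ψ, map_mul, map_inv₀, Complex.conj_natCast, map_sum, Finset.mul_sum,
      Finset.sum_mul]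
    rw [Finset.sum_comm]
    conv_rhs => rw [Finset.sum_comm]
    rw [← Equiv.sum_comp (Equiv.inv K)]
    refine Finset.sum_congr rfl fun h _ => ?_
    refine Fintype.sum_equiv (Equiv.mulLeft ((h⁻¹ : K) : N)) _ _ fun g => ?_
    simp only [Equiv.inv_apply, Equiv.coe_mulLeft, InvMemClass.coe_inv, mul_inv_cancel_left]
    ring
  have hidem : ∀ g, (Nat.card K : ℂ)⁻¹ * ∑ h : K, ψ ((h : N) * g) = ψ g := fun g => by
    rw [Finset.sum_congr rfl fun h _ => hinv h g, Finset.sum_const, Finset.card_univ,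
      ← Nat.card_eq_fintype_card, nsmul_eq_mul, inv_mul_cancel_left₀ (natCard_ne_zero K)]
  have hψψ : classInner ψ ψ = classInner χ ψ := by rw [hadj, funext hidem]
  refine ⟨hinv, ?_, ?_⟩
  swap
  · have hc : classInner ψ χ = classInner ψ ψ := by
      rw [← Char.inner_conj_symm, ← hψψ, Char.inner_conj_symm]
    rw [Char.inner_sub_left, Char.inner_sub_right, Char.inner_sub_right, hc, hψψ]
    ring
  · -- the coefficients are natural numbers
    have hφ : IsCharacter N (χ - ψ) := by
      refine isCharacter_iff_nat.mpr ⟨fun g x => by simp [hcl g x, hψcl g x], fun ξ hξ => ?_⟩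
      rw [Char.inner_sub_left, hadj]
      obtain ⟨n, ρ, hρ, rfl⟩ := hξ
      haveI := hρ
      let f : N → ℂ := fun x => if x ∈ K then (Nat.card K : ℂ)⁻¹ else 0
      have hf : IsClassFunction N f := fun g x => by
        simp only [f]
        refine if_congr ⟨fun h => ?_, fun h => Subgroup.Normal.conj_mem ‹_› _ h x⟩ rfl rfl
        have := Subgroup.Normal.conj_mem ‹_› _ h x⁻¹
        simpa [mul_assoc] using this
      obtain ⟨c, hc⟩ : ∃ c : ℂ, fnOp f ρ = c • (1 : Module.End ℂ _) := ⟨_, fnOp_scalar f hf ρ⟩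
      have havg : fnOp f ρ = (Nat.card K : ℂ)⁻¹ • ∑ h : K, ρ (h : N) := by
        rw [fnOp, Finset.smul_sum, ← Finset.sum_subtype (Finset.univ.filter (· ∈ K)) (fun x => by simp)
          (fun x => (Nat.card K : ℂ)⁻¹ • ρ x), Finset.sum_filter]
        refine Finset.sum_congr rfl fun x _ => ?_
        simp only [f]
        split_ifs <;> simp
      have hcc : c * c = c := by
        have h1 : fnOp f ρ * fnOp f ρ = fnOp f ρ := by
          conv_rhs => rw [havg]
          rw [havg, smul_mul_assoc, Finset.sum_mul]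
          congr 1
          rw [Finset.sum_congr rfl fun (h : K) _ => show ρ (h : N) * ((Nat.card K : ℂ)⁻¹ • ∑ k : K, ρ (k : N)) =
            (Nat.card K : ℂ)⁻¹ • ∑ k : K, ρ (k : N) by
              rw [mul_smul_comm, Finset.mul_sum]
              congr 1
              refine Fintype.sum_equiv (Equiv.mulLeft h) _ _ fun k => ?_
              rw [Equiv.coe_mulLeft, Subgroup.coe_mul, map_mul]]
          rw [Finset.sum_const, Finset.card_univ, ← Nat.card_eq_fintype_card,
            ← Nat.cast_smul_eq_nsmul ℂ, smul_smul, mul_inv_cancel₀ (natCard_ne_zero K), one_smul]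
        rw [hc, smul_mul_smul_comm, one_mul] at h1
        have h2 := congrArg (LinearMap.trace ℂ _) h1
        rw [map_smul, map_smul, smul_eq_mul, smul_eq_mul, LinearMap.trace_one] at h2
        exact mul_right_cancel₀ (Nat.cast_ne_zero.mpr (finrank_pos_of_irreducible ρ).ne') h2
      have havgξ : ∀ g, (Nat.card K : ℂ)⁻¹ * ∑ h : K, ρ.character ((h : N) * g) = c * ρ.character g := by
        intro g
        have h1 := congrArg (fun T => LinearMap.trace ℂ _ (T * ρ g)) (havg.symm.trans hc)
        simp only [smul_mul_assoc, Finset.sum_mul, map_smul, map_sum, one_mul, smul_eq_mul, ← map_mul] at h1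
        exact h1
      rw [funext havgξ]
      obtain ⟨m, hm⟩ := inner_character_nat hχ (isCharacter_rep ρ)
      rcases mul_eq_zero.mp (show c * (c - 1) = 0 by linear_combination hcc) with h | h
      · refine ⟨m, ?_⟩
        simp only [h, zero_mul]
        rw [show classInner χ (fun _ : N => (0 : ℂ)) = 0 from Char.inner_zero_right χ, sub_zero, hm]
      · rw [sub_eq_zero] at h
        simp only [h, one_mul]
        exact ⟨0, by rw [sub_self, Nat.cast_zero]⟩
    exact inner_character_nat hφ hφ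

theorem center_scalar {χ : G → ℂ} (hχ : IsIrrCharacter G χ) {z : G} (hz : z ∈ Subgroup.center G) :
    ∃ ω : ℂ, ‖ω‖ = 1 ∧ ∀ g, χ (g * z) = ω * χ g := by
  obtain ⟨n, ρ, hρ, rfl⟩ := hχ
  haveI := hρ
  obtain ⟨ω, hω⟩ := schur_scalar ρ (ρ z) fun g => by
    rw [← map_mul, ← map_mul, Subgroup.mem_center_iff.mp hz g]
  have hpow : ω ^ orderOf z = 1 := by
    have h1 := congrArg (LinearMap.trace ℂ _) (show ρ (z ^ orderOf z) = ω ^ orderOf z • 1 by
      rw [map_pow, hω, smul_pow, one_pow])
    rw [pow_orderOf_eq_one, map_one, map_smul, LinearMap.trace_one, smul_eq_mul] at h1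
    exact (mul_eq_right₀ (Nat.cast_ne_zero.mpr (finrank_pos_of_irreducible ρ).ne')).mp h1.symm
  refine ⟨ω, Complex.norm_eq_one_of_pow_eq_one hpow (orderOf_pos z).ne', fun g => ?_⟩
  show LinearMap.trace ℂ _ (ρ (g * z)) = ω * LinearMap.trace ℂ _ (ρ g)
  rw [map_mul, hω, mul_smul_comm, mul_one, map_smul, smul_eq_mul]

theorem degree_bound (H : Subgroup G) [Fintype H] (hZ : H ⊓ Subgroup.center G = ⊥)
    (hone : ∀ g : G, g ∉ Subgroup.center G → ∀ a b : G,
      Subgroup.centralizer ({g} : Set G) ⊓ H.map (MulAut.conj a).toMonoidHom ≠ ⊥ →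
      Subgroup.centralizer ({g} : Set G) ⊓ H.map (MulAut.conj b).toMonoidHom ≠ ⊥ →
      H.map (MulAut.conj a).toMonoidHom = H.map (MulAut.conj b).toMonoidHom)
    {χ : G → ℂ} (hχ : IsIrrCharacter G χ) (hker : ∃ h ∈ H, χ h ≠ χ 1) :
    (χ 1).re ^ 2 > (Nat.card H : ℝ) * (classInner (fun h : H => χ h) (fun _ => 1)).re ^ 2 := by
  classical
  set c := classInner (fun h : H => χ h) (fun _ => 1) with hcdef
  set N : Subgroup G := Subgroup.normalizer (H : Set G) with hN
  haveI : Fintype N := Fintype.ofFinite _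
  have hHN : H ≤ N := Subgroup.le_normalizer
  haveI : (H.subgroupOf N).Normal :=
    (Subgroup.normal_subgroupOf_iff_le_normalizer hHN).mpr le_rfl
  haveI : Fintype (H.subgroupOf N) := Fintype.ofFinite _
  have hcardK : Nat.card (H.subgroupOf N) = Nat.card H :=
    Nat.card_congr (Subgroup.subgroupOfEquivOfLe hHN).toEquiv
  obtain ⟨hinv, ⟨k, hk⟩, hsplit⟩ := average_split (H.subgroupOf N)
    (isCharacter_restrict hχ.isCharacter' N)
  set ψ : N → ℂ := fun g => (Nat.card (H.subgroupOf N) : ℂ)⁻¹ *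
    ∑ h : H.subgroupOf N, χ (((h : N) * g : N) : G) with hψ
  have hclG : IsClassFunction G χ := isCharacter_classFunction hχ.isCharacter'
  have hψ1 : ∀ z : G, ∀ (hz : z ∈ Subgroup.center G) (hzN : z ∈ N),
      Complex.normSq (ψ ⟨z, hzN⟩) = Complex.normSq c := by
    intro z hz hzN
    obtain ⟨ω, hω, hωg⟩ := center_scalar hχ hz
    have e1 : ψ ⟨z, hzN⟩ = ω * c := by
      simp only [hψ, hcdef, classInner, map_one, mul_one, hcardK]
      have e0 : ∑ h : H.subgroupOf N, χ (((h : N) * ⟨z, hzN⟩ : N) : G) = ω * ∑ h : H, χ h := by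
        rw [Finset.mul_sum]
        refine Fintype.sum_equiv (Subgroup.subgroupOfEquivOfLe hHN).toEquiv _ _ fun h => ?_
        exact hωg _
      rw [e0]
      ring
    rw [e1, Complex.normSq_mul, Complex.normSq_eq_norm_sq ω, hω, one_pow, one_mul]
  have hk1 : 1 ≤ k := by
    by_contra h0
    have hzero : (fun x : N => χ x) - ψ = 0 := Char.inner_self_eq_zero.mp (by
      rw [hk, Nat.lt_one_iff.mp (Nat.not_le.mp h0), Nat.cast_zero])
    obtain ⟨h, hh, hne⟩ := hker
    refine hne ?_
    have e1 : ψ ⟨h, hHN hh⟩ = χ h := (sub_eq_zero.mp (congrFun hzero ⟨h, hHN hh⟩)).symm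
    have e2 : ψ ⟨1, one_mem N⟩ = χ 1 := (sub_eq_zero.mp (congrFun hzero ⟨1, one_mem N⟩)).symm
    rw [← e1, ← e2]
    have := hinv ⟨⟨h, hHN hh⟩, hh⟩ (1 : N)
    rw [mul_one] at this
    exact this
  -- the sets
  let S : Finset N := Finset.univ.filter fun g =>
    (g : G) ∉ Subgroup.center G ∧ ∃ h ∈ H, h ≠ 1 ∧ (g : G) * h = h * g
  let Zs : Finset N := Finset.univ.filter fun g => (g : G) ∈ Subgroup.center G
  let F : Finset N := Finset.univ.filter fun g => g ∉ S ∧ g ∉ Zs
  have hFeq : ∀ g ∈ F, ψ g = χ g := by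
    intro g hg
    obtain ⟨-, hgS, hgZ⟩ := Finset.mem_filter.mp hg
    have hgZ' : (g : G) ∉ Subgroup.center G := fun h => hgZ (Finset.mem_filter.mpr ⟨Finset.mem_univ _, h⟩)
    have hfree : ∀ h ∈ H, (g : G) * h = h * g → h = 1 := fun h hh e => by
      by_contra h1
      exact hgS (Finset.mem_filter.mpr ⟨Finset.mem_univ _, hgZ', h, hh, h1, e⟩)
    let κ : H.subgroupOf N → H.subgroupOf N := fun x =>
      ⟨(x : N) * g * (x : N)⁻¹ * g⁻¹, by
        have h1 := Subgroup.Normal.conj_mem (inferInstance : (H.subgroupOf N).Normal) _ (inv_mem x.2) g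
        rw [show (x : N) * g * (x : N)⁻¹ * g⁻¹ = (x : N) * (g * (x : N)⁻¹ * g⁻¹) by group]
        exact mul_mem x.2 h1⟩
    have hκ : Function.Bijective κ := by
      rw [← Finite.injective_iff_bijective]
      intro x y e
      have e' : ((x : N) : G) * g * ((x : N) : G)⁻¹ * (g : G)⁻¹ =
          ((y : N) : G) * g * ((y : N) : G)⁻¹ * (g : G)⁻¹ :=
        congrArg (fun z : H.subgroupOf N => ((z : N) : G)) e
      have h1 := hfree _ (mul_mem (inv_mem y.2) x.2) (by
        show (g : G) * (((y : N) : G)⁻¹ * ((x : N) : G)) = ((y : N) : G)⁻¹ * ((x : N) : G) * g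
        have h2 := mul_right_cancel e'
        calc (g : G) * (((y : N) : G)⁻¹ * ((x : N) : G))
            = ((y : N) : G)⁻¹ * (((y : N) : G) * g * ((y : N) : G)⁻¹) * ((x : N) : G) := by group
          _ = ((y : N) : G)⁻¹ * ((x : N) : G) * g := by rw [← h2]; group)
      exact Subtype.ext (Subtype.ext (inv_mul_eq_one.mp h1).symm)
    have hval : ∀ h : H.subgroupOf N, χ (((h : N) * g : N) : G) = χ g := by
      intro h
      obtain ⟨x, rfl⟩ := hκ.2 h
      show χ ((((x : N) * g * (x : N)⁻¹ * g⁻¹) * g : N) : G) = χ g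
      rw [inv_mul_cancel_right]
      exact hclG g ((x : N) : G)
    show _ * _ = _
    rw [Finset.sum_congr rfl fun h _ => hval h, Finset.sum_const, Finset.card_univ,
      ← Nat.card_eq_fintype_card, nsmul_eq_mul, inv_mul_cancel_left₀ (natCard_ne_zero _)]
  have hpart : ∀ f : N → ℝ, ∑ g, f g = ∑ g ∈ S, f g + ∑ g ∈ Zs, f g + ∑ g ∈ F, f g := by
    intro f
    have h0 : ∀ g, f g = (if g ∈ S then f g else 0) + (if g ∈ Zs then f g else 0) +
        (if g ∈ F then f g else 0) := by
      intro g
      by_cases h1 : g ∈ S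
      · have h2 : g ∉ Zs := fun h =>
          (Finset.mem_filter.mp h1).2.1 (Finset.mem_filter.mp h).2
        have h3 : g ∉ F := fun h => (Finset.mem_filter.mp h).2.1 h1
        simp [h1, h2, h3]
      · by_cases h2 : g ∈ Zs
        · have h3 : g ∉ F := fun h => (Finset.mem_filter.mp h).2.2 h2
          simp [h1, h2, h3]
        · have h3 : g ∈ F := Finset.mem_filter.mpr ⟨Finset.mem_univ _, h1, h2⟩
          simp [h1, h2, h3]
    rw [Finset.sum_congr rfl fun g _ => h0 g]
    simp [Finset.sum_add_distrib]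
  have hZscard : (Nat.card H : ℝ) * Zs.card * Complex.normSq c ≤
      ∑ g ∈ S, Complex.normSq (ψ g) + ∑ g ∈ Zs, Complex.normSq (ψ g) := by
    rw [← Finset.sum_union (Finset.disjoint_left.mpr fun g h1 h2 =>
      (Finset.mem_filter.mp h1).2.1 (Finset.mem_filter.mp h2).2)]
    let emb : H.subgroupOf N × N → N := fun q => (q.1 : N) * q.2
    have hinj : Set.InjOn emb ↑((Finset.univ : Finset (H.subgroupOf N)) ×ˢ Zs) := by
      rintro ⟨x, z⟩ hxz ⟨y, w⟩ hyw e
      simp only [Finset.mem_coe, Finset.mem_product, Finset.mem_univ, true_and, Zs,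
        Finset.mem_filter] at hxz hyw
      have e1 : (x : N) * z = (y : N) * w := e
      have e2 : (y : N)⁻¹ * x = w * z⁻¹ := by
        rw [eq_mul_inv_iff_mul_eq, mul_assoc, e1, inv_mul_cancel_left]
      have e3 : ((y : N) : G)⁻¹ * ((x : N) : G) ∈ H ⊓ Subgroup.center G :=
        Subgroup.mem_inf.mpr ⟨mul_mem (inv_mem y.2) x.2, by
          rw [show ((y : N) : G)⁻¹ * ((x : N) : G) = (w : G) * (z : G)⁻¹ from congrArg Subtype.val e2]
          exact mul_mem hyw (inv_mem hxz)⟩
      rw [hZ, Subgroup.mem_bot, inv_mul_eq_one] at e3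
      obtain rfl : x = y := Subtype.ext (Subtype.ext e3.symm)
      exact Prod.ext rfl (mul_left_cancel e1)
    refine le_trans (le_of_eq ?_) (Finset.sum_le_sum_of_subset_of_nonneg
      (s := ((Finset.univ : Finset (H.subgroupOf N)) ×ˢ Zs).image emb) ?_
      (fun g _ _ => Complex.normSq_nonneg _))
    · rw [Finset.sum_image hinj, Finset.sum_congr rfl fun q hq => show
          Complex.normSq (ψ (emb q)) = Complex.normSq c by
        rw [show ψ (emb q) = ψ q.2 from hinv q.1 q.2]
        exact hψ1 _ (Finset.mem_filter.mp (Finset.mem_product.mp hq).2).2 q.2.2,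
        Finset.sum_const, Finset.card_product, Finset.card_univ, ← Nat.card_eq_fintype_card, hcardK,
        nsmul_eq_mul, Nat.cast_mul]
    · intro g hg
      obtain ⟨⟨x, z⟩, hq, rfl⟩ := Finset.mem_image.mp hg
      obtain ⟨-, hz⟩ := Finset.mem_product.mp hq
      have hzc := (Finset.mem_filter.mp hz).2
      rw [Finset.mem_union]
      by_cases hx : x = 1
      · exact Or.inr (by simpa [emb, hx] using hz)
      · refine Or.inl (Finset.mem_filter.mpr ⟨Finset.mem_univ _, fun hm => hx ?_, ((x : N) : G), x.2,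
          fun e => hx (Subtype.ext (Subtype.ext e)), ?_⟩)
        · have hxc : ((x : N) : G) ∈ H ⊓ Subgroup.center G := Subgroup.mem_inf.mpr ⟨x.2, by
            have := mul_mem hm (inv_mem hzc)
            simpa [emb] using this⟩
          rw [hZ, Subgroup.mem_bot] at hxc
          exact Subtype.ext (Subtype.ext hxc)
        · show ((x : N) : G) * z * ((x : N) : G) = ((x : N) : G) * (((x : N) : G) * z)
          rw [mul_assoc, Subgroup.mem_center_iff.mp hzc]
  set d : ℝ := (χ 1).re
  have hnorm : ∀ g : G, Complex.normSq (χ g) ≤ d ^ 2 := fun g => by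
    rw [Complex.normSq_eq_norm_sq]
    exact pow_le_pow_left₀ (norm_nonneg _) (isCharacter_norm_le hχ.isCharacter' g) 2
  obtain ⟨n, hn0, hn⟩ := exists_degree_pos hχ
  have hd : d = n := by simp [d, hn]
  by_contra hle
  push Not at hle
  obtain ⟨m, hm⟩ := inner_character_nat (isCharacter_restrict hχ.isCharacter' H)
    (isIrrCharacter_one (G := H)).isCharacter'
  have hc2 : Complex.normSq c = c.re ^ 2 := by
    rw [show c = m from hm, Complex.normSq_natCast, Complex.natCast_re, sq]
  -- lower bound on the sum over `S`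
  have hlow : (Nat.card N : ℝ) ≤ ∑ g ∈ S, Complex.normSq (χ g) := by
    have e1 := sum_sq_real (fun x : N => χ x)
    rw [hsplit, hk, Complex.add_re, mul_add, ← sum_sq_real ψ, Complex.natCast_re] at e1
    rw [hpart (fun g => Complex.normSq (χ g)), hpart (fun g => Complex.normSq (ψ g)),
      Finset.sum_congr (s₁ := F) rfl fun g hg => show Complex.normSq (ψ g) = Complex.normSq (χ g) by
        rw [hFeq g hg]] at e1
    have e2 : ∑ g ∈ Zs, Complex.normSq (χ g) ≤ Zs.card * d ^ 2 := by
      rw [← nsmul_eq_mul]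
      exact Finset.sum_le_card_nsmul _ _ _ fun g _ => hnorm g
    have e3 : (Zs.card : ℝ) * d ^ 2 ≤ (Nat.card H : ℝ) * Zs.card * Complex.normSq c := by
      rw [hc2, mul_comm (Nat.card H : ℝ), mul_assoc]
      exact mul_le_mul_of_nonneg_left hle (Nat.cast_nonneg _)
    have e4 : (Nat.card N : ℝ) * 1 ≤ (Nat.card N : ℝ) * k :=
      mul_le_mul_of_nonneg_left (by exact_mod_cast hk1) (Nat.cast_nonneg _)
    linarith
  -- spreading over the conjugates
  let T : Finset G := Finset.univ.filter fun g => g ∉ Subgroup.center G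
  let A : G → Finset G := fun g => Finset.univ.filter fun a => ∃ s ∈ S, a * (s : G) * a⁻¹ = g
  have hA : ∀ g, (A g).card ≤ Nat.card N := by
    intro g
    rcases (A g).eq_empty_or_nonempty with h0 | ⟨a, ha⟩
    · simp [h0]
    rw [Nat.card_eq_fintype_card, ← Finset.card_univ]
    refine le_trans (Finset.card_le_card (t := (Finset.univ : Finset N).image fun x : N => a * (x : G)) ?_)
      Finset.card_image_le
    intro b hb
    have hmem : ∀ a ∈ A g, g ∉ Subgroup.center G ∧
        Subgroup.centralizer ({g} : Set G) ⊓ H.map (MulAut.conj a).toMonoidHom ≠ ⊥ := by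
      intro a ha
      obtain ⟨s, hs, rfl⟩ := (Finset.mem_filter.mp ha).2
      obtain ⟨hsZ, h, hh, h1, hcomm⟩ := (Finset.mem_filter.mp hs).2
      refine ⟨fun hc => hsZ ?_, fun e => h1 ?_⟩
      · have := Subgroup.Normal.conj_mem (inferInstance : (Subgroup.center G).Normal) _ hc a⁻¹
        simpa [mul_assoc] using this
      · have hm : a * h * a⁻¹ ∈ Subgroup.centralizer ({a * (s : G) * a⁻¹} : Set G) ⊓
            H.map (MulAut.conj a).toMonoidHom := by
          refine ⟨Subgroup.mem_centralizer_singleton_iff.mpr ?_, h, hh, rfl⟩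
          calc a * h * a⁻¹ * (a * (s : G) * a⁻¹) = a * (h * s) * a⁻¹ := by group
            _ = a * (s : G) * a⁻¹ * (a * h * a⁻¹) := by rw [← hcomm]; group
        rw [e, Subgroup.mem_bot] at hm
        exact conj_eq_one_iff.mp hm
    obtain ⟨hgZ, ha'⟩ := hmem a ha
    have he := hone g hgZ a b ha' (hmem b hb).2
    refine Finset.mem_image.mpr ⟨⟨a⁻¹ * b, ?_⟩, Finset.mem_univ _, by simp⟩
    rw [hN, Subgroup.mem_set_normalizer_iff]
    intro x
    have : a⁻¹ * b * x * (a⁻¹ * b)⁻¹ = a⁻¹ * (b * x * b⁻¹) * a := by group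
    rw [this]
    constructor
    · intro hx
      obtain ⟨y, hy, hy'⟩ := (he ▸ ⟨x, hx, rfl⟩ : b * x * b⁻¹ ∈ H.map (MulAut.conj a).toMonoidHom)
      rw [← show a * y * a⁻¹ = b * x * b⁻¹ from hy', show a⁻¹ * (a * y * a⁻¹) * a = y by group]
      exact hy
    · intro hx
      have hx2 : b * x * b⁻¹ ∈ H.map (MulAut.conj a).toMonoidHom :=
        ⟨_, hx, by show a * (a⁻¹ * (b * x * b⁻¹) * a) * a⁻¹ = _; group⟩
      rw [he] at hx2
      obtain ⟨y, hy, hy'⟩ := hx2
      have : y = x := mul_left_cancel (mul_right_cancel (show b * y * b⁻¹ = b * x * b⁻¹ from hy'))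
      exact this ▸ hy
  have hdouble : (Nat.card G : ℝ) * ∑ g ∈ S, Complex.normSq (χ g) ≤
      (Nat.card N : ℝ) * ∑ g ∈ T, Complex.normSq (χ g) := by
    have e1 : (Nat.card G : ℝ) * ∑ g ∈ S, Complex.normSq (χ g) =
        ∑ q ∈ S ×ˢ (Finset.univ : Finset G), Complex.normSq (χ (q.2 * (q.1 : G) * q.2⁻¹)) := by
      rw [Finset.sum_product, Finset.mul_sum]
      refine Finset.sum_congr rfl fun s _ => ?_
      simp only [hclG (s : G), Finset.sum_const, Finset.card_univ, ← Nat.card_eq_fintype_card,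
        nsmul_eq_mul]
    rw [e1, ← Finset.sum_fiberwise_of_maps_to (t := T) (g := fun q : N × G => q.2 * (q.1 : G) * q.2⁻¹)
      (fun q hq => Finset.mem_filter.mpr ⟨Finset.mem_univ _, fun hc =>
        (Finset.mem_filter.mp (Finset.mem_product.mp hq).1).2.1 (by
          have := Subgroup.Normal.conj_mem (inferInstance : (Subgroup.center G).Normal) _ hc q.2⁻¹
          simpa [mul_assoc] using this)⟩), Finset.mul_sum]
    refine Finset.sum_le_sum fun g _ => ?_
    rw [Finset.sum_congr rfl fun q hq => show Complex.normSq (χ (q.2 * (q.1 : G) * q.2⁻¹)) =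
      Complex.normSq (χ g) by rw [(Finset.mem_filter.mp hq).2], Finset.sum_const, nsmul_eq_mul]
    refine mul_le_mul_of_nonneg_right (Nat.cast_le.mpr (le_trans ?_ (hA g))) (Complex.normSq_nonneg _)
    refine Finset.card_le_card_of_injOn (fun q => q.2) (fun q hq => ?_) (fun q hq q' hq' e => ?_)
    · simp only [Finset.mem_coe, Finset.mem_filter, Finset.mem_product] at hq
      exact Finset.mem_filter.mpr ⟨Finset.mem_univ _, q.1, hq.1.1, hq.2⟩
    · simp only [Finset.mem_coe, Finset.mem_filter, Finset.mem_product] at hq hq'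
      replace e : q.2 = q'.2 := e
      have := hq.2.trans hq'.2.symm
      rw [e] at this
      exact Prod.ext (Subtype.ext (mul_left_cancel (mul_right_cancel this))) e
  have htot : ∑ g ∈ T, Complex.normSq (χ g) + d ^ 2 ≤ Nat.card G := by
    have e1 := sum_sq_real χ
    rw [irr_inner_self hχ, Complex.one_re, mul_one] at e1
    rw [← e1, ← Finset.sum_filter_add_sum_filter_not Finset.univ (fun g => g ∉ Subgroup.center G)
      (fun g => Complex.normSq (χ g))]
    refine add_le_add le_rfl ?_
    have h1 : Complex.normSq (χ 1) = d ^ 2 := by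
      rw [hd, hn, Complex.normSq_natCast, sq]
    rw [← h1]
    exact Finset.single_le_sum (f := fun g => Complex.normSq (χ g)) (fun g _ => Complex.normSq_nonneg _)
      (Finset.mem_filter.mpr ⟨Finset.mem_univ (1 : G), not_not.mpr (Subgroup.one_mem _)⟩)
  have hG : (0 : ℝ) < Nat.card G := by exact_mod_cast Nat.card_pos
  have hN0 : (0 : ℝ) < Nat.card N := by exact_mod_cast Nat.card_pos
  have hd0 : (0 : ℝ) < d ^ 2 := by rw [hd]; positivity
  nlinarith [mul_le_mul_of_nonneg_left hlow hG.le, mul_le_mul_of_nonneg_left htot hN0.le,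
    mul_pos hN0 hd0]

theorem inner_self_ge_degree {H : Type u} [Group H] [Fintype H] (hab : ∀ a b : H, a * b = b * a)
    {χ : H → ℂ} (hχ : IsCharacter H χ) : (χ 1).re ≤ (classInner χ χ).re := by
  classical
  have hcl := isCharacter_classFunction hχ
  choose m hm using fun lam : IrrCharacter H => inner_character_nat hχ lam.2.isCharacter'
  have h1 : χ 1 = ∑ lam : IrrCharacter H, (m lam : ℂ) := by
    conv_lhs => rw [classFunction_eq_sum χ hcl]
    simp only [Finset.sum_apply, Pi.smul_apply, smul_eq_mul]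
    exact Finset.sum_congr rfl fun lam _ => by rw [hm, irr_degree_one_of_comm hab lam.2, mul_one]
  have h2 : classInner χ χ = ∑ lam : IrrCharacter H, ((m lam : ℂ) * (m lam : ℂ)) := by
    rw [inner_eq_sum_coeff χ χ hcl]
    exact Finset.sum_congr rfl fun lam _ => by rw [hm, Complex.conj_natCast]
  rw [h1, h2, Complex.re_sum, Complex.re_sum]
  refine Finset.sum_le_sum fun lam _ => ?_
  rw [← Nat.cast_mul, Complex.natCast_re, Complex.natCast_re]
  exact_mod_cast Nat.le_mul_self _

/-- The two bounds. -/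
theorem bounds (H : Subgroup G) [Fintype H] (hab : ∀ a ∈ H, ∀ b ∈ H, a * b = b * a)
    (hZ : H ⊓ Subgroup.center G = ⊥)
    (hone : ∀ g : G, g ∉ Subgroup.center G → ∀ a b : G,
      Subgroup.centralizer ({g} : Set G) ⊓ H.map (MulAut.conj a).toMonoidHom ≠ ⊥ →
      Subgroup.centralizer ({g} : Set G) ⊓ H.map (MulAut.conj b).toMonoidHom ≠ ⊥ →
      H.map (MulAut.conj a).toMonoidHom = H.map (MulAut.conj b).toMonoidHom)
    {χ : G → ℂ} (hχ : IsIrrCharacter G χ) (hker : ∃ h ∈ H, χ h ≠ χ 1) :
    (χ 1).re ^ 2 > (Nat.card H : ℝ) * (classInner (fun h : H => χ h) (fun _ => 1)).re ^ 2 ∧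
      (χ 1 ≠ 1 → (∀ M : Subgroup G, M.Normal → H ≤ M → M = ⊤) →
        (1 + (χ 1).re) ^ 2 > (Nat.card H : ℝ)) := by
  classical
  refine ⟨degree_bound H hZ hone hχ hker, fun hne hgen => ?_⟩
  obtain ⟨n, hn0, hn⟩ := exists_degree_pos hχ
  set f : G → ℂ := χ * fun g => conj (χ g) with hf
  have hfc : IsCharacter G f := isCharacter_mul hχ.isCharacter' (isCharacter_conj hχ.isCharacter')
  have hfcl := isCharacter_classFunction hfc
  choose k hk using fun ξ : IrrCharacter G => inner_character_nat hfc ξ.2.isCharacter'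
  let one : IrrCharacter G := ⟨fun _ => 1, isIrrCharacter_one⟩
  have hone1 : k one = 1 := by
    have h1 : classInner f (fun _ => 1) = classInner χ χ := by
      simp [classInner, hf]
    rw [show classInner f (fun _ => 1) = (k one : ℂ) from hk one, irr_inner_self hχ] at h1
    exact_mod_cast h1
  choose cξ hcξ using fun ξ : IrrCharacter G => inner_character_nat
    (isCharacter_restrict ξ.2.isCharacter' H) (isIrrCharacter_one (G := H)).isCharacter'
  choose e he using fun ξ : IrrCharacter G => exists_degree ξ.2.isCharacter'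
  have hdeg : (n : ℝ) ^ 2 = ∑ ξ : IrrCharacter G, (k ξ : ℝ) * e ξ := by
    have h1 := congrFun (classFunction_eq_sum f hfcl) 1
    simp only [Finset.sum_apply, Pi.smul_apply, smul_eq_mul, hk, he] at h1
    rw [hf, Pi.mul_apply, hn, Complex.conj_natCast] at h1
    have h2 := congrArg Complex.re h1
    simp only [Complex.re_sum, ← Nat.cast_mul, Complex.natCast_re] at h2
    rw [sq, ← Nat.cast_mul, h2]
    simp
  obtain ⟨M, hM⟩ : ∃ M : ℕ, classInner (fun h : H => χ h) (fun h : H => χ h) = M :=
    inner_character_nat (isCharacter_restrict hχ.isCharacter' H) (isCharacter_restrict hχ.isCharacter' H)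
  have hMsum : (M : ℝ) = ∑ ξ : IrrCharacter G, (k ξ : ℝ) * cξ ξ := by
    have h1 : classInner (fun h : H => f h) (fun _ => 1) = (M : ℂ) := by
      rw [← hM]; simp [classInner, hf]
    have h2 : (fun h : H => f h) = ∑ ξ : IrrCharacter G, classInner f ξ • fun h : H => (ξ : G → ℂ) h := by
      funext h
      have := congrFun (classFunction_eq_sum f hfcl) (h : G)
      simpa [Finset.sum_apply] using this
    rw [h2, Char.inner_sum_left] at h1
    simp only [Char.inner_smul_left, hk, hcξ, ← Nat.cast_mul, ← Nat.cast_sum, Nat.cast_inj] at h1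
    rw [← h1]
    push_cast
    rfl
  have hMn : (n : ℝ) ≤ M := by
    have := inner_self_ge_degree (H := H) (fun a b => Subtype.ext (hab _ a.2 _ b.2))
      (isCharacter_restrict hχ.isCharacter' H)
    rw [hM] at this
    simpa [hn] using this
  have hlt : ∀ ξ : IrrCharacter G, ξ ≠ one → (Nat.card H : ℝ) * (cξ ξ : ℝ) ^ 2 < (e ξ : ℝ) ^ 2 := by
    intro ξ hξ
    have hker' : ∃ h ∈ H, (ξ : G → ℂ) h ≠ (ξ : G → ℂ) 1 := by
      by_contra hc
      push Not at hc
      have htop := hgen (charKer ξ.2.isCharacter') (charKer_normal _) fun h hh => hc h hh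
      have hconst : ∀ g, (ξ : G → ℂ) g = (e ξ : ℂ) := fun g => by
        rw [← he ξ]
        exact (htop ▸ Subgroup.mem_top g : g ∈ charKer ξ.2.isCharacter')
      have h1 := irr_inner_self ξ.2
      simp only [classInner, hconst, Complex.conj_natCast, Finset.sum_const, Finset.card_univ,
        ← Nat.card_eq_fintype_card, nsmul_eq_mul] at h1
      rw [inv_mul_cancel_left₀ (natCard_ne_zero G), ← Nat.cast_mul, ← Nat.cast_one, Nat.cast_inj] at h1
      refine hξ (Subtype.ext (funext fun g => ?_))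
      rw [hconst g, Nat.eq_one_of_mul_eq_one_left h1, Nat.cast_one]
    have h2 := degree_bound H hZ hone ξ.2 hker'
    rw [hcξ, he] at h2
    simpa using h2
  -- compare
  set r := Real.sqrt (Nat.card H) with hr
  have hr0 : 0 ≤ r := Real.sqrt_nonneg _
  have hr2 : r ^ 2 = Nat.card H := Real.sq_sqrt (Nat.cast_nonneg _)
  have hlt' : ∀ ξ : IrrCharacter G, ξ ≠ one → r * cξ ξ < e ξ := by
    intro ξ hξ
    by_contra hc
    push Not at hc
    have := hlt ξ hξ
    rw [← hr2, ← mul_pow] at this
    exact absurd this (not_lt.mpr (pow_le_pow_left₀ (Nat.cast_nonneg _) hc 2))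
  have hc1 : cξ one = 1 := by
    have h0 := hcξ one
    rw [show (fun h : H => (one : G → ℂ) h) = (fun _ => (1 : ℂ)) from rfl,
      irr_inner_self isIrrCharacter_one] at h0
    exact_mod_cast h0.symm
  have he1 : e one = 1 := by
    have h0 : ((e one : ℕ) : ℂ) = 1 := (he one).symm
    exact_mod_cast h0
  have hsumE := Finset.add_sum_erase Finset.univ (fun ξ : IrrCharacter G => (k ξ : ℝ) * e ξ)
    (Finset.mem_univ one)
  have hsumC := Finset.add_sum_erase Finset.univ (fun ξ : IrrCharacter G => (k ξ : ℝ) * cξ ξ)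
    (Finset.mem_univ one)
  simp only [hone1, hc1, he1, Nat.cast_one, mul_one] at hsumE hsumC
  rw [← hdeg] at hsumE
  rw [← hMsum] at hsumC
  have hn2 : (2 : ℝ) ≤ n := by
    rcases Nat.lt_or_ge n 2 with h | h
    · interval_cases n
      exact absurd (by rw [hn]; simp) hne
    · exact_mod_cast h
  have hle : r * (M - 1) ≤ (n : ℝ) ^ 2 - 1 ∧ r * (M - 1) ≠ (n : ℝ) ^ 2 - 1 := by
    have hs : r * ∑ ξ ∈ Finset.univ.erase one, (k ξ : ℝ) * cξ ξ <
        ∑ ξ ∈ Finset.univ.erase one, (k ξ : ℝ) * e ξ := by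
      rw [Finset.mul_sum]
      refine Finset.sum_lt_sum (fun ξ hξ => ?_) ?_
      · rw [mul_left_comm]
        exact mul_le_mul_of_nonneg_left (hlt' ξ (Finset.ne_of_mem_erase hξ)).le (Nat.cast_nonneg _)
      · by_contra hc
        push Not at hc
        have hz : ∑ ξ ∈ Finset.univ.erase one, (k ξ : ℝ) * e ξ = 0 := Finset.sum_eq_zero fun ξ hξ => by
          rcases Nat.eq_zero_or_pos (k ξ) with h0 | h0
          · simp [h0]
          · exfalso
            have := hc ξ hξ
            rw [mul_left_comm] at this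
            exact absurd (hlt' ξ (Finset.ne_of_mem_erase hξ))
              (not_lt.mpr (le_of_mul_le_mul_left this (Nat.cast_pos.mpr h0)))
        rw [hz] at hsumE
        nlinarith [hsumE]
    constructor <;> nlinarith [hs, hsumE, hsumC]
  have hr1 : r < n + 1 := by
    by_contra hc
    push Not at hc
    have h3 : ((n : ℝ) + 1) * (n - 1) ≤ r * (M - 1) :=
      mul_le_mul hc (by linarith) (by linarith) hr0
    exact hle.2 (le_antisymm hle.1 (by linarith [h3]))
  rw [hn, Complex.natCast_re, gt_iff_lt, ← hr2]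
  exact pow_lt_pow_left₀ (by linarith) hr0 two_ne_zero

end CfsgLib.Leonard
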