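import Cfsg.Agent.Lib.CharSmall
import Cfsg.Prelude.Def_Transfer

/-!
# Character degrees that are powers of a prime; extraspecial groups
-/

set_option autoImplicit false
set_option linter.style.haveILetI false
set_option linter.unusedSectionVars false

namespace CfsgLib.Char

open Cfsg
open scoped ComplexConjugate commutatorElement

universe u v

variable {G : Type u} [Group G]

theorem exists_abelian_complement {p : ℕ} (hp : p.Prime) : ∀ (n : ℕ) {G : Type u} [Group G]
    [Finite G], Nat.card G = n →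
    (∀ χ : IrrCharacter G, ∃ k : ℕ, (χ : G → ℂ) 1 = (p : ℂ) ^ k) →
    ∃ A : Subgroup G, A.Normal ∧ (∀ a ∈ A, ∀ b ∈ A, a * b = b * a) ∧
      Nat.Coprime (Nat.card A) p ∧ ∃ k : ℕ, A.index = p ^ k := by
  intro n
  induction n using Nat.strong_induction_on with
  | _ n ih =>
    intro G _ _ hn hdeg
    classical
    haveI := Fintype.ofFinite G
    haveI := Fact.mk hp
    by_cases hpG : p ∣ Nat.card G
    swap
    · refine ⟨⊤, inferInstance, fun a _ b _ => comm_of_linear (fun χ => ?_) a b, ?_,
        0, by rw [Subgroup.index_top, pow_zero]⟩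
      · obtain ⟨k, hk⟩ := hdeg χ
        obtain ⟨d, hd, hdvd⟩ := irr_degree_dvd χ.2
        have hdk : d = p ^ k := by
          have h : (d : ℂ) = ((p ^ k : ℕ) : ℂ) := by push_cast; rw [← hd, hk]
          exact_mod_cast h
        rcases k with _ | k
        · rw [hk, pow_zero]
        · exact absurd ((dvd_pow_self p k.succ_ne_zero).trans (hdk ▸ hdvd)) hpG
      · rw [Subgroup.card_top]
        exact ((hp.coprime_iff_not_dvd).mpr hpG).symm
    choose k hk using hdeg
    have hlin : p ∣ Nat.card {χ : IrrCharacter G // (χ : G → ℂ) 1 = 1} := by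
      have h0 : Nat.card G = ∑ χ : IrrCharacter G, (p ^ k χ) ^ 2 := by
        apply Nat.cast_injective (R := ℂ)
        rw [← sum_degree_sq]
        push_cast
        exact Finset.sum_congr rfl fun χ _ => by rw [hk]
      have hsplit : Nat.card G = (Finset.univ.filter fun χ : IrrCharacter G => k χ = 0).card +
          ∑ χ ∈ Finset.univ.filter (fun χ : IrrCharacter G => ¬ k χ = 0), (p ^ k χ) ^ 2 := by
        rw [h0, ← Finset.sum_filter_add_sum_filter_not Finset.univ (fun χ => k χ = 0)]
        congr 1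
        rw [Finset.card_eq_sum_ones]
        exact Finset.sum_congr rfl fun χ hχ => by simp [(Finset.mem_filter.mp hχ).2]
      have hd2 : p ∣ ∑ χ ∈ Finset.univ.filter (fun χ : IrrCharacter G => ¬ k χ = 0), (p ^ k χ) ^ 2 :=
        Finset.dvd_sum fun χ hχ =>
          (dvd_pow_self p (Finset.mem_filter.mp hχ).2).trans (dvd_pow_self _ two_ne_zero)
      rw [hsplit] at hpG
      have hd1 := (Nat.dvd_add_left hd2).mp hpG
      convert hd1 using 1
      rw [Nat.card_eq_fintype_card, Fintype.card_subtype]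
      congr 1
      ext χ
      simp only [Finset.mem_filter, Finset.mem_univ, true_and, hk]
      constructor
      · intro h
        by_contra hne
        have : p ^ k χ = 1 := by exact_mod_cast h
        exact hp.ne_one ((pow_eq_one_iff_left hne).mp this)
      · intro h; rw [h, pow_zero]
    rw [← Nat.card_congr linCharEquiv] at hlin
    haveI : Finite (G →* ℂˣ) := Finite.of_equiv _ linCharEquiv.symm
    obtain ⟨f, hf⟩ := exists_prime_orderOf_dvd_card' p hlin
    set K := f.ker with hK
    have hKidx : K.index = p := by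
      rw [hK, Subgroup.index_ker]
      have hle : f.range ≤ rootsOfUnity p ℂ := by
        rintro _ ⟨g, rfl⟩
        rw [mem_rootsOfUnity, ← MonoidHom.pow_apply, ← hf, pow_orderOf_eq_one, MonoidHom.one_apply]
      haveI : NeZero p := ⟨hp.ne_zero⟩
      have hcr : Nat.card (rootsOfUnity p ℂ) = p :=
        HasEnoughRootsOfUnity.natCard_rootsOfUnity ℂ p
      have hdvd := Subgroup.card_dvd_of_le hle
      rw [hcr] at hdvd
      rcases (Nat.dvd_prime hp).mp hdvd with h | h
      · exfalso
        have hf1 : f = 1 := MonoidHom.ext fun g => by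
          have : f g ∈ f.range := ⟨g, rfl⟩
          rw [Subgroup.card_eq_one.mp h, Subgroup.mem_bot] at this
          rw [this, MonoidHom.one_apply]
        rw [hf1, orderOf_one] at hf
        exact hp.ne_one hf.symm
      · exact h
    haveI hKn : K.Normal := inferInstance
    have hKlt : Nat.card K < n := by
      rw [← hn, ← Subgroup.card_mul_index K, hKidx]
      exact lt_mul_of_one_lt_right Nat.card_pos hp.one_lt
    haveI : Fintype K := Fintype.ofFinite K
    have hKdeg : ∀ θ : IrrCharacter K, ∃ j : ℕ, (θ : K → ℂ) 1 = (p : ℂ) ^ j := by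
      intro θ
      obtain ⟨χ, hχ, hcon⟩ := exists_irr_over θ.2
      obtain ⟨c, hc, -⟩ := degree_ratio hχ θ.2 hcon
      obtain ⟨d, hd⟩ := exists_degree θ.2.isCharacter'
      have h : c * d = p ^ k ⟨χ, hχ⟩ := by
        have := hk ⟨χ, hχ⟩
        rw [hd] at hc
        exact_mod_cast hc.symm.trans this
      obtain ⟨j, -, hj⟩ := (Nat.dvd_prime_pow hp).mp (Dvd.intro_left c h)
      exact ⟨j, by rw [hd, hj]; push_cast; rfl⟩
    obtain ⟨A, hAn, hAab, hAcop, j, hAidx⟩ := ih _ hKlt rfl hKdeg
    haveI := hAn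
    have hmemA : ∀ x : K, (orderOf x).Coprime p → x ∈ A := by
      intro x hx
      rw [← QuotientGroup.eq_one_iff, ← orderOf_eq_one_iff]
      have h1 : orderOf (x : K ⧸ A) ∣ p ^ j := by
        rw [← hAidx, Subgroup.index]; exact orderOf_dvd_natCard _
      have h2 : orderOf (x : K ⧸ A) ∣ orderOf x := orderOf_map_dvd (QuotientGroup.mk' A) x
      exact Nat.eq_one_of_dvd_coprimes (hx.pow_right j) h2 h1
    refine ⟨A.map K.subtype, ⟨?_⟩, ?_, ?_, j + 1, ?_⟩
    · rintro _ ⟨a, ha, rfl⟩ g
      refine ⟨⟨g * a * g⁻¹, hKn.conj_mem _ a.2 g⟩, hmemA _ ?_, rfl⟩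
      have h1 : orderOf (g * (a : G) * g⁻¹) = orderOf a := by
        rw [← MulAut.conj_apply, MulEquiv.orderOf_eq, Subgroup.orderOf_coe]
      rw [Subgroup.orderOf_mk, h1]
      exact hAcop.coprime_dvd_left (Subgroup.orderOf_dvd_natCard A ha)
    · rintro _ ⟨a, ha, rfl⟩ _ ⟨b, hb, rfl⟩
      exact congrArg Subtype.val (hAab a ha b hb)
    · rwa [Subgroup.card_map_of_injective Subtype.val_injective]
    · rw [Subgroup.index_map_subtype, hAidx, hKidx, pow_succ]

theorem degrees_powers_iff [Finite G] {p : ℕ} (hp : p.Prime) :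
    (∀ χ : IrrCharacter G, ∃ k : ℕ, (χ : G → ℂ) 1 = (p : ℂ) ^ k) ↔
      ∃ A : Subgroup G, A.Normal ∧ (∀ a ∈ A, ∀ b ∈ A, a * b = b * a) ∧
        Nat.Coprime (Nat.card A) p ∧ ∃ k : ℕ, A.index = p ^ k := by
  haveI := Fintype.ofFinite G
  refine ⟨exists_abelian_complement hp _ rfl, ?_⟩
  rintro ⟨A, hA, hab, -, m, hm⟩ χ
  haveI := hA
  haveI := Fintype.ofFinite A
  obtain ⟨θ, hθ, hcon⟩ := exists_irr_under (H := A) χ.2
  obtain ⟨c, hc, hdvd⟩ := degree_ratio χ.2 hθ hcon
  rw [irr_degree_one_of_comm (fun a b : A => Subtype.ext (hab a a.2 b b.2)) hθ, mul_one] at hc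
  obtain ⟨j, -, hj⟩ := (Nat.dvd_prime_pow hp).mp (hm ▸ hdvd)
  exact ⟨j, by rw [hc, hj]; push_cast; rfl⟩

/-- For a non-central element of an extraspecial group some conjugate differs from it by a
nontrivial central element. -/
theorem extraspecial_conj {p : ℕ} (hG : IsExtraspecial p G) {x : G} (hx : x ∉ Subgroup.center G) :
    ∃ y c : G, c ∈ Subgroup.center G ∧ c ≠ 1 ∧ y * x * y⁻¹ = x * c := by
  obtain ⟨y, hy⟩ : ∃ y : G, y * x ≠ x * y := by
    by_contra h; push Not at h; exact hx (Subgroup.mem_center_iff.mpr h)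
  refine ⟨y, x⁻¹ * y * x * y⁻¹, ?_, ?_, by group⟩
  · rw [← hG.1.2.2]
    have h := Subgroup.commutator_mem_commutator (Subgroup.mem_top x⁻¹) (Subgroup.mem_top y)
    rw [commutatorElement_def, inv_inv] at h
    exact h
  · intro e
    apply hy
    calc y * x = x * (x⁻¹ * y * x * y⁻¹) * y := by group
      _ = x * y := by rw [e, mul_one]

/-- A class function of an extraspecial group which is multiplied by a faithful linear character of
the centre vanishes off the centre. -/
theorem extraspecial_vanish {p : ℕ} [hp : Fact p.Prime] (hG : IsExtraspecial p G) [Finite G]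
    {F : G → ℂ} (hF : IsClassFunction G F) (l : Subgroup.center G →* ℂˣ) (hl : l ≠ 1)
    (hmul : ∀ (g : G) (c : Subgroup.center G), F (g * c) = F g * (l c : ℂ)) {x : G}
    (hx : x ∉ Subgroup.center G) : F x = 0 := by
  obtain ⟨y, c, hc, hc1, he⟩ := extraspecial_conj hG hx
  have hlc : (l ⟨c, hc⟩ : ℂ) ≠ 1 := by
    rw [Ne, Units.val_eq_one]
    intro e
    refine hl (MonoidHom.ext fun z => ?_)
    have hgen : Subgroup.zpowers (⟨c, hc⟩ : Subgroup.center G) = ⊤ :=
      zpowers_eq_top_of_prime_card hG.2 fun h => hc1 (congrArg Subtype.val h)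
    obtain ⟨k, rfl⟩ := Subgroup.mem_zpowers_iff.mp (hgen ▸ Subgroup.mem_top z : z ∈ _)
    rw [map_zpow, e, one_zpow, MonoidHom.one_apply]
  have h := hmul x ⟨c, hc⟩
  rw [← he, hF x y] at h
  by_contra hne
  exact hlc (mul_left_cancel₀ hne (by rw [← h, mul_one]))

theorem extraspecial_norm {p : ℕ} [hp : Fact p.Prime] (hG : IsExtraspecial p G) [Fintype G]
    {F : G → ℂ} {m : ℕ} (hvan : ∀ x : G, x ∉ Subgroup.center G → F x = 0)
    (hz : ∀ z ∈ Subgroup.center G, ‖F z‖ = m) :
    classInner F F = ((Nat.card G : ℂ))⁻¹ * ((p : ℂ) * (m : ℂ) ^ 2) := by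
  classical
  unfold classInner
  congr 1
  rw [← Finset.sum_subset (Finset.subset_univ (Finset.univ.filter fun g => g ∈ Subgroup.center G))
    (fun x _ hx => by simp [hvan x (by simpa using hx)])]
  rw [Finset.sum_congr rfl fun z hz' => show F z * conj (F z) = (m : ℂ) ^ 2 by
    rw [Complex.mul_conj', hz z (Finset.mem_filter.mp hz').2, Complex.ofReal_natCast]]
  rw [Finset.sum_const, nsmul_eq_mul, ← Fintype.card_subtype, ← Nat.card_eq_fintype_card]
  exact congrArg (fun n : ℕ => (n : ℂ) * (m : ℂ) ^ 2) hG.2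

theorem extraspecial_induced [Fintype G] {p n : ℕ} [hp : Fact p.Prime] (hP : IsExtraspecial p G)
    (hcard : Nat.card G = p ^ (2 * n + 1)) (A : Subgroup G) (hA : Nat.card A = p ^ (n + 1))
    {lam : A → ℂ} (hlam : IsCharacter A lam ∧ lam 1 = 1)
    (hZ : ∃ a : A, (a : G) ∈ Subgroup.center G ∧ lam a ≠ 1) :
    IsIrrCharacter G (indFun A lam) ∧ ∀ x : G, x ∉ Subgroup.center G → indFun A lam x = 0 := by
  classical
  obtain ⟨f, rfl⟩ := exists_hom_of_degree_one hlam.1 hlam.2
  obtain ⟨a, haZ, ha⟩ := hZ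
  have ha' : f a ≠ 1 := fun e => ha (by simp [e])
  have ha1 : (⟨(a : G), haZ⟩ : Subgroup.center G) ≠ 1 := fun e => ha' (by
    rw [show a = 1 from Subtype.ext (congrArg Subtype.val e :), map_one])
  have hgen := zpowers_eq_top_of_prime_card hP.2 ha1
  have hZA : Subgroup.center G ≤ A := by
    intro z hz
    obtain ⟨k, hk⟩ := Subgroup.mem_zpowers_iff.mp (hgen ▸ Subgroup.mem_top (⟨z, hz⟩ : Subgroup.center G) :
      (⟨z, hz⟩ : Subgroup.center G) ∈ _)
    have : z = (a : G) ^ k := by simpa using (congrArg Subtype.val hk).symm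
    exact this ▸ A.zpow_mem a.2 k
  let l : Subgroup.center G →* ℂˣ := f.comp (Subgroup.inclusion hZA)
  have hl : l ≠ 1 := fun e => ha' (by
    have := DFunLike.congr_fun e ⟨(a : G), haZ⟩
    exact this)
  have hmul : ∀ (g : G) (c : Subgroup.center G),
      indFun A (fun x => (f x : ℂ)) (g * c) = indFun A (fun x => (f x : ℂ)) g * (l c : ℂ) := by
    intro g c
    simp only [indFun_apply, mul_assoc _ (∑ x : G, _) (l c : ℂ), Finset.sum_mul]
    congr 1
    refine Finset.sum_congr rfl fun x _ => ?_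
    have e : x⁻¹ * (g * c) * x = x⁻¹ * g * x * c := by
      simp only [mul_assoc]
      rw [← Subgroup.mem_center_iff.mp c.2 x]
    rw [e]
    by_cases h : x⁻¹ * g * x ∈ A
    · rw [extendByZero_mem _ (A.mul_mem h (hZA c.2)), extendByZero_mem _ h, ← Units.val_mul,
        show l c = f ⟨c, hZA c.2⟩ from rfl, ← map_mul]
      rfl
    · rw [extendByZero_not_mem _ h, extendByZero_not_mem _ (fun h' => h ((A.mul_mem_cancel_right (hZA c.2)).mp h')),
        zero_mul]
  have hvan : ∀ x : G, x ∉ Subgroup.center G → indFun A (fun x => (f x : ℂ)) x = 0 :=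
    fun x hx => extraspecial_vanish hP (indFun_classFunction _) l hl hmul hx
  have hidx : A.index = p ^ n := by
    have := Subgroup.card_mul_index A
    rw [hA, hcard, show 2 * n + 1 = (n + 1) + n by omega, pow_add p (n + 1)] at this
    exact Nat.eq_of_mul_eq_mul_left (pow_pos hp.out.pos _) this
  refine ⟨isIrr_of_inner_self_one (isCharacter_indFun hlam.1) ?_, hvan⟩
  have h1 : indFun A (fun x => (f x : ℂ)) 1 = ((p ^ n : ℕ) : ℂ) := by
    rw [indFun_one_apply, hidx, map_one, Units.val_one, mul_one]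
  rw [extraspecial_norm hP (m := p ^ n) hvan fun z hz => by
    have := hmul 1 ⟨z, hz⟩
    rw [one_mul, h1] at this
    rw [this, norm_mul, Complex.norm_natCast]
    rw [Complex.norm_eq_one_of_pow_eq_one (n := p) (by
      rw [← Units.val_pow_eq_pow_val, ← map_pow]
      rw [show (⟨z, hz⟩ : Subgroup.center G) ^ p = 1 from hP.2 ▸ pow_card_eq_one', map_one,
        Units.val_one]) hp.out.ne_zero, mul_one]]
  rw [hcard, inv_mul_eq_iff_eq_mul₀ (Nat.cast_ne_zero.mpr (pow_ne_zero _ hp.out.ne_zero))]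
  push_cast
  ring

theorem extraspecial_degrees [Finite G] {p n : ℕ} [hp : Fact p.Prime] (hP : IsExtraspecial p G)
    (hcard : Nat.card G = p ^ (2 * n + 1)) :
    (∀ χ : IrrCharacter G, (χ : G → ℂ) 1 = 1 ∨ (χ : G → ℂ) 1 = (p : ℂ) ^ n) ∧
      Nat.card {χ : IrrCharacter G // (χ : G → ℂ) 1 = (p : ℂ) ^ n} = p - 1 := by
  classical
  haveI := Fintype.ofFinite G
  have hp0 := hp.out.pos
  have hn : n ≠ 0 := by
    intro hn
    rw [hn] at hcard
    have htop : Subgroup.center G = ⊤ :=
      Subgroup.eq_top_of_card_eq _ (by rw [hP.2, hcard]; simp)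
    have hbot : commutator G = ⊥ := by
      rw [commutator_def, Subgroup.commutator_eq_bot_iff_le_centralizer]
      intro x _
      rw [Subgroup.mem_centralizer_iff]
      intro y _
      exact Subgroup.mem_center_iff.mp (htop ▸ Subgroup.mem_top x) y
    have := hP.1.2.2
    rw [hbot] at this
    have h := hP.2
    rw [← this, Subgroup.card_bot] at h
    exact hp.out.ne_one h.symm
  have hdeg : ∀ χ : IrrCharacter G, (χ : G → ℂ) 1 = 1 ∨ (χ : G → ℂ) 1 = (p : ℂ) ^ n := by
    intro χ
    by_cases hker : ∀ z ∈ Subgroup.center G, (χ : G → ℂ) z = (χ : G → ℂ) 1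
    · left
      obtain ⟨χ', -, hcomp, hirr⟩ := exists_deflate χ.2.isCharacter'
        (Abelianization.of (G := G)) Quotient.mk_surjective
        (fun k hk => hker k (by rwa [Abelianization.ker_of, hP.1.2.2] at hk))
      rw [← hcomp, Function.comp_apply, map_one]
      exact irr_degree_one_of_comm mul_comm (hirr χ.2)
    · right
      obtain ⟨d, hd0, hd⟩ := exists_degree_pos χ.2
      obtain ⟨l, hl, hval⟩ : ∃ l : Subgroup.center G →* ℂˣ, (∀ (g : G) (c : Subgroup.center G),
          (χ : G → ℂ) (g * c) = (χ : G → ℂ) g * (l c : ℂ)) ∧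
          (∀ c : Subgroup.center G, (χ : G → ℂ) c = d * (l c : ℂ)) := by
        obtain ⟨m, ρ, hρ, hρχ⟩ := χ.2
        haveI := hρ
        choose ω hω using fun z : Subgroup.center G => schur_scalar ρ (ρ z) fun g => by
          rw [← map_mul, ← map_mul, Subgroup.mem_center_iff.mp z.2 g]
        haveI := nontrivial_of_irreducible ρ
        obtain ⟨v, hv⟩ := exists_ne (0 : Fin m → ℂ)
        have hu : ∀ x y : ℂ, x • (1 : Module.End ℂ (Fin m → ℂ)) = y • 1 → x = y := fun x y h => by
          have := congrArg (fun T : Module.End ℂ (Fin m → ℂ) => T v) h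
          simpa [sub_eq_zero, ← sub_smul, hv] using sub_eq_zero.mpr this
        let f : Subgroup.center G →* ℂ :=
          { toFun := ω
            map_one' := hu _ _ (by rw [← hω, OneMemClass.coe_one, map_one, one_smul])
            map_mul' := fun a b => hu _ _ (by
              rw [← hω, Subgroup.coe_mul, map_mul, hω a, hω b, smul_mul_smul_comm, one_mul]) }
        refine ⟨f.toHomUnits, fun g c => ?_, fun c => ?_⟩
        · rw [← hρχ]
          show LinearMap.trace ℂ _ (ρ (g * c)) = LinearMap.trace ℂ _ (ρ g) * ω c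
          rw [map_mul, hω, mul_smul_comm, mul_one, map_smul, smul_eq_mul, mul_comm]
        · rw [← hd, ← hρχ]
          show LinearMap.trace ℂ _ (ρ c) = LinearMap.trace ℂ _ (ρ 1) * ω c
          rw [map_one, hω, map_smul, smul_eq_mul, mul_comm]
      have hl1 : l ≠ 1 := fun e => hker fun z hz => by
        rw [hval ⟨z, hz⟩, e, MonoidHom.one_apply, Units.val_one, mul_one, hd]
      have hvan : ∀ x : G, x ∉ Subgroup.center G → (χ : G → ℂ) x = 0 := fun x hx =>
        extraspecial_vanish hP (isCharacter_classFunction χ.2.isCharacter') l hl1 hl hx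
      have h1 := extraspecial_norm hP (m := d) hvan fun z hz => by
        rw [hval ⟨z, hz⟩, norm_mul, Complex.norm_natCast]
        rw [Complex.norm_eq_one_of_pow_eq_one (n := p) (by
          rw [← Units.val_pow_eq_pow_val, ← map_pow]
          rw [show (⟨z, hz⟩ : Subgroup.center G) ^ p = 1 from hP.2 ▸ pow_card_eq_one', map_one,
            Units.val_one]) hp.out.ne_zero, mul_one]
      rw [irr_inner_self χ.2, hcard] at h1
      rw [eq_comm, inv_mul_eq_iff_eq_mul₀ (Nat.cast_ne_zero.mpr (pow_ne_zero _ hp.out.ne_zero)),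
        mul_one] at h1
      have h2 : p ^ (2 * n + 1) = p * d ^ 2 := by exact_mod_cast h1.symm
      have h4 : d ^ 2 = (p ^ n) ^ 2 := by
        rw [← pow_mul]
        refine Nat.eq_of_mul_eq_mul_left hp0 ?_
        rw [← h2, ← pow_succ', mul_comm n 2]
      rw [hd, Nat.pow_left_injective two_ne_zero h4]
      push_cast; rfl
  refine ⟨hdeg, ?_⟩
  have hne : (1 : ℕ) ≠ p ^ n := fun e => hp.out.ne_one ((pow_eq_one_iff_left hn).mp e.symm)
  have hA : Nat.card {χ : IrrCharacter G // (χ : G → ℂ) 1 = 1} = p ^ (2 * n) := by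
    rw [card_linear_chars, hP.1.2.2]
    have := Subgroup.card_mul_index (Subgroup.center G)
    rw [hP.2, hcard, pow_succ'] at this
    exact Nat.eq_of_mul_eq_mul_left hp0 this
  have hsum : Nat.card G = Nat.card {χ : IrrCharacter G // (χ : G → ℂ) 1 = 1} +
      Nat.card {χ : IrrCharacter G // (χ : G → ℂ) 1 = (p : ℂ) ^ n} * (p ^ n) ^ 2 := by
    apply Nat.cast_injective (R := ℂ)
    rw [← sum_degree_sq, ← Finset.sum_filter_add_sum_filter_not Finset.univ
      (fun χ : IrrCharacter G => (χ : G → ℂ) 1 = 1)]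
    push_cast
    congr 1
    · rw [Finset.sum_congr rfl fun χ hχ => by rw [(Finset.mem_filter.mp hχ).2, one_pow],
        Finset.sum_const, nsmul_one, Nat.card_eq_fintype_card, Fintype.card_subtype]
    · have hfil : (Finset.univ.filter fun χ : IrrCharacter G => ¬ (χ : G → ℂ) 1 = 1) =
          Finset.univ.filter fun χ : IrrCharacter G => (χ : G → ℂ) 1 = (p : ℂ) ^ n := by
        refine Finset.filter_congr fun χ _ => ⟨fun h => (hdeg χ).resolve_left h, fun h e => hne ?_⟩
        exact_mod_cast e.symm.trans h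
      rw [hfil, Finset.sum_congr rfl fun χ hχ => by rw [(Finset.mem_filter.mp hχ).2],
        Finset.sum_const, nsmul_eq_mul, Nat.card_eq_fintype_card, Fintype.card_subtype]
  rw [hA, hcard, ← pow_mul, mul_comm n 2, pow_succ'] at hsum
  have h5 : (p - 1) * p ^ (2 * n) =
      Nat.card {χ : IrrCharacter G // (χ : G → ℂ) 1 = (p : ℂ) ^ n} * p ^ (2 * n) := by
    rw [Nat.sub_mul, one_mul]; omega
  exact (Nat.eq_of_mul_eq_mul_right (pow_pos hp0 _) h5).symm

end CfsgLib.Char
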