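import Cfsg.Agent.Lib.CharLeonard

/-!
# A sharper degree bound for abelian subgroups with a large commuting complement
-/

set_option autoImplicit false
set_option linter.unusedSectionVars false
set_option linter.style.haveILetI false

namespace CfsgLib.Uniform

open Cfsg CfsgLib.Char CfsgLib.Leonard
open scoped ComplexConjugate

universe u

variable {G : Type u} [Group G] [Fintype G]

theorem degree_bound_strong (H K : Subgroup G) [Fintype H] [Fintype K] (hab : ∀ a ∈ H, ∀ b ∈ H, a * b = b * a)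
    (hZ : H ⊓ Subgroup.center G = ⊥) (hdisj : H ⊓ K = ⊥) (hKH : ∀ a ∈ H, ∀ k ∈ K, a * k = k * a)
    (hone : ∀ g : G, g ∉ Subgroup.center G → ∀ a b : G,
      Subgroup.centralizer ({g} : Set G) ⊓ H.map (MulAut.conj a).toMonoidHom ≠ ⊥ →
      Subgroup.centralizer ({g} : Set G) ⊓ H.map (MulAut.conj b).toMonoidHom ≠ ⊥ →
      H.map (MulAut.conj a).toMonoidHom = H.map (MulAut.conj b).toMonoidHom)
    {χ : G → ℂ} (hχ : IsIrrCharacter G χ) (hker : ∃ h ∈ H, χ h ≠ χ 1)
    (hKsum : ∀ k ∈ K, ∑ h : H, χ ((h : G) * k) = ∑ h : H, χ h) :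
    (Nat.card H : ℝ) * Nat.card K * (classInner (fun h : H => χ h) (fun _ => 1)).re ^ 2 <
      (Nat.card (Subgroup.center G) : ℝ) * (χ 1).re ^ 2 := by
  classical
  set c := classInner (fun h : H => χ h) (fun _ => 1) with hcdef
  set N : Subgroup G := Subgroup.normalizer (H : Set G) with hN
  haveI : Fintype N := Fintype.ofFinite _
  have hHN : H ≤ N := Subgroup.le_normalizer
  haveI : (H.subgroupOf N).Normal :=
    (Subgroup.normal_subgroupOf_iff_le_normalizer hHN).mpr le_rfl
  haveI : Fintype (H.subgroupOf N) := Fintype.ofFinite _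
  have hcardK : Nat.card (H.subgroupOf N) = Nat.card H :=
    Nat.card_congr (Subgroup.subgroupOfEquivOfLe hHN).toEquiv
  obtain ⟨hinv, ⟨k, hk⟩, hsplit⟩ := average_split (H.subgroupOf N)
    (isCharacter_restrict hχ.isCharacter' N)
  set ψ : N → ℂ := fun g => (Nat.card (H.subgroupOf N) : ℂ)⁻¹ *
    ∑ h : H.subgroupOf N, χ (((h : N) * g : N) : G) with hψ
  have hclG : IsClassFunction G χ := isCharacter_classFunction hχ.isCharacter'
  have hKN : K ≤ N := fun k hk => by
    rw [hN, Subgroup.mem_normalizer_iff]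
    intro x
    constructor
    · intro hx
      rwa [← hKH x hx k hk, mul_inv_cancel_right]
    · intro hx
      have h1 := hKH _ hx k hk
      rw [inv_mul_cancel_right] at h1
      rw [mul_left_cancel h1]
      exact hx
  have hψK : ∀ k : G, ∀ (hk : k ∈ K) (hkN : k ∈ N), Complex.normSq (ψ ⟨k, hkN⟩) = Complex.normSq c := by
    intro k hk hkN
    congr 1
    simp only [hψ, hcdef, classInner, map_one, mul_one, hcardK]
    congr 1
    rw [← hKsum k hk]
    exact Fintype.sum_equiv (Subgroup.subgroupOfEquivOfLe hHN).toEquiv _ _ fun h => rfl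
  have hk1 : 1 ≤ k := by
    by_contra h0
    have hzero : (fun x : N => χ x) - ψ = 0 := Char.inner_self_eq_zero.mp (by
      rw [hk, Nat.lt_one_iff.mp (Nat.not_le.mp h0), Nat.cast_zero])
    obtain ⟨h, hh, hne⟩ := hker
    refine hne ?_
    have e1 : ψ ⟨h, hHN hh⟩ = χ h := (sub_eq_zero.mp (congrFun hzero ⟨h, hHN hh⟩)).symm
    have e2 : ψ ⟨1, one_mem N⟩ = χ 1 := (sub_eq_zero.mp (congrFun hzero ⟨1, one_mem N⟩)).symm
    rw [← e1, ← e2]
    have := hinv ⟨⟨h, hHN hh⟩, hh⟩ (1 : N)
    rw [mul_one] at this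
    exact this
  -- the sets
  let S : Finset N := Finset.univ.filter fun g =>
    (g : G) ∉ Subgroup.center G ∧ ∃ h ∈ H, h ≠ 1 ∧ (g : G) * h = h * g
  let Zs : Finset N := Finset.univ.filter fun g => (g : G) ∈ Subgroup.center G
  let F : Finset N := Finset.univ.filter fun g => g ∉ S ∧ g ∉ Zs
  have hFeq : ∀ g ∈ F, ψ g = χ g := by
    intro g hg
    obtain ⟨-, hgS, hgZ⟩ := Finset.mem_filter.mp hg
    have hgZ' : (g : G) ∉ Subgroup.center G := fun h => hgZ (Finset.mem_filter.mpr ⟨Finset.mem_univ _, h⟩)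
    have hfree : ∀ h ∈ H, (g : G) * h = h * g → h = 1 := fun h hh e => by
      by_contra h1
      exact hgS (Finset.mem_filter.mpr ⟨Finset.mem_univ _, hgZ', h, hh, h1, e⟩)
    let κ : H.subgroupOf N → H.subgroupOf N := fun x =>
      ⟨(x : N) * g * (x : N)⁻¹ * g⁻¹, by
        have h1 := Subgroup.Normal.conj_mem (inferInstance : (H.subgroupOf N).Normal) _ (inv_mem x.2) g
        rw [show (x : N) * g * (x : N)⁻¹ * g⁻¹ = (x : N) * (g * (x : N)⁻¹ * g⁻¹) by group]
        exact mul_mem x.2 h1⟩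
    have hκ : Function.Bijective κ := by
      rw [← Finite.injective_iff_bijective]
      intro x y e
      have e' : ((x : N) : G) * g * ((x : N) : G)⁻¹ * (g : G)⁻¹ =
          ((y : N) : G) * g * ((y : N) : G)⁻¹ * (g : G)⁻¹ :=
        congrArg (fun z : H.subgroupOf N => ((z : N) : G)) e
      have h1 := hfree _ (mul_mem (inv_mem y.2) x.2) (by
        show (g : G) * (((y : N) : G)⁻¹ * ((x : N) : G)) = ((y : N) : G)⁻¹ * ((x : N) : G) * g
        have h2 := mul_right_cancel e'
        calc (g : G) * (((y : N) : G)⁻¹ * ((x : N) : G))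
            = ((y : N) : G)⁻¹ * (((y : N) : G) * g * ((y : N) : G)⁻¹) * ((x : N) : G) := by group
          _ = ((y : N) : G)⁻¹ * ((x : N) : G) * g := by rw [← h2]; group)
      exact Subtype.ext (Subtype.ext (inv_mul_eq_one.mp h1).symm)
    have hval : ∀ h : H.subgroupOf N, χ (((h : N) * g : N) : G) = χ g := by
      intro h
      obtain ⟨x, rfl⟩ := hκ.2 h
      show χ ((((x : N) * g * (x : N)⁻¹ * g⁻¹) * g : N) : G) = χ g
      rw [inv_mul_cancel_right]
      exact hclG g ((x : N) : G)
    show _ * _ = _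
    rw [Finset.sum_congr rfl fun h _ => hval h, Finset.sum_const, Finset.card_univ,
      ← Nat.card_eq_fintype_card, nsmul_eq_mul, inv_mul_cancel_left₀ (natCard_ne_zero _)]
  have hpart : ∀ f : N → ℝ, ∑ g, f g = ∑ g ∈ S, f g + ∑ g ∈ Zs, f g + ∑ g ∈ F, f g := by
    intro f
    have h0 : ∀ g, f g = (if g ∈ S then f g else 0) + (if g ∈ Zs then f g else 0) +
        (if g ∈ F then f g else 0) := by
      intro g
      by_cases h1 : g ∈ S
      · have h2 : g ∉ Zs := fun h =>
          (Finset.mem_filter.mp h1).2.1 (Finset.mem_filter.mp h).2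
        have h3 : g ∉ F := fun h => (Finset.mem_filter.mp h).2.1 h1
        simp [h1, h2, h3]
      · by_cases h2 : g ∈ Zs
        · have h3 : g ∉ F := fun h => (Finset.mem_filter.mp h).2.2 h2
          simp [h1, h2, h3]
        · have h3 : g ∈ F := Finset.mem_filter.mpr ⟨Finset.mem_univ _, h1, h2⟩
          simp [h1, h2, h3]
    rw [Finset.sum_congr rfl fun g _ => h0 g]
    simp [Finset.sum_add_distrib]
  have hZscard : (Nat.card H : ℝ) * Nat.card K * Complex.normSq c ≤
      ∑ g ∈ S, Complex.normSq (ψ g) + ∑ g ∈ Zs, Complex.normSq (ψ g) := by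
    rw [← Finset.sum_union (Finset.disjoint_left.mpr fun g h1 h2 =>
      (Finset.mem_filter.mp h1).2.1 (Finset.mem_filter.mp h2).2)]
    let emb : H.subgroupOf N × K → N := fun q => (q.1 : N) * ⟨q.2, hKN q.2.2⟩
    have hinj : Function.Injective emb := by
      rintro ⟨x, z⟩ ⟨y, w⟩ e
      have e1 : ((x : N) : G) * z = ((y : N) : G) * w := congrArg Subtype.val e
      have e2 : ((y : N) : G)⁻¹ * ((x : N) : G) = (w : G) * (z : G)⁻¹ := by
        rw [eq_mul_inv_iff_mul_eq, mul_assoc, e1, inv_mul_cancel_left]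
      have e3 : ((y : N) : G)⁻¹ * ((x : N) : G) ∈ H ⊓ K :=
        Subgroup.mem_inf.mpr ⟨mul_mem (inv_mem y.2) x.2, e2 ▸ mul_mem w.2 (inv_mem z.2)⟩
      rw [hdisj, Subgroup.mem_bot, inv_mul_eq_one] at e3
      obtain rfl : x = y := Subtype.ext (Subtype.ext e3.symm)
      exact Prod.ext rfl (Subtype.ext (mul_left_cancel e1))
    obtain ⟨h0, hh0, hh0ne⟩ := hker
    have h01 : h0 ≠ 1 := fun e => hh0ne (by rw [e])
    refine le_trans (le_of_eq ?_) (Finset.sum_le_sum_of_subset_of_nonneg
      (s := (Finset.univ : Finset (H.subgroupOf N × K)).image emb) ?_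
      (fun g _ _ => Complex.normSq_nonneg _))
    · rw [Finset.sum_image hinj.injOn, Finset.sum_congr rfl fun q _ => show
          Complex.normSq (ψ (emb q)) = Complex.normSq c by
        rw [show ψ (emb q) = ψ ⟨q.2, hKN q.2.2⟩ from hinv q.1 _]
        exact hψK _ q.2.2 _,
        Finset.sum_const, Finset.card_univ, ← Nat.card_eq_fintype_card, Nat.card_prod, hcardK,
        nsmul_eq_mul, Nat.cast_mul]
    · intro g hg
      obtain ⟨⟨x, z⟩, -, rfl⟩ := Finset.mem_image.mp hg
      rw [Finset.mem_union]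
      by_cases hc : ((emb (x, z) : N) : G) ∈ Subgroup.center G
      · exact Or.inr (Finset.mem_filter.mpr ⟨Finset.mem_univ _, hc⟩)
      · refine Or.inl (Finset.mem_filter.mpr ⟨Finset.mem_univ _, hc, h0, hh0, h01, ?_⟩)
        show ((x : N) : G) * z * h0 = h0 * (((x : N) : G) * z)
        rw [mul_assoc, ← hKH h0 hh0 z z.2, ← mul_assoc, hab ((x : N) : G) x.2 h0 hh0, mul_assoc]
  set d : ℝ := (χ 1).re
  have hnorm : ∀ g : G, Complex.normSq (χ g) ≤ d ^ 2 := fun g => by
    rw [Complex.normSq_eq_norm_sq]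
    exact pow_le_pow_left₀ (norm_nonneg _) (isCharacter_norm_le hχ.isCharacter' g) 2
  obtain ⟨n, hn0, hn⟩ := exists_degree_pos hχ
  have hd : d = n := by simp [d, hn]
  by_contra hle
  push Not at hle
  obtain ⟨m, hm⟩ := inner_character_nat (isCharacter_restrict hχ.isCharacter' H)
    (isIrrCharacter_one (G := H)).isCharacter'
  have hc2 : Complex.normSq c = c.re ^ 2 := by
    rw [show c = m from hm, Complex.normSq_natCast, Complex.natCast_re, sq]
  -- lower bound on the sum over `S`
  have hlow : (Nat.card N : ℝ) ≤ ∑ g ∈ S, Complex.normSq (χ g) := by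
    have e1 := sum_sq_real (fun x : N => χ x)
    rw [hsplit, hk, Complex.add_re, mul_add, ← sum_sq_real ψ, Complex.natCast_re] at e1
    rw [hpart (fun g => Complex.normSq (χ g)), hpart (fun g => Complex.normSq (ψ g)),
      Finset.sum_congr (s₁ := F) rfl fun g hg => show Complex.normSq (ψ g) = Complex.normSq (χ g) by
        rw [hFeq g hg]] at e1
    have e2 : ∑ g ∈ Zs, Complex.normSq (χ g) ≤ Zs.card * d ^ 2 := by
      rw [← nsmul_eq_mul]
      exact Finset.sum_le_card_nsmul _ _ _ fun g _ => hnorm g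
    have e3 : (Zs.card : ℝ) * d ^ 2 ≤ (Nat.card H : ℝ) * Nat.card K * Complex.normSq c := by
      rw [hc2]
      refine le_trans (mul_le_mul_of_nonneg_right (Nat.cast_le.mpr ?_) (sq_nonneg d)) hle
      rw [← Fintype.card_coe, ← Nat.card_eq_fintype_card]
      exact Nat.card_le_card_of_injective
        (fun g : ↥Zs => (⟨((g : N) : G), (Finset.mem_filter.mp g.2).2⟩ : Subgroup.center G))
        fun a b e => Subtype.ext (Subtype.ext (congrArg (fun z : Subgroup.center G => (z : G)) e))
    have e4 : (Nat.card N : ℝ) * 1 ≤ (Nat.card N : ℝ) * k :=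
      mul_le_mul_of_nonneg_left (by exact_mod_cast hk1) (Nat.cast_nonneg _)
    linarith
  -- spreading over the conjugates
  let T : Finset G := Finset.univ.filter fun g => g ∉ Subgroup.center G
  let A : G → Finset G := fun g => Finset.univ.filter fun a => ∃ s ∈ S, a * (s : G) * a⁻¹ = g
  have hA : ∀ g, (A g).card ≤ Nat.card N := by
    intro g
    rcases (A g).eq_empty_or_nonempty with h0 | ⟨a, ha⟩
    · simp [h0]
    rw [Nat.card_eq_fintype_card, ← Finset.card_univ]
    refine le_trans (Finset.card_le_card (t := (Finset.univ : Finset N).image fun x : N => a * (x : G)) ?_)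
      Finset.card_image_le
    intro b hb
    have hmem : ∀ a ∈ A g, g ∉ Subgroup.center G ∧
        Subgroup.centralizer ({g} : Set G) ⊓ H.map (MulAut.conj a).toMonoidHom ≠ ⊥ := by
      intro a ha
      obtain ⟨s, hs, rfl⟩ := (Finset.mem_filter.mp ha).2
      obtain ⟨hsZ, h, hh, h1, hcomm⟩ := (Finset.mem_filter.mp hs).2
      refine ⟨fun hc => hsZ ?_, fun e => h1 ?_⟩
      · have := Subgroup.Normal.conj_mem (inferInstance : (Subgroup.center G).Normal) _ hc a⁻¹
        simpa [mul_assoc] using this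
      · have hm : a * h * a⁻¹ ∈ Subgroup.centralizer ({a * (s : G) * a⁻¹} : Set G) ⊓
            H.map (MulAut.conj a).toMonoidHom := by
          refine ⟨Subgroup.mem_centralizer_singleton_iff.mpr ?_, h, hh, rfl⟩
          calc a * h * a⁻¹ * (a * (s : G) * a⁻¹) = a * (h * s) * a⁻¹ := by group
            _ = a * (s : G) * a⁻¹ * (a * h * a⁻¹) := by rw [← hcomm]; group
        rw [e, Subgroup.mem_bot] at hm
        exact conj_eq_one_iff.mp hm
    obtain ⟨hgZ, ha'⟩ := hmem a ha
    have he := hone g hgZ a b ha' (hmem b hb).2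
    refine Finset.mem_image.mpr ⟨⟨a⁻¹ * b, ?_⟩, Finset.mem_univ _, by simp⟩
    rw [hN, Subgroup.mem_set_normalizer_iff]
    intro x
    have : a⁻¹ * b * x * (a⁻¹ * b)⁻¹ = a⁻¹ * (b * x * b⁻¹) * a := by group
    rw [this]
    constructor
    · intro hx
      obtain ⟨y, hy, hy'⟩ := (he ▸ ⟨x, hx, rfl⟩ : b * x * b⁻¹ ∈ H.map (MulAut.conj a).toMonoidHom)
      rw [← show a * y * a⁻¹ = b * x * b⁻¹ from hy', show a⁻¹ * (a * y * a⁻¹) * a = y by group]
      exact hy
    · intro hx
      have hx2 : b * x * b⁻¹ ∈ H.map (MulAut.conj a).toMonoidHom :=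
        ⟨_, hx, by show a * (a⁻¹ * (b * x * b⁻¹) * a) * a⁻¹ = _; group⟩
      rw [he] at hx2
      obtain ⟨y, hy, hy'⟩ := hx2
      have : y = x := mul_left_cancel (mul_right_cancel (show b * y * b⁻¹ = b * x * b⁻¹ from hy'))
      exact this ▸ hy
  have hdouble : (Nat.card G : ℝ) * ∑ g ∈ S, Complex.normSq (χ g) ≤
      (Nat.card N : ℝ) * ∑ g ∈ T, Complex.normSq (χ g) := by
    have e1 : (Nat.card G : ℝ) * ∑ g ∈ S, Complex.normSq (χ g) =
        ∑ q ∈ S ×ˢ (Finset.univ : Finset G), Complex.normSq (χ (q.2 * (q.1 : G) * q.2⁻¹)) := by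
      rw [Finset.sum_product, Finset.mul_sum]
      refine Finset.sum_congr rfl fun s _ => ?_
      simp only [hclG (s : G), Finset.sum_const, Finset.card_univ, ← Nat.card_eq_fintype_card,
        nsmul_eq_mul]
    rw [e1, ← Finset.sum_fiberwise_of_maps_to (t := T) (g := fun q : N × G => q.2 * (q.1 : G) * q.2⁻¹)
      (fun q hq => Finset.mem_filter.mpr ⟨Finset.mem_univ _, fun hc =>
        (Finset.mem_filter.mp (Finset.mem_product.mp hq).1).2.1 (by
          have := Subgroup.Normal.conj_mem (inferInstance : (Subgroup.center G).Normal) _ hc q.2⁻¹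
          simpa [mul_assoc] using this)⟩), Finset.mul_sum]
    refine Finset.sum_le_sum fun g _ => ?_
    rw [Finset.sum_congr rfl fun q hq => show Complex.normSq (χ (q.2 * (q.1 : G) * q.2⁻¹)) =
      Complex.normSq (χ g) by rw [(Finset.mem_filter.mp hq).2], Finset.sum_const, nsmul_eq_mul]
    refine mul_le_mul_of_nonneg_right (Nat.cast_le.mpr (le_trans ?_ (hA g))) (Complex.normSq_nonneg _)
    refine Finset.card_le_card_of_injOn (fun q => q.2) (fun q hq => ?_) (fun q hq q' hq' e => ?_)
    · simp only [Finset.mem_coe, Finset.mem_filter, Finset.mem_product] at hq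
      exact Finset.mem_filter.mpr ⟨Finset.mem_univ _, q.1, hq.1.1, hq.2⟩
    · simp only [Finset.mem_coe, Finset.mem_filter, Finset.mem_product] at hq hq'
      replace e : q.2 = q'.2 := e
      have := hq.2.trans hq'.2.symm
      rw [e] at this
      exact Prod.ext (Subtype.ext (mul_left_cancel (mul_right_cancel this))) e
  have htot : ∑ g ∈ T, Complex.normSq (χ g) + d ^ 2 ≤ Nat.card G := by
    have e1 := sum_sq_real χ
    rw [irr_inner_self hχ, Complex.one_re, mul_one] at e1
    rw [← e1, ← Finset.sum_filter_add_sum_filter_not Finset.univ (fun g => g ∉ Subgroup.center G)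
      (fun g => Complex.normSq (χ g))]
    refine add_le_add le_rfl ?_
    have h1 : Complex.normSq (χ 1) = d ^ 2 := by
      rw [hd, hn, Complex.normSq_natCast, sq]
    rw [← h1]
    exact Finset.single_le_sum (f := fun g => Complex.normSq (χ g)) (fun g _ => Complex.normSq_nonneg _)
      (Finset.mem_filter.mpr ⟨Finset.mem_univ (1 : G), not_not.mpr (Subgroup.one_mem _)⟩)
  have hG : (0 : ℝ) < Nat.card G := by exact_mod_cast Nat.card_pos
  have hN0 : (0 : ℝ) < Nat.card N := by exact_mod_cast Nat.card_pos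
  have hd0 : (0 : ℝ) < d ^ 2 := by rw [hd]; positivity
  nlinarith [mul_le_mul_of_nonneg_left hlow hG.le, mul_le_mul_of_nonneg_left htot hN0.le,
    mul_pos hN0 hd0]

end CfsgLib.Uniform
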