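import Mathlib

/-! Coxeter presentation of the symmetric group: the counting bound. -/

set_option autoImplicit false

namespace CfsgLib.CoxA

variable {G : Type*} [Group G]

/-- The relations of type A on the first `n` members of a sequence. -/
structure Rel (s : ℕ → G) (n : ℕ) : Prop where
  sq : ∀ i, i < n → s i * s i = 1
  braid : ∀ i, i + 1 < n → s (i + 1) * s i * s (i + 1) = s i * s (i + 1) * s i
  comm : ∀ i j, i + 1 < j → j < n → Commute (s i) (s j)

theorem Rel.mono {s : ℕ → G} {n : ℕ} (h : Rel s (n + 1)) : Rel s n :=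
  ⟨fun i hi => h.sq i (by omega), fun i hi => h.braid i (by omega), fun i j hi hj => h.comm i j hi (by omega)⟩

/-- The product of `d` consecutive members starting at `k`. -/
def chain (s : ℕ → G) : ℕ → ℕ → G
  | _, 0 => 1
  | k, d + 1 => s k * chain s (k + 1) d

theorem chain_comm {s : ℕ → G} {n : ℕ} (h : Rel s n) {j : ℕ} :
    ∀ d k, k + d ≤ n → j + 1 < k → Commute (s j) (chain s k d) := by
  intro d
  induction d with
  | zero => intro k _ _; exact Commute.one_right _
  | succ d ih => intro k hk hj; exact (h.comm j k hj (by omega)).mul_right (ih (k + 1) (by omega) (by omega))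

theorem chain_shift {s : ℕ → G} {n : ℕ} (h : Rel s n) :
    ∀ d k j, k + d ≤ n → k < j → j < k + d → s j * chain s k d = chain s k d * s (j - 1) := by
  intro d
  induction d with
  | zero => intro k j _ h1 h2; omega
  | succ d ih =>
    intro k j hk h1 h2
    rcases Nat.lt_or_ge (k + 1) j with h3 | h3
    · calc s j * (s k * chain s (k + 1) d) = s k * (s j * chain s (k + 1) d) := by
            rw [← mul_assoc, ← mul_assoc, ((h.comm k j h3 (by omega)).symm).eq]
        _ = s k * chain s (k + 1) d * s (j - 1) := by rw [ih (k + 1) j (by omega) h3 (by omega), mul_assoc]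
    · obtain rfl : j = k + 1 := by omega
      cases d with
      | zero => omega
      | succ d =>
        show s (k + 1) * (s k * (s (k + 1) * chain s (k + 1 + 1) d)) = s k * (s (k + 1) * chain s (k + 1 + 1) d) * s (k + 1 - 1)
        rw [Nat.add_sub_cancel, mul_assoc (s k), mul_assoc (s (k + 1)) (chain s (k + 1 + 1) d), ← (chain_comm h (j := k) d (k + 1 + 1) (by omega) (by omega)).eq]
        simp only [← mul_assoc]
        rw [h.braid k (by omega)]

/-- The group generated by the first `n` members has at most `(n+1)!` elements. -/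
theorem card_closure_le (s : ℕ → G) : ∀ n, Rel s n →
    (Subgroup.closure (s '' Set.Iio n) : Set G).Finite ∧
      Nat.card ↥(Subgroup.closure (s '' Set.Iio n)) ≤ Nat.factorial (n + 1) := by
  intro n
  induction n with
  | zero =>
    intro _
    have h0 : Subgroup.closure (s '' Set.Iio 0) = ⊥ := by simp
    rw [h0]
    exact ⟨by simp, by simp⟩
  | succ n ih =>
    intro h
    obtain ⟨hfin, hcard⟩ := ih h.mono
    set H := Subgroup.closure (s '' Set.Iio n)
    set T : Set G := (fun p : Fin (n + 2) × G => chain s p.1 (n + 1 - p.1) * p.2) '' (Set.univ ×ˢ (H : Set G))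
    have hmemH : ∀ j, j < n → s j ∈ H := fun j hj => Subgroup.subset_closure ⟨j, hj, rfl⟩
    have hT : ∀ j, j < n + 1 → ∀ x ∈ T, s j * x ∈ T := by
      rintro j hj x ⟨⟨k, g⟩, ⟨-, hg⟩, rfl⟩
      have hk : (k : ℕ) < n + 2 := k.isLt
      rcases Nat.lt_trichotomy (j + 1) k with h1 | h1 | h1
      · refine ⟨⟨k, s j * g⟩, ⟨trivial, mul_mem (hmemH j (by omega)) hg⟩, ?_⟩
        show chain s k (n + 1 - k) * (s j * g) = s j * (chain s k (n + 1 - k) * g)
        rw [← mul_assoc, ← mul_assoc, (chain_comm h _ k (by omega) h1).eq]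
      · refine ⟨⟨⟨j, by omega⟩, g⟩, ⟨trivial, hg⟩, ?_⟩
        show chain s j (n + 1 - j) * g = s j * (chain s k (n + 1 - k) * g)
        rw [← mul_assoc, ← h1, show n + 1 - j = (n + 1 - (j + 1)) + 1 by omega]
        rfl
      · rcases Nat.eq_or_lt_of_le (Nat.le_of_lt_succ h1) with h2 | h2
        · refine ⟨⟨⟨j + 1, by omega⟩, g⟩, ⟨trivial, hg⟩, ?_⟩
          show chain s (j + 1) (n + 1 - (j + 1)) * g = s j * (chain s k (n + 1 - k) * g)
          rw [h2, show n + 1 - j = (n + 1 - (j + 1)) + 1 by omega, chain, ← mul_assoc, ← mul_assoc, h.sq j hj, one_mul]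
        · refine ⟨⟨k, s (j - 1) * g⟩, ⟨trivial, mul_mem (hmemH _ (by omega)) hg⟩, ?_⟩
          show chain s k (n + 1 - k) * (s (j - 1) * g) = s j * (chain s k (n + 1 - k) * g)
          rw [← mul_assoc, ← mul_assoc, chain_shift h _ k j (by omega) h2 (by omega)]
    have hone : (1 : G) ∈ T := ⟨⟨⟨n + 1, by omega⟩, 1⟩, ⟨trivial, one_mem H⟩, by simp [chain]⟩
    have hsub : (Subgroup.closure (s '' Set.Iio (n + 1)) : Set G) ⊆ T := by
      intro x hx
      suffices ∀ y ∈ T, x * y ∈ T by simpa using this 1 hone
      induction hx using Subgroup.closure_induction with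
      | mem x hx => obtain ⟨j, hj, rfl⟩ := hx; exact hT j hj
      | one => intro y hy; simpa using hy
      | mul a b _ _ ha hb => intro y hy; rw [mul_assoc]; exact ha _ (hb _ hy)
      | inv a _ ha =>
        intro y hy
        have hfinT : T.Finite := ((Set.finite_univ).prod hfin).image _
        obtain ⟨z, hz, hzy⟩ := ((hfinT.injOn_iff_bijOn_of_mapsTo (f := fun z => a * z) ha).1
          (mul_right_injective a).injOn).surjOn hy
        rw [← hzy]; simpa using hz
    have hfinT : T.Finite := ((Set.finite_univ).prod hfin).image _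
    refine ⟨hfinT.subset hsub, ?_⟩
    calc Nat.card ↥(Subgroup.closure (s '' Set.Iio (n + 1)))
        = (Subgroup.closure (s '' Set.Iio (n + 1)) : Set G).ncard := Nat.card_coe_set_eq _
      _ ≤ T.ncard := Set.ncard_le_ncard hsub hfinT
      _ ≤ (Set.univ ×ˢ (H : Set G) : Set (Fin (n + 2) × G)).ncard := Set.ncard_image_le ((Set.finite_univ).prod hfin)
      _ = (n + 2) * Nat.card H := by rw [Set.ncard_prod, Set.ncard_univ, Nat.card_fin, ← Nat.card_coe_set_eq]; rfl
      _ ≤ (n + 2) * Nat.factorial (n + 1) := Nat.mul_le_mul_left _ hcard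
      _ = Nat.factorial (n + 1 + 1) := (Nat.factorial_succ (n + 1)).symm

end CfsgLib.CoxA
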