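import Mathlib

/-! Fixed-point-free elements of prime order in transitive groups of degree `m * p`, `m ≤ p`,
and of prime power degree. -/

set_option autoImplicit false

namespace CfsgLib.Classical.Elusive

variable {G Ω : Type*} [Group G] [Finite G] [MulAction G Ω] [FaithfulSMul G Ω] [Fintype Ω]

theorem prime_pow (htr : MulAction.IsPretransitive G Ω) {p k : ℕ} (hp : p.Prime) (hk : 1 ≤ k)
    (hΩ : Fintype.card Ω = p ^ k) : ∃ g : G, orderOf g = p ∧ ∀ ω : Ω, g • ω ≠ ω := by
  classical
  haveI : Fact p.Prime := ⟨hp⟩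
  haveI := htr
  obtain ⟨ω₀⟩ : Nonempty Ω := Fintype.card_pos_iff.mp (by rw [hΩ]; exact pow_pos hp.pos k)
  let P : Sylow p G := default
  -- `P` is transitive
  have hidx : (MulAction.stabilizer G ω₀).index = p ^ k := by
    rw [MulAction.index_stabilizer_of_transitive, Nat.card_eq_fintype_card, hΩ]
  have hPidx : ((MulAction.stabilizer P ω₀)).index = p ^ k := by
    have h1 : MulAction.stabilizer P ω₀ = (MulAction.stabilizer G ω₀).subgroupOf P := rfl
    have h2 : p ^ k ∣ ((MulAction.stabilizer G ω₀).subgroupOf P).index := by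
      have h3 : (MulAction.stabilizer G ω₀ ⊓ P).index = ((MulAction.stabilizer G ω₀).subgroupOf P).index * (P : Subgroup G).index := by
        rw [← Subgroup.relIndex_mul_index (inf_le_right : MulAction.stabilizer G ω₀ ⊓ P ≤ P), Subgroup.inf_relIndex_right]
        rfl
      have h4 : p ^ k ∣ (MulAction.stabilizer G ω₀ ⊓ P).index := hidx ▸ Subgroup.index_dvd_of_le inf_le_left
      rw [h3] at h4
      exact ((hp.coprime_iff_not_dvd.mpr P.not_dvd_index).pow_left k).dvd_of_dvd_mul_right h4
    have h5 : ((MulAction.stabilizer G ω₀).subgroupOf P).index ≤ p ^ k := by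
      rw [← h1, MulAction.index_stabilizer, ← hΩ, ← Nat.card_eq_fintype_card]
      exact Set.ncard_le_card _
    exact le_antisymm (h1 ▸ h5) (Nat.le_of_dvd (Nat.pos_of_ne_zero Subgroup.index_ne_zero_of_finite) (h1 ▸ h2))
  have horb : MulAction.orbit P ω₀ = Set.univ := by
    refine Set.eq_univ_of_forall fun ω => ?_
    have h := MulAction.index_stabilizer P ω₀
    rw [hPidx] at h
    by_contra hω
    have hlt := Set.ncard_lt_ncard (Set.ssubset_univ_iff.mpr fun (h' : MulAction.orbit P ω₀ = Set.univ) => hω (Set.eq_univ_iff_forall.mp h' ω)) Set.finite_univ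
    rw [← h, Set.ncard_univ, Nat.card_eq_fintype_card, hΩ] at hlt
    exact lt_irrefl _ hlt
  haveI : Nontrivial P := by
    by_contra hP
    rw [not_nontrivial_iff_subsingleton] at hP
    haveI := hP
    rw [Subgroup.index_eq_card] at hPidx
    have : Nat.card (P ⧸ MulAction.stabilizer P ω₀) = 1 := Nat.card_eq_one_iff_unique.mpr
      ⟨inferInstance, ⟨QuotientGroup.mk 1⟩⟩
    rw [this] at hPidx
    exact absurd hPidx (Nat.one_lt_pow (by omega) hp.one_lt).ne
  haveI := P.2.center_nontrivial
  have hdvd : p ∣ Nat.card (Subgroup.center P) := by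
    obtain ⟨n, hn⟩ := (P.2.to_subgroup (Subgroup.center P)).exists_card_eq
    rcases Nat.eq_zero_or_pos n with h | h
    · rw [h, pow_zero] at hn
      exact absurd hn Finite.one_lt_card.ne'
    · rw [hn]; exact dvd_pow_self _ h.ne'
  obtain ⟨z, hz⟩ := exists_prime_orderOf_dvd_card' p hdvd
  refine ⟨((z : P) : G), by rw [Subgroup.orderOf_coe, Subgroup.orderOf_coe, hz], fun ω hω => ?_⟩
  have hall : ∀ x : Ω, ((z : P) : G) • x = x := fun x => by
    have hx : x ∈ MulAction.orbit P ω₀ := horb ▸ Set.mem_univ x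
    have hω' : ω ∈ MulAction.orbit P ω₀ := horb ▸ Set.mem_univ ω
    rw [← MulAction.orbit_eq_iff.mpr hω'] at hx
    obtain ⟨g, rfl⟩ := hx
    have hc : (g : G) * ((z : P) : G) = ((z : P) : G) * (g : G) :=
      congrArg Subtype.val (Subgroup.mem_center_iff.mp z.2 g)
    show ((z : P) : G) • ((g : G) • ω) = (g : G) • ω
    rw [← mul_smul, ← hc, mul_smul, hω]
  have h1 : ((z : P) : G) = 1 := eq_of_smul_eq_smul fun x => by rw [hall x, one_smul]
  have : z = 1 := Subtype.ext (Subtype.ext h1)
  rw [this, orderOf_one] at hz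
  exact hp.ne_one hz.symm

theorem mul_prime (htr : MulAction.IsPretransitive G Ω) {p m : ℕ} (hp : p.Prime) (hm : 1 ≤ m)
    (hmp : m ≤ p) (hΩ : Fintype.card Ω = m * p) : ∃ g : G, orderOf g = p ∧ ∀ ω : Ω, g • ω ≠ ω := by
  classical
  rcases hmp.eq_or_lt with rfl | hlt
  · exact prime_pow htr hp one_le_two (by rw [hΩ, sq])
  haveI : Fact p.Prime := ⟨hp⟩
  haveI := htr
  let P : Sylow p G := default
  haveI : Fintype P := Fintype.ofFinite P
  have hidx : ∀ ω : Ω, (MulAction.stabilizer P ω).index = p := fun ω => by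
    obtain ⟨j, hj⟩ := P.2.index (MulAction.stabilizer P ω)
    have h1 : MulAction.stabilizer P ω = (MulAction.stabilizer G ω).subgroupOf P := rfl
    have h4 : p ∣ (MulAction.stabilizer G ω ⊓ P).index := by
      refine dvd_trans ?_ (Subgroup.index_dvd_of_le inf_le_left)
      rw [MulAction.index_stabilizer_of_transitive, Nat.card_eq_fintype_card, hΩ]
      exact dvd_mul_left _ _
    rw [← Subgroup.relIndex_mul_index (inf_le_right : MulAction.stabilizer G ω ⊓ P ≤ P),
      Subgroup.inf_relIndex_right, Subgroup.relIndex, ← h1, hj] at h4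
    have hj0 : j ≠ 0 := fun h => by
      rw [h, pow_zero, one_mul] at h4
      exact P.not_dvd_index h4
    have hle : (MulAction.stabilizer P ω).index ≤ m * p := by
      rw [MulAction.index_stabilizer, ← hΩ, ← Nat.card_eq_fintype_card]
      exact Set.ncard_le_card _
    rw [hj] at hle ⊢
    by_contra hne
    have hj2 : 2 ≤ j := by
      rcases Nat.lt_or_ge j 2 with h | h
      · exfalso; apply hne; rw [show j = 1 by omega, pow_one]
      · exact h
    have := (Nat.pow_le_pow_right hp.pos hj2).trans hle
    nlinarith [hp.pos]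
  obtain ⟨g, hg⟩ : ∃ g : P, ∀ ω : Ω, g • ω ≠ ω := by
    by_contra! hall
    have hfix : ∀ g : P, p ≤ Fintype.card (MulAction.fixedBy Ω g) := fun g => by
      obtain ⟨ω, hω⟩ := hall g
      have hn : (MulAction.stabilizer P ω).Normal := by
        refine Subgroup.normal_of_index_eq_minFac_card ?_
        obtain ⟨n, hn⟩ := P.2.exists_card_eq
        rw [hidx, hn, Nat.pow_minFac (fun h => ?_), hp.minFac_eq]
        have h' := Subgroup.index_dvd_card (MulAction.stabilizer P ω)
        rw [hidx, hn, h, pow_zero] at h'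
        exact hp.ne_one (Nat.dvd_one.mp h')
      have hsub : MulAction.orbit P ω ⊆ MulAction.fixedBy Ω g := by
        rintro _ ⟨h, rfl⟩
        show g • h • ω = h • ω
        have := hn.conj_mem g (show g ∈ MulAction.stabilizer P ω from hω) h⁻¹
        rw [inv_inv, MulAction.mem_stabilizer_iff, mul_smul, mul_smul, inv_smul_eq_iff] at this
        exact this
      have := Set.ncard_le_ncard hsub (Set.toFinite _)
      rwa [← MulAction.index_stabilizer, hidx, ← Nat.card_coe_set_eq, Nat.card_eq_fintype_card] at this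
    have hB := MulAction.sum_card_fixedBy_eq_card_orbits_mul_card_group P Ω
    have horb : ∀ o : MulAction.orbitRel.Quotient P Ω, Nat.card o.orbit = p := fun o => by
      induction o using Quotient.inductionOn' with
      | _ ω => rw [MulAction.orbitRel.Quotient.orbit_mk, Nat.card_coe_set_eq, ← MulAction.index_stabilizer, hidx]
    have hcard : Fintype.card (MulAction.orbitRel.Quotient P Ω) * p = m * p := by
      rw [← hΩ, ← Nat.card_eq_fintype_card (α := Ω), Nat.card_congr (MulAction.selfEquivSigmaOrbits' P Ω),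
        Nat.card_sigma, Finset.sum_congr rfl fun o _ => horb o, Finset.sum_const, Finset.card_univ, smul_eq_mul]
    have hcard' : Fintype.card (MulAction.orbitRel.Quotient P Ω) = m := Nat.eq_of_mul_eq_mul_right hp.pos hcard
    have hsum : Fintype.card P * p ≤ ∑ g : P, Fintype.card (MulAction.fixedBy Ω g) := by
      refine le_trans (le_of_eq ?_) (Finset.sum_le_sum fun g _ => hfix g)
      rw [Finset.sum_const, Finset.card_univ, smul_eq_mul]
    have hB' : ∑ g : P, Fintype.card (MulAction.fixedBy Ω g) = m * Fintype.card P := by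
      rw [← hcard']; convert hB using 2
    rw [hB'] at hsum
    have : 0 < Fintype.card P := Fintype.card_pos
    nlinarith
  have hgp : g ^ p = 1 := by
    refine Subtype.ext (eq_of_smul_eq_smul fun ω : Ω => ?_)
    rw [Subgroup.coe_one, one_smul]
    show (g ^ p) • ω = ω
    haveI : (MulAction.stabilizer P ω).Normal := by
      refine Subgroup.normal_of_index_eq_minFac_card ?_
      obtain ⟨n, hn⟩ := P.2.exists_card_eq
      rw [hidx, hn, Nat.pow_minFac (fun h => ?_), hp.minFac_eq]
      have h' := Subgroup.index_dvd_card (MulAction.stabilizer P ω)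
      rw [hidx, hn, h, pow_zero] at h'
      exact hp.ne_one (Nat.dvd_one.mp h')
    have := Subgroup.pow_index_mem (MulAction.stabilizer P ω) g
    rwa [hidx, MulAction.mem_stabilizer_iff] at this
  obtain ⟨ω₀⟩ : Nonempty Ω := Fintype.card_pos_iff.mp (by rw [hΩ]; exact Nat.mul_pos hm hp.pos)
  have hg1 : g ≠ 1 := fun h => hg ω₀ (by rw [h, one_smul])
  exact ⟨g, by rw [Subgroup.orderOf_coe, orderOf_eq_prime hgp hg1], fun ω => hg ω⟩

end CfsgLib.Classical.Elusive
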