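import Cfsg.Agent.Lib.LocalPGVTwo
import Cfsg.Agent.Lib.LocalBase

/-!
Assembly of the P(G,V)-theorem.
-/

set_option autoImplicit false

namespace CfsgLib.Local.PGV

open scoped Pointwise commutatorElement
open CfsgLib.Core

section Two

variable {G : Type*} [Group G] [Finite G] {V : Type*} [AddCommGroup V]
  [Finite V] [Module (ZMod 2) V] (ρ : Representation (ZMod 2) G V)

/-- A quasisimple subgroup fixes pointwise every invariant subgroup of fixed vectors of a non-central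
element. -/
theorem fixed_by_component {K : Subgroup G} (hK : Cfsg.IsQuasisimple ↥K) {h : G} (hh : h ∈ K)
    (hnc : ∃ k ∈ K, h * k ≠ k * h) (C : AddSubgroup V) (hC : ∀ k ∈ K, ∀ v ∈ C, ρ k v ∈ C)
    (hfix : ∀ v ∈ C, ρ h v = v) : ∀ k ∈ K, ∀ v ∈ C, ρ k v = v := by
  set N : Subgroup ↥K := (pointFix ρ (C : Set V)).subgroupOf K
  haveI hN : N.Normal := ⟨fun n hn k => by
    rw [Subgroup.mem_subgroupOf, mem_pointFix] at hn ⊢
    intro v hv
    push_cast
    rw [rho_mul, rho_mul, hn _ (hC _ (K.inv_mem k.2) v hv), rho_self_inv]⟩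
  have hmem : (⟨h, hh⟩ : ↥K) ∈ N := Subgroup.mem_subgroupOf.2 ((mem_pointFix ρ).2 hfix)
  rcases quasisimple_normal_cases hK N with e | e
  · intro k hk v hv
    exact (mem_pointFix ρ).1 (Subgroup.mem_subgroupOf.1 (e ▸ Subgroup.mem_top (⟨k, hk⟩ : ↥K))) v hv
  · exfalso
    obtain ⟨k, hk, hne⟩ := hnc
    exact hne (congrArg Subtype.val (Subgroup.mem_center_iff.1 (e hmem) ⟨k, hk⟩)).symm

theorem five_pow_gt : ∀ n : ℕ, 2 ≤ n → n ^ 4 < 5 ^ n := by
  intro n hn
  rcases eq_or_lt_of_le hn with rfl | h3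
  · norm_num
  clear hn
  induction n, h3 using Nat.le_induction with
  | base => norm_num
  | succ n hn ih =>
    have h2 : 3 * (n + 1) ≤ 4 * n := by omega
    have h1 := Nat.pow_le_pow_left h2 4
    rw [Nat.mul_pow, Nat.mul_pow] at h1
    rw [pow_succ 5]
    norm_num at h1
    omega

theorem five_pow_gt' : ∀ n : ℕ, 2 ≤ n → n * n < 5 ^ (n - 1) := by
  intro n hn
  induction n, hn using Nat.le_induction with
  | base => norm_num
  | succ n hn ih =>
    have h1 : (n + 1) * (n + 1) ≤ 5 * (n * n) := by nlinarith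
    rw [show n + 1 - 1 = (n - 1) + 1 by omega, pow_succ]
    omega

/-- The case of an offender with trivial normaliser in itself. -/
theorem two_regular (hf : Function.Injective ρ) {K : Subgroup G} (hK : Cfsg.IsComponent K)
    (E : Subgroup G) (hEab : ∀ a ∈ E, ∀ b ∈ E, a * b = b * a)
    (hE1 : E ≠ ⊥) (hreg : ∀ e ∈ E, e ∈ Subgroup.normalizer (K : Set G) → e = 1)
    (hV : Nat.card V ≤ Nat.card ↥E * Nat.card ↥(fixSet ρ (E : Set G))) : False := by
  classical
  haveI : Fact (Nat.Prime 2) := ⟨Nat.prime_two⟩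
  obtain ⟨q, hq, hq2, hq5, x, hx, ⟨i, hxi⟩, k₀, hk₀, hxk⟩ := exists_noncentral_prime_power hK.2 2
  haveI := Fact.mk hq
  let ι := {e : G // e ∈ E ∧ e ≠ 1}
  haveI : Fintype ι := Fintype.ofFinite _
  let M : ι → Subgroup G := fun e => MulAut.conj (e : G) • K
  have hM : ∀ e : ι, Cfsg.IsComponent (M e) := fun e => isComponent_conj_smul hK _
  have hMK : ∀ e : ι, M e ≠ K := fun e => conj_smul_ne_self fun h => e.2.2 (hreg _ e.2.1 h)
  have hMM : ∀ e f : ι, e ≠ f → M e ≠ M f := by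
    intro e f hne h
    refine hne (Subtype.ext ?_)
    have h1 : MulAut.conj ((e : G)⁻¹ * f) • K = K := by
      rw [← conj_smul_conj_smul, show MulAut.conj (f : G) • K = M f from rfl, ← h, conj_smul_conj_smul,
        inv_mul_cancel, conj_one_smul]
    exact inv_mul_eq_one.1 (hreg _ (E.mul_mem (E.inv_mem e.2.1) f.2.1) (conj_smul_eq_self_iff.1 h1))
  let g : ι → G := fun e => ((e : G) * x * (e : G)⁻¹) * x⁻¹
  have cK : ∀ e : ι, ∀ y ∈ M e, ∀ z ∈ K, y * z = z * y := fun e y hy z hz =>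
    comm_of_components (hM e) hK (hMK e) hy hz
  have hcomm : ∀ e f, g e * g f = g f * g e := by
    intro e f
    by_cases hef : e = f
    · rw [hef]
    have c1 : Commute ((e : G) * x * (e : G)⁻¹) ((f : G) * x * (f : G)⁻¹) :=
      comm_of_components (hM e) (hM f) (hMM e f hef) (conj_mem_conj_smul hx) (conj_mem_conj_smul hx)
    have c2 : Commute ((e : G) * x * (e : G)⁻¹) x⁻¹ := cK e _ (conj_mem_conj_smul hx) _ (K.inv_mem hx)
    have c3 : Commute ((f : G) * x * (f : G)⁻¹) x⁻¹ := cK f _ (conj_mem_conj_smul hx) _ (K.inv_mem hx)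
    exact ((c1.mul_right c2).mul_left (c3.symm.mul_right (Commute.refl _))).eq
  have hord : ∀ e, ∃ k : ℕ, g e ^ q ^ k = 1 := fun e => ⟨i, by
    have c2 : Commute ((e : G) * x * (e : G)⁻¹) x⁻¹ := cK e _ (conj_mem_conj_smul hx) _ (K.inv_mem hx)
    rw [c2.mul_pow, conj_pow, hxi, inv_pow, hxi]; group⟩
  have hnc : ∀ e, ∃ m ∈ M e, g e * m ≠ m * g e := fun e => by
    refine ⟨(e : G) * k₀ * (e : G)⁻¹, conj_mem_conj_smul hk₀, fun h => hxk ?_⟩
    have c2 : x⁻¹ * ((e : G) * k₀ * (e : G)⁻¹) = ((e : G) * k₀ * (e : G)⁻¹) * x⁻¹ :=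
      (cK e _ (conj_mem_conj_smul hk₀) _ (K.inv_mem hx)).symm
    have h' : ((e : G) * x * (e : G)⁻¹) * ((e : G) * k₀ * (e : G)⁻¹) * x⁻¹ =
        ((e : G) * k₀ * (e : G)⁻¹) * ((e : G) * x * (e : G)⁻¹) * x⁻¹ := by
      have h0 : (((e : G) * x * (e : G)⁻¹) * x⁻¹) * ((e : G) * k₀ * (e : G)⁻¹) =
          ((e : G) * k₀ * (e : G)⁻¹) * (((e : G) * x * (e : G)⁻¹) * x⁻¹) := h
      calc _ = ((e : G) * x * (e : G)⁻¹) * (((e : G) * k₀ * (e : G)⁻¹) * x⁻¹) := by group
        _ = (((e : G) * x * (e : G)⁻¹) * x⁻¹) * ((e : G) * k₀ * (e : G)⁻¹) := by rw [← c2]; group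
        _ = _ := by rw [h0]; group
    have h'' : (e : G) * (x * k₀) * (e : G)⁻¹ = (e : G) * (k₀ * x) * (e : G)⁻¹ := by
      have := mul_right_cancel h'
      calc (e : G) * (x * k₀) * (e : G)⁻¹
          = ((e : G) * x * (e : G)⁻¹) * ((e : G) * k₀ * (e : G)⁻¹) := by group
        _ = _ := this
        _ = _ := by group
    exact mul_left_cancel (mul_right_cancel h'')
  have hcent : ∀ e f, e ≠ f → ∀ m ∈ M e, g f * m = m * g f := by
    intro e f hef m hm
    have c1 : Commute ((f : G) * x * (f : G)⁻¹) m :=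
      comm_of_components (hM f) (hM e) (hMM f e (Ne.symm hef)) (conj_mem_conj_smul hx) hm
    have c2 : Commute x⁻¹ m := (cK e m hm _ (K.inv_mem hx)).symm
    exact (c1.mul_left c2).eq
  obtain ⟨hYab, hYq, hYcard⟩ := exists_abelian_qgroup q g M hcomm hord hnc hcent Finset.univ
  set Y := Subgroup.closure (g '' ↑(Finset.univ : Finset ι))
  set F := fixSet ρ (E : Set G) with hF
  set F' := F.map (ρ x).toAddMonoidHom with hF'
  set Cs := F ⊓ F' with hCs
  have hYfix : Y ≤ pointFix ρ (Cs : Set V) := by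
    rw [Subgroup.closure_le]
    rintro _ ⟨e, -, rfl⟩
    refine (mem_pointFix ρ).2 ?_
    rintro _ ⟨hv, w, hw, rfl⟩
    have h1 := (mem_fixSet ρ).1 hw (e : G)⁻¹ (E.inv_mem e.2.1)
    have h2 := (mem_fixSet ρ).1 hv (e : G) e.2.1
    show ρ ((e : G) * x * (e : G)⁻¹ * x⁻¹) (ρ x w) = ρ x w
    rw [rho_mul, rho_inv_self, rho_mul, rho_mul, h1]
    exact h2
  have hup := abelian_coprime_card_le ρ Y hYab (fun a ha => by
    obtain ⟨j, hj⟩ := hYq ⟨a, ha⟩
    exact Nat.Coprime.coprime_dvd_left (orderOf_dvd_of_pow_eq_one (congrArg Subtype.val hj))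
      (((Nat.coprime_primes hq Nat.prime_two).2 hq2).pow_left j))
    (fun a _ h => eq_one_of_fix ρ hf h) Cs
    (fun v hv => (mem_fixSet ρ).2 fun a ha => (mem_pointFix ρ).1 (hYfix ha) v hv)
  obtain ⟨k1, k2⟩ := card_mul_card_le (C₁ := F) (C₂ := F') (T := ⊤) (I := Cs) le_top le_top le_rfl
  have hFF' : Nat.card ↥F' = Nat.card ↥F :=
    (Nat.card_congr (AddSubgroup.equivMapOfInjective F _
      (fun a b h => rho_inj ρ h)).toEquiv).symm
  rw [hFF'] at k1
  rw [AddSubgroup.card_top] at k2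
  have hcnt : Nat.card ι + 1 = Nat.card ↥E := by
    rw [← Finite.card_option]
    refine Nat.card_congr
      { toFun := fun o => o.elim 1 fun e => ⟨e.1, e.2.1⟩
        invFun := fun e => if h : e = 1 then none else some ⟨e, e.2, fun h' => h (Subtype.ext h')⟩
        left_inv := ?_
        right_inv := ?_ }
    · intro o
      rcases o with _ | e
      · simp
      · simp [e.2.2]
    · intro e
      by_cases h : e = 1 <;> simp [h]
  rw [Finset.card_univ, ← Nat.card_eq_fintype_card] at hYcard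
  have hn2 : 2 ≤ Nat.card ↥E :=
    (Subgroup.one_lt_card_iff_ne_bot E).2 hE1
  set n := Nat.card ↥E
  have hVpos : 0 < Nat.card V := Nat.card_pos
  have hCpos : 0 < Nat.card ↥Cs := Nat.card_pos
  have h5 : 5 ^ (n - 1) ≤ Nat.card ↥Y := by
    refine le_trans ?_ hYcard
    rw [show Nat.card ι = n - 1 by omega]
    exact Nat.pow_le_pow_left (hq5 rfl) _
  have hlt := five_pow_gt' n hn2
  have h6 : Nat.card V * Nat.card V ≤ n * n * (Nat.card V * Nat.card ↥Cs) := by
    calc Nat.card V * Nat.card V ≤ (n * Nat.card ↥F) * (n * Nat.card ↥F) := Nat.mul_le_mul hV hV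
      _ = n * n * (Nat.card ↥F * Nat.card ↥F) := by ring
      _ ≤ _ := Nat.mul_le_mul_left _ (le_trans k1 k2)
  have h7 : Nat.card V ≤ n * n * Nat.card ↥Cs := by
    refine Nat.le_of_mul_le_mul_left ?_ hVpos
    calc Nat.card V * Nat.card V ≤ _ := h6
      _ = _ := by ring
  have h8 : Nat.card ↥Y ≤ n * n :=
    Nat.le_of_mul_le_mul_right (hup.trans h7) hCpos
  omega

/-- The case of an offender containing a quadratic element normalising the component. -/
theorem two_normalizing (hf : Function.Injective ρ) {K : Subgroup G} (hK : Cfsg.IsComponent K)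
    (A : Subgroup G) (hab : ∀ a ∈ A, ∀ b ∈ A, a * b = b * a) (h2 : ∀ a ∈ A, a * a = 1)
    (hAK : ∀ a ∈ A, (∀ k ∈ K, a * k = k * a) → a = 1)
    (hV : Nat.card V ≤ Nat.card ↥A * Nat.card ↥(fixSet ρ (A : Set G)))
    {c : G} (hcA : c ∈ A) (hc1 : c ≠ 1) (hcK : c ∈ Subgroup.normalizer (K : Set G))
    (hq : ∀ a ∈ A, ∀ v, ρ a (ρ c v - v) = ρ c v - v)
    {a₀ : G} (ha₀ : a₀ ∈ A) (ha₀K : a₀ ∉ Subgroup.normalizer (K : Set G)) : False := by
  classical
  haveI : Fact (Nat.Prime 2) := ⟨Nat.prime_two⟩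
  set N := Subgroup.normalizer (K : Set G) with hN
  have hinvA : ∀ a ∈ A, a⁻¹ = a := fun a ha => inv_eq_of_mul_eq_one_right (h2 a ha)
  have hnc : ∀ b ∈ A, b ≠ 1 → ∃ k ∈ K, b * k ≠ k * b := by
    intro b hb hb1
    by_contra hcon
    push_neg at hcon
    exact hb1 (hAK b hb hcon)
  obtain ⟨h, hhK, hodd, hinv, hhnc⟩ := exists_inverted hK.2 (h2 c hcA) hcK (hnc c hcA hc1)
  -- conjugates by movers
  have hcomp : ∀ g, g ∉ N → ∀ y ∈ K, ∀ z ∈ K, y * (g * z * g⁻¹) = (g * z * g⁻¹) * y :=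
    fun g hg y hy z hz => comm_of_components hK (isComponent_conj_smul hK g)
      (conj_smul_ne_self hg).symm hy (conj_mem_conj_smul hz)
  have hca : ∀ g ∈ A, g ∉ N → ∀ y ∈ K, y * (g * y * g) = (g * y * g) * y := fun g hg hgN y hy => by
    have := hcomp g hgN y hy y hy
    rwa [hinvA g hg] at this
  have htop : ∀ (g : G), ∀ v ∈ (⊤ : AddSubgroup V), ρ g v ∈ (⊤ : AddSubgroup V) := fun _ _ _ => trivial
  set C := fixSet ρ ({h} : Set G) with hC
  have hCiff : ∀ v, v ∈ C ↔ ρ h v = v := fun v => ⟨fun hv => (mem_fixSet ρ).1 hv h rfl,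
    fun hv => (mem_fixSet ρ).2 fun g hg => by rw [Set.mem_singleton_iff] at hg; rw [hg]; exact hv⟩
  have hCg : ∀ g ∈ A, g ∉ N → ∀ v, (ρ h v = v ↔ ρ (g * h * g) v = v) := fun g hg hgN v =>
    pair_fixed ρ ⊤ (h2 g hg) (h2 c hcA) (hab g hg c hcA) rfl hinv (hca g hg hgN h hhK) (htop g)
      (htop c) (htop h) (fun v _ => hq g hg v) hodd v trivial
  have hKC : ∀ k ∈ K, ∀ v ∈ C, ρ k v ∈ C := by
    intro k hk v hv
    rw [hCiff] at hv ⊢
    rw [hCg a₀ ha₀ ha₀K] at hv ⊢
    have := hcomp a₀ ha₀K k hk h hhK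
    rw [hinvA a₀ ha₀] at this
    rw [← rho_mul, ← this, rho_mul, hv]
  have hKfix : ∀ k ∈ K, ∀ v ∈ C, ρ k v = v :=
    fixed_by_component ρ hK.2 hhK hhnc C hKC fun v hv => (hCiff v).1 hv
  set R : AddSubgroup V := (comm ρ h).range with hR
  have hdec : ∀ v, ∃ q, ρ h q = q ∧ ∃ z, q + (ρ h z - z) = v := fun v => by
    obtain ⟨q, -, hq', z, -, hz⟩ := exists_decomp ρ hodd ⊤ (htop h) (v := v) trivial
    exact ⟨q, hq', z, hz⟩
  have hCR : ∀ v ∈ R, ρ h v = v → v = 0 := by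
    rintro _ ⟨z, rfl⟩ hz
    rw [comm_apply] at hz ⊢
    rw [fixed_of_sub_fixed ρ (Nat.coprime_two_right.2 hodd) hz, sub_self]
  have hcommR : ∀ g, g * h = h * g → ∀ v ∈ R, ρ g v ∈ R := by
    rintro g hg _ ⟨z, rfl⟩
    refine ⟨ρ g z, ?_⟩
    rw [comm_apply, comm_apply, map_sub, ← rho_mul, ← rho_mul, hg]
  have hgodd : ∀ g ∈ A, Odd (orderOf (g * h * g)) := by
    intro g hg
    rw [show g * h * g = MulAut.conj g h by rw [MulAut.conj_apply, hinvA g hg], MulEquiv.orderOf_eq]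
    exact hodd
  have hRg : ∀ g ∈ A, g ∉ N → ∀ z, ρ (g * h * g) z - z ∈ R := by
    intro g hg hgN z
    obtain ⟨q, hq', z', hz'⟩ := hdec z
    have h1 := (hCg g hg hgN q).1 hq'
    rw [← hz', map_add, h1, add_sub_add_left_eq_sub]
    exact AddSubgroup.sub_mem _ (hcommR _ (hca g hg hgN h hhK).symm _ ⟨z', rfl⟩) ⟨z', rfl⟩
  have hRsub : ∀ g ∈ A, g ∉ N → ∀ z, ∃ z', ρ (g * h * g) z' - z' = ρ h z - z := by
    intro g hg hgN z
    obtain ⟨q, -, hq', z', -, hz'⟩ := exists_decomp ρ (hgodd g hg) ⊤ (htop _) (v := z) trivial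
    have h1 := (hCg g hg hgN q).2 hq'
    refine ⟨ρ h z' - z', ?_⟩
    rw [← hz', map_add, h1, add_sub_add_left_eq_sub, map_sub, map_sub,
      show ρ (g * h * g) (ρ h z') = ρ h (ρ (g * h * g) z') by rw [← rho_mul, ← rho_mul, hca g hg hgN h hhK]]
    abel
  have hKR : ∀ k ∈ K, ∀ v ∈ R, ρ k v ∈ R := by
    rintro k hk _ ⟨z, rfl⟩
    obtain ⟨z', hz'⟩ := hRsub a₀ ha₀ ha₀K z
    rw [comm_apply, ← hz', map_sub, ← rho_mul]
    have := hcomp a₀ ha₀K k hk h hhK
    rw [hinvA a₀ ha₀] at this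
    rw [this, rho_mul]
    exact hRg a₀ ha₀ ha₀K _
  have hKdiff : ∀ k ∈ K, ∀ v, ρ k v - v ∈ R := by
    intro k hk v
    obtain ⟨q, hq', z, hz⟩ := hdec v
    rw [← hz, map_add, hKfix k hk q ((hCiff q).2 hq'), add_sub_add_left_eq_sub]
    exact AddSubgroup.sub_mem _ (hKR k hk _ ⟨z, rfl⟩) ⟨z, rfl⟩
  have hAR : ∀ g ∈ A, ∀ v ∈ R, ρ g v ∈ R := by
    rintro g hg _ ⟨z, rfl⟩
    rw [comm_apply, map_sub]
    have e : ρ g (ρ h z) = ρ (g * h * g) (ρ g z) := by
      rw [← rho_mul, ← rho_mul, mul_assoc (g * h), h2 g hg, mul_one]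
    rw [e]
    by_cases hgN : g ∈ N
    · refine hKdiff _ ?_ _
      have := (Subgroup.mem_normalizer_iff.1 hgN h).1 hhK
      rwa [hinvA g hg] at this
    · exact hRg g hg hgN _
  have hhR : ∀ v ∈ R, ρ h v ∈ R := hcommR h rfl
  have hKconjR : ∀ g ∈ A, g ∉ N → ∀ k ∈ K, ∀ v ∈ R, ρ (g * k * g) v ∈ R := fun g hg hgN k hk v hv => by
    rw [rho_mul, rho_mul]; exact hAR g hg _ (hKR k hk _ (hAR g hg v hv))
  set U0 : AddSubgroup V := R.map (comm ρ c) with hU0
  have hU0R : U0 ≤ R := by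
    rintro _ ⟨z, hz, rfl⟩
    exact AddSubgroup.sub_mem _ (hAR c hcA z hz) hz
  have hU0fix : ∀ g ∈ A, ∀ u ∈ U0, ρ g u = u := by
    rintro g hg _ ⟨z, -, rfl⟩
    exact hq g hg z
  -- vectors fixed by an involution inverting a fixed-point-free element
  have hinvfix : ∀ b, b * b = 1 → ∀ k, Odd (orderOf k) → b * k * b = k⁻¹ →
      (∀ v ∈ R, ρ b v ∈ R) → (∀ v ∈ R, ρ k v ∈ R) → (∀ v ∈ R, ρ k v = v → v = 0) →
      ∀ v ∈ R, ρ b v = v → ∃ z ∈ R, ρ b z - z = v := by
    intro b hb k hk hbk hbR hkR hkfp v hv hbv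
    let D : AddSubgroup V := R ⊓ fixSet ρ ({b} : Set G)
    have hb' : ∀ w ∈ D, ρ b w = w := fun w hw => (mem_fixSet ρ).1 hw.2 b rfl
    have e1 : ∀ w, ρ b w = w → ρ b (ρ k w) = ρ k⁻¹ w := fun w hw => by
      conv_lhs => rw [← hw]
      rw [← rho_mul, ← rho_mul, hbk]
    have e2 : ∀ w, ρ b w = w → ρ b (ρ k⁻¹ w) = ρ k w := fun w hw => by
      rw [← e1 w hw, ← rho_mul, hb, rho_one]
    have hD : ∀ w ∈ D, ρ k w + ρ k⁻¹ w ∈ D := fun w hw =>
      ⟨AddSubgroup.add_mem _ (hkR w hw.1) (inv_stable ρ R hkR w hw.1), (mem_fixSet ρ).2 fun g hg => by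
        rw [Set.mem_singleton_iff] at hg
        rw [hg, map_add, e1 w (hb' w hw), e2 w (hb' w hw), add_comm]⟩
    let f : ↥D → ↥D := fun w => ⟨_, hD w w.2⟩
    have hfi : Function.Injective f := by
      intro x y hxy
      have h3 : ρ k (x : V) + ρ k⁻¹ (x : V) = ρ k (y : V) + ρ k⁻¹ (y : V) := congrArg Subtype.val hxy
      have h4 : ρ k ((x : V) + y) = ρ k⁻¹ ((x : V) + y) := by
        rw [← add_eq_zero_iff'] at h3 ⊢
        rw [map_add, map_add, ← h3]; abel
      have h5 := congrArg (ρ k) h4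
      rw [rho_self_inv] at h5
      have h6 := hkfp _ (AddSubgroup.add_mem _ x.2.1 y.2.1) (eq_of_sq_fixed ρ hk h5)
      exact Subtype.ext (add_eq_zero_iff'.1 h6)
    obtain ⟨w, hw⟩ := (Finite.injective_iff_surjective.1 hfi) ⟨v, hv, (mem_fixSet ρ).2 fun g hg => by
      rw [Set.mem_singleton_iff] at hg; rw [hg]; exact hbv⟩
    have hw' : ρ k (w : V) + ρ k⁻¹ (w : V) = v := congrArg Subtype.val hw
    refine ⟨ρ k (w : V), hkR _ w.2.1, ?_⟩
    rw [e1 _ (hb' _ w.2), sub_eq_add', ← hw']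
    abel
  have hCc : ∀ v ∈ R, ρ c v = v → v ∈ U0 := fun v hv hcv => by
    obtain ⟨z, hz, hzv⟩ := hinvfix c (h2 c hcA) h hodd hinv (hAR c hcA) hhR hCR v hv hcv
    exact ⟨z, hz, hzv⟩
  -- facts about a mover
  have hP : ∀ g ∈ A, g ∉ N → ∀ v ∈ R, ρ (g * h * g) v = ρ h v → ρ g v = v :=
    fun g hg hgN => pair_plus ρ R (h2 g hg) (h2 c hcA) (hab g hg c hcA) rfl hinv (hca g hg hgN h hhK)
      (hAR g hg) (hAR c hcA) hhR (fun v _ => hq g hg v) hCR hodd
  have hgc : ∀ g ∈ A, g ∉ N → g * c ∈ A ∧ g * c ∉ N ∧ (g * c) * h * (g * c) = (g * h * g)⁻¹ := by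
    intro g hg hgN
    refine ⟨A.mul_mem hg hcA, fun hgcN => hgN ?_, ?_⟩
    · have := N.mul_mem hgcN hcK
      rwa [mul_assoc, h2 c hcA, mul_one] at this
    · rw [mul_inv_rev, mul_inv_rev, hinvA g hg, ← hinv]
      calc g * c * h * (g * c) = g * c * h * (c * g) := by rw [hab g hg c hcA]
        _ = _ := by group
  have hM' : ∀ g ∈ A, g ∉ N → ∀ v ∈ R, ρ (g * h * g)⁻¹ v = ρ h v → ρ g v = ρ c v := by
    intro g hg hgN v hv hu
    obtain ⟨m1, m2, m3⟩ := hgc g hg hgN
    rw [← m3] at hu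
    have h1 := hP _ m1 m2 v hv hu
    rw [hab g hg c hcA, rho_mul] at h1
    have := congrArg (ρ c) h1
    rwa [← rho_mul, h2 c hcA, rho_one] at this
  -- plus/minus decomposition
  have hsplit : ∀ g ∈ A, g ∉ N → ∀ v ∈ R,
      ∃ x ∈ R, ρ (g * h * g) x = ρ h x ∧ ∃ y ∈ R, ρ (g * h * g)⁻¹ y = ρ h y ∧ x + y = v := by
    intro g hg hgN v hv
    set h' := g * h * g with hh'
    have hcm : h * h' = h' * h := hca g hg hgN h hhK
    have hh'R : ∀ w ∈ R, ρ h' w ∈ R := hKconjR g hg hgN h hhK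
    have hsR : ∀ w ∈ R, ρ (h' * h) w ∈ R := fun w hw => by rw [rho_mul]; exact hh'R _ (hhR w hw)
    have hu : ∀ w, ρ (h' * h⁻¹) w = w ↔ ρ h' w = ρ h w := fun w => by
      rw [(show Commute h' h from hcm.symm).inv_right.eq, rho_mul]
      exact ⟨fun e => by have := congrArg (ρ h) e; rwa [rho_self_inv] at this,
        fun e => by rw [e, rho_inv_self]⟩
    have hs : ∀ w, ρ (h' * h) w = w ↔ ρ h'⁻¹ w = ρ h w := fun w => by
      rw [rho_mul]
      exact ⟨fun e => by conv_lhs => rw [← e, rho_inv_self],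
        fun e => by rw [← e, rho_self_inv]⟩
    obtain ⟨q, hqR, hq', z, hzR, hzv⟩ := exists_decomp ρ
      ((show Odd (orderOf h') from hgodd g hg).mul hodd |>.of_dvd_nat
        (Commute.orderOf_mul_dvd_mul_orderOf hcm.symm)) R hsR hv
    refine ⟨ρ (h' * h) z - z, AddSubgroup.sub_mem _ (hsR z hzR) hzR, ?_, q, hqR, (hs q).1 hq', by
      rw [add_comm]; exact hzv⟩
    rw [← hu]
    have hpp := pair_product ρ R (h2 g hg) (h2 c hcA) (hab g hg c hcA) hh' hinv hcm
      (hAR g hg) (hAR c hcA) hhR (fun v _ => hq g hg v) hodd z hzR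
    have hsu : (h' * h⁻¹) * (h' * h) = (h' * h) * (h' * h⁻¹) := by
      have c1 : Commute h' h := hcm.symm
      exact (((Commute.refl h').mul_left c1.inv_right.symm).mul_right
        ((c1.mul_left (Commute.refl h).inv_left))).eq
    rw [map_sub, ← rho_mul, hsu, rho_mul]
    rw [map_sub, sub_eq_sub_iff_add_eq_add] at hpp
    rw [sub_eq_sub_iff_add_eq_add, hpp]; abel
  have hpm : ∀ g ∈ A, g ∉ N → ∀ v ∈ R,
      ρ (g * h * g) v = ρ h v → ρ (g * h * g)⁻¹ v = ρ h v → v = 0 := by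
    intro g hg hgN v hv h1 h3
    refine hCR v hv (eq_of_sq_fixed ρ hodd ?_)
    have h4 := congrArg (ρ (g * h * g)) h3
    rw [rho_self_inv, ← rho_mul, ← hca g hg hgN h hhK, rho_mul, h1] at h4
    exact h4.symm
  have hcplus : ∀ g ∈ A, g ∉ N → ∀ v, ρ (g * h * g) v = ρ h v →
      ρ (g * h * g) (ρ c v) = ρ h (ρ c v) := by
    intro g hg hgN v hv
    obtain ⟨-, -, m3⟩ := hgc g hg hgN
    have e1 : g * h * g * c = c * (g * h * g)⁻¹ := by
      rw [← m3]
      calc g * h * g * c = g * h * (g * c) := by group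
        _ = (c * c) * (g * h * (g * c)) := by rw [h2 c hcA, one_mul]
        _ = c * ((c * g) * h * (g * c)) := by group
        _ = c * (g * c * h * (g * c)) := by rw [hab c hcA g hg]
    have e2 : h * c = c * h⁻¹ := by
      calc h * c = c * c * h * c := by rw [h2 c hcA, one_mul]
        _ = c * (c * h * c) := by group
        _ = c * h⁻¹ := by rw [hinv]
    have h3 : ρ (g * h * g)⁻¹ v = ρ h⁻¹ v := by
      refine rho_inj ρ (g := (g * h * g) * h) ?_
      rw [← rho_mul, ← rho_mul, mul_inv_cancel_right,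
        ← (show Commute h (g * h * g) from hca g hg hgN h hhK).eq, mul_inv_cancel_right]
      exact hv.symm
    rw [← rho_mul, e1, rho_mul, h3, ← rho_mul, ← e2, rho_mul]
  have hcminus : ∀ g ∈ A, g ∉ N → ∀ v, ρ (g * h * g)⁻¹ v = ρ h v →
      ρ (g * h * g)⁻¹ (ρ c v) = ρ h (ρ c v) := by
    intro g hg hgN v hv
    obtain ⟨m1, m2, m3⟩ := hgc g hg hgN
    rw [← m3] at hv ⊢
    exact hcplus _ m1 m2 v hv
  have hne : ∀ g ∈ A, g ∉ N → ∃ z ∈ R, ρ (g * h * g) z = ρ h z ∧ ρ c z ≠ z := by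
    intro g hg hgN
    by_contra hcon
    push_neg at hcon
    have hcm := hca g hg hgN h hhK
    have hplus0 : ∀ v ∈ R, ρ (g * h * g) v = ρ h v → v = 0 := by
      intro v hv hp
      refine hCR v hv (eq_of_sq_fixed ρ hodd ?_)
      have h1 := hcon (ρ h v) (hhR v hv) (by rw [← rho_mul, ← hcm, rho_mul, hp])
      have h3 := hcon v hv hp
      have e : c * h = h⁻¹ * c := by
        calc c * h = c * h * (c * c) := by rw [h2 c hcA, mul_one]
          _ = c * h * c * c := by group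
          _ = h⁻¹ * c := by rw [hinv]
      rw [← rho_mul, e, rho_mul, h3] at h1
      conv_rhs => rw [← rho_self_inv ρ h v, h1]
    have hminus : ∀ v ∈ R, ρ (g * h * g * h) v = v := by
      intro v hv
      obtain ⟨x, hx, hxp, y, hy, hym, hxy⟩ := hsplit g hg hgN v hv
      rw [hplus0 x hx hxp, zero_add] at hxy
      rw [← hxy, rho_mul, ← hym, rho_self_inv]
    have hone : g * h * g * h = 1 := eq_one_of_fix ρ hf fun v => by
      obtain ⟨q, hq', z, hz⟩ := hdec v
      rw [← hz, map_add, hminus (ρ h z - z) ⟨z, rfl⟩, rho_mul, hq', (hCg g hg hgN q).1 hq']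
    obtain ⟨k, hk, hkne⟩ := hhnc
    refine hkne ?_
    have e := eq_inv_of_mul_eq_one_left hone
    have h1 : k * (g * h * g⁻¹) = (g * h * g⁻¹) * k := hcomp g hgN k hk h hhK
    rw [hinvA g hg, e] at h1
    have h3 := (show Commute k h⁻¹ from h1).inv_right
    rw [inv_inv] at h3
    exact h3.eq.symm
  have hmov : ∀ g ∈ A, g ∉ N → ∀ v ∈ R, ρ g v - v ∈ U0 := by
    intro g hg hgN v hv
    obtain ⟨x, hx, hxp, y, hy, hym, hxy⟩ := hsplit g hg hgN v hv
    rw [← hxy, map_add, hP g hg hgN x hx hxp, hM' g hg hgN y hy hym, add_sub_add_left_eq_sub]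
    exact ⟨y, hy, rfl⟩
  have hdiff : ∀ g ∈ A, ∀ v ∈ R, ρ g v - v ∈ U0 := by
    intro b hb v hv
    by_cases hbN : b ∈ N
    · have hm : a₀ * b ∉ N := fun h' => ha₀K (by
        have := N.mul_mem h' (N.inv_mem hbN)
        rwa [mul_inv_cancel_right] at this)
      have h1 := hmov _ (A.mul_mem ha₀ hb) hm v hv
      have h3 := hmov a₀ ha₀ ha₀K v hv
      have h4 : ρ a₀ (ρ b v - v) ∈ U0 := by
        rw [map_sub, ← rho_mul, ← sub_sub_sub_cancel_right _ _ v]
        exact AddSubgroup.sub_mem _ h1 h3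
      have h5 := hU0fix a₀ ha₀ _ h4
      rw [← rho_mul ρ a₀ a₀, h2 a₀ ha₀, rho_one] at h5
      rwa [h5]
    · exact hmov b hb hbN v hv
  have hbfix : ∀ b ∈ A, b ∈ N → b ≠ 1 → ∀ v ∈ R, ρ b v = v → v ∈ U0 := by
    intro b hb hbN hb1 v hv hbv
    obtain ⟨k, hkK, hkodd, hkinv, hknc⟩ := exists_inverted hK.2 (h2 b hb) hbN (hnc b hb hb1)
    have hiff := fun w hw => pair_fixed ρ R (h2 a₀ ha₀) (h2 b hb) (hab a₀ ha₀ b hb) rfl hkinv
      (hca a₀ ha₀ ha₀K k hkK) (hAR a₀ ha₀) (hAR b hb) (hKR k hkK)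
      (fun u hu => hU0fix a₀ ha₀ _ (hdiff b hb u hu)) hkodd (v := w) hw
    have hkfp : ∀ w ∈ R, ρ k w = w → w = 0 := by
      intro w hw hkw
      let D : AddSubgroup V := R ⊓ fixSet ρ ({k} : Set G)
      have hDk : ∀ u ∈ D, ρ k u = u := fun u hu => (mem_fixSet ρ).1 hu.2 k rfl
      have hDK : ∀ l ∈ K, ∀ u ∈ D, ρ l u ∈ D := by
        intro l hl u hu
        refine ⟨hKR l hl u hu.1, (mem_fixSet ρ).2 fun g hg => ?_⟩
        rw [Set.mem_singleton_iff] at hg
        rw [hg]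
        refine (hiff _ (hKR l hl u hu.1)).2 ?_
        have := hcomp a₀ ha₀K l hl k hkK
        rw [hinvA a₀ ha₀] at this
        rw [← rho_mul, ← this, rho_mul, (hiff u hu.1).1 (hDk u hu)]
      refine hCR w hw (fixed_by_component ρ hK.2 hkK hknc D hDK hDk h hhK w ⟨hw, ?_⟩)
      exact (mem_fixSet ρ).2 fun g hg => by rw [Set.mem_singleton_iff] at hg; rw [hg]; exact hkw
    obtain ⟨z, hz, hzv⟩ :=
      hinvfix b (h2 b hb) k hkodd hkinv (hAR b hb) (hKR k hkK) hkfp v hv hbv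
    rw [← hzv]
    exact hdiff b hb z hz
  set B := A ⊓ N with hB
  let P : G → AddSubgroup V := fun g =>
    { carrier := {v | v ∈ U0 ∧ ρ (g * h * g) v = ρ h v}
      add_mem' := fun {u w} hu hw => ⟨AddSubgroup.add_mem _ hu.1 hw.1, by rw [map_add, map_add, hu.2, hw.2]⟩
      zero_mem' := ⟨AddSubgroup.zero_mem _, by simp⟩
      neg_mem' := fun {u} hu => ⟨AddSubgroup.neg_mem _ hu.1, by rw [map_neg, map_neg, hu.2]⟩ }
  have hbound : ∀ g ∈ A, g ∉ N → Nat.card ↥B ≤ Nat.card ↥(P g) := by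
    intro g hg hgN
    obtain ⟨z, hzR, hzp, hzc⟩ := hne g hg hgN
    have hgz := hP g hg hgN z hzR hzp
    -- components of a vector of `U0` lie in `U0`
    have hcomp0 : ∀ u ∈ U0, ∀ x ∈ R, ρ (g * h * g) x = ρ h x → ∀ y ∈ R,
        ρ (g * h * g)⁻¹ y = ρ h y → x + y = u → x ∈ U0 ∧ y ∈ U0 := by
      intro u hu x hx hxp y hy hym hxy
      have hcu := hU0fix c hcA u hu
      rw [← hxy, map_add] at hcu
      have e : ρ c x - x = y - ρ c y := by rw [sub_eq_sub_iff_add_eq_add, hcu, add_comm]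
      have h0 : ρ c x - x = 0 := by
        refine hpm g hg hgN _ (AddSubgroup.sub_mem _ (hAR c hcA x hx) hx) ?_ ?_
        · rw [map_sub, map_sub, hcplus g hg hgN x hxp, hxp]
        · rw [e, map_sub, map_sub, hcminus g hg hgN y hym, hym]
      refine ⟨hCc x hx (sub_eq_zero.1 h0), hCc y hy ?_⟩
      rw [h0] at e
      exact (sub_eq_zero.1 e.symm).symm
    have hchoose : ∀ b : ↥B, ∃ x : ↥(P g), ∃ y ∈ U0, ρ (g * h * g)⁻¹ y = ρ h y ∧
        (x : V) + y = ρ (b : G) z - z := by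
      intro b
      have hd := hdiff b b.2.1 z hzR
      obtain ⟨x, hx, hxp, y, hy, hym, hxy⟩ := hsplit g hg hgN _ (hU0R hd)
      obtain ⟨hx0, hy0⟩ := hcomp0 _ hd x hx hxp y hy hym hxy
      exact ⟨⟨x, hx0, hxp⟩, y, hy0, hym, hxy⟩
    choose Φ ψ hψ0 hψm hΦψ using hchoose
    have hkernel : ∀ b, b ∈ A → b ∈ N →
        ρ (g * h * g)⁻¹ (ρ b z - z) = ρ h (ρ b z - z) → b = 1 := by
      intro b hb hbN hw
      by_contra hb1
      set w := ρ b z - z with hwd
      have hw0 : w ∈ U0 := hdiff b hb z hzR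
      obtain ⟨q, hq0, hqw⟩ := AddSubgroup.mem_map.1 hw0
      obtain ⟨x, hx, hxp, y, hy, hym, hxy⟩ := hsplit g hg hgN q hq0
      rw [comm_apply, ← hxy, map_add] at hqw
      have hxy' : ρ c x - x = w - (ρ c y - y) := by rw [← hqw]; abel
      have h0 : ρ c x - x = 0 := by
        refine hpm g hg hgN _ (AddSubgroup.sub_mem _ (hAR c hcA x hx) hx) ?_ ?_
        · rw [map_sub, map_sub, hcplus g hg hgN x hxp, hxp]
        · simp only [hxy', map_sub, hcminus g hg hgN y hym, hym, hw]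
      have hyw : ρ c y - y = w := by
        rw [h0] at hxy'
        exact (sub_eq_zero.1 hxy'.symm).symm
      have hgA' := A.mul_mem hg hb
      have hg'N : g * b ∉ N := fun h' => hgN (by
        have := N.mul_mem h' (N.inv_mem hbN)
        rwa [mul_inv_cancel_right] at this)
      obtain ⟨z1, hz1, hz1p, z2, hz2, hz2m, hz12⟩ := hsplit _ hgA' hg'N z hzR
      have hgbz : ρ (g * b) z = z + w := by
        rw [rho_mul, show ρ b z = z + w by rw [hwd]; abel, map_add, hgz, hU0fix g hg w hw0]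
      have hgb2 := hM' _ hgA' hg'N z2 hz2 hz2m
      have hz2w : ρ c z2 - z2 = w := by
        have := hgbz
        rw [← hz12, map_add, hP _ hgA' hg'N z1 hz1 hz1p, hgb2] at this
        rw [add_assoc] at this
        rw [add_left_cancel this]; abel
      have hsub : y - z2 ∈ U0 := by
        refine hCc _ (AddSubgroup.sub_mem _ hy hz2) ?_
        rw [map_sub, sub_eq_sub_iff_add_eq_add]
        have e1 := hyw.trans hz2w.symm
        rw [sub_eq_sub_iff_add_eq_add] at e1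
        rw [e1]; abel
      have hgby : ρ (g * b) y = y + w := by
        have e1 := hU0fix _ hgA' _ hsub
        rw [map_sub, hgb2, sub_eq_iff_eq_add] at e1
        rw [e1, ← hz2w]; abel
      have hr := hdiff b hb y hy
      have hby : ρ b y = y := by
        have e1 := hgby
        rw [rho_mul, show ρ b y = y + (ρ b y - y) by abel, map_add, hU0fix g hg _ hr,
          hM' g hg hgN y hy hym, show ρ c y = y + w by rw [← hyw]; abel, add_eq_left, sub_eq_zero] at e1
        exact e1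
      have hyU := hbfix b hb hbN hb1 y hy hby
      have hw00 : w = 0 := by rw [← hyw, hU0fix c hcA y hyU, sub_self]
      have hzU := hbfix b hb hbN hb1 z hzR (sub_eq_zero.1 hw00)
      exact hzc (hU0fix c hcA z hzU)
    refine Nat.card_le_card_of_injective Φ fun b b' he => Subtype.ext ?_
    have hbb : (b : G) * b' = 1 := by
      refine hkernel _ (A.mul_mem b.2.1 b'.2.1) (N.mul_mem b.2.2 b'.2.2) ?_
      have e1 : ρ ((b : G) * b') z - z = (ρ (b : G) z - z) + (ρ (b' : G) z - z) := by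
        rw [← hU0fix b b.2.1 _ (hdiff b' b'.2.1 z hzR), rho_mul, map_sub]; abel
      have e2 : ρ ((b : G) * b') z - z = ψ b + ψ b' := by
        rw [e1, ← hΦψ b, ← hΦψ b', he,
          show (Φ b' : V) + ψ b + ((Φ b' : V) + ψ b') = ((Φ b' : V) + (Φ b' : V)) + (ψ b + ψ b') by abel,
          add_self, zero_add]
      rw [e2, map_add, map_add, hψm, hψm]
    rw [eq_inv_of_mul_eq_one_left hbb, hinvA _ b'.2.1]
  obtain ⟨m1, m2, m3⟩ := hgc a₀ ha₀ ha₀K
  have hb1 := hbound a₀ ha₀ ha₀K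
  have hb2 := hbound _ m1 m2
  have hPP : Nat.card ↥(P a₀) * Nat.card ↥(P (a₀ * c)) ≤ Nat.card ↥U0 := by
    obtain ⟨k1, k2⟩ := card_mul_card_le (C₁ := P a₀) (C₂ := P (a₀ * c)) (T := U0) (I := ⊥)
      (fun v hv => hv.1) (fun v hv => hv.1) (fun v hv => by
        rw [AddSubgroup.mem_bot]
        refine hpm a₀ ha₀ ha₀K v (hU0R hv.1.1) hv.1.2 ?_
        rw [← m3]; exact hv.2.2)
    rw [AddSubgroup.card_bot] at k1 k2
    simp only [mul_one] at k1 k2
    exact k1.trans k2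
  have hRcard : Nat.card ↥R = Nat.card ↥U0 * Nat.card ↥U0 := by
    let f : ↥R →+ ↥U0 :=
      { toFun := fun v => ⟨ρ c (v : V) - v, ⟨v, v.2, rfl⟩⟩
        map_zero' := Subtype.ext (by simp)
        map_add' := fun u w => Subtype.ext (by simp only [AddSubgroup.coe_add, map_add]; abel) }
    have hfs : Function.Surjective f := by
      rintro ⟨_, v, hv, rfl⟩
      exact ⟨⟨v, hv⟩, rfl⟩
    rw [AddSubgroup.card_eq_card_quotient_mul_card_addSubgroup f.ker,
      Nat.card_congr (QuotientAddGroup.quotientKerEquivOfSurjective f hfs).toEquiv]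
    congr 1
    refine Nat.card_congr
      { toFun := fun v => ⟨((v : ↥R) : V), hCc _ (v : ↥R).2 (sub_eq_zero.1 (congrArg Subtype.val (v.2 : f v.1 = 0)))⟩
        invFun := fun u => ⟨⟨(u : V), hU0R u.2⟩, Subtype.ext (show ρ c (u : V) - u = 0 by
          rw [hU0fix c hcA _ u.2, sub_self])⟩
        left_inv := fun v => rfl
        right_inv := fun u => rfl }
  have hU0A : Nat.card ↥U0 ≤ Nat.card ↥A := by
    set FA := fixSet ρ (A : Set G)
    obtain ⟨k1, k2⟩ := card_mul_card_le (C₁ := FA) (C₂ := R) (T := ⊤) (I := U0) le_top le_top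
      (fun v hv => hCc v hv.2 ((mem_fixSet ρ).1 hv.1 c hcA))
    rw [AddSubgroup.card_top] at k2
    have h9 : Nat.card V * (Nat.card ↥U0 * Nat.card ↥U0) ≤
        Nat.card V * (Nat.card ↥A * Nat.card ↥U0) := by
      calc Nat.card V * (Nat.card ↥U0 * Nat.card ↥U0)
          ≤ (Nat.card ↥A * Nat.card ↥FA) * Nat.card ↥R := by rw [hRcard]; exact Nat.mul_le_mul_right _ hV
        _ = Nat.card ↥A * (Nat.card ↥FA * Nat.card ↥R) := by ring
        _ ≤ Nat.card ↥A * (Nat.card V * Nat.card ↥U0) := Nat.mul_le_mul_left _ (k1.trans k2)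
        _ = _ := by ring
    exact Nat.le_of_mul_le_mul_right (Nat.le_of_mul_le_mul_left h9 Nat.card_pos) Nat.card_pos
  -- the orbit of `K`
  haveI : Fintype ↥A := Fintype.ofFinite _
  set S : Finset (Subgroup G) := Finset.univ.image fun a : ↥A => MulAut.conj (a : G) • K with hS
  have hSrep : ∀ L : ↥S, ∃ a : ↥A, MulAut.conj (a : G) • K = (L : Subgroup G) := fun L => by
    obtain ⟨a, -, ha⟩ := Finset.mem_image.1 L.2
    exact ⟨a, ha⟩
  choose r hr using hSrep
  set n := S.card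
  have hmemS : ∀ a : ↥A, MulAut.conj (a : G) • K ∈ S := fun a =>
    Finset.mem_image_of_mem _ (Finset.mem_univ a)
  have hn2 : 2 ≤ n := by
    refine Finset.one_lt_card.2 ⟨_, hmemS 1, _, hmemS ⟨a₀, ha₀⟩, ?_⟩
    simpa [conj_one_smul] using (conj_smul_ne_self ha₀K).symm
  have hAn : Nat.card ↥A ≤ n * Nat.card ↥B := by
    have hmemB : ∀ a : ↥A, (r ⟨_, hmemS a⟩ : G) * a ∈ B := fun a => by
      refine ⟨A.mul_mem (r _).2 a.2, conj_smul_eq_self_iff.1 ?_⟩
      calc MulAut.conj ((r ⟨_, hmemS a⟩ : G) * a) • K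
          = MulAut.conj (r ⟨_, hmemS a⟩ : G) • (MulAut.conj (a : G) • K) := (conj_smul_conj_smul _ _ _).symm
        _ = MulAut.conj (r ⟨_, hmemS a⟩ : G) • (MulAut.conj (r ⟨_, hmemS a⟩ : G) • K) :=
            congrArg (fun L => MulAut.conj (r ⟨_, hmemS a⟩ : G) • L) (hr ⟨_, hmemS a⟩).symm
        _ = K := by rw [conj_smul_conj_smul, h2 _ (r _).2, conj_one_smul]
    let F : ↥A → ↥S × ↥B := fun a => (⟨_, hmemS a⟩, ⟨_, hmemB a⟩)
    have hF : Function.Injective F := by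
      intro a b hab'
      have e1 : (⟨_, hmemS a⟩ : ↥S) = ⟨_, hmemS b⟩ := congrArg Prod.fst hab'
      have e2 : (r ⟨_, hmemS a⟩ : G) * a = (r ⟨_, hmemS b⟩ : G) * b :=
        congrArg (fun q => ((Prod.snd q : ↥B) : G)) hab'
      rw [e1] at e2
      exact Subtype.ext (mul_left_cancel e2)
    refine le_trans (Nat.card_le_card_of_injective F hF) ?_
    rw [Nat.card_prod, Nat.card_eq_fintype_card, Fintype.card_coe]
  obtain ⟨q, hqp, hqne, hq5, x, hxK, ⟨i, hxi⟩, k₀, hk₀, hxk⟩ := exists_noncentral_prime_power hK.2 2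
  haveI := Fact.mk hqp
  let gx : ↥S → G := fun L => (r L : G) * x * (r L : G)⁻¹
  have hgxmem : ∀ L : ↥S, gx L ∈ (L : Subgroup G) := fun L => by
    rw [← hr L]; exact conj_mem_conj_smul hxK
  have hLc : ∀ L : ↥S, Cfsg.IsComponent (L : Subgroup G) := fun L => by
    rw [← hr L]; exact isComponent_conj_smul hK _
  obtain ⟨hYab, hYq, hYcard⟩ := exists_abelian_qgroup q gx (fun L : ↥S => (L : Subgroup G))
    (fun L M => by
      by_cases hLM : L = M
      · rw [hLM]
      exact comm_of_components (hLc L) (hLc M) (fun e => hLM (Subtype.ext e)) (hgxmem L) (hgxmem M))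
    (fun L => ⟨i, by rw [conj_pow, hxi]; group⟩)
    (fun L => ⟨(r L : G) * k₀ * (r L : G)⁻¹, by rw [← hr L]; exact conj_mem_conj_smul hk₀, fun e => hxk (by
      have e' : (r L : G) * (x * k₀) * (r L : G)⁻¹ = (r L : G) * (k₀ * x) * (r L : G)⁻¹ := by
        calc (r L : G) * (x * k₀) * (r L : G)⁻¹ = gx L * ((r L : G) * k₀ * (r L : G)⁻¹) := by
              simp only [gx]; group
          _ = _ := e
          _ = _ := by simp only [gx]; group
      exact mul_left_cancel (mul_right_cancel e'))⟩)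
    (fun L M hLM m hm =>
      comm_of_components (hLc M) (hLc L) (fun e => hLM (Subtype.ext e.symm)) (hgxmem M) hm)
    Finset.univ
  set Y := Subgroup.closure (gx '' ↑(Finset.univ : Finset ↥S))
  have hAC : ∀ g ∈ A, ∀ v ∈ C, ρ g v ∈ C := by
    intro g hg v hv
    rw [hCiff] at hv ⊢
    have e : h * g = g * (g * h * g) := by rw [← mul_assoc, ← mul_assoc, h2 g hg, one_mul]
    rw [← rho_mul, e, rho_mul]
    congr 1
    by_cases hgN : g ∈ N
    · refine hKfix _ ?_ v ((hCiff v).2 hv)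
      have := (Subgroup.mem_normalizer_iff.1 hgN h).1 hhK
      rwa [hinvA g hg] at this
    · exact (hCg g hg hgN v).1 hv
  have hYfix : Y ≤ pointFix ρ (C : Set V) := by
    rw [Subgroup.closure_le]
    rintro _ ⟨L, -, rfl⟩
    refine (mem_pointFix ρ).2 fun v hv => ?_
    show ρ ((r L : G) * x * (r L : G)⁻¹) v = v
    rw [rho_mul, rho_mul, hKfix x hxK _ (hAC _ (A.inv_mem (r L).2) v hv), rho_self_inv]
  have hup := abelian_coprime_card_le ρ Y hYab (fun a ha => by
    obtain ⟨j, hj⟩ := hYq ⟨a, ha⟩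
    exact Nat.Coprime.coprime_dvd_left (orderOf_dvd_of_pow_eq_one (congrArg Subtype.val hj))
      (((Nat.coprime_primes hqp Nat.prime_two).2 hqne).pow_left j))
    (fun a _ h' => eq_one_of_fix ρ hf h') C
    (fun v hv => (mem_fixSet ρ).2 fun a ha => (mem_pointFix ρ).1 (hYfix ha) v hv)
  have hVCR : Nat.card V ≤ Nat.card ↥C * Nat.card ↥R := by
    rw [← Nat.card_prod]
    refine Nat.card_le_card_of_surjective (fun w : ↥C × ↥R => (w.1 : V) + w.2) fun v => ?_
    obtain ⟨q', hq', z, hz⟩ := hdec v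
    exact ⟨(⟨q', (hCiff q').2 hq'⟩, ⟨_, z, rfl⟩), hz⟩
  rw [Finset.card_univ, Fintype.card_coe] at hYcard
  have h5 : 5 ^ n ≤ Nat.card ↥R := by
    refine le_trans (le_trans (Nat.pow_le_pow_left (hq5 rfl) n) hYcard) ?_
    exact Nat.le_of_mul_le_mul_left (by
      rw [mul_comm]; exact hup.trans hVCR) (Nat.card_pos (α := ↥C))
  have h7 : Nat.card ↥U0 ≤ n * n := by
    refine Nat.le_of_mul_le_mul_right ?_ (Nat.card_pos (α := ↥U0))
    calc Nat.card ↥U0 * Nat.card ↥U0 ≤ (n * Nat.card ↥B) * (n * Nat.card ↥B) :=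
          Nat.mul_le_mul (hU0A.trans hAn) (hU0A.trans hAn)
      _ = n * n * (Nat.card ↥B * Nat.card ↥B) := by ring
      _ ≤ n * n * (Nat.card ↥(P a₀) * Nat.card ↥(P (a₀ * c))) :=
          Nat.mul_le_mul_left _ (Nat.mul_le_mul hb1 hb2)
      _ ≤ n * n * Nat.card ↥U0 := Nat.mul_le_mul_left _ hPP
  have h8 : Nat.card ↥R ≤ n ^ 4 := by
    rw [hRcard, show n ^ 4 = (n * n) * (n * n) by ring]
    exact Nat.mul_le_mul h7 h7
  exact absurd (h5.trans h8) (not_le.2 (five_pow_gt n hn2))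

end Two

section Core

variable {G : Type*} [Group G] [Finite G] {p : ℕ} [hp : Fact p.Prime] {V : Type*} [AddCommGroup V]
  [Finite V] [Module (ZMod p) V] (ρ : Representation (ZMod p) G V)

/-- The theorem when only the identity of `A` centralises `K`. -/
theorem pgv_core (hf : Function.Injective ρ) {K : Subgroup G} (hK : Cfsg.IsComponent K)
    (A : Subgroup G) (hab : ∀ a ∈ A, ∀ b ∈ A, a * b = b * a) (hpow : ∀ a ∈ A, a ^ p = 1)
    (hAK : ∀ a ∈ A, (∀ k ∈ K, a * k = k * a) → a = 1)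
    (hmax : ∀ B : Subgroup G, B ≤ A → Nat.card ↥B * Nat.card ↥(fixSet ρ (B : Set G)) ≤
      Nat.card ↥A * Nat.card ↥(fixSet ρ (A : Set G))) :
    A ≤ Subgroup.normalizer (K : Set G) := by
  by_contra hnle
  obtain ⟨a₀, ha₀, ha₀K⟩ := SetLike.not_le_iff_exists.1 hnle
  have hpA : IsPGroup p ↥A := fun a => ⟨1, Subtype.ext (by simpa using hpow a a.2)⟩
  obtain ⟨E, hEA, hEmax, hEq, hEbot⟩ := replacement ρ A hab hpA hmax
  have hE1 : E ≠ ⊥ := by
    intro h
    have hA1 : a₀ = 1 := eq_one_of_fix ρ hf fun v =>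
      (mem_fixSet ρ).1 (show v ∈ fixSet ρ (A : Set G) by rw [hEbot h]; trivial) a₀ ha₀
    exact ha₀K (hA1 ▸ one_mem _)
  have hbot : Nat.card V ≤ Nat.card ↥A * Nat.card ↥(fixSet ρ (A : Set G)) := by
    refine le_trans ?_ (hmax ⊥ bot_le)
    rw [Subgroup.card_bot, one_mul]
    exact Nat.card_le_card_of_injective (fun v => (⟨v, (mem_fixSet ρ).2 fun g hg => by
      rw [SetLike.mem_coe, Subgroup.mem_bot] at hg; rw [hg, rho_one]⟩ : ↥(fixSet ρ ((⊥ : Subgroup G) : Set G))))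
      fun u w h => congrArg Subtype.val h
  by_cases hp2 : p = 2
  · subst hp2
    by_cases hc : ∃ c ∈ E, c ≠ 1 ∧ c ∈ Subgroup.normalizer (K : Set G)
    · obtain ⟨c, hcE, hc1, hcK⟩ := hc
      exact two_normalizing ρ hf hK A hab (fun a ha => by rw [← sq]; exact hpow a ha) hAK hbot
        (hEA hcE) hc1 hcK (fun a ha v => hEq c hcE a ha v) ha₀ ha₀K
    · push_neg at hc
      refine two_regular ρ hf hK E (fun a ha b hb => hab a (hEA ha) b (hEA hb)) hE1
        (fun e he heN => by_contra fun h => hc e he h heN) ?_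
      rw [hEmax]; exact hbot
  · obtain ⟨⟨c, hcE⟩, hc1'⟩ := (Subgroup.ne_bot_iff_exists_ne_one).1 hE1
    have hc1 : c ≠ 1 := fun h => hc1' (Subtype.ext h)
    have hcK : (c : G) ∈ Subgroup.normalizer (K : Set G) :=
      quadratic_normalizes ρ hp2 hf hK (hpow c (hEA hcE)) fun v => hEq c hcE c (hEA hcE) v
    exact hc1 (hAK c (hEA hcE) (quadratic_centralizes ρ hp2 hf hK (hab a₀ ha₀ c (hEA hcE)) hcK ha₀K
      (fun v => hEq c hcE c (hEA hcE) v) (fun v => hEq c hcE a₀ ha₀ v)))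

end Core

end CfsgLib.Local.PGV

namespace CfsgLib.Local.PGV

open scoped Pointwise commutatorElement
open CfsgLib.Core

section Reduction

/-- A nontrivial image of a quasisimple group is quasisimple. -/
theorem quasisimple_image {H Q : Type*} [Group H] [Group Q] (f : H →* Q)
    (hf : Function.Surjective f) (hH : Cfsg.IsQuasisimple H) [Nontrivial Q] :
    Cfsg.IsQuasisimple Q := by
  haveI := hH.1
  haveI hperf : Group.IsPerfect Q := Group.IsPerfect.ofSurjective (f := f) hf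
  have hcenter : Subgroup.center Q ≠ ⊤ := by
    intro h
    refine Group.IsPerfect.not_isSolvable Q ?_
    exact Group.isSolvable_of_comm (fun a b => Subgroup.mem_center_iff.1 (h ▸ Subgroup.mem_top b) a)
  refine ⟨hperf, ?_⟩
  haveI : Nontrivial (Q ⧸ Subgroup.center Q) := QuotientGroup.nontrivial_iff.2 hcenter
  refine IsSimpleGroup.mk fun N₀ hN₀ => ?_
  set π := QuotientGroup.mk' (Subgroup.center Q) with hπ
  have hsurj : Function.Surjective π := QuotientGroup.mk'_surjective _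
  set N := N₀.comap π with hN
  haveI hNn : (N.comap f).Normal := (hN₀.comap π).comap f
  suffices hcases : N = ⊤ ∨ N ≤ Subgroup.center Q by
    rcases hcases with h | h
    · right
      rw [← Subgroup.map_comap_eq_self_of_surjective hsurj N₀, ← hN, h,
        Subgroup.map_top_of_surjective _ hsurj]
    · left
      rw [← Subgroup.map_comap_eq_self_of_surjective hsurj N₀, ← hN, eq_bot_iff,
        Subgroup.map_le_iff_le_comap, MonoidHom.comap_bot, hπ, QuotientGroup.ker_mk']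
      exact h
  rcases quasisimple_normal_cases hH (N.comap f) with h | h
  · left
    rw [← Subgroup.map_comap_eq_self_of_surjective hf N, h, Subgroup.map_top_of_surjective f hf]
  · right
    intro x hx
    obtain ⟨y, rfl⟩ := hf x
    refine Subgroup.mem_center_iff.2 fun z => ?_
    obtain ⟨w, rfl⟩ := hf z
    rw [← map_mul, Subgroup.mem_center_iff.1 (h (show y ∈ N.comap f from hx)) w, map_mul]

theorem card_map_mul_card_inf {H Q : Type*} [Group H] [Group Q] (f : H →* Q) (B : Subgroup H) :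
    Nat.card ↥(B.map f) * Nat.card ↥(B ⊓ f.ker) = Nat.card ↥B := by
  have h := Subgroup.card_mul_index (f.subgroupMap B).ker
  rw [Subgroup.index_ker, MonoidHom.range_eq_top.2 (f.subgroupMap_surjective B),
    Subgroup.card_top] at h
  rw [← h, mul_comm]
  congr 1
  refine Nat.card_congr
    { toFun := fun x => ⟨⟨x.1, x.2.1⟩, ?_⟩
      invFun := fun y => ⟨(y.1 : ↥B), (y.1 : ↥B).2, ?_⟩
      left_inv := fun x => rfl
      right_inv := fun y => rfl }
  · exact Subtype.ext (x.2.2 : f x.1 = 1)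
  · exact congrArg Subtype.val (y.2 : f.subgroupMap B y.1 = 1)

variable {G : Type*} [Group G] [Finite G] {p : ℕ} [hp : Fact p.Prime] {V : Type*} [AddCommGroup V]
  [Finite V] [Module (ZMod p) V] (ρ : Representation (ZMod p) G V)

/-- The P(G,V)-theorem. -/
theorem pgv (hf : Function.Injective ρ) (A : Subgroup G) (hab : ∀ a ∈ A, ∀ b ∈ A, a * b = b * a)
    (hpow : ∀ a ∈ A, a ^ p = 1)
    (hmax : ∀ B : Subgroup G, B ≤ A → Nat.card ↥B * Nat.card ↥(fixSet ρ (B : Set G)) ≤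
      Nat.card ↥A * Nat.card ↥(fixSet ρ (A : Set G)))
    {K : Subgroup G} (hK : Cfsg.IsComponent K) : A ≤ Subgroup.normalizer (K : Set G) := by
  classical
  by_contra hnle
  obtain ⟨a₀, ha₀, ha₀K⟩ := SetLike.not_le_iff_exists.1 hnle
  set F := A ⊓ Subgroup.centralizer (K : Set G) with hF
  set H := Subgroup.centralizer (F : Set G) with hH
  have hAH : A ≤ H := fun a ha => Subgroup.mem_centralizer_iff.2 fun b hb => hab b hb.1 a ha
  have hKH : K ≤ H := fun k hk => Subgroup.mem_centralizer_iff.2 fun b hb =>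
    (Subgroup.mem_centralizer_iff.1 hb.2 k hk).symm
  let W : Submodule (ZMod p) V :=
    { carrier := {v | ∀ g ∈ F, ρ g v = v}
      add_mem' := fun {a b} ha hb g hg => by rw [map_add, ha g hg, hb g hg]
      zero_mem' := fun g _ => map_zero _
      smul_mem' := fun c {v} hv g hg => by rw [map_smul, hv g hg] }
  have hW : ∀ h : ↥H, ∀ v ∈ W, ρ (h : G) v ∈ W := fun h v hv g hg => by
    rw [← rho_mul, Subgroup.mem_centralizer_iff.1 h.2 g hg, rho_mul, hv g hg]
  let ρW : Representation (ZMod p) ↥H ↥W :=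
    Representation.subrepresentation (ρ.comp H.subtype) W fun h v hv => hW h v hv
  have hρW : ∀ (h : ↥H) (w : ↥W), ((ρW h w : ↥W) : V) = ρ (h : G) (w : V) := fun _ _ => rfl
  let f₀ := ρW.asGroupHom
  let f := f₀.rangeRestrict
  let ρ₂ : Representation (ZMod p) ↥f₀.range ↥W := (Units.coeHom _).comp f₀.range.subtype
  have hρ₂ : ∀ (h : ↥H) (w : ↥W), ρ₂ (f h) w = ρW h w := fun h w => by
    show (f₀ h : ↥W →ₗ[ZMod p] ↥W) w = ρW h w
    rw [Representation.asGroupHom_apply]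
  have hρ₂inj : Function.Injective ρ₂ := fun x y h => Subtype.ext (Units.ext h)
  have hfs : Function.Surjective f := f₀.rangeRestrict_surjective
  haveI : Finite ↥f₀.range := Finite.of_surjective f hfs
  have hkerW : ∀ h : ↥H, f h = 1 ↔ ∀ v, (∀ g ∈ F, ρ g v = v) → ρ (h : G) v = v := by
    intro h
    refine ⟨fun e v hv => ?_, fun e => hρ₂inj (LinearMap.ext fun w => ?_)⟩
    · have := hρ₂ h ⟨v, hv⟩
      rw [e, rho_one] at this
      exact (congrArg Subtype.val this).symm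
    · rw [hρ₂, map_one]
      exact Subtype.ext (e w w.2)
  set KH := K.subgroupOf H with hKH'
  have hKc : Cfsg.IsComponent KH := IsComponent_subgroupOf hK hKH
  have hnormal : f.ker.Normal := MonoidHom.normal_ker f
  -- `K` is not trivial on `W`
  have hKker : ¬ KH ≤ f.ker := by
    intro h
    refine quasisimple_not_isSolvable hK.2 ?_
    have hKp : IsPGroup p ↥K := CfsgLib.Local.isPGroup_of_coprime_eq_one fun x hx hcop => eq_one_of_fix ρ hf fun v => by
      refine linear_pxq ρ (P := F) ?_ hcop (fun a ha => (Subgroup.mem_centralizer_iff.1 ha.2 x hx).symm) ?_ v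
      · exact fun a => ⟨1, Subtype.ext (by simpa using hpow a a.2.1)⟩
      · intro w hw
        refine (mem_fixSet ρ).2 fun g hg => ?_
        rw [Set.mem_singleton_iff] at hg
        rw [hg]
        exact (hkerW ⟨x, hKH hx⟩).1 (h (Subgroup.mem_subgroupOf.2 hx)) w ((mem_fixSet ρ).1 hw)
    haveI := hKp.isNilpotent
    infer_instance
  set K₂ := KH.map f with hK₂
  haveI : Nontrivial ↥K₂ := (Subgroup.nontrivial_iff_ne_bot K₂).2 fun h =>
    hKker ((Subgroup.map_eq_bot_iff KH).1 h)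
  have hK₂c : Cfsg.IsComponent K₂ :=
    ⟨hKc.1.map hfs, quasisimple_image (f.subgroupMap KH) (f.subgroupMap_surjective KH) hKc.2⟩
  set A₂ := (A.subgroupOf H).map f with hA₂
  have hmem : ∀ {a : G} (ha : a ∈ A), f ⟨a, hAH ha⟩ ∈ A₂ := fun ha =>
    Subgroup.mem_map_of_mem f (Subgroup.mem_subgroupOf.2 ha)
  -- perfectness used to push `K` into the kernel
  have hpush : ∀ L : Subgroup ↥H, ⁅L, L⁆ = L → (∀ x ∈ L, ∀ y ∈ L, f ⁅x, y⁆ = 1) → L ≤ f.ker := by
    intro L hL h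
    rw [← hL, Subgroup.commutator_le]
    exact fun x hx y hy => h x hx y hy
  have hmove : ∀ {a : ↥H}, (a : G) ∉ Subgroup.normalizer (K : Set G) →
      f a ∈ Subgroup.normalizer (K₂ : Set _) → False := by
    intro a ha hfa
    have hc' : Cfsg.IsComponent (MulAut.conj a • KH) := isComponent_conj_smul hKc a
    have hne : MulAut.conj a • KH ≠ KH := by
      intro e
      refine ha ((Subgroup.mem_normalizer_iff).2 fun k => ?_)
      constructor
      · intro hk
        have : a * ⟨k, hKH hk⟩ * a⁻¹ ∈ KH :=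
          e ▸ conj_mem_conj_smul (g := a) (show (⟨k, hKH hk⟩ : ↥H) ∈ KH from Subgroup.mem_subgroupOf.2 hk)
        simpa using Subgroup.mem_subgroupOf.1 this
      · intro hk
        have h1 : (⟨(a : G) * k * (a : G)⁻¹, hKH hk⟩ : ↥H) ∈ MulAut.conj a • KH := by
          rw [e]; exact Subgroup.mem_subgroupOf.2 hk
        rw [mem_conj_smul, Subgroup.mem_subgroupOf] at h1
        simpa [mul_assoc] using h1
    refine hKker ?_
    have hL : MulAut.conj a • KH ≤ f.ker := by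
      refine hpush _ (isPerfect_of_component hc') fun x hx y hy => ?_
      obtain ⟨k, hk, hkx⟩ : ∃ k ∈ KH, f k = f x := by
        have hx' := hx
        rw [mem_conj_smul] at hx'
        have h1 := (Subgroup.mem_normalizer_iff.1 hfa _).1 (Subgroup.mem_map_of_mem f hx')
        obtain ⟨k, hk, e⟩ := Subgroup.mem_map.1 h1
        refine ⟨k, hk, ?_⟩
        rw [e]; simp [mul_assoc]
      have hky : k * y = y * k := comm_of_components hKc hc' hne.symm hk hy
      rw [map_commutatorElement, ← hkx, ← map_commutatorElement,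
        commutatorElement_eq_one_iff_mul_comm.2 hky, map_one]
    intro k hk
    have := hL (conj_mem_conj_smul (g := a) hk)
    have h2 := hnormal.conj_mem _ this a⁻¹
    simpa [mul_assoc] using h2
  have hA₂K : ∀ a ∈ A₂, (∀ k ∈ K₂, a * k = k * a) → a = 1 := by
    rintro _ ⟨⟨a, haH⟩, ha, rfl⟩ hcen
    rw [SetLike.mem_coe, Subgroup.mem_subgroupOf] at ha
    change a ∈ A at ha
    by_cases haN : a ∈ Subgroup.normalizer (K : Set G)
    · have hac : a ∈ F := by
        refine ⟨ha, Subgroup.mem_centralizer_iff.2 ?_⟩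
        by_contra hne
        push_neg at hne
        obtain ⟨k, hk, hk'⟩ := hne
        refine hKker ?_
        have hle := le_of_commutators (J := f.ker.map H.subtype) hK.2 haN ⟨k, hk, Ne.symm hk'⟩
          (fun x hx => Subgroup.mem_map.2
            ⟨⟨x, hKH hx⟩ * ⟨a, haH⟩ * ⟨x, hKH hx⟩⁻¹ * ⟨a, haH⟩⁻¹, by
              rw [MonoidHom.mem_ker, map_mul, map_mul, map_mul,
                ← hcen _ (Subgroup.mem_map_of_mem f (Subgroup.mem_subgroupOf.2 hx :
                  (⟨x, hKH hx⟩ : ↥H) ∈ KH)), map_inv, map_inv]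
              group, by simp⟩)
        intro x hx
        obtain ⟨m, hm, hmx⟩ := Subgroup.mem_map.1 (hle (Subgroup.mem_subgroupOf.1 hx))
        exact (Subtype.ext hmx : m = x) ▸ hm
      rw [hkerW]
      exact fun v hv => hv a hac
    · exfalso
      refine hmove (a := ⟨a, haH⟩) haN (Subgroup.mem_normalizer_iff.2 fun k => ?_)
      constructor
      · intro hk; rw [hcen k hk, mul_inv_cancel_right]; exact hk
      · intro hk
        have h1 := hcen _ hk
        have e : f ⟨a, haH⟩ * k * (f ⟨a, haH⟩)⁻¹ = k := by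
          calc f ⟨a, haH⟩ * k * (f ⟨a, haH⟩)⁻¹
              = (f ⟨a, haH⟩)⁻¹ * (f ⟨a, haH⟩ * (f ⟨a, haH⟩ * k * (f ⟨a, haH⟩)⁻¹)) := by group
            _ = (f ⟨a, haH⟩)⁻¹ * ((f ⟨a, haH⟩ * k * (f ⟨a, haH⟩)⁻¹) * f ⟨a, haH⟩) := by rw [h1]
            _ = k := by group
        rwa [e] at hk
  have hpgv := pgv_core ρ₂ hρ₂inj hK₂c A₂ (by
      rintro _ ⟨a, ha, rfl⟩ _ ⟨b, hb, rfl⟩
      rw [← map_mul, ← map_mul]
      exact congrArg f (Subtype.ext (hab a ha b hb)))
    (by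
      rintro _ ⟨a, ha, rfl⟩
      rw [← map_pow, show a ^ p = 1 from Subtype.ext (by simpa using hpow a ha), map_one])
    hA₂K ?_
  · exact hmove (a := ⟨a₀, hAH ha₀⟩) ha₀K (hpgv (hmem ha₀))
  · intro B₂ hB₂
    set BH := A.subgroupOf H ⊓ B₂.comap f with hBH
    have hBmap : BH.map f = B₂ := by
      refine le_antisymm ?_ fun b hb => ?_
      · rintro _ ⟨b, hb, rfl⟩; exact hb.2
      · obtain ⟨a, ha, rfl⟩ := Subgroup.mem_map.1 (hB₂ hb)
        exact ⟨a, ⟨ha, hb⟩, rfl⟩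
    have hk : BH ⊓ f.ker = A.subgroupOf H ⊓ f.ker := by
      ext x
      simp only [hBH, Subgroup.mem_inf, Subgroup.mem_comap, MonoidHom.mem_ker]
      exact ⟨fun h => ⟨h.1.1, h.2⟩, fun h => ⟨⟨h.1, by rw [h.2]; exact B₂.one_mem⟩, h.2⟩⟩
    set B := BH.map H.subtype with hB
    have hBA : B ≤ A := by
      rintro _ ⟨b, hb, rfl⟩; exact Subgroup.mem_subgroupOf.1 hb.1
    have hcB : Nat.card ↥B = Nat.card ↥B₂ * Nat.card ↥(A.subgroupOf H ⊓ f.ker) := by
      rw [hB, Subgroup.card_subtype, ← hk, ← card_map_mul_card_inf f BH, hBmap]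
    have hcA : Nat.card ↥A = Nat.card ↥A₂ * Nat.card ↥(A.subgroupOf H ⊓ f.ker) := by
      rw [hA₂, card_map_mul_card_inf f (A.subgroupOf H),
        Nat.card_congr (Subgroup.subgroupOfEquivOfLe hAH).toEquiv]
    have h1 : Nat.card ↥(fixSet ρ₂ (B₂ : Set _)) ≤ Nat.card ↥(fixSet ρ (B : Set G)) := by
      refine Nat.card_le_card_of_injective (fun w => (⟨((w : ↥W) : V), (mem_fixSet ρ).2 ?_⟩ :
        ↥(fixSet ρ (B : Set G)))) fun u w h => Subtype.ext (Subtype.ext
          (congrArg (fun x : ↥(fixSet ρ (B : Set G)) => (x : V)) h))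
      rintro _ ⟨b, hb, rfl⟩
      have := (mem_fixSet ρ₂).1 w.2 (f b) hb.2
      rw [hρ₂] at this
      exact congrArg Subtype.val this
    have h2 : Nat.card ↥(fixSet ρ (A : Set G)) ≤ Nat.card ↥(fixSet ρ₂ (A₂ : Set _)) := by
      refine Nat.card_le_card_of_injective (fun v => (⟨⟨(v : V), fun g hg =>
        (mem_fixSet ρ).1 v.2 g hg.1⟩, (mem_fixSet ρ₂).2 ?_⟩ : ↥(fixSet ρ₂ (A₂ : Set _))))
        fun u w h => Subtype.ext (congrArg (fun x : ↥(fixSet ρ₂ (A₂ : Set _)) => ((x : ↥W) : V)) h)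
      rintro _ ⟨a, ha, rfl⟩
      rw [hρ₂]
      exact Subtype.ext ((mem_fixSet ρ).1 v.2 (a : G) ha)
    have h3 := hmax B hBA
    rw [hcB, hcA] at h3
    refine Nat.le_of_mul_le_mul_right ?_ (Nat.card_pos (α := ↥(A.subgroupOf H ⊓ f.ker)))
    calc Nat.card ↥B₂ * Nat.card ↥(fixSet ρ₂ (B₂ : Set _)) * Nat.card ↥(A.subgroupOf H ⊓ f.ker)
        ≤ Nat.card ↥B₂ * Nat.card ↥(A.subgroupOf H ⊓ f.ker) * Nat.card ↥(fixSet ρ (B : Set G)) := by
          rw [mul_right_comm]; exact Nat.mul_le_mul_left _ h1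
      _ ≤ Nat.card ↥A₂ * Nat.card ↥(A.subgroupOf H ⊓ f.ker) * Nat.card ↥(fixSet ρ (A : Set G)) := h3
      _ ≤ _ := by rw [mul_right_comm]; exact Nat.mul_le_mul_right _ (Nat.mul_le_mul_left _ h2)

end Reduction

end CfsgLib.Local.PGV
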