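import Cfsg.Agent.Lib.ClassicalSL
import Cfsg.Agent.Lib.LocalPGVMain
import Cfsg.Agent.Lib.CoreBasic
import Cfsg.Prelude.Def_CaseTheorems
import Mathlib.LinearAlgebra.Projectivization.PSL.PSL2

/-!
# A component in the centralizer of a reflection of `GL_n`
-/

set_option autoImplicit false

universe u

namespace CfsgLib.GLComponent

open Matrix

variable {F : Type u} [Field F] [Fintype F] [DecidableEq F]

theorem quasisimple_sl {m : ℕ} (h : 3 ≤ m ∨ (m = 2 ∧ 4 ≤ Fintype.card F)) :
    Cfsg.IsQuasisimple (SpecialLinearGroup (Fin m) F) := by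
  rcases h with h | ⟨rfl, h⟩
  · exact ⟨⟨CfsgLib.Classical.commutator_sl_eq_top (by simpa using h)⟩,
      CfsgLib.Classical.isSimpleGroup_psl (ι := Fin m) (F := F) (by simpa using h)⟩
  · obtain ⟨a, ha, hasq⟩ : ∃ a : F, a ≠ 0 ∧ a ^ 2 ≠ 1 := by
      by_contra hno
      push Not at hno
      have hle : (Finset.univ : Finset F) ⊆ {0, 1, -1} := fun a _ => by
        by_cases ha : a = 0
        · simp [ha]
        · rcases sq_eq_one_iff.1 (hno a ha) with e | e <;> simp [e]
      have h1 := Finset.card_le_card hle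
      rw [Finset.card_univ] at h1
      exact absurd (h1.trans Finset.card_le_three) (by omega)
    exact ⟨⟨SL2.commutator_eq_top ha hasq⟩,
      Matrix.ProjectiveSpecialLinearGroup.rank_two_simple (by rw [Nat.card_eq_fintype_card]; exact h)⟩

theorem det_blk {m : ℕ} (M : SpecialLinearGroup (Fin m) F) :
    IsUnit (fromBlocks (1 : Matrix (Fin 1) (Fin 1) F) 0 0 M.1).det := by
  rw [det_fromBlocks_zero₁₂, det_one, M.2, one_mul]; exact isUnit_one

/-- The block embedding. -/
noncomputable def blk {m : ℕ} : SpecialLinearGroup (Fin m) F →* GL (Fin 1 ⊕ Fin m) F where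
  toFun M := ((Matrix.isUnit_iff_isUnit_det _).2 (det_blk M)).unit
  map_one' := Units.ext (by simp [fromBlocks_one])
  map_mul' M N := Units.ext (by simp [fromBlocks_multiply])

theorem blk_coe {m : ℕ} (M : SpecialLinearGroup (Fin m) F) :
    ((blk M : GL (Fin 1 ⊕ Fin m) F) : Matrix (Fin 1 ⊕ Fin m) (Fin 1 ⊕ Fin m) F) =
      fromBlocks 1 0 0 M.1 := rfl

theorem main (hodd : Odd (Fintype.card F)) {m : ℕ} (hm : 3 ≤ m ∨ (m = 2 ∧ 4 ≤ Fintype.card F))
    {G : Type u} [Group G] [Finite G] (Φ : GL (Fin 1 ⊕ Fin m) F ≃* G) :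
    ∃ t : G, orderOf t = 2 ∧ t ∉ Subgroup.center G ∧
      Cfsg.HasComponent (↥(Subgroup.centralizer ({t} : Set G)) ⧸
        Cfsg.oddCore ↥(Subgroup.centralizer ({t} : Set G))) := by
  classical
  have h2 : (2 : F) ≠ 0 := Ring.two_ne_zero fun hc => by
    haveI : CharP F 2 := hc ▸ ringChar.charP F
    obtain ⟨e, -, he⟩ := FiniteField.card F 2
    rw [he] at hodd
    exact absurd hodd (Nat.not_odd_iff_even.2 (even_iff_two_dvd.2 (dvd_pow_self 2 e.ne_zero)))
  have hneg : (-1 : F) ≠ 1 := fun h => h2 (by linear_combination -h)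
  have hm2 : 2 ≤ m := by omega
  set T : Matrix (Fin 1 ⊕ Fin m) (Fin 1 ⊕ Fin m) F := fromBlocks (-1) 0 0 1 with hT
  have hTT : T * T = 1 := by simp [hT, fromBlocks_multiply, fromBlocks_one]
  let τ : GL (Fin 1 ⊕ Fin m) F := ⟨T, T, hTT, hTT⟩
  have hτo : orderOf τ = 2 := orderOf_eq_prime (Units.ext (by rw [pow_two]; exact hTT)) fun h => hneg (by
    have := congrFun (congrFun (congrArg (fun Y : GL (Fin 1 ⊕ Fin m) F => Y.val) h) (Sum.inl 0)) (Sum.inl 0)
    simpa [τ, hT] using this)
  set C := Subgroup.centralizer ({Φ τ} : Set G)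
  have hmem : ∀ M, Φ (blk M) ∈ C := fun M => by
    refine Subgroup.mem_centralizer_singleton_iff.2 ?_
    rw [← map_mul, ← map_mul]
    refine congrArg Φ (Units.ext ?_)
    rw [Units.val_mul, Units.val_mul, blk_coe]
    simp [τ, hT, fromBlocks_multiply]
  refine ⟨Φ τ, by rw [MulEquiv.orderOf_eq, hτo], fun hc => ?_, ?_⟩
  · -- a transvection mixing the blocks
    have hj : 0 < m := by omega
    set A : Matrix (Fin 1 ⊕ Fin m) (Fin 1 ⊕ Fin m) F :=
      fromBlocks 1 (Matrix.of fun _ j => if j = ⟨0, hj⟩ then 1 else 0) 0 1 with hA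
    have hAu : IsUnit A := by
      rw [Matrix.isUnit_iff_isUnit_det, hA, det_fromBlocks_zero₂₁, det_one, det_one, one_mul]
      exact isUnit_one
    have h := Subgroup.mem_center_iff.1 hc (Φ hAu.unit)
    rw [← map_mul, ← map_mul] at h
    have h' := congrFun (congrFun (congrArg (fun Y : GL (Fin 1 ⊕ Fin m) F => Y.val) (Φ.injective h)) (Sum.inl 0)) (Sum.inr ⟨0, hj⟩)
    simp [τ, hT, hA, fromBlocks_multiply] at h'
    exact hneg h'.symm
  · let e : SpecialLinearGroup (Fin m) F →* C :=
      (Φ.toMonoidHom.comp blk).codRestrict C hmem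
    have hinj : Function.Injective e := fun M N h => by
      have h1 : blk M = blk N := Φ.injective (congrArg Subtype.val h)
      have h1' := congrArg Units.val h1
      rw [blk_coe, blk_coe] at h1'
      exact Subtype.ext (fromBlocks_inj.1 h1').2.2.2
    haveI hn : e.range.Normal := ⟨by
      rintro _ ⟨M, rfl⟩ c
      obtain ⟨x, hx⟩ := Φ.surjective (c : G)
      have hcomm := Subgroup.mem_centralizer_singleton_iff.1 c.2
      rw [← hx, ← map_mul, ← map_mul] at hcomm
      have hcm := congrArg Units.val (Φ.injective hcomm)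
      set X : Matrix (Fin 1 ⊕ Fin m) (Fin 1 ⊕ Fin m) F := x.val with hX
      have h12 : X.toBlocks₁₂ = 0 := by
        ext i j
        have := congrFun (congrFun hcm (Sum.inl i)) (Sum.inr j)
        rw [Units.val_mul, Units.val_mul, ← hX, ← fromBlocks_toBlocks X] at this
        simp [τ, hT, fromBlocks_multiply] at this
        have h' : (2 : F) * X.toBlocks₁₂ i j = 0 := by linear_combination this
        simpa using (mul_eq_zero.1 h').resolve_left h2
      have h21 : X.toBlocks₂₁ = 0 := by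
        ext i j
        have := congrFun (congrFun hcm (Sum.inr i)) (Sum.inl j)
        rw [Units.val_mul, Units.val_mul, ← hX, ← fromBlocks_toBlocks X] at this
        simp [τ, hT, fromBlocks_multiply] at this
        have h' : (2 : F) * X.toBlocks₂₁ i j = 0 := by linear_combination -this
        simpa using (mul_eq_zero.1 h').resolve_left h2
      have hXe : X = fromBlocks X.toBlocks₁₁ 0 0 X.toBlocks₂₂ := by
        conv_lhs => rw [← fromBlocks_toBlocks X, h12, h21]
      set D := X.toBlocks₂₂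
      have hD : IsUnit D.det := by
        have := (Matrix.isUnit_iff_isUnit_det X).1 x.isUnit
        rw [hXe, det_fromBlocks_zero₁₂] at this
        exact (IsUnit.mul_iff.1 this).2
      obtain ⟨M', hM'⟩ : ∃ M' : SpecialLinearGroup (Fin m) F, M'.1 = D * M.1 * D⁻¹ :=
        ⟨⟨D * M.1 * D⁻¹, by rw [det_mul, det_mul, M.2, mul_one, ← det_mul,
          mul_nonsing_inv _ hD, det_one]⟩, rfl⟩
      refine ⟨M', Subtype.ext ?_⟩
      show Φ (blk _) = (c : G) * Φ (blk M) * (c : G)⁻¹
      rw [← hx, eq_mul_inv_iff_mul_eq, ← map_mul, ← map_mul]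
      refine congrArg Φ (Units.ext ?_)
      rw [Units.val_mul, Units.val_mul, ← hX, blk_coe, blk_coe, hXe, hM', fromBlocks_multiply,
        fromBlocks_multiply]
      simp [nonsing_inv_mul_cancel_right _ _ hD, Matrix.mul_assoc, nonsing_inv_mul _ hD]⟩
    set O := Cfsg.oddCore ↥C
    haveI : O.Normal := CfsgLib.Core.normal_pPrimeCore 2
    set f := ((QuotientGroup.mk' O).comp e).rangeRestrict
    have hd2 : ∃ M : SpecialLinearGroup (Fin m) F, orderOf M = 2 := by
      have hij : (⟨0, by omega⟩ : Fin m) ≠ ⟨1, by omega⟩ := by simp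
      refine ⟨SpecialLinearGroup.diag2n hij (-1) (neg_ne_zero.2 one_ne_zero), orderOf_eq_prime
        (Matrix.SpecialLinearGroup.coeMonoidHom_injective ?_) fun h => hneg ?_⟩
      · rw [map_pow, map_one, SpecialLinearGroup.coeMonoidHom_apply,
          SpecialLinearGroup.diag2n_coe, pow_two, diagonal_mul_diagonal, ← diagonal_one]
        congr 1
        funext k
        split_ifs <;> simp
      · have := congrFun (congrFun (congrArg (fun Y : SpecialLinearGroup (Fin m) F => Y.1) h)
          ⟨0, by omega⟩) ⟨0, by omega⟩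
        simpa [SpecialLinearGroup.diag2n_coe] using this
    obtain ⟨M, hM⟩ := hd2
    haveI : Nontrivial ↥((QuotientGroup.mk' O).comp e).range := by
      refine ⟨⟨f M, 1, fun h => ?_⟩⟩
      have h1 : e M ∈ O := (QuotientGroup.eq_one_iff _).1 (congrArg Subtype.val h)
      have h2' := Subgroup.orderOf_dvd_natCard O h1
      rw [orderOf_injective e hinj, hM] at h2'
      exact Nat.not_even_iff_odd.2 (CfsgLib.Core.odd_card_pPrimeCore_two (G := ↥C))
        (even_iff_two_dvd.2 h2')
    refine ⟨_, Subgroup.Normal.isSubnormal ?_,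
      CfsgLib.Local.PGV.quasisimple_image f ((QuotientGroup.mk' O).comp e).rangeRestrict_surjective
        (quasisimple_sl hm)⟩
    rw [MonoidHom.range_comp]
    exact hn.map _ (QuotientGroup.mk'_surjective O)

theorem result (hF : Odd (Fintype.card F)) (n : ℕ) (hn : 3 ≤ n) (h33 : ¬ (n = 3 ∧ Fintype.card F = 3)) :
    ∃ t : GL (Fin n) F, orderOf t = 2 ∧ t ∉ Subgroup.center (GL (Fin n) F) ∧
      Cfsg.HasComponent (↥(Subgroup.centralizer ({t} : Set (GL (Fin n) F))) ⧸
        Cfsg.oddCore ↥(Subgroup.centralizer ({t} : Set (GL (Fin n) F)))) := by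
  obtain ⟨m, rfl⟩ : ∃ m, n = 1 + m := ⟨n - 1, by omega⟩
  refine main hF ?_ (Units.mapEquiv (Matrix.reindexAlgEquiv F F finSumFinEquiv).toMulEquiv)
  rcases (show m = 2 ∨ 3 ≤ m by omega) with rfl | h
  · refine Or.inr ⟨rfl, ?_⟩
    have h1 := Fintype.one_lt_card (α := F)
    obtain ⟨k, hk⟩ := hF
    have : Fintype.card F ≠ 3 := fun e => h33 ⟨rfl, e⟩
    omega
  · exact Or.inl h

end CfsgLib.GLComponent
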