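import Cfsg.Agent.Lib.ClassicalKleinMinusMain
import Cfsg.Agent.Lib.ClassicalKleinOdd
import Cfsg.Agent.Lib.ClassicalPSU

/-! The automorphism group of the E6 lattice reduced modulo 2 and 3: PSU_4(2) is PSp_4(3). -/

set_option autoImplicit false

namespace CfsgLib.LatticeE6

open Matrix CfsgLib.Classical

local notation "IX" => (Fin 2 ⊕ Fin 2) ⊕ Fin 2
local notation "I5" => Unit ⊕ (Fin 2 ⊕ Fin 2)

/-- the Cartan matrix -/
def cart : Matrix (Fin 6) (Fin 6) ℤ :=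
  !![2, -1, 0, 0, 0, 0; -1, 2, -1, 0, 0, 0; 0, -1, 2, -1, 0, -1; 0, 0, -1, 2, -1, 0; 0, 0, 0, -1, 2, 0; 0, 0, -1, 0, 0, 2]

/-- the positive roots -/
def root : Fin 36 → Fin 6 → ℤ :=
  ![![0, 0, 0, 0, 0, 1], ![0, 0, 0, 0, 1, 0], ![0, 0, 0, 1, 0, 0], ![0, 0, 0, 1, 1, 0], ![0, 0, 1, 0, 0, 0], ![0, 0, 1, 0, 0, 1], ![0, 0, 1, 1, 0, 0], ![0, 0, 1, 1, 0, 1], ![0, 0, 1, 1, 1, 0], ![0, 0, 1, 1, 1, 1], ![0, 1, 0, 0, 0, 0], ![0, 1, 1, 0, 0, 0], ![0, 1, 1, 0, 0, 1], ![0, 1, 1, 1, 0, 0], ![0, 1, 1, 1, 0, 1], ![0, 1, 1, 1, 1, 0], ![0, 1, 1, 1, 1, 1], ![0, 1, 2, 1, 0, 1], ![0, 1, 2, 1, 1, 1], ![0, 1, 2, 2, 1, 1], ![1, 0, 0, 0, 0, 0], ![1, 1, 0, 0, 0, 0], ![1, 1, 1, 0, 0, 0], ![1, 1, 1, 0, 0, 1], ![1, 1, 1, 1, 0, 0], ![1, 1, 1, 1, 0, 1], ![1, 1, 1, 1, 1, 0], ![1, 1, 1, 1, 1, 1], ![1, 1, 2, 1, 0, 1], ![1, 1, 2, 1, 1, 1], ![1, 1, 2, 2, 1, 1], ![1, 2, 2, 1, 0, 1], ![1, 2, 2,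 1, 1, 1], ![1, 2, 2, 2, 1, 1], ![1, 2, 3, 2, 1, 1], ![1, 2, 3, 2, 1, 2]]

/-- coordinates modulo two -/
def tMat : Matrix (Fin 6) IX (ZMod 2) :=
  Matrix.of (![Sum.elim (Sum.elim ![0, 0] ![0, 1]) ![0, 0], Sum.elim (Sum.elim ![0, 1] ![0, 0]) ![0, 1], Sum.elim (Sum.elim ![0, 0] ![0, 0]) ![0, 1], Sum.elim (Sum.elim ![0, 0] ![1, 0]) ![0, 1], Sum.elim (Sum.elim ![1, 0] ![0, 0]) ![0, 0], Sum.elim (Sum.elim ![1, 1] ![1, 1]) ![1, 0]] : Fin 6 → IX → ZMod 2)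

/-- inverse coordinates modulo two -/
def tInv : Matrix IX (Fin 6) (ZMod 2) :=
  Matrix.of (Sum.elim (Sum.elim ![![0, 0, 0, 0, 1, 0], ![0, 1, 1, 0, 0, 0]] ![![0, 0, 1, 1, 0, 0], ![1, 0, 0, 0, 0, 0]]) ![![1, 1, 0, 1, 1, 1], ![0, 0, 1, 0, 0, 0]] : IX → Fin 6 → ZMod 2)

/-- section modulo three -/
def sMat : Matrix (Fin 6) I5 (ZMod 3) :=
  Matrix.of (![Sum.elim (fun _ => 0) (Sum.elim ![1, 2] ![1, 0]), Sum.elim (fun _ => 0) (Sum.elim ![0, 2] ![1, 0]), Sum.elim (fun _ => 2) (Sum.elim ![0, 1] ![1, 2]), Sum.elim (fun _ => 0) (Sum.elim ![2, 1] ![2, 2]), Sum.elim (fun _ => 2) (Sum.elim ![0, 1] ![2, 2]), Sum.elim (fun _ => 0) (Sum.elim ![2, 0] ![1, 1])] : Fin 6 → I5 → ZMod 3)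

/-- projection modulo three -/
def pMat : Matrix I5 (Fin 6) (ZMod 3) :=
  Matrix.of (Sum.elim (fun _ => ![0, 1, 1, 2, 1, 1]) (Sum.elim ![![2, 0, 2, 2, 1, 2], ![0, 2, 2, 0, 1, 0]] ![![1, 1, 1, 2, 2, 2], ![1, 2, 1, 0, 2, 1]]) : I5 → Fin 6 → ZMod 3)

/-- the inverse Gram matrix up to the scale two, times the transposed section -/
def gSect : Matrix I5 (Fin 6) (ZMod 3) :=
  Matrix.of (Sum.elim (fun _ j => sMat j (Sum.inl ()))
    (Sum.elim (fun i j => 2 * sMat j (Sum.inr (Sum.inr i))) (fun i j => 2 * sMat j (Sum.inr (Sum.inl i)))) :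
    I5 → Fin 6 → ZMod 3)

/-- the lattice quadratic form -/
def qE6 {R : Type*} [CommRing R] (v : Fin 6 → R) : R :=
  v 0 ^ 2 + v 1 ^ 2 + v 2 ^ 2 + v 3 ^ 2 + v 4 ^ 2 + v 5 ^ 2 - v 0 * v 1 - v 1 * v 2 - v 2 * v 3 - v 3 * v 4 -
    v 2 * v 5

lemma tt : tMat * tInv = 1 ∧ tInv * tMat = 1 := by decide +kernel

lemma q2_eq : ∀ x : IX → ZMod 2, Cfsg.quadFormMinus 2 (ZMod 2) 1 1 x = qE6 (tMat *ᵥ x) := by decide +kernel

lemma q3_eq : ∀ y : I5 → ZMod 3,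
    Cfsg.quadFormOdd 2 (ZMod 3) y = (sMat *ᵥ y) ⬝ᵥ (cart.map (Int.cast : ℤ → ZMod 3) *ᵥ (sMat *ᵥ y)) := by
  decide +kernel

lemma p_eq : pMat = gSect * cart.map (Int.cast : ℤ → ZMod 3) := by decide +kernel

lemma ps : pMat * sMat = 1 ∧ cart.map (Int.cast : ℤ → ZMod 3) * (1 - sMat * pMat) = 0 ∧
    (sMat * pMat)ᵀ * cart.map (Int.cast : ℤ → ZMod 3) * (sMat * pMat) = cart.map (Int.cast : ℤ → ZMod 3) := by
  decide +kernel

/-- the reflection in a root -/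
def refl (i : Fin 36) : Matrix (Fin 6) (Fin 6) ℤ :=
  1 - Matrix.of fun a b => root i a * (cart *ᵥ root i) b

lemma refl_spec : ∀ i, refl i * refl i = 1 ∧ (refl i)ᵀ * cart * refl i = cart := by decide +kernel

lemma root_surj : ∀ d : IX → ZMod 2, Cfsg.quadFormMinus 2 (ZMod 2) 1 1 d ≠ 0 →
    ∃ i, ∀ j, (tMat *ᵥ d) j = (root i j : ZMod 2) := by decide +kernel

lemma refl_two : ∀ i, ∀ j : IX, (tInv * (refl i).map (Int.cast : ℤ → ZMod 2) * tMat) *ᵥ Pi.single j 1 =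
    Pi.single j 1 - QuadraticMap.polar (Cfsg.quadFormMinus 2 (ZMod 2) 1 1) (Pi.single j 1)
      (tInv *ᵥ fun k => (root i k : ZMod 2)) • (tInv *ᵥ fun k => (root i k : ZMod 2)) := by decide +kernel

lemma two_mul_q (v : Fin 6 → ℤ) : v ⬝ᵥ (cart *ᵥ v) = 2 * qE6 v := by
  simp [cart, qE6, dotProduct, Matrix.mulVec, Fin.sum_univ_six]
  ring

lemma qE6_pos (v : Fin 6 → ℤ) : 0 ≤ qE6 v ∧ (qE6 v = 0 → v = 0) := by
  have e : 12 * qE6 v = 3 * (2 * v 0 - v 1) ^ 2 + 3 * (2 * v 4 - v 3) ^ 2 + 3 * (2 * v 5 - v 2) ^ 2 +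
      (3 * v 1 - 2 * v 2) ^ 2 + (3 * v 3 - 2 * v 2) ^ 2 + v 2 ^ 2 := by
    simp only [qE6]; ring
  have s0 := sq_nonneg (2 * v 0 - v 1)
  have s4 := sq_nonneg (2 * v 4 - v 3)
  have s5 := sq_nonneg (2 * v 5 - v 2)
  have s1 := sq_nonneg (3 * v 1 - 2 * v 2)
  have s3 := sq_nonneg (3 * v 3 - 2 * v 2)
  have s2 := sq_nonneg (v 2)
  refine ⟨by linarith, fun h => ?_⟩
  rw [h, mul_zero] at e
  have t0 := pow_eq_zero_iff (n := 2) (by norm_num) |>.mp (show (2 * v 0 - v 1) ^ 2 = 0 by linarith)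
  have t4 := pow_eq_zero_iff (n := 2) (by norm_num) |>.mp (show (2 * v 4 - v 3) ^ 2 = 0 by linarith)
  have t5 := pow_eq_zero_iff (n := 2) (by norm_num) |>.mp (show (2 * v 5 - v 2) ^ 2 = 0 by linarith)
  have t1 := pow_eq_zero_iff (n := 2) (by norm_num) |>.mp (show (3 * v 1 - 2 * v 2) ^ 2 = 0 by linarith)
  have t3 := pow_eq_zero_iff (n := 2) (by norm_num) |>.mp (show (3 * v 3 - 2 * v 2) ^ 2 = 0 by linarith)
  have t2 := pow_eq_zero_iff (n := 2) (by norm_num) |>.mp (show v 2 ^ 2 = 0 by linarith)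
  funext i
  fin_cases i <;> simp <;> omega

/-- the automorphism group of the lattice -/
def aut : Subgroup (GL (Fin 6) ℤ) :=
  Cfsg.preserving (Units.coeHom (Matrix (Fin 6) (Fin 6) ℤ)) fun u v => u ⬝ᵥ (cart *ᵥ v)

lemma form_of_mem {g : GL (Fin 6) ℤ} (hg : g ∈ aut) :
    (g : Matrix (Fin 6) (Fin 6) ℤ)ᵀ * cart * (g : Matrix (Fin 6) (Fin 6) ℤ) = cart := by
  refine Matrix.ext fun i j => ?_
  have h := hg (Pi.single i 1) (Pi.single j 1)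
  change ((g : Matrix (Fin 6) (Fin 6) ℤ) *ᵥ Pi.single i 1) ⬝ᵥ
    (cart *ᵥ ((g : Matrix (Fin 6) (Fin 6) ℤ) *ᵥ Pi.single j 1)) = (Pi.single i 1) ⬝ᵥ (cart *ᵥ Pi.single j 1) at h
  simp only [Matrix.mulVec_single_one, single_one_dotProduct] at h
  rw [Matrix.mul_assoc]
  exact h

lemma qE6_inv {g : GL (Fin 6) ℤ} (hg : g ∈ aut) (v : Fin 6 → ℤ) :
    qE6 ((g : Matrix (Fin 6) (Fin 6) ℤ) *ᵥ v) = qE6 v := by
  have h := hg v v
  change ((g : Matrix (Fin 6) (Fin 6) ℤ) *ᵥ v) ⬝ᵥ (cart *ᵥ ((g : Matrix (Fin 6) (Fin 6) ℤ) *ᵥ v)) = v ⬝ᵥ (cart *ᵥ v) at h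
  rw [two_mul_q, two_mul_q] at h
  omega

lemma qE6_cast {R : Type*} [CommRing R] (v : Fin 6 → ℤ) :
    qE6 (fun i => (v i : R)) = ((qE6 v : ℤ) : R) := by simp [qE6]

lemma map_mulVec_cast {R : Type*} [CommRing R] (g : Matrix (Fin 6) (Fin 6) ℤ) (v : Fin 6 → ℤ) :
    g.map (Int.cast : ℤ → R) *ᵥ (fun i => (v i : R)) = fun i => (((g *ᵥ v) i : ℤ) : R) := by
  funext i; simp [Matrix.mulVec, dotProduct]

lemma map_mul_cast {R : Type*} [CommRing R] (g h : Matrix (Fin 6) (Fin 6) ℤ) :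
    (g * h).map (Int.cast : ℤ → R) = g.map (Int.cast : ℤ → R) * h.map (Int.cast : ℤ → R) := by
  show (g * h).map (Int.castRingHom R) = g.map (Int.castRingHom R) * h.map (Int.castRingHom R)
  exact Matrix.map_mul

/-- reduction modulo two -/
def redTwo : ↥aut →* Matrix IX IX (ZMod 2) where
  toFun g := tInv * ((g : GL (Fin 6) ℤ) : Matrix (Fin 6) (Fin 6) ℤ).map (Int.cast : ℤ → ZMod 2) * tMat
  map_one' := by simp [Matrix.map_one, tt.2]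
  map_mul' g h := by
    rw [Subgroup.coe_mul, Units.val_mul, map_mul_cast]
    symm
    simp only [Matrix.mul_assoc]
    rw [← Matrix.mul_assoc tMat tInv, tt.1, Matrix.one_mul]

lemma redTwo_apply (g : ↥aut) :
    redTwo g = tInv * ((g : GL (Fin 6) ℤ) : Matrix (Fin 6) (Fin 6) ℤ).map (Int.cast : ℤ → ZMod 2) * tMat := rfl

lemma redTwo_mem (g : ↥aut) :
    redTwo.toHomUnits g ∈ Cfsg.isometryGroup (ZMod 2) (Cfsg.quadFormMinus 2 (ZMod 2) 1 1) := fun x _ => by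
  show Cfsg.quadFormMinus 2 (ZMod 2) 1 1 (redTwo g *ᵥ x) = Cfsg.quadFormMinus 2 (ZMod 2) 1 1 x
  rw [q2_eq, q2_eq, redTwo_apply]
  rw [mulVec_mulVec, ← Matrix.mul_assoc, ← Matrix.mul_assoc, tt.1, Matrix.one_mul, ← mulVec_mulVec]
  obtain ⟨v, hv⟩ : ∃ v : Fin 6 → ℤ, (fun i => (v i : ZMod 2)) = tMat *ᵥ x :=
    ⟨fun i => ((tMat *ᵥ x) i).val, funext fun i => by simp⟩
  rw [← hv, map_mulVec_cast, qE6_cast, qE6_cast, qE6_inv g.2]

/-- reduction modulo three on the non-degenerate quotient -/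
def redThree : ↥aut →* Matrix I5 I5 (ZMod 3) where
  toFun g := pMat * ((g : GL (Fin 6) ℤ) : Matrix (Fin 6) (Fin 6) ℤ).map (Int.cast : ℤ → ZMod 3) * sMat
  map_one' := by simp [Matrix.map_one, ps.1]
  map_mul' g h := by
    obtain ⟨G, hG⟩ : ∃ G, G = ((g : GL (Fin 6) ℤ) : Matrix (Fin 6) (Fin 6) ℤ).map (Int.cast : ℤ → ZMod 3) := ⟨_, rfl⟩
    have hC : cart.map (Int.cast : ℤ → ZMod 3) * G =
        ((((g⁻¹ : ↥aut) : GL (Fin 6) ℤ) : Matrix (Fin 6) (Fin 6) ℤ).map (Int.cast : ℤ → ZMod 3))ᵀ *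
          cart.map (Int.cast : ℤ → ZMod 3) := by
      rw [hG, ← Matrix.transpose_map, ← map_mul_cast, ← map_mul_cast]
      congr 1
      conv_lhs => rw [← form_of_mem (g⁻¹).2]
      rw [Subgroup.coe_inv, Matrix.mul_assoc, ← Units.val_mul, inv_mul_cancel, Units.val_one, Matrix.mul_one]
    have hkey : pMat * G * (1 - sMat * pMat) = 0 := by
      rw [p_eq, Matrix.mul_assoc gSect, hC, Matrix.mul_assoc gSect, ← p_eq, Matrix.mul_assoc, ps.2.1]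
      simp
    rw [Matrix.mul_sub, Matrix.mul_one, sub_eq_zero] at hkey
    rw [Subgroup.coe_mul, Units.val_mul, map_mul_cast, ← hG, ← Matrix.mul_assoc pMat G]
    conv_lhs => rw [hkey]
    simp only [Matrix.mul_assoc]

lemma redThree_apply (g : ↥aut) :
    redThree g = pMat * ((g : GL (Fin 6) ℤ) : Matrix (Fin 6) (Fin 6) ℤ).map (Int.cast : ℤ → ZMod 3) * sMat := rfl

lemma redThree_mem (g : ↥aut) :
    redThree.toHomUnits g ∈ Cfsg.isometryGroup (ZMod 3) (Cfsg.quadFormOdd 2 (ZMod 3)) := fun y _ => by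
  show Cfsg.quadFormOdd 2 (ZMod 3) (redThree g *ᵥ y) = Cfsg.quadFormOdd 2 (ZMod 3) y
  rw [q3_eq, q3_eq, redThree_apply]
  obtain ⟨C, hC⟩ : ∃ C, C = cart.map (Int.cast : ℤ → ZMod 3) := ⟨_, rfl⟩
  rw [← hC]
  have h1 : ∀ (X : Matrix (Fin 6) (Fin 6) (ZMod 3)) u, (X *ᵥ u) ⬝ᵥ (C *ᵥ (X *ᵥ u)) = u ⬝ᵥ ((Xᵀ * C * X) *ᵥ u) :=
    fun X u => by rw [← mulVec_mulVec, ← mulVec_mulVec, dotProduct_mulVec u Xᵀ, vecMul_transpose]
  rw [show sMat *ᵥ ((pMat * ((g : GL (Fin 6) ℤ) : Matrix (Fin 6) (Fin 6) ℤ).map (Int.cast : ℤ → ZMod 3) * sMat) *ᵥ y) =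
    (sMat * pMat) *ᵥ (((g : GL (Fin 6) ℤ) : Matrix (Fin 6) (Fin 6) ℤ).map (Int.cast : ℤ → ZMod 3) *ᵥ (sMat *ᵥ y)) by
      simp only [mulVec_mulVec, Matrix.mul_assoc], h1, hC, ps.2.2, ← hC, h1, hC, ← Matrix.transpose_map, ← map_mul_cast,
    ← map_mul_cast, form_of_mem g.2]

lemma kernel_two {g : ↥aut} (h : redTwo g = 1) :
    ((g : GL (Fin 6) ℤ) : Matrix (Fin 6) (Fin 6) ℤ) = 1 ∨ ((g : GL (Fin 6) ℤ) : Matrix (Fin 6) (Fin 6) ℤ) = -1 := by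
  obtain ⟨M, hM⟩ : ∃ M, M = ((g : GL (Fin 6) ℤ) : Matrix (Fin 6) (Fin 6) ℤ) := ⟨_, rfl⟩
  rw [← hM]
  have h2 : M.map (Int.cast : ℤ → ZMod 2) = 1 := by
    rw [redTwo_apply] at h
    rw [← hM] at h
    calc M.map (Int.cast : ℤ → ZMod 2) = (tMat * tInv) * M.map (Int.cast : ℤ → ZMod 2) * (tMat * tInv) := by
          rw [tt.1, Matrix.one_mul, Matrix.mul_one]
      _ = tMat * (tInv * M.map (Int.cast : ℤ → ZMod 2) * tMat) * tInv := by simp only [Matrix.mul_assoc]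
      _ = 1 := by rw [h, Matrix.mul_one, tt.1]
  have hcol : ∀ j, (∀ i, M i j = (1 : Matrix (Fin 6) (Fin 6) ℤ) i j) ∨
      (∀ i, M i j = -(1 : Matrix (Fin 6) (Fin 6) ℤ) i j) := fun j => by
    have hd : ∀ i, ∃ v, M i j = (1 : Matrix (Fin 6) (Fin 6) ℤ) i j + 2 * v := fun i => by
      have e := congrFun (congrFun h2 i) j
      rw [Matrix.map_apply] at e
      have e' : ((M i j - (1 : Matrix (Fin 6) (Fin 6) ℤ) i j : ℤ) : ZMod 2) = 0 := by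
        rw [Int.cast_sub, e, sub_eq_zero]
        by_cases hij : i = j
        · subst hij; simp
        · simp [Matrix.one_apply, hij]
      obtain ⟨v, hv⟩ := (ZMod.intCast_zmod_eq_zero_iff_dvd _ 2).mp e'
      exact ⟨v, by push_cast at hv; linarith⟩
    choose v hv using hd
    obtain ⟨e, he⟩ : ∃ e, e = fun i => (1 : Matrix (Fin 6) (Fin 6) ℤ) i j := ⟨_, rfl⟩
    have hMe : M *ᵥ Pi.single j 1 = fun i => e i + 2 * v i := by
      rw [Matrix.mulVec_single_one]; funext i; rw [he]; exact hv i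
    have hes : (Pi.single j 1 : Fin 6 → ℤ) = e := by
      funext i; simp [he, Matrix.one_apply, Pi.single_apply]
    have hqe : qE6 e = 1 := by rw [← hes]; exact (show ∀ j : Fin 6, qE6 (Pi.single j (1 : ℤ)) = 1 by decide) j
    have hq := qE6_inv g.2 (Pi.single j 1)
    rw [← hM, hMe, hes, hqe] at hq
    have hsum : qE6 (fun i => e i + v i) * 2 + 2 * qE6 v = qE6 (fun i => e i + 2 * v i) + qE6 e := by
      simp only [qE6]; ring
    obtain ⟨hv0, hv1⟩ := qE6_pos v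
    obtain ⟨hs0, hs1⟩ := qE6_pos (fun i => e i + v i)
    rw [hq, hqe] at hsum
    rcases (show qE6 v = 0 ∨ qE6 (fun i => e i + v i) = 0 by omega) with h0 | h0
    · left; intro i; rw [hv i, congrFun (hv1 h0) i]; simp
    · right; intro i
      have := congrFun (hs1 h0) i
      simp only [Pi.zero_apply, he] at this
      rw [hv i]; linarith
  have hform := form_of_mem g.2
  rw [← hM] at hform
  obtain ⟨s, hs⟩ : ∃ s : Fin 6 → ℤ, ∀ j, (s j = 1 ∨ s j = -1) ∧ ∀ i, M i j = s j * (1 : Matrix (Fin 6) (Fin 6) ℤ) i j := by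
    refine ⟨fun j => if (∀ i, M i j = (1 : Matrix (Fin 6) (Fin 6) ℤ) i j) then 1 else -1, fun j => ?_⟩
    by_cases hj : ∀ i, M i j = (1 : Matrix (Fin 6) (Fin 6) ℤ) i j
    · simp only [if_pos hj]; exact ⟨Or.inl trivial, fun i => by rw [hj i, one_mul]⟩
    · simp only [if_neg hj]; exact ⟨Or.inr trivial, fun i => by rw [(hcol j).resolve_left hj i, neg_one_mul]⟩
  have hMd : M = Matrix.diagonal s := by
    ext i j; rw [(hs j).2 i]
    by_cases hij : i = j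
    · subst hij; simp
    · simp [hij]
  have hedge : ∀ i j, s i * cart i j * s j = cart i j := fun i j => by
    have := congrFun (congrFun hform i) j
    rw [hMd, Matrix.diagonal_transpose, Matrix.mul_diagonal, Matrix.diagonal_mul] at this
    exact this
  have e1 := hedge 0 1
  have e2 := hedge 1 2
  have e3 := hedge 2 3
  have e4 := hedge 3 4
  have e5 := hedge 2 5
  simp [cart] at e1 e2 e3 e4 e5
  have hall : ∀ j, s j = s 0 := by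
    rcases (hs 0).1 with a0 | a0 <;> rcases (hs 1).1 with a1 | a1 <;> rcases (hs 2).1 with a2 | a2 <;>
      rcases (hs 3).1 with a3 | a3 <;> rcases (hs 4).1 with a4 | a4 <;> rcases (hs 5).1 with a5 | a5 <;>
      simp [a0, a1, a2, a3, a4, a5] at e1 e2 e3 e4 e5 ⊢ <;> intro j <;> fin_cases j <;> simp [a0, a1, a2, a3, a4, a5]
  rcases (hs 0).1 with h0 | h0
  · left; rw [hMd, show s = fun _ => (1 : ℤ) from funext fun j => (hall j).trans h0, Matrix.diagonal_one]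
  · right; rw [hMd, show s = fun _ => (-1 : ℤ) from funext fun j => (hall j).trans h0]
    ext i j; by_cases hij : i = j <;> simp [hij]

end CfsgLib.LatticeE6
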