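import Cfsg.Agent.Lib.ClassicalPSLTwoQuat
import Cfsg.Agent.Lib.ClassicalProjLine
import Cfsg.Agent.S0268

/-! Existence of tetrahedral, octahedral and icosahedral subgroups of `PSL₂`. -/

set_option autoImplicit false

namespace CfsgLib.Classical

open Matrix
open scoped MatrixGroups

universe u

variable {F : Type u} [Field F] [Fintype F]

lemma two_ne_zero_of_odd (h : Odd (Fintype.card F)) : (2 : F) ≠ 0 := fun h2 => by
  obtain ⟨p, hchar⟩ := CharP.exists F
  obtain ⟨n, hp, hn⟩ := FiniteField.card F p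
  have hd : p ∣ 2 := (CharP.cast_eq_zero_iff F p 2).mp (by exact_mod_cast h2)
  rw [(Nat.prime_dvd_prime_iff_eq hp Nat.prime_two).mp hd] at hn
  exact Nat.not_even_iff_odd.mpr h (hn ▸ Nat.even_pow.mpr ⟨even_two, n.ne_zero⟩)

lemma exists_sum_sq_neg_one (h : Odd (Fintype.card F)) : ∃ a b : F, a * a + b * b = -1 := by
  obtain ⟨p, hchar⟩ := CharP.exists F
  obtain ⟨n, hp, hn⟩ := FiniteField.card F p
  have : Fact p.Prime := ⟨hp⟩
  obtain ⟨a, b, hab⟩ := ZMod.sq_add_sq p (-1)
  refine ⟨ZMod.castHom dvd_rfl F a, ZMod.castHom dvd_rfl F b, ?_⟩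
  rw [← map_mul, ← map_mul, ← map_add, ← sq, ← sq, hab, map_neg, map_one]

theorem exists_alt_four_of_odd (h : Odd (Fintype.card F)) :
    ∃ H : Subgroup (ProjectiveSpecialLinearGroup (Fin 2) F), Nat.card H = 12 ∧ Nonempty (H ≃* alternatingGroup (Fin 4)) := by
  obtain ⟨a, b, hab⟩ := exists_sum_sq_neg_one h
  exact Quat.Par.exists_alt_four ⟨a, b, 0, two_ne_zero_of_odd h, hab, by simp⟩

theorem exists_sym_four_of_sqrt (h : Odd (Fintype.card F)) {t : F} (ht : t * t = 2) :
    ∃ H : Subgroup (ProjectiveSpecialLinearGroup (Fin 2) F), Nat.card H = 24 ∧ Nonempty (H ≃* Equiv.Perm (Fin 4)) := by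
  obtain ⟨a, b, hab⟩ := exists_sum_sq_neg_one h
  exact Quat.Par.exists_sym_four ⟨a, b, t, two_ne_zero_of_odd h, hab, by simpa using ht⟩

theorem exists_alt_five_of_root (h : Odd (Fintype.card F)) {t : F} (ht : t * t = t + 1) :
    ∃ H : Subgroup (ProjectiveSpecialLinearGroup (Fin 2) F), Nat.card H = 60 ∧ Nonempty (H ≃* alternatingGroup (Fin 5)) := by
  obtain ⟨a, b, hab⟩ := exists_sum_sq_neg_one h
  exact Quat.Par.exists_alt_five ⟨a, b, t, two_ne_zero_of_odd h, hab, by rw [ht]; push_cast; ring⟩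

omit [Fintype F] in
/-- Cayley–Hamilton for the fifth power -/
lemma pow_five_eq (g : SpecialLinearGroup (Fin 2) F) (t : F) (ht : t = g.1 0 0 + g.1 1 1) :
    g.1 ^ 5 = (t ^ 4 - 3 * t ^ 2 + 1) • g.1 - (t ^ 3 - 2 * t) • (1 : Matrix (Fin 2) (Fin 2) F) := by
  have hsq : g.1 * g.1 = t • g.1 - 1 := by
    have hd := Dickson.det_eq g
    ext i j
    fin_cases i <;> fin_cases j <;> simp [ht, Matrix.mul_apply, Fin.sum_univ_two]
    · linear_combination -hd
    · ring
    · ring
    · linear_combination -hd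
  rw [pow_succ, pow_succ, pow_succ, pow_two, hsq]
  simp only [sub_mul, smul_mul_assoc, one_mul, hsq, smul_sub, smul_smul, sub_smul, add_smul, one_smul]
  module

theorem exists_root_of_five_dvd (h5 : 5 ∣ Nat.card (SpecialLinearGroup (Fin 2) F)) :
    ∃ t : F, t * t = t + 1 := by
  have : Fact (Nat.Prime 5) := ⟨by norm_num⟩
  obtain ⟨g, hg⟩ := exists_prime_orderOf_dvd_card' (G := SpecialLinearGroup (Fin 2) F) 5 h5
  have hg5 : g ^ 5 = 1 := hg ▸ pow_orderOf_eq_one g
  obtain ⟨t, ht⟩ : ∃ t, t = g.1 0 0 + g.1 1 1 := ⟨_, rfl⟩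
  have hns : ¬ Dickson.IsScal g := fun hs => by
    rcases eq_one_or_neg_one_of_isScal hs with e | e
    · rw [e, orderOf_one] at hg; norm_num at hg
    · have : g ^ 2 = 1 := by rw [e]; exact Subtype.ext (by simp [pow_two])
      have hd := orderOf_dvd_of_pow_eq_one this
      rw [hg] at hd
      norm_num at hd
  have h1 : g.1 ^ 5 = 1 := (Matrix.SpecialLinearGroup.coe_pow g 5).symm.trans (congrArg Subtype.val hg5)
  rw [pow_five_eq g t ht] at h1
  have hz : t ^ 4 - 3 * t ^ 2 + 1 = 0 := by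
    by_contra hz
    have e01 := congrFun (congrFun h1 0) 1
    have e10 := congrFun (congrFun h1 1) 0
    have e00 := congrFun (congrFun h1 0) 0
    have e11 := congrFun (congrFun h1 1) 1
    simp at e01 e10 e00 e11
    exact hns ⟨e01.resolve_left hz, e10.resolve_left hz, mul_left_cancel₀ hz (by linear_combination e00 - e11)⟩
  rcases mul_eq_zero.mp (show (t * t - t - 1) * (t * t + t - 1) = 0 by linear_combination hz) with h | h
  · exact ⟨t, by linear_combination h⟩
  · exact ⟨-t, by linear_combination h⟩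

/-- The map on `PSL₂` induced by a field embedding. -/
theorem exists_psl_hom {K : Type*} [Field K] (φ : K →+* F) :
    ∃ f : ProjectiveSpecialLinearGroup (Fin 2) K →* ProjectiveSpecialLinearGroup (Fin 2) F, Function.Injective f := by
  classical
  let m : SpecialLinearGroup (Fin 2) K →* ProjectiveSpecialLinearGroup (Fin 2) F :=
    (QuotientGroup.mk' (Subgroup.center (SpecialLinearGroup (Fin 2) F))).comp (SpecialLinearGroup.map φ)
  have hker : m.ker = Subgroup.center (SpecialLinearGroup (Fin 2) K) := by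
    ext g
    rw [MonoidHom.mem_ker]
    show QuotientGroup.mk' _ (SpecialLinearGroup.map φ g) = 1 ↔ _
    rw [QuotientGroup.mk'_apply, QuotientGroup.eq_one_iff, Subgroup.mem_center_iff, Subgroup.mem_center_iff]
    have hinj : Function.Injective (SpecialLinearGroup.map (n := Fin 2) φ) := fun a b hab => by
      apply Subtype.ext
      ext i j
      exact φ.injective (congrFun (congrFun (congrArg Subtype.val hab) i) j)
    refine ⟨fun hg x => hinj (by rw [map_mul, map_mul, hg]), fun hg => ?_⟩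
    have hs : Dickson.IsScal g := by
      obtain ⟨e1, e2, -⟩ := Dickson.commute_iff_entries.mp (hg (Dickson.upperU 1) : Commute _ g).symm
      obtain ⟨f1, f2, -⟩ := Dickson.commute_iff_entries.mp (hg (Dickson.lowerU 1) : Commute _ g).symm
      simp [Dickson.coe_upperU, Dickson.coe_lowerU] at e1 e2 f1 f2
      exact ⟨by first | exact f1 | exact f1.symm, e1.symm, sub_eq_zero.mp e2.symm⟩
    obtain ⟨s1, s2, s3⟩ := hs
    exact fun x => (Dickson.IsScal.commute (g := SpecialLinearGroup.map φ g)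
      ⟨by simp [SpecialLinearGroup.map_apply_coe, s1], by simp [SpecialLinearGroup.map_apply_coe, s2],
        by simp [SpecialLinearGroup.map_apply_coe, s3]⟩ x).symm.eq
  refine ⟨QuotientGroup.lift _ m hker.ge, ?_⟩
  rw [← MonoidHom.ker_eq_bot_iff, QuotientGroup.ker_lift, hker, QuotientGroup.map_mk'_self]

theorem exists_subfield_four {n : ℕ} (hn : Even n) (hF : Fintype.card F = 2 ^ n) :
    ∃ φ : GaloisField 2 2 →+* F, True := by
  have : Fact (Nat.Prime 2) := ⟨Nat.prime_two⟩
  have : CharP F 2 := charP_of_card_eq_prime_pow hF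
  letI : Algebra (ZMod 2) F := ZMod.algebra F 2
  obtain ⟨f⟩ := FiniteField.nonempty_algHom_of_finrank_dvd (F := ZMod 2) (K := GaloisField 2 2) (L := F) (by
    rw [GaloisField.finrank 2 two_ne_zero]
    have h := Module.card_eq_pow_finrank (K := ZMod 2) (V := F)
    rw [ZMod.card, hF] at h
    rw [← Nat.pow_right_injective le_rfl h]
    exact hn.two_dvd)
  exact ⟨f.toRingHom, trivial⟩

theorem psl_two_four_equiv {K : Type*} [Field K] [Fintype K] (hK : Fintype.card K = 4) :
    Nonempty (ProjectiveSpecialLinearGroup (Fin 2) K ≃* alternatingGroup (Fin 5)) := by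
  classical
  let f := (Equiv.permCongrHom (Nat.equivFinOfCardPos (α := Projectivization K (Fin 2 → K))
      (by rw [Two.card_projLine, hK]; norm_num)
    |>.trans (finCongr (by rw [Two.card_projLine, hK])))).toMonoidHom.comp
    (Projectivization.PSLAction.toPermHom (ι := Fin 2) (K := K))
  have hinj : Function.Injective f :=
    (Equiv.permCongrHom _).injective.comp Matrix.ProjectiveSpecialLinearGroup.toPermHom_injective
  have hcard := card_psl_mul (F := K) (ι := Fin 2)
  rw [Two.card_sl_two, Fintype.card_fin, hK] at hcard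
  norm_num [-Nat.card_eq_fintype_card] at hcard
  have hidx : f.range.index = 2 := by
    have h := Subgroup.card_mul_index f.range
    rw [← Nat.card_congr (MonoidHom.ofInjective hinj).toEquiv, Nat.card_perm,
      Nat.card_fin, show Nat.factorial (4 + 1) = 120 from rfl] at h
    rw [show Nat.card (ProjectiveSpecialLinearGroup (Fin 2) K) = 60 by omega] at h
    omega
  exact ⟨(MonoidHom.ofInjective hinj).trans
    (MulEquiv.subgroupCongr (Equiv.Perm.eq_alternatingGroup_of_index_eq_two hidx))⟩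

theorem exists_alt_five_of_even {n : ℕ} (hn : Even n) (hF : Fintype.card F = 2 ^ n) :
    ∃ H : Subgroup (ProjectiveSpecialLinearGroup (Fin 2) F), Nonempty (H ≃* alternatingGroup (Fin 5)) := by
  have : Fact (Nat.Prime 2) := ⟨Nat.prime_two⟩
  obtain ⟨φ, -⟩ := exists_subfield_four hn hF
  obtain ⟨f, hf⟩ := exists_psl_hom φ
  letI := Fintype.ofFinite (GaloisField 2 2)
  obtain ⟨e⟩ := psl_two_four_equiv (K := GaloisField 2 2) (by
    rw [← Nat.card_eq_fintype_card, GaloisField.card 2 2 two_ne_zero]; rfl)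
  exact ⟨f.range, ⟨(MonoidHom.ofInjective hf).symm.trans e⟩⟩

theorem exists_alt_four_in_alt_five :
    ∃ T : Subgroup (alternatingGroup (Fin 5)), Nonempty (T ≃* alternatingGroup (Fin 4)) := by
  classical
  let i : alternatingGroup (Fin 4) →* Equiv.Perm (Fin 5) :=
    (Equiv.Perm.viaEmbeddingHom Fin.castSuccEmb).comp (alternatingGroup (Fin 4)).subtype
  let j : alternatingGroup (Fin 4) →* alternatingGroup (Fin 5) := i.codRestrict _ fun σ => by
    rw [Equiv.Perm.mem_alternatingGroup]
    show Equiv.Perm.sign (Equiv.Perm.viaEmbedding σ.1 _) = 1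
    rw [Equiv.Perm.viaEmbedding, Equiv.Perm.sign_extendDomain]
    exact Equiv.Perm.mem_alternatingGroup.mp σ.2
  have hj : Function.Injective j := fun a b hab =>
    Subtype.ext (Equiv.Perm.viaEmbeddingHom_injective _ (congrArg Subtype.val hab))
  exact ⟨j.range, ⟨(MonoidHom.ofInjective hj).symm⟩⟩

/-- no four-group is rotated by an element of order three when `q` is an odd power of two -/
theorem no_alt_four {n : ℕ} [CharP F 2] (hn : Odd n) (hF : Fintype.card F = 2 ^ n) :
    ¬ ∃ H : Subgroup (ProjectiveSpecialLinearGroup (Fin 2) F), Nonempty (H ≃* alternatingGroup (Fin 4)) := by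
  rintro ⟨H, ⟨e⟩⟩
  classical
  have : Fact (Nat.Prime 2) := ⟨Nat.prime_two⟩
  have h2 : (2 : F) = 0 := CharTwo.two_eq_zero
  -- lift the generators to `SL₂`
  have hc1 : ∀ g ∈ Subgroup.center (SpecialLinearGroup (Fin 2) F), g = 1 := fun g hg => by
    have hs : Dickson.IsScal g := by
      obtain ⟨e1, e2, -⟩ := Dickson.commute_iff_entries.mp
        ((Subgroup.mem_center_iff.mp hg (Dickson.upperU 1)) : Commute _ g).symm
      obtain ⟨f1, f2, -⟩ := Dickson.commute_iff_entries.mp
        ((Subgroup.mem_center_iff.mp hg (Dickson.lowerU 1)) : Commute _ g).symm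
      simp [Dickson.coe_upperU, Dickson.coe_lowerU] at e1 e2 f1 f2
      exact ⟨by first | exact f1 | exact f1.symm, e1.symm, sub_eq_zero.mp e2.symm⟩
    rcases eq_one_or_neg_one_of_isScal hs with e | e
    · exact e
    · rw [e]; apply Subtype.ext; ext i j; simp [CharTwo.neg_eq]
  let π := QuotientGroup.mk' (Subgroup.center (SpecialLinearGroup (Fin 2) F))
  have hπ : Function.Bijective π := ⟨fun a b hab => by
    have := hc1 _ (QuotientGroup.eq.mp hab)
    exact (inv_mul_eq_one.mp this), QuotientGroup.mk'_surjective _⟩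
  let E : SpecialLinearGroup (Fin 2) F ≃* ProjectiveSpecialLinearGroup (Fin 2) F := MulEquiv.ofBijective π hπ
  let ψ : alternatingGroup (Fin 4) →* SpecialLinearGroup (Fin 2) F :=
    E.symm.toMonoidHom.comp (H.subtype.comp e.symm.toMonoidHom)
  have hψ : Function.Injective ψ := E.symm.injective.comp (Subtype.val_injective.comp e.symm.injective)
  obtain ⟨u, v, w, huv, huu, hw3, hwu, hwv⟩ : ∃ u v w : alternatingGroup (Fin 4),
      u * v = v * u ∧ u * u = 1 ∧ w * w * w = 1 ∧ w * u = v * w ∧ w * u ≠ u * w := by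
    refine ⟨⟨Equiv.swap 0 1 * Equiv.swap 2 3, Equiv.Perm.mem_alternatingGroup.mpr (by decide)⟩,
      ⟨Equiv.swap 0 3 * Equiv.swap 1 2, Equiv.Perm.mem_alternatingGroup.mpr (by decide)⟩,
      ⟨Equiv.swap 0 1 * Equiv.swap 1 2, Equiv.Perm.mem_alternatingGroup.mpr (by decide)⟩, ?_, ?_, ?_, ?_, ?_⟩ <;> decide +kernel
  set U := ψ u
  set W := ψ w
  have hU1 : ¬ Dickson.IsScal U := fun hs => by
    refine hwv (hψ ?_)
    rw [map_mul, map_mul]
    exact (hs.commute W).symm.eq
  have hVU : Commute (ψ v) U := by show _ * _ = _ * _; rw [← map_mul, ← map_mul, huv]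
  obtain ⟨β, b1, b2, b3⟩ := Dickson.exists_coeff hU1 hVU
  have hWU : W * U = ψ v * W := by rw [← map_mul, ← map_mul, hwu]
  have htr : U.1 0 0 + U.1 1 1 = 0 := by
    have hp : U ^ (2 ^ 1) = 1 := by rw [pow_one, pow_two, ← map_mul, huu, map_one]
    rw [Dickson.trace_of_pow (p := 2) hp, h2]
  have htrV : (ψ v).1 0 0 + (ψ v).1 1 1 = 0 := by
    linear_combination b3 + β * htr - (β * U.1 1 1 - (ψ v).1 1 1) * h2
  -- both involutions are `1` plus multiples of one nilpotent matrix
  have hdU := Dickson.det_eq U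
  have hdV := Dickson.det_eq (ψ v)
  set N : Matrix (Fin 2) (Fin 2) F := U.1 - 1 with hN
  have hV : (ψ v).1 = 1 + β • N := by
    have key : (ψ v).1 0 0 = 1 + β * (U.1 0 0 - 1) := by
      have h1 : ((ψ v).1 0 0 - 1 - β * (U.1 0 0 - 1)) ^ 2 = 0 := by
        rw [b1, b2] at hdV
        linear_combination -hdV + β ^ 2 * hdU + ((ψ v).1 0 0) * htrV - β ^ 2 * (U.1 0 0) * htr
          + ((ψ v).1 0 0 * (-1 - β * (U.1 0 0 - 1)) + β * (U.1 0 0 - 1) + β ^ 2 * (U.1 0 0 ^ 2 - U.1 0 0 + 1)) * h2
      exact sub_eq_zero.mp (by rw [sub_sub] at h1; exact eq_zero_of_pow_eq_zero h1 : (ψ v).1 0 0 - (1 + β * (U.1 0 0 - 1)) = 0)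
    ext i j
    fin_cases i <;> fin_cases j <;> simp [hN]
    · linear_combination key
    · linear_combination b1
    · linear_combination b2
    · linear_combination htrV - key - β * htr + (β - 1) * h2
  have hWN : W.1 * N = β • (N * W.1) := by
    have h1 : W.1 * U.1 = (ψ v).1 * W.1 := congrArg Subtype.val hWU
    rw [hV, add_mul, one_mul, smul_mul] at h1
    rw [hN, mul_sub, mul_one, h1, ← hN]
    abel
  have hW3 : W.1 * W.1 * W.1 = 1 := by
    exact congrArg Subtype.val (show W * W * W = 1 by rw [← map_mul, ← map_mul, hw3, map_one])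
  have hb3 : β ^ 3 • N = N := by
    have e1 : W.1 * W.1 * W.1 * N = β ^ 3 • (N * (W.1 * W.1 * W.1)) := by
      have step : ∀ M, W.1 * (N * M) = β • (N * (W.1 * M)) := fun M => by
        rw [← mul_assoc, hWN, smul_mul_assoc, mul_assoc]
      rw [mul_assoc, mul_assoc, hWN, mul_smul_comm, mul_smul_comm, step, mul_smul_comm, smul_smul, step, smul_smul]
      simp only [mul_assoc]
      congr 1
      ring
    rw [hW3, one_mul, mul_one] at e1
    exact e1.symm
  have hN0 : N ≠ 0 := fun h0 => hU1 (by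
    rw [hN, sub_eq_zero] at h0
    exact ⟨by rw [h0]; rfl, by rw [h0]; rfl, by rw [h0]; rfl⟩)
  have hβ3 : β ^ 3 = 1 := by
    by_contra h
    refine hN0 ?_
    have : (β ^ 3 - 1) • N = 0 := by rw [sub_smul, one_smul, hb3, sub_self]
    exact (smul_eq_zero.mp this).resolve_left (sub_ne_zero.mpr h)
  have hβ : β = 1 := by
    have hβ0 : β ≠ 0 := fun h => by simp [h] at hβ3
    have h1 : orderOf (Units.mk0 β hβ0) ∣ 3 := orderOf_dvd_of_pow_eq_one (Units.ext hβ3)
    have h2' : orderOf (Units.mk0 β hβ0) ∣ 2 ^ n - 1 := by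
      rw [← hF, ← Fintype.card_units]
      exact orderOf_dvd_card
    rcases (Nat.dvd_prime Nat.prime_three).mp h1 with h | h
    · simpa using congrArg Units.val (orderOf_eq_one_iff.mp h)
    · exfalso
      rw [h] at h2'
      obtain ⟨k, rfl⟩ := hn
      have : 2 ^ (2 * k + 1) % 3 = 2 := by
        rw [pow_succ, pow_mul, Nat.mul_mod, Nat.pow_mod]
        simp
      generalize 2 ^ (2 * k + 1) = m at this h2'
      omega
  refine hwv (hψ ?_)
  rw [map_mul, map_mul]
  apply Subtype.ext
  show W.1 * U.1 = U.1 * W.1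
  rw [hβ, one_smul, hN, mul_sub, sub_mul, mul_one, one_mul, sub_left_inj] at hWN
  exact hWN

theorem no_element_order_four [CharP F 2] (x : ProjectiveSpecialLinearGroup (Fin 2) F) : orderOf x ≠ 4 := by
  intro hx
  have : Fact (Nat.Prime 2) := ⟨Nat.prime_two⟩
  obtain ⟨g, rfl⟩ := QuotientGroup.mk_surjective x
  have h4 : g ^ 4 ∈ Subgroup.center (SpecialLinearGroup (Fin 2) F) := by
    rw [← QuotientGroup.eq_one_iff, QuotientGroup.mk_pow, ← hx, pow_orderOf_eq_one]
  have hg : g ^ (2 ^ 3) = 1 := by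
    have hs : Dickson.IsScal (g ^ 4) := by
      obtain ⟨e1, e2, -⟩ := Dickson.commute_iff_entries.mp
        ((Subgroup.mem_center_iff.mp h4 (Dickson.upperU 1)) : Commute _ (g ^ 4)).symm
      obtain ⟨f1, f2, -⟩ := Dickson.commute_iff_entries.mp
        ((Subgroup.mem_center_iff.mp h4 (Dickson.lowerU 1)) : Commute _ (g ^ 4)).symm
      simp [Dickson.coe_upperU, Dickson.coe_lowerU] at e1 e2 f1 f2
      exact ⟨by first | exact f1 | exact f1.symm, e1.symm, sub_eq_zero.mp e2.symm⟩
    rcases eq_one_or_neg_one_of_isScal hs with e | e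
    · rw [show (2 : ℕ) ^ 3 = 4 * 2 from rfl, pow_mul, e, one_pow]
    · rw [show (2 : ℕ) ^ 3 = 4 * 2 from rfl, pow_mul, e]
      exact Subtype.ext (by simp [pow_two])
  have h2 := Dickson.pow_prime_of_pow (p := 2) hg
  have := orderOf_dvd_of_pow_eq_one (show ((g : ProjectiveSpecialLinearGroup (Fin 2) F)) ^ 2 = 1 by
    rw [← QuotientGroup.mk_pow, h2, QuotientGroup.mk_one])
  rw [hx] at this
  norm_num at this

/-- an element of order four in `PSL₂` gives a square root of two -/
theorem exists_sqrt_two (hodd : Odd (Fintype.card F)) (x : ProjectiveSpecialLinearGroup (Fin 2) F)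
    (hx : orderOf x = 4) : ∃ t : F, t * t = 2 := by
  obtain ⟨g, rfl⟩ := QuotientGroup.mk_surjective x
  obtain ⟨t, ht⟩ : ∃ t, t = g.1 0 0 + g.1 1 1 := ⟨_, rfl⟩
  have h4 : g ^ 4 ∈ Subgroup.center (SpecialLinearGroup (Fin 2) F) := by
    rw [← QuotientGroup.eq_one_iff, QuotientGroup.mk_pow, ← hx, pow_orderOf_eq_one]
  have h2 : g ^ 2 ∉ Subgroup.center (SpecialLinearGroup (Fin 2) F) := fun h => by
    have := orderOf_dvd_of_pow_eq_one (show ((g : ProjectiveSpecialLinearGroup (Fin 2) F)) ^ 2 = 1 by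
      rw [← QuotientGroup.mk_pow]; exact (QuotientGroup.eq_one_iff _).mpr h)
    rw [hx] at this
    norm_num at this
  have hne1 : g ^ 4 ≠ 1 := fun he => by
    by_cases hg2 : g ^ 2 = 1
    · exact h2 (hg2 ▸ one_mem _)
    · refine h2 ?_
      have := Cfsg.Agent.S0268.result hodd (g ^ 2) hg2 (by rw [← pow_add]; exact he)
      rw [Subgroup.mem_center_iff]
      intro k
      apply Subtype.ext
      show k.1 * (g ^ 2).1 = (g ^ 2).1 * k.1
      rw [this, mul_neg, neg_mul, mul_one, one_mul]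
  have hneg : g ^ 4 = -1 := by
    have hs : Dickson.IsScal (g ^ 4) := by
      obtain ⟨e1, e2, -⟩ := Dickson.commute_iff_entries.mp
        ((Subgroup.mem_center_iff.mp h4 (Dickson.upperU 1)) : Commute _ (g ^ 4)).symm
      obtain ⟨f1, f2, -⟩ := Dickson.commute_iff_entries.mp
        ((Subgroup.mem_center_iff.mp h4 (Dickson.lowerU 1)) : Commute _ (g ^ 4)).symm
      simp [Dickson.coe_upperU, Dickson.coe_lowerU] at e1 e2 f1 f2
      exact ⟨by first | exact f1 | exact f1.symm, e1.symm, sub_eq_zero.mp e2.symm⟩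
    exact (eq_one_or_neg_one_of_isScal hs).resolve_left hne1
  have hsq : g.1 * g.1 = t • g.1 - 1 := by
    have hd := Dickson.det_eq g
    ext i j
    fin_cases i <;> fin_cases j <;> simp [ht, Matrix.mul_apply, Fin.sum_univ_two]
    · linear_combination -hd
    · ring
    · ring
    · linear_combination -hd
  have h1 : g.1 ^ 4 = -1 := (Matrix.SpecialLinearGroup.coe_pow g 4).symm.trans (congrArg Subtype.val hneg)
  have e4 : g.1 ^ 4 = (t ^ 3 - 2 * t) • g.1 - (t ^ 2 - 1) • (1 : Matrix (Fin 2) (Fin 2) F) := by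
    rw [pow_succ, pow_succ, pow_two, hsq]
    simp only [sub_mul, smul_mul_assoc, one_mul, hsq, smul_sub, smul_smul, sub_smul, add_smul, one_smul]
    module
  rw [e4] at h1
  refine ⟨t, ?_⟩
  by_contra hne
  have hc : t ^ 3 - 2 * t = 0 := by
    by_contra hz
    have e01 := congrFun (congrFun h1 0) 1
    have e10 := congrFun (congrFun h1 1) 0
    have e00 := congrFun (congrFun h1 0) 0
    have e11 := congrFun (congrFun h1 1) 1
    simp at e01 e10 e00 e11
    refine h2 (Subgroup.mem_center_iff.mpr fun k => ?_)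
    have hsc : Dickson.IsScal g :=
      ⟨e01.resolve_left hz, e10.resolve_left hz, mul_left_cancel₀ hz (by linear_combination e00 - e11)⟩
    exact (((hsc.commute k).pow_left 2).symm).eq
  have ht0 : t = 0 := (mul_eq_zero.mp (show t * (t * t - 2) = 0 by linear_combination hc)).resolve_right
    (sub_ne_zero.mpr hne)
  refine h2 ?_
  rw [Subgroup.mem_center_iff]
  intro k
  apply Subtype.ext
  show k.1 * (g ^ 2).1 = (g ^ 2).1 * k.1
  have e : (g ^ 2).1 = -1 := by
    refine (Matrix.SpecialLinearGroup.coe_pow g 2).trans ?_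
    rw [pow_two, hsq, ht0, zero_smul, zero_sub]
  rw [e, mul_neg, neg_mul, mul_one, one_mul]

lemma exists_two_pow_of_even (h : ¬ Odd (Fintype.card F)) :
    ∃ n : ℕ, Fintype.card F = 2 ^ n ∧ CharP F 2 := by
  obtain ⟨p, hchar⟩ := CharP.exists F
  obtain ⟨n, hp, hn⟩ := FiniteField.card F p
  rcases hp.eq_two_or_odd' with rfl | hodd
  · exact ⟨n, hn, hchar⟩
  · exact absurd (hn ▸ hodd.pow) h

lemma card_psl_dvd :
    Nat.card (ProjectiveSpecialLinearGroup (Fin 2) F) ∣
      Fintype.card F * (Fintype.card F - 1) * (Fintype.card F + 1) := by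
  rw [← Two.card_sl_two]
  exact Subgroup.card_quotient_dvd_card _

end CfsgLib.Classical
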