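import Cfsg.Agent.Lib.DicksonBasic
import Cfsg.Agent.S0016
import Mathlib.FieldTheory.IsAlgClosed.AlgebraicClosure

/-! Abelian semisimple subgroups of `SL₂`. -/

set_option autoImplicit false

universe u

namespace CfsgLib.Classical

open Matrix CfsgLib.Dickson

variable {F : Type u} [Field F] {p : ℕ} [hp : Fact p.Prime] [CharP F p]

lemma eq_one_or_neg_one_of_isScal {g : SL F} (h : IsScal g) : g = 1 ∨ g = -1 := by
  obtain ⟨h1, h2, h3⟩ := h
  have hd := det_eq g
  rw [h1, h2, ← h3, mul_zero, sub_zero] at hd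
  rcases mul_self_eq_one_iff.mp hd with ha | ha
  · left; exact sl_ext (by simpa using ha) (by simpa using h1) (by simpa using h2) (by simpa [← h3] using ha)
  · right; exact sl_ext (by simpa using ha) (by simpa using h1) (by simpa using h2) (by simpa [← h3] using ha)

omit hp [CharP F p] in
/-- an eigenvector over the algebraic closure -/
lemma exists_eigenvector (h : SL F) :
    ∃ (μ : AlgebraicClosure F) (v : Fin 2 → AlgebraicClosure F), v ≠ 0 ∧
      h.1.map (algebraMap F (AlgebraicClosure F)) *ᵥ v = μ • v := by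
  obtain ⟨μ, hμ⟩ := Module.End.exists_eigenvalue
    (Matrix.toLin' (h.1.map (algebraMap F (AlgebraicClosure F))))
  obtain ⟨v, hv⟩ := hμ.exists_hasEigenvector
  exact ⟨μ, v, hv.2, by simpa [Matrix.toLin'_apply] using hv.apply_eq_smul⟩

/-- An abelian subgroup of `SL₂` of order prime to the characteristic is cyclic. -/
theorem isCyclic_of_comm_coprime (A : Subgroup (SL F)) [Finite A]
    (hA : ∀ x ∈ A, ∀ y ∈ A, x * y = y * x) (hco : ¬ p ∣ Nat.card A) : IsCyclic A := by
  by_cases hsc : ∀ g ∈ A, IsScal g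
  · by_cases htriv : ∀ g ∈ A, g = 1
    · have : Subsingleton A := ⟨fun a b => Subtype.ext ((htriv a a.2).trans (htriv b b.2).symm)⟩
      exact isCyclic_of_subsingleton
    push Not at htriv
    obtain ⟨g, hg, hg1⟩ := htriv
    have hgm : g = -1 := (eq_one_or_neg_one_of_isScal (hsc g hg)).resolve_left hg1
    refine ⟨⟨⟨g, hg⟩, fun x => ?_⟩⟩
    rcases eq_one_or_neg_one_of_isScal (hsc x x.2) with h | h
    · exact ⟨0, Subtype.ext (by simp [h])⟩
    · exact ⟨1, Subtype.ext (by simp [h, hgm])⟩
  push Not at hsc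
  obtain ⟨h, hh, hns⟩ := hsc
  obtain ⟨μ, v, hv0, hv⟩ := exists_eigenvector h
  have hex : ∀ g : A, ∃ χ : AlgebraicClosure F,
      g.1.1.map (algebraMap F (AlgebraicClosure F)) *ᵥ v = χ • v := fun g => by
    obtain ⟨β, b1, b2, b3⟩ := exists_coeff hns (hA g g.2 h hh : Commute (g : SL F) h)
    refine ⟨algebraMap F _ (g.1.1 0 0 - β * h.1 0 0) + algebraMap F _ β * μ, ?_⟩
    have e : g.1.1 = (g.1.1 0 0 - β * h.1 0 0) • (1 : Matrix (Fin 2) (Fin 2) F) + β • h.1 := by
      ext i j
      fin_cases i <;> fin_cases j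
      · simp
      · simpa using b1
      · simpa using b2
      · simp; linear_combination -b3
    have hmap : g.1.1.map (algebraMap F (AlgebraicClosure F)) =
        algebraMap F (AlgebraicClosure F) (g.1.1 0 0 - β * h.1 0 0) • (1 : Matrix (Fin 2) (Fin 2) (AlgebraicClosure F)) +
          algebraMap F (AlgebraicClosure F) β • h.1.map (algebraMap F (AlgebraicClosure F)) := by
      conv_lhs => rw [e]
      ext i j
      fin_cases i <;> fin_cases j <;> simp [-algebraMap_smul, Matrix.one_apply]
    rw [hmap, add_mulVec, smul_mulVec, smul_mulVec, one_mulVec, hv, smul_smul, add_smul]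
  choose χ hχ using hex
  let f : A →* AlgebraicClosure F :=
    { toFun := χ
      map_one' := smul_left_injective _ hv0 (by
        show χ 1 • v = (1 : AlgebraicClosure F) • v
        rw [← hχ]; simp)
      map_mul' := fun a b => smul_left_injective _ hv0 (by
        show χ (a * b) • v = (χ a * χ b) • v
        rw [← hχ, show ((a * b : A) : SL F).1 = a.1.1 * b.1.1 from rfl, Matrix.map_mul, ← mulVec_mulVec, hχ, mulVec_smul, hχ, smul_smul,
          mul_comm (χ b)]) }
  refine isCyclic_of_subgroup_isDomain f ((injective_iff_map_eq_one f).mpr fun g hg => ?_)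
  have hfix : g.1.1.map (algebraMap F (AlgebraicClosure F)) *ᵥ v = v := by
    rw [hχ g, show χ g = 1 from hg, one_smul]
  have hdet : ((g.1.1 - 1).map (algebraMap F (AlgebraicClosure F))).det = 0 := by
    refine Matrix.exists_mulVec_eq_zero_iff.mp ⟨v, hv0, ?_⟩
    rw [Matrix.map_sub _ (map_sub _), Matrix.map_one _ (map_zero _) (map_one _), sub_mulVec, hfix, one_mulVec, sub_self]
  rw [← RingHom.mapMatrix_apply, ← RingHom.map_det, map_eq_zero, det_fin_two] at hdet
  have htr : g.1.1 0 0 + g.1.1 1 1 = 2 := by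
    have hd := det_eq g.1
    simp at hdet
    linear_combination hd - hdet
  have hgp : g ^ p = 1 := Subtype.ext (by rw [SubgroupClass.coe_pow]; exact pow_eq_one_of_trace htr)
  have h1 : orderOf g = 1 := by
    rcases (Nat.dvd_prime hp.out).mp (orderOf_dvd_of_pow_eq_one hgp) with h | h
    · exact h
    · exact absurd (h ▸ orderOf_dvd_natCard g) hco
  exact orderOf_eq_one_iff.mp h1

/-- An `r`-subgroup of `SL₂`, `r ≠ p`, has a single subgroup of order `r`. -/
theorem cyclic_or_quaternion (r : ℕ) [Fact r.Prime] (hrp : r ≠ p) (R : Subgroup (SL F)) [Finite R]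
    (hR : IsPGroup r R) :
    IsCyclic R ∨ (r = 2 ∧ ∃ n : ℕ, Nonempty (R ≃* QuaternionGroup (2 ^ n))) := by
  refine Cfsg.Agent.S0016.result r hR fun X Y hX hY => ?_
  have : Nontrivial R := by
    by_contra h
    rw [not_nontrivial_iff_subsingleton] at h
    rw [Nat.card_eq_one_iff_unique.mpr ⟨inferInstance, ⟨1⟩⟩] at hX
    exact (Fact.out : r.Prime).one_lt.ne hX
  have := hR.center_nontrivial
  obtain ⟨n, hn⟩ := (hR.to_subgroup (Subgroup.center R)).exists_card_eq
  have hn0 : n ≠ 0 := fun h => by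
    rw [h, pow_zero] at hn
    exact not_subsingleton (Subgroup.center R) (Nat.card_eq_one_iff_unique.mp hn).1
  obtain ⟨⟨z, hzc⟩, hz⟩ := exists_prime_orderOf_dvd_card' (G := Subgroup.center R) r (hn ▸ dvd_pow_self r hn0)
  replace hz : orderOf z = r := (Subgroup.orderOf_coe ⟨z, hzc⟩).trans hz
  suffices key : ∀ S : Subgroup R, Nat.card S = r → S = Subgroup.zpowers z by rw [key X hX, key Y hY]
  intro S hS
  obtain ⟨⟨s, hsS⟩, hs⟩ := exists_prime_orderOf_dvd_card' (G := S) r (hS ▸ dvd_rfl)
  replace hs : orderOf s = r := (Subgroup.orderOf_coe ⟨s, hsS⟩).trans hs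
  have hcomm : ∀ u ∈ ({z, s} : Set R), ∀ w ∈ ({z, s} : Set R), u * w = w * u := by
    have h1 := fun u => (Subgroup.mem_center_iff.mp hzc u).symm
    intro u hu w hw
    rcases hu with rfl | rfl <;> rcases hw with rfl | rfl
    · rfl
    · exact h1 w
    · exact (h1 u).symm
    · rfl
  obtain ⟨B, hB⟩ : ∃ B : Subgroup R, B = Subgroup.closure {z, s} := ⟨_, rfl⟩
  have hBc : ∀ x ∈ B, ∀ y ∈ B, x * y = y * x := by
    haveI := Subgroup.isMulCommutative_closure hcomm
    subst hB
    exact fun x hx y hy => congrArg Subtype.val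
      (mul_comm' (⟨x, hx⟩ : Subgroup.closure ({z, s} : Set R)) ⟨y, hy⟩)
  have : IsCyclic (B.map R.subtype) := by
    haveI : Finite (B.map R.subtype) := Finite.of_injective
      (Subgroup.inclusion (Subgroup.map_subtype_le B)) (Subgroup.inclusion_injective _)
    refine isCyclic_of_comm_coprime (p := p) _ ?_ ?_
    · rintro _ ⟨x, hx, rfl⟩ _ ⟨y, hy, rfl⟩
      rw [← map_mul, ← map_mul, hBc x hx y hy]
    · rw [← Nat.card_congr (B.equivMapOfInjective _ R.subtype_injective).toEquiv]
      obtain ⟨m, hm⟩ := (hR.to_subgroup B).exists_card_eq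
      rw [hm]
      exact fun h => hrp ((Nat.prime_dvd_prime_iff_eq hp.out Fact.out).mp (hp.out.dvd_of_dvd_pow h)).symm
  have hcyc : IsCyclic B := (B.equivMapOfInjective _ R.subtype_injective).isCyclic.mpr this
  have hzB : z ∈ B := hB ▸ Subgroup.subset_closure (Or.inl rfl)
  have hsB : S ≤ B := by
    rw [← Subgroup.eq_of_le_of_card_ge (Subgroup.zpowers_le.mpr hsS) (by rw [Nat.card_zpowers, hs, hS]),
      Subgroup.zpowers_le, hB]
    exact Subgroup.subset_closure (Or.inr rfl)
  classical
  have := Fintype.ofFinite B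
  have hr0 : 0 < r := (Fact.out : r.Prime).pos
  have hsub : ∀ T : Subgroup R, Nat.card T = r → (T.subgroupOf B : Set B) ⊆ {x : B | x ^ r = 1} := fun T hT x hx => by
    apply Subtype.ext
    have := pow_card_eq_one' (x := (⟨(x : R), hx⟩ : T))
    rw [hT] at this
    rw [SubgroupClass.coe_pow, OneMemClass.coe_one]
    simpa using congrArg Subtype.val this
  have hle : {x : B | x ^ r = 1}.ncard ≤ r := by
    rw [Set.ncard_eq_toFinset_card', Set.toFinset_ofPred]
    exact IsCyclic.card_pow_eq_one_le hr0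
  have hfill : ∀ T : Subgroup R, T ≤ B → Nat.card T = r → (T.subgroupOf B : Set B) = {x : B | x ^ r = 1} :=
    fun T hTB hT => Set.eq_of_subset_of_ncard_le (hsub T hT) (hle.trans (le_of_eq (by
      rw [← Nat.card_coe_set_eq, SetLike.coe_sort_coe, Nat.card_congr (Subgroup.subgroupOfEquivOfLe hTB).toEquiv, hT])))
      (Set.toFinite _)
  have hzr : Nat.card (Subgroup.zpowers z) = r := by rw [Nat.card_zpowers, hz]
  have hzB' : Subgroup.zpowers z ≤ B := Subgroup.zpowers_le.mpr hzB
  have heq : S.subgroupOf B = (Subgroup.zpowers z).subgroupOf B :=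
    SetLike.coe_injective ((hfill S hsB hS).trans (hfill _ hzB' hzr).symm)
  have := congrArg (fun T : Subgroup B => T.map B.subtype) heq
  simpa [Subgroup.map_subgroupOf_eq_of_le hsB, Subgroup.map_subgroupOf_eq_of_le hzB'] using this

end CfsgLib.Classical
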