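import Cfsg.Agent.Lib.ClassicalTetra
import Cfsg.Agent.Lib.ClassicalSLTwoTorus

/-! Polyhedral subgroups of `PSL₂` in odd characteristic, from tables of doubled quaternions. -/

set_option autoImplicit false

set_option synthInstance.maxSize 4000

namespace CfsgLib.Classical.Quat

open Matrix

/-- `a + b t` where `t * t = e + f t` -/
abbrev Z2 := ℤ × ℤ

/-- doubled quaternion -/
abbrev Q := Z2 × Z2 × Z2 × Z2

def mz (e f : ℤ) (a b : Z2) : Z2 := (a.1 * b.1 + e * (a.2 * b.2), a.1 * b.2 + a.2 * b.1 + f * (a.2 * b.2))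

def az (a b : Z2) : Z2 := (a.1 + b.1, a.2 + b.2)

def nz (a : Z2) : Z2 := (-a.1, -a.2)

def mq (e f : ℤ) : Q → Q → Q
  | (a, b, c, d), (A, B, C, D) =>
    (az (az (mz e f a A) (nz (mz e f b B))) (az (nz (mz e f c C)) (nz (mz e f d D))),
     az (az (mz e f a B) (mz e f b A)) (az (mz e f c D) (nz (mz e f d C))),
     az (az (mz e f a C) (nz (mz e f b D))) (az (mz e f c A) (mz e f d B)),
     az (az (mz e f a D) (mz e f b C)) (az (nz (mz e f c B)) (mz e f d A)))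

def nrm (e f : ℤ) : Q → Z2
  | (a, b, c, d) => az (az (mz e f a a) (mz e f b b)) (az (mz e f c c) (mz e f d d))

def dbl : Q → Q
  | (a, b, c, d) => (az a a, az b b, az c c, az d d)

def neg : Q → Q
  | (a, b, c, d) => (nz a, nz b, nz c, nz d)

/-- `Z` represents the product of `X` and `Y` up to sign -/
abbrev Prd (e f : ℤ) (X Y Z : Q) : Prop := mq e f X Y = dbl Z ∨ mq e f X Y = neg (dbl Z)

/-- the table is closed under right multiplication by the generators -/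
abbrev Closed (e f : ℤ) (L gens : List Q) : Prop :=
  (∀ X ∈ L, nrm e f X = (4, 0)) ∧ (∀ g ∈ gens, nrm e f g = (4, 0)) ∧
    ∀ X ∈ L, ∀ g ∈ gens, ∃ Z ∈ L, Prd e f X g Z

def oneQ : Q := ((2, 0), (0, 0), (0, 0), (0, 0))
def iQ : Q := ((0, 0), (2, 0), (0, 0), (0, 0))
def jQ : Q := ((0, 0), (0, 0), (2, 0), (0, 0))
def kQ : Q := ((0, 0), (0, 0), (0, 0), (2, 0))
def wQ : Q := ((-1, 0), (1, 0), (1, 0), (1, 0))
def w2Q : Q := ((-1, 0), (-1, 0), (-1, 0), (-1, 0))
def sQ : Q := ((0, 0), (0, 1), (0, -1), (0, 0))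
def pQ : Q := ((0, 1), (-1, 1), (1, 0), (0, 0))

def tabA4 : List Q :=
  [((2, 0), (0, 0), (0, 0), (0, 0)),
   ((0, 0), (2, 0), (0, 0), (0, 0)),
   ((1, 0), (-1, 0), (-1, 0), (-1, 0)),
   ((1, 0), (1, 0), (1, 0), (-1, 0)),
   ((1, 0), (1, 0), (-1, 0), (1, 0)),
   ((1, 0), (1, 0), (1, 0), (1, 0)),
   ((1, 0), (-1, 0), (1, 0), (1, 0)),
   ((1, 0), (-1, 0), (1, 0), (-1, 0)),
   ((1, 0), (1, 0), (-1, 0), (-1, 0)),
   ((1, 0), (-1, 0), (-1, 0), (1, 0)),
   ((0, 0), (0, 0), (0, 0), (2, 0)),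
   ((0, 0), (0, 0), (2, 0), (0, 0))]

def tabS4 : List Q :=
  [((2, 0), (0, 0), (0, 0), (0, 0)),
   ((0, 0), (2, 0), (0, 0), (0, 0)),
   ((1, 0), (-1, 0), (-1, 0), (-1, 0)),
   ((0, 0), (0, 1), (0, -1), (0, 0)),
   ((1, 0), (1, 0), (1, 0), (-1, 0)),
   ((0, 1), (0, 0), (0, 0), (0, 1)),
   ((1, 0), (1, 0), (-1, 0), (1, 0)),
   ((1, 0), (1, 0), (1, 0), (1, 0)),
   ((0, 0), (0, 0), (0, 1), (0, -1)),
   ((0, 1), (0, 0), (0, 0), (0, -1)),
   ((0, 0), (0, 1), (0, 0), (0, -1)),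
   ((1, 0), (-1, 0), (1, 0), (1, 0)),
   ((1, 0), (-1, 0), (1, 0), (-1, 0)),
   ((0, 0), (0, 0), (0, 1), (0, 1)),
   ((0, 0), (0, 1), (0, 1), (0, 0)),
   ((0, 1), (0, 0), (0, -1), (0, 0)),
   ((1, 0), (1, 0), (-1, 0), (-1, 0)),
   ((0, 1), (0, -1), (0, 0), (0, 0)),
   ((1, 0), (-1, 0), (-1, 0), (1, 0)),
   ((0, 0), (0, 1), (0, 0), (0, 1)),
   ((0, 0), (0, 0), (2, 0), (0, 0)),
   ((0, 1), (0, 0), (0, 1), (0, 0)),
   ((0, 1), (0, 1), (0, 0), (0, 0)),
   ((0, 0), (0, 0), (0, 0), (2, 0))]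

def tabA5 : List Q :=
  [((2, 0), (0, 0), (0, 0), (0, 0)),
   ((0, 0), (2, 0), (0, 0), (0, 0)),
   ((1, 0), (-1, 0), (-1, 0), (-1, 0)),
   ((0, 1), (-1, 1), (1, 0), (0, 0)),
   ((1, 0), (1, 0), (1, 0), (-1, 0)),
   ((1, -1), (0, 1), (0, 0), (1, 0)),
   ((1, 0), (1, 0), (-1, 0), (1, 0)),
   ((1, 0), (1, 0), (1, 0), (1, 0)),
   ((0, 1), (0, 0), (1, -1), (-1, 0)),
   ((1, -1), (0, 1), (0, 0), (-1, 0)),
   ((0, 1), (-1, 0), (0, 0), (1, -1)),
   ((1, -1), (-1, 0), (0, -1), (0, 0)),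
   ((1, 0), (-1, 0), (1, 0), (1, 0)),
   ((1, 0), (-1, 0), (1, 0), (-1, 0)),
   ((0, 0), (0, 1), (1, 0), (1, -1)),
   ((0, 1), (-1, 1), (-1, 0), (0, 0)),
   ((1, 0), (0, 1), (-1, 1), (0, 0)),
   ((1, 0), (1, -1), (0, 0), (0, -1)),
   ((1, 0), (1, 0), (-1, 0), (-1, 0)),
   ((1, 0), (-1, 1), (0, 0), (0, 1)),
   ((1, 0), (-1, 0), (-1, 0), (1, 0)),
   ((0, 0), (1, -1), (0, -1), (-1, 0)),
   ((0, 0), (0, 1), (-1, 0), (-1, 1)),
   ((0, 0), (1, 0), (-1, 1), (0, 1)),
   ((0, 1), (1, 0), (0, 0), (1, -1)),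
   ((0, 0), (1, -1), (0, -1), (1, 0)),
   ((1, 0), (0, -1), (-1, 1), (0, 0)),
   ((1, 0), (0, 1), (1, -1), (0, 0)),
   ((0, 0), (0, 1), (1, 0), (-1, 1)),
   ((0, 1), (0, 0), (-1, 1), (-1, 0)),
   ((1, 0), (1, -1), (0, 0), (0, 1)),
   ((0, 1), (1, -1), (1, 0), (0, 0)),
   ((1, -1), (1, 0), (0, 1), (0, 0)),
   ((1, -1), (1, 0), (0, -1), (0, 0)),
   ((1, -1), (0, 0), (-1, 0), (0, 1)),
   ((0, 1), (0, 0), (-1, 1), (1, 0)),
   ((1, 0), (0, 0), (0, 1), (1, -1)),
   ((1, 0), (0, -1), (1, -1), (0, 0)),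
   ((1, -1), (0, 0), (1, 0), (0, 1)),
   ((0, 1), (1, 0), (0, 0), (-1, 1)),
   ((0, 1), (-1, 0), (0, 0), (-1, 1)),
   ((1, -1), (-1, 0), (0, 1), (0, 0)),
   ((1, -1), (0, -1), (0, 0), (-1, 0)),
   ((1, 0), (-1, 1), (0, 0), (0, -1)),
   ((0, 0), (0, 0), (0, 0), (2, 0)),
   ((1, -1), (0, 0), (-1, 0), (0, -1)),
   ((0, 0), (0, 0), (2, 0), (0, 0)),
   ((1, -1), (0, 0), (1, 0), (0, -1)),
   ((1, 0), (0, 0), (0, -1), (1, -1)),
   ((1, -1), (0, -1), (0, 0), (1, 0)),
   ((0, 0), (1, 0), (1, -1), (0, 1)),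
   ((1, 0), (0, 0), (0, -1), (-1, 1)),
   ((0, 1), (0, 0), (1, -1), (1, 0)),
   ((0, 0), (0, 1), (-1, 0), (1, -1)),
   ((1, 0), (0, 0), (0, 1), (-1, 1)),
   ((0, 1), (1, -1), (-1, 0), (0, 0)),
   ((0, 0), (1, -1), (0, 1), (-1, 0)),
   ((0, 0), (1, -1), (0, 1), (1, 0)),
   ((0, 0), (1, 0), (-1, 1), (0, -1)),
   ((0, 0), (1, 0), (1, -1), (0, -1))]


variable {F : Type*} [Field F]

/-- the parameters realising quaternions over `F` -/
structure Par (F : Type*) [Field F] (e f : ℤ) where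
  a : F
  b : F
  t : F
  two : (2 : F) ≠ 0
  hab : a * a + b * b = -1
  ht : t * t = (e : F) + (f : F) * t

variable {e f : ℤ}

def Par.ev (P : Par F e f) (x : Z2) : F := x.1 + x.2 * P.t

lemma Par.ev_az (P : Par F e f) (x y : Z2) : P.ev (az x y) = P.ev x + P.ev y := by
  simp only [Par.ev, az]; push_cast; ring

lemma Par.ev_nz (P : Par F e f) (x : Z2) : P.ev (nz x) = - P.ev x := by
  simp only [Par.ev, nz]; push_cast; ring

lemma Par.ev_mz (P : Par F e f) (x y : Z2) : P.ev (mz e f x y) = P.ev x * P.ev y := by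
  simp only [Par.ev, mz]; push_cast; linear_combination (-(x.2 : F) * (y.2 : F)) * P.ht

def Par.qm (P : Par F e f) (x0 x1 x2 x3 : F) : Matrix (Fin 2) (Fin 2) F :=
  !![x0 + P.a * x2 + P.b * x3, x1 + P.b * x2 - P.a * x3; -x1 + P.b * x2 - P.a * x3, x0 - P.a * x2 - P.b * x3]

lemma Par.qm_mul (P : Par F e f) (x0 x1 x2 x3 y0 y1 y2 y3 : F) :
    P.qm x0 x1 x2 x3 * P.qm y0 y1 y2 y3 =
      P.qm (x0 * y0 + -(x1 * y1) + (-(x2 * y2) + -(x3 * y3))) (x0 * y1 + x1 * y0 + (x2 * y3 + -(x3 * y2)))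
        (x0 * y2 + -(x1 * y3) + (x2 * y0 + x3 * y1)) (x0 * y3 + x1 * y2 + (-(x2 * y1) + x3 * y0)) := by
  ext i j
  fin_cases i <;> fin_cases j <;> simp [Par.qm, Matrix.mul_apply, Fin.sum_univ_two]
  · linear_combination (x2 * y2 + x3 * y3) * P.hab
  · linear_combination (x3 * y2 - x2 * y3) * P.hab
  · linear_combination (x2 * y3 - x3 * y2) * P.hab
  · linear_combination (x2 * y2 + x3 * y3) * P.hab

def Par.mat (P : Par F e f) : Q → Matrix (Fin 2) (Fin 2) F
  | (x, y, z, u) => (2 : F)⁻¹ • P.qm (P.ev x) (P.ev y) (P.ev z) (P.ev u)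

lemma Par.mat_mul (P : Par F e f) (X Y : Q) : P.mat X * P.mat Y = (2 : F)⁻¹ • P.mat (mq e f X Y) := by
  obtain ⟨a, b, c, d⟩ := X
  obtain ⟨A, B, C, D⟩ := Y
  simp only [Par.mat, mq, Par.ev_az, Par.ev_nz, Par.ev_mz, Matrix.smul_mul, Matrix.mul_smul, Par.qm_mul]

lemma Par.mat_dbl (P : Par F e f) (Z : Q) : (2 : F)⁻¹ • P.mat (dbl Z) = P.mat Z := by
  obtain ⟨a, b, c, d⟩ := Z
  have h := P.two
  ext i j
  fin_cases i <;> fin_cases j <;> simp only [Par.mat, dbl, Par.ev_az, Par.qm, Matrix.smul_apply, smul_eq_mul, Matrix.of_apply, Matrix.cons_val', Matrix.cons_val_zero, Matrix.cons_val_one, Matrix.cons_val_fin_one, Fin.zero_eta, Fin.mk_one, Fin.isValue] <;> field_simp <;> ring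

lemma Par.mat_neg (P : Par F e f) (Z : Q) : P.mat (neg Z) = - P.mat Z := by
  obtain ⟨a, b, c, d⟩ := Z
  ext i j
  fin_cases i <;> fin_cases j <;> simp [Par.mat, neg, Par.ev_nz, Par.qm] <;> ring

lemma Par.det_mat (P : Par F e f) {X : Q} (h : nrm e f X = (4, 0)) : (P.mat X).det = 1 := by
  obtain ⟨a, b, c, d⟩ := X
  have h' := congrArg P.ev h
  simp only [nrm, Par.ev_az, Par.ev_mz] at h'
  have h4 : P.ev ((4, 0) : Z2) = 4 := by simp [Par.ev]
  rw [h4] at h'
  have h2 := P.two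
  simp only [Par.mat, Matrix.det_smul, Fintype.card_fin, Par.qm, Matrix.det_fin_two_of]
  field_simp
  linear_combination h' - (P.ev c * P.ev c + P.ev d * P.ev d) * P.hab

lemma Par.mat_one (P : Par F e f) : P.mat oneQ = 1 := by
  have h := P.two
  ext i j
  fin_cases i <;> fin_cases j <;> simp [Par.mat, oneQ, Par.ev, Par.qm, h]

/-- a matrix of determinant one as an element of `SL₂` -/
def sl (A : Matrix (Fin 2) (Fin 2) F) (h : A.det = 1) : SpecialLinearGroup (Fin 2) F := ⟨A, h⟩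

/-- the element of `PSL₂` given by a table entry -/
noncomputable def Par.el (P : Par F e f) (X : Q) : ProjectiveSpecialLinearGroup (Fin 2) F :=
  haveI := Classical.decEq F
  if h : (P.mat X).det = 1 then QuotientGroup.mk (sl (P.mat X) h) else 1

lemma Par.el_eq_mk (P : Par F e f) {X : Q} (h : nrm e f X = (4, 0)) :
    P.el X = QuotientGroup.mk (sl (P.mat X) (P.det_mat h)) := dif_pos _

lemma neg_one_mem_center : (-1 : SpecialLinearGroup (Fin 2) F) ∈ Subgroup.center _ :=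
  Subgroup.mem_center_iff.mpr fun g => by simp

lemma Par.el_mul (P : Par F e f) {X Y Z : Q} (hX : nrm e f X = (4, 0)) (hY : nrm e f Y = (4, 0))
    (hZ : nrm e f Z = (4, 0)) (h : Prd e f X Y Z) : P.el X * P.el Y = P.el Z := by
  rw [P.el_eq_mk hX, P.el_eq_mk hY, P.el_eq_mk hZ, ← QuotientGroup.mk_mul]
  rcases h with h | h
  · congr 1
    apply Subtype.ext
    show P.mat X * P.mat Y = P.mat Z
    rw [P.mat_mul, h, P.mat_dbl]
  · refine QuotientGroup.eq.mpr ?_
    have he : sl (P.mat X) (P.det_mat hX) * sl (P.mat Y) (P.det_mat hY) = -sl (P.mat Z) (P.det_mat hZ) := by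
      apply Subtype.ext
      show P.mat X * P.mat Y = -P.mat Z
      rw [P.mat_mul, h, P.mat_neg, smul_neg, P.mat_dbl]
    rw [he]
    convert neg_one_mem_center (F := F) using 1
    rw [inv_mul_eq_iff_eq_mul]
    simp

lemma Par.el_one (P : Par F e f) : P.el oneQ = 1 := by
  rw [Par.el, dif_pos (by rw [P.mat_one, det_one])]
  refine (QuotientGroup.eq_one_iff _).mpr ?_
  convert Subgroup.one_mem (Subgroup.center (SpecialLinearGroup (Fin 2) F))
  exact Subtype.ext P.mat_one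

/-- equal images have equal coordinates up to a common sign -/
lemma Par.coord_eq (P : Par F e f) {a b c d A B C D : Z2} (hX : nrm e f (a, b, c, d) = (4, 0))
    (hY : nrm e f (A, B, C, D) = (4, 0)) (h : P.el (a, b, c, d) = P.el (A, B, C, D)) :
    (P.ev a = P.ev A ∧ P.ev b = P.ev B ∧ P.ev c = P.ev C ∧ P.ev d = P.ev D) ∨
    (P.ev a = -P.ev A ∧ P.ev b = -P.ev B ∧ P.ev c = -P.ev C ∧ P.ev d = -P.ev D) := by
  rw [P.el_eq_mk hX, P.el_eq_mk hY, QuotientGroup.eq] at h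
  have hs : ∀ g ∈ Subgroup.center (SpecialLinearGroup (Fin 2) F), g = 1 ∨ g = -1 := fun g hg => by
    refine eq_one_or_neg_one_of_isScal ?_
    have h1 : ∀ k, Commute g k := fun k => (Subgroup.mem_center_iff.mp hg k).symm
    obtain ⟨e1, e2, -⟩ := Dickson.commute_iff_entries.mp (h1 (Dickson.upperU 1))
    obtain ⟨f1, f2, -⟩ := Dickson.commute_iff_entries.mp (h1 (Dickson.lowerU 1))
    simp [Dickson.coe_upperU, Dickson.coe_lowerU] at e1 e2 f1 f2
    exact ⟨by first | exact f1 | exact f1.symm, e1.symm, sub_eq_zero.mp e2.symm⟩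
  have hh := P.two
  have inj : ∀ x y z u X Y Z U : F, P.qm x y z u = P.qm X Y Z U → x = X ∧ y = Y ∧ z = Z ∧ u = U := by
    intro x y z u X Y Z U he
    have e00 := congrFun (congrFun he 0) 0
    have e01 := congrFun (congrFun he 0) 1
    have e10 := congrFun (congrFun he 1) 0
    have e11 := congrFun (congrFun he 1) 1
    simp [Par.qm] at e00 e01 e10 e11
    have d0 : (2 : F) * (x - X) = 0 := by linear_combination e00 + e11
    have d1 : (2 : F) * (y - Y) = 0 := by linear_combination e01 - e10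
    have d2 : (2 : F) * (P.a * (z - Z) + P.b * (u - U)) = 0 := by linear_combination e00 - e11
    have d3 : (2 : F) * (P.b * (z - Z) - P.a * (u - U)) = 0 := by linear_combination e01 + e10
    have d0' := (mul_eq_zero.mp d0).resolve_left hh
    have d1' := (mul_eq_zero.mp d1).resolve_left hh
    have d2' := (mul_eq_zero.mp d2).resolve_left hh
    have d3' := (mul_eq_zero.mp d3).resolve_left hh
    refine ⟨sub_eq_zero.mp d0', sub_eq_zero.mp d1', sub_eq_zero.mp ?_, sub_eq_zero.mp ?_⟩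
    · linear_combination (z - Z) * P.hab - P.a * d2' - P.b * d3'
    · linear_combination (u - U) * P.hab - P.b * d2' + P.a * d3'
  rcases hs _ h with h | h
  · rw [inv_mul_eq_one] at h
    have := congrArg Subtype.val h
    simp only [Par.mat] at this
    exact Or.inl (inj _ _ _ _ _ _ _ _ (smul_right_injective _ (inv_ne_zero hh) this))
  · rw [inv_mul_eq_iff_eq_mul] at h
    rw [mul_neg, mul_one] at h
    have h' : P.mat (A, B, C, D) = -P.mat (a, b, c, d) := congrArg Subtype.val h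
    refine Or.inr ?_
    simp only [Par.mat] at h'
    rw [← smul_neg] at h'
    have h'' := smul_right_injective _ (inv_ne_zero hh) h'
    have := inj (-P.ev a) (-P.ev b) (-P.ev c) (-P.ev d) _ _ _ _ (by
      rw [h'']
      ext i j
      fin_cases i <;> fin_cases j <;> simp [Par.qm] <;> ring)
    obtain ⟨h1, h2, h3, h4⟩ := this
    exact ⟨by linear_combination -h1, by linear_combination -h2, by linear_combination -h3, by linear_combination -h4⟩

variable [Finite F]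

theorem Par.card_closure_le (P : Par F e f) (L gens : List Q) (h1 : oneQ ∈ L) (hc : Closed e f L gens) :
    Nat.card (Subgroup.closure (P.el '' {g | g ∈ gens})) ≤ L.length := by
  classical
  have hsub : ((Subgroup.closure (P.el '' {g | g ∈ gens}) : Subgroup _) : Set (ProjectiveSpecialLinearGroup (Fin 2) F)) ⊆
      ↑((L.map P.el).toFinset) := by
    intro x hx
    have hx' : x ∈ Submonoid.closure (P.el '' {g | g ∈ gens}) := by
      rw [← Subgroup.closure_toSubmonoid_of_finite]; exact hx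
    induction hx' using Submonoid.closure_induction_right with
    | one =>
      simp only [Finset.mem_coe, List.mem_toFinset, List.mem_map]
      exact ⟨oneQ, h1, P.el_one⟩
    | mul_right y hy z hz ih =>
      have hy' : y ∈ Subgroup.closure (P.el '' {g | g ∈ gens}) := by
        rw [← Subgroup.mem_toSubmonoid, Subgroup.closure_toSubmonoid_of_finite]; exact hy
      obtain ⟨g, hg, rfl⟩ := hz
      have hy2 := ih hy'
      simp only [Finset.mem_coe, List.mem_toFinset, List.mem_map] at hy2 ⊢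
      obtain ⟨X, hX, rfl⟩ := hy2
      obtain ⟨Z, hZ, hp⟩ := hc.2.2 X hX g hg
      exact ⟨Z, hZ, (P.el_mul (hc.1 X hX) (hc.2.1 g hg) (hc.1 Z hZ) hp).symm⟩
  refine le_trans ?_ ((List.toFinset_card_le (L.map P.el)).trans_eq (List.length_map _))
  rw [← Set.ncard_coe_finset]
  exact le_trans (le_of_eq (Nat.card_coe_set_eq _)) (Set.ncard_le_ncard hsub (Finset.finite_toSet _))

def wiQ : Q := ((-1, 0), (-1, 0), (1, 0), (-1, 0))
def wjQ : Q := ((-1, 0), (-1, 0), (-1, 0), (1, 0))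

abbrev basicRel (e f : ℤ) : Prop :=
  Prd e f iQ iQ oneQ ∧ Prd e f iQ jQ kQ ∧ Prd e f jQ iQ kQ ∧ Prd e f jQ jQ oneQ ∧ Prd e f wQ wQ w2Q ∧
    Prd e f w2Q wQ oneQ ∧ nrm e f wiQ = (4, 0) ∧ Prd e f wQ iQ wiQ ∧ Prd e f kQ wQ wiQ ∧
    nrm e f wjQ = (4, 0) ∧ Prd e f wQ jQ wjQ ∧ Prd e f iQ wQ wjQ

theorem Par.tetra (P : Par F e f) (hrel : basicRel e f) (hn : ∀ X ∈ [oneQ, iQ, jQ, kQ, wQ, w2Q], nrm e f X = (4, 0)) :
    Tetra (P.el iQ) (P.el jQ) (P.el kQ) (P.el wQ) := by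
  obtain ⟨h1, h2, h3, h4, h5, h6, nZ, h7, h7', nW, h8, h8'⟩ := hrel
  have n1 := hn oneQ List.mem_cons_self
  have ni := hn iQ (List.mem_cons_of_mem _ List.mem_cons_self)
  have nj := hn jQ (List.mem_cons_of_mem _ (List.mem_cons_of_mem _ List.mem_cons_self))
  have nk := hn kQ (List.mem_cons_of_mem _ (List.mem_cons_of_mem _ (List.mem_cons_of_mem _ List.mem_cons_self)))
  have nw := hn wQ (List.mem_cons_of_mem _ (List.mem_cons_of_mem _ (List.mem_cons_of_mem _ (List.mem_cons_of_mem _ List.mem_cons_self))))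
  have nw2 := hn w2Q (List.mem_cons_of_mem _ (List.mem_cons_of_mem _ (List.mem_cons_of_mem _ (List.mem_cons_of_mem _ (List.mem_cons_of_mem _ List.mem_cons_self)))))
  have h2' := P.two
  refine ⟨?_, ?_, ?_, ?_, fun h => ?_, fun h => ?_, fun h => ?_, ?_, fun h => ?_, ?_, ?_⟩
  · rw [P.el_mul ni ni n1 h1, P.el_one]
  · exact P.el_mul ni nj nk h2
  · exact P.el_mul nj ni nk h3
  · rw [P.el_mul nj nj n1 h4, P.el_one]
  · rw [← P.el_one] at h
    rcases P.coord_eq ni n1 h with ⟨-, h', -⟩ | ⟨-, h', -⟩ <;> simp [Par.ev, h2'] at h'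
  · rw [← P.el_one] at h
    rcases P.coord_eq nj n1 h with ⟨-, -, h', -⟩ | ⟨-, -, h', -⟩ <;> simp [Par.ev, h2'] at h'
  · rcases P.coord_eq ni nj h with ⟨-, h', -⟩ | ⟨-, h', -⟩ <;> simp [Par.ev, h2'] at h'
  · rw [P.el_mul nw nw nw2 h5, P.el_mul nw2 nw n1 h6, P.el_one]
  · rw [← P.el_one] at h
    rcases P.coord_eq nw n1 h with ⟨-, h', -⟩ | ⟨-, h', -⟩ <;> simp [Par.ev] at h'
  · rw [P.el_mul nw ni nZ h7, P.el_mul nk nw nZ h7']
  · rw [P.el_mul nw nj nW h8, P.el_mul ni nw nW h8']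

theorem Par.exists_alt_four (P : Par F 0 0) :
    ∃ H : Subgroup (ProjectiveSpecialLinearGroup (Fin 2) F), Nat.card H = 12 ∧ Nonempty (H ≃* alternatingGroup (Fin 4)) := by
  have h := P.tetra (by decide +kernel) (by decide +kernel)
  have hle := P.card_closure_le tabA4 [iQ, wQ] (by decide +kernel) (by decide +kernel)
  exact ⟨Subgroup.closure (P.el '' {g | g ∈ [iQ, wQ]}), h.equiv_alt_four _ (Subgroup.subset_closure ⟨iQ, by simp, rfl⟩) (Subgroup.subset_closure ⟨wQ, by simp, rfl⟩) hle⟩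

theorem Par.exists_sym_four (P : Par F 2 0) :
    ∃ H : Subgroup (ProjectiveSpecialLinearGroup (Fin 2) F), Nat.card H = 24 ∧ Nonempty (H ≃* Equiv.Perm (Fin 4)) := by
  have h := P.tetra (by decide +kernel) (by decide +kernel)
  have hle := P.card_closure_le tabS4 [iQ, wQ, sQ] (by decide +kernel) (by decide +kernel)
  have nr : nrm 2 0 sQ = (4, 0) := by decide +kernel
  have ht : P.t ≠ 0 := fun h0 => P.two (by
    have := P.ht
    rw [h0] at this
    simpa using this.symm)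
  refine ⟨Subgroup.closure (P.el '' {g | g ∈ [iQ, wQ, sQ]}), h.equiv_sym_four (P.el sQ) ?_ (fun he => ?_) ?_ _ (Subgroup.subset_closure ⟨iQ, by simp, rfl⟩)
    (Subgroup.subset_closure ⟨wQ, by simp, rfl⟩) (Subgroup.subset_closure ⟨sQ, by simp, rfl⟩) hle⟩
  · rw [P.el_mul nr nr (by decide +kernel : nrm 2 0 oneQ = (4, 0)) (by decide +kernel), P.el_one]
  · rw [← P.el_one] at he
    rcases P.coord_eq nr (by decide +kernel) he with ⟨-, h', -⟩ | ⟨-, h', -⟩ <;> simp [Par.ev, ht] at h'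
  · rw [P.el_mul nr (by decide +kernel) (by decide +kernel : nrm 2 0 ((0, 0), (0, -1), (0, 0), (0, 1)) = (4, 0)) (by decide +kernel),
      P.el_mul (by decide +kernel) nr (by decide +kernel : nrm 2 0 w2Q = (4, 0)) (by decide +kernel),
      P.el_mul (by decide +kernel) (by decide +kernel) (by decide +kernel : nrm 2 0 w2Q = (4, 0)) (by decide +kernel)]

theorem Par.exists_alt_five (P : Par F 1 1) :
    ∃ H : Subgroup (ProjectiveSpecialLinearGroup (Fin 2) F), Nat.card H = 60 ∧ Nonempty (H ≃* alternatingGroup (Fin 5)) := by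
  have h := P.tetra (by decide +kernel) (by decide +kernel)
  have hT := P.card_closure_le tabA4 [iQ, wQ] (by decide +kernel) (by decide +kernel)
  have hH := P.card_closure_le tabA5 [iQ, wQ, pQ] (by decide +kernel) (by decide +kernel)
  have np : nrm 1 1 pQ = (4, 0) := by decide +kernel
  have n1 : nrm 1 1 oneQ = (4, 0) := by decide +kernel
  have h2' := P.two
  have ht0 : P.t ≠ 0 := fun h0 => by
    have := P.ht; rw [h0] at this; simp at this
  have ht1 : P.t - 1 ≠ 0 := fun h0 => by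
    have := P.ht; rw [sub_eq_zero.mp h0] at this; simp at this
  refine ⟨_, h.equiv_alt_five (P.el pQ) ?_ (fun he => ?_) (Subgroup.closure (P.el '' {g | g ∈ [iQ, wQ]})) (Subgroup.closure (P.el '' {g | g ∈ [iQ, wQ, pQ]})) ?_ (Subgroup.subset_closure ⟨iQ, by simp, rfl⟩)
    (Subgroup.subset_closure ⟨wQ, by simp, rfl⟩) hT (Subgroup.subset_closure ⟨pQ, by simp, rfl⟩) ?_ hH⟩
  · rw [pow_succ, pow_succ, pow_succ, pow_two,
      P.el_mul np np (by decide +kernel : nrm 1 1 (((-1, 1), (1, 0), (0, 1), (0, 0)) : Q) = (4, 0)) (by decide +kernel),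
      P.el_mul (by decide +kernel) np (by decide +kernel : nrm 1 1 (((1, -1), (1, 0), (0, 1), (0, 0)) : Q) = (4, 0)) (by decide +kernel),
      P.el_mul (by decide +kernel) np (by decide +kernel : nrm 1 1 (((0, -1), (-1, 1), (1, 0), (0, 0)) : Q) = (4, 0)) (by decide +kernel),
      P.el_mul (by decide +kernel) np n1 (by decide +kernel), P.el_one]
  · rw [← P.el_one] at he
    rcases P.coord_eq np n1 he with ⟨-, -, h', -⟩ | ⟨-, -, h', -⟩ <;> simp [Par.ev] at h'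
  · exact Subgroup.closure_mono (Set.image_mono (fun g hg => by
      simp only [Set.mem_setOf_eq, List.mem_cons, List.not_mem_nil, or_false] at hg ⊢; tauto))
  · have hinv : (P.el pQ)⁻¹ = P.el (((0, 1), (1, -1), (-1, 0), (0, 0)) : Q) := inv_eq_of_mul_eq_one_right (by
      rw [P.el_mul np (by decide +kernel) n1 (by decide +kernel), P.el_one])
    rw [hinv, P.el_mul np (by decide +kernel) (by decide +kernel : nrm 1 1 (((1, -1), (0, 1), (0, 0), (-1, 0)) : Q) = (4, 0)) (by decide +kernel),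
      P.el_mul (by decide +kernel) (by decide +kernel) (by decide +kernel : nrm 1 1 (((0, 0), (1, 0), (-1, 1), (0, -1)) : Q) = (4, 0)) (by decide +kernel)]
    intro hmem
    have hmem' : P.el (((0, 0), (1, 0), (-1, 1), (0, -1)) : Q) ∈ Submonoid.closure (P.el '' {g | g ∈ [iQ, wQ]}) := by
      rw [← Subgroup.closure_toSubmonoid_of_finite]; exact hmem
    have hc : Closed 1 1 tabA4 [iQ, wQ] := by decide +kernel
    have hin : ∀ x ∈ Submonoid.closure (P.el '' {g | g ∈ [iQ, wQ]}), ∃ X ∈ tabA4, P.el X = x := by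
      intro x hx
      induction hx using Submonoid.closure_induction_right with
      | one => exact ⟨oneQ, by decide +kernel, P.el_one⟩
      | mul_right y hy z hz ih =>
        obtain ⟨g, hg, rfl⟩ := hz
        obtain ⟨X, hX, rfl⟩ := ih
        obtain ⟨Z, hZ, hp⟩ := hc.2.2 X hX g hg
        exact ⟨Z, hZ, (P.el_mul (hc.1 X hX) (hc.2.1 g hg) (hc.1 Z hZ) hp).symm⟩
    obtain ⟨X, hX, hXe⟩ := hin _ hmem'
    obtain ⟨x0, x1, x2, x3⟩ := X
    have hcd := P.coord_eq (hc.1 _ hX) (by decide +kernel) hXe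
    simp only [tabA4, List.mem_cons, Prod.mk.injEq, List.not_mem_nil, or_false] at hX
    rcases hcd with ⟨c0, c1, c2, c3⟩ | ⟨c0, c1, c2, c3⟩ <;>
      rcases hX with hX | hX | hX | hX | hX | hX | hX | hX | hX | hX | hX | hX <;>
      obtain ⟨⟨r0, r0'⟩, ⟨r1, r1'⟩, ⟨r2, r2'⟩, ⟨r3, r3'⟩⟩ := hX <;>
      subst_vars <;> simp [Par.ev, h2'] at c0 c1 c2 c3 <;>
      first
        | exact ht0 c3
        | exact ht0 c2
        | exact ht1 (by linear_combination c2)
        | exact ht1 (by linear_combination -c2)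
        | simp_all

end CfsgLib.Classical.Quat
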