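import Cfsg.Agent.Lib.DicksonTorus

/-! Class sizes in `SL₂` and `PSL₂` over a finite field. -/

set_option autoImplicit false
set_option linter.style.haveILetI false

universe u

namespace CfsgLib.SLTwoClasses

open Matrix CfsgLib.Dickson

variable {F : Type u} [Field F]

theorem mul_self_eq (g : SL F) :
    g.1 * g.1 = (g.1 0 0 + g.1 1 1) • g.1 - (1 : Matrix (Fin 2) (Fin 2) F) := by
  have hd := det_eq g
  ext i j
  fin_cases i <;> fin_cases j <;> simp [Matrix.mul_apply, Fin.sum_univ_two]
  · linear_combination -hd
  · ring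
  · ring
  · linear_combination -hd

theorem mul_self_eq_neg_one {g : SL F} (h : g.1 0 0 + g.1 1 1 = 0) : g * g = -1 := by
  apply Subtype.ext
  rw [Matrix.SpecialLinearGroup.coe_mul, mul_self_eq, h]
  simp

theorem trace_zero_of_mul_self {g : SL F} (hg : ¬ IsScal g) (h : g * g = -1) : g.1 0 0 + g.1 1 1 = 0 := by
  by_contra ht
  have h1 := congrArg Subtype.val h
  rw [Matrix.SpecialLinearGroup.coe_mul, mul_self_eq, Matrix.SpecialLinearGroup.coe_neg,
    Matrix.SpecialLinearGroup.coe_one, sub_eq_add_neg, add_eq_right, smul_eq_zero] at h1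
  have hM := h1.resolve_left ht
  exact hg ⟨by rw [hM]; rfl, by rw [hM]; rfl, by rw [hM]; rfl⟩

theorem trace_zero_of_anti (h2 : (2 : F) ≠ 0) {g x : SL F} (h : x * g * x⁻¹ = -g) : g.1 0 0 + g.1 1 1 = 0 := by
  have h1 := congrArg (fun y : SL F => Matrix.trace y.1) h
  simp only [Matrix.SpecialLinearGroup.coe_mul, Matrix.SpecialLinearGroup.coe_neg, Matrix.trace_neg] at h1
  rw [Matrix.trace_mul_cycle, ← Matrix.SpecialLinearGroup.coe_mul x⁻¹, inv_mul_cancel,
    Matrix.SpecialLinearGroup.coe_one, one_mul, Matrix.trace_fin_two] at h1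
  exact mul_left_cancel₀ h2 (by linear_combination h1)

theorem neg_isScal {g : SL F} (h2 : (2 : F) ≠ 0) : g ≠ -g := by
  intro h
  have h0 : g.1 = 0 := by
    ext i j
    have := congrArg (fun y : SL F => y.1 i j) h
    simp at this
    exact mul_left_cancel₀ h2 (show (2 : F) * g.1 i j = 2 * (0 : F) by linear_combination this)
  have := det_eq g
  simp [h0] at this

section Unip

theorem coe_upperU_val (b : F) : (upperU b).1 = !![1, b; 0, 1] := rfl

theorem not_isScal_upperU {b : F} (hb : b ≠ 0) : ¬ IsScal (upperU b) := fun h => hb (by simpa [coe_upperU_val] using h.1)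

theorem upperU_isConj {b c : F} (hb : b ≠ 0) : IsConj (upperU b) (upperU c) ↔ ∃ a, a ≠ 0 ∧ c = a * a * b := by
  rw [isConj_iff]
  constructor
  · rintro ⟨h, hh⟩
    rw [mul_inv_eq_iff_eq_mul] at hh
    have e := congrArg Subtype.val hh
    simp only [Matrix.SpecialLinearGroup.coe_mul, coe_upperU_val] at e
    have e00 := congrFun (congrFun e 0) 0
    have e01 := congrFun (congrFun e 0) 1
    have e11 := congrFun (congrFun e 1) 1
    simp [Matrix.mul_apply, Fin.sum_univ_two] at e00 e01 e11
    have h10 : h.1 1 0 = 0 := by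
      rcases eq_or_ne c 0 with rfl | hc
      · rcases e11 with e | e
        · exact e
        · exact absurd e hb
      · rcases e00 with e | e
        · exact absurd e hc
        · exact e
    have hd := det_eq h
    rw [h10, mul_zero, sub_zero] at hd
    refine ⟨h.1 0 0, fun e => by simp [e] at hd, ?_⟩
    linear_combination (-c) * hd - (h.1 0 0) * e01
  · rintro ⟨a, ha, rfl⟩
    let P : SL F := ⟨!![a, 0; 0, a⁻¹], by simp [Matrix.det_fin_two, ha]⟩
    have hPv : P.1 = !![a, 0; 0, a⁻¹] := rfl
    refine ⟨P, ?_⟩
    rw [mul_inv_eq_iff_eq_mul]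
    apply Subtype.ext
    simp only [Matrix.SpecialLinearGroup.coe_mul, coe_upperU_val, hPv]
    ext i j
    fin_cases i <;> fin_cases j <;> simp [Matrix.mul_apply, Fin.sum_univ_two]
    field_simp

theorem card_cent_upperU [Fintype F] {b : F} (hb : b ≠ 0) :
    Nat.card (Subgroup.centralizer ({upperU b} : Set (SL F))) = Nat.card {a : F // a * a = 1} * Fintype.card F := by
  classical
  have hmem : ∀ h : SL F, h ∈ Subgroup.centralizer ({upperU b} : Set (SL F)) ↔ h.1 1 0 = 0 ∧ h.1 1 1 = h.1 0 0 := by
    intro h
    rw [Subgroup.mem_centralizer_singleton_iff]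
    constructor
    · intro e
      have e' := congrArg Subtype.val e
      simp only [Matrix.SpecialLinearGroup.coe_mul, coe_upperU_val] at e'
      have e00 := congrFun (congrFun e' 0) 0
      have e01 := congrFun (congrFun e' 0) 1
      simp [Matrix.mul_apply, Fin.sum_univ_two] at e00 e01
      refine ⟨e00.resolve_left hb, mul_left_cancel₀ hb ?_⟩
      linear_combination -e01
    · rintro ⟨h1, h3⟩
      apply Subtype.ext
      simp only [Matrix.SpecialLinearGroup.coe_mul, coe_upperU_val]
      ext i j
      fin_cases i <;> fin_cases j <;> simp [Matrix.mul_apply, Fin.sum_univ_two, h1, h3] <;> ring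
  let e : Subgroup.centralizer ({upperU b} : Set (SL F)) ≃ {a : F // a * a = 1} × F :=
    { toFun := fun h => (⟨h.1.1 0 0, by
        have hd := det_eq h.1
        rw [((hmem _).1 h.2).1, ((hmem _).1 h.2).2, mul_zero, sub_zero] at hd
        exact hd⟩, h.1.1 0 1)
      invFun := fun p => ⟨⟨!![(p.1 : F), p.2; 0, (p.1 : F)], by simp [Matrix.det_fin_two, p.1.2]⟩,
        (hmem _).2 ⟨by simp, by simp⟩⟩
      left_inv := fun h => by
        apply Subtype.ext
        apply Subtype.ext
        ext i j
        fin_cases i <;> fin_cases j <;> simp [((hmem _).1 h.2).1, ((hmem _).1 h.2).2]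
      right_inv := fun p => by simp }
  rw [Nat.card_congr e, Nat.card_prod, Nat.card_eq_fintype_card (α := F)]

theorem card_roots [Fintype F] : ((2 : F) = 0 → Nat.card {a : F // a * a = 1} = 1) ∧
    ((2 : F) ≠ 0 → Nat.card {a : F // a * a = 1} = 2) := by
  classical
  constructor
  · intro h2
    rw [Nat.card_eq_one_iff_unique]
    refine ⟨⟨fun a b => Subtype.ext ?_⟩, ⟨⟨1, mul_one 1⟩⟩⟩
    have h1 : ∀ x : F, x * x = 1 → x = 1 := fun x hx =>
      sub_eq_zero.1 (mul_self_eq_zero.1 (show (x - 1) * (x - 1) = 0 by linear_combination hx + (1 - x) * h2))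
    rw [h1 _ a.2, h1 _ b.2]
  · intro h2
    have e : {a : F | a * a = 1} = {1, -1} := Set.ext fun a => mul_self_eq_one_iff
    have hne : (1 : F) ≠ -1 := fun h => h2 (by linear_combination h)
    exact (Nat.card_congr (Equiv.setCongr e)).trans (by rw [Nat.card_coe_set_eq, Set.ncard_pair hne])

theorem exists_conj_upperU (p : ℕ) [Fact p.Prime] [CharP F p] {g : SL F} (hg : orderOf g = p) :
    ∃ b : F, b ≠ 0 ∧ IsConj (upperU b) g := by
  have h1 : (g.1 - 1).det = 0 := by
    have hp : g.1 ^ p = 1 := by
      rw [← Matrix.SpecialLinearGroup.coe_pow, ← hg, pow_orderOf_eq_one, Matrix.SpecialLinearGroup.coe_one]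
    have h := sub_pow_char_of_commute (R := Matrix (Fin 2) (Fin 2) F) (p := p) (Commute.one_right g.1)
    rw [hp, one_pow, sub_self] at h
    have h' := congrArg Matrix.det h
    rw [Matrix.det_pow, Matrix.det_zero] at h'
    exact (pow_eq_zero_iff (Fact.out : p.Prime).ne_zero).1 h'
  obtain ⟨v, hv0, hv⟩ := Matrix.exists_mulVec_eq_zero_iff.2 h1
  rw [Matrix.sub_mulVec, Matrix.one_mulVec, sub_eq_zero] at hv
  obtain ⟨P, hP⟩ : ∃ P : SL F, P.1 0 0 = v 0 ∧ P.1 1 0 = v 1 := by
    by_cases h0 : v 0 = 0
    · have h1' : v 1 ≠ 0 := fun e => hv0 (funext fun i => by fin_cases i <;> assumption)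
      exact ⟨⟨!![v 0, -(v 1)⁻¹; v 1, 0], by simp [Matrix.det_fin_two, h1']⟩, by simp, by simp⟩
    · exact ⟨⟨!![v 0, 0; v 1, (v 0)⁻¹], by simp [Matrix.det_fin_two, h0]⟩, by simp, by simp⟩
  set k := P⁻¹ * g * P with hk
  have hcol : k.1 *ᵥ ![1, 0] = ![1, 0] := by
    have hPv : P.1 *ᵥ ![1, 0] = v := by
      funext i; fin_cases i <;> simp [Matrix.mulVec, dotProduct, Fin.sum_univ_two, hP.1, hP.2]
    rw [hk, Matrix.SpecialLinearGroup.coe_mul, Matrix.SpecialLinearGroup.coe_mul, ← Matrix.mulVec_mulVec,
      ← Matrix.mulVec_mulVec, hPv, hv, ← hPv, Matrix.mulVec_mulVec, ← Matrix.SpecialLinearGroup.coe_mul,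
      inv_mul_cancel, Matrix.SpecialLinearGroup.coe_one, Matrix.one_mulVec]
  have e00 := congrFun hcol 0
  have e10 := congrFun hcol 1
  simp [Matrix.mulVec, dotProduct, Fin.sum_univ_two] at e00 e10
  have hd := det_eq k
  rw [e00, e10, mul_zero, sub_zero, one_mul] at hd
  have hk' : k = upperU (k.1 0 1) := by
    apply Subtype.ext
    ext i j
    fin_cases i <;> fin_cases j <;> simp [coe_upperU_val, e00, e10, hd]
  refine ⟨k.1 0 1, fun h => ?_, ?_⟩
  · rw [h, show upperU (0 : F) = 1 by apply Subtype.ext; simp [coe_upperU_val, Matrix.one_fin_two]] at hk'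
    have : g = 1 := by
      have := congrArg (fun y => P * y * P⁻¹) hk'
      simpa [hk, mul_assoc] using this
    rw [this, orderOf_one] at hg
    exact (Fact.out : p.Prime).ne_one hg.symm
  · rw [← hk']
    exact isConj_iff.2 ⟨P, by rw [hk]; group⟩

theorem orderOf_upperU (p : ℕ) [Fact p.Prime] [CharP F p] {b : F} (hb : b ≠ 0) : orderOf (upperU b) = p := by
  refine orderOf_eq_prime ?_ fun h => not_isScal_upperU hb (h ▸ isScal_one)
  have : ∀ n : ℕ, upperU b ^ n = upperU ((n : F) * b) := by
    intro n
    induction n with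
    | zero => apply Subtype.ext; simp [coe_upperU_val, Matrix.one_fin_two]
    | succ n ih => rw [pow_succ, ih, upperU_add]; congr 1; push_cast; ring
  rw [this, CharP.cast_eq_zero, zero_mul]
  apply Subtype.ext; simp [coe_upperU_val, Matrix.one_fin_two]

end Unip

theorem cent_eq_of_commute {g v : SL F} (hg : ¬ IsScal g) (hv : ¬ IsScal v) (h : Commute g v) :
    Subgroup.centralizer ({g} : Set (SL F)) = Subgroup.centralizer ({v} : Set (SL F)) := by
  ext x
  rw [Subgroup.mem_centralizer_singleton_iff, Subgroup.mem_centralizer_singleton_iff]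
  exact ⟨fun hx => (commute_of_commute hg hx h.symm).eq, fun hx => (commute_of_commute hv hx h).eq⟩

theorem card_cent_conj {G : Type*} [Group G] {a b : G} (h : IsConj a b) :
    Nat.card (Subgroup.centralizer ({a} : Set G)) = Nat.card (Subgroup.centralizer ({b} : Set G)) := by
  obtain ⟨x, rfl⟩ := isConj_iff.1 h
  refine Nat.card_congr ((MulAut.conj x).toEquiv.subtypeEquiv fun y => ?_)
  rw [Subgroup.mem_centralizer_singleton_iff, Subgroup.mem_centralizer_singleton_iff]
  simp only [MulEquiv.toEquiv_eq_coe, EquivLike.coe_coe, MulAut.conj_apply]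
  constructor
  · intro e
    calc x * y * x⁻¹ * (x * a * x⁻¹) = x * (y * a) * x⁻¹ := by group
      _ = _ := by rw [e]; group
  · intro e
    calc y * a = x⁻¹ * ((x * y * x⁻¹) * (x * a * x⁻¹)) * x := by group
      _ = _ := by rw [e]; group

theorem card_class {G : Type*} [Group G] [Finite G] (g : G) :
    Nat.card (ConjClasses.mk g).carrier * Nat.card (Subgroup.centralizer ({g} : Set G)) = Nat.card G := by
  haveI := Fintype.ofFinite G
  have e : (ConjClasses.mk g).carrier = MulAction.orbit (ConjAct G) g := (ConjAct.orbit_eq_carrier_conjClasses g).symm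
  rw [e, Subgroup.nat_card_centralizer_nat_card_stabilizer, Nat.card_coe_set_eq,
    ← MulAction.index_stabilizer, mul_comm, Subgroup.card_mul_index]
  exact Nat.card_congr ConjAct.ofConjAct.toEquiv

section Proj

variable [Fintype F]

/-- The preimage in `SL₂` of the centraliser of the image of an element. -/
noncomputable def liftCent (g : SL F) : Subgroup (SL F) :=
  (Subgroup.centralizer ({mkP g} : Set (PSL F))).comap mkP

theorem mem_liftCent {g x : SL F} : x ∈ liftCent g ↔ x * g = g * x ∨ x * g = -(g * x) := by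
  rw [liftCent, Subgroup.mem_comap, Subgroup.mem_centralizer_singleton_iff, ← map_mul, ← map_mul, mkP_eq_iff]

theorem index_mkP (g : SL F) :
    (Subgroup.centralizer ({mkP g} : Set (PSL F))).index * Nat.card (liftCent g) =
      Fintype.card F * (Fintype.card F - 1) * (Fintype.card F + 1) := by
  rw [← Subgroup.index_comap_of_surjective _ mkP_surjective]
  rw [show (Subgroup.centralizer ({mkP g} : Set (PSL F))).comap mkP = liftCent g from rfl, Subgroup.index_mul_card,
    CfsgLib.Classical.Two.card_sl_two]

theorem card_liftCent {g : SL F} (h : (2 : F) = 0 ∨ g.1 0 0 + g.1 1 1 ≠ 0) :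
    Nat.card (liftCent g) = Nat.card (Subgroup.centralizer ({g} : Set (SL F))) := by
  congr 2
  ext x
  rw [mem_liftCent, Subgroup.mem_centralizer_singleton_iff]
  refine ⟨fun e => e.elim id fun e => ?_, Or.inl⟩
  rcases h with h2 | ht
  · rw [e]
    apply Subtype.ext
    ext i j
    rw [Matrix.SpecialLinearGroup.coe_neg, Matrix.neg_apply]
    linear_combination -((g * x).1 i j) * h2
  · rcases eq_or_ne (2 : F) 0 with h2 | h2
    · rw [e]
      apply Subtype.ext
      ext i j
      rw [Matrix.SpecialLinearGroup.coe_neg, Matrix.neg_apply]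
      linear_combination -((g * x).1 i j) * h2
    · exact absurd (trace_zero_of_anti h2 (x := x) (by rw [mul_inv_eq_iff_eq_mul, e]; exact Subtype.ext (by simp))) ht

variable {p : ℕ} [hp : Fact p.Prime] [CharP F p]

include hp

/-- The three kinds of non-scalar elements. -/
theorem liftCent_cases (h4 : 4 ≤ Fintype.card F) {g : SL F} (hg : ¬ IsScal g) :
    Nat.card (liftCent g) = Nat.card {a : F // a * a = 1} * Fintype.card F ∨
    ((2 : F) = 0 ∨ g * g ≠ -1) ∧ (Nat.card (liftCent g) = Fintype.card F - 1 ∨ Nat.card (liftCent g) = Fintype.card F + 1) ∨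
    (2 : F) ≠ 0 ∧ g * g = -1 ∧
      ((IsSquare (-1 : F) → Nat.card (liftCent g) = 2 * (Fintype.card F - 1)) ∧
       (¬ IsSquare (-1 : F) → Nat.card (liftCent g) = 2 * (Fintype.card F + 1))) := by
  classical
  by_cases hp' : p ∣ orderOf g
  · left
    set v := g ^ (orderOf g / p) with hv
    have hvo : orderOf v = p := by
      rw [hv, orderOf_pow_of_dvd (Nat.div_pos (Nat.le_of_dvd (orderOf_pos g) hp') hp.out.pos).ne' (Nat.div_dvd_of_dvd hp'),
        Nat.div_div_self hp' (orderOf_pos g).ne']
    obtain ⟨b, hb, hconj⟩ := exists_conj_upperU p hvo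
    have hvs : ¬ IsScal v := by
      intro hs
      obtain ⟨x, hx⟩ := isConj_iff.1 hconj
      have hc : upperU b = x⁻¹ * v * x := by rw [← hx]; group
      rw [mul_assoc, ((hs.commute x)).eq, inv_mul_cancel_left] at hc
      exact not_isScal_upperU hb (hc ▸ hs)
    have hcent : Subgroup.centralizer ({g} : Set (SL F)) = Subgroup.centralizer ({v} : Set (SL F)) :=
      cent_eq_of_commute hg hvs (Commute.self_pow g _)
    have hC : Nat.card (Subgroup.centralizer ({g} : Set (SL F))) = Nat.card {a : F // a * a = 1} * Fintype.card F := by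
      rw [hcent, ← card_cent_conj hconj, card_cent_upperU hb]
    rw [card_liftCent ?_, hC]
    rcases eq_or_ne (2 : F) 0 with h2 | h2
    · exact Or.inl h2
    · right
      intro ht
      have hg2 := mul_self_eq_neg_one ht
      have h4' : g ^ 4 = 1 := by rw [show 4 = 2 * 2 from rfl, pow_mul, pow_two, pow_two, hg2]; simp
      have := hp'.trans (orderOf_dvd_of_pow_eq_one h4')
      have hp2 : p = 2 := (Nat.prime_dvd_prime_iff_eq hp.out Nat.prime_two).1
        (hp.out.dvd_of_dvd_pow (show p ∣ 2 ^ 2 from this))
      subst hp2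
      exact h2 (by exact_mod_cast CharP.cast_eq_zero F 2)
  · obtain ⟨-, hT, hirr, -⟩ := torus_data rfl h4 hg hp'
    by_cases hcase : (2 : F) = 0 ∨ g * g ≠ -1
    · right; left
      refine ⟨hcase, ?_⟩
      rwa [card_liftCent (hcase.imp_right fun h ht => h (mul_self_eq_neg_one ht))]
    · push Not at hcase
      obtain ⟨h2, hg2⟩ := hcase
      have ht := trace_zero_of_mul_self hg hg2
      right; right
      refine ⟨h2, hg2, ?_⟩
      obtain ⟨w, hw, -⟩ := exists_inverter (p := p) rfl h4 hg hp'
      have hinv : g⁻¹ = -g := inv_eq_of_mul_eq_one_right (by rw [mul_neg, hg2, neg_neg])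
      rw [hinv, neg_mul] at hw
      set T := Subgroup.centralizer ({g} : Set (SL F))
      have hmemT : ∀ x, x ∈ T ↔ x * g = g * x := fun x => Subgroup.mem_centralizer_singleton_iff
      have hcard : Nat.card (liftCent g) = 2 * Nat.card T := by
        let f : T ⊕ T → liftCent g := Sum.elim (fun x => ⟨x.1, mem_liftCent.2 (Or.inl ((hmemT _).1 x.2))⟩)
          (fun x => ⟨x.1 * w, mem_liftCent.2 (Or.inr (by
            rw [mul_assoc, hw, mul_neg, ← mul_assoc, (hmemT _).1 x.2, mul_assoc]))⟩)
        have hf : Function.Bijective f := by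
          have hboth : ∀ y : SL F, y * g = g * y → y * g = -(g * y) → False := fun y h1 h3 =>
            neg_isScal h2 (h1.symm.trans h3)
          constructor
          · rintro (x | x) (y | y) e <;> have e' := congrArg Subtype.val e <;> simp [f] at e'
            · rw [e']
            · exfalso
              refine hboth _ ((hmemT _).1 x.2) ?_
              rw [e', mul_assoc, hw, mul_neg, ← mul_assoc, (hmemT _).1 y.2, mul_assoc]
            · exfalso
              refine hboth _ ((hmemT _).1 y.2) ?_
              rw [← e', mul_assoc, hw, mul_neg, ← mul_assoc, (hmemT _).1 x.2, mul_assoc]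
            · rw [e']
          · rintro ⟨y, hy⟩
            rcases mem_liftCent.1 hy with e | e
            · exact ⟨Sum.inl ⟨y, (hmemT _).2 e⟩, rfl⟩
            · refine ⟨Sum.inr ⟨y * w⁻¹, (hmemT _).2 ?_⟩, Subtype.ext (inv_mul_cancel_right y w)⟩
              have hw' : w⁻¹ * g = -(g * w⁻¹) := by
                calc w⁻¹ * g = w⁻¹ * -(-(g * w)) * w⁻¹ := by rw [neg_neg]; group
                  _ = _ := by rw [← hw, mul_neg, ← mul_assoc, inv_mul_cancel, one_mul, neg_mul]
              rw [mul_assoc, hw', mul_neg, ← mul_assoc, e, neg_mul, neg_neg, mul_assoc]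
        rw [← Nat.card_congr (Equiv.ofBijective f hf), Nat.card_sum, two_mul]
      constructor
      · rintro ⟨i, hi⟩
        rw [hcard]
        congr 1
        refine hT.resolve_right fun hbig => ?_
        -- an eigenvector gives an injection of the torus into the units
        have hdet : (g.1 - i • (1 : Matrix (Fin 2) (Fin 2) F)).det = 0 := by
          rw [Matrix.det_fin_two]; simp
          linear_combination det_eq g - i * ht - hi
        obtain ⟨v, hv0, hv⟩ := Matrix.exists_mulVec_eq_zero_iff.2 hdet
        rw [Matrix.sub_mulVec, Matrix.smul_mulVec, Matrix.one_mulVec, sub_eq_zero] at hv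
        have hev : ∀ x : T, ∃ a : F, x.1.1 *ᵥ v = a • v := by
          intro x
          obtain ⟨β, b1, b2, b3⟩ := exists_coeff hg (show Commute x.1 g from (hmemT _).1 x.2)
          refine ⟨x.1.1 0 0 + β * (i - g.1 0 0), ?_⟩
          have e0 := congrFun hv 0
          have e1 := congrFun hv 1
          simp [Matrix.mulVec, dotProduct, Fin.sum_univ_two] at e0 e1
          funext j
          fin_cases j <;> simp [Matrix.mulVec, dotProduct, Fin.sum_univ_two]
          · linear_combination β * e0 + b1 * v 1
          · linear_combination β * e1 + b2 * v 0 - v 1 * b3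
        choose a ha using hev
        have ha0 : ∀ x, a x ≠ 0 := by
          intro x e
          apply hv0
          have := ha x
          rw [e, zero_smul] at this
          calc v = ((x.1⁻¹ * x.1 : SL F)).1 *ᵥ v := by rw [inv_mul_cancel]; simp
            _ = 0 := by rw [Matrix.SpecialLinearGroup.coe_mul, ← Matrix.mulVec_mulVec, this, Matrix.mulVec_zero]
        let χ : T →* Fˣ :=
          { toFun := fun x => Units.mk0 (a x) (ha0 x)
            map_one' := Units.ext (smul_left_injective F hv0 (by
              show a 1 • v = (1 : F) • v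
              rw [← ha]; simp))
            map_mul' := fun x y => Units.ext (smul_left_injective F hv0 (by
              show a (x * y) • v = (a x * a y) • v
              rw [← ha, Subgroup.coe_mul, Matrix.SpecialLinearGroup.coe_mul, ← Matrix.mulVec_mulVec, ha,
                Matrix.mulVec_smul, ha, smul_smul, mul_comm])) }
        have hinj : Function.Injective χ := by
          rw [← MonoidHom.ker_eq_bot_iff, eq_bot_iff]
          intro x hx
          rw [MonoidHom.mem_ker] at hx
          have hx1 : x.1.1 *ᵥ v = v := by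
            rw [ha, show a x = 1 from congrArg Units.val hx, one_smul]
          have hd : (x.1.1 - 1).det = 0 := Matrix.exists_mulVec_eq_zero_iff.1 ⟨v, hv0, by
            rw [Matrix.sub_mulVec, Matrix.one_mulVec, hx1, sub_self]⟩
          have hsq : (x.1.1 - 1) * (x.1.1 - 1) = 0 := by
            rw [Matrix.det_fin_two] at hd
            simp at hd
            have hdx := det_eq x.1
            have htr : x.1.1 0 0 + x.1.1 1 1 = 2 := by linear_combination hdx - hd
            rw [sub_mul, mul_sub, mul_one, one_mul, mul_self_eq, htr, two_smul]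
            abel
          have hpow : x.1 ^ p = 1 := by
            apply Subtype.ext
            rw [Matrix.SpecialLinearGroup.coe_pow, Matrix.SpecialLinearGroup.coe_one]
            have h := sub_pow_char_of_commute (R := Matrix (Fin 2) (Fin 2) F) (p := p) (Commute.one_right x.1.1)
            rw [one_pow] at h
            rw [← sub_eq_zero, ← h, show p = 2 + (p - 2) by have := hp.out.two_le; omega, pow_add, pow_two, hsq, zero_mul]
          have hx' : orderOf x ∣ p := orderOf_dvd_of_pow_eq_one (Subtype.ext (by simpa using hpow))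
          have hn : ¬ p ∣ Nat.card T := by
            obtain ⟨k, hk, hc⟩ := FiniteField.card F p
            intro hd'
            have hpq : p ∣ Fintype.card F := hc ▸ dvd_pow_self p k.ne_zero
            rw [hbig] at hd'
            exact hp.out.ne_one (Nat.dvd_one.1 ((Nat.dvd_add_right hpq).1 hd'))
          rcases (Nat.dvd_prime hp.out).1 hx' with e | e
          · exact Subgroup.mem_bot.2 (orderOf_eq_one_iff.1 e)
          · exact absurd (e ▸ orderOf_dvd_natCard x) hn
        have := Nat.card_le_card_of_injective χ hinj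
        rw [Nat.card_units, Nat.card_eq_fintype_card (α := F), hbig] at this
        omega
      · intro hns
        rw [hcard, hirr fun r hr => hns ⟨r, by rw [ht, mul_zero, add_zero] at hr; linear_combination -hr⟩]

end Proj

end CfsgLib.SLTwoClasses
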