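import Mathlib

/-! Recognition of `A₄`, `S₄` and `A₅` from generators. -/

set_option autoImplicit false

namespace CfsgLib.Classical

open Equiv Equiv.Perm

variable {G : Type*} [Group G]

/-- A group with a subgroup of index `n` and trivial core embeds into `Sₙ`; if it has the right order it is `Aₙ`. -/
theorem equiv_alternating_of_core_bot [Finite G] {n : ℕ} (hn : 2 ≤ n) (S : Subgroup G) (hS : S.normalCore = ⊥)
    (hidx : S.index = n) (hcard : 2 * Nat.card G = n.factorial) :
    Nonempty (G ≃* alternatingGroup (Fin n)) := by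
  classical
  obtain ⟨e⟩ : Nonempty ((G ⧸ S) ≃ Fin n) :=
    ⟨Finite.equivFinOfCardEq (by rw [← Subgroup.index_eq_card, hidx])⟩
  let f : G →* Perm (Fin n) := e.permCongrHom.toMonoidHom.comp (MulAction.toPermHom G (G ⧸ S))
  have hf : Function.Injective f :=
    e.permCongrHom.injective.comp ((MonoidHom.ker_eq_bot_iff _).mp (by rw [← Subgroup.normalCore_eq_ker, hS]))
  have : Nontrivial (Fin n) := Fin.nontrivial_iff_two_le.mpr hn
  have hidx2 : f.range.index = 2 := by
    have h := f.range.index_mul_card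
    rw [← Nat.card_congr (MonoidHom.ofInjective hf).toEquiv, Nat.card_perm, Nat.card_fin, ← hcard] at h
    exact Nat.eq_of_mul_eq_mul_right Nat.card_pos h
  exact ⟨(MonoidHom.ofInjective hf).trans (MulEquiv.subgroupCongr (eq_alternatingGroup_of_index_eq_two hidx2))⟩

theorem equiv_perm_of_core_bot [Finite G] {n : ℕ} (S : Subgroup G) (hS : S.normalCore = ⊥)
    (hidx : S.index = n) (hcard : Nat.card G = n.factorial) :
    Nonempty (G ≃* Perm (Fin n)) := by
  classical
  obtain ⟨e⟩ : Nonempty ((G ⧸ S) ≃ Fin n) :=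
    ⟨Finite.equivFinOfCardEq (by rw [← Subgroup.index_eq_card, hidx])⟩
  let f : G →* Perm (Fin n) := e.permCongrHom.toMonoidHom.comp (MulAction.toPermHom G (G ⧸ S))
  have hf : Function.Injective f :=
    e.permCongrHom.injective.comp ((MonoidHom.ker_eq_bot_iff _).mp (by rw [← Subgroup.normalCore_eq_ker, hS]))
  exact ⟨MulEquiv.ofBijective f ((Nat.bijective_iff_injective_and_card f).mpr
    ⟨hf, by rw [hcard, Nat.card_perm, Nat.card_fin]⟩)⟩

/-- generators of a tetrahedral group -/
structure Tetra (i j k w : G) : Prop where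
  hi : i * i = 1
  hij : i * j = k
  hji : j * i = k
  hj : j * j = 1
  hi1 : i ≠ 1
  hj1 : j ≠ 1
  hne : i ≠ j
  hw : w * w * w = 1
  hw1 : w ≠ 1
  hwi : w * i = k * w
  hwj : w * j = i * w

variable {i j k w : G}

lemma Tetra.k_ne_one (h : Tetra i j k w) : k ≠ 1 := fun e => h.hne (by
  have := h.hij
  rw [e] at this
  calc i = i * j * j := by rw [mul_assoc, h.hj, mul_one]
    _ = j := by rw [this, one_mul])

lemma Tetra.orderOf_w (h : Tetra i j k w) : orderOf w = 3 := by
  have : Fact (Nat.Prime 3) := ⟨Nat.prime_three⟩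
  exact orderOf_eq_prime (by rw [pow_succ, pow_two, h.hw]) h.hw1

lemma Tetra.mem_zpowers_w (h : Tetra i j k w) {x : G} (hx : x ∈ Subgroup.zpowers w) :
    x = 1 ∨ x = w ∨ x = w * w := by
  have hfin : IsOfFinOrder w := orderOf_pos_iff.mp (by rw [h.orderOf_w]; norm_num)
  classical
  obtain ⟨n, hn, rfl⟩ := Finset.mem_image.mp (hfin.mem_zpowers_iff_mem_range_orderOf.mp hx)
  rw [h.orderOf_w, Finset.mem_range] at hn
  interval_cases n <;> simp [pow_two]

/-- the involution does not normalise the subgroup of order three -/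
lemma Tetra.conj_not_mem (h : Tetra i j k w) : i * w * i⁻¹ ∉ Subgroup.zpowers w := by
  intro hx
  have hki : k * i = j := by rw [← h.hji, mul_assoc, h.hi, mul_one]
  have hik : i * k = j := by rw [← h.hij, ← mul_assoc, h.hi, one_mul]
  have hinv : i⁻¹ = i := inv_eq_of_mul_eq_one_right h.hi
  rw [hinv, mul_assoc, h.hwi, ← mul_assoc, hik] at hx
  rcases h.mem_zpowers_w hx with e | e | e
  · have : w = j := by
      calc w = j * (j * w) := by rw [← mul_assoc, h.hj, one_mul]
        _ = j := by rw [e, mul_one]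
    refine h.hw1 ?_
    have h3 := h.hw
    rw [this, h.hj, one_mul] at h3
    rw [this, h3]
  · exact h.hj1 (mul_eq_right.mp e)
  · have : j = w := mul_right_cancel e
    refine h.hw1 ?_
    have h3 := h.hw
    rw [← this, h.hj, one_mul] at h3
    rw [← this, h3]

/-- the four group -/
def Tetra.four (h : Tetra i j k w) : Subgroup G where
  carrier := {1, i, j, k}
  one_mem' := by simp
  mul_mem' := by
    have hki : k * i = j := by rw [← h.hji, mul_assoc, h.hi, mul_one]
    have hik : i * k = j := by rw [← h.hij, ← mul_assoc, h.hi, one_mul]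
    have hkj : k * j = i := by rw [← h.hij, mul_assoc, h.hj, mul_one]
    have hjk : j * k = i := by rw [← h.hji, ← mul_assoc, h.hj, one_mul]
    have hkk : k * k = 1 := by
      conv_lhs => arg 1; rw [← h.hij]
      rw [mul_assoc, hjk, h.hi]
    rintro a b (rfl | rfl | rfl | rfl) (rfl | rfl | rfl | rfl) <;>
      simp [h.hi, h.hj, h.hij, h.hji, hki, hik, hkj, hjk, hkk]
  inv_mem' := by
    have hki : k * i = j := by rw [← h.hji, mul_assoc, h.hi, mul_one]
    have hkk : k⁻¹ = k := by
      rw [inv_eq_iff_mul_eq_one]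
      calc k * k = k * (i * j) := by rw [h.hij]
        _ = 1 := by rw [← mul_assoc, hki, h.hj]
    rintro a (rfl | rfl | rfl | rfl)
    · simp
    · right; left; exact inv_eq_of_mul_eq_one_right h.hi
    · right; right; left; exact inv_eq_of_mul_eq_one_right h.hj
    · right; right; right; exact hkk

lemma Tetra.card_four (h : Tetra i j k w) : Nat.card h.four = 4 := by
  classical
  show Nat.card (↑({1, i, j, k} : Set G)) = 4
  have hk1 := h.k_ne_one
  have hki : k ≠ i := fun e => h.hj1 (mul_eq_left.mp (h.hij.trans e))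
  have hkj : k ≠ j := fun e => h.hi1 (mul_eq_right.mp (h.hij.trans e))
  rw [Nat.card_coe_set_eq, Set.ncard_insert_of_notMem (by simp [h.hi1.symm, h.hj1.symm, hk1.symm]),
    Set.ncard_insert_of_notMem (by simp [h.hne, hki.symm]), Set.ncard_pair hkj.symm]

lemma Tetra.four_le (h : Tetra i j k w) {T : Subgroup G} (hi : i ∈ T) (hw : w ∈ T) : h.four ≤ T := by
  have hk : k ∈ T := by
    rw [show k = w * i * w⁻¹ by rw [h.hwi, mul_inv_cancel_right]]
    exact T.mul_mem (T.mul_mem hw hi) (T.inv_mem hw)
  have hj : j ∈ T := by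
    rw [show j = i * k by rw [← h.hij, ← mul_assoc, h.hi, one_mul]]
    exact T.mul_mem hi hk
  rintro a (rfl | rfl | rfl | rfl)
  exacts [T.one_mem, hi, hj, hk]

lemma Tetra.twelve_dvd (h : Tetra i j k w) {T : Subgroup G} (hi : i ∈ T) (hw : w ∈ T) : 12 ∣ Nat.card T := by
  have h4 := Subgroup.card_dvd_of_le (h.four_le hi hw)
  rw [h.card_four] at h4
  have h3 := Subgroup.card_dvd_of_le (Subgroup.zpowers_le.mpr hw)
  rw [Nat.card_zpowers, h.orderOf_w] at h3
  exact Nat.Coprime.mul_dvd_of_dvd_of_dvd (by norm_num : Nat.Coprime 4 3) h4 h3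

lemma subgroupOf_zpowers_index {T : Subgroup G} {w : G} (hw : w ∈ T) :
    ((Subgroup.zpowers w).subgroupOf T).index * orderOf w = Nat.card T := by
  rw [← Subgroup.index_mul_card ((Subgroup.zpowers w).subgroupOf T),
    Nat.card_congr (Subgroup.subgroupOfEquivOfLe (Subgroup.zpowers_le.mpr hw)).toEquiv, Nat.card_zpowers]

theorem Tetra.equiv_alt_four [Finite G] (h : Tetra i j k w) (T : Subgroup G) (hi : i ∈ T) (hw : w ∈ T)
    (hle : Nat.card T ≤ 12) : Nat.card T = 12 ∧ Nonempty (T ≃* alternatingGroup (Fin 4)) := by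
  have h12 : Nat.card T = 12 := le_antisymm hle (Nat.le_of_dvd Nat.card_pos (h.twelve_dvd hi hw))
  refine ⟨h12, equiv_alternating_of_core_bot (by norm_num) ((Subgroup.zpowers w).subgroupOf T) ?_ ?_ (by rw [h12]; rfl)⟩
  · have : Fact (Nat.Prime 3) := ⟨Nat.prime_three⟩
    set S := (Subgroup.zpowers w).subgroupOf T
    have hS : Nat.card S = 3 := by
      rw [Nat.card_congr (Subgroup.subgroupOfEquivOfLe (Subgroup.zpowers_le.mpr hw)).toEquiv, Nat.card_zpowers, h.orderOf_w]
    by_contra hne
    have hd := Subgroup.card_dvd_of_le S.normalCore_le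
    rw [hS] at hd
    rcases (Nat.dvd_prime Nat.prime_three).mp hd with e | e
    · exact hne (Subgroup.card_eq_one.mp e)
    have heq : S.normalCore = S := Subgroup.eq_of_le_of_card_ge S.normalCore_le (by rw [hS, e])
    have hN : S.Normal := heq ▸ Subgroup.normalCore_normal S
    have := hN.conj_mem ⟨w, hw⟩ (Subgroup.mem_zpowers w) ⟨i, hi⟩
    exact h.conj_not_mem (by simpa [S, Subgroup.mem_subgroupOf] using this)
  · have := subgroupOf_zpowers_index hw
    rw [h.orderOf_w, h12] at this
    omega

/-- A subgroup of order at most 24 containing a tetrahedral group and an involution inverting `w` is `S₄`. -/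
theorem Tetra.equiv_sym_four [Finite G] (h : Tetra i j k w) (r : G) (hr : r * r = 1) (hr1 : r ≠ 1)
    (hrw : r * w * r = w * w) (H : Subgroup G) (hi : i ∈ H) (hw : w ∈ H) (hrH : r ∈ H)
    (hle : Nat.card H ≤ 24) : Nat.card H = 24 ∧ Nonempty (H ≃* Perm (Fin 4)) := by
  have : Fact (Nat.Prime 3) := ⟨Nat.prime_three⟩
  have h12 := h.twelve_dvd hi hw
  have hrinv : r⁻¹ = r := inv_eq_of_mul_eq_one_right hr
  have hinotN : (⟨i, hi⟩ : H) ∉ Subgroup.normalizer (((Subgroup.zpowers w).subgroupOf H : Subgroup H) : Set H) := fun hN => by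
    have := (Subgroup.mem_normalizer_iff.mp hN ⟨w, hw⟩).mp (Subgroup.mem_zpowers w)
    exact h.conj_not_mem (by simpa [Subgroup.mem_subgroupOf] using this)
  have hfac : (Nat.card H).factorization 3 = 1 := by
    obtain ⟨c, hc⟩ := h12
    have hpos : 0 < Nat.card H := Nat.card_pos
    have hc2 : c = 1 ∨ c = 2 := by omega
    rcases hc2 with rfl | rfl
    · rw [hc, show 12 * 1 = 3 * 4 from rfl, Nat.factorization_mul (by norm_num) (by norm_num), Finsupp.add_apply,
        Nat.Prime.factorization_self Nat.prime_three, Nat.factorization_eq_zero_of_not_dvd (by norm_num : ¬ 3 ∣ 4)]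
    · rw [hc, show 12 * 2 = 3 * 8 from rfl, Nat.factorization_mul (by norm_num) (by norm_num), Finsupp.add_apply,
        Nat.Prime.factorization_self Nat.prime_three, Nat.factorization_eq_zero_of_not_dvd (by norm_num : ¬ 3 ∣ 8)]
  let P : Sylow 3 H := Sylow.ofCard ((Subgroup.zpowers w).subgroupOf H) (by
    rw [Nat.card_congr (Subgroup.subgroupOfEquivOfLe (Subgroup.zpowers_le.mpr hw)).toEquiv, Nat.card_zpowers,
      h.orderOf_w, hfac, pow_one])
  have hn : Nat.card (Sylow 3 H) = 4 := by
    have hd := P.card_dvd_index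
    have hidx : (P : Subgroup H).index = ((Subgroup.zpowers w).subgroupOf H).index := rfl
    have hmul := subgroupOf_zpowers_index hw
    rw [h.orderOf_w] at hmul
    rw [hidx] at hd
    have hm := card_sylow_modEq_one 3 H
    have hne : Nat.card (Sylow 3 H) ≠ 1 := fun e => by
      have : Subsingleton (Sylow 3 H) := (Nat.card_eq_one_iff_unique.mp e).1
      have hN : (P : Subgroup H).Normal := P.normal_of_subsingleton
      have hN' : ((Subgroup.zpowers w).subgroupOf H).Normal := hN
      exact hinotN (Subgroup.mem_normalizer_iff.mpr fun x => ⟨fun hx => hN'.conj_mem x hx _,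
        fun hx => by simpa [mul_assoc] using hN'.conj_mem _ hx (⟨i, hi⟩ : H)⁻¹⟩)
    obtain ⟨c, hc⟩ := h12
    have hpos : 0 < Nat.card H := Nat.card_pos
    have hc2 : c = 1 ∨ c = 2 := by omega
    have hd8 : Nat.card (Sylow 3 H) ∣ 8 := by
      rcases hc2 with rfl | rfl
      · exact hd.trans ⟨2, by omega⟩
      · exact hd.trans ⟨1, by omega⟩
    have hle8 := Nat.le_of_dvd (by norm_num) hd8
    unfold Nat.ModEq at hm
    generalize Nat.card (Sylow 3 H) = m at hm hd8 hne hle8 ⊢
    interval_cases m <;> simp_all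
  set N := Subgroup.normalizer (((Subgroup.zpowers w).subgroupOf H : Subgroup H) : Set H)
  have hNidx : N.index = 4 := by
    rw [← hn, P.card_eq_index_normalizer]
    rfl
  have hrN : (⟨r, hrH⟩ : H) ∈ N := by
    refine Subgroup.mem_normalizer_iff.mpr fun x => ?_
    have key : ∀ y : G, y ∈ Subgroup.zpowers w → r * y * r⁻¹ ∈ Subgroup.zpowers w := by
      rintro y ⟨n, rfl⟩
      show r * w ^ n * r⁻¹ ∈ _
      rw [← conj_zpow, show r * w * r⁻¹ = w * w by rw [hrinv, hrw]]
      exact Subgroup.zpow_mem _ (Subgroup.mul_mem _ (Subgroup.mem_zpowers w) (Subgroup.mem_zpowers w)) n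
    refine ⟨fun hx => by simpa [Subgroup.mem_subgroupOf] using key x hx, fun hx => ?_⟩
    have hx' : r * (x : G) * r⁻¹ ∈ Subgroup.zpowers w := by simpa [Subgroup.mem_subgroupOf] using hx
    have h2 := key _ hx'
    rw [hrinv] at h2
    simp only [Subgroup.mem_subgroupOf]
    rwa [show r * (r * (x : G) * r) * r = x by
      rw [← mul_assoc, ← mul_assoc, hr, one_mul, mul_assoc, hr, mul_one]] at h2
  have hwN : (⟨w, hw⟩ : H) ∈ N := Subgroup.le_normalizer (Subgroup.mem_zpowers w)
  have how : orderOf (⟨w, hw⟩ : H) = 3 := by rw [Subgroup.orderOf_mk, h.orderOf_w]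
  have hor : orderOf (⟨r, hrH⟩ : H) = 2 := by
    rw [Subgroup.orderOf_mk]
    exact orderOf_eq_prime (by rw [pow_two, hr]) hr1
  have h6 : 6 ∣ Nat.card N := by
    have h2 := Subgroup.orderOf_dvd_natCard N hrN
    have h3 := Subgroup.orderOf_dvd_natCard N hwN
    rw [hor] at h2
    rw [how] at h3
    exact Nat.Coprime.mul_dvd_of_dvd_of_dvd (by norm_num : Nat.Coprime 2 3) h2 h3
  have h24 : Nat.card H = 24 := by
    have := N.index_mul_card
    rw [hNidx] at this
    obtain ⟨d, hd⟩ := h6
    have : 0 < Nat.card N := Nat.card_pos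
    omega
  have hN6 : Nat.card N = 6 := by
    have := N.index_mul_card
    rw [hNidx, h24] at this
    omega
  refine ⟨h24, equiv_perm_of_core_bot N ?_ hNidx (by rw [h24]; rfl)⟩
  by_contra hne
  set K := N.normalCore
  have hKle : K ≤ N := N.normalCore_le
  have hKd := Subgroup.card_dvd_of_le hKle
  rw [hN6] at hKd
  by_cases h3K : 3 ∣ Nat.card K
  · -- `w` lies in the core, so the core normalises
    have hsub : ((Subgroup.zpowers w).subgroupOf H) ≤ K := by
      obtain ⟨⟨x, hxK⟩, hx⟩ := exists_prime_orderOf_dvd_card' (G := K) 3 h3K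
      rw [Subgroup.orderOf_mk] at hx
      have hxN := hKle hxK
      have hxP : x ∈ (P : Subgroup H) := by
        have h1 : IsPGroup 3 (Subgroup.zpowers x) := IsPGroup.of_card (n := 1) (by rw [Nat.card_zpowers, hx, pow_one])
        have h2 := h1.to_sup_of_normal_right' P.2 (Subgroup.zpowers_le.mpr hxN)
        have h3 := P.3 h2 le_sup_right
        exact h3 ▸ (Subgroup.mem_sup_left (Subgroup.mem_zpowers x))
      have heq : Subgroup.zpowers x = (P : Subgroup H) := Subgroup.eq_of_le_of_card_ge (Subgroup.zpowers_le.mpr hxP) (by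
        rw [P.card_eq_multiplicity, hfac, pow_one, Nat.card_zpowers, hx])
      exact le_trans (le_of_eq heq.symm) (Subgroup.zpowers_le.mpr hxK)
    have hmem := (Subgroup.normalCore_normal N).conj_mem _ (hsub (show (⟨w, hw⟩ : H) ∈ _ from Subgroup.mem_zpowers w)) ⟨i, hi⟩
    have hxN := hKle hmem
    -- an element of order three in the normaliser lies in the Sylow subgroup
    have hco : orderOf ((⟨i, hi⟩ : H) * ⟨w, hw⟩ * (⟨i, hi⟩ : H)⁻¹) = 3 := by
      rw [← MulAut.conj_apply, MulEquiv.orderOf_eq, how]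
    have h1 : IsPGroup 3 (Subgroup.zpowers ((⟨i, hi⟩ : H) * ⟨w, hw⟩ * (⟨i, hi⟩ : H)⁻¹)) :=
      IsPGroup.of_card (n := 1) (by rw [Nat.card_zpowers, hco, pow_one])
    have h2 := h1.to_sup_of_normal_right' P.2 (Subgroup.zpowers_le.mpr hxN)
    have h3 := P.3 h2 le_sup_right
    have hmemP : ((⟨i, hi⟩ : H) * ⟨w, hw⟩ * (⟨i, hi⟩ : H)⁻¹) ∈ (P : Subgroup H) := h3 ▸ (Subgroup.mem_sup_left (Subgroup.mem_zpowers _))
    exact h.conj_not_mem hmemP
  · -- the core is central of order two
    have hK2 : Nat.card K = 2 := by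
      have hle6 := Nat.le_of_dvd (by norm_num) hKd
      have h1 : Nat.card K ≠ 1 := fun e => hne (Subgroup.card_eq_one.mp e)
      generalize Nat.card K = m at hKd h3K h1 hle6 ⊢
      interval_cases m <;> simp_all
    obtain ⟨⟨z, hz⟩, hzne⟩ : ∃ z : K, z ≠ 1 := by
      have : Nontrivial K := Finite.one_lt_card_iff_nontrivial.mp (by omega)
      exact exists_ne 1
    have hoz : orderOf z = 2 := by
      have := orderOf_dvd_natCard (⟨z, hz⟩ : K)
      rw [hK2, Subgroup.orderOf_mk] at this
      rcases (Nat.dvd_prime Nat.prime_two).mp this with e | e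
      · exact absurd (Subtype.ext (orderOf_eq_one_iff.mp e)) hzne
      · exact e
    have hzc : ∀ g : H, g * z = z * g := fun g => by
      have hm := (Subgroup.normalCore_normal N).conj_mem z hz g
      have hK : ∀ y ∈ K, y = 1 ∨ y = z := fun y hy => by
        by_contra hy'
        push Not at hy'
        have hc : 3 ≤ (K : Set H).ncard := by
          have hs : ({1, z, y} : Set H) ⊆ K := by
            rintro a (rfl | rfl | rfl)
            exacts [K.one_mem, hz, hy]
          refine le_trans ?_ (Set.ncard_le_ncard hs (Set.toFinite _))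
          rw [Set.ncard_insert_of_notMem (by
            simp only [Set.mem_insert_iff, Set.mem_singleton_iff]
            rintro (e | e)
            exacts [hzne (Subtype.ext e.symm), hy'.1 e.symm]),
            Set.ncard_pair hy'.2.symm]
        rw [← Nat.card_coe_set_eq, SetLike.coe_sort_coe, hK2] at hc
        omega
      rcases hK _ hm with e | e
      · exact absurd (Subtype.ext (conj_eq_one_iff.mp e)) hzne
      · exact (mul_inv_eq_iff_eq_mul.mp e)
    -- then the normaliser is generated by commuting elements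
    have hcomm : Commute (⟨w, hw⟩ : H) z := (hzc _)
    have hord : orderOf ((⟨w, hw⟩ : H) * z) = 6 := by
      rw [hcomm.orderOf_mul_eq_mul_orderOf_of_coprime (by rw [how, hoz]; norm_num), how, hoz]
    have hgen : Subgroup.zpowers ((⟨w, hw⟩ : H) * z) = N :=
      Subgroup.eq_of_le_of_card_ge (Subgroup.zpowers_le.mpr (N.mul_mem hwN (hKle hz))) (by rw [Nat.card_zpowers, hord, hN6])
    obtain ⟨a, ha⟩ : (⟨r, hrH⟩ : H) ∈ Subgroup.zpowers ((⟨w, hw⟩ : H) * z) := hgen ▸ hrN
    have hc : (⟨r, hrH⟩ : H) * ⟨w, hw⟩ = ⟨w, hw⟩ * ⟨r, hrH⟩ := by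
      rw [← ha]
      exact ((Commute.refl (⟨w, hw⟩ : H)).mul_left hcomm.symm).zpow_left a |>.eq
    have hc' : r * w = w * r := congrArg Subtype.val hc
    rw [hc', mul_assoc, hr, mul_one] at hrw
    exact h.hw1 (mul_eq_left.mp hrw.symm)

/-- A subgroup of order at most 60 containing a tetrahedral group and an element of order five is `A₅`. -/
theorem Tetra.equiv_alt_five [Finite G] (h : Tetra i j k w) (r : G) (hr : r ^ 5 = 1) (hr1 : r ≠ 1)
    (T H : Subgroup G) (hTH : T ≤ H) (hiT : i ∈ T) (hwT : w ∈ T) (hT : Nat.card T ≤ 12) (hrH : r ∈ H)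
    (hconj : r * i * r⁻¹ ∉ T) (hle : Nat.card H ≤ 60) :
    Nat.card H = 60 ∧ Nonempty (H ≃* alternatingGroup (Fin 5)) := by
  have : Fact (Nat.Prime 5) := ⟨Nat.prime_five⟩
  have hT12 := (h.equiv_alt_four T hiT hwT hT).1
  have h12 := Subgroup.card_dvd_of_le hTH
  rw [hT12] at h12
  have h5 := Subgroup.orderOf_dvd_natCard H hrH
  rw [orderOf_eq_prime hr hr1] at h5
  have h60 : Nat.card H = 60 := le_antisymm hle (Nat.le_of_dvd Nat.card_pos
    (Nat.Coprime.mul_dvd_of_dvd_of_dvd (by norm_num : Nat.Coprime 12 5) h12 h5))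
  set S := T.subgroupOf H
  have hS : Nat.card S = 12 := by rw [Nat.card_congr (Subgroup.subgroupOfEquivOfLe hTH).toEquiv, hT12]
  refine ⟨h60, equiv_alternating_of_core_bot (by norm_num) S ?_ ?_ (by rw [h60]; rfl)⟩
  swap
  · have := S.index_mul_card
    rw [hS, h60] at this
    omega
  by_contra hne
  obtain ⟨⟨x, hxK⟩, hx1⟩ : ∃ x : S.normalCore, x ≠ 1 := by
    have : Nontrivial S.normalCore := (Subgroup.nontrivial_iff_ne_bot _).mpr hne
    exact exists_ne 1
  have hKn := Subgroup.normalCore_normal S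
  have hiH : i ∈ H := hTH hiT
  suffices hiK : (⟨i, hiH⟩ : H) ∈ S.normalCore by
    have := S.normalCore_le (hKn.conj_mem _ hiK ⟨r, hrH⟩)
    exact hconj (by simpa [S, Subgroup.mem_subgroupOf] using this)
  have hwH : w ∈ H := hTH hwT
  -- rotate a non-identity element of the four group onto `i`
  have hrot : ∀ v : G, v ∈ h.four → v ≠ 1 → ∀ hv : v ∈ H, (⟨v, hv⟩ : H) ∈ S.normalCore →
      (⟨i, hiH⟩ : H) ∈ S.normalCore := by
    intro v hv4 hv1 hv hvK
    have conjw : ∀ a b : G, ∀ ha : a ∈ H, w * a = b * w → (⟨a, ha⟩ : H) ∈ S.normalCore →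
        ∃ hb : b ∈ H, (⟨b, hb⟩ : H) ∈ S.normalCore := fun a b ha hab haK => by
      have hb : b = w * a * w⁻¹ := by rw [hab, mul_inv_cancel_right]
      subst hb
      exact ⟨H.mul_mem (H.mul_mem hwH ha) (H.inv_mem hwH), hKn.conj_mem _ haK ⟨w, hwH⟩⟩
    have hkj : w * k = j * w := by
      calc w * k = w * (i * j) := by rw [h.hij]
        _ = k * (w * j) := by rw [← mul_assoc, h.hwi, mul_assoc]
        _ = j * w := by rw [h.hwj, ← mul_assoc, ← h.hji, mul_assoc j, h.hi, mul_one]
    rcases hv4 with rfl | rfl | rfl | rfl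
    · exact absurd rfl hv1
    · exact hvK
    · exact (conjw _ _ hv h.hwj hvK).2
    · obtain ⟨hj, hjK⟩ := conjw _ _ hv hkj hvK
      exact (conjw _ _ hj h.hwj hjK).2
  -- the centraliser of `i` in `T` is the four group
  have hxT : (x : G) ∈ T := S.normalCore_le hxK
  by_cases hc : (x : G) * i * (x : G)⁻¹ * i⁻¹ = 1
  · obtain ⟨C, hCdef⟩ : ∃ C, C = T ⊓ Subgroup.centralizer ({i} : Set G) := ⟨_, rfl⟩
    have hCle : C ≤ T := hCdef ▸ inf_le_left
    have hC4 : h.four ≤ C := by
      intro a ha
      rw [hCdef]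
      refine ⟨h.four_le hiT hwT ha, Subgroup.mem_centralizer_singleton_iff.mpr ?_⟩
      have hki : k * i = j := by rw [← h.hji, mul_assoc, h.hi, mul_one]
      have hik : i * k = j := by rw [← h.hij, ← mul_assoc, h.hi, one_mul]
      rcases ha with rfl | rfl | rfl | rfl
      · simp
      · rfl
      · rw [h.hij, h.hji]
      · rw [hki, hik]
    have hCT := Subgroup.card_dvd_of_le hCle
    have h4C := Subgroup.card_dvd_of_le hC4
    rw [h.card_four] at h4C
    rw [hT12] at hCT
    have hC : Nat.card C = 4 := by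
      rcases (show Nat.card C = 4 ∨ Nat.card C = 12 by
        obtain ⟨d, hd⟩ := h4C
        have := Nat.le_of_dvd (by norm_num) hCT
        have : 0 < Nat.card C := Nat.card_pos
        have hd3 : d = 1 ∨ d = 2 ∨ d = 3 := by omega
        rcases hd3 with rfl | rfl | rfl
        · exact Or.inl hd
        · rw [hd] at hCT; norm_num at hCT
        · exact Or.inr hd) with e | e
      · exact e
      · have hwC : w ∈ C := by
          rw [Subgroup.eq_of_le_of_card_ge hCle (by rw [hT12, e])]
          exact hwT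
        rw [hCdef] at hwC
        have := Subgroup.mem_centralizer_singleton_iff.mp hwC.2
        refine absurd ?_ h.conj_not_mem
        rw [← this, mul_inv_cancel_right]
        exact Subgroup.mem_zpowers w
    have hxC : (x : G) ∈ C := hCdef ▸ ⟨hxT, Subgroup.mem_centralizer_singleton_iff.mpr (by
      rw [mul_inv_eq_one, mul_inv_eq_iff_eq_mul] at hc; exact hc)⟩
    rw [← Subgroup.eq_of_le_of_card_ge hC4 (by rw [hC, h.card_four])] at hxC
    exact hrot _ hxC (fun e => hx1 (Subtype.ext (Subtype.ext e))) x.2 hxK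
  · have hxH := x.2
    have hm : (⟨_, H.mul_mem (H.mul_mem (H.mul_mem hxH hiH) (H.inv_mem hxH)) (H.inv_mem hiH)⟩ : H) ∈ S.normalCore := by
      have := S.normalCore.mul_mem hxK (hKn.conj_mem _ (S.normalCore.inv_mem hxK) ⟨i, hiH⟩)
      convert this using 1
      exact Subtype.ext (by simp [mul_assoc])
    refine hrot _ ?_ hc _ hm
    -- the four group is normal in `T`
    have hnorm : ∀ a ∈ h.four, (x : G) * a * (x : G)⁻¹ ∈ h.four := by
      have hN : T ≤ Subgroup.normalizer (h.four : Set G) := by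
        have hcl : Subgroup.closure {i, w} = T := by
          refine Subgroup.eq_of_le_of_card_ge ((Subgroup.closure_le _).mpr ?_) ?_
          · rintro a (rfl | rfl) <;> assumption
          · rw [hT12]
            exact Nat.le_of_dvd Nat.card_pos (h.twelve_dvd (Subgroup.subset_closure (Or.inl rfl)) (Subgroup.subset_closure (Or.inr rfl)))
        rw [← hcl, Subgroup.closure_le, Set.insert_subset_iff, Set.singleton_subset_iff]
        refine ⟨?_, ?_⟩
        · exact Subgroup.le_normalizer (show i ∈ h.four from Or.inr (Or.inl rfl))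
        · have hkj : w * k = j * w := by
            calc w * k = w * (i * j) := by rw [h.hij]
              _ = k * (w * j) := by rw [← mul_assoc, h.hwi, mul_assoc]
              _ = j * w := by rw [h.hwj, ← mul_assoc, ← h.hji, mul_assoc j, h.hi, mul_one]
          have hmap : ∀ b ∈ h.four, w * b * w⁻¹ ∈ h.four := by
            rintro b (rfl | rfl | rfl | rfl)
            · left; simp
            · right; right; right; rw [h.hwi, mul_inv_cancel_right]; rfl
            · right; left; rw [h.hwj, mul_inv_cancel_right]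
            · right; right; left; rw [hkj, mul_inv_cancel_right]
          refine Subgroup.mem_normalizer_iff.mpr fun b => ⟨hmap b, fun hb => ?_⟩
          have h2 := hmap _ (hmap _ hb)
          rwa [show w * (w * (w * b * w⁻¹) * w⁻¹) * w⁻¹ = (w * w * w) * b * (w * w * w)⁻¹ by simp [mul_assoc],
            h.hw, inv_one, one_mul, mul_one] at h2
      exact fun a ha => ((Subgroup.mem_normalizer_iff.mp (hN hxT)) a).mp ha
    exact h.four.mul_mem (hnorm i (Or.inr (Or.inl rfl))) (h.four.inv_mem (Or.inr (Or.inl rfl)))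

end CfsgLib.Classical
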