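import Cfsg.Agent.Lib.CharRep
import Mathlib.Tactic

/-!
# Character values at involutions and an arithmetic lemma
-/

set_option autoImplicit false

namespace CfsgLib.Core

open Cfsg

universe u

variable {G : Type u} [Group G] [Finite G]

/-- Character values at elements squaring to one are rational integers. -/
theorem exists_int_char_involution {χ : G → ℂ} (hχ : IsCharacter G χ) {t : G} (ht : t * t = 1) :
    ∃ z : ℤ, χ t = z := by
  obtain ⟨n, ρ, rfl⟩ := hχ
  obtain ⟨b, μ, -, hμ, hk⟩ := CfsgLib.Char.exists_rep_eigenbasis ρ t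
  have hord : orderOf t ∣ 2 := orderOf_dvd_of_pow_eq_one (by rw [pow_two, ht])
  have h1 : ∀ i, ∃ z : ℤ, μ i = z := fun i => by
    obtain ⟨c, hc⟩ := hord
    have h2 : μ i ^ 2 = 1 := by rw [hc, pow_mul, hμ, one_pow]
    rcases sq_eq_one_iff.1 h2 with h | h
    · exact ⟨1, by rw [h]; norm_num⟩
    · exact ⟨-1, by rw [h]; norm_num⟩
  choose z hz using h1
  refine ⟨∑ i, z i, ?_⟩
  have h3 := hk 1
  rw [pow_one] at h3
  rw [h3, Int.cast_sum]
  exact Finset.sum_congr rfl fun i _ => by rw [pow_one, hz]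

/-- The arithmetic behind the non-existence statement. -/
theorem no_solution_three_pow {a m d : ℕ} {s : ℤ} (ha : 1 ≤ a)
    (hm : (m : ℤ) = 4 * (3 ^ a) ^ 2 - 2 * 3 ^ a + 1) (hd : 1 ≤ d) (hs : s ^ 2 ≤ 4 * 3 ^ a)
    (he : (m : ℤ) * ((d : ℤ) - s) ^ 2 = 8 * (3 ^ a) ^ 2 * d * (d + 1)) : False := by
  set q : ℤ := 3 ^ a with hq
  have hq3 : 3 ≤ q := le_trans (by norm_num) (pow_le_pow_right₀ (by norm_num : (1 : ℤ) ≤ 3) ha)
  have hd' : (1 : ℤ) ≤ (d : ℤ) := by exact_mod_cast hd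
  have hmq : (m : ℤ) ≤ 4 * q ^ 2 := by nlinarith
  have h1 : 4 * q ^ 2 * (2 * (d : ℤ) * (d + 1)) ≤ 4 * q ^ 2 * ((d : ℤ) - s) ^ 2 := by
    nlinarith [mul_le_mul_of_nonneg_right hmq (sq_nonneg ((d : ℤ) - s))]
  have h2 : 2 * (d : ℤ) * (d + 1) ≤ ((d : ℤ) - s) ^ 2 := le_of_mul_le_mul_left h1 (by positivity)
  have hd2 : (d : ℤ) ^ 2 ≤ 24 * q := by nlinarith [sq_nonneg ((d : ℤ) + 2 * s)]
  -- the divisibility
  have hdvd : m ∣ d * (d + 1) := by
    have hz : (m : ℤ) ∣ ((8 * (3 ^ a) ^ 2 : ℕ) : ℤ) * ((d * (d + 1) : ℕ) : ℤ) :=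
      ⟨((d : ℤ) - s) ^ 2, by push_cast; rw [he, hq]; ring⟩
    rw [← Nat.cast_mul, Int.natCast_dvd_natCast] at hz
    refine (Nat.Coprime.dvd_of_dvd_mul_left ?_ hz)
    have h31 : m % 3 = 1 := by
      have : (m : ℤ) % 3 = 1 := by
        obtain ⟨b, rfl⟩ : ∃ b, a = b + 1 := ⟨a - 1, by omega⟩
        have : (m : ℤ) = 1 + 3 * (12 * ((3 : ℤ) ^ b) ^ 2 - 2 * 3 ^ b) := by
          rw [hm, hq]; ring
        rw [this, Int.add_mul_emod_self_left]
        norm_num
      omega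
    have h21 : m % 2 = 1 := by
      have : (m : ℤ) % 2 = 1 := by
        rw [hm, show 4 * q ^ 2 - 2 * q + 1 = 1 + 2 * (2 * q ^ 2 - q) by ring, Int.add_mul_emod_self_left]
        norm_num
      omega
    refine Nat.Coprime.mul_right ?_ ?_
    · rw [show (8 : ℕ) = 2 ^ 3 by norm_num]
      exact (Nat.prime_two.coprime_iff_not_dvd.2 (by omega)).symm.pow_right 3
    · exact ((Nat.prime_three.coprime_iff_not_dvd.2 (by omega)).symm.pow_right a).pow_right 2
  have hle : (m : ℤ) ≤ d * (d + 1) := by exact_mod_cast Nat.le_of_dvd (by positivity) hdvd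
  have hq20 : q ≤ 12 := by nlinarith
  have ha2 : a ≤ 2 := by
    by_contra h
    have : (27 : ℤ) ≤ q := le_trans (by norm_num) (pow_le_pow_right₀ (by norm_num : (1 : ℤ) ≤ 3) (show 3 ≤ a by omega))
    omega
  have hmp : m.Prime ∧ d + 1 < m := by
    interval_cases a
    · have : m = 31 := by norm_num [hq] at hm; exact_mod_cast hm
      subst this
      have : (d : ℤ) ≤ 9 := by norm_num [hq] at hd2; nlinarith
      refine ⟨by norm_num, ?_⟩
      omega
    · have : m = 307 := by norm_num [hq] at hm; exact_mod_cast hm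
      subst this
      have : (d : ℤ) ≤ 15 := by norm_num [hq] at hd2; nlinarith
      refine ⟨by norm_num, ?_⟩
      omega
  rcases hmp.1.dvd_mul.1 hdvd with h | h <;>
    have := Nat.le_of_dvd (by omega) h <;> omega

end CfsgLib.Core
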