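import Cfsg.Agent.Lib.CoreHall
import Cfsg.Agent.Lib.CorePrimitive
import Cfsg.Agent.Lib.CoreFitting

/-!
# Soluble groups in which `p`-subgroups of the same order are conjugate
-/

set_option autoImplicit false

universe u

namespace CfsgLib.Core.ConjByOrder

open scoped Pointwise
open Subgroup

variable {G : Type u} [Group G]

/-- Subgroups of the same order of a cyclic group are equal. -/
theorem eq_of_card_eq_cyclic [Finite G] {C P Q : Subgroup G} [IsCyclic C] (hP : P ≤ C) (hQ : Q ≤ C)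
    (h : Nat.card P = Nat.card Q) : P = Q := by
  classical
  letI := Fintype.ofFinite C
  set k := Nat.card Q with hk
  have key : ∀ R : Subgroup G, R ≤ C → Nat.card R = k →
      (fun x : C => (x : G)) ⁻¹' (R : Set G) = {x : C | x ^ k = 1} := by
    intro R hR hRk
    have hsub : (fun x : C => (x : G)) ⁻¹' (R : Set G) ⊆ {x : C | x ^ k = 1} := fun x hx =>
      Subtype.ext (by
        show ((x : G)) ^ k = 1
        rw [← hRk]
        exact congrArg Subtype.val (pow_card_eq_one' (x := (⟨x, hx⟩ : R))))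
    refine Set.eq_of_subset_of_ncard_le hsub ?_ (Set.toFinite _)
    have h1 : ((fun x : C => (x : G)) ⁻¹' (R : Set G)).ncard = Nat.card (R.subgroupOf C) :=
      (Nat.card_coe_set_eq _).symm
    rw [h1, card_subgroupOf_of_le hR, hRk, Set.ncard_eq_toFinset_card']
    refine le_trans (le_of_eq ?_) (IsCyclic.card_pow_eq_one_le (α := C) (Nat.card_pos (α := Q)))
    congr 1
    ext x
    simp
  ext x
  constructor
  · intro hx
    have := (key P hP h).le (show (⟨x, hP hx⟩ : C) ∈ _ from hx)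
    exact (key Q hQ rfl).ge this
  · intro hx
    have := (key Q hQ rfl).le (show (⟨x, hQ hx⟩ : C) ∈ _ from hx)
    exact (key P hP h).ge this

/-- All `p`-subgroups of the same order are conjugate, for every prime `p`. -/
def PConj (G : Type u) [Group G] : Prop :=
  ∀ p : ℕ, p.Prime → ∀ H K : Subgroup G, IsPGroup p H → IsPGroup p K →
    Nat.card H = Nat.card K → ∃ g : G, MulAut.conj g • H = K

theorem main : ∀ (m : ℕ) (G : Type u) [Group G] [Finite G] [Group.IsSolvable G], Nat.card G = m →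
    PConj G → ∀ r : ℕ, (∀ p : ℕ, p.Prime → p ≠ r → ∀ P : Sylow p G, IsCyclic P) →
    ∀ H K : Subgroup G, Nat.card H = Nat.card K → ∃ g : G, MulAut.conj g • H = K := by
  intro m
  induction m using Nat.strong_induction_on with
  | _ m ih =>
  intro G _ _ _ hm hD r hcyc H K hHK
  subst hm
  rcases subsingleton_or_nontrivial G with hG | hG
  · exact ⟨1, Subsingleton.elim _ _⟩
  obtain ⟨N, hNn, hN0, -, hNmin⟩ := exists_minimal_normal_le (N := (⊤ : Subgroup G)) top_ne_bot
  haveI := hNn
  obtain ⟨q, hq, hNq⟩ := exists_isPGroup_of_minimal_normal hN0 hNmin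
  haveI := Fact.mk hq
  obtain ⟨a, ha⟩ := IsPGroup.iff_card.1 hNq
  set f := QuotientGroup.mk' N with hf
  have hfs : Function.Surjective f := QuotientGroup.mk'_surjective N
  -- the hypotheses pass to the quotient
  have hDq : PConj (G ⧸ N) := by
    intro p hp P Q hP hQ hPQ
    haveI := Fact.mk hp
    have hlift : ∀ R : Subgroup (G ⧸ N), IsPGroup p R → ∃ B : Subgroup G, IsPGroup p B ∧
        B.map f = R ∧ Nat.card B = if p = q then Nat.card N * Nat.card R else Nat.card R := by
      intro R hR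
      have hle : N ≤ R.comap f := (QuotientGroup.ker_mk' N).ge.trans (Subgroup.ker_le_comap f R)
      have hmap : (R.comap f).map f = R := Subgroup.map_comap_eq_self_of_surjective hfs R
      have hrel : N.relIndex (R.comap f) = Nat.card R := by
        have h2 := Subgroup.relIndex_ker (f := f) (K := R.comap f)
        rwa [QuotientGroup.ker_mk', hmap] at h2
      obtain ⟨i, hi⟩ := IsPGroup.iff_card.1 hR
      by_cases hpq : p = q
      · subst hpq
        refine ⟨R.comap f, IsPGroup.of_card (n := a + i) ?_, hmap, ?_⟩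
        · rw [← card_mul_relIndex hle, hrel, ha, hi, pow_add]
        · rw [if_pos rfl, ← card_mul_relIndex hle, hrel]
      · obtain ⟨B, hBT, hBN, -, hBc⟩ := exists_complement_in hle (le_normalizer_normal _)
          (by rw [hrel, ha, hi]; exact (Nat.coprime_primes hq hp).2 (Ne.symm hpq) |>.pow a i)
        refine ⟨B, IsPGroup.of_card (n := i) (by rw [hBc, hrel, hi]), ?_, by rw [if_neg hpq, hBc, hrel]⟩
        have hmap2 := hmap
        rw [← hBN, Subgroup.map_sup, QuotientGroup.map_mk'_self, sup_bot_eq] at hmap2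
        exact hmap2
    obtain ⟨B, hB, hBP, hBc⟩ := hlift P hP
    obtain ⟨B', hB', hBQ, hBc'⟩ := hlift Q hQ
    obtain ⟨g, hg⟩ := hD p hp B B' hB hB' (by rw [hBc, hBc', hPQ])
    exact ⟨f g, by rw [← hBP, ← map_conj_smul, hg, hBQ]⟩
  have hcycq : ∀ p : ℕ, p.Prime → p ≠ r → ∀ P : Sylow p (G ⧸ N), IsCyclic P := by
    intro p hp hpr P
    haveI := Fact.mk hp
    obtain ⟨S, rfl⟩ := Sylow.mapSurjective_surjective hfs p P
    haveI := hcyc p hp hpr S
    exact isCyclic_of_surjective (f.subgroupMap (S : Subgroup G)) (f.subgroupMap_surjective _)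
  have hltq : Nat.card (G ⧸ N) < Nat.card G := card_quotient_lt hN0
  haveI : Group.IsSolvable (G ⧸ N) := Group.isSolvable_of_surjective hfs
  have hsol : ∀ U : Subgroup G, Group.IsSolvable U := fun U => inferInstance
  by_cases hdvd : Nat.card N ∣ Nat.card H
  · -- both contain `N`
    have hle : ∀ U : Subgroup G, Nat.card N ∣ Nat.card U → N ≤ U := by
      intro U hU
      obtain ⟨R, hR⟩ := Sylow.exists_subgroup_card_pow_prime (G := U) q (n := a) (ha ▸ hU)
      have hRc : Nat.card (R.map U.subtype) = Nat.card N := by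
        rw [Subgroup.card_map_of_injective U.subtype_injective, hR, ha]
      obtain ⟨g, hg⟩ := hD q hq N (R.map U.subtype) hNq ((IsPGroup.of_card hR).map _) hRc.symm
      rw [conj_smul_of_normal] at hg
      exact hg.le.trans (Subgroup.map_subtype_le _)
    have hNH := hle H hdvd
    have hNK := hle K (hHK ▸ hdvd)
    have hc : Nat.card (H.map f) = Nat.card (K.map f) := by
      have h1 := card_map_mk' (N := N) H
      have h2 := card_map_mk' (N := N) K
      rw [inf_eq_left.2 hNH] at h1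
      rw [inf_eq_left.2 hNK] at h2
      exact Nat.eq_of_mul_eq_mul_right Nat.card_pos ((h1.trans hHK).trans h2.symm)
    obtain ⟨g', hg'⟩ := ih _ hltq (G ⧸ N) rfl hDq r hcycq _ _ hc
    obtain ⟨g, rfl⟩ := hfs g'
    refine ⟨g, ?_⟩
    have h3 := congrArg (Subgroup.comap f) hg'
    rwa [← map_conj_smul, comap_mk'_map, comap_mk'_map, sup_eq_left.2 hNK, sup_eq_left.2 ?_] at h3
    exact (conj_smul_of_normal g N).ge.trans (conj_smul_le_conj_smul.2 hNH)
  -- the `q`-subgroups of `H` and `K` lie in `N`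
  have hqle : ∀ U : Subgroup G, ¬ Nat.card N ∣ Nat.card U → ∀ P : Subgroup G, IsPGroup q P →
      P ≤ U → P ≤ N := by
    intro U hU P hP hPU
    obtain ⟨i, hi⟩ := IsPGroup.iff_card.1 hP
    have hia : i ≤ a := by
      by_contra h
      exact hU (ha ▸ (pow_dvd_pow q (show a ≤ i by omega)).trans (hi ▸ Subgroup.card_dvd_of_le hPU))
    obtain ⟨R, hR⟩ := Sylow.exists_subgroup_card_pow_prime (G := N) q (n := i)
      (ha ▸ pow_dvd_pow q hia)
    obtain ⟨g, hg⟩ := hD q hq (R.map N.subtype) P ((IsPGroup.of_card hR).map _) hP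
      (by rw [Subgroup.card_map_of_injective N.subtype_injective, hR, hi])
    rw [← hg]
    exact (conj_smul_le_conj_smul.2 (Subgroup.map_subtype_le R)).trans (conj_smul_of_normal g N).le
  -- the `q`-part
  have hpart : ∀ U : Subgroup G, ¬ Nat.card N ∣ Nat.card U →
      Nat.card (U ⊓ N : Subgroup G) = q ^ (Nat.card U).factorization q := by
    intro U hU
    obtain ⟨S⟩ := (inferInstance : Nonempty (Sylow q U))
    have hle : (S : Subgroup U).map U.subtype ≤ U ⊓ N := le_inf (Subgroup.map_subtype_le _)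
      (hqle U hU _ (S.2.map _) (Subgroup.map_subtype_le _))
    refine Nat.dvd_antisymm ?_ ?_
    · obtain ⟨i, hi⟩ := IsPGroup.iff_card.1 (hNq.to_le (inf_le_right : U ⊓ N ≤ N))
      rw [hi]
      exact pow_dvd_pow q ((hq.pow_dvd_iff_le_factorization Nat.card_pos.ne').1
        (hi ▸ Subgroup.card_dvd_of_le inf_le_left))
    · rw [← S.card_eq_multiplicity, ← Subgroup.card_map_of_injective U.subtype_injective]
      exact Subgroup.card_dvd_of_le hle
  have hdvdK : ¬ Nat.card N ∣ Nat.card K := hHK ▸ hdvd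
  by_cases hqr : q = r
  swap
  · -- `N` has order `q`, prime to `|H|`
    have hNc : Nat.card N = q := by
      obtain ⟨S, hS⟩ := hNq.exists_le_sylow
      haveI := hcyc q hq hqr S
      haveI : IsCyclic N := Subgroup.isCyclic_of_le hS
      obtain ⟨x, hx⟩ := IsCyclic.exists_generator (α := N)
      have hxN : x ^ q = 1 := by
        obtain ⟨p, hp, hpN⟩ := exists_prime_pow_eq_one_of_minimal_normal hN0 hNmin
        obtain rfl : p = q := by
          haveI : Nontrivial N := (Subgroup.nontrivial_iff_ne_bot N).2 hN0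
          obtain ⟨y, hy⟩ := exists_ne (1 : N)
          haveI := Fact.mk hp
          have hyo := orderOf_eq_prime (Subtype.ext (hpN y y.2) : y ^ p = 1) hy
          have hd : p ∣ q ^ a := hyo ▸ ha ▸ orderOf_dvd_natCard y
          exact (Nat.prime_dvd_prime_iff_eq hp hq).1 (hp.dvd_of_dvd_pow hd)
        exact Subtype.ext (hpN x x.2)
      rw [← orderOf_eq_card_of_forall_mem_zpowers hx]
      refine ((Nat.dvd_prime hq).1 (orderOf_dvd_of_pow_eq_one hxN)).resolve_left fun e => hN0 ?_
      refine Subgroup.eq_bot_of_card_eq _ ?_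
      rw [← orderOf_eq_card_of_forall_mem_zpowers hx, e]
    have hnq : ¬ q ∣ Nat.card H := fun h => hdvd (hNc ▸ h)
    have hnqK : ¬ q ∣ Nat.card K := hHK ▸ hnq
    have hcop : ∀ U : Subgroup G, ¬ q ∣ Nat.card U → (Nat.card U).Coprime (Nat.card N) :=
      fun U hU => by rw [hNc]; exact (hq.coprime_iff_not_dvd.2 hU).symm
    have hc : Nat.card (H.map f) = Nat.card (K.map f) := by
      have h1 := card_map_mk' (N := N) H
      have h2 := card_map_mk' (N := N) K
      rw [inf_comm, inf_eq_bot_of_coprime (hcop H hnq), Subgroup.card_bot, mul_one] at h1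
      rw [inf_comm, inf_eq_bot_of_coprime (hcop K hnqK), Subgroup.card_bot, mul_one] at h2
      rw [h1, h2, hHK]
    obtain ⟨g', hg'⟩ := ih _ hltq (G ⧸ N) rfl hDq r hcycq _ _ hc
    obtain ⟨g, rfl⟩ := hfs g'
    have h3 := congrArg (Subgroup.comap f) hg'
    rw [← map_conj_smul, comap_mk'_map, comap_mk'_map] at h3
    obtain ⟨k, -, hk⟩ := exists_conj_eq_of_coprime (A := K) (K := N) (B := MulAut.conj g • H)
      (le_normalizer_normal K) (hcop K hnqK) (Or.inl (hsol K)) (h3 ▸ le_sup_left)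
      (by rw [card_conj_smul, hHK])
    refine ⟨k⁻¹ * g, ?_⟩
    rw [← conj_smul_conj_smul, ← hk, conj_smul_conj_smul, inv_mul_cancel, conj_one_smul]
  subst hqr
  -- the common part in `N`
  obtain ⟨g, hg⟩ := hD q hq (H ⊓ N) (K ⊓ N) (hNq.to_le inf_le_right) (hNq.to_le inf_le_right)
    (by rw [hpart H hdvd, hpart K hdvdK, hHK])
  set H₁ := MulAut.conj g • H with hH₁
  set W := K ⊓ N with hW
  have hH₁c : Nat.card H₁ = Nat.card K := by rw [hH₁, card_conj_smul, hHK]
  have hH₁W : H₁ ⊓ N = W := by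
    refine (eq_of_le_of_card_le ?_ (le_of_eq ?_)).symm
    · exact le_inf (hg.ge.trans (conj_smul_le_conj_smul.2 inf_le_left)) inf_le_right
    · rw [hpart H₁ (hH₁c ▸ hdvdK), hW, hpart K hdvdK, hH₁c]
  have hnorm : ∀ U : Subgroup G, U ⊓ N = W → U ≤ Subgroup.normalizer (W : Set G) := fun U hU => by
    rw [← hU]
    exact fun x hx => Subgroup.mem_normalizer_fintype fun y hy =>
      ⟨U.mul_mem (U.mul_mem hx hy.1) (U.inv_mem hx), hNn.conj_mem y hy.2 x⟩
  have hsplit : ∀ U : Subgroup G, U ⊓ N = W → Nat.card U = Nat.card K → ∃ B : Subgroup G,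
      B ≤ U ∧ B ⊔ W = U ∧ ¬ q ∣ Nat.card B ∧ Nat.card B * Nat.card W = Nat.card K := by
    intro U hU hUc
    have hWU : W ≤ U := hU ▸ inf_le_left
    have hWc : Nat.card W = q ^ (Nat.card U).factorization q := by
      rw [hW, hpart K hdvdK, hUc]
    have h1 := card_mul_relIndex hWU
    have hnd : ¬ q ∣ W.relIndex U := fun hd => by
      have h2 : q ^ ((Nat.card U).factorization q + 1) ∣ Nat.card U := by
        rw [pow_succ, ← hWc]
        exact (mul_dvd_mul_left _ hd).trans h1.dvd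
      have := (hq.pow_dvd_iff_le_factorization Nat.card_pos.ne').1 h2
      omega
    obtain ⟨B, hB1, hB2, -, hB4⟩ := exists_complement_in hWU (hnorm U hU)
      (by rw [hWc]; exact (hq.coprime_iff_not_dvd.2 hnd).pow_left _)
    exact ⟨B, hB1, hB2, hB4 ▸ hnd, by rw [hB4, mul_comm, h1, hUc]⟩
  obtain ⟨H', hH'1, hH'2, hH'3, hH'4⟩ := hsplit H₁ hH₁W hH₁c
  obtain ⟨K', hK'1, hK'2, hK'3, hK'4⟩ := hsplit K rfl rfl
  set S := Subgroup.normalizer (W : Set G)
  have hpi : ∀ B : Subgroup G, ¬ q ∣ Nat.card B → IsPiNat ({q}ᶜ : Set ℕ) (Nat.card B) := fun B hB =>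
    (isPiNat_compl_singleton_iff hq).2 (hq.coprime_iff_not_dvd.2 hB).symm
  obtain ⟨Z₁, hZ₁, hH'Z⟩ := exists_isHallIn_ge (hsol S) (hH'1.trans (hnorm H₁ hH₁W)) (hpi H' hH'3)
  obtain ⟨Z, hZ, hK'Z⟩ := exists_isHallIn_ge (hsol S) (hK'1.trans (hnorm K rfl)) (hpi K' hK'3)
  obtain ⟨s, hs, hsZ⟩ := isHallIn_conj (hsol S) hZ₁ hZ
  have hH'Z' : MulAut.conj s • H' ≤ Z := hsZ ▸ conj_smul_le_conj_smul.2 hH'Z
  have hqZ : ¬ q ∣ Nat.card Z := fun h => hZ.2.1 q hq h rfl
  have hqG : q ∣ Nat.card G :=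
    (dvd_pow_self q fun e => hN0 (Subgroup.eq_bot_of_card_eq _ (by rw [ha, e, pow_zero]))).trans
      (ha ▸ N.card_subgroup_dvd_card)
  have hZlt : Nat.card Z < Nat.card G :=
    lt_of_le_of_ne (Subgroup.card_le_card_group Z) fun e => hqZ (e ▸ hqG)
  have hcycZ : ∀ p : ℕ, p.Prime → p ≠ q → ∀ P : Sylow p Z, IsCyclic P := by
    intro p hp hpq P
    haveI := Fact.mk hp
    obtain ⟨T, hT⟩ := (P.2.map Z.subtype).exists_le_sylow
    haveI := hcyc p hp hpq T
    exact ((P : Subgroup Z).equivMapOfInjective _ Z.subtype_injective).isCyclic.2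
      (Subgroup.isCyclic_of_le hT)
  have hDZ : PConj Z := by
    intro p hp P Q hP hQ hPQ
    haveI := Fact.mk hp
    by_cases hpq : p = q
    · subst hpq
      have htriv : ∀ R : Subgroup Z, IsPGroup p R → R = ⊥ := by
        intro R hR
        obtain ⟨i, hi⟩ := IsPGroup.iff_card.1 hR
        refine Subgroup.eq_bot_of_card_eq _ ?_
        rcases Nat.eq_zero_or_pos i with rfl | hi0
        · rw [hi, pow_zero]
        · exact absurd ((dvd_pow_self p hi0.ne').trans (hi ▸ R.card_subgroup_dvd_card)) hqZ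
      exact ⟨1, by rw [htriv P hP, htriv Q hQ, conj_one_smul]⟩
    obtain ⟨S₁, hS₁⟩ := hP.exists_le_sylow
    obtain ⟨S₂, hS₂⟩ := hQ.exists_le_sylow
    obtain ⟨z, hz⟩ := MulAction.exists_smul_eq Z S₁ S₂
    haveI := hcycZ p hp hpq S₂
    refine ⟨z, eq_of_card_eq_cyclic (C := (S₂ : Subgroup Z)) ?_ hS₂ (by rw [card_conj_smul, hPQ])⟩
    rw [← hz, Sylow.coe_subgroup_smul]
    exact conj_smul_le_conj_smul.2 hS₁
  haveI := hsol Z
  obtain ⟨z, hz⟩ := ih _ hZlt Z rfl hDZ q hcycZ ((MulAut.conj s • H').subgroupOf Z) (K'.subgroupOf Z)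
    (by rw [card_subgroupOf_of_le hH'Z', card_subgroupOf_of_le hK'Z, card_conj_smul]
        exact Nat.eq_of_mul_eq_mul_right Nat.card_pos (hH'4.trans hK'4.symm))
  have hz' : MulAut.conj (z : G) • MulAut.conj s • H' = K' :=
    map_subtype_conj_smul_subgroupOf hH'Z' hK'Z hz
  refine ⟨(z : G) * s * g, ?_⟩
  rw [← conj_smul_conj_smul, ← hH₁, ← hH'2, Subgroup.smul_sup,
    conj_smul_of_mem_normalizer (S.mul_mem (hZ.1 z.2) hs), ← conj_smul_conj_smul, hz', hK'2]

end CfsgLib.Core.ConjByOrder
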