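import Cfsg.Agent.Lib.TransferApps
import Cfsg.Agent.Lib.ZStarTwoGroup
import Cfsg.Agent.Lib.CoreBasic

/-!
# `p`-groups inside groups with conjugate subgroups of equal order
-/

set_option autoImplicit false

universe u

namespace CfsgLib.Core.ConjSub

open Subgroup
open scoped commutatorElement

variable {G : Type u} [Group G] [Finite G] {p : ℕ} [hp : Fact p.Prime]

theorem dichotomy (hG : IsPGroup p G) :
    (∃ E : Subgroup G, IsMulCommutative E ∧ (∀ e ∈ E, e ^ p = 1) ∧ Nat.card E = p ^ 2) ∨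
      IsCyclic G ∨ (p = 2 ∧ ∃ n : ℕ, Nonempty (G ≃* QuaternionGroup (2 ^ (n + 1)))) := by
  by_cases hc : IsCyclic G
  · exact Or.inr (Or.inl hc)
  by_cases hp2 : p = 2
  · subst hp2
    haveI : Nontrivial G := not_subsingleton_iff_nontrivial.mp fun h => hc isCyclic_of_subsingleton
    obtain ⟨⟨c, hc'⟩, hc1⟩ := exists_prime_orderOf_dvd_card' (G := center G) 2 (by
      haveI := hG.center_nontrivial
      obtain ⟨a, ha⟩ := IsPGroup.iff_card.mp (hG.to_subgroup (center G))
      rw [ha]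
      refine dvd_pow_self 2 fun h0 => ?_
      rw [h0, pow_zero] at ha
      exact absurd ha (Finite.one_lt_card).ne')
    rw [← Subgroup.orderOf_coe] at hc1
    by_cases huniq : ∀ t : G, orderOf t = 2 → t = c
    · rcases CfsgLib.TwoGroup.cyclic_or_quaternion hG huniq with h | h
      · exact absurd h hc
      · exact Or.inr (Or.inr ⟨rfl, h⟩)
    push Not at huniq
    obtain ⟨t, ht, htc⟩ := huniq
    have hcz : ∀ g : G, Commute c g := fun g => (Subgroup.mem_center_iff.mp hc' g).symm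
    haveI : (zpowers c).Normal := ⟨fun x hx g => by
      rwa [Subgroup.mem_center_iff.mp ((zpowers_le.mpr hc') hx) g, mul_inv_cancel_right]⟩
    have hc2 : c ^ 2 = 1 := hc1 ▸ pow_orderOf_eq_one c
    have ht2 : t ^ 2 = 1 := ht ▸ pow_orderOf_eq_one t
    have hmem : ∀ e ∈ zpowers t ⊔ zpowers c, e ^ 2 = 1 := by
      intro e he
      obtain ⟨a, ha, b, hb, rfl⟩ := mem_sup_of_normal_right.mp he
      obtain ⟨i, rfl⟩ := mem_powers_iff_mem_zpowers.mpr ha
      obtain ⟨j, rfl⟩ := mem_powers_iff_mem_zpowers.mpr hb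
      show (t ^ i * c ^ j) ^ 2 = 1
      rw [((hcz t).symm.pow_pow i j).mul_pow, ← pow_mul, ← pow_mul, mul_comm i, mul_comm j,
        pow_mul, pow_mul, hc2, ht2, one_pow, one_pow, mul_one]
    refine Or.inl ⟨zpowers t ⊔ zpowers c, ⟨⟨fun a b => ?_⟩⟩, hmem, ?_⟩
    · apply Subtype.ext
      show (a : G) * b = b * a
      have ha := hmem a a.2; have hb := hmem b b.2; have hab := hmem _ (mul_mem a.2 b.2)
      rw [sq, mul_eq_one_iff_eq_inv] at ha hb hab
      rw [hab, mul_inv_rev, ← ha, ← hb]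
    · have hdvd : Nat.card ↥(zpowers t ⊔ zpowers c) ∣ 2 * 2 := by
        have := CfsgLib.Core.card_sup_dvd_mul (A := zpowers t) (K := zpowers c)
          le_normalizer_of_normal
        rwa [Nat.card_zpowers, Nat.card_zpowers, ht, hc1] at this
      have hne : zpowers t ≠ zpowers t ⊔ zpowers c := fun h => by
        have h2 : c ∈ zpowers t := h.ge (mem_sup_right (mem_zpowers c))
        obtain ⟨i, hi⟩ := mem_powers_iff_mem_zpowers.mpr h2
        change t ^ i = c at hi
        rw [pow_eq_pow_mod i ht2] at hi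
        rcases Nat.mod_two_eq_zero_or_one i with h | h <;> rw [h] at hi
        · rw [pow_zero] at hi
          exact absurd (orderOf_one.symm.trans ((congrArg orderOf hi).trans hc1)) (by norm_num)
        · exact htc ((pow_one t).symm.trans hi)
      have hlt : 2 < Nat.card ↥(zpowers t ⊔ zpowers c) := by
        rw [← ht, ← Nat.card_zpowers]
        exact lt_of_le_of_ne (card_le_of_le le_sup_left) fun h =>
          hne (CfsgLib.Core.eq_of_le_of_card_le le_sup_left h.ge)
      have hle := Nat.le_of_dvd (by norm_num) hdvd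
      generalize Nat.card ↥(zpowers t ⊔ zpowers c) = N at hdvd hlt hle
      interval_cases N <;> simp_all
  · obtain ⟨A, -, hA, hAc⟩ := CfsgLib.Transfer.exists_normal_rank_two hp2 hG hc
    exact Or.inl ⟨A, hA.1, hA.2, hAc⟩

/-- If all abelian subgroups of order `p ^ 2` look alike and one is elementary, the exponent is `p`. -/
theorem exponent_of_conj {P : Subgroup G} (hP : IsPGroup p P)
    (hconj : ∀ A B : Subgroup G, IsMulCommutative ↥A → IsMulCommutative ↥B → IsPGroup p A →
      IsPGroup p B → Nat.card ↥A = Nat.card ↥B → ∃ g : G, B = A.map (MulAut.conj g).toMonoidHom)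
    {E : Subgroup P} (hEc : IsMulCommutative E) (hE : ∀ e ∈ E, e ^ p = 1)
    (hcard : Nat.card E = p ^ 2) : ∀ x ∈ P, x ^ p = 1 := by
  intro x hx
  obtain ⟨k, hk⟩ := IsPGroup.iff_orderOf.mp hP ⟨x, hx⟩
  rw [← Subgroup.orderOf_coe] at hk
  change orderOf x = p ^ k at hk
  by_contra hxp
  have hk2 : 2 ≤ k := by
    by_contra h
    exact hxp (orderOf_dvd_iff_pow_eq_one.mp
      (hk ▸ (pow_dvd_pow p (show k ≤ 1 by omega)).trans (pow_one p).dvd))
  set y := x ^ p ^ (k - 2) with hy
  have hyo : orderOf y = p ^ 2 := by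
    have h1 : p ^ (k - 2) ∣ orderOf x := hk ▸ pow_dvd_pow p (by omega)
    rw [hy, orderOf_pow_of_dvd (pow_pos hp.out.pos _).ne' h1, hk, Nat.pow_div (by omega) hp.out.pos]
    congr 1; omega
  have hEp : IsPGroup p ↥(E.map P.subtype) := (hP.to_subgroup E).map P.subtype
  haveI := hEc
  obtain ⟨g, hg⟩ := hconj (E.map P.subtype) (zpowers y) inferInstance inferInstance hEp
    (IsPGroup.of_card (by rw [Nat.card_zpowers, hyo]))
    (by rw [card_map_of_injective P.subtype_injective, hcard, Nat.card_zpowers, hyo])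
  obtain ⟨w, ⟨e, he, rfl⟩, hw⟩ := hg.le (mem_zpowers y)
  have h1 : y ^ p = 1 := by
    rw [← hw]
    show (MulAut.conj g (e : G)) ^ p = 1
    rw [← map_pow, ← SubgroupClass.coe_pow, hE e he, OneMemClass.coe_one, map_one]
  have h2 := Nat.le_of_dvd hp.out.pos (hyo ▸ orderOf_dvd_of_pow_eq_one h1)
  have := hp.out.two_le
  nlinarith

theorem quaternion_two_subgroups {n : ℕ} (hn : 1 ≤ n) :
    ∃ A B : Subgroup (QuaternionGroup (2 ^ (n + 1))), IsCyclic A ∧ ¬ IsCyclic B ∧
      Nat.card A = Nat.card B := by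
  haveI : NeZero (2 ^ (n + 1)) := ⟨by positivity⟩
  haveI : Fact (Nat.Prime 2) := ⟨Nat.prime_two⟩
  have hcard : Nat.card (QuaternionGroup (2 ^ (n + 1))) = 2 ^ (n + 3) := by
    rw [Nat.card_eq_fintype_card, QuaternionGroup.card]; ring
  have hP : IsPGroup 2 (QuaternionGroup (2 ^ (n + 1))) := IsPGroup.of_card hcard
  have h4 : 8 ≤ 2 * 2 ^ (n + 1) :=
    calc 8 = 2 * 2 ^ 2 := by norm_num
      _ ≤ 2 * 2 ^ (n + 1) := Nat.mul_le_mul_left _ (Nat.pow_le_pow_right (by norm_num) (by omega))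
  set x : QuaternionGroup (2 ^ (n + 1)) := QuaternionGroup.xa 0
  set a : QuaternionGroup (2 ^ (n + 1)) := QuaternionGroup.a 1
  have hne : zpowers x ≠ ⊤ := fun h => by
    have h2 := congrArg (fun K : Subgroup (QuaternionGroup (2 ^ (n + 1))) => Nat.card K) h
    simp only [Nat.card_zpowers, card_top] at h2
    rw [show orderOf x = 4 from QuaternionGroup.orderOf_xa 0, hcard] at h2
    have : 2 ^ 4 ≤ 2 ^ (n + 3) := Nat.pow_le_pow_right (by norm_num) (by omega)
    omega
  obtain ⟨M, hM, hle⟩ := (eq_top_or_exists_le_coatom _).resolve_left hne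
  obtain ⟨-, hMi⟩ := CfsgLib.Core.index_of_coatom_pgroup hP hM
  have hMc : Nat.card M = 2 * 2 ^ (n + 1) := by
    have := card_mul_index M
    rw [hMi, hcard] at this
    have e : 2 ^ (n + 3) = 2 ^ (n + 1) * 4 := by ring
    omega
  refine ⟨zpowers a, M, inferInstance, fun hMcyc => ?_, by
    rw [Nat.card_zpowers, QuaternionGroup.orderOf_a_one, hMc]⟩
  obtain ⟨y, hy⟩ := isCyclic_iff_exists_zpowers_eq_top.mp hMcyc
  have hyo : orderOf (y : QuaternionGroup (2 ^ (n + 1))) = 2 * 2 ^ (n + 1) := by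
    rw [Subgroup.orderOf_coe, ← Nat.card_zpowers, hy, card_top, hMc]
  obtain ⟨j, hj⟩ := mem_zpowers_iff.mp (hy.ge (mem_top (⟨x, hle (mem_zpowers x)⟩ : M)))
  rcases hy' : (y : QuaternionGroup (2 ^ (n + 1))) with i | i
  · have hpow : ∀ m : ℕ, ∃ k, (QuaternionGroup.a i : QuaternionGroup (2 ^ (n + 1))) ^ m =
        QuaternionGroup.a k := by
      intro m
      induction m with
      | zero => exact ⟨0, by rw [pow_zero]; rfl⟩
      | succ m ih =>
        obtain ⟨k, hk⟩ := ih
        exact ⟨k + i, by rw [pow_succ (QuaternionGroup.a i) m, hk, QuaternionGroup.a_mul_a]⟩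
    obtain ⟨m, hm⟩ := mem_powers_iff_mem_zpowers.mpr
      (mem_zpowers_iff.mpr ⟨j, congrArg Subtype.val hj⟩ :
        x ∈ zpowers (y : QuaternionGroup (2 ^ (n + 1))))
    obtain ⟨k, hk⟩ := hpow m
    change (y : QuaternionGroup (2 ^ (n + 1))) ^ m = x at hm
    rw [hy', hk] at hm
    simp [x] at hm
  · rw [hy', QuaternionGroup.orderOf_xa] at hyo
    omega

theorem exists_cube_nonabelian (hexp : ∀ x : G, x ^ p = 1) (hG : IsPGroup p G)
    (hna : ¬ IsMulCommutative G) :
    ∃ K : Subgroup G, ¬ IsMulCommutative K ∧ Nat.card K = p ^ 3 := by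
  set Z := center G with hZ
  have hne : Z ≠ ⊤ := fun h => hna ⟨⟨fun a b =>
    (Subgroup.mem_center_iff.mp ((hZ.symm.trans h).ge (mem_top b)) a)⟩⟩
  haveI : Nontrivial (G ⧸ Z) := QuotientGroup.nontrivial_iff.mpr hne
  haveI := (hG.to_quotient Z).center_nontrivial
  obtain ⟨⟨w, hw⟩, hw1⟩ := exists_ne (1 : center (G ⧸ Z))
  obtain ⟨x, rfl⟩ := QuotientGroup.mk'_surjective Z w
  have hxZ : x ∉ Z := fun h => hw1 (Subtype.ext ((QuotientGroup.eq_one_iff x).mpr h))
  obtain ⟨y, hxy⟩ : ∃ y, ⁅y, x⁆ ≠ 1 := by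
    by_contra h
    push Not at h
    exact hxZ (Subgroup.mem_center_iff.mpr fun g => commutatorElement_eq_one_iff_mul_comm.mp (h g))
  set c := ⁅y, x⁆ with hc
  have hcZ : c ∈ Z := by
    rw [← QuotientGroup.eq_one_iff, ← QuotientGroup.mk'_apply, hc, map_commutatorElement,
      commutatorElement_eq_one_iff_mul_comm]
    exact Subgroup.mem_center_iff.mp hw _
  haveI : (zpowers c).Normal := ⟨fun v hv g => by
    rwa [Subgroup.mem_center_iff.mp ((zpowers_le.mpr hcZ) hv) g, mul_inv_cancel_right]⟩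
  have ho : ∀ v : G, orderOf v ∣ p := fun v => orderOf_dvd_of_pow_eq_one (hexp v)
  set T := zpowers x ⊔ zpowers c with hT
  have hTd : Nat.card T ∣ p * p := by
    refine (CfsgLib.Core.card_sup_dvd_mul le_normalizer_of_normal).trans (mul_dvd_mul ?_ ?_) <;>
      rw [Nat.card_zpowers] <;> exact ho _
  have hyT : zpowers y ≤ normalizer (T : Set G) := by
    rw [zpowers_le]
    have hmapT : T.map (MulAut.conj y).toMonoidHom ≤ T := by
      rw [hT, Subgroup.map_sup, MonoidHom.map_zpowers, MonoidHom.map_zpowers]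
      refine sup_le (zpowers_le.mpr ?_) (zpowers_le.mpr ?_)
      · show y * x * y⁻¹ ∈ _
        rw [show y * x * y⁻¹ = c * x by rw [hc, commutatorElement_def]; group]
        exact mul_mem (mem_sup_right (mem_zpowers c)) (mem_sup_left (mem_zpowers x))
      · show y * c * y⁻¹ ∈ _
        rw [Subgroup.mem_center_iff.mp hcZ y, mul_inv_cancel_right]
        exact mem_sup_right (mem_zpowers c)
    have hmap := CfsgLib.Core.eq_of_le_of_card_le hmapT
      (by rw [card_map_of_injective (f := (MulAut.conj y).toMonoidHom) (MulAut.conj y).injective])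
    refine Subgroup.mem_normalizer_iff.mpr fun v => ⟨fun hv => hmapT ⟨v, hv, rfl⟩, fun hv => ?_⟩
    rw [← hmap] at hv
    obtain ⟨v', hv', hvv⟩ := hv
    have : v' = v := (MulAut.conj y).injective hvv
    exact this ▸ hv'
  set K := zpowers y ⊔ T with hK
  have hKd : Nat.card K ∣ p * (p * p) :=
    (CfsgLib.Core.card_sup_dvd_mul hyT).trans
      (mul_dvd_mul (by rw [Nat.card_zpowers]; exact ho y) hTd)
  have hKna : ¬ IsMulCommutative K := fun h => hxy (commutatorElement_eq_one_iff_mul_comm.mpr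
    (congrArg Subtype.val (h.is_comm.comm (⟨y, mem_sup_left (mem_zpowers y)⟩ : K)
      ⟨x, mem_sup_right (mem_sup_left (mem_zpowers x))⟩)))
  refine ⟨K, hKna, ?_⟩
  obtain ⟨j, hj, hj'⟩ := (Nat.dvd_prime_pow hp.out).mp
    (show Nat.card K ∣ p ^ 3 by rwa [show p ^ 3 = p * (p * p) by ring])
  interval_cases j
  · exact absurd ⟨⟨fun a b => by
      haveI := (Nat.card_eq_one_iff_unique.mp (hj'.trans (pow_zero p))).1
      exact Subsingleton.elim _ _⟩⟩ hKna
  · haveI : IsCyclic K := isCyclic_of_prime_card (p := p) (hj'.trans (pow_one p))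
    exact absurd ⟨⟨fun a b => by letI : CommGroup K := IsCyclic.commGroup; exact mul_comm a b⟩⟩ hKna
  · exact absurd ⟨⟨IsPGroup.commutative_of_card_eq_prime_sq (p := p) hj'⟩⟩ hKna
  · exact hj'

end CfsgLib.Core.ConjSub
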