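import Cfsg.Agent.Lib.TransferExtraspecialIso
import Cfsg.Agent.Lib.CoreCoprime
import Cfsg.Prelude.Def_CaseTheorems

/-!
# Ranks of extraspecial 2-groups
-/

set_option autoImplicit false

universe u v

namespace CfsgLib.Core.ExRank

open Subgroup CfsgLib.Extraspecial
open scoped commutatorElement

variable {P : Type u} [Group P]

/-- An elementary abelian 2-subgroup. -/
def Elem (A : Subgroup P) : Prop := IsMulCommutative A ∧ ∀ a ∈ A, a ^ 2 = 1

theorem elem_of_sq (A : Subgroup P) (h : ∀ a ∈ A, a ^ 2 = 1) : Elem A := by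
  refine ⟨⟨⟨fun x y => Subtype.ext ?_⟩⟩, h⟩
  have hx := h _ x.2
  have hy := h _ y.2
  have hxy := h _ (mul_mem x.2 y.2)
  rw [sq] at hx hy hxy
  show (x : P) * y = y * x
  rw [← inv_eq_of_mul_eq_one_right hxy, mul_inv_rev, inv_eq_of_mul_eq_one_right hx,
    inv_eq_of_mul_eq_one_right hy]

variable [Finite P] {z : P} {n : ℕ}

theorem elem_card_dvd {A : Subgroup P} (hA : Elem A) : ∃ k, Nat.card A = 2 ^ k :=
  IsPGroup.iff_card.1 fun x => ⟨1, Subtype.ext (by rw [pow_one]; exact hA.2 _ x.2)⟩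

theorem elem_extend {A : Subgroup P} (hA : Elem A) {a : P} (ha : a ∉ A) (ha2 : a ^ 2 = 1)
    (hcomm : ∀ x ∈ A, Commute x a) : ∃ B : Subgroup P, Elem B ∧ 2 * Nat.card A ≤ Nat.card B := by
  refine ⟨A ⊔ zpowers a, elem_of_sq _ fun x hx => ?_, ?_⟩
  · obtain ⟨y, hy, w, hw, rfl⟩ := (CfsgLib.Core.mem_sup_iff_of_le_normalizer
      (fun y hy => Subgroup.mem_normalizer_fintype fun w hw => by
        obtain ⟨i, rfl⟩ := mem_zpowers_iff.1 hw
        show y * a ^ i * y⁻¹ ∈ zpowers a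
        rw [((hcomm y hy).zpow_right i).eq, mul_inv_cancel_right]
        exact zpow_mem (mem_zpowers a) i)).1 hx
    obtain ⟨i, rfl⟩ := mem_zpowers_iff.1 hw
    rw [((hcomm y hy).zpow_right i).mul_pow, hA.2 y hy, one_mul, ← zpow_natCast, ← zpow_mul,
      mul_comm, zpow_mul, zpow_natCast, ha2, one_zpow]
  · obtain ⟨k, hk⟩ := Subgroup.card_dvd_of_le (le_sup_left : A ≤ A ⊔ zpowers a)
    rw [hk, mul_comm]
    refine Nat.mul_le_mul_left _ (Nat.lt_of_not_le fun h => ha ?_)
    rw [CfsgLib.Core.eq_of_le_of_card_le (le_sup_left : A ≤ A ⊔ zpowers a)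
      (hk.trans_le (mul_le_of_le_one_right (Nat.zero_le _) h))]
    exact mem_sup_right (mem_zpowers a)

theorem elem_zpowers (h : Ex 2 z n) : Elem (zpowers z) := elem_of_sq _ fun x hx => by
  obtain ⟨i, rfl⟩ := mem_zpowers_iff.1 hx
  rw [← zpow_natCast, ← zpow_mul, mul_comm, zpow_mul, zpow_natCast, h.zp, one_zpow]

theorem card_zpowers_z (h : Ex 2 z n) : Nat.card (zpowers z) = 2 := by
  haveI : Fact (Nat.Prime 2) := ⟨Nat.prime_two⟩
  rw [Nat.card_zpowers, orderOf_eq_prime h.zp h.zne]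

/-- An elementary abelian subgroup through a non-central involution, in the split off part. -/
theorem descend (h : Ex 2 z (n + 1)) {A : Subgroup P} (hA : Elem A) {a : P} (ha : a ∈ A)
    (haz : a ∉ zpowers z) :
    ∃ b : P, ⁅a, b⁆ = z ∧ b ^ 2 = 1 ∧ ∃ (C : Subgroup P), (∀ c ∈ C, Commute c a ∧ Commute c b) ∧
      (∃ hz : z ∈ C, Ex 2 (⟨z, hz⟩ : C) n) ∧
      (∀ g : P, ∃ i j : ℕ, ∃ c ∈ C, g = a ^ i * b ^ j * c) ∧
      (∀ i j : ℕ, a ^ i * b ^ j ∈ C → 2 ∣ i ∧ 2 ∣ j) ∧
      ∃ K : Subgroup C, Elem K ∧ Nat.card A ≤ 2 * Nat.card K := by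
  haveI : Fact (Nat.Prime 2) := ⟨Nat.prime_two⟩
  obtain ⟨b, hab, hb2⟩ := h.dihedral_pair haz (hA.2 a ha)
  obtain ⟨C, hCc, ⟨hz, hC⟩, hdec, hu⟩ := two_split h hab
  refine ⟨b, hab, hb2, C, hCc, ⟨hz, hC⟩, hdec, hu, A.subgroupOf C,
    elem_of_sq _ fun x hx => Subtype.ext (hA.2 _ hx), ?_⟩
  have hne : ¬ Commute a b := fun e => h.zne
    (by rw [← hab]; exact commutatorElement_eq_one_iff_mul_comm.2 e.eq)
  let φ : A →* zpowers z :=
    { toFun := fun x => ⟨⁅(x : P), b⁆, h.comm _ _⟩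
      map_one' := Subtype.ext (by simp)
      map_mul' := fun x y => Subtype.ext (h.commutator_mul_left _ _ _) }
  have hker : φ.ker.map A.subtype ≤ A ⊓ C := by
    rintro _ ⟨x, hx, rfl⟩
    refine ⟨x.2, ?_⟩
    have hxb : Commute (x : P) b := commutatorElement_eq_one_iff_mul_comm.1
      (congrArg Subtype.val (hx : φ x = 1))
    have hxa : Commute (x : P) a :=
      congrArg Subtype.val (hA.1.is_comm.comm x ⟨a, ha⟩)
    obtain ⟨i, j, c, hc, hx'⟩ := hdec (x : P)
    have hq : ∀ (y : P), y ^ 2 = 1 → ∀ k : ℕ, y ^ k = y ^ (k % 2) := fun y hy k => by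
      conv_lhs => rw [← Nat.div_add_mod k 2, pow_add, pow_mul, hy, one_pow, one_mul]
    rw [hq a (hA.2 a ha), hq b hb2] at hx'
    have hxa' : Commute (a ^ (i % 2) * b ^ (j % 2)) a := by
      rw [eq_mul_inv_of_mul_eq hx'.symm]
      exact hxa.mul_left (hCc c hc).1.inv_left
    have hxb' : Commute (a ^ (i % 2) * b ^ (j % 2)) b := by
      rw [eq_mul_inv_of_mul_eq hx'.symm]
      exact hxb.mul_left (hCc c hc).2.inv_left
    show (x : P) ∈ C
    rcases Nat.mod_two_eq_zero_or_one j with hj | hj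
    · rcases Nat.mod_two_eq_zero_or_one i with hi | hi
      · rw [hx', hi, hj, pow_zero, pow_zero, one_mul, one_mul]; exact hc
      · rw [hi, hj, pow_one, pow_zero, mul_one] at hxb'
        exact absurd hxb' hne
    · refine absurd ?_ hne
      have h1 : Commute (b ^ (j % 2)) a := by
        have h2 := ((Commute.refl a).pow_left (i % 2)).inv_left.mul_left hxa'
        rwa [inv_mul_cancel_left] at h2
      rw [hj, pow_one] at h1
      exact h1.symm
  calc Nat.card A = Nat.card φ.ker * φ.ker.index := (φ.ker.card_mul_index).symm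
    _ ≤ Nat.card φ.ker * 2 := Nat.mul_le_mul_left _ (by
        rw [index_ker]
        exact (Nat.card_le_card_of_injective _ φ.range.subtype_injective).trans
          (card_zpowers_z h).le)
    _ ≤ 2 * _ := by
        rw [mul_comm, ← Subgroup.card_map_of_injective A.subtype_injective]
        refine Nat.mul_le_mul_left _ ?_
        rw [← Subgroup.card_map_of_injective C.subtype_injective, Subgroup.subgroupOf_map_subtype]
        exact Subgroup.card_le_of_le hker

/-- The rank is at most `n + 1`. -/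
theorem card_le : ∀ (n : ℕ) {P : Type u} [Group P] [Finite P] {z : P}, Ex 2 z n →
    ∀ A : Subgroup P, Elem A → Nat.card A ≤ 2 ^ (n + 1) := by
  intro n
  induction n with
  | zero => exact fun {P} _ _ z h A _ => (Subgroup.card_le_card_group A).trans h.card.le
  | succ n ih =>
    intro P _ _ z h A hA
    by_cases hle : A ≤ zpowers z
    · exact (Subgroup.card_le_of_le hle).trans
        ((card_zpowers_z h).trans_le (Nat.le_self_pow (by omega) 2))
    obtain ⟨a, ha, haz⟩ := SetLike.not_le_iff_exists.1 hle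
    obtain ⟨b, -, -, C, -, ⟨hz, hC⟩, -, -, K, hK, hAK⟩ := descend h hA ha haz
    rw [pow_succ' 2 (n + 1)]
    exact hAK.trans (Nat.mul_le_mul_left _ (ih hC K hK))

theorem ascend {a b : P} {C : Subgroup P} (ha2 : a ^ 2 = 1)
    (hCc : ∀ c ∈ C, Commute c a ∧ Commute c b)
    (hu : ∀ i j : ℕ, a ^ i * b ^ j ∈ C → 2 ∣ i ∧ 2 ∣ j) {K : Subgroup C} (hK : Elem K) :
    ∃ B : Subgroup P, Elem B ∧ 2 * Nat.card K ≤ Nat.card B := by
  have haC : a ∉ C := fun hc => by
    have := (hu 1 0 (by simpa using hc)).1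
    omega
  have hKe : Elem (K.map C.subtype) := elem_of_sq _ fun x hx => by
    obtain ⟨y, hy, rfl⟩ := hx
    rw [← map_pow, hK.2 y hy, map_one]
  have hKC : K.map C.subtype ≤ C := map_subtype_le _
  obtain ⟨B, hB, hcard⟩ := elem_extend hKe (fun h => haC (hKC h)) ha2
    fun x hx => (hCc x (hKC hx)).1
  exact ⟨B, hB, by rwa [Subgroup.card_map_of_injective C.subtype_injective] at hcard⟩

/-- There is an elementary abelian subgroup of order at least `2 ^ n`. -/
theorem exists_card : ∀ (n : ℕ) {P : Type u} [Group P] [Finite P] {z : P}, Ex 2 z n →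
    ∃ A : Subgroup P, Elem A ∧ 2 ^ n ≤ Nat.card A ∧ 2 ≤ Nat.card A := by
  intro n
  induction n with
  | zero => exact fun {P} _ _ z h => ⟨zpowers z, elem_zpowers h, by rw [card_zpowers_z h]; norm_num,
      (card_zpowers_z h).ge⟩
  | succ n ih =>
    intro P _ _ z h
    rcases Nat.eq_zero_or_pos n with rfl | hn
    · exact ⟨zpowers z, elem_zpowers h, (card_zpowers_z h).ge, (card_zpowers_z h).ge⟩
    haveI : Fact (Nat.Prime 2) := ⟨Nat.prime_two⟩
    obtain ⟨a, ha, ha2⟩ := h.exists_involution (by omega)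
    obtain ⟨b, hab, hb2⟩ := h.dihedral_pair ha ha2
    obtain ⟨C, hCc, ⟨hz, hC⟩, -, hu⟩ := two_split h hab
    obtain ⟨K, hK, hcard, h2⟩ := ih hC
    obtain ⟨B, hB, hB'⟩ := ascend ha2 hCc hu hK
    exact ⟨B, hB, (by rw [pow_succ']; exact (Nat.mul_le_mul_left 2 hcard).trans hB'), by omega⟩

/-- The group is of plus type: rank `n + 1`. -/
def Plus (P : Type u) [Group P] (n : ℕ) : Prop :=
  ∃ A : Subgroup P, Elem A ∧ 2 ^ (n + 1) ≤ Nat.card A

theorem plus_one_iff (h : Ex 2 z 1) : Plus P 1 ↔ ∃ a, a ∉ zpowers z ∧ a ^ 2 = 1 := by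
  constructor
  · rintro ⟨A, hA, hcard⟩
    by_contra hcon
    push Not at hcon
    have : A ≤ zpowers z := fun x hx => by
      by_contra hx'
      exact hcon x hx' (hA.2 x hx)
    have := Subgroup.card_le_of_le this
    rw [card_zpowers_z h] at this
    omega
  · rintro ⟨a, ha, ha2⟩
    obtain ⟨B, hB, hcard⟩ := elem_extend (elem_zpowers h) ha ha2 fun x hx => by
      obtain ⟨i, rfl⟩ := mem_zpowers_iff.1 hx
      exact (h.central a).zpow_left i
    rw [card_zpowers_z h] at hcard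
    exact ⟨B, hB, hcard⟩

/-- Extraspecial 2-groups of the same order and the same type are isomorphic. -/
theorem iso_of_type : ∀ (n : ℕ) {P : Type u} [Group P] [Finite P] {z : P}
    {P' : Type v} [Group P'] [Finite P'] {z' : P'}, Ex 2 z n → Ex 2 z' n →
    (Plus P n ↔ Plus P' n) → ∃ φ : P ≃* P', φ z = z' := by
  haveI : Fact (Nat.Prime 2) := ⟨Nat.prime_two⟩
  intro n
  induction n with
  | zero => intro _ _ _ _ _ _ _ _ h h' _; exact h.zero_iso h'
  | succ n ih =>
    intro P _ _ z P' _ _ z' h h' hiff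
    rcases Nat.eq_zero_or_pos n with rfl | hn
    · exact two_iso_one h h' ((plus_one_iff h).symm.trans (hiff.trans (plus_one_iff h')))
    have hne : ∀ {Q : Type u} [Group Q] [Finite Q] {w : Q} {A : Subgroup Q}, Ex 2 w (n + 1) →
        2 ^ (n + 2) ≤ Nat.card A → ∃ a ∈ A, a ∉ zpowers w := fun hw hA => by
      by_contra hcon
      push Not at hcon
      have := Subgroup.card_le_of_le (fun x hx => hcon x hx)
      rw [card_zpowers_z hw] at this
      have := Nat.pow_le_pow_right (show 0 < 2 by norm_num) (show 2 ≤ n + 2 by omega)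
      omega
    have hne' : ∀ {A : Subgroup P'}, 2 ^ (n + 2) ≤ Nat.card A → ∃ a ∈ A, a ∉ zpowers z' := by
      intro A hA
      by_contra hcon
      push Not at hcon
      have := Subgroup.card_le_of_le (fun x hx => hcon x hx)
      rw [card_zpowers_z h'] at this
      have := Nat.pow_le_pow_right (show 0 < 2 by norm_num) (show 2 ≤ n + 2 by omega)
      omega
    by_cases hP : Plus P (n + 1)
    · obtain ⟨A, hA, hAc⟩ := hP
      obtain ⟨A', hA', hAc'⟩ := hiff.1 ⟨A, hA, hAc⟩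
      obtain ⟨a, ha, haz⟩ := hne h hAc
      obtain ⟨a', ha', haz'⟩ := hne' hAc'
      obtain ⟨b, hab, hb2, C, hCc, ⟨hz, hC⟩, hdec, hu, K, hK, hAK⟩ := descend h hA ha haz
      obtain ⟨b', hab', hb2', C', hCc', ⟨hz', hC'⟩, hdec', hu', K', hK', hAK'⟩ :=
        descend h' hA' ha' haz'
      obtain ⟨σ, hσ⟩ := ih hC hC' ⟨fun _ => ⟨K', hK', by rw [pow_succ'] at hAc'; omega⟩,
        fun _ => ⟨K, hK, by rw [pow_succ'] at hAc; omega⟩⟩
      exact glue h h' hab hab' C C' hCc hCc' hdec hdec' hu hu' hz hz' σ (congrArg Subtype.val hσ)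
        ⟨0, by rw [hA.2 a ha, pow_zero], by rw [hA'.2 a' ha', pow_zero]⟩
        ⟨0, by rw [hb2, pow_zero], by rw [hb2', pow_zero]⟩
    · obtain ⟨a, ha, ha2⟩ := h.exists_involution (by omega)
      obtain ⟨b, hab, hb2⟩ := h.dihedral_pair ha ha2
      obtain ⟨a', ha', ha2'⟩ := h'.exists_involution (by omega)
      obtain ⟨b', hab', hb2'⟩ := h'.dihedral_pair ha' ha2'
      obtain ⟨C, hCc, ⟨hz, hC⟩, hdec, hu⟩ := two_split h hab
      obtain ⟨C', hCc', ⟨hz', hC'⟩, hdec', hu'⟩ := two_split h' hab'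
      have hCn : ¬ Plus C n := fun ⟨K, hK, hc⟩ => by
        obtain ⟨B, hB, hB'⟩ := ascend ha2 hCc hu hK
        exact hP ⟨B, hB, by rw [pow_succ']; omega⟩
      have hCn' : ¬ Plus C' n := fun ⟨K, hK, hc⟩ => by
        obtain ⟨B, hB, hB'⟩ := ascend ha2' hCc' hu' hK
        exact hP (hiff.2 ⟨B, hB, by rw [pow_succ']; omega⟩)
      obtain ⟨σ, hσ⟩ := ih hC hC' (iff_of_false hCn hCn')
      exact glue h h' hab hab' C C' hCc hCc' hdec hdec' hu hu' hz hz' σ (congrArg Subtype.val hσ)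
        ⟨0, by rw [ha2, pow_zero], by rw [ha2', pow_zero]⟩
        ⟨0, by rw [hb2, pow_zero], by rw [hb2', pow_zero]⟩

theorem prankLE_iff_not_plus (k : ℕ) : Cfsg.PRankLE 2 k P ↔ ¬ Plus P k := by
  constructor
  · rintro h ⟨A, hA, hc⟩
    have := h A hA.1 hA.2
    have := Nat.pow_lt_pow_right (show 1 < 2 by norm_num) (Nat.lt_succ_self k)
    omega
  · intro h A hA1 hA2
    by_contra hc
    obtain ⟨m, hm⟩ := elem_card_dvd (A := A) ⟨hA1, hA2⟩
    refine h ⟨A, ⟨hA1, hA2⟩, ?_⟩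
    rw [hm] at hc ⊢
    refine Nat.pow_le_pow_right (by norm_num) ?_
    by_contra h'
    exact hc (Nat.pow_le_pow_right (by norm_num) (by omega))

end CfsgLib.Core.ExRank
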