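import Mathlib

/-!
Geometric sums `∑_{l<k} q^l` for `q ≡ 1` modulo an odd prime `p`.
-/

set_option maxHeartbeats 400000

namespace CfsgLib.Core

section Geo

variable {S : Type*} [CommSemiring S]

/-- The geometric sum `1 + q + ... + q^(k-1)`. -/
def geo (q : S) (k : ℕ) : S := ∑ l ∈ Finset.range k, q ^ l

@[simp] theorem geo_zero (q : S) : geo q 0 = 0 := by simp [geo]

@[simp] theorem geo_one (q : S) : geo q 1 = 1 := by simp [geo]

theorem geo_succ (q : S) (k : ℕ) : geo q (k + 1) = geo q k + q ^ k := by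
  simp [geo, Finset.sum_range_succ]

theorem geo_add (q : S) (j l : ℕ) : geo q (j + l) = geo q j + q ^ j * geo q l := by
  induction l with
  | zero => simp
  | succ l ih => rw [← Nat.add_assoc, geo_succ, geo_succ, ih, pow_add]; ring

theorem geo_mul (q : S) (j l : ℕ) : geo q (j * l) = geo q j * geo (q ^ j) l := by
  induction l with
  | zero => simp
  | succ l ih => rw [Nat.mul_succ, geo_add, geo_succ, ih, pow_mul]; ring

theorem one_add_pow_eq (s : S) (j : ℕ) : (1 + s) ^ j = 1 + s * geo (1 + s) j := by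
  induction j with
  | zero => simp
  | succ j ih => rw [geo_succ, pow_succ]; nth_rewrite 1 [ih]; rw [mul_add s, mul_comm (1 + s * _)]
                 rw [ih]; ring

theorem map_geo {T : Type*} [CommSemiring T] (f : S →+* T) (q : S) (k : ℕ) :
    f (geo q k) = geo (f q) k := by
  simp [geo, map_sum, map_pow]

end Geo

theorem natCast_geo {T : Type*} [CommSemiring T] (q k : ℕ) :
    ((geo q k : ℕ) : T) = geo (q : T) k :=
  map_geo (Nat.castRingHom T) q k

/-- Second order expansion. -/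
theorem geo_one_add (d : ℤ) (N : ℕ) :
    d ^ 2 ∣ geo (1 + d) N - (N + d * (N.choose 2 : ℕ)) := by
  induction N with
  | zero => simp
  | succ N ih =>
    obtain ⟨t, ht⟩ := ih
    have h1 : geo (1 + d) (N + 1) = 1 + (1 + d) * geo (1 + d) N := by
      rw [show N + 1 = 1 + N from Nat.add_comm N 1, geo_add]
      simp
    refine ⟨(1 + d) * t + (N.choose 2 : ℕ), ?_⟩
    rw [h1, Nat.choose_succ_succ' N 1, Nat.choose_one_right]
    have h2 : geo (1 + d) N = d ^ 2 * t + (N + d * (N.choose 2 : ℕ)) := by rw [← ht]; ring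
    rw [h2]
    push_cast
    ring

theorem geo_prime {p : ℕ} (hp : p.Prime) (hp2 : p ≠ 2) {d : ℤ} {e : ℕ} (he : 1 ≤ e)
    (hd : (p : ℤ) ^ e ∣ d) : (p : ℤ) ^ (e + 1) ∣ geo (1 + d) p - p := by
  have h2 : (p : ℤ) ∣ ((p.choose 2 : ℕ) : ℤ) :=
    Int.natCast_dvd_natCast.mpr (hp.dvd_choose_self (by norm_num) (by
      have := hp.two_le; omega))
  have h1 : (p : ℤ) ^ (e + 1) ∣ d ^ 2 := by
    have h3 : (p : ℤ) ^ (e + 1) ∣ ((p : ℤ) ^ e) ^ 2 := by
      rw [← pow_mul]; exact pow_dvd_pow _ (by omega)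
    exact h3.trans (pow_dvd_pow_of_dvd hd 2)
  have h4 : (p : ℤ) ^ (e + 1) ∣ d * ((p.choose 2 : ℕ) : ℤ) := by
    rw [pow_succ]; exact mul_dvd_mul hd h2
  have h5 : geo (1 + d) p - p =
      (geo (1 + d) p - (p + d * (p.choose 2 : ℕ))) + d * (p.choose 2 : ℕ) := by ring
  rw [h5]
  exact dvd_add (h1.trans (geo_one_add d p)) h4

theorem geo_prime_pow {p : ℕ} (hp : p.Prime) (hp2 : p ≠ 2) {x : ℤ} {e : ℕ} (he : 1 ≤ e)
    (hx : (p : ℤ) ^ e ∣ x) (g : ℕ) :
    (p : ℤ) ^ (g + e) ∣ geo (1 + x) (p ^ g) - (p : ℤ) ^ g := by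
  induction g with
  | zero => simp
  | succ g ih =>
    rw [pow_succ p g, geo_mul, one_add_pow_eq]
    set G := geo (1 + x) (p ^ g) with hG
    have hGdvd : (p : ℤ) ^ g ∣ G := by
      have := ((pow_dvd_pow (p : ℤ) (Nat.le_add_right g e)).trans ih).add (dvd_refl ((p : ℤ) ^ g))
      rwa [sub_add_cancel] at this
    have hd : (p : ℤ) ^ (e + g) ∣ x * G := by rw [pow_add]; exact mul_dvd_mul hx hGdvd
    have hH := geo_prime hp hp2 (show 1 ≤ e + g by omega) hd
    set H := geo (1 + x * G) p with hHdef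
    have hHp : (p : ℤ) ∣ H := by
      have := ((dvd_pow_self (p : ℤ) (Nat.succ_ne_zero _)).trans hH).add (dvd_refl (p : ℤ))
      rwa [sub_add_cancel] at this
    have h1 : G * H - (p : ℤ) ^ (g + 1) = (G - (p : ℤ) ^ g) * H + (p : ℤ) ^ g * (H - p) := by
      ring
    rw [h1]
    refine dvd_add ?_ ?_
    · rw [show g + 1 + e = (g + e) + 1 by omega, pow_succ]
      exact mul_dvd_mul ih hHp
    · have h2 : (p : ℤ) ^ (g + (e + g + 1)) ∣ (p : ℤ) ^ g * (H - p) := by
        rw [pow_add]; exact mul_dvd_mul_left _ hH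
      exact (pow_dvd_pow _ (by omega)).trans h2

theorem geo_mod (p : ℕ) {q : ℕ} (hq : (q : ZMod p) = 1) (k : ℕ) :
    ((geo q k : ℕ) : ZMod p) = k := by
  rw [natCast_geo, hq]
  simp [geo]

/-- Powers of `p` dividing a geometric sum are those dividing its length. -/
theorem pow_dvd_geo {p : ℕ} (hp : p.Prime) (hp2 : p ≠ 2) {q : ℕ} (hq : (q : ZMod p) = 1)
    (v k : ℕ) : p ^ v ∣ geo q k ↔ p ^ v ∣ k := by
  haveI := Fact.mk hp
  rcases eq_or_ne k 0 with rfl | hk
  · simp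
  obtain ⟨a, k', hk', rfl⟩ := Nat.exists_eq_pow_mul_and_not_dvd hk p hp.ne_one
  have hx : (p : ℤ) ^ 1 ∣ (q : ℤ) - 1 := by
    rw [pow_one, ← ZMod.intCast_zmod_eq_zero_iff_dvd]
    push_cast
    rw [hq, sub_self]
  have h := geo_prime_pow hp hp2 le_rfl hx a
  rw [add_sub_cancel] at h
  obtain ⟨y, hy⟩ := h
  rw [geo_mul]
  have hq' : ((q ^ p ^ a : ℕ) : ZMod p) = 1 := by push_cast; rw [hq, one_pow]
  set U := geo (q ^ p ^ a) k' with hU
  have hUp : ¬ p ∣ U := fun hd => hk' (by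
    rw [← ZMod.natCast_eq_zero_iff] at hd ⊢
    rwa [hU, geo_mod p hq'] at hd)
  obtain ⟨W, hW, hWp⟩ : ∃ W, geo q (p ^ a) = p ^ a * W ∧ ¬ p ∣ W := by
    have hint : ((geo q (p ^ a) : ℕ) : ℤ) = (p : ℤ) ^ a * (1 + p * y) := by
      rw [natCast_geo, mul_add, mul_one, ← mul_assoc, ← pow_succ, ← hy]; ring
    have hd : p ^ a ∣ geo q (p ^ a) := by
      rw [← Int.natCast_dvd_natCast, hint]; exact ⟨_, by push_cast; rfl⟩
    obtain ⟨W, hW⟩ := hd
    refine ⟨W, hW, fun hdW => ?_⟩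
    have hWi : (W : ℤ) = 1 + p * y := by
      refine mul_left_cancel₀ (pow_ne_zero a (Int.natCast_ne_zero.mpr hp.ne_zero)) ?_
      rw [← hint, hW]; push_cast; rfl
    have h1 : (p : ℤ) ∣ 1 + p * y := hWi ▸ Int.natCast_dvd_natCast.mpr hdW
    rw [Int.dvd_add_left (dvd_mul_right _ _)] at h1
    exact hp.not_dvd_one (by exact_mod_cast h1)
  rw [hW, mul_assoc]
  have hco : Nat.Coprime (p ^ v) (W * U) :=
    Nat.Coprime.pow_left _ ((hp.coprime_iff_not_dvd).mpr (hp.not_dvd_mul hWp hUp))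
  have hco' : Nat.Coprime (p ^ v) k' :=
    Nat.Coprime.pow_left _ ((hp.coprime_iff_not_dvd).mpr hk')
  rw [hco.dvd_mul_right, hco'.dvd_mul_right]

/-- `k ↦ geo q k` is injective modulo powers of `p`. -/
theorem geo_modEq {p : ℕ} (hp : p.Prime) (hp2 : p ≠ 2) {q : ℕ} (hq : (q : ZMod p) = 1)
    (n i j : ℕ) : geo q i ≡ geo q j [MOD p ^ n] ↔ i ≡ j [MOD p ^ n] := by
  wlog hij : i ≤ j generalizing i j with H
  · have := H j i (Nat.le_of_not_le hij)
    constructor
    · exact fun h => (this.mp h.symm).symm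
    · exact fun h => (this.mpr h.symm).symm
  obtain ⟨d, rfl⟩ := Nat.exists_eq_add_of_le hij
  have hco : Nat.Coprime (p ^ n) (q ^ i) := by
    refine Nat.Coprime.pow _ _ ((hp.coprime_iff_not_dvd).mpr fun h => ?_)
    rw [← ZMod.natCast_eq_zero_iff, hq] at h
    haveI := Fact.mk hp
    exact one_ne_zero h
  rw [geo_add, Nat.modEq_iff_dvd' (Nat.le_add_right _ _), Nat.modEq_iff_dvd' hij,
    Nat.add_sub_cancel_left, Nat.add_sub_cancel_left, hco.dvd_mul_left, pow_dvd_geo hp hp2 hq]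

end CfsgLib.Core
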