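import Mathlib

/-!
An irreducible module over a cyclic group of prime order `p` in characteristic `q` has order at
most `q ^ (order of q mod p)`.
-/

set_option autoImplicit false

namespace CfsgLib.Core

theorem card_le_of_pow_eq_self {S : Type*} [CommRing S] [IsDomain S] [Finite S] {q e : ℕ}
    (hq : 1 < q) (he : e ≠ 0) (h : ∀ x : S, x ^ q ^ e = x) : Nat.card S ≤ q ^ e := by
  classical
  haveI := Fintype.ofFinite S
  have h1 : 1 < q ^ e := Nat.one_lt_pow he hq
  generalize q ^ e = N at h h1 ⊢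
  have hdeg : (Polynomial.X ^ N - Polynomial.X : Polynomial S).natDegree = N := by
    rw [Polynomial.natDegree_sub_eq_left_of_natDegree_lt (by simp [h1])]
    simp
  have hne : (Polynomial.X ^ N - Polynomial.X : Polynomial S) ≠ 0 := fun h0 => by
    rw [h0, Polynomial.natDegree_zero] at hdeg; omega
  rw [Nat.card_eq_fintype_card]
  calc Fintype.card S ≤ (Polynomial.X ^ N - Polynomial.X : Polynomial S).roots.toFinset.card := by
        rw [← Finset.card_univ]
        refine Finset.card_le_card fun x _ => ?_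
        rw [Multiset.mem_toFinset, Polynomial.mem_roots hne]
        simp only [Polynomial.IsRoot, Polynomial.eval_sub, Polynomial.eval_pow, Polynomial.eval_X,
          sub_eq_zero]
        exact h x
    _ ≤ Multiset.card (Polynomial.X ^ N - Polynomial.X : Polynomial S).roots :=
        Multiset.toFinset_card_le _
    _ ≤ _ := Polynomial.card_roots' _
    _ = N := hdeg

theorem card_le_pow_orderOf {A : Type*} [AddCommGroup A] [Finite A] [Nontrivial A] {p q : ℕ}
    [Fact p.Prime] (hq : q.Prime) (hqp : q ≠ p) (hA : ∀ a : A, q • a = 0) (φ : AddMonoid.End A)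
    (hφ : φ ^ p = 1)
    (hirr : ∀ B : AddSubgroup A, (∀ b ∈ B, φ b ∈ B) → B = ⊥ ∨ B = ⊤) :
    Nat.card A ≤ q ^ orderOf (q : ZMod p) := by
  haveI := Fact.mk hq
  set e := orderOf (q : ZMod p) with he
  set R : Subring (AddMonoid.End A) := Subring.closure {φ} with hR
  have hφR : φ ∈ R := Subring.subset_closure rfl
  letI : CommRing ↥R := Subring.closureCommRingOfComm (fun a ha b hb => by
    rw [Set.mem_singleton_iff.mp ha, Set.mem_singleton_iff.mp hb])
  haveI : Finite (AddMonoid.End A) :=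
    Finite.of_injective (fun (f : AddMonoid.End A) => (f : A → A)) DFunLike.coe_injective
  have hcomm : ∀ x ∈ R, ∀ a, x (φ a) = φ (x a) := by
    intro x hx a
    have h : (⟨x, hx⟩ : ↥R) * ⟨φ, hφR⟩ = ⟨φ, hφR⟩ * ⟨x, hx⟩ := mul_comm _ _
    exact DFunLike.congr_fun (congrArg Subtype.val h) a
  obtain ⟨a₀, ha₀⟩ := exists_ne (0 : A)
  haveI : Nontrivial ↥R := ⟨⟨0, 1, fun h => ha₀ (by
    have h1 := DFunLike.congr_fun (congrArg Subtype.val h) a₀
    exact h1.symm)⟩⟩
  haveI : NoZeroDivisors ↥R := by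
    constructor
    intro x y hxy
    rcases eq_or_ne x 0 with rfl | hx
    · exact Or.inl rfl
    right
    let B : AddSubgroup A :=
      { carrier := {a | x.1 a = 0}
        zero_mem' := map_zero x.1
        add_mem' := fun {u v} hu hv => show x.1 (u + v) = 0 by rw [map_add, hu, hv, add_zero]
        neg_mem' := fun {u} hu => show x.1 (-u) = 0 by rw [map_neg, hu, neg_zero] }
    rcases hirr B (fun b hb => show x.1 (φ b) = 0 by rw [hcomm x.1 x.2, hb, map_zero]) with h | h
    · refine Subtype.ext (DFunLike.ext _ _ fun a => ?_)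
      have h1 : y.1 a ∈ B := DFunLike.congr_fun (congrArg Subtype.val hxy) a
      rw [h, AddSubgroup.mem_bot] at h1
      exact h1
    · refine absurd (Subtype.ext (DFunLike.ext _ _ fun a => ?_)) hx
      have h1 : a ∈ B := h ▸ AddSubgroup.mem_top a
      exact h1
  haveI : IsDomain ↥R := NoZeroDivisors.to_isDomain _
  haveI : CharP ↥R q := by
    refine (CharP.charP_iff_prime_eq_zero hq).mpr (Subtype.ext (DFunLike.ext _ _ fun a => ?_))
    show ((q : AddMonoid.End A)) a = 0
    rw [AddMonoid.End.natCast_apply]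
    exact hA a
  have hfix : ∀ x : ↥R, iterateFrobenius ↥R q e x = x := by
    rintro ⟨x, hx⟩
    induction hx using Subring.closure_induction with
    | mem y hy =>
      obtain rfl := Set.mem_singleton_iff.mp hy
      rw [iterateFrobenius_def]
      refine Subtype.ext ?_
      show y ^ q ^ e = y
      have h1 : q ^ e ≡ 1 [MOD p] := by
        rw [← ZMod.natCast_eq_natCast_iff, Nat.cast_pow, he, pow_orderOf_eq_one, Nat.cast_one]
      rw [pow_eq_pow_mod _ hφ, (show (q ^ e) % p = 1 from
          Eq.trans h1 (Nat.mod_eq_of_lt (Fact.out : p.Prime).one_lt)), pow_one]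
    | zero => exact map_zero _
    | one => exact map_one _
    | add a b ha hb iha ihb =>
      exact (map_add (iterateFrobenius ↥R q e) ⟨a, ha⟩ ⟨b, hb⟩).trans (by rw [iha, ihb]; try rfl)
    | neg a ha iha =>
      exact (map_neg (iterateFrobenius ↥R q e) ⟨a, ha⟩).trans (by rw [iha]; try rfl)
    | mul a b ha hb iha ihb =>
      exact (map_mul (iterateFrobenius ↥R q e) ⟨a, ha⟩ ⟨b, hb⟩).trans (by rw [iha, ihb]; try rfl)
  have he1 : 1 ≤ e := by
    haveI : NeZero p := ⟨(Fact.out : p.Prime).ne_zero⟩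
    have h0 : (q : ZMod p) ≠ 0 := fun h => hqp
      ((Nat.prime_dvd_prime_iff_eq Fact.out hq).mp ((ZMod.natCast_eq_zero_iff _ _).mp h)).symm
    exact orderOf_pos_iff.mpr (isOfFinOrder_iff_isUnit.mpr h0.isUnit)
  have hR' : Nat.card ↥R ≤ q ^ e :=
    card_le_of_pow_eq_self hq.one_lt (by omega) fun x => (iterateFrobenius_def (p := q) (n := e) x).symm.trans (hfix x)
  refine le_trans (Nat.card_le_card_of_surjective (fun x : ↥R => x.1 a₀) ?_) hR'
  let B : AddSubgroup A :=
    { carrier := Set.range (fun x : ↥R => x.1 a₀)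
      zero_mem' := ⟨0, rfl⟩
      add_mem' := by rintro _ _ ⟨x, rfl⟩ ⟨y, rfl⟩; exact ⟨x + y, rfl⟩
      neg_mem' := by rintro _ ⟨x, rfl⟩; exact ⟨-x, rfl⟩ }
  rcases hirr B (by rintro _ ⟨x, rfl⟩; exact ⟨⟨φ, hφR⟩ * x, rfl⟩) with h | h
  · have h1 : a₀ ∈ B := ⟨1, rfl⟩
    rw [h, AddSubgroup.mem_bot] at h1
    exact absurd h1 ha₀
  · intro a
    have h1 : a ∈ B := h ▸ AddSubgroup.mem_top a
    exact h1

end CfsgLib.Core
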