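/-
Lower bound for the order of a group with a non-normal Sylow p-subgroup.
-/
import Cfsg.Agent.Lib.BlockPrincipalPrime2
import Cfsg.Agent.Lib.BlockRegular
import Cfsg.Agent.Lib.CharLinear
import Cfsg.Agent.Lib.TransferMore
import Cfsg.Prelude.Def_LocalStructure

set_option autoImplicit false
set_option maxHeartbeats 1000000

namespace CfsgLib.Core.LeastNonClosed

open Cfsg CfsgLib.Block CfsgLib.Char
open scoped Classical

universe u

variable {p : ℕ} [Fact p.Prime]

theorem isPClosed_of_normal {H : Type u} [Group H] [Finite H] (P : Sylow p H) (h : (P : Subgroup H).Normal) :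
    IsPClosed p H := by
  intro Q
  haveI := Sylow.unique_of_normal P h
  rwa [Subsingleton.elim Q P]

theorem not_normal {H : Type u} [Group H] [Finite H] (hn : ¬ IsPClosed p H) (P : Sylow p H) :
    ¬ (P : Subgroup H).Normal := fun h => hn (isPClosed_of_normal P h)

theorem p_lt_card_sylow {H : Type u} [Group H] [Finite H] (hn : ¬ IsPClosed p H) :
    p + 1 ≤ Nat.card (Sylow p H) := by
  obtain ⟨P⟩ := (inferInstance : Nonempty (Sylow p H))
  have h1 : Nat.card (Sylow p H) ≠ 1 := by
    intro h
    haveI := (Nat.card_eq_one_iff_unique.1 h).1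
    refine not_normal hn P ?_
    rw [← Subgroup.normalizer_eq_top_iff, eq_top_iff]
    intro g _
    exact Sylow.smul_eq_iff_mem_normalizer.1 (Subsingleton.elim (g • P) P)
  have h2 := card_sylow_modEq_one p H
  by_contra hc
  push Not at hc
  have h0 : 0 < Nat.card (Sylow p H) := Nat.card_pos
  rcases Nat.lt_or_ge (Nat.card (Sylow p H)) p with h | h
  · rw [Nat.ModEq, Nat.mod_eq_of_lt h, Nat.mod_eq_of_lt (Fact.out : p.Prime).one_lt] at h2
    exact h1 h2
  · have he : Nat.card (Sylow p H) = p := by omega
    rw [he, Nat.ModEq, Nat.mod_self, Nat.mod_eq_of_lt (Fact.out : p.Prime).one_lt] at h2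
    omega

/-- The simple case. -/
theorem simple_bound (hp : p ≠ 2) {G : Type u} [Group G] [Fintype G] [IsSimpleGroup G] (hn : ¬ IsPClosed p G)
    (P : Sylow p G) (hP : Nat.card P = p) : p * (p ^ 2 - 1) ≤ 2 * Nat.card G := by
  by_contra hlt
  push Not at hlt
  have hpr : p.Prime := Fact.out
  have hp3 : 3 ≤ p := Nat.lt_of_le_of_ne hpr.two_le (Ne.symm hp)
  have hnP := not_normal hn P
  have hPtop : (P : Subgroup G) ≠ ⊤ := fun h => hnP (h ▸ inferInstance)
  -- the group is perfect
  have hperf : commutator G = ⊤ := by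
    refine (Subgroup.Normal.eq_bot_or_eq_top (inferInstance : (commutator G).Normal)).resolve_left fun h => hnP ?_
    rw [commutator_def, Subgroup.commutator_eq_bot_iff_le_centralizer, Subgroup.coe_top, Subgroup.centralizer_univ] at h
    exact ⟨fun x hx g => by rw [Subgroup.mem_center_iff.1 (h (Subgroup.mem_top x)) g, mul_inv_cancel_right]; exact hx⟩
  set C := Subgroup.centralizer ((P : Subgroup G) : Set G) with hC
  set N := Subgroup.normalizer ((P : Subgroup G) : Set G) with hN
  haveI : IsCyclic (P : Subgroup G) := isCyclic_of_prime_card hP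
  have hPC : (P : Subgroup G) ≤ C := by
    intro x hx y hy
    haveI : IsMulCommutative (P : Subgroup G) := ⟨⟨IsCyclic.commGroup.mul_comm⟩⟩
    exact congrArg Subtype.val (mul_comm' (⟨y, hy⟩ : (P : Subgroup G)) ⟨x, hx⟩)
  have hCN : C ≤ N := Subgroup.centralizer_le_normalizer _
  obtain ⟨e, he⟩ : ∃ e, C.relIndex N = e := ⟨_, rfl⟩
  have hN2 : Nat.card N = e * Nat.card C := by
    rw [← he, ← Subgroup.relIndex_bot_left, ← Subgroup.relIndex_bot_left, mul_comm,
      Subgroup.relIndex_mul_relIndex _ _ _ bot_le hCN]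
  obtain ⟨k, hk⟩ : p ∣ Nat.card C := hP ▸ Subgroup.card_dvd_of_le hPC
  have hk0 : 0 < k := Nat.pos_of_ne_zero fun h => by rw [h, mul_zero] at hk; exact Nat.card_pos.ne' hk
  have hns : Nat.card G = Nat.card (Sylow p G) * (e * (p * k)) := by
    rw [← hk, ← hN2, Sylow.card_eq_index_normalizer P]
    exact (Subgroup.index_mul_card _).symm
  obtain ⟨s, hs⟩ : ∃ s, Nat.card (Sylow p G) = s := ⟨_, rfl⟩
  rw [hs] at hns
  have hs1 : p + 1 ≤ s := hs ▸ p_lt_card_sylow hn
  have hsmod : s ≡ 1 [MOD p] := hs ▸ card_sylow_modEq_one p G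
  have he2 : 2 ≤ e := by
    have he0 : e ≠ 0 := fun h => Nat.card_pos.ne' (by rw [hns, h, zero_mul, mul_zero] : Nat.card G = 0)
    by_contra hc
    have he1 : e = 1 := by omega
    have hle : N ≤ C := Subgroup.relIndex_eq_one.1 (he.trans he1)
    obtain ⟨S, K, hK, hc'⟩ := CfsgLib.Transfer.burnside P hle
    rcases hK.eq_bot_or_eq_top with h | h
    · subst h
      have hS : (S : Subgroup G) = ⊤ := by simpa using hc'.sup_eq_top
      refine hPtop (Subgroup.eq_top_of_card_eq _ ?_)
      rw [← Subgroup.card_top (G := G), ← hS]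
      exact Sylow.card_eq_multiplicity P |>.trans (Sylow.card_eq_multiplicity S).symm
    · subst h
      have hS : (S : Subgroup G) = ⊥ := by simpa using hc'.disjoint.eq_bot
      have hcS : Nat.card (S : Subgroup G) = p := by
        rw [show Nat.card (S : Subgroup G) = Nat.card P from
          (Sylow.card_eq_multiplicity S).trans (Sylow.card_eq_multiplicity P).symm, hP]
      rw [hS, Subgroup.card_bot] at hcS
      exact hpr.one_lt.ne hcS
  -- the bound on e k s
  have hM : 2 * (e * k * s) < p ^ 2 - 1 := by
    have h : p * (2 * (e * k * s)) < p * (p ^ 2 - 1) := by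
      refine lt_of_eq_of_lt ?_ hlt
      rw [hns]; ring
    exact Nat.lt_of_mul_lt_mul_left h
  have hek : 2 * (e * k) < p - 1 := by
    have h1 : 2 * (e * k) * (p + 1) ≤ 2 * (e * k * s) := (Nat.mul_le_mul_left _ hs1).trans (le_of_eq (by ring))
    have h2 : p ^ 2 - 1 = (p + 1) * (p - 1) := by
      zify [hpr.one_le, Nat.one_le_pow 2 p hpr.pos]; ring
    have h3 : (p + 1) * (2 * (e * k)) < (p + 1) * (p - 1) := by
      rw [mul_comm (p + 1) (2 * (e * k)), ← h2]; omega
    exact Nat.lt_of_mul_lt_mul_left h3
  have hek' : e ≤ e * k := Nat.le_mul_of_pos_right e hk0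
  obtain ⟨M, hM'⟩ := exists_isPModular hpr
  obtain ⟨X, Y, hB, -, hXc, hYc, εX, ε, hX, hε, hY, -, hrel⟩ :=
    principal_block_prime hM' hp P hP he
  let t : IrrCharacter G := ⟨fun _ => (1 : ℂ), isIrrCharacter_one⟩
  have hdt : charDegree (t : G → ℂ) = 1 := by
    show ⌊((1 : ℂ)).re⌋₊ = 1
    simp
  have htX : t ∈ X := by
    have ht : t ∈ X ∪ Y := hB ▸ (mem_blockOf_self hM' t)
    refine ht.resolve_right fun h => ?_
    have h1 := (hY t h).dvd
    rw [hdt] at h1
    rcases hε with rfl | rfl
    · have := Int.le_of_dvd (by push_cast; omega) h1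
      push_cast at this
      omega
    · rw [← dvd_neg] at h1
      have := Int.le_of_dvd (by push_cast; omega) h1
      push_cast at this
      omega
  have hεt : εX t = 1 := by
    rcases (hX t htX).1 with h | h
    · exact h
    · exfalso
      have h1 := (hX t htX).2.1.dvd
      rw [hdt, h] at h1
      rw [← dvd_neg] at h1
      have := Int.le_of_dvd (by norm_num) h1
      push_cast at this
      omega
  -- all other degrees in X
  have hdeg : ∀ χ ∈ X, χ ≠ t → charDegree (χ : G → ℂ) = s ∧ εX χ = 1 := by
    intro χ hχ hne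
    obtain ⟨d, hd⟩ : ∃ d, charDegree (χ : G → ℂ) = d := ⟨_, rfl⟩
    have hd1 : d ≠ 1 := by
      intro h1
      apply hne
      have hc : (χ : G → ℂ) 1 = 1 := by rw [← charDegree_cast χ.2.isCharacter', hd, h1, Nat.cast_one]
      obtain ⟨f, hf⟩ := exists_hom_of_degree_one χ.2.isCharacter' hc
      have htriv : ∀ g, f g = 1 := fun g => by
        have h := Abelianization.commutator_subset_ker f
        rw [hperf] at h
        exact h (Subgroup.mem_top g)
      refine Subtype.ext ?_
      rw [hf]
      funext g
      rw [htriv g, Units.val_one]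
    have hdpos : 0 < d := hd ▸ charDegree_pos χ
    obtain ⟨hs', hmod, -⟩ := hX χ hχ
    rw [hd] at hmod
    have hpd : ¬ p ∣ d := by
      intro hdvd
      have h1 : (p : ℤ) ∣ εX χ := by
        have := dvd_add (Int.natCast_dvd_natCast.2 hdvd) hmod.dvd
        simpa using this
      rcases hs' with h | h <;> rw [h] at h1
      · exact hpr.one_lt.ne' (by exact_mod_cast Int.eq_one_of_dvd_one (by positivity) h1)
      · exact hpr.one_lt.ne' (by exact_mod_cast Int.eq_one_of_dvd_one (by positivity) ((dvd_neg).1 h1))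
    have hdM : d ∣ e * k * s := by
      refine (Nat.Coprime.dvd_mul_left ((hpr.coprime_iff_not_dvd.2 hpd).symm)).1 ?_
      rw [← hd]
      have h := charDegree_dvd_card χ
      rw [hns] at h
      rwa [show p * (e * k * s) = s * (e * (p * k)) by ring]
    obtain ⟨v, hv⟩ := hdM
    have hvmod : ((d : ℤ) * v) ≡ ((e * k : ℕ) : ℤ) [ZMOD p] := by
      have h1 : ((e * k * s : ℕ) : ℤ) ≡ ((e * k * 1 : ℕ) : ℤ) [ZMOD p] :=
        Int.natCast_modEq_iff.2 (hsmod.mul_left _)
      rw [hv, mul_one] at h1
      exact_mod_cast h1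
    have hv0 : 0 < v := Nat.pos_of_ne_zero fun h => by
      rw [h, mul_zero] at hv
      simp only [mul_eq_zero] at hv
      omega
    rcases hs' with h | h
    · rw [h] at hmod
      obtain ⟨q, hq⟩ := hmod.symm.dvd
      have hdp : p + 1 ≤ d := by
        have hq1 : 1 ≤ q := by
          rcases lt_or_ge q 1 with hq0 | hq0
          · have hq0' : q ≤ 0 := by omega
            have : (p : ℤ) * q ≤ 0 := mul_nonpos_of_nonneg_of_nonpos (by positivity) hq0'
            omega
          · exact hq0
        have : (p : ℤ) * 1 ≤ p * q := by gcongr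
        omega
      have hvlt : 2 * v < p := by
        have h1 : (p + 1) * (2 * v) ≤ d * (2 * v) := Nat.mul_le_mul_right _ hdp
        have h2 : d * (2 * v) = 2 * (e * k * s) := by rw [hv]; ring
        have h3 : p ^ 2 - 1 < (p + 1) * p := by
          have : (p + 1) * p = p ^ 2 + p := by ring
          omega
        have h4 : (p + 1) * (2 * v) < (p + 1) * p := by omega
        exact Nat.lt_of_mul_lt_mul_left h4
      have h2 : ((v : ℤ)) ≡ ((e * k : ℕ) : ℤ) [ZMOD p] := by
        have := (hmod.mul_right (v : ℤ)).symm.trans hvmod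
        simpa using this
      have hveq : v = e * k :=
        Nat.ModEq.eq_of_lt_of_lt (Int.natCast_modEq_iff.1 h2) (by omega) (by omega)
      refine ⟨?_, h⟩
      rw [hveq, mul_comm d] at hv
      rw [hd]
      exact (Nat.eq_of_mul_eq_mul_left (by omega) hv).symm
    · exfalso
      rw [h] at hmod
      obtain ⟨q, hq⟩ := hmod.symm.dvd
      have hdp : p ≤ d + 1 := by
        have hq1 : 1 ≤ q := by
          rcases lt_or_ge q 1 with hq0 | hq0
          · have hq0' : q ≤ 0 := by omega
            have : (p : ℤ) * q ≤ 0 := mul_nonpos_of_nonneg_of_nonpos (by positivity) hq0'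
            omega
          · exact hq0
        have : (p : ℤ) * 1 ≤ p * q := by gcongr
        omega
      have hvlt : 2 * v < p + 1 := by
        have h1 : (p - 1) * (2 * v) ≤ d * (2 * v) := Nat.mul_le_mul_right _ (by omega)
        have h2 : d * (2 * v) = 2 * (e * k * s) := by rw [hv]; ring
        have h3 : p ^ 2 - 1 = (p - 1) * (p + 1) := by
          zify [hpr.one_le, Nat.one_le_pow 2 p hpr.pos]; ring
        have h4 : (p - 1) * (2 * v) < (p - 1) * (p + 1) := by omega
        exact Nat.lt_of_mul_lt_mul_left h4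
      have h2 : (((v + e * k : ℕ) : ℤ)) ≡ 0 [ZMOD p] := by
        have := (hmod.mul_right (v : ℤ)).symm.trans hvmod
        push_cast at this ⊢
        have h5 := this.add_left ((v : ℤ))
        simpa using h5.symm
      have h6 : p ∣ v + e * k := Int.natCast_dvd_natCast.1 (Int.modEq_zero_iff_dvd.1 h2)
      have := Nat.le_of_dvd (by omega) h6
      omega
  -- a member of Y
  have hYne : Y.Nonempty := by
    by_contra h
    rw [Set.not_nonempty_iff_eq_empty] at h
    rw [h] at hYc
    simp at hYc
    have := Nat.div_pos (show e ≤ p - 1 by omega) (show 0 < e by omega)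
    omega
  obtain ⟨θ, hθ⟩ := hYne
  have h1 := hrel θ hθ 1 (by rw [orderOf_one]; exact hpr.not_dvd_one)
  rw [finsum_mem_eq_finite_toFinset_sum _ (Set.toFinite X)] at h1
  set S := (Set.toFinite X).toFinset with hS
  have htS : t ∈ S := (Set.toFinite X).mem_toFinset.2 htX
  rw [← Finset.add_sum_erase _ _ htS, hεt, Finset.sum_congr rfl (g := fun _ => (s : ℂ)) (fun χ hχ => by
    obtain ⟨hne, hm⟩ := Finset.mem_erase.1 hχ
    obtain ⟨hd, hs'⟩ := hdeg χ ((Set.toFinite X).mem_toFinset.1 hm) hne
    rw [hs', ← charDegree_cast χ.2.isCharacter', hd, Int.cast_one, one_mul]), Finset.sum_const,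
    Finset.card_erase_of_mem htS, nsmul_eq_mul, ← charDegree_cast θ.2.isCharacter'] at h1
  have hScard : S.card = e := by rw [hS, ← hXc, Nat.card_coe_set_eq, Set.ncard_eq_toFinset_card X (Set.toFinite X)]
  rw [hScard] at h1
  obtain ⟨f, hf⟩ : ∃ f, charDegree (θ : G → ℂ) = f := ⟨_, rfl⟩
  rw [hf] at h1
  have h2 : ((ε * f : ℤ) : ℂ) = ((1 + ((e - 1) * s : ℕ) : ℕ) : ℤ) := by
    push_cast at h1 ⊢
    rw [h1]
    simp [t]
  have h3 : ε * (f : ℤ) = ((1 + (e - 1) * s : ℕ) : ℤ) := by exact_mod_cast h2
  have hfe : f = 1 + (e - 1) * s := by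
    rcases hε with rfl | rfl
    · rw [one_mul] at h3; exact_mod_cast h3
    · omega
  have hfk : f ∣ e * k := by
    have hcop : f.Coprime (p * s) := by
      refine Nat.Coprime.mul_right ?_ ?_
      · refine Nat.Coprime.symm (hpr.coprime_iff_not_dvd.2 fun hdvd => ?_)
        have h4 : p ∣ (e - 1) * s + 1 := by rw [add_comm]; rwa [← hfe]
        have h5 : (e - 1) * s + 1 ≡ (e - 1) * 1 + 1 [MOD p] := (hsmod.mul_left _).add_right 1
        rw [mul_one] at h5
        have h6 := (Nat.ModEq.dvd_iff h5 dvd_rfl).1 h4
        have := Nat.le_of_dvd (by omega) h6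
        omega
      · rw [hfe, Nat.coprime_add_mul_right_left]
        exact Nat.coprime_one_left _
    refine hcop.dvd_of_dvd_mul_right ?_
    have h := charDegree_dvd_card θ
    rw [hf, hns] at h
    rwa [show e * k * (p * s) = s * (e * (p * k)) by ring]
  have := Nat.le_of_dvd (by omega) hfk
  have h7 : s ≤ (e - 1) * s := Nat.le_mul_of_pos_left _ (by omega)
  omega

/-- The general lower bound. -/
theorem bound (hp : p ≠ 2) {m : ℕ} (hleast : ∀ k : ℕ, IsPrimePow k → k % p = 1 → m ≤ k) :
    ∀ (n : ℕ) (H : Type u) [Group H] [Finite H], Nat.card H = n → ¬ IsPClosed p H →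
      p * m ≤ n ∨ p * (p ^ 2 - 1) ≤ 2 * n := by
  have hpr : p.Prime := Fact.out
  intro n
  induction n using Nat.strong_induction_on with
  | _ n ih =>
    intro H _ _ hn hcl
    haveI := Fintype.ofFinite H
    obtain ⟨P⟩ := (inferInstance : Nonempty (Sylow p H))
    have hnP := not_normal hcl P
    -- proper sections
    have hsub : ∀ K : Subgroup H, K ≠ ⊤ → IsPClosed p K ∨ (p * m ≤ n ∨ p * (p ^ 2 - 1) ≤ 2 * n) := by
      intro K hK
      by_cases hc : IsPClosed p K
      · exact Or.inl hc
      · have hlt : Nat.card K < n := hn ▸ lt_of_le_of_ne (Subgroup.card_le_card_group K)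
          (fun e => hK (Subgroup.eq_top_of_card_eq _ e))
        rcases ih _ hlt K rfl hc with h | h <;> right <;> omega
    by_contra hgoal
    have hsub' : ∀ K : Subgroup H, K ≠ ⊤ → IsPClosed p K := fun K hK => (hsub K hK).resolve_right hgoal
    have hquo : ∀ (N : Subgroup H) [N.Normal], N ≠ ⊥ → IsPClosed p (H ⧸ N) := by
      intro N _ hN
      by_contra hc
      have hlt : Nat.card (H ⧸ N) < n := by
        have h2 := Subgroup.card_eq_card_quotient_mul_card_subgroup N
        have h3 : 1 < Nat.card N := (Subgroup.one_lt_card_iff_ne_bot N).2 hN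
        rw [← hn, h2]
        exact lt_mul_of_one_lt_right Nat.card_pos h3
      rcases ih _ hlt _ rfl hc with h | h <;> exact hgoal (by omega)
    obtain ⟨c, hc⟩ := IsPGroup.iff_card.1 P.2
    have hns := p_lt_card_sylow hcl
    have hdvd : Nat.card (Sylow p H) * p ^ c ∣ n := by
      rw [← hn, ← hc, Sylow.card_eq_index_normalizer P, ← Subgroup.index_mul_card
        (Subgroup.normalizer ((P : Subgroup H) : Set H))]
      exact Nat.mul_dvd_mul_left _ (Subgroup.card_dvd_of_le Subgroup.le_normalizer)
    have hcard : (p + 1) * p ^ c ≤ n :=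
      le_trans (Nat.mul_le_mul_right _ hns) (Nat.le_of_dvd (hn ▸ Nat.card_pos) hdvd)
    rcases Nat.lt_or_ge c 2 with hc2 | hc2
    swap
    · refine hgoal (Or.inr ?_)
      have h1 : p * p ≤ p ^ c := by rw [← pow_two]; exact Nat.pow_le_pow_right hpr.pos hc2
      have h2 : p * (p ^ 2 - 1) ≤ p * (p * p) := Nat.mul_le_mul_left _ (by rw [pow_two]; omega)
      have h3 : p * (p * p) ≤ (p + 1) * p ^ c := Nat.mul_le_mul (by omega) h1
      omega
    have hc1 : c = 1 := by
      interval_cases c
      · exfalso
        rw [pow_zero] at hc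
        rw [Subgroup.card_eq_one] at hc
        exact hnP (hc ▸ inferInstance)
      · rfl
    rw [hc1, pow_one] at hc
    by_cases hsimp : IsSimpleGroup H
    · exact hgoal (Or.inr (hn ▸ simple_bound hp hcl P hc))
    -- a proper nontrivial normal subgroup
    obtain ⟨N, hN, hNb, hNt⟩ : ∃ N : Subgroup H, N.Normal ∧ N ≠ ⊥ ∧ N ≠ ⊤ := by
      by_contra h
      push Not at h
      haveI : Nontrivial H := by
        by_contra hnt
        rw [not_nontrivial_iff_subsingleton] at hnt
        exact hnP (by rw [Subsingleton.elim (P : Subgroup H) ⊥]; infer_instance)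
      exact hsimp ⟨fun K hK => or_iff_not_imp_left.2 (h K hK)⟩
    haveI := hN
    have hPN : ¬ (P : Subgroup H) ≤ N := by
      intro hle
      haveI := (hsub' N hNt) (P.subtype hle)
      have h := Sylow.normalizer_sup_eq_top (P.subtype hle)
      rw [Sylow.coe_subtype, Subgroup.map_subgroupOf_eq_of_le hle] at h
      refine hnP (Subgroup.normalizer_eq_top_iff.1 (top_unique (h ▸ sup_le le_rfl ?_)))
      intro x hx
      rw [Subgroup.mem_normalizer_iff]
      intro y
      haveI hn' : (((P : Subgroup H)).subgroupOf N).Normal := by rw [← Sylow.coe_subtype (P := P) (h := hle)]; infer_instance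
      constructor
      · intro hy
        exact Subgroup.mem_subgroupOf.1 (hn'.conj_mem ⟨y, hle hy⟩ hy ⟨x, hx⟩)
      · intro hy
        have h2 := Subgroup.mem_subgroupOf.1 (hn'.conj_mem ⟨_, hle hy⟩ hy ⟨x, hx⟩⁻¹)
        simpa [mul_assoc] using h2
    -- P N = H
    have hsup : (P : Subgroup H) ⊔ N = ⊤ := by
      by_contra h
      have h1 := hsub' _ h (P.subtype le_sup_left)
      have hq := hquo N hNb (P.mapSurjective (QuotientGroup.mk'_surjective N))
      have hnorm : ((P : Subgroup H) ⊔ N).Normal := by
        have h2 : (((P : Subgroup H).map (QuotientGroup.mk' N)).comap (QuotientGroup.mk' N)).Normal := by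
          haveI := hq
          exact Subgroup.Normal.comap (by exact hq) _
        rwa [Subgroup.comap_map_eq, QuotientGroup.ker_mk'] at h2
      have h3 := Sylow.normalizer_sup_eq_top (N := (P : Subgroup H) ⊔ N) (P.subtype le_sup_left)
      rw [Sylow.coe_subtype, Subgroup.map_subgroupOf_eq_of_le le_sup_left] at h3
      refine hnP (Subgroup.normalizer_eq_top_iff.1 (top_unique (h3 ▸ sup_le le_rfl ?_)))
      intro x hx
      rw [Sylow.coe_subtype] at h1
      rw [Subgroup.mem_normalizer_iff]
      intro y
      constructor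
      · intro hy
        exact Subgroup.mem_subgroupOf.1 (h1.conj_mem ⟨y, Subgroup.mem_sup_left hy⟩ hy ⟨x, hx⟩)
      · intro hy
        have h2 := Subgroup.mem_subgroupOf.1 (h1.conj_mem ⟨_, Subgroup.mem_sup_left hy⟩ hy ⟨x, hx⟩⁻¹)
        simpa [mul_assoc] using h2
    have hNP : N ⊓ (P : Subgroup H) = ⊥ := by
      rw [← Subgroup.card_eq_one]
      have h := Subgroup.card_dvd_of_le (inf_le_right : N ⊓ (P : Subgroup H) ≤ P)
      rw [hc] at h
      rcases (Nat.dvd_prime hpr).1 h with e | e
      · exact e
      · exact absurd ((Subgroup.eq_of_le_of_card_ge (inf_le_right : N ⊓ (P : Subgroup H) ≤ P) (by rw [e, hc])).ge.trans inf_le_left) hPN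
    -- P normalises some Sylow subgroup for every prime
    have hQ : ∀ q : ℕ, q.Prime → ∀ Q₀ : Sylow q N, ∃ Q : Subgroup H, Q ≤ N ∧
        Nat.card Q = Nat.card Q₀ ∧ (P : Subgroup H) ≤ Subgroup.normalizer (Q : Set H) := by
      intro q hq Q₀
      haveI : Fact q.Prime := ⟨hq⟩
      have hF := Sylow.normalizer_sup_eq_top Q₀
      set Q := (Q₀ : Subgroup N).map N.subtype with hQdef
      set M := Subgroup.normalizer (Q : Set H) with hM
      have hNp : ¬ p ∣ Nat.card N := by
        intro hd
        obtain ⟨x, hx⟩ := exists_prime_orderOf_dvd_card' p hd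
        have hz : IsPGroup p (Subgroup.zpowers (x : H)) := IsPGroup.of_card (n := 1) (by
          rw [Nat.card_zpowers, Subgroup.orderOf_coe, hx, pow_one])
        obtain ⟨T, hT⟩ := hz.exists_le_sylow
        obtain ⟨g, hg⟩ := MulAction.exists_smul_eq H T P
        have hcT : Nat.card (T : Subgroup H) = p := by
          rw [show Nat.card (T : Subgroup H) = Nat.card P from
            (Sylow.card_eq_multiplicity T).trans (Sylow.card_eq_multiplicity P).symm, hc]
        have hTN : (T : Subgroup H) ≤ N := by
          rw [← Subgroup.eq_of_le_of_card_ge hT (by rw [hcT, Nat.card_zpowers, Subgroup.orderOf_coe, hx])]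
          exact Subgroup.zpowers_le.2 x.2
        refine hPN ?_
        rw [← hg, Sylow.coe_subgroup_smul]
        intro y hy
        rw [Subgroup.mem_pointwise_smul_iff_inv_smul_mem] at hy
        have := hN.conj_mem _ (hTN hy) g
        simpa [MulAut.smul_def, mul_assoc] using this
      have hpM : p ∣ Nat.card M := by
        have h1 : Nat.card H ∣ Nat.card M * Nat.card N := by
          have hMN : ∀ x : H, ∃ a ∈ M, ∃ b ∈ N, a * b = x := fun x => by
            have : x ∈ ((M ⊔ N : Subgroup H) : Set H) := by rw [hF]; exact Subgroup.mem_top x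
            rw [Subgroup.mul_normal] at this
            exact this
          have h2 : Nat.card H * Nat.card ↥(N.subgroupOf M) = Nat.card M * Nat.card N := by
            have hi := Subgroup.relIndex_mul_index (le_refl N)
            have hr : N.relIndex M = N.index := by
              rw [← Subgroup.relIndex_top_right, ← hF, Subgroup.relIndex_sup_right]
            rw [← Subgroup.card_mul_index (N.subgroupOf M), ← Subgroup.relIndex, hr, ← Subgroup.card_mul_index N]
            ring
          exact ⟨_, h2.symm⟩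
        have h0 : p ∣ Nat.card H := by
          have h := Subgroup.card_subgroup_dvd_card (P : Subgroup H)
          rwa [hc] at h
        exact (hpr.dvd_mul.1 (h0.trans h1)).resolve_right hNp
      obtain ⟨x, hx⟩ := exists_prime_orderOf_dvd_card' p hpM
      have hz : IsPGroup p (Subgroup.zpowers (x : H)) := IsPGroup.of_card (n := 1) (by
        rw [Nat.card_zpowers, Subgroup.orderOf_coe, hx, pow_one])
      obtain ⟨T, hT⟩ := hz.exists_le_sylow
      obtain ⟨g, hg⟩ := MulAction.exists_smul_eq H T P
      have hTM : (T : Subgroup H) ≤ M := by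
        rw [← Subgroup.eq_of_le_of_card_ge hT (by
          rw [show Nat.card (T : Subgroup H) = Nat.card P from
            (Sylow.card_eq_multiplicity T).trans (Sylow.card_eq_multiplicity P).symm, hc, Nat.card_zpowers,
            Subgroup.orderOf_coe, hx])]
        exact Subgroup.zpowers_le.2 x.2
      refine ⟨Q.map (MulAut.conj g).toMonoidHom, ?_, ?_, ?_⟩
      · rintro _ ⟨y, hy, rfl⟩
        exact hN.conj_mem _ (Subgroup.map_subtype_le _ hy) g
      · rw [Subgroup.card_map_of_injective (MulAut.conj g).injective, hQdef,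
          Subgroup.card_map_of_injective N.subtype_injective]
      · rw [← hg, Sylow.coe_subgroup_smul]
        refine le_trans ?_ (Subgroup.le_normalizer_map _)
        exact Subgroup.map_mono hTM
    -- N is a q-group, else P centralises it
    by_cases hq : ∃ q, q.Prime ∧ ∃ k, Nat.card N = q ^ k
    · obtain ⟨q, hqp, k, hk⟩ := hq
      haveI : Fact q.Prime := ⟨hqp⟩
      have hd : Nat.card (Sylow p H) ∣ q ^ k := by
        rw [← hk]
        have h1 := Sylow.card_dvd_index P
        have h2 : (P : Subgroup H).index = Nat.card N := by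
          exact (Subgroup.isComplement'_of_disjoint_and_mul_eq_univ (H := N) (K := (P : Subgroup H))
            (disjoint_iff.2 hNP) (by rw [← Subgroup.normal_mul, sup_comm, hsup]; rfl)).index_eq_card
        rwa [h2] at h1
      obtain ⟨j, -, hj⟩ := (Nat.dvd_prime_pow hqp).1 hd
      have hpp : IsPrimePow (Nat.card (Sylow p H)) := by
        rw [hj]
        refine (hqp.isPrimePow).pow ?_
        rintro rfl
        rw [pow_zero] at hj
        rw [hj] at hns
        have := hpr.two_le
        omega
      have hm := hleast _ hpp (by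
        have := card_sylow_modEq_one p H
        rw [Nat.ModEq, Nat.mod_eq_of_lt hpr.one_lt] at this
        exact this)
      refine hgoal (Or.inl ?_)
      have := Nat.le_of_dvd (hn ▸ Nat.card_pos) hdvd
      rw [hc1, pow_one, mul_comm] at this
      exact le_trans (Nat.mul_le_mul_left p hm) this
    · push Not at hq
      have hcent : ∀ q, q.Prime → q ^ (Nat.card N).factorization q ∣ Nat.card ↥(N ⊓ Subgroup.centralizer ((P : Subgroup H) : Set H)) := by
        intro q hqp
        haveI : Fact q.Prime := ⟨hqp⟩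
        obtain ⟨Q₀⟩ := (inferInstance : Nonempty (Sylow q N))
        obtain ⟨Q, hQN, hQc, hPQ⟩ := hQ q hqp Q₀
        rw [← Sylow.card_eq_multiplicity Q₀, ← hQc]
        refine Subgroup.card_dvd_of_le (le_inf hQN ?_)
        have hne : (P : Subgroup H) ⊔ Q ≠ ⊤ := by
          intro h
          have hQN' : Q = N := by
            refine le_antisymm hQN fun x hx => ?_
            have : x ∈ (((P : Subgroup H) ⊔ Q : Subgroup H) : Set H) := by rw [h]; exact Subgroup.mem_top x
            rw [Subgroup.coe_mul_of_left_le_normalizer_right _ _ hPQ] at this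
            obtain ⟨a, ha, b, hb, rfl⟩ := this
            have ha1 : a = 1 := by
              have : a ∈ N ⊓ (P : Subgroup H) := ⟨by simpa using N.mul_mem hx (N.inv_mem (hQN hb)), ha⟩
              rw [hNP, Subgroup.mem_bot] at this
              exact this
            rw [ha1]; simpa using hb
          exact hq q hqp _ ((hQN' ▸ hQc).trans (Sylow.card_eq_multiplicity Q₀))
        have h1 := hsub' _ hne (P.subtype le_sup_left)
        rw [Sylow.coe_subtype] at h1
        intro y hy z hz
        have hPn : ∀ w ∈ (P : Subgroup H), y * w * y⁻¹ ∈ (P : Subgroup H) := fun w hw =>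
          Subgroup.mem_subgroupOf.1 (h1.conj_mem ⟨w, Subgroup.mem_sup_left hw⟩ hw ⟨y, Subgroup.mem_sup_right hy⟩)
        have hc' : z * y * z⁻¹ * y⁻¹ ∈ N ⊓ (P : Subgroup H) := by
          refine ⟨N.mul_mem (hN.conj_mem _ (hQN hy) z) (N.inv_mem (hQN hy)), ?_⟩
          rw [show z * y * z⁻¹ * y⁻¹ = z * (y * z⁻¹ * y⁻¹) by group]
          exact (P : Subgroup H).mul_mem hz (hPn _ ((P : Subgroup H).inv_mem hz))
        rw [hNP, Subgroup.mem_bot, mul_inv_eq_one, mul_inv_eq_iff_eq_mul] at hc'
        exact hc'
      have heq : N ⊓ Subgroup.centralizer ((P : Subgroup H) : Set H) = N := by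
        refine Subgroup.eq_of_le_of_card_ge inf_le_left (Nat.le_of_dvd Nat.card_pos ?_)
        refine (Nat.factorization_prime_le_iff_dvd Nat.card_pos.ne' Nat.card_pos.ne').1 fun q hqp => ?_
        exact (hqp.pow_dvd_iff_le_factorization Nat.card_pos.ne').1 (hcent q hqp)
      refine hnP ?_
      rw [← Subgroup.normalizer_eq_top_iff, eq_top_iff, ← hsup]
      exact sup_le Subgroup.le_normalizer ((heq.ge.trans inf_le_right).trans (Subgroup.centralizer_le_normalizer _))

end CfsgLib.Core.LeastNonClosed
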