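import Mathlib
import Cfsg.Prelude.Def_OddOrderLocal
import Cfsg.Agent.Lib.CoreGeom

/-!
Metacyclic `p`-groups, `p` odd: commutation is governed by an alternating form on
`(ZMod (p^n))^2`, where `p^n` is the order of the derived subgroup.
-/

set_option maxHeartbeats 400000
set_option linter.unusedSectionVars false

namespace CfsgLib.Core.Metacyclic

open CfsgLib.Core

/-- A standard generating pair of a metacyclic `p`-group, `p` odd. -/
structure MC (G : Type*) [Group G] (p : ℕ) where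
  a : G
  b : G
  s : ℕ
  n : ℕ
  hp : p.Prime
  hp2 : p ≠ 2
  gen : ∀ g : G, ∃ i j : ℕ, g = a ^ i * b ^ j
  conj : b * a * b⁻¹ = a ^ (1 + s)
  hs : (s : ZMod p) = 0
  hc : orderOf (a ^ s) = p ^ n
  normalA : (Subgroup.zpowers a).Normal

theorem exists_mc {G : Type*} [Group G] [Finite G] {p : ℕ} [Fact p.Prime] (hp : p ≠ 2)
    (hG : IsPGroup p G) (h : Cfsg.IsMetacyclic G) : Nonempty (MC G p) := by
  obtain ⟨N, hN, hNc, hQc⟩ := h
  haveI := hN
  have hpp : p.Prime := Fact.out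
  obtain ⟨⟨a, haN⟩, ha⟩ := IsCyclic.exists_generator (α := ↥N)
  obtain ⟨bq, hb⟩ := IsCyclic.exists_generator (α := G ⧸ N)
  obtain ⟨b, rfl⟩ := QuotientGroup.mk_surjective bq
  have haz : ∀ x ∈ N, ∃ i : ℕ, a ^ i = x := fun x hx => by
    have h0 : (⟨x, hx⟩ : ↥N) ∈ Submonoid.powers (⟨a, haN⟩ : ↥N) := by
      rw [(isOfFinOrder_of_finite (⟨a, haN⟩ : ↥N)).mem_powers_iff_mem_zpowers]; exact ha _
    obtain ⟨i, hi⟩ := h0
    exact ⟨i, by simpa using congrArg Subtype.val hi⟩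
  have hNz : N = Subgroup.zpowers a := le_antisymm
    (fun x hx => by obtain ⟨i, rfl⟩ := haz x hx; exact pow_mem (Subgroup.mem_zpowers a) i)
    (Subgroup.zpowers_le.mpr haN)
  have hgen : ∀ g : G, ∃ i j : ℕ, g = a ^ i * b ^ j := fun g => by
    have h0 : (g : G ⧸ N) ∈ Submonoid.powers (b : G ⧸ N) := by
      rw [(isOfFinOrder_of_finite (b : G ⧸ N)).mem_powers_iff_mem_zpowers]; exact hb _
    obtain ⟨j, hj⟩ := h0
    simp only at hj
    have h1 : g * (b ^ j)⁻¹ ∈ N := by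
      rw [← QuotientGroup.eq_one_iff]
      rw [QuotientGroup.mk_mul, QuotientGroup.mk_inv, QuotientGroup.mk_pow, hj, mul_inv_cancel]
    obtain ⟨i, hi⟩ := haz _ h1
    exact ⟨i, j, by rw [hi, inv_mul_cancel_right]⟩
  obtain ⟨r₀, hr₀⟩ := haz (b * a * b⁻¹) (hN.conj_mem a haN b)
  obtain ⟨m, hm⟩ := (IsPGroup.iff_orderOf.mp hG) a
  obtain ⟨s, hs, hconj⟩ : ∃ s : ℕ, (s : ZMod p) = 0 ∧ a ^ (1 + s) = b * a * b⁻¹ := by
    rcases Nat.eq_zero_or_pos m with rfl | hm0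
    · rw [pow_zero, orderOf_eq_one_iff] at hm
      exact ⟨0, by simp, by subst hm; simp⟩
    obtain ⟨l, hl⟩ := (IsPGroup.iff_orderOf.mp hG) b
    have hiter : ∀ t : ℕ, b ^ t * a * (b ^ t)⁻¹ = a ^ (r₀ ^ t) := by
      intro t
      induction t with
      | zero => simp
      | succ t ih =>
        calc b ^ (t + 1) * a * (b ^ (t + 1))⁻¹ = b * (b ^ t * a * (b ^ t)⁻¹) * b⁻¹ := by
              rw [pow_succ' b]; group
          _ = (b * a * b⁻¹) ^ (r₀ ^ t) := by rw [ih, conj_pow]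
          _ = a ^ (r₀ ^ (t + 1)) := by rw [← hr₀, ← pow_mul, ← pow_succ']
    have h1 := hiter (p ^ l)
    rw [← hl, pow_orderOf_eq_one] at h1
    simp only [one_mul, inv_one, mul_one] at h1
    have h2 : r₀ ^ p ^ l ≡ 1 [MOD p ^ m] := by
      rw [← hm, ← pow_eq_pow_iff_modEq, pow_one, ← hl]; exact h1.symm
    have h3 := h2.of_dvd (dvd_pow_self p hm0.ne')
    rw [← ZMod.natCast_eq_natCast_iff] at h3
    push_cast at h3
    rw [ZMod.pow_card_pow] at h3
    have h4 : 1 ≤ r₀ := Nat.one_le_iff_ne_zero.mpr fun h0 => by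
      rw [h0, Nat.cast_zero] at h3; exact zero_ne_one h3
    refine ⟨r₀ - 1, ?_, by rw [Nat.add_sub_cancel' h4, hr₀]⟩
    rw [Nat.cast_sub h4, h3, Nat.cast_one, sub_self]
  obtain ⟨n, hn⟩ := (IsPGroup.iff_orderOf.mp hG) (a ^ s)
  exact ⟨⟨a, b, s, n, hpp, hp, hgen, hconj.symm, hs, hn, hNz ▸ hN⟩⟩

variable {G : Type*} [Group G] [Finite G] {p : ℕ} (M : MC G p)

namespace MC

/-- The commutator of the two generators. -/
def c : G := M.a ^ M.s

theorem c_pow_eq {x y : ℕ} : M.c ^ x = M.c ^ y ↔ (x : ZMod (p ^ M.n)) = y := by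
  rw [ZMod.natCast_eq_natCast_iff, ← M.hc]
  exact pow_eq_pow_iff_modEq

theorem cast_q : ((1 + M.s : ℕ) : ZMod p) = 1 := by push_cast; rw [M.hs, add_zero]

theorem cast_qpow (j : ℕ) : (((1 + M.s) ^ j : ℕ) : ZMod p) = 1 := by
  rw [Nat.cast_pow, M.cast_q, one_pow]

theorem b_pow_conj (j i : ℕ) : M.b ^ j * M.a ^ i = M.a ^ (i * (1 + M.s) ^ j) * M.b ^ j := by
  induction j with
  | zero => simp
  | succ j ih =>
    calc M.b ^ (j + 1) * M.a ^ i = M.b * (M.b ^ j * M.a ^ i) := by rw [pow_succ', mul_assoc]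
      _ = (M.b * M.a ^ (i * (1 + M.s) ^ j) * M.b⁻¹) * M.b ^ (j + 1) := by
          rw [ih, pow_succ']; group
      _ = M.a ^ (i * (1 + M.s) ^ (j + 1)) * M.b ^ (j + 1) := by
          rw [← conj_pow, M.conj, ← pow_mul, pow_succ (1 + M.s)]
          ring_nf

theorem a_pow_q (i j : ℕ) :
    M.a ^ (i * (1 + M.s) ^ j) = M.a ^ i * M.c ^ (i * geo (1 + M.s) j) := by
  rw [c, ← pow_mul, ← pow_add, one_add_pow_eq]
  congr 1
  ring

theorem mul_eq (i j k l : ℕ) : M.a ^ i * M.b ^ j * (M.a ^ k * M.b ^ l) =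
    M.a ^ (i + k * (1 + M.s) ^ j) * M.b ^ (j + l) := by
  rw [pow_add, pow_add, mul_assoc (M.a ^ i), ← mul_assoc (M.b ^ j), M.b_pow_conj]
  simp only [mul_assoc]

theorem mul_eq' (i j k l : ℕ) : M.a ^ i * M.b ^ j * (M.a ^ k * M.b ^ l) =
    M.c ^ (k * geo (1 + M.s) j) * (M.a ^ (i + k) * M.b ^ (j + l)) := by
  rw [M.mul_eq, pow_add, M.a_pow_q, pow_add M.a, ← mul_assoc (M.c ^ _)]
  congr 1
  simp only [c, ← pow_mul, ← pow_add]
  congr 1
  ring

theorem comm_iff (i j k l : ℕ) :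
    M.a ^ i * M.b ^ j * (M.a ^ k * M.b ^ l) = M.a ^ k * M.b ^ l * (M.a ^ i * M.b ^ j) ↔
      ((k * geo (1 + M.s) j : ℕ) : ZMod (p ^ M.n)) = ((i * geo (1 + M.s) l : ℕ) : ZMod (p ^ M.n)) := by
  rw [M.mul_eq', M.mul_eq', Nat.add_comm k i, Nat.add_comm l j, mul_left_inj, M.c_pow_eq]

/-- The value ring. -/
abbrev V : Type := ZMod (p ^ M.n) × ZMod (p ^ M.n)

theorem b_comm (i j : ℕ) :
    M.b * (M.a ^ i * M.b ^ j) * (M.a ^ i * M.b ^ j * M.b)⁻¹ = M.c ^ i := by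
  have h1 := M.mul_eq' 0 1 i j
  have h2 := M.mul_eq' i j 0 1
  simp only [pow_zero, one_mul, pow_one, zero_mul, geo_one, mul_one, Nat.zero_add, Nat.add_zero] at h1 h2
  rw [h1, h2, Nat.add_comm 1 j, mul_inv_cancel_right]

theorem a_comm (i j : ℕ) :
    M.a ^ i * M.b ^ j * M.a * (M.a * (M.a ^ i * M.b ^ j))⁻¹ = M.c ^ geo (1 + M.s) j := by
  have h1 := M.mul_eq' i j 1 0
  have h2 := M.mul_eq' 1 0 i j
  simp only [pow_zero, one_mul, mul_one, pow_one, geo_zero, mul_zero, Nat.zero_add, Nat.add_zero] at h1 h2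
  rw [h1, h2, Nat.add_comm 1 i, mul_inv_cancel_right]

theorem rep_unique {i j k l : ℕ} (h : M.a ^ i * M.b ^ j = M.a ^ k * M.b ^ l) :
    (i : ZMod (p ^ M.n)) = k ∧
      ((geo (1 + M.s) j : ℕ) : ZMod (p ^ M.n)) = (geo (1 + M.s) l : ℕ) := by
  constructor
  · rw [← M.c_pow_eq, ← M.b_comm i j, ← M.b_comm k l, h]
  · rw [← M.c_pow_eq, ← M.a_comm i j, ← M.a_comm k l, h]

/-- The coordinates of a group element. -/
noncomputable def w (g : G) : M.V :=
  let h := M.gen g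
  ((h.choose : ZMod (p ^ M.n)),
    ((geo (1 + M.s) h.choose_spec.choose : ℕ) : ZMod (p ^ M.n)))

theorem w_mk (i j : ℕ) : M.w (M.a ^ i * M.b ^ j) =
    ((i : ZMod (p ^ M.n)), ((geo (1 + M.s) j : ℕ) : ZMod (p ^ M.n))) := by
  have h := M.gen (M.a ^ i * M.b ^ j)
  have h2 := M.rep_unique h.choose_spec.choose_spec
  exact Prod.ext h2.1.symm h2.2.symm

/-- The alternating form. -/
def det (x y : M.V) : ZMod (p ^ M.n) := x.1 * y.2 - x.2 * y.1

theorem commute_iff (g h : G) : g * h = h * g ↔ M.det (M.w g) (M.w h) = 0 := by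
  obtain ⟨i, j, rfl⟩ := M.gen g
  obtain ⟨k, l, rfl⟩ := M.gen h
  rw [M.comm_iff, M.w_mk, M.w_mk, det, sub_eq_zero]
  push_cast
  constructor <;> intro h <;> linear_combination -h

/-- The scalar by which an element twists the coordinates. -/
def chi (x : M.V) : ZMod (p ^ M.n) := 1 + (M.s : ZMod (p ^ M.n)) * x.2

theorem cast_pow_j (j : ℕ) : (((1 + M.s) ^ j : ℕ) : ZMod (p ^ M.n)) =
    1 + (M.s : ZMod (p ^ M.n)) * ((geo (1 + M.s) j : ℕ) : ZMod (p ^ M.n)) := by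
  rw [one_add_pow_eq]; push_cast; ring

theorem w_mul (g h : G) : M.w (g * h) = M.w g + M.chi (M.w g) • M.w h := by
  obtain ⟨i, j, rfl⟩ := M.gen g
  obtain ⟨k, l, rfl⟩ := M.gen h
  rw [M.mul_eq, M.w_mk, M.w_mk, M.w_mk, chi, ← M.cast_pow_j, geo_add]
  ext
  · simp only [Prod.fst_add, Prod.smul_fst, smul_eq_mul]; push_cast; ring
  · simp only [Prod.snd_add, Prod.smul_snd, smul_eq_mul]; push_cast; ring

theorem w_one : M.w 1 = 0 := by
  have := M.w_mk 0 0
  rw [pow_zero, pow_zero, one_mul] at this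
  rw [this]
  simp

theorem chi_isUnit (g : G) : IsUnit (M.chi (M.w g)) := by
  obtain ⟨i, j, rfl⟩ := M.gen g
  rw [M.w_mk, chi, ← M.cast_pow_j, ZMod.isUnit_iff_coprime]
  refine Nat.Coprime.pow_right _ (Nat.Coprime.symm ((M.hp.coprime_iff_not_dvd).mpr fun h => ?_))
  rw [← ZMod.natCast_eq_zero_iff, M.cast_qpow] at h
  haveI := Fact.mk M.hp
  exact one_ne_zero h

theorem neZero : NeZero (p ^ M.n) := ⟨pow_ne_zero _ M.hp.ne_zero⟩

theorem w_surjective : Function.Surjective M.w := fun x => by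
  haveI := M.neZero
  have hinj : Function.Injective
      (fun y : ZMod (p ^ M.n) => ((geo (1 + M.s) y.val : ℕ) : ZMod (p ^ M.n))) := by
    intro y z h
    simp only [ZMod.natCast_eq_natCast_iff, geo_modEq M.hp M.hp2 M.cast_q] at h
    rw [← ZMod.natCast_eq_natCast_iff, ZMod.natCast_zmod_val, ZMod.natCast_zmod_val] at h
    exact h
  obtain ⟨y, hy⟩ := Finite.injective_iff_surjective.mp hinj x.2
  exact ⟨M.a ^ x.1.val * M.b ^ y.val, by
    rw [M.w_mk]; exact Prod.ext (by simp) hy⟩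

theorem det_zero_right (x : M.V) : M.det x 0 = 0 := by simp [det]

theorem det_self (x : M.V) : M.det x x = 0 := by simp [det]; ring

theorem eq_zero_of_det {x : M.V} (h : ∀ y, M.det x y = 0) : x = 0 := by
  have h1 := h (0, 1)
  have h2 := h (1, 0)
  simp [det] at h1 h2
  exact Prod.ext h1 h2

theorem w_eq_zero_iff (g : G) : M.w g = 0 ↔ g ∈ Subgroup.center G := by
  rw [Subgroup.mem_center_iff]
  constructor
  · intro h x; rw [eq_comm, M.commute_iff, h]; simp [det]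
  · intro h
    refine M.eq_zero_of_det fun y => ?_
    obtain ⟨x, rfl⟩ := M.w_surjective y
    exact (M.commute_iff g x).mp (h x).symm

theorem w_mul_center (g z : G) (hz : z ∈ Subgroup.center G) : M.w (g * z) = M.w g := by
  rw [M.w_mul, (M.w_eq_zero_iff z).mpr hz, smul_zero, add_zero]

theorem w_eq_iff (g h : G) : M.w g = M.w h ↔ g⁻¹ * h ∈ Subgroup.center G := by
  constructor
  · intro e
    rw [← M.w_eq_zero_iff]
    have h1 := M.w_mul g (g⁻¹ * h)
    rw [mul_inv_cancel_left, ← e, left_eq_add] at h1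
    exact (M.chi_isUnit g).smul_eq_zero.mp h1
  · intro hz
    have := M.w_mul_center g _ hz
    rw [mul_inv_cancel_left] at this
    exact this.symm

end MC

end CfsgLib.Core.Metacyclic
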