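import Mathlib
import Cfsg.Agent.Lib.CoreMetacyclic

/-!
Subgroups containing the centre of a metacyclic `p`-group, `p` odd, correspond to submodules of
`(ZMod (p^n))^2`, centralizers to perpendicular submodules.
-/

set_option maxHeartbeats 400000
set_option linter.unusedSectionVars false

namespace CfsgLib.Core.Metacyclic

open CfsgLib.Core

namespace MC

variable {G : Type*} [Group G] [Finite G] {p : ℕ} (M : MC G p)

theorem finiteV : Finite M.V := by
  haveI := M.neZero
  infer_instance

theorem chi_cast (g : G) : ∃ q : ℕ, (q : ZMod p) = 1 ∧ (q : ZMod (p ^ M.n)) = M.chi (M.w g) := by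
  obtain ⟨i, j, rfl⟩ := M.gen g
  exact ⟨_, M.cast_qpow j, by rw [M.w_mk, chi, ← M.cast_pow_j]⟩

theorem w_pow (g : G) (k : ℕ) : M.w (g ^ k) = geo (M.chi (M.w g)) k • M.w g := by
  induction k with
  | zero => simp [M.w_one]
  | succ k ih =>
    rw [pow_succ', M.w_mul, ih, Nat.add_comm k 1, geo_add, pow_one, geo_one, smul_smul,
      add_smul (1 : ZMod (p ^ M.n)), one_smul]

theorem exists_pow_smul (g : G) (y : ZMod (p ^ M.n)) : ∃ k : ℕ, M.w (g ^ k) = y • M.w g := by
  haveI := M.neZero
  obtain ⟨q, hq, hqc⟩ := M.chi_cast g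
  have hinj : Function.Injective
      (fun z : ZMod (p ^ M.n) => ((geo q z.val : ℕ) : ZMod (p ^ M.n))) := by
    intro z z' h
    simp only [ZMod.natCast_eq_natCast_iff, geo_modEq M.hp M.hp2 hq] at h
    rw [← ZMod.natCast_eq_natCast_iff, ZMod.natCast_zmod_val, ZMod.natCast_zmod_val] at h
    exact h
  obtain ⟨z, hz⟩ := Finite.injective_iff_surjective.mp hinj y
  exact ⟨z.val, by rw [M.w_pow, ← hqc, ← natCast_geo]; exact congrArg (· • M.w g) hz⟩

theorem exists_smul_mem (R : Subgroup G) {g : G} (hg : g ∈ R) (y : ZMod (p ^ M.n)) :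
    ∃ h ∈ R, M.w h = y • M.w g := by
  obtain ⟨k, hk⟩ := M.exists_pow_smul g y
  exact ⟨_, pow_mem hg k, hk⟩

/-- The coordinates of a subgroup. -/
noncomputable def img (R : Subgroup G) : AddSubgroup M.V where
  carrier := M.w '' (R : Set G)
  zero_mem' := ⟨1, one_mem R, M.w_one⟩
  add_mem' := by
    rintro _ _ ⟨g, hg, rfl⟩ ⟨h, hh, rfl⟩
    obtain ⟨u, hu⟩ := M.chi_isUnit g
    obtain ⟨h', hh', e⟩ := M.exists_smul_mem R hh (↑u⁻¹)
    exact ⟨g * h', mul_mem hg hh', by rw [M.w_mul, e, smul_smul, ← hu, u.mul_inv, one_smul]⟩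
  neg_mem' := by
    rintro _ ⟨g, hg, rfl⟩
    obtain ⟨h', hh', e⟩ := M.exists_smul_mem R hg (-1)
    exact ⟨h', hh', by rw [e, neg_one_smul]⟩

theorem mem_img {R : Subgroup G} {x : M.V} : x ∈ M.img R ↔ ∃ g ∈ R, M.w g = x := Iff.rfl

theorem smul_mem (K : AddSubgroup M.V) {x : M.V} (hx : x ∈ K) (y : ZMod (p ^ M.n)) :
    y • x ∈ K :=
  ZMod.smul_mem (K := K) hx y

/-- The elements with coordinates in a given submodule. -/
noncomputable def pre (K : AddSubgroup M.V) : Subgroup G where
  carrier := {g | M.w g ∈ K}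
  one_mem' := by show M.w 1 ∈ K; rw [M.w_one]; exact zero_mem K
  mul_mem' := by
    intro g h hg hh
    show M.w (g * h) ∈ K
    rw [M.w_mul]
    exact add_mem hg (M.smul_mem K hh _)
  inv_mem' := by
    intro g hg
    show M.w g⁻¹ ∈ K
    have h1 := M.w_mul g g⁻¹
    rw [mul_inv_cancel, M.w_one] at h1
    obtain ⟨u, hu⟩ := M.chi_isUnit g
    have h2 : M.w g⁻¹ = (↑u⁻¹ : ZMod (p ^ M.n)) • (-M.w g) := by
      rw [← eq_neg_of_add_eq_zero_right h1.symm, smul_smul, ← hu, u.inv_mul, one_smul]
    rw [h2]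
    exact M.smul_mem K (neg_mem hg) _

theorem mem_pre {K : AddSubgroup M.V} {g : G} : g ∈ M.pre K ↔ M.w g ∈ K := Iff.rfl

theorem center_le_pre (K : AddSubgroup M.V) : Subgroup.center G ≤ M.pre K := fun g hg => by
  rw [mem_pre, (M.w_eq_zero_iff g).mpr hg]; exact zero_mem K

theorem le_pre_img (R : Subgroup G) : R ≤ M.pre (M.img R) := fun g hg => ⟨g, hg, rfl⟩

theorem img_pre (K : AddSubgroup M.V) : M.img (M.pre K) = K := by
  ext x
  constructor
  · rintro ⟨g, hg, rfl⟩; exact hg
  · intro hx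
    obtain ⟨g, rfl⟩ := M.w_surjective x
    exact ⟨g, hx, rfl⟩

theorem pre_img {R : Subgroup G} (hR : Subgroup.center G ≤ R) : M.pre (M.img R) = R := by
  refine le_antisymm ?_ (M.le_pre_img R)
  rintro g ⟨h, hh, e⟩
  have := mul_mem hh (hR ((M.w_eq_iff h g).mp e))
  rwa [mul_inv_cancel_left] at this

theorem card_pre (K : AddSubgroup M.V) :
    Nat.card ↥(M.pre K) = Nat.card ↥K * Nat.card ↥(Subgroup.center G) := by
  rw [← Nat.card_prod]
  choose sec hsec using M.w_surjective
  refine (Nat.card_congr (Equiv.ofBijective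
    (fun xz : ↥K × ↥(Subgroup.center G) => (⟨sec xz.1.1 * xz.2.1, by
      rw [mem_pre, M.w_mul_center _ _ xz.2.2, hsec]; exact xz.1.2⟩ : ↥(M.pre K))) ⟨?_, ?_⟩)).symm
  · rintro ⟨x, z⟩ ⟨x', z'⟩ h
    have h' := congrArg Subtype.val h
    simp only at h'
    have hx : (x : M.V) = x' := by
      have := congrArg M.w h'
      rwa [M.w_mul_center _ _ z.2, M.w_mul_center _ _ z'.2, hsec, hsec] at this
    obtain rfl : x = x' := Subtype.ext hx
    simp only [mul_right_inj] at h'
    rw [Subtype.ext h']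
  · rintro ⟨g, hg⟩
    refine ⟨⟨⟨M.w g, hg⟩, ⟨(sec (M.w g))⁻¹ * g, (M.w_eq_iff _ _).mp (hsec _)⟩⟩, ?_⟩
    exact Subtype.ext (mul_inv_cancel_left _ _)

theorem card_of_center_le {R : Subgroup G} (hR : Subgroup.center G ≤ R) :
    Nat.card ↥R = Nat.card ↥(M.img R) * Nat.card ↥(Subgroup.center G) := by
  rw [← M.card_pre, M.pre_img hR]

theorem card_V : Nat.card M.V = p ^ (2 * M.n) := by
  rw [Nat.card_prod, Nat.card_zmod, two_mul, pow_add]

include M in
theorem card_G : Nat.card G = p ^ (2 * M.n) * Nat.card ↥(Subgroup.center G) := by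
  have h : M.pre ⊤ = ⊤ := by ext g; simp [mem_pre]
  rw [← Subgroup.card_top (G := G), ← h, M.card_pre, AddSubgroup.card_top, M.card_V]

/-- Pairing with a fixed vector. -/
def detHom (x : M.V) : M.V →+ ZMod (p ^ M.n) where
  toFun y := M.det x y
  map_zero' := M.det_zero_right x
  map_add' y z := by simp only [det, Prod.fst_add, Prod.snd_add]; ring

theorem det_comm (x y : M.V) : M.det x y = -M.det y x := by simp only [det]; ring

/-- The perpendicular submodule. -/
def perp (K : AddSubgroup M.V) : AddSubgroup M.V where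
  carrier := {x | ∀ y ∈ K, M.det x y = 0}
  zero_mem' := fun y _ => by simp [det]
  add_mem' := by
    intro a b ha hb y hy
    have h1 := ha y hy
    have h2 := hb y hy
    simp only [det, Prod.fst_add, Prod.snd_add] at h1 h2 ⊢
    linear_combination h1 + h2
  neg_mem' := by
    intro a ha y hy
    have h1 := ha y hy
    simp only [det, Prod.fst_neg, Prod.snd_neg] at h1 ⊢
    linear_combination -h1

theorem mem_perp {K : AddSubgroup M.V} {x : M.V} : x ∈ M.perp K ↔ ∀ y ∈ K, M.det x y = 0 :=
  Iff.rfl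

theorem centralizer_eq (R : Subgroup G) :
    Subgroup.centralizer (R : Set G) = M.pre (M.perp (M.img R)) := by
  ext g
  rw [Subgroup.mem_centralizer_iff, mem_pre, mem_perp]
  constructor
  · rintro h _ ⟨r, hr, rfl⟩
    exact (M.commute_iff g r).mp (h r hr).symm
  · intro h r hr
    exact ((M.commute_iff g r).mpr (h _ ⟨r, hr, rfl⟩)).symm

theorem card_perp (K : AddSubgroup M.V) :
    Nat.card ↥K * Nat.card ↥(M.perp K) = p ^ (2 * M.n) := by
  haveI := M.neZero
  haveI := M.finiteV
  let ψ : AddChar (ZMod (p ^ M.n)) ℂ := ZMod.stdAddChar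
  have hψ : ∀ z, ψ z = 1 → z = 0 := fun z hz =>
    ZMod.injective_stdAddChar (hz.trans (AddChar.map_zero_eq_one ψ).symm)
  let Φ : M.V → AddChar M.V ℂ := fun x => ψ.compAddMonoidHom (M.detHom x)
  have hΦ : Function.Bijective Φ := by
    letI := Fintype.ofFinite M.V
    haveI : Finite (AddChar M.V ℂ) := inferInstance
    refine (Fintype.bijective_iff_injective_and_card Φ).mpr ⟨fun x x' h => ?_, ?_⟩
    · refine sub_eq_zero.mp (M.eq_zero_of_det fun y => hψ _ ?_)
      have h1 : ψ (M.det x y) = ψ (M.det x' y) := congrArg (fun f => f y) h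
      have h2 : M.det (x - x') y = M.det x y - M.det x' y := by
        simp only [det, Prod.fst_sub, Prod.snd_sub]; ring
      rw [h2, AddChar.map_sub_eq_div, h1, div_self]
      intro h0
      have := AddChar.map_add_eq_mul ψ (M.det x' y) (-M.det x' y)
      rw [add_neg_cancel, AddChar.map_zero_eq_one, h0, zero_mul] at this
      exact one_ne_zero this
    · rw [← Nat.card_eq_fintype_card, ← Nat.card_eq_fintype_card]
      simpa [Nat.card_eq_fintype_card] using (AddChar.card_eq (α := M.V)).symm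
  letI := Fintype.ofFinite (M.V ⧸ K)
  let e : ↥(M.perp K) → AddChar (M.V ⧸ K) ℂ := fun x =>
    ψ.compAddMonoidHom (QuotientAddGroup.lift K (M.detHom x.1) (fun y hy => x.2 y hy))
  have he : Function.Bijective e := by
    constructor
    · intro x x' h
      refine Subtype.ext (hΦ.1 (DFunLike.ext _ _ fun y => ?_))
      exact congrArg (fun f : AddChar (M.V ⧸ K) ℂ => f (y : M.V ⧸ K)) h
    · intro χ
      obtain ⟨x, hx⟩ := hΦ.2 (χ.compAddMonoidHom (QuotientAddGroup.mk' K))
      refine ⟨⟨x, fun y hy => hψ _ ?_⟩, ?_⟩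
      · have h1 : ψ (M.det x y) = χ (y : M.V ⧸ K) := congrArg (fun f => f y) hx
        rw [h1, (QuotientAddGroup.eq_zero_iff y).mpr hy, AddChar.map_zero_eq_one]
      · refine DFunLike.ext _ _ fun z => ?_
        induction z using QuotientAddGroup.induction_on with
        | H y => exact congrArg (fun f => f y) hx
  rw [Nat.card_eq_of_bijective e he, Nat.card_eq_fintype_card (α := AddChar (M.V ⧸ K) ℂ),
    AddChar.card_eq, ← Nat.card_eq_fintype_card, mul_comm,
    ← AddSubgroup.card_eq_card_quotient_mul_card_addSubgroup, M.card_V]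

include M in
theorem card_mul_card_centralizer {R : Subgroup G} (hR : Subgroup.center G ≤ R) :
    Nat.card ↥R * Nat.card ↥(Subgroup.centralizer (R : Set G)) =
      Nat.card G * Nat.card ↥(Subgroup.center G) := by
  rw [M.centralizer_eq, M.card_pre, M.card_of_center_le hR, M.card_G, ← M.card_perp (M.img R)]
  ring

theorem perp_perp (K : AddSubgroup M.V) : M.perp (M.perp K) = K := by
  haveI := M.finiteV
  refine (AddSubgroup.eq_of_le_of_card_ge (fun x hx y hy => ?_) (le_of_eq ?_)).symm
  · rw [M.det_comm, hy x hx, neg_zero]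
  · have h1 := M.card_perp K
    have h2 := M.card_perp (M.perp K)
    rw [← h1, mul_comm] at h2
    exact mul_right_cancel₀ (Nat.card_pos (α := ↥(M.perp K))).ne' h2

include M in
theorem double_centralizer {R : Subgroup G} (hR : Subgroup.center G ≤ R) :
    Subgroup.centralizer (Subgroup.centralizer (R : Set G) : Set G) = R := by
  rw [M.centralizer_eq R, M.centralizer_eq, M.img_pre, M.perp_perp, M.pre_img hR]

theorem img_le_perp_iff (R : Subgroup G) :
    IsMulCommutative ↥R ↔ M.img R ≤ M.perp (M.img R) := by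
  constructor
  · rintro h _ ⟨g, hg, rfl⟩ _ ⟨r, hr, rfl⟩
    exact (M.commute_iff g r).mp (congrArg Subtype.val (h.is_comm.comm ⟨g, hg⟩ ⟨r, hr⟩))
  · intro h
    exact .of_comm fun x y => Subtype.ext
      ((M.commute_iff x.1 y.1).mpr (h ⟨x.1, x.2, rfl⟩ _ ⟨y.1, y.2, rfl⟩))

theorem commutator_mul_eq (g h : G) :
    g * h * (h * g)⁻¹ = M.c ^ (-M.det (M.w g) (M.w h)).val := by
  haveI := M.neZero
  obtain ⟨i, j, rfl⟩ := M.gen g
  obtain ⟨k, l, rfl⟩ := M.gen h
  rw [M.mul_eq', M.mul_eq' k l i j, Nat.add_comm k i, Nat.add_comm l j, mul_inv_rev, mul_assoc,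
    mul_inv_cancel_left, mul_inv_eq_iff_eq_mul, ← pow_add, M.c_pow_eq]
  simp only [Nat.cast_add, ZMod.natCast_val, ZMod.cast_id, det, M.w_mk, Nat.cast_mul]
  ring

theorem commutator_eq : commutator G = Subgroup.zpowers M.c := by
  refine le_antisymm ?_ (Subgroup.zpowers_le.mpr ?_)
  · refine Subgroup.commutator_le.mpr fun g _ h _ => ?_
    rw [commutatorElement_def, show g * h * g⁻¹ * h⁻¹ = g * h * (h * g)⁻¹ by group,
      M.commutator_mul_eq]
    exact pow_mem (Subgroup.mem_zpowers _) _
  · have h1 := M.b_comm 1 0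
    simp only [pow_one, pow_zero, mul_one] at h1
    rw [← h1, show M.b * M.a * (M.a * M.b)⁻¹ = M.b * M.a * M.b⁻¹ * M.a⁻¹ by group,
      ← commutatorElement_def]
    exact Subgroup.commutator_mem_commutator (Subgroup.mem_top _) (Subgroup.mem_top _)

theorem card_commutator : Nat.card ↥(commutator G) = p ^ M.n := by
  rw [M.commutator_eq, Nat.card_zpowers]
  exact M.hc

include M in
theorem index_commutator :
    (commutator G).index = Nat.card ↥(Subgroup.center G) * p ^ M.n := by
  have h := (commutator G).card_mul_index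
  rw [M.card_commutator, M.card_G, two_mul, pow_add] at h
  refine mul_left_cancel₀ (pow_ne_zero M.n M.hp.ne_zero) (h.trans ?_)
  ring

include M in
theorem index_center : (Subgroup.center G).index = Nat.card ↥(commutator G) ^ 2 := by
  have h := (Subgroup.center G).card_mul_index
  rw [M.card_G, mul_comm] at h
  rw [M.card_commutator, ← pow_mul, mul_comm M.n]
  exact mul_right_cancel₀ (Nat.card_pos (α := ↥(Subgroup.center G))).ne' h

include M in
theorem card_le_of_comm {L : Subgroup G} (hL : IsMulCommutative ↥L) :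
    Nat.card ↥L ≤ (commutator G).index := by
  haveI := M.finiteV
  rw [M.index_commutator]
  refine (Subgroup.card_le_of_le (M.le_pre_img L)).trans ?_
  rw [M.card_pre, mul_comm]
  refine Nat.mul_le_mul_left _ ?_
  have h1 := M.card_perp (M.img L)
  have h2 : Nat.card ↥(M.img L) ≤ Nat.card ↥(M.perp (M.img L)) :=
    AddSubgroup.card_le_of_le ((M.img_le_perp_iff L).mp hL)
  rw [two_mul, pow_add] at h1
  exact Nat.mul_self_le_mul_self_iff.mp (h1 ▸ Nat.mul_le_mul_left _ h2)

include M in
theorem card_of_maximal {L : Subgroup G} (hL : Maximal (fun K : Subgroup G => IsMulCommutative ↥K) L) :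
    Nat.card ↥L = (commutator G).index := by
  haveI := M.finiteV
  -- L is its own centralizer
  have hLc : L ≤ Subgroup.centralizer (L : Set G) := by
    intro x hx
    rw [Subgroup.mem_centralizer_iff]
    intro y hy
    exact congrArg Subtype.val (hL.1.is_comm.comm ⟨y, hy⟩ ⟨x, hx⟩)
  have hC : Subgroup.centralizer (L : Set G) ≤ L := by
    intro g hg
    have hsub : IsMulCommutative ↥(Subgroup.closure ((L : Set G) ∪ {g})) := by
      refine Subgroup.isMulCommutative_closure ?_
      rintro x (hx | hx) y (hy | hy)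
      · exact congrArg Subtype.val (hL.1.is_comm.comm ⟨x, hx⟩ ⟨y, hy⟩)
      · rw [Set.mem_singleton_iff.mp hy]; exact Subgroup.mem_centralizer_iff.mp hg x hx
      · rw [Set.mem_singleton_iff.mp hx]; exact (Subgroup.mem_centralizer_iff.mp hg y hy).symm
      · rw [Set.mem_singleton_iff.mp hx, Set.mem_singleton_iff.mp hy]
    exact hL.2 hsub (fun x hx => Subgroup.subset_closure (Or.inl hx))
      (Subgroup.subset_closure (Or.inr rfl))
  have heq := le_antisymm hLc hC
  have hZ : Subgroup.center G ≤ L := (Subgroup.center_le_centralizer _).trans hC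
  have h := M.card_mul_card_centralizer hZ
  rw [← heq, M.card_G] at h
  rw [M.index_commutator]
  refine Nat.mul_self_inj.mp (h.trans ?_)
  ring

end MC

end CfsgLib.Core.Metacyclic
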