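import Mathlib
import Cfsg.Agent.Lib.CoreMetacyclicDual
import Cfsg.Agent.Lib.CorePGroup

/-!
Nonabelian subgroups of metacyclic `p`-groups, `p` odd: `|R : R'| = |G : G'|`.
-/

set_option maxHeartbeats 400000
set_option linter.unusedSectionVars false

namespace CfsgLib.Core.Metacyclic

open CfsgLib.Core

theorem isMetacyclic_subgroup {G : Type*} [Group G] (h : Cfsg.IsMetacyclic G) (H : Subgroup G) :
    Cfsg.IsMetacyclic ↥H := by
  obtain ⟨N, hN, hNc, hQc⟩ := h
  haveI := hN
  haveI := hNc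
  haveI := hQc
  refine ⟨N.subgroupOf H, inferInstance, ?_, ?_⟩
  · exact isCyclic_of_injective ((H.subtype.comp (N.subgroupOf H).subtype).codRestrict N
      fun x => x.2) fun x y e => Subtype.ext (Subtype.ext (congrArg Subtype.val e :))
  · refine isCyclic_of_injective
      (QuotientGroup.lift (N.subgroupOf H) ((QuotientGroup.mk' N).comp H.subtype) ?_) ?_
    · intro x hx; exact (QuotientGroup.eq_one_iff _).mpr hx
    · rw [injective_iff_map_eq_one]
      intro x
      induction x using QuotientGroup.induction_on with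
      | _ y => intro hy; exact (QuotientGroup.eq_one_iff _).mpr (Subgroup.mem_subgroupOf.mpr ((QuotientGroup.eq_one_iff (N := N) (y : G)).mp hy))

namespace MC

variable {G : Type*} [Group G] [Finite G] {p : ℕ} (M : MC G p)

theorem isUnit_or_dvd (x : ZMod (p ^ M.n)) : IsUnit x ∨ (p : ZMod (p ^ M.n)) ∣ x := by
  haveI := M.neZero
  by_cases hd : p ∣ x.val
  · obtain ⟨t, ht⟩ := hd
    exact Or.inr ⟨t, by rw [← ZMod.natCast_zmod_val x, ht]; push_cast; rfl⟩
  · left
    rw [← ZMod.natCast_zmod_val x, ZMod.isUnit_iff_coprime]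
    exact Nat.Coprime.pow_right _ ((M.hp.coprime_iff_not_dvd).mpr hd).symm

theorem smul_p_mem_img {H : Subgroup G} (hH : ∀ g : G, g ^ p ∈ H) (v : M.V) :
    (p : ZMod (p ^ M.n)) • v ∈ M.img H := by
  obtain ⟨g, rfl⟩ := M.w_surjective v
  obtain ⟨q, hq, hqc⟩ := M.chi_cast g
  have h1 : p ∣ geo q p := by simpa using (pow_dvd_geo M.hp M.hp2 hq 1 p).mpr (by simp)
  obtain ⟨W, hW⟩ := h1
  have hWp : ¬ p ∣ W := fun hd => by
    have h2 : p ^ 2 ∣ p := (pow_dvd_geo M.hp M.hp2 hq 2 p).mp (by
      rw [hW, pow_two]; exact Nat.mul_dvd_mul_left p hd)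
    have := Nat.le_of_dvd M.hp.pos h2
    nlinarith [M.hp.two_le]
  obtain ⟨u, hu⟩ : IsUnit ((W : ℕ) : ZMod (p ^ M.n)) := by
    rw [ZMod.isUnit_iff_coprime]
    exact Nat.Coprime.pow_right _ ((M.hp.coprime_iff_not_dvd).mpr hWp).symm
  have h3 := M.smul_mem (M.img H) (M.mem_img.mpr ⟨_, hH g, rfl⟩) (↑u⁻¹)
  rw [M.w_pow, ← hqc, ← natCast_geo, hW, smul_smul, Nat.cast_mul, mul_left_comm, ← hu,
    u.inv_mul, mul_one] at h3
  exact h3

/-- If two vectors of a submodule have a unit determinant, it is everything. -/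
theorem eq_top_of_det {K : AddSubgroup M.V} {x y : M.V} (hx : x ∈ K) (hy : y ∈ K)
    (h : IsUnit (M.det x y)) : K = ⊤ := by
  refine eq_top_iff.mpr fun v _ => ?_
  obtain ⟨u, hu⟩ := h
  have h1 : v = ((↑u⁻¹ : ZMod (p ^ M.n)) * M.det v y) • x + ((↑u⁻¹ : ZMod (p ^ M.n)) * M.det x v) • y := by
    have h2 : M.det v y • x + M.det x v • y = M.det x y • v := by
      ext <;> simp [det] <;> ring
    rw [mul_smul, mul_smul, ← smul_add, h2, ← hu, smul_smul, u.inv_mul, one_smul]
  rw [h1]
  exact add_mem (M.smul_mem K hx _) (M.smul_mem K hy _)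

theorem card_p_multiples (hn : 1 ≤ M.n) :
    Nat.card ↥(AddSubgroup.zmultiples ((p : ℕ) : ZMod (p ^ M.n))) = p ^ (M.n - 1) := by
  rw [Nat.card_zmultiples, ZMod.addOrderOf_coe _ (pow_ne_zero _ M.hp.ne_zero),
    Nat.gcd_eq_right (dvd_pow_self p (by omega))]
  exact Nat.div_eq_of_eq_mul_left M.hp.pos (by rw [← pow_succ]; congr 1; omega)

theorem center_le_of_pow_mem (hn : 1 ≤ M.n) {H : Subgroup G} (hH : ∀ g : G, g ^ p ∈ H) :
    Subgroup.center G ≤ H := by
  intro z hz
  obtain ⟨i, j, rfl⟩ := M.gen z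
  have h := (M.w_eq_zero_iff _).mpr hz
  rw [M.w_mk, Prod.ext_iff] at h
  simp only [Prod.fst_zero, Prod.snd_zero, ZMod.natCast_eq_zero_iff] at h
  rw [pow_dvd_geo M.hp M.hp2 M.cast_q] at h
  obtain ⟨i', rfl⟩ := (dvd_pow_self p (show M.n ≠ 0 by omega)).trans h.1
  obtain ⟨j', rfl⟩ := (dvd_pow_self p (show M.n ≠ 0 by omega)).trans h.2
  rw [mul_comm p, mul_comm p, pow_mul, pow_mul]
  exact mul_mem (hH _) (hH _)

theorem index_commutator_coatom (hG : IsPGroup p G) (hn : 1 ≤ M.n) {H : Subgroup G}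
    (hH : IsCoatom H) : (commutator ↥H).index = (commutator G).index := by
  haveI := Fact.mk M.hp
  haveI := M.neZero
  haveI := M.finiteV
  obtain ⟨hnorm, hidx⟩ := index_of_coatom_pgroup hG hH
  haveI := hnorm
  have hpow : ∀ g : G, g ^ p ∈ H := fun g => hidx ▸ Subgroup.pow_index_mem H g
  have hZ := M.center_le_of_pow_mem hn hpow
  have hcard : Nat.card ↥(M.img H) * p = p ^ (2 * M.n) := by
    have h := H.card_mul_index
    rw [hidx, M.card_of_center_le hZ, M.card_G] at h
    refine mul_right_cancel₀ (Nat.card_pos (α := ↥(Subgroup.center G))).ne' (Eq.trans ?_ h)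
    ring
  set π : ZMod (p ^ M.n) := (p : ZMod (p ^ M.n))
  have hdvd : ∀ g ∈ H, ∀ h ∈ H, π ∣ M.det (M.w g) (M.w h) := by
    intro g hg h hh
    refine (M.isUnit_or_dvd _).resolve_left fun hu => ?_
    have htop := M.eq_top_of_det (M.mem_img.mpr ⟨g, hg, rfl⟩) (M.mem_img.mpr ⟨h, hh, rfl⟩) hu
    rw [htop, AddSubgroup.card_top, M.card_V] at hcard
    have := M.hp.one_lt
    nlinarith [pow_pos M.hp.pos (2 * M.n)]
  obtain ⟨x, hx, hxu⟩ : ∃ x ∈ M.img H, IsUnit x.1 ∨ IsUnit x.2 := by
    by_contra hcon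
    push Not at hcon
    let P := AddSubgroup.zmultiples π
    have hsub : M.img H ≤ P.prod P := fun x hx => by
      have hmem : ∀ z : ZMod (p ^ M.n), π ∣ z → z ∈ P := fun z ⟨t, ht⟩ =>
        ⟨(t.val : ℤ), by rw [ht]; simp [mul_comm π]⟩
      exact ⟨hmem _ ((M.isUnit_or_dvd _).resolve_left (hcon x hx).1),
        hmem _ ((M.isUnit_or_dvd _).resolve_left (hcon x hx).2)⟩
    have h1 := AddSubgroup.card_le_of_le hsub
    rw [Nat.card_congr (AddSubgroup.prodEquiv P P).toEquiv, Nat.card_prod,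
      M.card_p_multiples hn, ← pow_add] at h1
    have h2 : p ^ (2 * M.n) ≤ p ^ (M.n - 1 + (M.n - 1) + 1) := by
      rw [pow_succ, ← hcard]; exact Nat.mul_le_mul_right p h1
    have := (Nat.pow_le_pow_iff_right M.hp.one_lt).mp h2
    omega
  obtain ⟨y, hy, u, hxy⟩ : ∃ y ∈ M.img H, ∃ u : (ZMod (p ^ M.n))ˣ, -M.det x y = π * u := by
    rcases hxu with h | h
    · obtain ⟨u, hu⟩ := h
      refine ⟨π • ((0, 1) : M.V), M.smul_p_mem_img hpow _, -u, ?_⟩
      simp [det, π, Units.val_neg, ← hu]; ring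
    · obtain ⟨u, hu⟩ := h
      refine ⟨π • ((1, 0) : M.V), M.smul_p_mem_img hpow _, u, ?_⟩
      simp [det, π, ← hu]; ring
  obtain ⟨g, hg, rfl⟩ := M.mem_img.mp hx
  obtain ⟨h, hh, rfl⟩ := M.mem_img.mp hy
  have hHH : ⁅H, H⁆ = Subgroup.zpowers (M.c ^ p) := by
    refine le_antisymm (Subgroup.commutator_le.mpr fun a ha b hb => ?_)
      (Subgroup.zpowers_le.mpr ?_)
    · rw [commutatorElement_def, show a * b * a⁻¹ * b⁻¹ = a * b * (b * a)⁻¹ by group,
        M.commutator_mul_eq]
      obtain ⟨t, ht⟩ := (hdvd a ha b hb).neg_right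
      have : M.c ^ (-M.det (M.w a) (M.w b)).val = (M.c ^ p) ^ t.val := by
        rw [← pow_mul, M.c_pow_eq, ht]
        push_cast [ZMod.natCast_zmod_val]
        rfl
      rw [this]
      exact pow_mem (Subgroup.mem_zpowers _) _
    · have h1 : g * h * (h * g)⁻¹ ∈ ⁅H, H⁆ := by
        rw [show g * h * (h * g)⁻¹ = g * h * g⁻¹ * h⁻¹ by group, ← commutatorElement_def]
        exact Subgroup.commutator_mem_commutator hg hh
      have h2 : (g * h * (h * g)⁻¹) ^ ((↑u⁻¹ : ZMod (p ^ M.n)).val) = M.c ^ p := by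
        rw [M.commutator_mul_eq, ← pow_mul, M.c_pow_eq, hxy]
        push_cast [ZMod.natCast_zmod_val]
        rw [mul_assoc, u.mul_inv, mul_one]
      exact h2 ▸ pow_mem h1 _
  have hcardH : Nat.card ↥(commutator ↥H) * p = Nat.card ↥(commutator G) := by
    have e : Nat.card ↥(commutator ↥H) = Nat.card ↥(⁅H, H⁆) := by
      rw [← Subgroup.map_subtype_commutator,
        Subgroup.card_map_of_injective H.subtype_injective]
    rw [e, hHH, Nat.card_zpowers, orderOf_pow, MC.c, M.hc,
      Nat.gcd_eq_right (dvd_pow_self p (by omega)), M.card_commutator]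
    exact Nat.div_mul_cancel (dvd_pow_self p (by omega))
  have h1 := (commutator ↥H).card_mul_index
  have h2 := (commutator G).card_mul_index
  rw [← H.card_mul_index, hidx, ← h1, ← hcardH] at h2
  refine (mul_left_cancel₀ (Nat.card_pos (α := ↥(commutator ↥H))).ne' ?_).symm
  refine mul_right_cancel₀ M.hp.ne_zero (Eq.trans ?_ h2)
  ring

end MC

theorem index_commutator_subgroup.{u} {p : ℕ} [Fact p.Prime] (hp : p ≠ 2) :
    ∀ (N : ℕ) (G : Type u) [Group G] [Finite G], Nat.card G ≤ N → IsPGroup p G →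
      Cfsg.IsMetacyclic G → ∀ R : Subgroup G, ¬ IsMulCommutative ↥R →
        (commutator ↥R).index = (commutator G).index := by
  intro N
  induction N with
  | zero => intro G _ _ h; exact absurd h (by have := Nat.card_pos (α := G); omega)
  | succ N ih =>
    intro G _ _ hc hG hmc R hR
    rcases eq_or_ne R ⊤ with rfl | hne
    · have e : (commutator ↥(⊤ : Subgroup G)).map (Subgroup.topEquiv : _ ≃* G).toMonoidHom =
          commutator G := by
        rw [commutator_def, Subgroup.map_commutator, Subgroup.map_top_of_surjective _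
          (Subgroup.topEquiv : _ ≃* G).surjective, commutator_def]
      rw [← e]
      exact (Subgroup.index_map_equiv _ Subgroup.topEquiv).symm
    obtain ⟨H, hH, hRH⟩ := (eq_top_or_exists_le_coatom R).resolve_left hne
    obtain ⟨M⟩ := exists_mc hp hG hmc
    have hn : 1 ≤ M.n := by
      by_contra h0
      refine hR (.of_comm fun x y => Subtype.ext ((M.commute_iff x.1 y.1).mpr ?_))
      haveI : Subsingleton (ZMod (p ^ M.n)) := by
        rw [show M.n = 0 by omega, pow_zero]; infer_instance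
      exact Subsingleton.elim _ _
    rw [← M.index_commutator_coatom hG hn hH]
    have hlt : Nat.card ↥H < Nat.card G :=
      (Subgroup.card_le_card_group H).lt_of_ne fun e => hH.1 (Subgroup.eq_top_of_card_eq H e)
    have e := Subgroup.subgroupOfEquivOfLe hRH
    have hR' : ¬ IsMulCommutative ↥(R.subgroupOf H) := fun hc' => hR (.of_comm fun x y => by
      apply e.symm.injective
      rw [map_mul, map_mul]
      exact hc'.is_comm.comm _ _)
    rw [← ih ↥H (by omega) (hG.to_subgroup H) (isMetacyclic_subgroup hmc H) _ hR']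
    have e' : (commutator ↥(R.subgroupOf H)).map e.toMonoidHom = commutator ↥R := by
      rw [commutator_def, Subgroup.map_commutator,
        Subgroup.map_top_of_surjective _ e.surjective, commutator_def]
    rw [← e']
    exact Subgroup.index_map_equiv _ e

theorem index_commutator_of_not_comm {G : Type*} [Group G] [Finite G] {p : ℕ} [Fact p.Prime]
    (hp : p ≠ 2) (hG : IsPGroup p G) (hmc : Cfsg.IsMetacyclic G) {R : Subgroup G}
    (hR : ¬ IsMulCommutative ↥R) : (commutator ↥R).index = (commutator G).index :=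
  index_commutator_subgroup hp _ G le_rfl hG hmc R hR

/-- Abelian subgroups are exactly those of order at most `|G : G'|`. -/
theorem comm_iff_card_le {G : Type*} [Group G] [Finite G] {p : ℕ} [Fact p.Prime]
    (hp : p ≠ 2) (hG : IsPGroup p G) (hmc : Cfsg.IsMetacyclic G) (L : Subgroup G) :
    IsMulCommutative ↥L ↔ Nat.card ↥L ≤ (commutator G).index := by
  obtain ⟨M⟩ := exists_mc hp hG hmc
  refine ⟨M.card_le_of_comm, fun h => ?_⟩
  by_contra hL
  rw [← index_commutator_of_not_comm hp hG hmc hL] at h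
  have h1 := (commutator ↥L).card_mul_index
  have hne : commutator ↥L ≠ ⊥ := fun hb => hL (.of_comm fun x y => by
    refine commutatorElement_eq_one_iff_mul_comm.mp (Subgroup.mem_bot.mp (hb ▸ ?_))
    exact Subgroup.commutator_mem_commutator (Subgroup.mem_top x) (Subgroup.mem_top y))
  have h2 := (commutator ↥L).one_lt_card_iff_ne_bot.mpr hne
  have h3 : 0 < (commutator ↥L).index := Nat.pos_of_ne_zero Subgroup.index_ne_zero_of_finite
  nlinarith

end CfsgLib.Core.Metacyclic
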