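import Cfsg.Agent.S3889
import Cfsg.Agent.Lib.CoreFitting
import Cfsg.Agent.Lib.CoreThompsonFpf

/-!
# Abelian Sylow subgroups and minimal nilpotent covers
-/

set_option autoImplicit false

universe u

namespace CfsgLib.Core.MinimalCover

set_option maxHeartbeats 400000

open Subgroup

variable {G : Type u} [Group G] [Finite G] {p : ℕ} [hp : Fact p.Prime]

/-- Two members of a minimal cover do not lie in one proper subgroup. -/
theorem eq_of_le {𝓐 : Finset (Subgroup G)}
    (hmin : ∀ 𝓑 : Finset (Subgroup G), (∀ A ∈ 𝓑, A ≠ ⊤) ∧ (∀ g : G, ∃ A ∈ 𝓑, g ∈ A) → 𝓐.card ≤ 𝓑.card)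
    (hprop : ∀ A ∈ 𝓐, A ≠ ⊤) (hcov : ∀ g : G, ∃ A ∈ 𝓐, g ∈ A)
    {A B K : Subgroup G} (hA : A ∈ 𝓐) (hB : B ∈ 𝓐) (hK : K ≠ ⊤) (hAK : A ≤ K) (hBK : B ≤ K) : A = B := by
  classical
  by_contra hne
  have h := hmin (insert K ((𝓐.erase A).erase B)) ⟨?_, ?_⟩
  · have h1 := Finset.card_insert_le K ((𝓐.erase A).erase B)
    rw [Finset.card_erase_of_mem (Finset.mem_erase.mpr ⟨Ne.symm hne, hB⟩), Finset.card_erase_of_mem hA] at h1
    have h2 : 1 < 𝓐.card := Finset.one_lt_card.mpr ⟨A, hA, B, hB, hne⟩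
    omega
  · intro L hL
    rcases Finset.mem_insert.mp hL with rfl | hL
    · exact hK
    · exact hprop L (Finset.mem_of_mem_erase (Finset.mem_of_mem_erase hL))
  · intro g
    obtain ⟨L, hL, hg⟩ := hcov g
    by_cases h1 : L = A ∨ L = B
    · refine ⟨K, Finset.mem_insert_self _ _, ?_⟩
      rcases h1 with rfl | rfl
      · exact hAK hg
      · exact hBK hg
    · push Not at h1
      exact ⟨L, Finset.mem_insert_of_mem (Finset.mem_erase.mpr ⟨h1.2, Finset.mem_erase.mpr ⟨h1.1, hL⟩⟩), hg⟩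

/-- Conjugating a `p`-element into a Sylow subgroup. -/
theorem pSubgroup_comm (P : Sylow p G) (hab : IsMulCommutative ↥(P : Subgroup G)) {Q : Subgroup G}
    (hQ : IsPGroup p Q) : ∀ a ∈ Q, ∀ b ∈ Q, a * b = b * a := by
  haveI := hab
  intro a ha b hb
  obtain ⟨R, hR⟩ := hQ.exists_le_sylow
  have h : (Sylow.equiv R P) ⟨a, hR ha⟩ * (Sylow.equiv R P) ⟨b, hR hb⟩ =
      (Sylow.equiv R P) ⟨b, hR hb⟩ * (Sylow.equiv R P) ⟨a, hR ha⟩ := mul_comm' _ _
  rw [← map_mul, ← map_mul] at h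
  exact congrArg Subtype.val ((Sylow.equiv R P).injective h)

/-- A `p`-element of a nilpotent subgroup centralizes it when the Sylow subgroups are abelian. -/
theorem le_centralizer (P : Sylow p G) (hab : IsMulCommutative ↥(P : Subgroup G)) {B : Subgroup G}
    (hB : Group.IsNilpotent ↥B) {z : G} (hzB : z ∈ B) (hz : IsPGroup p ↥(Subgroup.zpowers z)) :
    B ≤ centralizer {z} := by
  rw [← subgroupOf_eq_top, ← index_eq_one, Nat.eq_one_iff_not_exists_prime_dvd]
  intro r hr hd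
  haveI := Fact.mk hr
  obtain ⟨R⟩ : Nonempty (Sylow r B) := inferInstance
  refine R.not_dvd_index (hd.trans (index_dvd_of_le ?_))
  intro b hb
  rw [mem_subgroupOf, mem_centralizer_singleton_iff]
  have hbR : (b : G) ∈ (R : Subgroup B).map B.subtype := ⟨b, hb, rfl⟩
  have hRp : IsPGroup r ↥((R : Subgroup B).map B.subtype) := R.2.map _
  by_cases hrp : r = p
  · subst hrp
    haveI := hB
    have hn := isNilpotent_iff_sylow_normal.mp hB r inferInstance R
    have hzR : (⟨z, hzB⟩ : B) ∈ (R : Subgroup B) := by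
      obtain ⟨R', hR'⟩ := (hz.comap_of_injective B.subtype B.subtype_injective).exists_le_sylow
      haveI := Sylow.unique_of_normal R hn
      rw [Subsingleton.elim R R']
      exact hR' (mem_zpowers z)
    exact pSubgroup_comm P hab hRp _ hbR _ ⟨_, hzR, rfl⟩
  · have h := le_centralizer_of_isNilpotent hB hrp (map_subtype_le _) ((zpowers_le).mpr hzB) hRp hz hbR
    exact (mem_centralizer_iff.mp h z (mem_zpowers z)).symm

/-- Members meeting in a nontrivial `p`-element coincide. -/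
theorem eq_of_mem (hZ : center G = ⊥) {𝓐 : Finset (Subgroup G)}
    (hmin : ∀ 𝓑 : Finset (Subgroup G), (∀ A ∈ 𝓑, A ≠ ⊤) ∧ (∀ g : G, ∃ A ∈ 𝓑, g ∈ A) → 𝓐.card ≤ 𝓑.card)
    (hprop : ∀ A ∈ 𝓐, A ≠ ⊤) (hcov : ∀ g : G, ∃ A ∈ 𝓐, g ∈ A) (hnil : ∀ A ∈ 𝓐, Group.IsNilpotent ↥A)
    (P : Sylow p G) (hab : IsMulCommutative ↥(P : Subgroup G)) {Q : Subgroup G} (hQ : IsPGroup p Q)
    {A B : Subgroup G} (hA : A ∈ 𝓐) (hB : B ∈ 𝓐) {z : G} (hzQ : z ∈ Q) (hz1 : z ≠ 1)
    (hzA : z ∈ A) (hzB : z ∈ B) : A = B := by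
  have hz : IsPGroup p ↥(zpowers z) := hQ.to_le (zpowers_le.mpr hzQ)
  refine eq_of_le hmin hprop hcov hA hB (fun h => hz1 ?_)
    (le_centralizer P hab (hnil A hA) hzA hz) (le_centralizer P hab (hnil B hB) hzB hz)
  have : z ∈ center G := mem_center_iff.mpr fun g =>
    mem_centralizer_singleton_iff.mp (h ▸ mem_top g)
  rwa [hZ, mem_bot] at this

/-- The structure of an abelian Sylow subgroup. -/
theorem structure_of_cover (hZ : center G = ⊥) (𝓐 : Finset (Subgroup G))
    (h𝓐 : ((∀ A ∈ 𝓐, A ≠ ⊤) ∧ (∀ g : G, ∃ A ∈ 𝓐, g ∈ A)) ∧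
      (∀ 𝓑 : Finset (Subgroup G), (∀ A ∈ 𝓑, A ≠ ⊤) ∧ (∀ g : G, ∃ A ∈ 𝓑, g ∈ A) → 𝓐.card ≤ 𝓑.card) ∧
      (∀ A ∈ 𝓐, Group.IsNilpotent ↥A))
    (P : Sylow p G) (hab : IsMulCommutative ↥(P : Subgroup G)) (hnn : ¬ (P : Subgroup G).Normal)
    (hne : ¬ (Cfsg.IsElementaryAbelian p (P : Subgroup G) ∧ p < Nat.card ↥(P : Subgroup G))) :
    ∃ A ∈ 𝓐, (P : Subgroup G) ≤ A ∧ ¬ p ∣ ((P : Subgroup G).subgroupOf A).index ∧
      IsCoatom (normalizer ((P : Subgroup G) : Set G)) ∧
      (∀ g : G, g ∉ normalizer ((P : Subgroup G) : Set G) →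
        ¬ p ∣ Nat.card ↥(normalizer ((P : Subgroup G) : Set G) ⊓
          (normalizer ((P : Subgroup G) : Set G)).map (MulAut.conj g).toMonoidHom)) ∧
      centralizer ((P : Subgroup G) : Set G) = A ∧
      ∀ M : Subgroup G, IsCoatom M → centralizer ((P : Subgroup G) : Set G) ≤ M →
        M = normalizer ((P : Subgroup G) : Set G) := by
  classical
  obtain ⟨⟨hprop, hcov⟩, hmin, hnil⟩ := h𝓐
  have hPne : (P : Subgroup G) ≠ ⊥ := fun h => hnn (h ▸ inferInstance)
  -- every Sylow subgroup lies in a member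
  have hmem : ∀ Q : Sylow p G, ∃ A ∈ 𝓐, (Q : Subgroup G) ≤ A := by
    intro Q
    by_contra! hno
    have hcomm := pSubgroup_comm P hab Q.2
    letI : CommGroup ↥(Q : Subgroup G) :=
      { (inferInstance : Group ↥(Q : Subgroup G)) with
        mul_comm := fun a b => Subtype.ext (hcomm a a.2 b b.2) }
    have hQne : (Q : Subgroup G) ≠ ⊥ := fun h => hPne (eq_bot_of_card_eq _ (by
      rw [← Nat.card_congr (Sylow.equiv Q P).toEquiv, h, card_bot]))
    have hexp := Cfsg.Agent.S3889.result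
      {S : Subgroup ↥(Q : Subgroup G) | S ≠ ⊥ ∧ ∃ B ∈ 𝓐, S = B.subgroupOf (Q : Subgroup G)}
      (by
        rintro S ⟨-, B, hB, rfl⟩
        exact fun h => hno B hB (subgroupOf_eq_top.mp h))
      (by
        have hone : ∀ g : ↥(Q : Subgroup G), g ≠ 1 → ∃ S ∈ {S : Subgroup ↥(Q : Subgroup G) | S ≠ ⊥ ∧
            ∃ B ∈ 𝓐, S = B.subgroupOf (Q : Subgroup G)}, g ∈ S := by
          intro g hg
          obtain ⟨B, hB, hgB⟩ := hcov g
          exact ⟨_, ⟨fun h => hg ((eq_bot_iff_forall _).mp h g hgB), B, hB, rfl⟩, hgB⟩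
        intro g
        by_cases hg : g = 1
        · obtain ⟨v, hv, hv1⟩ := (Q : Subgroup G).bot_or_exists_ne_one.resolve_left hQne
          obtain ⟨S, hS, -⟩ := hone ⟨v, hv⟩ (fun h => hv1 (congrArg Subtype.val h))
          exact ⟨S, hS, hg ▸ S.one_mem⟩
        · exact hone g hg)
      (by
        rintro S ⟨-, B, hB, rfl⟩ T ⟨-, C, hC, rfl⟩ hST
        rw [eq_bot_iff_forall]
        rintro y ⟨hyB, hyC⟩
        by_contra hy
        refine hST ?_
        rw [eq_of_mem hZ hmin hprop hcov hnil P hab Q.2 hB hC y.2 (fun h => hy (Subtype.ext h)) hyB hyC])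
    have hp' : Monoid.exponent ↥(Q : Subgroup G) = p := by
      obtain ⟨k, hk⟩ := Q.2.exists_card_eq
      exact (Nat.prime_dvd_prime_iff_eq hexp hp.out).mp
        (hexp.dvd_of_dvd_pow (hk ▸ Group.exponent_dvd_nat_card))
    refine hne ⟨⟨hab, fun v hv => ?_⟩, ?_⟩
    · have h1 := Monoid.pow_exponent_eq_one ((Sylow.equiv P Q) ⟨v, hv⟩)
      rw [hp', ← map_pow, MulEquiv.map_eq_one_iff] at h1
      exact congrArg Subtype.val h1
    · by_contra hle
      have hQc : Nat.card ↥(Q : Subgroup G) = p := by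
        obtain ⟨k, hk⟩ := Q.2.exists_card_eq
        have hk0 : k ≠ 0 := fun h => hQne (eq_bot_of_card_eq _ (by rw [hk, h, pow_zero]))
        refine le_antisymm ?_ (hk ▸ Nat.le_self_pow hk0 p)
        rw [Nat.card_congr (Sylow.equiv Q P).toEquiv]
        exact not_lt.mp hle
      haveI : IsCyclic ↥(Q : Subgroup G) := isCyclic_of_prime_card hQc
      obtain ⟨v, hv⟩ := IsCyclic.exists_generator (α := ↥(Q : Subgroup G))
      obtain ⟨B, hB, hvB⟩ := hcov v
      refine hno B hB fun w hw => ?_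
      obtain ⟨i, hi⟩ := mem_zpowers_iff.mp (hv ⟨w, hw⟩)
      have := zpow_mem hvB i
      rwa [← SubgroupClass.coe_zpow, hi] at this
  -- the member over a Sylow subgroup is its centralizer
  have hcent : ∀ Q : Sylow p G, ∀ A ∈ 𝓐, (Q : Subgroup G) ≤ A → centralizer ((Q : Subgroup G) : Set G) = A := by
    intro Q A hA hQA
    have hQne : (Q : Subgroup G) ≠ ⊥ := fun h => hPne (eq_bot_of_card_eq _ (by
      rw [← Nat.card_congr (Sylow.equiv Q P).toEquiv, h, card_bot]))
    obtain ⟨v, hv, hv1⟩ := (Q : Subgroup G).bot_or_exists_ne_one.resolve_left hQne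
    refine le_antisymm ?_ ?_
    · rw [← subgroupOf_eq_top, ← index_eq_one, Nat.eq_one_iff_not_exists_prime_dvd]
      intro r hr hd
      haveI := Fact.mk hr
      obtain ⟨R⟩ : Nonempty (Sylow r ↥(centralizer ((Q : Subgroup G) : Set G))) := inferInstance
      refine R.not_dvd_index (hd.trans (index_dvd_of_le fun y hy => ?_))
      rw [mem_subgroupOf]
      have hQC : (Q : Subgroup G) ≤ centralizer ((Q : Subgroup G) : Set G) := fun a ha =>
        mem_centralizer_iff.mpr fun b hb => pSubgroup_comm P hab Q.2 b hb a ha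
      by_cases hrp : r = p
      · subst hrp
        have hyp : IsPGroup r ↥(zpowers (y : G)) := IsPGroup.to_le
          (R.2.map (centralizer ((Q : Subgroup G) : Set G)).subtype) (zpowers_le.mpr ⟨y, hy, rfl⟩)
        have hyN : zpowers (y : G) ≤ normalizer ((Q : Subgroup G) : Set G) :=
          zpowers_le.mpr (centralizer_le_normalizer _ y.2)
        have h2 := Q.3 (hyp.to_sup_of_normal_right' Q.2 hyN) le_sup_right
        exact hQA (h2.le (mem_sup_left (mem_zpowers _)))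
      · -- the product with `v`
        obtain ⟨B, hB, hvyB⟩ := hcov (v * (y : G))
        have hc : Commute v (y : G) := mem_centralizer_iff.mp y.2 v hv
        obtain ⟨i, hi⟩ := Q.2 ⟨v, hv⟩
        obtain ⟨j, hj⟩ := R.2 ⟨y, hy⟩
        have hvi : v ^ p ^ i = 1 := congrArg Subtype.val hi
        have hyj : (y : G) ^ r ^ j = 1 := congrArg Subtype.val (congrArg Subtype.val hj)
        have hcop : Nat.Coprime (orderOf v) (orderOf (y : G)) :=
          Nat.Coprime.coprime_dvd_left (orderOf_dvd_of_pow_eq_one hvi)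
            (Nat.Coprime.coprime_dvd_right (orderOf_dvd_of_pow_eq_one hyj)
              (Nat.Coprime.pow _ _ ((Nat.coprime_primes hp.out hr).mpr (Ne.symm hrp))))
        obtain ⟨m, hm1, hm2⟩ := Nat.chineseRemainder hcop 1 0
        have hvB : v ∈ B := by
          have := pow_mem hvyB m
          rwa [hc.mul_pow, pow_eq_pow_iff_modEq.mpr hm1, pow_eq_pow_iff_modEq.mpr hm2, pow_one, pow_zero,
            mul_one] at this
        have hBA := eq_of_mem hZ hmin hprop hcov hnil P hab Q.2 hA hB hv hv1 (hQA hv) hvB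
        exact (mul_mem_cancel_left (hQA hv)).mp (hBA ▸ hvyB)
    · intro a ha
      rw [mem_centralizer_iff]
      intro b hb
      exact (mem_centralizer_singleton_iff.mp
        (le_centralizer P hab (hnil A hA) (hQA hb) (Q.2.to_le (zpowers_le.mpr hb)) ha)).symm
  obtain ⟨A, hA, hPA⟩ := hmem P
  have hCA := hcent P A hA hPA
  set N := normalizer ((P : Subgroup G) : Set G) with hN
  have hNtop : N ≠ ⊤ := fun h => hnn (normalizer_eq_top_iff.mp h)
  have hAN : A ≤ N := hCA ▸ centralizer_le_normalizer _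
  have hsub : ∀ M : Subgroup G, M ≠ ⊤ → A ≤ M → M ≤ N := by
    intro M hM hAM m hm
    by_contra hmN
    obtain ⟨B, hB, hQB⟩ := hmem (MulAut.conj m • P)
    have hQM : ((MulAut.conj m • P : Sylow p G) : Subgroup G) ≤ M := by
      rintro _ ⟨a, ha, rfl⟩
      exact mul_mem (mul_mem hm (hAM (hPA ha))) (inv_mem hm)
    have hBM : B ≤ M := by
      rw [← hcent _ B hB hQB]
      intro c hc
      have h1 : m⁻¹ * c * m ∈ A := by
        rw [← hCA, mem_centralizer_iff]
        intro a ha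
        have := mem_centralizer_iff.mp hc (m * a * m⁻¹) ⟨a, ha, rfl⟩
        calc a * (m⁻¹ * c * m) = m⁻¹ * (m * a * m⁻¹ * c) * m := by group
          _ = m⁻¹ * c * m * a := by rw [this]; group
      have h2 := mul_mem (mul_mem hm (hAM h1)) (inv_mem hm)
      rwa [show m * (m⁻¹ * c * m) * m⁻¹ = c by group] at h2
    have hAB := eq_of_le hmin hprop hcov hA hB hM hAM hBM
    refine hmN (Sylow.smul_eq_iff_mem_normalizer.mp ?_)
    refine Sylow.ext (P.3 (MulAut.conj m • P).2 ?_)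
    intro a ha
    have hc := hcent _ B hB hQB
    have haC : a ∈ centralizer (((MulAut.conj m • P : Sylow p G) : Subgroup G) : Set G) := hc ▸ hAB ▸ hPA ha
    have h1 : IsPGroup p ↥((P : Subgroup G) ⊔ ((MulAut.conj m • P : Sylow p G) : Subgroup G)) :=
      P.2.to_sup_of_normal_right' (MulAut.conj m • P).2
        (le_trans (hc ▸ hAB ▸ hPA) (centralizer_le_normalizer _))
    exact ((MulAut.conj m • P).3 h1 le_sup_right).le (mem_sup_left ha)
  refine ⟨A, hA, hPA, ?_, ?_, ?_, hCA, ?_⟩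
  · intro hd
    exact P.not_dvd_index (hd.trans (relIndex_dvd_index_of_le hPA))
  · refine ⟨hNtop, fun M hM => ?_⟩
    by_contra hMt
    exact absurd (hsub M hMt (hAN.trans hM.le)) (not_le_of_gt hM)
  · intro g hg hd
    obtain ⟨⟨z, hzN, hzg⟩, hz⟩ := exists_prime_orderOf_dvd_card' p hd
    replace hz : orderOf z = p := (Subgroup.orderOf_coe _).trans hz
    have hzp : IsPGroup p ↥(zpowers z) := IsPGroup.of_card (n := 1) (by rw [Nat.card_zpowers, hz, pow_one])
    have key : ∀ Q : Sylow p G, z ∈ normalizer ((Q : Subgroup G) : Set G) → z ∈ (Q : Subgroup G) := fun Q hzQ =>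
      (Q.3 (hzp.to_sup_of_normal_right' Q.2 (zpowers_le.mpr hzQ)) le_sup_right).le (mem_sup_left (mem_zpowers z))
    have hzP := key P hzN
    have hzQ : z ∈ ((MulAut.conj g • P : Sylow p G) : Subgroup G) := by
      obtain ⟨w, hw, rfl⟩ := hzg
      have hwp : IsPGroup p ↥(zpowers w) := IsPGroup.of_card (n := 1) (by
        rw [Nat.card_zpowers, ← MulEquiv.orderOf_eq (MulAut.conj g) w]
        exact hz.trans (pow_one p).symm)
      exact ⟨w, (P.3 (hwp.to_sup_of_normal_right' P.2 (zpowers_le.mpr hw)) le_sup_right).le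
        (mem_sup_left (mem_zpowers w)), rfl⟩
    obtain ⟨B, hB, hQB⟩ := hmem (MulAut.conj g • P)
    have hz1 : z ≠ 1 := fun h => by rw [h, orderOf_one] at hz; exact hp.out.ne_one hz.symm
    have hAB := eq_of_mem hZ hmin hprop hcov hnil P hab P.2 hA hB hzP hz1 (hPA hzP) (hQB hzQ)
    have hQN : ((MulAut.conj g • P : Sylow p G) : Subgroup G) ≤ N := (hAB ▸ hQB).trans hAN
    refine hg (Sylow.smul_eq_iff_mem_normalizer.mp (Sylow.ext ?_))
    exact ((MulAut.conj g • P).3 ((MulAut.conj g • P).2.to_sup_of_normal_right' P.2 hQN) le_sup_left).symm.trans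
      (P.3 ((MulAut.conj g • P).2.to_sup_of_normal_right' P.2 hQN) le_sup_right)
  · intro M hM hCM
    exact ((hM.le_iff).mp (le_refl M)).elim (fun h => absurd h hM.1) fun _ =>
      le_antisymm (hsub M hM.1 (hCA ▸ hCM)) (by
        by_contra h
        exact hNtop (hM.2 N (lt_of_le_of_ne (hsub M hM.1 (hCA ▸ hCM)) fun e => h (e ▸ le_rfl))))

end CfsgLib.Core.MinimalCover
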