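/-
Replacing nilpotent members of a cover by point stabilisers.
-/
import Cfsg.Agent.Lib.CharCN3

set_option autoImplicit false

namespace CfsgLib.Core.NilCover

open MulAction

universe u

variable {G : Type u} [Group G] [Finite G]

/-- A cover by proper nilpotent subgroups is not minimal if more than `|Ω|` marked elements need pairwise
different members, each fixing a point. -/
theorem no_nilpotent_minimal_cover {Ω : Type*} [Finite Ω] [MulAction G Ω] (hstab : ∀ w : Ω, stabilizer G w ≠ ⊤)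
    {I : Type*} [Finite I] (e : I → G) (hcard : Nat.card Ω < Nat.card I)
    (hfix : ∀ A : Subgroup G, A ≠ ⊤ → Group.IsNilpotent A → ∀ i, e i ∈ A → ∃ w : Ω, ∀ a ∈ A, a • w = w)
    (hsep : ∀ A : Subgroup G, A ≠ ⊤ → Group.IsNilpotent A → ∀ i j, e i ∈ A → e j ∈ A → i = j) :
    ¬ ∃ 𝓐 : Finset (Subgroup G), ((∀ A ∈ 𝓐, A ≠ ⊤) ∧ (∀ g : G, ∃ A ∈ 𝓐, g ∈ A)) ∧
      (∀ 𝓑 : Finset (Subgroup G), (∀ A ∈ 𝓑, A ≠ ⊤) ∧ (∀ g : G, ∃ A ∈ 𝓑, g ∈ A) → 𝓐.card ≤ 𝓑.card) ∧
      (∀ A ∈ 𝓐, Group.IsNilpotent ↥A) := by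
  classical
  rintro ⟨𝓐, ⟨hne, hcov⟩, hmin, hnil⟩
  haveI := Fintype.ofFinite Ω
  haveI := Fintype.ofFinite I
  set F := 𝓐.filter fun A : Subgroup G => ∃ w : Ω, ∀ a ∈ A, a • w = w with hF
  set R := 𝓐.filter fun A : Subgroup G => ¬ ∃ w : Ω, ∀ a ∈ A, a • w = w with hR
  set B := (Finset.univ.image fun w : Ω => stabilizer G w) ∪ R with hB
  have hBcov : (∀ A ∈ B, A ≠ ⊤) ∧ ∀ g : G, ∃ A ∈ B, g ∈ A := by
    refine ⟨fun A hA => ?_, fun g => ?_⟩
    · rcases Finset.mem_union.1 hA with h | h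
      · obtain ⟨w, -, rfl⟩ := Finset.mem_image.1 h
        exact hstab w
      · exact hne A (Finset.mem_filter.1 h).1
    · obtain ⟨A, hA, hg⟩ := hcov g
      by_cases h : ∃ w : Ω, ∀ a ∈ A, a • w = w
      · obtain ⟨w, hw⟩ := h
        exact ⟨stabilizer G w, Finset.mem_union_left _ (Finset.mem_image_of_mem _ (Finset.mem_univ w)), hw g hg⟩
      · exact ⟨A, Finset.mem_union_right _ (Finset.mem_filter.2 ⟨hA, h⟩), hg⟩
  have h1 : Nat.card I ≤ F.card := by
    choose M hM hMe using fun i => hcov (e i)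
    have hinj : Function.Injective M := fun i j h =>
      hsep (M i) (hne _ (hM i)) (hnil _ (hM i)) i j (hMe i) (h ▸ hMe j)
    rw [Nat.card_eq_fintype_card, ← Finset.card_univ, ← Finset.card_image_of_injective _ hinj]
    refine Finset.card_le_card fun A hA => ?_
    obtain ⟨i, -, rfl⟩ := Finset.mem_image.1 hA
    exact Finset.mem_filter.2 ⟨hM i, hfix _ (hne _ (hM i)) (hnil _ (hM i)) i (hMe i)⟩
  have h2 : F.card + R.card = 𝓐.card := Finset.card_filter_add_card_filter_not _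
  have h3 : B.card ≤ Nat.card Ω + R.card := by
    refine (Finset.card_union_le _ _).trans (Nat.add_le_add_right ?_ _)
    rw [Nat.card_eq_fintype_card]
    exact Finset.card_image_le.trans (le_of_eq Finset.card_univ)
  have := hmin B hBcov
  omega

/-- The version for groups in which a nontrivial 2-element fixes exactly one point, and some nonidentity
element fixes exactly two. -/
theorem no_cover_of_twoPoint {Ω : Type*} [Finite Ω] [MulAction G Ω] (hstab : ∀ w : Ω, stabilizer G w ≠ ⊤)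
    (hone : ∀ g : G, g ≠ 1 → (∃ k, orderOf g = 2 ^ k) → ∀ a b : Ω, g • a = a → g • b = b → a = b)
    (hex : ∀ g : G, g ≠ 1 → (∃ k, orderOf g = 2 ^ k) → ∃ a : Ω, g • a = a)
    (hsome : ∀ a : Ω, ∃ g : G, g ≠ 1 ∧ (∃ k, orderOf g = 2 ^ k) ∧ g • a = a)
    (h3 : ∀ g : G, ∀ a b c : Ω, a ≠ b → b ≠ c → a ≠ c → g • a = a → g • b = b → g • c = c → g = 1)
    (h2 : ∃ g : G, g ≠ 1 ∧ ∃ a b : Ω, a ≠ b ∧ g • a = a ∧ g • b = b) :
    ¬ ∃ 𝓐 : Finset (Subgroup G), ((∀ A ∈ 𝓐, A ≠ ⊤) ∧ (∀ g : G, ∃ A ∈ 𝓐, g ∈ A)) ∧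
      (∀ 𝓑 : Finset (Subgroup G), (∀ A ∈ 𝓑, A ≠ ⊤) ∧ (∀ g : G, ∃ A ∈ 𝓑, g ∈ A) → 𝓐.card ≤ 𝓑.card) ∧
      (∀ A ∈ 𝓐, Group.IsNilpotent ↥A) := by
  choose u hu1 huk hufix using hsome
  obtain ⟨h, hh1, a₀, b₀, hab, ha₀, hb₀⟩ := h2
  -- `h` has odd order
  have hhodd : Odd (orderOf h) := by
    by_contra hc
    obtain ⟨j, hj⟩ := (Nat.not_odd_iff_even.1 hc).two_dvd
    have ht : orderOf (h ^ j) = 2 := by
      rw [orderOf_pow' _ (by intro e; rw [e, mul_zero] at hj; exact (orderOf_pos h).ne' hj), hj,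
        Nat.gcd_mul_left_left, Nat.mul_div_cancel _ (Nat.pos_of_ne_zero fun e => by
          rw [e, mul_zero] at hj; exact (orderOf_pos h).ne' hj)]
    refine hab (hone (h ^ j) (fun e => by rw [e, orderOf_one] at ht; omega) ⟨1, by simpa using ht⟩ a₀ b₀ ?_ ?_)
    · exact (stabilizer G a₀).pow_mem ha₀ j
    · exact (stabilizer G b₀).pow_mem hb₀ j
  have hufix' : ∀ w x : Ω, u w • x = x → x = w := fun w x hx => hone _ (hu1 w) (huk w) x w hx (hufix w)
  have hcop : ∀ t : G, (∃ k, orderOf t = 2 ^ k) → (orderOf t).Coprime (orderOf h) := by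
    rintro t ⟨k, hk⟩
    rw [hk]
    exact Nat.Coprime.pow_left _ (Nat.coprime_two_left.2 hhodd)
  -- a nilpotent subgroup containing `h` has no nontrivial 2-element
  have hno2 : ∀ A : Subgroup G, Group.IsNilpotent A → h ∈ A → ∀ t ∈ A, (∃ k, orderOf t = 2 ^ k) →
      ∀ p : Ω, t • p = p → t = 1 := by
    intro A hA hhA t ht htk p hp
    by_contra hne
    have hcm := CfsgLib.CN.commute_of_mem_nilpotent hA ht hhA (hcop t htk)
    have hpu : ∀ x : Ω, t • x = x → x = p := fun x hx => hone t hne htk x p hx hp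
    have hhp : h • p = p := hpu _ (by rw [← mul_smul, hcm, mul_smul, hp])
    have h4 : p = a₀ ∨ p = b₀ := by
      by_contra hc
      push Not at hc
      exact hh1 (h3 h p a₀ b₀ hc.1 hab hc.2 hhp ha₀ hb₀)
    have hmove : ∀ x : Ω, h • x = x → h • (t • x) = t • x := fun x hx => by
      rw [← mul_smul, ← hcm, mul_smul, hx]
    rcases h4 with rfl | rfl
    · have h5 : t • b₀ ≠ p := fun e => hab (by
        have := congrArg (fun y => t⁻¹ • y) e
        simp only [inv_smul_smul] at this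
        rw [this]
        exact (inv_smul_eq_iff.2 hp.symm).symm)
      have h6 : t • b₀ ≠ b₀ := fun e => hab (hpu _ e).symm
      exact hh1 (h3 h (t • b₀) p b₀ h5 hab h6 (hmove _ hb₀) ha₀ hb₀)
    · have h5 : t • a₀ ≠ p := fun e => hab (by
        have := congrArg (fun y => t⁻¹ • y) e
        simp only [inv_smul_smul] at this
        rw [this]
        exact (inv_smul_eq_iff.2 hp.symm))
      have h6 : t • a₀ ≠ a₀ := fun e => hab (hpu _ e)
      exact hh1 (h3 h (t • a₀) p a₀ h5 (Ne.symm hab) h6 (hmove _ ha₀) hb₀ ha₀)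
  let e : Option Ω → G := fun i => i.elim h u
  -- a nilpotent subgroup containing `u w` fixes `w`
  have hAu : ∀ A : Subgroup G, Group.IsNilpotent A → ∀ w, u w ∈ A → ∀ a ∈ A, a • w = w := by
    intro A hA w hw a ha
    haveI := hA
    haveI : Nontrivial A := ⟨⟨⟨u w, hw⟩, 1, fun e => hu1 w (congrArg Subtype.val e)⟩⟩
    obtain ⟨z, hz⟩ := @exists_ne ↥(Subgroup.center ↥A) ((Subgroup.nontrivial_iff_ne_bot _).2 (Group.IsNilpotent.center_ne_bot ↥A)) 1
    set zz : G := ((z : ↥A) : G)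
    have hzc : ∀ b ∈ A, zz * b = b * zz := fun b hb =>
      (congrArg Subtype.val (Subgroup.mem_center_iff.1 z.2 ⟨b, hb⟩)).symm
    have hz1 : zz ≠ 1 := fun e => hz (Subtype.ext (Subtype.ext e))
    have hzw : zz • w = w := hufix' w _ (by rw [← mul_smul, ← hzc _ hw, mul_smul, hufix w])
    have honly : ∀ x, zz • x = x → x = w := by
      intro x hx
      by_contra hne
      have h5 : zz • (u w • x) = u w • x := by rw [← mul_smul, hzc _ hw, mul_smul, hx]
      have h6 : u w • x ≠ x := fun e => hne (hufix' w x e)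
      have h7 : u w • x ≠ w := fun e => hne (by
        have := congrArg (fun y => (u w)⁻¹ • y) e
        simp only [inv_smul_smul] at this
        rw [this]
        exact inv_smul_eq_iff.2 (hufix w).symm)
      exact hz1 (h3 zz (u w • x) x w h6 hne h7 h5 hx hzw)
    exact honly _ (by rw [← mul_smul, hzc _ ha, mul_smul, hzw])
  refine no_nilpotent_minimal_cover hstab e ?_ ?_ ?_
  · haveI := Fintype.ofFinite Ω
    rw [Nat.card_eq_fintype_card, Nat.card_eq_fintype_card, Fintype.card_option]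
    omega
  · rintro A - hA (_ | w) hi
    · replace hi : h ∈ A := hi
      -- `A` has odd order
      have hodd : ∀ a ∈ A, Odd (orderOf a) := by
        intro a ha
        by_contra hc
        obtain ⟨j, hj⟩ := (Nat.not_odd_iff_even.1 hc).two_dvd
        have hj0 : j ≠ 0 := fun e => by rw [e, mul_zero] at hj; exact (orderOf_pos a).ne' hj
        have ht : orderOf (a ^ j) = 2 := by
          rw [orderOf_pow' _ hj0, hj, Nat.gcd_mul_left_left, Nat.mul_div_cancel _ (Nat.pos_of_ne_zero hj0)]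
        have ht1 : a ^ j ≠ 1 := fun e => by rw [e, orderOf_one] at ht; omega
        obtain ⟨p, hp⟩ := hex _ ht1 ⟨1, by simpa using ht⟩
        exact ht1 (hno2 A hA hi _ (A.pow_mem ha j) ⟨1, by simpa using ht⟩ p hp)
      have hmem : ∀ y, h • y = y → y = a₀ ∨ y = b₀ := fun y hy => by
        by_contra hc
        push Not at hc
        exact hh1 (h3 h y a₀ b₀ hc.1 hab hc.2 hy ha₀ hb₀)
      -- an element of odd order preserving the pair fixes both
      have hpair : ∀ a ∈ A, (a • a₀ = a₀ ∨ a • a₀ = b₀) → (a • b₀ = a₀ ∨ a • b₀ = b₀) →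
          a • a₀ = a₀ ∧ a • b₀ = b₀ := by
        intro a ha hA' hB'
        have hfa : a • a₀ = a₀ := by
          rcases hA' with e | e
          · exact e
          exfalso
          rcases hB' with e' | e'
          · obtain ⟨j, hj⟩ := hodd a ha
            have hsq : (a * a) • a₀ = a₀ := by rw [mul_smul, e, e']
            have h1 : ((a * a) ^ (j + 1)) • a₀ = a₀ := (stabilizer G a₀).pow_mem hsq _
            rw [← pow_two, ← pow_mul, show 2 * (j + 1) = orderOf a + 1 by omega, pow_succ,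
              pow_orderOf_eq_one, one_mul, e] at h1
            exact hab h1.symm
          · exact hab (MulAction.injective a (e.trans e'.symm))
        refine ⟨hfa, hB'.resolve_left fun e => hab (MulAction.injective a (hfa.trans e.symm))⟩
      haveI := hA
      haveI : Nontrivial A := ⟨⟨⟨h, hi⟩, 1, fun e => hh1 (congrArg Subtype.val e)⟩⟩
      obtain ⟨z, hz⟩ := @exists_ne ↥(Subgroup.center ↥A) ((Subgroup.nontrivial_iff_ne_bot _).2 (Group.IsNilpotent.center_ne_bot ↥A)) 1
      set zz : G := ((z : ↥A) : G)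
      have hzA : zz ∈ A := (z : ↥A).2
      have hzc : ∀ b ∈ A, zz * b = b * zz := fun b hb =>
        (congrArg Subtype.val (Subgroup.mem_center_iff.1 z.2 ⟨b, hb⟩)).symm
      have hz1 : zz ≠ 1 := fun e => hz (Subtype.ext (Subtype.ext e))
      have hzf := hpair zz hzA (hmem _ (by rw [← mul_smul, ← hzc _ hi, mul_smul, ha₀]))
        (hmem _ (by rw [← mul_smul, ← hzc _ hi, mul_smul, hb₀]))
      have hzonly : ∀ y, zz • y = y → y = a₀ ∨ y = b₀ := fun y hy => by
        by_contra hc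
        push Not at hc
        exact hz1 (h3 zz y a₀ b₀ hc.1 hab hc.2 hy hzf.1 hzf.2)
      refine ⟨a₀, fun a ha => (hpair a ha (hzonly _ ?_) (hzonly _ ?_)).1⟩
      · rw [← mul_smul, hzc _ ha, mul_smul, hzf.1]
      · rw [← mul_smul, hzc _ ha, mul_smul, hzf.2]
    · exact ⟨w, hAu A hA w hi⟩
  · rintro A - hA (_ | w) (_ | w') hi hj
    · rfl
    · exact absurd (hno2 A hA hi _ hj (huk w') w' (hufix w')) (hu1 w')
    · exact absurd (hno2 A hA hj _ hi (huk w) w (hufix w)) (hu1 w)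
    · exact congrArg some (hufix' w' w (hAu A hA w hi _ hj))

end CfsgLib.Core.NilCover
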