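/-
Projective linear groups have no nilpotent minimal cover: replacement counts.
-/
import Cfsg.Agent.Lib.CharCN3
import Mathlib.LinearAlgebra.Matrix.GeneralLinearGroup.Basic
import Mathlib.LinearAlgebra.Matrix.Charpoly.Coeff
import Mathlib.LinearAlgebra.Matrix.Transvection
import Mathlib.LinearAlgebra.Projectivization.Basic

set_option autoImplicit false

namespace CfsgLib.Core.PGLCover

open Matrix

universe u

/-- If more than `|K|` marked elements need pairwise different nilpotent members, each covered by the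
subgroups `H k`, then no minimal cover is nilpotent. -/
theorem no_cover_replace {G : Type u} [Group G] {K I : Type*} [Finite K] [Finite I] (H : K → Subgroup G)
    (hH : ∀ k, H k ≠ ⊤) (e : I → G) (hcard : Nat.card K < Nat.card I)
    (hsub : ∀ A : Subgroup G, Group.IsNilpotent A → ∀ i, e i ∈ A → ∀ a ∈ A, ∃ k, a ∈ H k)
    (hsep : ∀ A : Subgroup G, Group.IsNilpotent A → ∀ i j, e i ∈ A → e j ∈ A → i = j) :
    ¬ ∃ 𝓐 : Finset (Subgroup G), ((∀ A ∈ 𝓐, A ≠ ⊤) ∧ (∀ g : G, ∃ A ∈ 𝓐, g ∈ A)) ∧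
      (∀ 𝓑 : Finset (Subgroup G), (∀ A ∈ 𝓑, A ≠ ⊤) ∧ (∀ g : G, ∃ A ∈ 𝓑, g ∈ A) → 𝓐.card ≤ 𝓑.card) ∧
      (∀ A ∈ 𝓐, Group.IsNilpotent ↥A) := by
  classical
  rintro ⟨𝓐, ⟨hne, hcov⟩, hmin, hnil⟩
  haveI := Fintype.ofFinite K
  haveI := Fintype.ofFinite I
  set P : Subgroup G → Prop := fun A => ∀ a ∈ A, ∃ k, a ∈ H k with hP
  set B := (Finset.univ.image H) ∪ 𝓐.filter (fun A => ¬ P A) with hB
  have hBcov : (∀ A ∈ B, A ≠ ⊤) ∧ ∀ g : G, ∃ A ∈ B, g ∈ A := by
    refine ⟨fun A hA => ?_, fun g => ?_⟩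
    · rcases Finset.mem_union.1 hA with h | h
      · obtain ⟨k, -, rfl⟩ := Finset.mem_image.1 h
        exact hH k
      · exact hne A (Finset.mem_filter.1 h).1
    · obtain ⟨A, hA, hg⟩ := hcov g
      by_cases h : P A
      · obtain ⟨k, hk⟩ := h g hg
        exact ⟨H k, Finset.mem_union_left _ (Finset.mem_image_of_mem _ (Finset.mem_univ k)), hk⟩
      · exact ⟨A, Finset.mem_union_right _ (Finset.mem_filter.2 ⟨hA, h⟩), hg⟩
  have h1 : Nat.card I ≤ (𝓐.filter P).card := by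
    choose M hM hMe using fun i => hcov (e i)
    have hinj : Function.Injective M := fun i j h => hsep (M i) (hnil _ (hM i)) i j (hMe i) (h ▸ hMe j)
    rw [Nat.card_eq_fintype_card, ← Finset.card_univ, ← Finset.card_image_of_injective _ hinj]
    refine Finset.card_le_card fun A hA => ?_
    obtain ⟨i, -, rfl⟩ := Finset.mem_image.1 hA
    exact Finset.mem_filter.2 ⟨hM i, hsub _ (hnil _ (hM i)) i (hMe i)⟩
  have h2 : (𝓐.filter P).card + (𝓐.filter fun A => ¬ P A).card = 𝓐.card :=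
    Finset.card_filter_add_card_filter_not _
  have h3 : B.card ≤ Nat.card K + (𝓐.filter fun A => ¬ P A).card := by
    refine (Finset.card_union_le _ _).trans (Nat.add_le_add_right ?_ _)
    rw [Nat.card_eq_fintype_card]
    exact Finset.card_image_le.trans (le_of_eq Finset.card_univ)
  have := hmin B hBcov
  omega

variable {F : Type u} [Field F] [Fintype F] {n : ℕ}

/-- The centre of the general linear group. -/
abbrev Zg (F : Type u) [Field F] (n : ℕ) : Subgroup (GL (Fin n) F) := Subgroup.center (GL (Fin n) F)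

/-- The matrices fixing the line of `v`. -/
def stabLine (v : Fin n → F) : Subgroup (GL (Fin n) F) where
  carrier := {g | ∃ c : Fˣ, (g : Matrix (Fin n) (Fin n) F) *ᵥ v = (c : F) • v}
  one_mem' := ⟨1, by simp⟩
  mul_mem' := by
    rintro g h ⟨c, hc⟩ ⟨d, hd⟩
    refine ⟨c * d, ?_⟩
    rw [Units.val_mul, ← Matrix.mulVec_mulVec, hd, Matrix.mulVec_smul, hc, smul_smul, Units.val_mul, mul_comm]
  inv_mem' := by
    rintro g ⟨c, hc⟩
    refine ⟨c⁻¹, ?_⟩
    have h1 := congrArg (fun w => ((c⁻¹ : Fˣ) : F) • ((g⁻¹ : GL (Fin n) F) : Matrix (Fin n) (Fin n) F) *ᵥ w) hc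
    simp only [Matrix.mulVec_mulVec, Matrix.mulVec_smul, smul_smul, Units.inv_mul, one_smul] at h1
    rw [← h1, Matrix.one_mulVec]

theorem mem_stabLine {v : Fin n → F} {g : GL (Fin n) F} :
    g ∈ stabLine v ↔ ∃ c : Fˣ, (g : Matrix (Fin n) (Fin n) F) *ᵥ v = (c : F) • v := Iff.rfl

theorem mem_stabLine_of {v : Fin n → F} {g : GL (Fin n) F} (hv : v ≠ 0) {c : F}
    (h : (g : Matrix (Fin n) (Fin n) F) *ᵥ v = c • v) : g ∈ stabLine v := by
  refine ⟨Units.mk0 c fun hc => hv ?_, h⟩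
  rw [hc, zero_smul] at h
  have := congrArg (fun w => ((g⁻¹ : GL (Fin n) F) : Matrix (Fin n) (Fin n) F) *ᵥ w) h
  simpa [Matrix.mulVec_mulVec] using this

omit [Fintype F] in
theorem scalar_of_mem_center {g : GL (Fin n) F} (hg : g ∈ Zg F n) :
    ∃ c : F, (g : Matrix (Fin n) (Fin n) F) = Matrix.scalar (Fin n) c := by
  obtain ⟨c, hc⟩ := Matrix.GeneralLinearGroup.mem_center_iff_val_mem_range_scalar.1 hg
  exact ⟨c, hc.symm⟩

omit [Fintype F] in
theorem scalar_mulVec (c : F) (v : Fin n → F) : Matrix.scalar (Fin n) c *ᵥ v = c • v := by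
  ext i
  simp [Matrix.mulVec_diagonal]

theorem center_le_stabLine {v : Fin n → F} (hv : v ≠ 0) : Zg F n ≤ stabLine v := by
  intro g hg
  obtain ⟨c, hc⟩ := scalar_of_mem_center hg
  exact mem_stabLine_of hv (c := c) (by rw [hc, scalar_mulVec])

/-- Image of a matrix group containing the scalars, in a projective group. -/
def proj (G : Subgroup (GL (Fin n) F ⧸ Zg F n)) (L : Subgroup (GL (Fin n) F)) : Subgroup ↥G :=
  (L.map (QuotientGroup.mk' (Zg F n))).subgroupOf G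

omit [Fintype F] in
theorem mem_proj {G : Subgroup (GL (Fin n) F ⧸ Zg F n)} {L : Subgroup (GL (Fin n) F)} (hL : Zg F n ≤ L)
    {x : ↥G} {g : GL (Fin n) F} (hg : (g : GL (Fin n) F ⧸ Zg F n) = x.1) : x ∈ proj G L ↔ g ∈ L := by
  rw [proj, Subgroup.mem_subgroupOf, Subgroup.mem_map]
  refine ⟨?_, fun h => ⟨g, h, hg⟩⟩
  rintro ⟨y, hy, hyx⟩
  have h1 : y⁻¹ * g ∈ Zg F n := QuotientGroup.eq.1 (hyx.trans hg.symm)
  simpa using L.mul_mem hy (hL h1)

/-- Lift of a nilpotent subgroup of a projective group. -/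
theorem exists_lift (G : Subgroup (GL (Fin n) F ⧸ Zg F n)) (A : Subgroup ↥G) (hA : Group.IsNilpotent A) :
    ∃ L : Subgroup (GL (Fin n) F), Group.IsNilpotent L ∧ Zg F n ≤ L ∧
      (∀ (x : ↥G) (g : GL (Fin n) F), (g : GL (Fin n) F ⧸ Zg F n) = x.1 → (x ∈ A ↔ g ∈ L)) ∧
      (∀ g ∈ L, ∃ x ∈ A, (g : GL (Fin n) F ⧸ Zg F n) = x.1) ∧
      (A ≠ ⊥ → ∃ z ∈ L, z ∉ Zg F n ∧ ∀ g ∈ L, z * g * z⁻¹ * g⁻¹ ∈ Zg F n) := by
  haveI := hA
  set L := (A.map G.subtype).comap (QuotientGroup.mk' (Zg F n)) with hL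
  have hmem : ∀ (x : ↥G) (g : GL (Fin n) F), (g : GL (Fin n) F ⧸ Zg F n) = x.1 → (x ∈ A ↔ g ∈ L) := by
    intro x g hg
    rw [hL, Subgroup.mem_comap, QuotientGroup.mk'_apply, hg]
    exact (Subgroup.mem_map_iff_mem G.subtype_injective).symm
  have hup : ∀ g ∈ L, ∃ x ∈ A, (g : GL (Fin n) F ⧸ Zg F n) = x.1 := fun g hg => by
    obtain ⟨x, hx, e⟩ := hg
    exact ⟨x, hx, e.symm⟩
  have hZL : Zg F n ≤ L := fun g hg => by
    rw [hL, Subgroup.mem_comap, QuotientGroup.mk'_apply, (QuotientGroup.eq_one_iff g).2 hg]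
    exact one_mem _
  refine ⟨L, ?_, hZL, hmem, hup, fun hne => ?_⟩
  · let f : ↥L →* ↥(A.map G.subtype) :=
      ((QuotientGroup.mk' (Zg F n)).comp L.subtype).codRestrict _ fun g => g.2
    haveI : Group.IsNilpotent ↥(A.map G.subtype) :=
      Group.nilpotent_of_mulEquiv (A.equivMapOfInjective G.subtype G.subtype_injective)
    refine Subgroup.isNilpotent_of_ker_le_center f fun g hg => ?_
    have h1 : (g : GL (Fin n) F) ∈ Zg F n := (QuotientGroup.eq_one_iff _).1 (congrArg Subtype.val hg)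
    exact Subgroup.mem_center_iff.2 fun k => Subtype.ext (Subgroup.mem_center_iff.1 h1 k)
  · haveI : Nontrivial A := (Subgroup.nontrivial_iff_ne_bot A).2 hne
    obtain ⟨z, hz⟩ := @exists_ne ↥(Subgroup.center ↥A)
      ((Subgroup.nontrivial_iff_ne_bot _).2 (Group.IsNilpotent.center_ne_bot ↥A)) 1
    obtain ⟨w, hw⟩ := QuotientGroup.mk'_surjective (Zg F n) ((z : ↥A) : ↥G).1
    refine ⟨w, (hmem _ w hw).1 (z : ↥A).2, fun h => hz ?_, fun g hg => ?_⟩
    · refine Subtype.ext (Subtype.ext (Subtype.ext ?_))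
      exact hw.symm.trans ((QuotientGroup.eq_one_iff _).2 h)
    · obtain ⟨x, hx, e⟩ := hup g hg
      rw [← QuotientGroup.eq_one_iff]
      simp only [QuotientGroup.mk_mul, QuotientGroup.mk_inv, e]
      rw [show (w : GL (Fin n) F ⧸ Zg F n) = ((z : ↥A) : ↥G).1 from hw]
      have := congrArg (fun t : ↥A => ((t : ↥G) : GL (Fin n) F ⧸ Zg F n)) (Subgroup.mem_center_iff.1 z.2 ⟨x, hx⟩)
      simp only [Subgroup.coe_mul] at this
      rw [← this]
      group

/-- The p-elements of a finite nilpotent subgroup generate a p-group. -/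
theorem pElements {G : Type*} [Group G] [Finite G] {p : ℕ} [Fact p.Prime] {L : Subgroup G}
    (hL : Group.IsNilpotent L) : ∃ P : Subgroup G, P ≤ L ∧ IsPGroup p P ∧
      ∀ x ∈ L, (∃ k, x ^ p ^ k = 1) → x ∈ P := by
  haveI := hL
  obtain ⟨S⟩ := (inferInstance : Nonempty (Sylow p ↥L))
  refine ⟨(S : Subgroup ↥L).map L.subtype, Subgroup.map_subtype_le _, S.2.map _, fun x hx hk => ?_⟩
  obtain ⟨k, hk⟩ := hk
  have hz : IsPGroup p ↥(Subgroup.zpowers (⟨x, hx⟩ : ↥L)) := by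
    obtain ⟨j, -, hj⟩ := (Nat.dvd_prime_pow (Fact.out : p.Prime)).1 (orderOf_dvd_of_pow_eq_one hk)
    exact IsPGroup.of_card (n := j) (by rw [Nat.card_zpowers, Subgroup.orderOf_mk, hj])
  obtain ⟨T, hT⟩ := hz.exists_le_sylow
  haveI := Sylow.unique_of_normal S inferInstance
  rw [Subsingleton.elim T S] at hT
  exact ⟨⟨x, hx⟩, hT (Subgroup.mem_zpowers _), rfl⟩

/-- A p-group of matrices in characteristic p has a nonzero fixed vector. -/
theorem exists_fixed {p : ℕ} [Fact p.Prime] [CharP F p] (hn : 0 < n) {P : Subgroup (GL (Fin n) F)}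
    (hP : IsPGroup p P) : ∃ v : Fin n → F, v ≠ 0 ∧ ∀ g ∈ P, (g : Matrix (Fin n) (Fin n) F) *ᵥ v = v := by
  classical
  letI : MulAction ↥P (Fin n → F) :=
    { smul := fun g v => ((g : GL (Fin n) F) : Matrix (Fin n) (Fin n) F) *ᵥ v
      one_smul := fun v => by show ((1 : GL (Fin n) F) : Matrix (Fin n) (Fin n) F) *ᵥ v = v; simp
      mul_smul := fun g h v => by
        show ((g * h : GL (Fin n) F) : Matrix (Fin n) (Fin n) F) *ᵥ v = _
        rw [Units.val_mul, ← Matrix.mulVec_mulVec]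
        rfl }
  have hdvd : p ∣ Nat.card (Fin n → F) := by
    obtain ⟨k, hk, hcard⟩ := FiniteField.card F p
    rw [Nat.card_fun, Nat.card_eq_fintype_card (α := F), hcard, Nat.card_eq_fintype_card, Fintype.card_fin]
    exact dvd_pow (dvd_pow_self p k.ne_zero) hn.ne'
  have h0 : (0 : Fin n → F) ∈ MulAction.fixedPoints ↥P (Fin n → F) := fun g => by
    show ((g : GL (Fin n) F) : Matrix (Fin n) (Fin n) F) *ᵥ 0 = 0
    exact Matrix.mulVec_zero _
  obtain ⟨v, hv, hne⟩ := hP.exists_fixed_point_of_prime_dvd_card_of_fixed_point (Fin n → F) hdvd h0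
  exact ⟨v, hne.symm, fun g hg => hv ⟨g, hg⟩⟩

omit [Fintype F] in
theorem exists_basis_change {v : Fin n → F} (hv : v ≠ 0) (i₀ : Fin n) :
    ∃ g : GL (Fin n) F, (g : Matrix (Fin n) (Fin n) F) *ᵥ (Pi.single i₀ 1) = v := by
  obtain ⟨i, hi⟩ : ∃ i, v i ≠ 0 := by
    by_contra h
    push Not at h
    exact hv (funext h)
  have hdet : ((1 : Matrix (Fin n) (Fin n) F).updateCol i v).det = v i := by
    rw [← Matrix.cramer_apply, Matrix.cramer_one]
    rfl
  set M := ((1 : Matrix (Fin n) (Fin n) F).updateCol i v).submatrix id (Equiv.swap i₀ i) with hM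
  have hMdet : M.det ≠ 0 := by
    rw [hM, Matrix.det_permute', hdet]
    refine mul_ne_zero ?_ hi
    rcases Int.units_eq_one_or (Equiv.Perm.sign (Equiv.swap i₀ i)) with e | e <;> simp [e]
  refine ⟨Matrix.GeneralLinearGroup.mkOfDetNeZero M hMdet, funext fun j => ?_⟩
  show (M *ᵥ Pi.single i₀ 1) j = v j
  rw [Matrix.mulVec_single, hM]
  simp

/-- The special linear image in a projective group. -/
def HasSL (G : Subgroup (GL (Fin n) F ⧸ Zg F n)) : Prop :=
  ∀ g : GL (Fin n) F, (g : Matrix (Fin n) (Fin n) F).det = 1 → (g : GL (Fin n) F ⧸ Zg F n) ∈ G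

theorem proj_stabLine_ne_top (hn : 2 ≤ n) {G : Subgroup (GL (Fin n) F ⧸ Zg F n)} (hG : HasSL G)
    {v : Fin n → F} (hv : v ≠ 0) : proj G (stabLine v) ≠ ⊤ := by
  intro htop
  obtain ⟨i, hi⟩ : ∃ i, v i ≠ 0 := by
    by_contra h
    push Not at h
    exact hv (funext h)
  haveI : Nontrivial (Fin n) := Fin.nontrivial_iff_two_le.2 hn
  obtain ⟨j, hji⟩ := exists_ne i
  have hdet : (Matrix.transvection j i (1 : F)).det = 1 := Matrix.det_transvection_of_ne _ _ hji _
  set g : GL (Fin n) F := Matrix.GeneralLinearGroup.mkOfDetNeZero _ (by rw [hdet]; exact one_ne_zero) with hg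
  have h1 : (⟨_, hG g hdet⟩ : ↥G) ∈ proj G (stabLine v) := htop ▸ Subgroup.mem_top _
  obtain ⟨c, hc⟩ := mem_stabLine.1 ((mem_proj (center_le_stabLine hv) rfl).1 h1)
  have hgv : (g : Matrix (Fin n) (Fin n) F) *ᵥ v = v + Pi.single j (v i) := by
    show Matrix.transvection j i (1 : F) *ᵥ v = _
    rw [Matrix.transvection, Matrix.add_mulVec, Matrix.one_mulVec, Matrix.single_mulVec, one_mul]
    rfl
  rw [hgv] at hc
  have hci := congrFun hc i
  rw [Pi.add_apply, Pi.single_eq_of_ne hji.symm, add_zero, Pi.smul_apply, smul_eq_mul] at hci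
  have hc1 : (c : F) = 1 := (mul_eq_right₀ hi).1 hci.symm
  have hcj := congrFun hc j
  rw [Pi.add_apply, Pi.single_eq_same, hc1, one_smul] at hcj
  exact hi (add_eq_left.1 hcj)

end CfsgLib.Core.PGLCover
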