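/-
Projective linear groups have no nilpotent minimal cover.
-/
import Cfsg.Agent.Lib.CorePGLCover
import Mathlib.LinearAlgebra.Matrix.GeneralLinearGroup.Card
import Mathlib.LinearAlgebra.Matrix.Block
import Mathlib.Data.Sym.Card

set_option autoImplicit false
set_option maxHeartbeats 1000000

namespace CfsgLib.Core.PGLCover

open Matrix

universe u

variable {F : Type u} [Field F] [Fintype F] {n : ℕ}

/-- A nilpotent shift along the ordering `σ`. -/
def shift (F : Type u) [Field F] (σ : Equiv.Perm (Fin n)) : Matrix (Fin n) (Fin n) F :=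
  Matrix.of fun i j => if (σ j).val = (σ i).val + 1 then 1 else 0

omit [Fintype F] in
theorem shift_apply (σ : Equiv.Perm (Fin n)) (i j : Fin n) :
    shift F σ i j = if (σ j).val = (σ i).val + 1 then 1 else 0 := rfl

omit [Fintype F] in
theorem shift_pow_apply (σ : Equiv.Perm (Fin n)) :
    ∀ (k : ℕ) (i j : Fin n), (σ j).val < (σ i).val + k → (shift F σ ^ k) i j = 0
  | 0, i, j, h => by
    rw [pow_zero, Matrix.one_apply_ne]
    rintro rfl
    omega
  | k + 1, i, j, h => by
    rw [pow_succ, Matrix.mul_apply]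
    refine Finset.sum_eq_zero fun l _ => ?_
    rw [shift_apply]
    split_ifs with hl
    · rw [shift_pow_apply σ k i l (by omega), zero_mul]
    · rw [mul_zero]

omit [Fintype F] in
theorem shift_pow_eq_zero (σ : Equiv.Perm (Fin n)) {k : ℕ} (hk : n ≤ k) : shift F σ ^ k = 0 := by
  ext i j
  exact shift_pow_apply σ k i j (by have := (σ j).isLt; omega)

omit [Fintype F] in
theorem trace_shift (σ : Equiv.Perm (Fin n)) : (shift F σ).trace = 0 := by
  refine Finset.sum_eq_zero fun i _ => ?_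
  rw [Matrix.diag_apply, shift_apply, if_neg (by omega)]

omit [Fintype F] in
theorem det_one_add_shift (σ : Equiv.Perm (Fin n)) : (1 + shift F σ).det = 1 := by
  have h : 1 + shift F σ = (1 + shift F (Equiv.refl (Fin n))).submatrix σ σ := by
    ext i j
    simp only [Matrix.submatrix_apply, Matrix.add_apply, shift_apply, Matrix.one_apply, Equiv.refl_apply,
      σ.injective.eq_iff]
    congr
  rw [h, Matrix.det_submatrix_equiv_self, Matrix.det_of_isUpperTriangular]
  · refine Finset.prod_eq_one fun i _ => ?_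
    simp [shift_apply]
  · intro i j hij
    have hij' : j < i := hij
    rw [Matrix.add_apply, Matrix.one_apply_ne hij'.ne', shift_apply, if_neg, add_zero]
    simp only [Equiv.refl_apply]
    have : j.val < i.val := hij
    omega

/-- The regular unipotent element along `σ`. -/
noncomputable def uni (F : Type u) [Field F] (σ : Equiv.Perm (Fin n)) : GL (Fin n) F :=
  Matrix.GeneralLinearGroup.mkOfDetNeZero (1 + shift F σ) (by rw [det_one_add_shift]; exact one_ne_zero)

omit [Fintype F] in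
theorem uni_val (σ : Equiv.Perm (Fin n)) : (uni F σ : Matrix (Fin n) (Fin n) F) = 1 + shift F σ := rfl

omit [Fintype F] in
theorem uni_pow {p : ℕ} [Fact p.Prime] [CharP F p] (σ : Equiv.Perm (Fin n)) : uni F σ ^ p ^ n = 1 := by
  rcases Nat.eq_zero_or_pos n with rfl | hn
  · exact Subsingleton.elim _ _
  haveI : Nonempty (Fin n) := ⟨⟨0, hn⟩⟩
  ext1
  rw [Units.val_pow_eq_pow_val, uni_val, add_pow_char_pow_of_commute p n (Commute.one_left _), one_pow,
    shift_pow_eq_zero σ (Nat.lt_pow_self (Fact.out : p.Prime).one_lt).le, add_zero, Units.val_one]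

omit [Fintype F] in
theorem uni_fixed {σ : Equiv.Perm (Fin n)} {i₀ : Fin n} (h0 : (σ i₀).val = 0) {v : Fin n → F}
    (h : (uni F σ : Matrix (Fin n) (Fin n) F) *ᵥ v = v) : v = v i₀ • Pi.single i₀ 1 := by
  rw [uni_val, Matrix.add_mulVec, Matrix.one_mulVec, add_eq_left] at h
  funext j
  by_cases hj : j = i₀
  · subst hj; simp
  rw [Pi.smul_apply, Pi.single_eq_of_ne hj, smul_zero]
  have hpos : (σ j).val ≠ 0 := fun e => hj (σ.injective (Fin.ext (e.trans h0.symm)))
  obtain ⟨i, hi⟩ := σ.surjective ⟨(σ j).val - 1, by omega⟩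
  have h1 := congrFun h i
  rw [Matrix.mulVec, dotProduct, Finset.sum_eq_single j] at h1
  · rwa [shift_apply, if_pos (by rw [hi]; simp only; omega), one_mul] at h1
  · intro l _ hl
    rw [shift_apply, if_neg, zero_mul]
    intro e
    refine hl (σ.injective (Fin.ext ?_))
    rw [e, hi]
    simp only
    omega
  · simp

omit [Fintype F] in
theorem uni_eigen (σ : Equiv.Perm (Fin n)) {i₀ : Fin n} (h0 : (σ i₀).val = 0) :
    (uni F σ : Matrix (Fin n) (Fin n) F) *ᵥ Pi.single i₀ 1 = Pi.single i₀ 1 := by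
  rw [uni_val, Matrix.add_mulVec, Matrix.one_mulVec, add_eq_left, Matrix.mulVec_single_one]
  funext i
  rw [Matrix.col_apply, shift_apply, if_neg (by omega)]
  rfl

/-- A transported unipotent with fixed line through the representative `v`. -/
noncomputable def uniAt (σ : Equiv.Perm (Fin n)) (g : GL (Fin n) F) : GL (Fin n) F := g * uni F σ * g⁻¹

omit [Fintype F] in
theorem uniAt_det (σ : Equiv.Perm (Fin n)) (g : GL (Fin n) F) :
    (uniAt σ g : Matrix (Fin n) (Fin n) F).det = 1 := by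
  have h : (g : Matrix (Fin n) (Fin n) F).det * ((g⁻¹ : GL (Fin n) F) : Matrix (Fin n) (Fin n) F).det = 1 := by
    rw [← Matrix.det_mul, Units.mul_inv, Matrix.det_one]
  rw [uniAt, Units.val_mul, Units.val_mul, Matrix.det_mul, Matrix.det_mul, uni_val, det_one_add_shift, mul_one, h]

omit [Fintype F] in
theorem uniAt_pow {p : ℕ} [Fact p.Prime] [CharP F p] (σ : Equiv.Perm (Fin n)) (g : GL (Fin n) F) :
    uniAt σ g ^ p ^ n = 1 := by
  rw [uniAt, ← MulAut.conj_apply, ← map_pow, uni_pow, map_one]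

omit [Fintype F] in
theorem uniAt_fixed {σ : Equiv.Perm (Fin n)} {i₀ : Fin n} (h0 : (σ i₀).val = 0) {g : GL (Fin n) F}
    {w : Fin n → F} (hg : (g : Matrix (Fin n) (Fin n) F) *ᵥ Pi.single i₀ 1 = w) {v : Fin n → F}
    (h : (uniAt σ g : Matrix (Fin n) (Fin n) F) *ᵥ v = v) : ∃ c : F, v = c • w := by
  set v' := ((g⁻¹ : GL (Fin n) F) : Matrix (Fin n) (Fin n) F) *ᵥ v with hv'
  have h2 : (uni F σ : Matrix (Fin n) (Fin n) F) *ᵥ v' = v' := by
    have := congrArg (((g⁻¹ : GL (Fin n) F) : Matrix (Fin n) (Fin n) F) *ᵥ ·) h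
    simp only [uniAt, Units.val_mul, Matrix.mulVec_mulVec, ← mul_assoc, Units.inv_mul, one_mul] at this
    rw [hv', Matrix.mulVec_mulVec, this]
  refine ⟨v' i₀, ?_⟩
  have h3 : (g : Matrix (Fin n) (Fin n) F) *ᵥ v' = v := by
    rw [hv', Matrix.mulVec_mulVec, Units.mul_inv, Matrix.one_mulVec]
  rw [← h3, uni_fixed h0 h2, Matrix.mulVec_smul, hg]
  simp

/-- Two unipotents in one nilpotent group have the same fixed line, which the group fixes. -/
theorem fixed_line {p : ℕ} [Fact p.Prime] [CharP F p] {L : Subgroup (GL (Fin n) F)} (hL : Group.IsNilpotent L)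
    {σ : Equiv.Perm (Fin n)} {i₀ : Fin n} (h0 : (σ i₀).val = 0) {g : GL (Fin n) F} {w : Fin n → F}
    (hw : w ≠ 0) (hg : (g : Matrix (Fin n) (Fin n) F) *ᵥ Pi.single i₀ 1 = w) (hu : uniAt σ g ∈ L) :
    L ≤ stabLine w ∧ ∀ (τ : Equiv.Perm (Fin n)), (τ i₀).val = 0 → ∀ (g' : GL (Fin n) F) (w' : Fin n → F),
      (g' : Matrix (Fin n) (Fin n) F) *ᵥ Pi.single i₀ 1 = w' → uniAt τ g' ∈ L →
      ∃ c : F, c ≠ 0 ∧ w' = c • w := by
  obtain ⟨P, -, hP, hPmem⟩ := pElements (p := p) hL
  obtain ⟨v, hv, hfix⟩ := exists_fixed i₀.pos hP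
  obtain ⟨c, hc⟩ := uniAt_fixed h0 hg (hfix _ (hPmem _ hu ⟨n, uniAt_pow σ g⟩))
  have hc0 : c ≠ 0 := fun e => hv (by rw [hc, e, zero_smul])
  refine ⟨fun a ha => ?_, fun τ hτ g' w' hg' hu' => ?_⟩
  · have h1 : a⁻¹ * uniAt σ g * a ∈ P := hPmem _ (L.mul_mem (L.mul_mem (L.inv_mem ha) hu) ha) ⟨n, by
      have h := map_pow (MulAut.conj a⁻¹).toMonoidHom (uniAt σ g) (p ^ n)
      simp only [MulEquiv.coe_toMonoidHom, MulAut.conj_apply, inv_inv, uniAt_pow, mul_one, inv_mul_cancel] at h
      exact h.symm⟩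
    have h2 : (uniAt σ g : Matrix (Fin n) (Fin n) F) *ᵥ ((a : Matrix (Fin n) (Fin n) F) *ᵥ v) =
        (a : Matrix (Fin n) (Fin n) F) *ᵥ v := by
      have := congrArg ((a : Matrix (Fin n) (Fin n) F) *ᵥ ·) (hfix _ h1)
      simp only [Matrix.mulVec_mulVec, Units.val_mul, ← mul_assoc, Units.mul_inv, one_mul] at this
      rw [Matrix.mulVec_mulVec, this]
    obtain ⟨d, hd⟩ := uniAt_fixed h0 hg h2
    rw [hc, Matrix.mulVec_smul] at hd
    refine mem_stabLine_of hw (c := c⁻¹ * d) ?_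
    rw [mul_smul, ← hd, inv_smul_smul₀ hc0]
  · obtain ⟨d, hd⟩ := uniAt_fixed hτ hg' (hfix _ (hPmem _ hu' ⟨n, uniAt_pow τ g'⟩))
    have hd0 : d ≠ 0 := fun e => hv (by rw [hd, e, zero_smul])
    exact ⟨d⁻¹ * c, mul_ne_zero (inv_ne_zero hd0) hc0, by rw [mul_smul, ← hc, hd, inv_smul_smul₀ hd0]⟩

omit [Fintype F] in
theorem trace_shift_mul (hn : 3 ≤ n) :
    (shift F (Equiv.refl (Fin n)) * shift F (Equiv.swap ⟨1, by omega⟩ ⟨2, by omega⟩)).trace = 1 := by
  rw [Matrix.trace, Finset.sum_eq_single (⟨1, by omega⟩ : Fin n)]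
  · rw [Matrix.diag_apply, Matrix.mul_apply, Finset.sum_eq_single (⟨2, by omega⟩ : Fin n)]
    · simp [shift_apply]
    · intro l _ hl
      rw [shift_apply, if_neg, zero_mul]
      simp only [Equiv.refl_apply]
      exact fun e => hl (Fin.ext e)
    · simp
  · intro i _ hi
    rw [Matrix.diag_apply, Matrix.mul_apply]
    refine Finset.sum_eq_zero fun l _ => ?_
    rw [shift_apply, shift_apply]
    by_cases h1 : ((Equiv.refl (Fin n)) l).val = ((Equiv.refl (Fin n)) i).val + 1
    swap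
    · rw [if_neg h1, zero_mul]
    rw [if_pos h1, one_mul, if_neg]
    intro h2
    simp only [Equiv.refl_apply] at h1
    have hi' : i.val ≠ 1 := fun e => hi (Fin.ext e)
    simp only [Equiv.swap_apply_def] at h2
    split_ifs at h2 <;> simp only [Fin.ext_iff] at * <;> omega
  · simp

/-- The case of dimension at least three. -/
theorem no_cover_large (hn : 3 ≤ n) {G : Subgroup (GL (Fin n) F ⧸ Zg F n)} (hG : HasSL G) :
    ¬ ∃ 𝓐 : Finset (Subgroup ↥G), ((∀ A ∈ 𝓐, A ≠ ⊤) ∧ (∀ g : ↥G, ∃ A ∈ 𝓐, g ∈ A)) ∧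
      (∀ 𝓑 : Finset (Subgroup ↥G), (∀ A ∈ 𝓑, A ≠ ⊤) ∧ (∀ g : ↥G, ∃ A ∈ 𝓑, g ∈ A) → 𝓐.card ≤ 𝓑.card) ∧
      (∀ A ∈ 𝓐, Group.IsNilpotent ↥A) := by
  classical
  obtain ⟨p, hp⟩ := CharP.exists F
  haveI : Fact p.Prime := ⟨CharP.char_is_prime F p⟩
  haveI : Nonempty (Fin n) := ⟨⟨0, by omega⟩⟩
  set i₀ : Fin n := ⟨0, by omega⟩ with hi₀
  let sg : Bool → Equiv.Perm (Fin n) := fun b =>
    bif b then Equiv.swap ⟨1, by omega⟩ ⟨2, by omega⟩ else Equiv.refl _
  have hsg : ∀ b, (sg b i₀).val = 0 := by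
    intro b
    cases b <;> simp [sg, i₀, Equiv.swap_apply_def]
  choose g hg using fun w : Projectivization F (Fin n → F) => exists_basis_change w.rep_nonzero i₀
  let e : Projectivization F (Fin n → F) × Bool → ↥G := fun i =>
    ⟨_, hG (uniAt (sg i.2) (g i.1)) (uniAt_det _ _)⟩
  refine no_cover_replace (K := Projectivization F (Fin n → F)) (fun w => proj G (stabLine w.rep))
    (fun w => proj_stabLine_ne_top (by omega) hG w.rep_nonzero) e ?_ ?_ ?_
  · rw [Nat.card_prod, Nat.card_eq_fintype_card (α := Bool), Fintype.card_bool]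
    haveI : Nonempty (Projectivization F (Fin n → F)) :=
      ⟨Projectivization.mk F (Pi.single i₀ 1) (by simp)⟩
    have : 0 < Nat.card (Projectivization F (Fin n → F)) := Nat.card_pos
    omega
  · rintro A hA ⟨w, b⟩ hi a ha
    obtain ⟨L, hL, -, hmem, -, -⟩ := exists_lift G A hA
    obtain ⟨y, hy⟩ := QuotientGroup.mk'_surjective (Zg F n) a.1
    exact ⟨w, (mem_proj (center_le_stabLine w.rep_nonzero) hy).2
      ((fixed_line (p := p) hL (hsg b) w.rep_nonzero (hg w) ((hmem _ _ rfl).1 hi)).1 ((hmem a y hy).1 ha))⟩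
  · rintro A hA ⟨w, b⟩ ⟨w', b'⟩ hi hj
    obtain ⟨L, hL, -, hmem, -, -⟩ := exists_lift G A hA
    replace hi := (hmem _ _ rfl).1 hi
    replace hj := (hmem _ _ rfl).1 hj
    obtain ⟨c, hc, hww⟩ := (fixed_line (p := p) hL (hsg b) w.rep_nonzero (hg w) hi).2 _ (hsg b') _ _ (hg w') hj
    have hw : w' = w := by
      rw [← w.mk_rep, ← w'.mk_rep, Projectivization.mk_eq_mk_iff']
      exact ⟨c, hww.symm⟩
    subst hw
    have key : ∀ x y : GL (Fin n) F, uniAt (sg false) (g w') = x → uniAt (sg true) (g w') = y →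
        x ∈ L → y ∈ L → False := by
      rintro x y rfl rfl hx hy
      obtain ⟨P, -, hP, hPmem⟩ := pElements (p := p) hL
      obtain ⟨k, hk⟩ := hP ⟨_, P.mul_mem (hPmem _ hx ⟨n, uniAt_pow _ _⟩) (hPmem _ hy ⟨n, uniAt_pow _ _⟩)⟩
      have hk' : (uni F (sg false) * uni F (sg true)) ^ p ^ k = 1 := by
        have h1 := congrArg (Subtype.val) hk
        simp only [SubgroupClass.coe_pow, Subgroup.coe_one, uniAt] at h1
        rw [
          show g w' * uni F (sg false) * (g w')⁻¹ * (g w' * uni F (sg true) * (g w')⁻¹) =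
            g w' * (uni F (sg false) * uni F (sg true)) * (g w')⁻¹ by group, ← MulAut.conj_apply, ← map_pow] at h1
        exact (MulAut.conj (g w')).injective (h1.trans (map_one _).symm)
      have h2 : IsNilpotent ((uni F (sg false) * uni F (sg true) : GL (Fin n) F).1 - 1) := by
        refine ⟨p ^ k, ?_⟩
        rw [sub_pow_char_pow_of_commute p k (Commute.one_right _), one_pow, ← Units.val_pow_eq_pow_val, hk',
          Units.val_one, sub_self]
      have h3 := (Matrix.isNilpotent_trace_of_isNilpotent h2).eq_zero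
      rw [Units.val_mul, uni_val, uni_val, show (1 + shift F (sg false)) * (1 + shift F (sg true)) - 1 =
        shift F (sg false) + shift F (sg true) + shift F (sg false) * shift F (sg true) by noncomm_ring,
        Matrix.trace_add, Matrix.trace_add, trace_shift, trace_shift, zero_add, zero_add] at h3
      exact one_ne_zero ((trace_shift_mul hn).symm.trans h3)
    cases b <;> cases b'
    · rfl
    · exact (key _ _ rfl rfl hi hj).elim
    · exact (key _ _ rfl rfl hj hi).elim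
    · rfl

end CfsgLib.Core.PGLCover
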