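/-
Projective linear groups of degree two have no nilpotent minimal cover.
-/
import Cfsg.Agent.Lib.CorePGLCover2

set_option autoImplicit false
set_option maxHeartbeats 1000000

namespace CfsgLib.Core.PGLCover

open Matrix

universe u

variable {F : Type u} [Field F] [Fintype F]

/-- Parameters of irreducible companion matrices. -/
abbrev Irr (F : Type u) [Field F] := {x : F × F // ∀ t : F, t * t ≠ x.2 * t + x.1}

omit [Fintype F] in
theorem irr_det (x : Irr F) : (!![0, x.1.1; 1, x.1.2] : Matrix (Fin 2) (Fin 2) F).det ≠ 0 := by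
  rw [Matrix.det_fin_two_of]
  intro h
  refine x.2 0 ?_
  linear_combination h

/-- The centraliser of an irreducible companion matrix. -/
noncomputable def field (x : Irr F) : Subgroup (GL (Fin 2) F) :=
  Subgroup.centralizer {Matrix.GeneralLinearGroup.mkOfDetNeZero !![0, x.1.1; 1, x.1.2] (irr_det x)}

omit [Fintype F] in
theorem mem_field {x : Irr F} {g : GL (Fin 2) F} : g ∈ field x ↔
    (g : Matrix (Fin 2) (Fin 2) F) * !![0, x.1.1; 1, x.1.2] = !![0, x.1.1; 1, x.1.2] * g := by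
  rw [field, Subgroup.mem_centralizer_singleton_iff]
  exact Units.ext_iff

omit [Fintype F] in
theorem center_le_field (x : Irr F) : Zg F 2 ≤ field x := fun g hg =>
  Subgroup.mem_centralizer_singleton_iff.2 (Subgroup.mem_center_iff.1 hg _).symm

omit [Fintype F] in
theorem proj_field_ne_top {G : Subgroup (GL (Fin 2) F ⧸ Zg F 2)} (hG : HasSL G) (x : Irr F) :
    proj G (field x) ≠ ⊤ := by
  intro htop
  have hdet : (!![1, 1; 0, 1] : Matrix (Fin 2) (Fin 2) F).det = 1 := by simp [Matrix.det_fin_two_of]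
  set g : GL (Fin 2) F := Matrix.GeneralLinearGroup.mkOfDetNeZero _ (by rw [hdet]; exact one_ne_zero) with hg
  have h1 : (⟨_, hG g hdet⟩ : ↥G) ∈ proj G (field x) := htop ▸ Subgroup.mem_top _
  have h2 := mem_field.1 ((mem_proj (center_le_field x) rfl).1 h1)
  have h3 := congrFun (congrFun (show (!![1, 1; 0, 1] : Matrix (Fin 2) (Fin 2) F) * !![0, x.1.1; 1, x.1.2] =
    !![0, x.1.1; 1, x.1.2] * !![1, 1; 0, 1] from h2) 0) 0
  simp [Matrix.mul_apply, Fin.sum_univ_two] at h3

/-- Lines and fields cover everything. -/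
theorem cover_two (g : GL (Fin 2) F) :
    (∃ w : Projectivization F (Fin 2 → F), g ∈ stabLine w.rep) ∨ ∃ x : Irr F, g ∈ field x := by
  by_cases h : ∃ (v : Fin 2 → F) (c : F), v ≠ 0 ∧ (g : Matrix (Fin 2) (Fin 2) F) *ᵥ v = c • v
  · obtain ⟨v, c, hv, hc⟩ := h
    refine Or.inl ⟨Projectivization.mk F v hv, ?_⟩
    obtain ⟨a, ha⟩ := Projectivization.exists_smul_eq_mk_rep F v hv
    refine mem_stabLine_of (Projectivization.rep_nonzero _) (c := c) ?_
    rw [← ha, Units.smul_def, Matrix.mulVec_smul, hc, smul_comm]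
  · push Not at h
    refine Or.inr ?_
    set M := (g : Matrix (Fin 2) (Fin 2) F) with hM
    have hy : M 1 0 ≠ 0 := fun e => h ![1, 0] (M 0 0) (by simp) (by
      funext i
      fin_cases i <;> simp [Matrix.mulVec, dotProduct, Fin.sum_univ_two, e])
    refine ⟨⟨(M 0 1 / M 1 0, (M 1 1 - M 0 0) / M 1 0), fun t ht => ?_⟩, mem_field.2 ?_⟩
    · refine h ![M 1 0 * t - (M 1 1 - M 0 0), M 1 0] (M 0 0 + M 1 0 * t) ?_ ?_
      · intro e
        exact hy (by simpa using congrFun e 1)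
      · have ht' : M 1 0 * t * t = (M 1 1 - M 0 0) * t + M 0 1 := by
          simp only at ht
          field_simp at ht
          linear_combination ht
        funext i
        fin_cases i
        · simp [Matrix.mulVec, dotProduct, Fin.sum_univ_two]
          linear_combination (-(M 1 0)) * ht'
        · simp [Matrix.mulVec, dotProduct, Fin.sum_univ_two]
          ring
    · ext i j
      fin_cases i <;> fin_cases j <;> simp [Matrix.mul_apply, Fin.sum_univ_two, ← hM] <;> field_simp <;> ring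

theorem card_irr_add : Nat.card (Irr F) + (Fintype.card F + 1).choose 2 ≤ Fintype.card F ^ 2 := by
  classical
  let φ : Sym2 F → F × F := Sym2.lift ⟨fun s t => (-(s * t), s + t), fun s t => by simp [mul_comm, add_comm]⟩
  have hφ : Function.Injective φ := by
    intro a b
    induction a with | h s t => ?_
    induction b with | h s' t' => ?_
    intro h
    simp only [φ, Sym2.lift_mk, Prod.mk.injEq, neg_inj] at h
    obtain ⟨h1, h2⟩ := h
    have h3 : (s' - s) * (s' - t) = 0 := by linear_combination h1 - s' * h2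
    rcases mul_eq_zero.1 h3 with e | e
    · rw [sub_eq_zero] at e
      subst e
      rw [add_left_cancel h2]
    · rw [sub_eq_zero] at e
      subst e
      rw [add_comm s s'] at h2
      rw [add_left_cancel h2, Sym2.eq_swap]
  let f : Irr F ⊕ Sym2 F → F × F := Sum.elim Subtype.val φ
  have hf : Function.Injective f := by
    refine Subtype.val_injective.sumElim hφ fun x b e => ?_
    induction b with | h s t => ?_
    simp only [φ, Sym2.lift_mk] at e
    refine x.2 s ?_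
    rw [e]
    ring
  have := Nat.card_le_card_of_injective f hf
  rw [Nat.card_sum, Nat.card_eq_fintype_card (α := Sym2 F), Sym2.card, Nat.card_prod,
    Nat.card_eq_fintype_card (α := F), ← pow_two] at this
  exact this

omit [Fintype F] in
theorem conj_pow_eq (g x : GL (Fin 2) F) (k : ℕ) : (g * x * g⁻¹) ^ k = g * x ^ k * g⁻¹ :=
  ((MulAut.conj g).toMonoidHom.map_pow x k).symm

/-- The diagonal element. -/
noncomputable def diagEl (a : Fˣ) : GL (Fin 2) F :=
  Matrix.GeneralLinearGroup.mkOfDetNeZero !![(a : F), 0; 0, ((a⁻¹ : Fˣ) : F)] (by simp [Matrix.det_fin_two_of])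

omit [Fintype F] in
theorem diagEl_det (a : Fˣ) : (diagEl a : Matrix (Fin 2) (Fin 2) F).det = 1 := by
  show Matrix.det !![(a : F), 0; 0, ((a⁻¹ : Fˣ) : F)] = 1
  simp [Matrix.det_fin_two_of]

omit [Fintype F] in
theorem diagEl_pow (a : Fˣ) (k : ℕ) :
    ((diagEl a ^ k : GL (Fin 2) F) : Matrix (Fin 2) (Fin 2) F) = !![((a : F)) ^ k, 0; 0, (((a⁻¹ : Fˣ) : F)) ^ k] := by
  induction k with
  | zero => simp [Matrix.one_fin_two]
  | succ k ih =>
    rw [pow_succ, Units.val_mul, ih]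
    show _ * !![(a : F), 0; 0, ((a⁻¹ : Fˣ) : F)] = _
    simp [pow_succ, Matrix.mul_fin_two]

theorem diagEl_pow_card (a : Fˣ) : diagEl a ^ (Fintype.card F - 1) = 1 := by
  ext1
  rw [diagEl_pow, FiniteField.pow_card_sub_one_eq_one _ a.ne_zero,
    FiniteField.pow_card_sub_one_eq_one _ (a⁻¹).ne_zero, Units.val_one, Matrix.one_fin_two]

omit [Fintype F] in
theorem entries_of_comm {a : Fˣ} (ha : (a : F) ≠ ((a⁻¹ : Fˣ) : F)) {x : Matrix (Fin 2) (Fin 2) F}
    (h : !![(a : F), 0; 0, ((a⁻¹ : Fˣ) : F)] * x = x * !![(a : F), 0; 0, ((a⁻¹ : Fˣ) : F)]) :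
    x 0 1 = 0 ∧ x 1 0 = 0 := by
  have h01 := congrFun (congrFun h 0) 1
  have h10 := congrFun (congrFun h 1) 0
  simp [Matrix.mul_apply, Fin.sum_univ_two] at h01 h10
  have hs : (a : F) - ((a⁻¹ : Fˣ) : F) ≠ 0 := sub_ne_zero.2 ha
  rw [← Units.val_inv_eq_inv_val] at h01 h10
  exact ⟨(mul_eq_zero.1 (show ((a : F) - ((a⁻¹ : Fˣ) : F)) * x 0 1 = 0 by linear_combination h01)).resolve_left hs,
    (mul_eq_zero.1 (show ((a : F) - ((a⁻¹ : Fˣ) : F)) * x 1 0 = 0 by linear_combination -h10)).resolve_left hs⟩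

/-- A unipotent and a diagonalisable element are not both in a nilpotent group. -/
theorem uni_diag {p : ℕ} [Fact p.Prime] [CharP F p] {L : Subgroup (GL (Fin 2) F)} (hL : Group.IsNilpotent L)
    {a : Fˣ} (ha : (a : F) ≠ ((a⁻¹ : Fˣ) : F)) (g g' : GL (Fin 2) F)
    (hu : uniAt (Equiv.refl (Fin 2)) g ∈ L) (hd : g' * diagEl a * g'⁻¹ ∈ L) : False := by
  have hq : (p ^ 2).Coprime (Fintype.card F - 1) := by
    obtain ⟨k, hk, hcard⟩ := FiniteField.card F p
    refine Nat.Coprime.pow_left _ ((Nat.Prime.coprime_iff_not_dvd hk).2 fun hdvd => ?_)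
    have h1 : p ∣ Fintype.card F := hcard ▸ dvd_pow_self p k.ne_zero
    have h2 := Nat.dvd_sub h1 hdvd
    rw [Nat.sub_sub_self Fintype.card_pos] at h2
    exact hk.one_lt.ne' (Nat.dvd_one.1 h2)
  have h1 := CfsgLib.CN.commute_of_mem_nilpotent hL hu hd
    ((hq.coprime_dvd_left (orderOf_dvd_of_pow_eq_one (uniAt_pow _ _))).coprime_dvd_right
      (orderOf_dvd_of_pow_eq_one (by rw [conj_pow_eq, diagEl_pow_card, mul_one, mul_inv_cancel])))
  set x := g'⁻¹ * uniAt (Equiv.refl (Fin 2)) g * g' with hx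
  have h2 : diagEl a * x = x * diagEl a := by
    rw [hx]
    have := congrArg (fun y => g'⁻¹ * y * g') h1
    calc diagEl a * (g'⁻¹ * uniAt (Equiv.refl (Fin 2)) g * g')
        = g'⁻¹ * (g' * diagEl a * g'⁻¹ * uniAt (Equiv.refl (Fin 2)) g) * g' := by group
      _ = g'⁻¹ * (uniAt (Equiv.refl (Fin 2)) g * (g' * diagEl a * g'⁻¹)) * g' := this.symm
      _ = _ := by group
  obtain ⟨e01, e10⟩ := entries_of_comm ha (congrArg Units.val h2)
  have hxp : x ^ p ^ 2 = 1 := by
    rw [hx, ← inv_inv g', inv_inv g'⁻¹, conj_pow_eq, uniAt_pow, mul_one, mul_inv_cancel]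
  have hdia : ∀ k : ℕ, ((x ^ k : GL (Fin 2) F) : Matrix (Fin 2) (Fin 2) F) =
      !![((x : Matrix (Fin 2) (Fin 2) F) 0 0) ^ k, 0; 0, ((x : Matrix (Fin 2) (Fin 2) F) 1 1) ^ k] := by
    intro k
    induction k with
    | zero => simp [Matrix.one_fin_two]
    | succ k ih =>
      rw [pow_succ, Units.val_mul, ih]
      ext i j
      fin_cases i <;> fin_cases j <;> simp [Matrix.mul_apply, Fin.sum_univ_two, e01, e10, pow_succ]
  have hh := hdia (p ^ 2)
  rw [hxp, Units.val_one] at hh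
  have f : ∀ c : F, 1 = c ^ p ^ 2 → c = 1 := fun c hc => by
    have : iterateFrobenius F p 2 c = iterateFrobenius F p 2 1 := by
      rw [iterateFrobenius_def, map_one, ← hc]
    exact (iterateFrobenius F p 2).injective this
  have e00 := f _ (by simpa using congrFun (congrFun hh 0) 0)
  have e11 := f _ (by simpa using congrFun (congrFun hh 1) 1)
  have hx1 : x = 1 := by
    ext1
    ext i j
    fin_cases i <;> fin_cases j <;> simp [e00, e11, e01, e10]
  have h3 : uni F (Equiv.refl (Fin 2)) = 1 := by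
    rw [hx, uniAt] at hx1
    have h4 : g * uni F (Equiv.refl (Fin 2)) * g⁻¹ = 1 := by
      calc g * uni F (Equiv.refl (Fin 2)) * g⁻¹
          = g' * (g'⁻¹ * (g * uni F (Equiv.refl (Fin 2)) * g⁻¹) * g') * g'⁻¹ := by group
        _ = 1 := by rw [hx1]; group
    simpa [mul_inv_eq_one] using h4
  have h5 := congrArg Units.val h3
  rw [uni_val, Units.val_one] at h5
  have h6 : ((1 : Matrix (Fin 2) (Fin 2) F) + shift F (Equiv.refl (Fin 2))) 0 1 = (1 : Matrix (Fin 2) (Fin 2) F) 0 1 := by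
    rw [h5]
  rw [Matrix.add_apply, shift_apply, if_pos (by simp), Matrix.one_apply_ne (by decide), zero_add] at h6
  exact one_ne_zero h6

/-- Members containing two diagonalisable marked elements share the eigenlines. -/
theorem diag_diag (G : Subgroup (GL (Fin 2) F ⧸ Zg F 2)) (A : Subgroup ↥G) (hA : Group.IsNilpotent A)
    {a : Fˣ} (ha : (a : F) ^ 4 ≠ 1) (g g' : GL (Fin 2) F) {x x' : ↥G}
    (hx : ((g * diagEl a * g⁻¹ : GL (Fin 2) F) : GL (Fin 2) F ⧸ Zg F 2) = x.1)
    (hx' : ((g' * diagEl a * g'⁻¹ : GL (Fin 2) F) : GL (Fin 2) F ⧸ Zg F 2) = x'.1)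
    (hi : x ∈ A) (hj : x' ∈ A) :
    ∀ w : Fin 2 → F, (∃ k, w = (g' : Matrix (Fin 2) (Fin 2) F) *ᵥ Pi.single k 1) →
      ∃ (k : Fin 2) (c : F), w = c • ((g : Matrix (Fin 2) (Fin 2) F) *ᵥ Pi.single k 1) := by
  obtain ⟨L, hL, -, hmem, -, hz⟩ := exists_lift G A hA
  set D := diagEl a with hD
  have hinv : (a : F) * ((a⁻¹ : Fˣ) : F) = 1 := a.mul_inv
  have hne : (a : F) ≠ ((a⁻¹ : Fˣ) : F) := fun e => ha (by
    linear_combination ((a : F) * (a : F) + 1) * ((a : F) * e + hinv))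
  have hD00 : (D : Matrix (Fin 2) (Fin 2) F) = !![(a : F), 0; 0, ((a⁻¹ : Fˣ) : F)] := rfl
  have hDnc : D ∉ Zg F 2 := fun h => by
    obtain ⟨c, hc⟩ := scalar_of_mem_center h
    have e0 : (a : F) = c := by simpa [hD00] using congrFun (congrFun hc 0) 0
    have e1 : ((a⁻¹ : Fˣ) : F) = c := by simpa [hD00] using congrFun (congrFun hc 1) 1
    exact hne (e0.trans e1.symm)
  have hxA : A ≠ ⊥ := fun e => by
    rw [e, Subgroup.mem_bot] at hi
    refine hDnc ?_
    have h1 : (g * D * g⁻¹ : GL (Fin 2) F) ∈ Zg F 2 := (QuotientGroup.eq_one_iff _).1 (by rw [hx, hi]; rfl)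
    rw [show D = g⁻¹ * (g * D * g⁻¹) * g⁻¹⁻¹ by group]
    exact Subgroup.Normal.conj_mem inferInstance _ h1 _
  obtain ⟨z, hzL, hznc, hzc⟩ := hz hxA
  -- coordinates in the frame of `g`
  set z' := g⁻¹ * z * g with hz'
  have hzc' : ∀ y ∈ L, ∃ c : F, (z' : Matrix (Fin 2) (Fin 2) F) * ((g⁻¹ * y * g : GL (Fin 2) F) : Matrix (Fin 2) (Fin 2) F) =
      c • (((g⁻¹ * y * g : GL (Fin 2) F) : Matrix (Fin 2) (Fin 2) F) * (z' : Matrix (Fin 2) (Fin 2) F)) := by
    intro y hy
    have h1 : z' * (g⁻¹ * y * g) * z'⁻¹ * (g⁻¹ * y * g)⁻¹ ∈ Zg F 2 := by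
      rw [show z' * (g⁻¹ * y * g) * z'⁻¹ * (g⁻¹ * y * g)⁻¹ = g⁻¹ * (z * y * z⁻¹ * y⁻¹) * g⁻¹⁻¹ by rw [hz']; group]
      exact Subgroup.Normal.conj_mem inferInstance _ (hzc y hy) _
    obtain ⟨c, hc⟩ := scalar_of_mem_center h1
    refine ⟨c, ?_⟩
    rw [← Units.val_mul, ← Units.val_mul, show z' * (g⁻¹ * y * g) =
      z' * (g⁻¹ * y * g) * z'⁻¹ * (g⁻¹ * y * g)⁻¹ * ((g⁻¹ * y * g) * z') by group, Units.val_mul, hc]
    rw [Matrix.smul_eq_diagonal_mul]
    rfl
  obtain ⟨c, hc⟩ := hzc' _ ((hmem x _ hx).1 hi)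
  rw [show g⁻¹ * (g * D * g⁻¹) * g = D by group, hD00] at hc
  have p00 := congrFun (congrFun hc 0) 0
  have p01 := congrFun (congrFun hc 0) 1
  have p10 := congrFun (congrFun hc 1) 0
  have p11 := congrFun (congrFun hc 1) 1
  simp only [Matrix.smul_apply, Matrix.mul_apply, Fin.sum_univ_two, smul_eq_mul] at p00 p01 p10 p11
  simp at p00 p01 p10 p11
  rw [← Units.val_inv_eq_inv_val] at p01 p10 p11
  set Z := (z' : Matrix (Fin 2) (Fin 2) F) with hZ
  have hdet : Z 0 0 * Z 1 1 - Z 0 1 * Z 1 0 ≠ 0 := by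
    rw [← Matrix.det_fin_two]
    exact (Matrix.isUnit_iff_isUnit_det _).1 z'.isUnit |>.ne_zero
  have hs : (a : F) - ((a⁻¹ : Fˣ) : F) ≠ 0 := sub_ne_zero.2 hne
  have hZ00 : Z 0 0 ≠ 0 := by
    intro e
    rw [e, zero_mul, zero_sub, neg_ne_zero, mul_ne_zero_iff] at hdet
    have c1 : ((a⁻¹ : Fˣ) : F) = c * a := mul_right_cancel₀ hdet.1 (by linear_combination p01)
    have c2 : (a : F) = c * ((a⁻¹ : Fˣ) : F) := mul_right_cancel₀ hdet.2 (by linear_combination p10)
    refine ha ?_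
    linear_combination ((a : F) ^ 2) * ((a : F) * c2 + c * hinv) + ((-(a : F)) * c1 + hinv)
  have hcone : c = 1 := mul_left_cancel₀ (mul_ne_zero a.ne_zero hZ00) (by linear_combination -p00)
  subst hcone
  have hz01 : Z 0 1 = 0 :=
    (mul_eq_zero.1 (show ((a : F) - ((a⁻¹ : Fˣ) : F)) * Z 0 1 = 0 by linear_combination -p01)).resolve_left hs
  have hz10 : Z 1 0 = 0 :=
    (mul_eq_zero.1 (show ((a : F) - ((a⁻¹ : Fˣ) : F)) * Z 1 0 = 0 by linear_combination p10)).resolve_left hs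
  have hz11 : Z 0 0 ≠ Z 1 1 := fun e => hznc (by
    rw [show z = g * z' * g⁻¹ by rw [hz']; group]
    refine Subgroup.Normal.conj_mem inferInstance _ ?_ _
    refine Matrix.GeneralLinearGroup.mem_center_iff_val_mem_range_scalar.2 ⟨Z 0 0, ?_⟩
    ext i j
    fin_cases i <;> fin_cases j <;> simp [← hZ, hz01, hz10, e])
  -- the second element is diagonal in the same frame
  obtain ⟨c', hc'⟩ := hzc' _ ((hmem x' _ hx').1 hj)
  set Y := g⁻¹ * (g' * D * g'⁻¹) * g with hY
  set W := (Y : Matrix (Fin 2) (Fin 2) F) with hW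
  have q00 := congrFun (congrFun hc' 0) 0
  have q01 := congrFun (congrFun hc' 0) 1
  have q10 := congrFun (congrFun hc' 1) 0
  have q11 := congrFun (congrFun hc' 1) 1
  simp only [Matrix.smul_apply, Matrix.mul_apply, Fin.sum_univ_two, smul_eq_mul] at q00 q01 q10 q11
  simp [hz01, hz10] at q00 q01 q10 q11
  have hZ11 : Z 1 1 ≠ 0 := fun e => hdet (by rw [e, hz01]; ring)
  have hdia : W 0 1 = 0 ∧ W 1 0 = 0 := by
    by_cases h : c' = 1
    · subst h
      exact ⟨(mul_eq_zero.1 (show (Z 0 0 - Z 1 1) * W 0 1 = 0 by linear_combination q01)).resolve_left (sub_ne_zero.2 hz11),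
        (mul_eq_zero.1 (show (Z 0 0 - Z 1 1) * W 1 0 = 0 by linear_combination -q10)).resolve_left (sub_ne_zero.2 hz11)⟩
    · exfalso
      have w00 : W 0 0 = 0 := (mul_eq_zero.1 (show (1 - c') * (Z 0 0 * W 0 0) = 0 by linear_combination q00)).elim
        (fun e => absurd (sub_eq_zero.1 e).symm h) fun e => (mul_eq_zero.1 e).resolve_left hZ00
      have w11 : W 1 1 = 0 := (mul_eq_zero.1 (show (1 - c') * (Z 1 1 * W 1 1) = 0 by linear_combination q11)).elim
        (fun e => absurd (sub_eq_zero.1 e).symm h) fun e => (mul_eq_zero.1 e).resolve_left hZ11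
      have hsq : Y * Y ∈ Zg F 2 := by
        refine Matrix.GeneralLinearGroup.mem_center_iff_val_mem_range_scalar.2 ⟨W 0 1 * W 1 0, ?_⟩
        ext i j
        fin_cases i <;> fin_cases j <;>
          simp [Units.val_mul, ← hW, Matrix.mul_apply, Fin.sum_univ_two, w00, w11, mul_comm]
      have h2 : D * D ∈ Zg F 2 := by
        rw [show D * D = (g'⁻¹ * g) * (Y * Y) * (g'⁻¹ * g)⁻¹ by rw [hY]; group]
        exact Subgroup.Normal.conj_mem inferInstance _ hsq _
      obtain ⟨d, hd⟩ := scalar_of_mem_center h2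
      have e0 : (a : F) * a = d := by simpa [Units.val_mul, hD00] using congrFun (congrFun hd 0) 0
      have e1 : ((a⁻¹ : Fˣ) : F) * ((a⁻¹ : Fˣ) : F) = d := by
        simpa [Units.val_mul, hD00] using congrFun (congrFun hd 1) 1
      exact ha (by linear_combination ((a : F) * a) * e0 - ((a : F) * a) * e1 + ((a : F) * ((a⁻¹ : Fˣ) : F) + 1) * hinv)
  -- so the frame of `g'` is the frame of `g` up to order
  set T := ((g⁻¹ * g' : GL (Fin 2) F) : Matrix (Fin 2) (Fin 2) F) with hT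
  have hWT : W * T = T * !![(a : F), 0; 0, ((a⁻¹ : Fˣ) : F)] := by
    rw [hW, hT, ← hD00, ← Units.val_mul, ← Units.val_mul, hY]
    congr 1
    group
  have hcol : ∀ k : Fin 2, T 0 k = 0 ∨ T 1 k = 0 := by
    intro k
    have r0 := congrFun (congrFun hWT 0) k
    have r1 := congrFun (congrFun hWT 1) k
    by_contra hc
    push Not at hc
    obtain ⟨t0, t1⟩ := hc
    have hW0011 : W 0 0 = W 1 1 := by
      fin_cases k <;> simp [Matrix.mul_apply, Fin.sum_univ_two, hdia.1, hdia.2] at r0 r1 t0 t1 <;>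
        (try rw [← Units.val_inv_eq_inv_val] at r0 r1) <;>
        exact (mul_right_cancel₀ t0 (r0.trans (mul_comm _ _))).trans (mul_right_cancel₀ t1 (r1.trans (mul_comm _ _))).symm
    refine hDnc ?_
    rw [show D = (g'⁻¹ * g) * Y * (g'⁻¹ * g)⁻¹ by rw [hY]; group]
    refine Subgroup.Normal.conj_mem inferInstance _ (Matrix.GeneralLinearGroup.mem_center_iff_val_mem_range_scalar.2 ⟨W 0 0, ?_⟩) _
    ext i j
    fin_cases i <;> fin_cases j <;> simp [← hW, hdia.1, hdia.2, hW0011]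
  rintro w ⟨k, rfl⟩
  have hgT : (g' : Matrix (Fin 2) (Fin 2) F) = (g : Matrix (Fin 2) (Fin 2) F) * T := by
    rw [hT, ← Units.val_mul, mul_inv_cancel_left]
  rcases hcol k with e | e
  · refine ⟨1, T 1 k, ?_⟩
    rw [hgT, ← Matrix.mulVec_mulVec, ← Matrix.mulVec_smul]
    congr 1
    rw [Matrix.mulVec_single_one]
    funext i
    fin_cases i <;> simp [e]
  · refine ⟨0, T 0 k, ?_⟩
    rw [hgT, ← Matrix.mulVec_mulVec, ← Matrix.mulVec_smul]
    congr 1
    rw [Matrix.mulVec_single_one]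
    funext i
    fin_cases i <;> simp [e]

end CfsgLib.Core.PGLCover
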