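/-
Projective linear groups of degree two: the counting.
-/
import Cfsg.Agent.Lib.CorePGLCover3

set_option autoImplicit false
set_option maxHeartbeats 1000000

namespace CfsgLib.Core.PGLCover

open Matrix

universe u

variable {F : Type u} [Field F] [Fintype F]

/-- The subgroups used in degree two. -/
noncomputable def subs (G : Subgroup (GL (Fin 2) F ⧸ Zg F 2)) :
    Projectivization F (Fin 2 → F) ⊕ Irr F → Subgroup ↥G :=
  Sum.elim (fun w => proj G (stabLine w.rep)) (fun x => proj G (field x))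

theorem subs_ne_top {G : Subgroup (GL (Fin 2) F ⧸ Zg F 2)} (hG : HasSL G)
    (k : Projectivization F (Fin 2 → F) ⊕ Irr F) : subs G k ≠ ⊤ := by
  rcases k with w | x
  · exact proj_stabLine_ne_top le_rfl hG w.rep_nonzero
  · exact proj_field_ne_top hG x

theorem subs_cover (G : Subgroup (GL (Fin 2) F ⧸ Zg F 2)) (a : ↥G) : ∃ k, a ∈ subs G k := by
  obtain ⟨y, hy⟩ := QuotientGroup.mk'_surjective (Zg F 2) a.1
  rcases cover_two y with ⟨w, hw⟩ | ⟨x, hx⟩
  · exact ⟨Sum.inl w, (mem_proj (center_le_stabLine w.rep_nonzero) hy).2 hw⟩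
  · exact ⟨Sum.inr x, (mem_proj (center_le_field x) hy).2 hx⟩

omit [Fintype F] in
theorem diagAt_det (a : Fˣ) (g : GL (Fin 2) F) :
    ((g * diagEl a * g⁻¹ : GL (Fin 2) F) : Matrix (Fin 2) (Fin 2) F).det = 1 := by
  have h : (g : Matrix (Fin 2) (Fin 2) F).det * ((g⁻¹ : GL (Fin 2) F) : Matrix (Fin 2) (Fin 2) F).det = 1 := by
    rw [← Matrix.det_mul, Units.mul_inv, Matrix.det_one]
  rw [Units.val_mul, Units.val_mul, Matrix.det_mul, Matrix.det_mul, diagEl_det, mul_one, h]

/-- The frame matrix of an unordered pair. -/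
noncomputable def frame (x y : F) : GL (Fin 2) F := by
  classical
  exact if h : x = y then
      Matrix.GeneralLinearGroup.mkOfDetNeZero !![x, 1; 1, 0] (by simp [Matrix.det_fin_two_of])
    else Matrix.GeneralLinearGroup.mkOfDetNeZero !![x, y; 1, 1] (by simpa [Matrix.det_fin_two_of, sub_eq_zero] using h)

omit [Fintype F] in
theorem frame_eq {x y : F} (h : x = y) :
    (frame x y : Matrix (Fin 2) (Fin 2) F) = !![x, 1; 1, 0] := by
  rw [frame, dif_pos h]; rfl

omit [Fintype F] in
theorem frame_ne {x y : F} (h : x ≠ y) :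
    (frame x y : Matrix (Fin 2) (Fin 2) F) = !![x, y; 1, 1] := by
  rw [frame, dif_neg h]; rfl

omit [Fintype F] in
theorem pair_eq {x y x' y' : F}
    (h : ∀ w : Fin 2 → F, (∃ k, w = (frame x' y' : Matrix (Fin 2) (Fin 2) F) *ᵥ Pi.single k 1) →
      ∃ (k : Fin 2) (c : F), w = c • ((frame x y : Matrix (Fin 2) (Fin 2) F) *ᵥ Pi.single k 1)) :
    s(x', y') = s(x, y) := by
  obtain ⟨k, c, e⟩ := h _ ⟨0, rfl⟩
  obtain ⟨k', c', e'⟩ := h _ ⟨1, rfl⟩
  have e0 := congrFun e 0
  have e1 := congrFun e 1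
  have f0 := congrFun e' 0
  have f1 := congrFun e' 1
  by_cases h' : x' = y'
  · subst h'
    rw [frame_eq rfl] at e0 e1 f0 f1
    by_cases hxy : x = y
    · subst hxy
      rw [frame_eq rfl] at e0 e1 f0 f1
      fin_cases k <;> fin_cases k' <;> simp [Matrix.mulVec_single_one] at e0 e1 f0 f1 <;>
        (simp only [Sym2.eq_iff]; grind)
    · rw [frame_ne hxy] at e0 e1 f0 f1
      fin_cases k <;> fin_cases k' <;> simp [Matrix.mulVec_single_one] at e0 e1 f0 f1 <;>
        (simp only [Sym2.eq_iff]; grind)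
  · rw [frame_ne h'] at e0 e1 f0 f1
    by_cases hxy : x = y
    · subst hxy
      rw [frame_eq rfl] at e0 e1 f0 f1
      fin_cases k <;> fin_cases k' <;> simp [Matrix.mulVec_single_one] at e0 e1 f0 f1 <;>
        (simp only [Sym2.eq_iff]; grind)
    · rw [frame_ne hxy] at e0 e1 f0 f1
      fin_cases k <;> fin_cases k' <;> simp [Matrix.mulVec_single_one] at e0 e1 f0 f1 <;>
        (simp only [Sym2.eq_iff]; grind)

theorem uni_sep {p : ℕ} [Fact p.Prime] [CharP F p] {n : ℕ} {L : Subgroup (GL (Fin n) F)}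
    (hL : Group.IsNilpotent L) {i₀ : Fin n} (h0 : i₀.val = 0)
    {g : Projectivization F (Fin n → F) → GL (Fin n) F}
    (hg : ∀ w, (g w : Matrix (Fin n) (Fin n) F) *ᵥ Pi.single i₀ 1 = w.rep) {w w' : Projectivization F (Fin n → F)}
    (hi : uniAt (Equiv.refl _) (g w) ∈ L) (hj : uniAt (Equiv.refl _) (g w') ∈ L) : w = w' := by
  obtain ⟨c, hc, hww⟩ := (fixed_line (p := p) (σ := Equiv.refl _) hL h0 w.rep_nonzero (hg w) hi).2
    (Equiv.refl _) h0 _ _ (hg w') hj
  rw [← w.mk_rep, ← w'.mk_rep, eq_comm, Projectivization.mk_eq_mk_iff']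
  exact ⟨c, hww.symm⟩

/-- Degree two, generic fields. -/
theorem no_cover_two (h4 : 4 ≤ Fintype.card F) (h5 : Fintype.card F ≠ 5)
    {G : Subgroup (GL (Fin 2) F ⧸ Zg F 2)} (hG : HasSL G) :
    ¬ ∃ 𝓐 : Finset (Subgroup ↥G), ((∀ A ∈ 𝓐, A ≠ ⊤) ∧ (∀ g : ↥G, ∃ A ∈ 𝓐, g ∈ A)) ∧
      (∀ 𝓑 : Finset (Subgroup ↥G), (∀ A ∈ 𝓑, A ≠ ⊤) ∧ (∀ g : ↥G, ∃ A ∈ 𝓑, g ∈ A) → 𝓐.card ≤ 𝓑.card) ∧
      (∀ A ∈ 𝓐, Group.IsNilpotent ↥A) := by
  classical
  obtain ⟨p, hp⟩ := CharP.exists F
  haveI : Fact p.Prime := ⟨CharP.char_is_prime F p⟩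
  obtain ⟨a, ha⟩ := IsCyclic.exists_generator (α := Fˣ)
  have ha4 : (a : F) ^ 4 ≠ 1 := by
    intro e
    have h1 : orderOf a ∣ 4 := orderOf_dvd_of_pow_eq_one (Units.ext (by rw [Units.val_pow_eq_pow_val, e, Units.val_one]))
    rw [orderOf_eq_card_of_forall_mem_zpowers ha, Nat.card_eq_fintype_card, Fintype.card_units] at h1
    have h2 := Nat.le_of_dvd (by norm_num) h1
    interval_cases h : Fintype.card F - 1 <;> omega
  have hne : (a : F) ≠ ((a⁻¹ : Fˣ) : F) := fun e => ha4 (by
    linear_combination ((a : F) * (a : F) + 1) * ((a : F) * e + a.mul_inv))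
  choose g hg using fun w : Projectivization F (Fin 2 → F) => exists_basis_change w.rep_nonzero 0
  let fr : Sym2 F → GL (Fin 2) F := fun s => frame s.out.1 s.out.2
  let e : Projectivization F (Fin 2 → F) ⊕ Sym2 F → ↥G := Sum.elim
    (fun w => ⟨_, hG (uniAt (Equiv.refl _) (g w)) (uniAt_det _ _)⟩)
    (fun s => ⟨_, hG (fr s * diagEl a * (fr s)⁻¹) (diagAt_det _ _)⟩)
  refine no_cover_replace (subs G) (subs_ne_top hG) e ?_ (fun A _ _ _ x _ => subs_cover G x) ?_
  · rw [Nat.card_sum, Nat.card_sum, Nat.card_eq_fintype_card (α := Sym2 F), Sym2.card]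
    have h1 := card_irr_add (F := F)
    have h2 : Fintype.card F ^ 2 < 2 * (Fintype.card F + 1).choose 2 := by
      rw [Nat.choose_two_right, Nat.add_sub_cancel, Nat.mul_div_cancel']
      · rw [pow_two]
        exact Nat.mul_lt_mul_of_pos_right (Nat.lt_succ_self _) (by omega)
      · rw [mul_comm]
        exact (Nat.even_mul_succ_self _).two_dvd
    omega
  · rintro A hA (w | s) (w' | s') hi hj
    · obtain ⟨L, hL, -, hmem, -, -⟩ := exists_lift G A hA
      exact congrArg Sum.inl (uni_sep (p := p) hL (i₀ := 0) rfl hg ((hmem _ _ rfl).1 hi) ((hmem _ _ rfl).1 hj))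
    · obtain ⟨L, hL, -, hmem, -, -⟩ := exists_lift G A hA
      exact (uni_diag (p := p) hL hne _ _ ((hmem _ _ rfl).1 hi) ((hmem _ _ rfl).1 hj)).elim
    · obtain ⟨L, hL, -, hmem, -, -⟩ := exists_lift G A hA
      exact (uni_diag (p := p) hL hne _ _ ((hmem _ _ rfl).1 hj) ((hmem _ _ rfl).1 hi)).elim
    · refine congrArg Sum.inr ?_
      have h := pair_eq (diag_diag G A hA ha4 (fr s) (fr s') rfl rfl hi hj)
      exact (((Quot.out_eq s').symm.trans h).trans (Quot.out_eq s)).symm

/-- An element of order three without eigenvalues. -/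
noncomputable def triEl (z x : F) (hz : z ≠ 0) : GL (Fin 2) F :=
  Matrix.GeneralLinearGroup.mkOfDetNeZero !![x, -(x * x + x + 1) / z; z, -1 - x] (by
    rw [Matrix.det_fin_two_of, div_mul_cancel₀ _ hz]
    ring_nf
    exact one_ne_zero)

omit [Fintype F] in
theorem triEl_det {z x : F} (hz : z ≠ 0) : (triEl z x hz : Matrix (Fin 2) (Fin 2) F).det = 1 := by
  show Matrix.det !![x, -(x * x + x + 1) / z; z, -1 - x] = 1
  rw [Matrix.det_fin_two_of, div_mul_cancel₀ _ hz]
  ring

omit [Fintype F] in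
theorem triEl_sq {z x : F} (hz : z ≠ 0) :
    (triEl z x hz : Matrix (Fin 2) (Fin 2) F) * (triEl z x hz : Matrix (Fin 2) (Fin 2) F) =
      -1 - (triEl z x hz : Matrix (Fin 2) (Fin 2) F) := by
  show !![x, -(x * x + x + 1) / z; z, -1 - x] * !![x, -(x * x + x + 1) / z; z, -1 - x] =
    -1 - !![x, -(x * x + x + 1) / z; z, -1 - x]
  ext i j
  fin_cases i <;> fin_cases j <;> simp [Matrix.mul_apply, Fin.sum_univ_two] <;> field_simp <;> ring

omit [Fintype F] in
theorem triEl_cube {z x : F} (hz : z ≠ 0) : triEl z x hz ^ 3 = 1 := by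
  ext1
  rw [pow_succ, pow_two, Units.val_mul, Units.val_mul, triEl_sq, sub_mul, triEl_sq, neg_one_mul, Units.val_one]
  abel

omit [Fintype F] in
theorem triEl_apply {z x : F} (hz : z ≠ 0) :
    (triEl z x hz : Matrix (Fin 2) (Fin 2) F) 1 0 = z ∧ (triEl z x hz : Matrix (Fin 2) (Fin 2) F) 0 0 = x :=
  ⟨rfl, rfl⟩

/-- The field with five elements. -/
theorem no_cover_five (h5 : Fintype.card F = 5)
    {G : Subgroup (GL (Fin 2) F ⧸ Zg F 2)} (hG : HasSL G) :
    ¬ ∃ 𝓐 : Finset (Subgroup ↥G), ((∀ A ∈ 𝓐, A ≠ ⊤) ∧ (∀ g : ↥G, ∃ A ∈ 𝓐, g ∈ A)) ∧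
      (∀ 𝓑 : Finset (Subgroup ↥G), (∀ A ∈ 𝓑, A ≠ ⊤) ∧ (∀ g : ↥G, ∃ A ∈ 𝓑, g ∈ A) → 𝓐.card ≤ 𝓑.card) ∧
      (∀ A ∈ 𝓐, Group.IsNilpotent ↥A) := by
  classical
  haveI : Fact (Nat.Prime 5) := ⟨by norm_num⟩
  haveI : Fact (Nat.Prime 3) := ⟨by norm_num⟩
  have five : (5 : F) = 0 := by
    have := Nat.cast_card_eq_zero F
    rw [h5] at this
    exact_mod_cast this
  haveI : CharP F 5 := by
    obtain ⟨q, hq⟩ := CharP.exists F
    haveI := hq
    have h1 : q ∣ 5 := (CharP.cast_eq_zero_iff F q 5).1 (by exact_mod_cast five)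
    rcases (Nat.dvd_prime (by norm_num)).1 h1 with e | e
    · exact absurd e (CharP.char_is_prime F q).ne_one
    · exact e ▸ hq
  have two : (2 : F) ≠ 0 := fun e => one_ne_zero (show (1 : F) = 0 by linear_combination five - 2 * e)
  have three : (3 : F) ≠ 0 := fun e => one_ne_zero (show (1 : F) = 0 by linear_combination 2 * e - five)
  have four : (4 : F) ≠ 0 := fun e => one_ne_zero (show (1 : F) = 0 by linear_combination five - e)
  have noroot : ∀ c : F, c * c + c + 1 ≠ 0 := fun c hc => by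
    have hc5 : c ^ 5 = c := h5 ▸ FiniteField.pow_card c
    have h1 : c * c - c = 0 := by linear_combination hc5 - (c ^ 3 - c ^ 2) * hc
    rcases mul_eq_zero.1 (show c * (c - 1) = 0 by linear_combination h1) with e | e
    · rw [e] at hc
      simp at hc
    · exact three (by linear_combination hc - (c + 2) * e)
  set a : Fˣ := Units.mk0 2 two with ha
  have hne : (a : F) ≠ ((a⁻¹ : Fˣ) : F) := fun e => three (by
    have h := a.mul_inv
    rw [← e] at h
    simp [ha] at h
    linear_combination h)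
  choose g hg using fun w : Projectivization F (Fin 2 → F) => exists_basis_change w.rep_nonzero 0
  let zz : Bool → F := fun b => bif b then 2 else 1
  have hzz : ∀ b, zz b ≠ 0 := fun b => by cases b <;> simp [zz, two]
  let T : Bool × F → GL (Fin 2) F := fun i => triEl (zz i.1) i.2 (hzz i.1)
  let e : Projectivization F (Fin 2 → F) ⊕ ((Bool × F) ⊕ Unit) → ↥G := Sum.elim
    (fun w => ⟨_, hG (uniAt (Equiv.refl _) (g w)) (uniAt_det _ _)⟩)
    (Sum.elim (fun i => ⟨_, hG (T i) (triEl_det _)⟩) (fun _ => ⟨_, hG (diagEl a) (diagEl_det a)⟩))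
  have hGL : Nat.card (GL (Fin 2) F) = 480 := by
    rw [Matrix.card_GL_field, h5]
    simp [Fin.prod_univ_two]
  have hTd : ∀ i, orderOf (T i) ∣ 3 := fun i => orderOf_dvd_of_pow_eq_one (triEl_cube _)
  -- two elements of order three in one member
  have htt : ∀ L : Subgroup (GL (Fin 2) F), Group.IsNilpotent L → ∀ i j, T i ∈ L → T j ∈ L → i = j := by
    intro L hL i j hi hj
    obtain ⟨P, -, hP, hPmem⟩ := pElements (p := 3) hL
    have hPi := hPmem _ hi ⟨1, by simpa using triEl_cube (hzz i.1)⟩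
    have hPj := hPmem _ hj ⟨1, by simpa using triEl_cube (hzz j.1)⟩
    have hP3 : Nat.card P ∣ 3 := by
      obtain ⟨k, hk⟩ := IsPGroup.iff_card.1 hP
      have h1 : 3 ^ k ∣ 480 := hk ▸ hGL ▸ Subgroup.card_subgroup_dvd_card P
      rw [hk]
      rcases Nat.lt_or_ge k 2 with h | h
      · interval_cases k <;> norm_num
      · exact absurd ((pow_dvd_pow 3 h).trans h1) (by norm_num)
    have hTne : ∀ i, T i ≠ 1 := fun i e => hzz i.1 (by
      have h : ((T i : GL (Fin 2) F) : Matrix (Fin 2) (Fin 2) F) 1 0 = ((1 : GL (Fin 2) F) : Matrix (Fin 2) (Fin 2) F) 1 0 := by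
        rw [e]
      rw [(triEl_apply _).1, Units.val_one, Matrix.one_apply_ne (by decide)] at h
      exact h)
    have ho : orderOf (T i) = 3 :=
      ((Nat.dvd_prime (by norm_num)).1 (hTd i)).resolve_left (by rw [orderOf_eq_one_iff]; exact hTne i)
    have heq : Subgroup.zpowers (T i) = P := Subgroup.eq_of_le_of_card_ge (Subgroup.zpowers_le.2 hPi)
      (by rw [Nat.card_zpowers, ho]; exact Nat.le_of_dvd (by norm_num) hP3)
    rw [← heq, mem_zpowers_iff_mem_range_orderOf, ho] at hPj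
    obtain ⟨k, hk, hk'⟩ := Finset.mem_image.1 hPj
    rw [Finset.mem_range] at hk
    interval_cases k
    · exact absurd (by simpa using hk'.symm) (hTne j)
    · rw [pow_one] at hk'
      have h10 : ((T i : GL (Fin 2) F) : Matrix (Fin 2) (Fin 2) F) 1 0 = ((T j : GL (Fin 2) F) : Matrix (Fin 2) (Fin 2) F) 1 0 := by
        rw [hk']
      have h00 : ((T i : GL (Fin 2) F) : Matrix (Fin 2) (Fin 2) F) 0 0 = ((T j : GL (Fin 2) F) : Matrix (Fin 2) (Fin 2) F) 0 0 := by
        rw [hk']
      rw [(triEl_apply _).1, (triEl_apply _).1] at h10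
      rw [(triEl_apply _).2, (triEl_apply _).2] at h00
      refine Prod.ext ?_ h00
      obtain ⟨b, x⟩ := i
      obtain ⟨b', x'⟩ := j
      cases b <;> cases b' <;> simp [zz] at h10 ⊢
      · exact one_ne_zero (show (1 : F) = 0 by linear_combination -h10)
      · exact one_ne_zero (show (1 : F) = 0 by linear_combination h10)
    · exfalso
      rw [pow_two] at hk'
      have h := congrArg Units.val hk'
      rw [Units.val_mul, triEl_sq] at h
      have h10 := congrFun (congrFun h 1) 0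
      simp [T, triEl] at h10
      obtain ⟨b, x⟩ := i
      obtain ⟨b', x'⟩ := j
      cases b <;> cases b' <;> simp [zz] at h10
      · exact two (by linear_combination -h10)
      · exact three (by linear_combination -h10)
      · exact three (by linear_combination -h10)
      · exact four (by linear_combination -h10)
  -- an element of order three with a unipotent
  have htu : ∀ L : Subgroup (GL (Fin 2) F), Group.IsNilpotent L → ∀ i w, T i ∈ L →
      uniAt (Equiv.refl _) (g w) ∈ L → False := by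
    intro L hL i w hi hu
    have h1 := CfsgLib.CN.commute_of_mem_nilpotent hL hi hu
      ((((by norm_num : Nat.Coprime 3 (5 ^ 2))).coprime_dvd_left (hTd i)).coprime_dvd_right
        (orderOf_dvd_of_pow_eq_one (uniAt_pow _ _)))
    obtain ⟨X, hX⟩ : ∃ X, X = (g w)⁻¹ * T i * g w := ⟨_, rfl⟩
    have h2 : X * uni F (Equiv.refl _) = uni F (Equiv.refl _) * X := by
      calc X * uni F (Equiv.refl _)
          = (g w)⁻¹ * (T i * uniAt (Equiv.refl _) (g w)) * g w := by rw [uniAt, hX]; group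
        _ = (g w)⁻¹ * (uniAt (Equiv.refl _) (g w) * T i) * g w := by rw [h1]
        _ = _ := by rw [uniAt, hX]; group
    have h3 := congrArg Units.val h2
    rw [Units.val_mul, Units.val_mul, uni_val] at h3
    have e00 := congrFun (congrFun h3 0) 0
    have e01 := congrFun (congrFun h3 0) 1
    simp [Matrix.mul_apply, Fin.sum_univ_two, shift_apply] at e00 e01
    have hT2 : T i * T i = (T i)⁻¹ := by
      rw [eq_inv_iff_mul_eq_one, ← pow_two, ← pow_succ]; exact triEl_cube _
    have hXX : (X : Matrix (Fin 2) (Fin 2) F) * (X : Matrix (Fin 2) (Fin 2) F) = -1 - (X : Matrix (Fin 2) (Fin 2) F) := by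
      rw [← Units.val_mul, show X * X = (g w)⁻¹ * (T i * T i) * g w by rw [hX]; group, hX]
      simp only [Units.val_mul]
      rw [triEl_sq, mul_sub, mul_neg, mul_one, sub_mul, neg_mul, ← Units.val_mul (g w)⁻¹ (g w), inv_mul_cancel,
        Units.val_one]
    have h4 := congrFun (congrFun hXX 0) 0
    simp [Matrix.mul_apply, Fin.sum_univ_two] at h4
    have e10 : (X : Matrix (Fin 2) (Fin 2) F) 1 0 = 0 := by
      first | exact e00 | exact e00.symm | linear_combination e00 | linear_combination -e00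
    rw [e10, mul_zero, add_zero] at h4
    exact noroot ((X : Matrix (Fin 2) (Fin 2) F) 0 0) (by linear_combination h4)
  -- an element of order three with the diagonal element
  have htd : ∀ L : Subgroup (GL (Fin 2) F), Group.IsNilpotent L → ∀ i, T i ∈ L → diagEl a ∈ L → False := by
    intro L hL i hi hd
    have h1 := CfsgLib.CN.commute_of_mem_nilpotent hL hi hd
      ((((by norm_num : Nat.Coprime 3 4)).coprime_dvd_left (hTd i)).coprime_dvd_right
        (orderOf_dvd_of_pow_eq_one (show diagEl a ^ 4 = 1 by have := diagEl_pow_card a; rwa [h5] at this)))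
    have h2 := (entries_of_comm hne (congrArg Units.val h1.symm)).2
    exact hzz i.1 (by simpa [T, triEl] using h2)
  have hdu : ∀ L : Subgroup (GL (Fin 2) F), Group.IsNilpotent L → ∀ w,
      uniAt (Equiv.refl _) (g w) ∈ L → diagEl a ∈ L → False := fun L hL w hu hd =>
    uni_diag (p := 5) hL hne (g w) 1 hu (by rw [one_mul, inv_one, mul_one]; exact hd)
  refine no_cover_replace (subs G) (subs_ne_top hG) e ?_ (fun A _ _ _ x _ => subs_cover G x) ?_
  · rw [Nat.card_sum, Nat.card_sum, Nat.card_sum, Nat.card_prod, Nat.card_eq_fintype_card (α := Bool),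
      Nat.card_eq_fintype_card (α := F), Nat.card_unique (α := Unit), Fintype.card_bool, h5]
    have h1 := card_irr_add (F := F)
    rw [h5] at h1
    norm_num [Nat.choose_two_right] at h1
    simp only [Nat.card_eq_fintype_card] at h1 ⊢
    omega
  · rintro A hA i j hi hj
    obtain ⟨L, hL, -, hmem, -, -⟩ := exists_lift G A hA
    rcases i with w | i | i <;> rcases j with w' | j | j <;>
      replace hi := (hmem _ _ rfl).1 hi <;> replace hj := (hmem _ _ rfl).1 hj
    · exact congrArg Sum.inl (uni_sep (p := 5) hL (i₀ := 0) rfl hg hi hj)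
    · exact (htu L hL j w hj hi).elim
    · exact (hdu L hL w hi hj).elim
    · exact (htu L hL i w' hi hj).elim
    · exact congrArg (fun t => Sum.inr (Sum.inl t)) (htt L hL i j hi hj)
    · exact (htd L hL i hi hj).elim
    · exact (hdu L hL w' hj hi).elim
    · exact (htd L hL j hj hi).elim
    · rfl

end CfsgLib.Core.PGLCover
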