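import Cfsg.Agent.Lib.CoreSZ
import Cfsg.Agent.Lib.CoreOmega
import Cfsg.Prelude.Def_Local

/-!
# Basic facts about p-soluble groups
-/

set_option autoImplicit false

open Subgroup
open scoped Pointwise

namespace CfsgLib.Core

universe u v

variable {G : Type u} [Group G]

/-- Quotients of `p`-soluble groups are `p`-soluble. -/
theorem isPSolvable_of_surjective [Finite G] {p : ℕ} [hp : Fact p.Prime] {G' : Type v} [Group G']
    (f : G →* G') (hf : Function.Surjective f) (h : Cfsg.IsPSolvable p G) : Cfsg.IsPSolvable p G' := by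
  obtain ⟨n, H, h0, hl, hm, hn, hs⟩ := h
  refine ⟨n, fun i => (H i).map f, by simp only [h0, Subgroup.map_bot],
    by simp only [hl]; exact Subgroup.map_top_of_surjective f hf, fun i j hij => Subgroup.map_mono (hm hij),
    fun i => (hn i).map f hf, fun i => ?_⟩
  set A := H i.castSucc
  set B := H i.succ
  have hAB : A ≤ B := hm (Fin.castSucc_le_succ i)
  have hdvd : (A.map f).relIndex (B.map f) ∣ A.relIndex B := by
    let g : B →* B.map f := f.subgroupMap B
    have hg : Function.Surjective g := f.subgroupMap_surjective B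
    have h1 := Subgroup.index_map_dvd (A.subgroupOf B) hg
    have h2 : (A.subgroupOf B).map g = (A.map f).subgroupOf (B.map f) := by
      ext ⟨y, hy⟩
      simp only [Subgroup.mem_map, Subgroup.mem_subgroupOf, Subtype.exists]
      constructor
      · rintro ⟨a, haB, ha, he⟩
        exact ⟨a, ha, congrArg Subtype.val he⟩
      · rintro ⟨a, ha, he⟩
        exact ⟨a, hAB ha, ha, Subtype.ext he⟩
    rw [h2] at h1
    exact h1
  rcases hs i with ⟨m, hm'⟩ | hc
  · obtain ⟨k, -, hk⟩ := (Nat.dvd_prime_pow hp.out).1 (hm' ▸ hdvd)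
    exact Or.inl ⟨k, hk⟩
  · exact Or.inr (Nat.Coprime.coprime_dvd_left hdvd hc)

/-- A non-trivial normal subgroup of a `p`-soluble group contains a non-trivial normal subgroup
which is a `p`-group or has order prime to `p`. -/
theorem exists_normal_le_of_isPSolvable [Finite G] {p : ℕ} [hp : Fact p.Prime]
    (h : Cfsg.IsPSolvable p G) {X : Subgroup G} [X.Normal] (hX : X ≠ ⊥) :
    ∃ N : Subgroup G, N.Normal ∧ N ≤ X ∧ N ≠ ⊥ ∧ (IsPGroup p N ∨ (Nat.card N).Coprime p) := by
  obtain ⟨n, H, h0, hl, hm, hn, hs⟩ := h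
  have key : ∀ i, H i ⊓ X ≠ ⊥ → ∃ N : Subgroup G, N.Normal ∧ N ≤ X ∧ N ≠ ⊥ ∧
      (IsPGroup p N ∨ (Nat.card N).Coprime p) := by
    intro i
    induction i using Fin.induction with
    | zero => exact fun h' => absurd (by rw [h0, bot_inf_eq]) h'
    | succ i ih =>
      intro hi
      by_cases hc : H i.castSucc ⊓ X = ⊥
      · haveI := hn i.castSucc
        haveI := hn i.succ
        set C := H i.succ ⊓ X with hC
        have hle : H i.castSucc ≤ H i.succ := hm (Fin.castSucc_le_succ i)
        have hd : C ⊓ H i.castSucc = ⊥ := le_bot_iff.1 (hc ▸ le_inf inf_le_right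
          ((inf_le_left.trans inf_le_right) : C ⊓ H i.castSucc ≤ X))
        have hdvd : Nat.card C ∣ (H i.castSucc).relIndex (H i.succ) := by
          refine Nat.dvd_of_mul_dvd_mul_left (Nat.card_pos (α := H i.castSucc)) ?_
          rw [card_mul_relIndex hle, mul_comm, ← card_sup_of_disjoint (le_normalizer_normal C) hd]
          exact Subgroup.card_dvd_of_le (sup_le inf_le_left hle)
        refine ⟨C, inferInstance, inf_le_right, hi, ?_⟩
        rcases hs i with ⟨m, hm'⟩ | hcp
        · obtain ⟨k, -, hk⟩ := (Nat.dvd_prime_pow hp.out).1 (hm' ▸ hdvd)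
          exact Or.inl (IsPGroup.of_card hk)
        · exact Or.inr (Nat.Coprime.coprime_dvd_left hdvd hcp)
      · exact ih hc
  refine key (Fin.last n) ?_
  rw [hl, top_inf_eq]; exact hX

/-- In a `p`-soluble group without normal `p'`-subgroups the `p`-core contains its centraliser. -/
theorem centralizer_pCore_le_of_isPSolvable [Finite G] {p : ℕ} [hp : Fact p.Prime]
    (h : Cfsg.IsPSolvable p G) (hcore : Cfsg.pPrimeCore p G = ⊥) :
    centralizer (Cfsg.pCore p G : Set G) ≤ Cfsg.pCore p G := by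
  haveI := normal_pCore (G := G) p
  set D := Cfsg.pCore p G with hD
  set C := centralizer (D : Set G) with hC
  set f := QuotientGroup.mk' D with hf
  by_contra hle
  haveI : (C.map f).Normal := Subgroup.Normal.map inferInstance f (QuotientGroup.mk'_surjective D)
  have hne : C.map f ≠ ⊥ := fun e => hle fun x hx =>
    (QuotientGroup.eq_one_iff x).1 (Subgroup.mem_bot.1 (e ▸ ⟨x, hx, rfl⟩ : f x ∈ (⊥ : Subgroup _)))
  obtain ⟨N, hNn, hNC, hN0, hN⟩ := exists_normal_le_of_isPSolvable
    (isPSolvable_of_surjective f (QuotientGroup.mk'_surjective D) h) (X := C.map f) hne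
  haveI := hNn
  rcases hN with hN | hN
  · exact hN0 (le_bot_iff.1 ((le_pCore hNn hN).trans (pCore_quotient_pCore p).le))
  set T := N.comap f ⊓ C with hT
  haveI : T.Normal := inferInstance
  have hmap : T.map f = N := by
    refine le_antisymm ((Subgroup.map_mono inf_le_left).trans (Subgroup.map_comap_le f N)) fun y hy => ?_
    obtain ⟨x, hx, rfl⟩ := hNC hy
    exact ⟨x, ⟨hy, hx⟩, rfl⟩
  have hZp : IsPGroup p ↥(D ⊓ T) := (isPGroup_pCore p).to_le inf_le_left
  have hrel : (D ⊓ T).relIndex T = Nat.card N := by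
    rw [Subgroup.inf_relIndex_right, ← hmap, ← Subgroup.relIndex_ker, QuotientGroup.ker_mk']
  obtain ⟨B, hBT, hBsup, hBinf, hBc⟩ := exists_complement_in (inf_le_right : D ⊓ T ≤ T)
    (le_normalizer_normal T) (by
      obtain ⟨k, hk⟩ := hZp.exists_card_eq
      rw [hk, hrel]
      exact hN.symm.pow_left k)
  have hBn : ∀ t ∈ T, ∀ b ∈ B, t * b * t⁻¹ ∈ B := by
    intro t ht b hb
    rw [← hBsup] at ht
    obtain ⟨c, hc, z, hz, rfl⟩ := (mem_sup_iff_of_le_normalizer (le_normalizer_normal B)).1 ht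
    have hbz : z * b = b * z :=
      mem_centralizer_iff.1 ((hBT hb).2) z hz.1
    rw [show c * z * b * (c * z)⁻¹ = c * (z * b) * z⁻¹ * c⁻¹ by group, hbz,
      show c * (b * z) * z⁻¹ * c⁻¹ = c * b * c⁻¹ by group]
    exact mul_mem (mul_mem hc hb) (inv_mem hc)
  haveI : (B.subgroupOf T).Normal :=
    ⟨fun b hb t => hBn t t.2 b (Subgroup.mem_subgroupOf.1 hb)⟩
  have hBle : B ≤ Cfsg.pPrimeCore p G := by
    refine le_trans ?_ (pPrimeCore_map_subtype_le (p := p) (N := T) inferInstance)
    rw [← Subgroup.map_subgroupOf_eq_of_le hBT]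
    refine Subgroup.map_mono (le_pPrimeCore inferInstance ?_)
    rw [card_subgroupOf_of_le hBT, hBc, hrel]
    exact hN
  rw [hcore, le_bot_iff] at hBle
  rw [hBle, Subgroup.card_bot] at hBc
  exact hN0 (Subgroup.eq_bot_of_card_eq _ (hrel ▸ hBc.symm))

/-- If automorphisms are transitive on subgroups of order `p` and `p` is odd, a `p`-soluble group
without normal `p'`-subgroups has `p`-core of index prime to `p`. -/
theorem index_pCore_coprime_of_transitive [Finite G] {p : ℕ} [hp : Fact p.Prime] (hp2 : p ≠ 2)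
    (h : Cfsg.IsPSolvable p G) (hcore : Cfsg.pPrimeCore p G = ⊥)
    (htrans : ∀ U V : Subgroup G, Nat.card U = p → Nat.card V = p →
      ∃ a : MulAut G, U.map a.toMonoidHom = V) :
    ¬ p ∣ (Cfsg.pCore p G).index := by
  intro hdvd
  haveI := normal_pCore (G := G) p
  have hDmap : ∀ (a : MulAut G) (y : G), y ∈ Cfsg.pCore p G → a y ∈ Cfsg.pCore p G := fun a y hy =>
    map_pCore_of_mulEquiv p a ▸ ⟨y, hy, rfl⟩
  have hgood : ∀ (P : G → Prop), (∀ (a : MulAut G) (y : G), P y → P (a y)) →
      (∀ y, P y → ∀ i : ℤ, P (y ^ i)) → ∀ w, orderOf w = p → P w → ∀ y, orderOf y = p → P y := by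
    intro P hP hpow w hw hPw y hy
    obtain ⟨a, ha⟩ := htrans (zpowers w) (zpowers y) (by rw [Nat.card_zpowers, hw])
      (by rw [Nat.card_zpowers, hy])
    obtain ⟨v, hv, rfl⟩ : y ∈ (zpowers w).map a.toMonoidHom := ha ▸ mem_zpowers y
    obtain ⟨i, rfl⟩ := hv
    exact hP a _ (hpow w hPw i)
  set D := Cfsg.pCore p G with hD
  have hDp : IsPGroup p D := isPGroup_pCore p
  have hD0 : D ≠ ⊥ := by
    intro e
    have hG : (⊤ : Subgroup G) ≠ ⊥ := by
      intro e'
      have h1 : Nat.card G = 1 := by rw [← Subgroup.card_top, e', Subgroup.card_bot]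
      have h2 := hdvd.trans (Subgroup.index_dvd_card D)
      rw [h1] at h2
      exact hp.out.not_dvd_one h2
    obtain ⟨N, hNn, -, hN0, hN⟩ := exists_normal_le_of_isPSolvable h (X := (⊤ : Subgroup G)) hG
    rcases hN with hN | hN
    · exact hN0 (le_bot_iff.1 ((le_pCore hNn hN).trans_eq e))
    · exact hN0 (le_bot_iff.1 ((le_pPrimeCore hNn hN).trans_eq hcore))
  obtain ⟨z, hzD, hzp, hzc⟩ : ∃ z ∈ D, orderOf z = p ∧ ∀ d ∈ D, z * d = d * z := by
    haveI : Nontrivial D := (Subgroup.nontrivial_iff_ne_bot D).2 hD0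
    haveI := hDp.center_nontrivial
    obtain ⟨k, hk⟩ := (hDp.to_subgroup (Subgroup.center D)).exists_card_eq
    have hk0 : k ≠ 0 := by
      rintro rfl
      rw [pow_zero] at hk
      exact not_subsingleton (Subgroup.center D) (Nat.card_eq_one_iff_unique.1 hk).1
    obtain ⟨c, hc⟩ := exists_prime_orderOf_dvd_card' (G := Subgroup.center D) p
      (hk ▸ dvd_pow_self p hk0)
    refine ⟨(c : D), (c : D).2, by rw [orderOf_coe, orderOf_coe, hc], fun d hd => ?_⟩
    exact (congrArg Subtype.val (mem_center_iff.1 c.2 ⟨d, hd⟩)).symm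
  have homega : ∀ y, orderOf y = p → y ∈ D ∧ ∀ d ∈ D, y * d = d * y := by
    refine hgood (fun y => y ∈ D ∧ ∀ d ∈ D, y * d = d * y) (fun a y hy => ⟨hDmap a y hy.1, fun d hd => ?_⟩)
      (fun y hy i => ⟨zpow_mem hy.1 i, fun d hd =>
        ((show Commute y d from hy.2 d hd).zpow_left i).eq⟩) z hzp ⟨hzD, hzc⟩
    have := hy.2 _ (hDmap a.symm d hd)
    simpa using congrArg a this
  -- the preimage of the `p'`-core of the quotient
  set f := QuotientGroup.mk' D with hf
  haveI := normal_pPrimeCore (G := G ⧸ D) p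
  have hbar : Cfsg.pPrimeCore p (G ⧸ D) ≠ ⊥ := by
    intro e
    have hQ : (⊤ : Subgroup (G ⧸ D)) ≠ ⊥ := fun e' => by
      have h1 : D.index = 1 := by
        rw [Subgroup.index, ← Subgroup.card_top, e', Subgroup.card_bot]
      rw [h1] at hdvd
      exact hp.out.not_dvd_one hdvd
    obtain ⟨N, hNn, -, hN0, hN⟩ := exists_normal_le_of_isPSolvable
      (isPSolvable_of_surjective f (QuotientGroup.mk'_surjective D) h) (X := (⊤ : Subgroup _)) hQ
    rcases hN with hN | hN
    · exact hN0 (le_bot_iff.1 ((le_pCore hNn hN).trans (pCore_quotient_pCore p).le))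
    · exact hN0 (le_bot_iff.1 ((le_pPrimeCore hNn hN).trans_eq e))
  set K := (Cfsg.pPrimeCore p (G ⧸ D)).comap f with hK
  have hDK : D ≤ K := fun x hx => by
    show f x ∈ Cfsg.pPrimeCore p (G ⧸ D)
    rw [show f x = 1 from (QuotientGroup.eq_one_iff x).2 hx]
    exact one_mem _
  have hrel : D.relIndex K = Nat.card (Cfsg.pPrimeCore p (G ⧸ D)) := by
    rw [← Subgroup.map_comap_eq_self_of_surjective (QuotientGroup.mk'_surjective D)
      (Cfsg.pPrimeCore p (G ⧸ D)), ← Subgroup.relIndex_ker, QuotientGroup.ker_mk']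
  have hcop : (Nat.card D).Coprime (D.relIndex K) := by
    obtain ⟨k, hk⟩ := hDp.exists_card_eq
    rw [hk, hrel]
    exact (coprime_card_pPrimeCore p).symm.pow_left k
  obtain ⟨Q, hQK, hQsup, hQinf, hQc⟩ := exists_complement_in hDK (le_normalizer_normal K) hcop
  have hKmap : ∀ (a : MulAut G) (y : G), y ∈ K → a y ∈ K := fun a y hy => by
    let e : G ⧸ D ≃* G ⧸ D := QuotientGroup.congr D D a (map_pCore_of_mulEquiv p a)
    show f (a y) ∈ Cfsg.pPrimeCore p (G ⧸ D)
    exact map_pPrimeCore_le_of_surjective p e.toMonoidHom e.surjective ⟨f y, hy, rfl⟩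
  have hnoW : ∀ y, orderOf y = p → ¬ ∀ u ∈ K, y * u = u * y := by
    intro y hy hyK
    have hall : ∀ w, orderOf w = p → ∀ u ∈ K, w * u = u * w :=
      hgood (fun y => ∀ u ∈ K, y * u = u * y) (fun a y hy' u hu => by
          have := hy' _ (hKmap a.symm u hu)
          simpa using congrArg a this)
        (fun y hy' i u hu => ((show Commute y u from hy' u hu).zpow_left i).eq) y hy hyK
    have hQD : Q ≤ D := by
      refine le_trans ?_ (centralizer_pCore_le_of_isPSolvable h hcore)
      intro g hg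
      refine mem_centralizer_of_fixes_omega hDp (le_normalizer_normal Q hg) ?_ fun x hx hxp => ?_
      · refine Nat.Coprime.coprime_dvd_left (orderOf_dvd_natCard Q hg) ?_
        rw [hQc, hrel]
        exact coprime_card_pPrimeCore p
      · rcases hxp with hxp | ⟨h2, -⟩
        · rcases eq_or_ne x 1 with rfl | hx1
          · group
          · rw [← hall x (orderOf_eq_prime hxp hx1) g (hQK hg)]; group
        · exact absurd h2 hp2
    have : Q = ⊥ := le_bot_iff.1 (hQinf ▸ le_inf le_rfl hQD)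
    rw [this, bot_sup_eq] at hQsup
    rw [← hQsup, Subgroup.relIndex_self] at hrel
    exact hbar (Subgroup.eq_bot_of_card_eq _ hrel.symm)
  set N := normalizer (Q : Set G) with hN
  have hND : ∀ x ∈ N, x ∈ D → x = 1 := by
    intro x hxN hxD
    by_contra hx1
    obtain ⟨m, hm⟩ := hDp ⟨x, hxD⟩
    have hxm : x ^ p ^ m = 1 := congrArg Subtype.val hm
    obtain ⟨j, -, hj⟩ := (Nat.dvd_prime_pow hp.out).1 (orderOf_dvd_of_pow_eq_one hxm)
    rcases j with _ | j
    · exact hx1 (orderOf_eq_one_iff.1 (by rw [hj, pow_zero]))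
    set y := x ^ p ^ j
    have hy : orderOf y = p := by
      rw [orderOf_pow_of_dvd (pow_ne_zero _ hp.out.ne_zero) (hj ▸ pow_dvd_pow p j.le_succ), hj,
        pow_succ, Nat.mul_div_cancel_left _ (pow_pos hp.out.pos j)]
    have hyD : y ∈ D := pow_mem hxD _
    have hyN : y ∈ N := pow_mem hxN _
    refine hnoW y hy fun u hu => ?_
    rw [← hQsup] at hu
    obtain ⟨q, hq, d, hd, rfl⟩ := (mem_sup_iff_of_le_normalizer (le_normalizer_normal Q)).1 hu
    have hyd := (homega y hy).2 d hd
    have hyq : y * q = q * y := by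
      have h1 : y * q * y⁻¹ * q⁻¹ ∈ Q ⊓ D := by
        refine ⟨mul_mem ((mem_normalizer_iff.1 hyN q).1 hq) (Subgroup.inv_mem Q hq), ?_⟩
        have := mul_mem hyD (Subgroup.Normal.conj_mem inferInstance _ (inv_mem hyD) q : q * y⁻¹ * q⁻¹ ∈ D)
        simpa [mul_assoc] using this
      rw [hQinf, mem_bot] at h1
      calc y * q = y * q * y⁻¹ * q⁻¹ * (q * y) := by group
        _ = q * y := by rw [h1, one_mul]
    calc y * (q * d) = y * q * d := by rw [mul_assoc]
      _ = q * (y * d) := by rw [hyq, mul_assoc]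
      _ = q * d * y := by rw [hyd, mul_assoc]
  have htop : N ⊔ D = ⊤ := by
    refine eq_top_iff.2 fun g _ => ?_
    have hDsol : Group.IsSolvable D := by
      haveI := hDp.isNilpotent
      infer_instance
    obtain ⟨d, hd, hde⟩ := exists_conj_eq_of_coprime (A := Q) (K := D) (B := MulAut.conj g • Q)
      (le_normalizer_normal Q) (by rw [hQc]; exact hcop.symm) (Or.inr hDsol) (by
        rw [hQsup]
        refine (conj_smul_le_conj_smul.2 hQK).trans ?_
        rw [conj_smul_of_normal]) (card_conj_smul g Q)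
    have h1 : d⁻¹ * g ∈ N := by
      rw [hN, ← conj_smul_eq_self_iff, ← conj_smul_conj_smul, ← hde, conj_smul_conj_smul,
        inv_mul_cancel, conj_one_smul]
    rw [show g = d * (d⁻¹ * g) by group]
    exact mul_mem (mem_sup_right hd) (mem_sup_left h1)
  have hNc : Nat.card N = D.index := by
    have h1 := card_sup_of_disjoint (le_normalizer_normal N (N := D))
      (eq_bot_iff.2 fun x hx => mem_bot.2 (hND x hx.1 hx.2))
    rw [htop, Subgroup.card_top, ← D.card_mul_index, mul_comm (Nat.card N)] at h1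
    exact (Nat.eq_of_mul_eq_mul_left Nat.card_pos h1).symm
  obtain ⟨⟨x, hx⟩, hxo⟩ := exists_prime_orderOf_dvd_card' (G := N) p (hNc ▸ hdvd)
  have hxo' : orderOf x = p := (orderOf_coe ⟨x, hx⟩).trans hxo
  exact hp.out.ne_one (hxo'.symm.trans (orderOf_eq_one_iff.2 (hND x hx (homega x hxo').1)))

end CfsgLib.Core
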