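import Cfsg.Agent.Lib.CoreCoprime
import Mathlib.GroupTheory.SchurZassenhaus
import Mathlib.GroupTheory.Sylow

/-!
# Groups whose `π`-elements form a subgroup
-/

set_option autoImplicit false

namespace CfsgLib.Core.PiClosed

open CfsgLib.Core

universe u

variable {G : Type u} [Group G] [Finite G] {π : Set ℕ}

theorem eq_top_of_sylow {H : Subgroup G} (h : ∀ q : ℕ, q.Prime → q ∣ Nat.card G → ∃ Q : Sylow q G, (Q : Subgroup G) ≤ H) :
    H = ⊤ := by
  rw [← Subgroup.index_eq_one]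
  by_contra hne
  obtain ⟨q, hq, hqd⟩ := Nat.exists_prime_and_dvd hne
  haveI := Fact.mk hq
  obtain ⟨Q, hQ⟩ := h q hq (hqd.trans H.index_dvd_card)
  exact Q.not_dvd_index (hqd.trans (Subgroup.index_dvd_of_le hQ))

theorem basic {L : Subgroup G} (hL : ∀ x : G, x ∈ L ↔ IsPiNat π (orderOf x)) :
    L.Normal ∧ IsPiNat π (Nat.card L) ∧ IsPiNat πᶜ L.index := by
  refine ⟨⟨fun n hn g => (hL _).2 ?_⟩, fun q hq hd => ?_, fun q hq hd hqπ => ?_⟩
  · rw [show orderOf (g * n * g⁻¹) = orderOf n from (MulAut.conj g).orderOf_eq n]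
    exact (hL n).1 hn
  · haveI := Fact.mk hq
    obtain ⟨x, hx⟩ := exists_prime_orderOf_dvd_card' q hd
    exact (hL x).1 x.2 q hq (by rw [Subgroup.orderOf_coe, hx])
  · haveI := Fact.mk hq
    obtain ⟨Q⟩ : Nonempty (Sylow q G) := inferInstance
    refine Q.not_dvd_index (hd.trans (Subgroup.index_dvd_of_le fun x hx => (hL x).2 fun r hr hrd => ?_))
    obtain ⟨k, hk⟩ := IsPGroup.iff_orderOf.1 Q.isPGroup' ⟨x, hx⟩
    rw [Subgroup.orderOf_mk] at hk
    rw [hk] at hrd
    rwa [(Nat.prime_dvd_prime_iff_eq hr hq).1 (hr.dvd_of_dvd_pow hrd)]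

theorem mem_of_pow_coprime {H : Subgroup G} {x : G} {n : ℕ} (h : x ^ n ∈ H) (hc : n.Coprime (orderOf x)) :
    x ∈ H := by
  obtain ⟨a, b, hab⟩ := Nat.Coprime.isCoprime hc
  have : x = (x ^ n) ^ a := by
    rw [← zpow_natCast, ← zpow_mul, show (n : ℤ) * a = (orderOf x : ℤ) * (-b) + 1 by linear_combination hab,
      zpow_add, zpow_mul, zpow_natCast, pow_orderOf_eq_one, one_zpow, one_mul, zpow_one]
  rw [this]
  exact H.zpow_mem h a

/-- Under the normalizer condition the `π`-elements centralize `K/L`. -/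
theorem map_mem_centralizer
    (hhom : ∀ H : Subgroup G, H ≠ ⊥ → IsPiNat πᶜ (Nat.card H) →
      IsPiNat πᶜ ((Subgroup.centralizer (H : Set G)).relIndex (Subgroup.normalizer (H : Set G))))
    {L K : Subgroup G} [L.Normal] [K.Normal] (hLK : L ≤ K) (hL : IsPiNat π (Nat.card L))
    (hKL : IsPiNat πᶜ (L.relIndex K)) {x : G} (hx : IsPiNat π (orderOf x)) :
    (x : G ⧸ L) ∈ Subgroup.centralizer ((K.map (QuotientGroup.mk' L)) : Set (G ⧸ L)) := by
  classical
  set f := QuotientGroup.mk' L with hf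
  set Kb := K.map f with hKb
  have hcardKb : Nat.card Kb = L.relIndex K := by
    have h : Kb ≃* K ⧸ L.subgroupOf K :=
      ((QuotientGroup.quotientMulEquivOfEq (show L.subgroupOf K = (f.comp K.subtype).ker by
        ext y; simp [Subgroup.mem_subgroupOf, f])).trans ((QuotientGroup.quotientKerEquivRange _).trans
        (MulEquiv.subgroupCongr (by rw [MonoidHom.range_comp, Subgroup.range_subtype])))).symm
    rw [Nat.card_congr h.toEquiv]
    rfl
  set A := Subgroup.zpowers (f x) with hA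
  have hAK : A ≤ Subgroup.normalizer (Kb : Set (G ⧸ L)) := by
    haveI : Kb.Normal := Subgroup.Normal.map inferInstance f (QuotientGroup.mk'_surjective L)
    rw [Subgroup.normalizer_eq_top]; exact le_top
  have hAπ : IsPiNat π (Nat.card A) := by
    rw [hA, Nat.card_zpowers]; exact hx.of_dvd (orderOf_map_dvd f x)
  have hcop : (Nat.card A).Coprime (Nat.card Kb) := hAπ.coprime (hcardKb ▸ hKL)
  haveI : Group.IsSolvable A := by
    haveI : IsCyclic A := by rw [hA]; infer_instance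
    exact Group.isSolvable_of_comm fun a b => IsMulCommutative.is_comm.comm a b
  suffices h : (Subgroup.centralizer ({f x} : Set (G ⧸ L))).subgroupOf Kb = ⊤ by
    refine Subgroup.mem_centralizer_iff.2 fun k hk => ?_
    exact Subgroup.mem_centralizer_singleton_iff.1 ((h ▸ Subgroup.mem_top (⟨k, hk⟩ : Kb) :
      (⟨k, hk⟩ : Kb) ∈ (Subgroup.centralizer ({f x} : Set (G ⧸ L))).subgroupOf Kb))
  refine eq_top_of_sylow fun q hq hqd => ?_
  haveI := Fact.mk hq
  have hqπ : q ∈ πᶜ := (hcardKb ▸ hKL) q hq hqd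
  obtain ⟨P, -, hP⟩ := exists_invariant_sylow_ge (U := ⊥) q hAK hcop (Or.inl inferInstance) bot_le
    IsPGroup.of_bot (by rw [Subgroup.normalizer_eq_top (H := (⊥ : Subgroup (G ⧸ L)))]; exact le_top)
  refine ⟨P, ?_⟩
  set Qb := (P : Subgroup Kb).map Kb.subtype with hQb
  set M := Qb.comap f with hM
  have hxM : x ∈ Subgroup.normalizer (M : Set G) := by
    refine Subgroup.mem_normalizer_iff.2 fun y => ?_
    show f y ∈ Qb ↔ f (x * y * x⁻¹) ∈ Qb
    rw [map_mul, map_mul, map_inv]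
    exact Subgroup.mem_normalizer_iff.1 (hP (Subgroup.mem_zpowers _)) (f y)
  obtain ⟨Q⟩ : Nonempty (Sylow q M) := inferInstance
  -- `Q` covers `Qb`
  have hsurj : Function.Surjective (f.subgroupComap Qb) :=
    MonoidHom.subgroupComap_surjective_of_surjective _ _ (QuotientGroup.mk'_surjective L)
  have hQtop : (Q : Subgroup M).map (f.subgroupComap Qb) = ⊤ := by
    rw [← Sylow.coe_mapSurjective hsurj]
    have hp : IsPGroup q (⊤ : Subgroup Qb) := (P.isPGroup'.map Kb.subtype).of_equiv Subgroup.topEquiv.symm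
    exact (((Q.mapSurjective hsurj).is_maximal' hp le_top)).symm
  set QG := (Q : Subgroup M).map M.subtype with hQG
  have hcover : ∀ y ∈ Qb, ∃ a ∈ QG, f a = y := fun y hy => by
    obtain ⟨a, ha, hay⟩ := (hQtop ▸ Subgroup.mem_top (⟨y, hy⟩ : Qb) : (⟨y, hy⟩ : Qb) ∈ (Q : Subgroup M).map (f.subgroupComap Qb))
    exact ⟨(a : G), ⟨a, ha, rfl⟩, congrArg Subtype.val hay⟩
  -- Frattini
  obtain ⟨Q', hQ'⟩ : ∃ Q' : Sylow q M, ∀ a : M, a ∈ (Q' : Subgroup M) ↔ x⁻¹ * (a : G) * x ∈ QG := by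
    let e : M ≃* M := MulEquiv.ofBijective
      (MonoidHom.mk' (fun a : M => (⟨x * a * x⁻¹, (Subgroup.mem_normalizer_iff.1 hxM a).1 a.2⟩ : M))
        fun a b => Subtype.ext (by show x * ((a : G) * b) * x⁻¹ = x * a * x⁻¹ * (x * b * x⁻¹); group))
      ((Finite.injective_iff_bijective).1 fun a b h => by
        have h' : x * (a : G) * x⁻¹ = x * (b : G) * x⁻¹ := congrArg Subtype.val h
        exact Subtype.ext (by simpa using h'))
    refine ⟨Q.mapSurjective (f := e.toMonoidHom) e.surjective, fun a => ?_⟩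
    show a ∈ (Q : Subgroup M).map e.toMonoidHom ↔ _
    constructor
    · rintro ⟨b, hb, rfl⟩
      refine ⟨b, hb, ?_⟩
      show (b : G) = x⁻¹ * (x * b * x⁻¹) * x
      group
    · rintro ⟨b, hb, hbe⟩
      refine ⟨b, hb, Subtype.ext ?_⟩
      show x * (b : G) * x⁻¹ = (a : G)
      rw [show (b : G) = x⁻¹ * (a : G) * x from hbe]
      group
  obtain ⟨m, hm⟩ := MulAction.exists_smul_eq M Q' Q
  have hnorm : (m : G) * x ∈ Subgroup.normalizer (QG : Set G) := by
    haveI : Finite QG := inferInstance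
    refine Subgroup.mem_normalizer_iff.2 fun y => ?_
    have key : ∀ y ∈ QG, (m : G) * x * y * ((m : G) * x)⁻¹ ∈ QG := by
      rintro _ ⟨b, hb, rfl⟩
      have hb' : (⟨x * b * x⁻¹, (Subgroup.mem_normalizer_iff.1 hxM b).1 b.2⟩ : M) ∈ (Q' : Subgroup M) := by
        rw [hQ']; exact ⟨b, hb, by show (b : G) = x⁻¹ * (x * b * x⁻¹) * x; group⟩
      have h := Subgroup.smul_mem_pointwise_smul _ (MulAut.conj m) _ hb'
      rw [← Sylow.coe_subgroup_smul] at h
      change MulAut.conj m • _ ∈ ((m • Q' : Sylow q M) : Subgroup M) at h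
      rw [hm] at h
      refine ⟨_, h, ?_⟩
      show (m : G) * (x * b * x⁻¹) * (m : G)⁻¹ = (m : G) * x * b * ((m : G) * x)⁻¹
      group
    refine ⟨key y, fun h => ?_⟩
    have hbij := (Finite.injective_iff_bijective (f := fun z : QG => (⟨_, key z z.2⟩ : QG))).1
      fun a b h => Subtype.ext (by simpa using congrArg Subtype.val h)
    obtain ⟨z, hz⟩ := hbij.2 ⟨_, h⟩
    have := congrArg Subtype.val hz
    simp only [mul_left_inj, mul_right_inj] at this
    exact this ▸ z.2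
  obtain ⟨a, ha, hae⟩ := hcover (f m) m.2
  set n := a⁻¹ * ((m : G) * x) with hn
  have hnN : n ∈ Subgroup.normalizer (QG : Set G) := mul_mem (inv_mem (Subgroup.le_normalizer ha)) hnorm
  have hfn : f n = f x := by rw [hn, map_mul, map_mul, map_inv, hae, inv_mul_cancel_left]
  have hnπ : IsPiNat π (orderOf n) := by
    refine IsPiNat.of_dvd (n := orderOf x * Nat.card L) (hx.mul hL) ?_
    have hmem : n ^ orderOf x ∈ L := by
      rw [← QuotientGroup.ker_mk' L, MonoidHom.mem_ker, ← hf, map_pow, hfn, ← map_pow, pow_orderOf_eq_one, map_one]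
    refine orderOf_dvd_of_pow_eq_one ?_
    rw [pow_mul]
    exact congrArg Subtype.val (pow_card_eq_one' (x := (⟨_, hmem⟩ : L)))
  have hQGπ : IsPiNat πᶜ (Nat.card QG) := by
    obtain ⟨k, hk⟩ := IsPGroup.iff_card.1 (Q.isPGroup'.map M.subtype)
    intro r hr hrd
    rw [hk] at hrd
    rwa [(Nat.prime_dvd_prime_iff_eq hr hq).1 (hr.dvd_of_dvd_pow hrd)]
  have hnC : n ∈ Subgroup.centralizer (QG : Set G) := by
    rcases eq_or_ne QG ⊥ with h | h
    · rw [h]; exact Subgroup.mem_centralizer_iff.2 fun y hy => by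
        rw [Subgroup.mem_bot.1 hy, one_mul, mul_one]
    refine mem_of_pow_coprime ?_ (hnπ.coprime (hhom QG h hQGπ)).symm
    haveI : ((Subgroup.centralizer (QG : Set G)).subgroupOf (Subgroup.normalizer (QG : Set G))).Normal :=
      ⟨fun c hc g => by
        rw [Subgroup.mem_subgroupOf, Subgroup.mem_centralizer_iff] at hc ⊢
        intro y hy
        have h1 : (g : G)⁻¹ * y * (g : G) ∈ QG := by
          have := (Subgroup.mem_normalizer_iff.1 (inv_mem g.2) y).1 hy
          rwa [inv_inv] at this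
        show y * ((g : G) * c * (g : G)⁻¹) = (g : G) * c * (g : G)⁻¹ * y
        calc y * ((g : G) * c * (g : G)⁻¹) = (g : G) * (((g : G)⁻¹ * y * g) * c) * (g : G)⁻¹ := by group
          _ = (g : G) * ((c : G) * ((g : G)⁻¹ * y * g)) * (g : G)⁻¹ := by rw [hc _ h1]
          _ = _ := by group⟩
    exact Subgroup.pow_index_mem ((Subgroup.centralizer (QG : Set G)).subgroupOf _) ⟨n, hnN⟩
  intro y hy
  obtain ⟨b, hb, hbe⟩ := hcover (y : G ⧸ L) ⟨y, hy, rfl⟩
  refine Subgroup.mem_centralizer_singleton_iff.2 ?_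
  show (y : G ⧸ L) * f x = f x * (y : G ⧸ L)
  rw [← hbe, ← hfn, ← map_mul, ← map_mul, Subgroup.mem_centralizer_iff.1 hnC b hb]

/-- Extensions. -/
theorem extension
    (hhom : ∀ H : Subgroup G, H ≠ ⊥ → IsPiNat πᶜ (Nat.card H) →
      IsPiNat πᶜ ((Subgroup.centralizer (H : Set G)).relIndex (Subgroup.normalizer (H : Set G))))
    (K : Subgroup G) [K.Normal]
    (hK : ∃ L : Subgroup K, ∀ x : K, x ∈ L ↔ IsPiNat π (orderOf x))
    (hQ : ∃ L : Subgroup (G ⧸ K), ∀ x : G ⧸ K, x ∈ L ↔ IsPiNat π (orderOf x)) :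
    ∃ L : Subgroup G, ∀ x : G, x ∈ L ↔ IsPiNat π (orderOf x) := by
  classical
  obtain ⟨L₀, hL₀⟩ := hK
  obtain ⟨R, hR⟩ := hQ
  obtain ⟨-, hL₀π, hL₀i⟩ := basic hL₀
  obtain ⟨-, hRπ, -⟩ := basic hR
  set L := L₀.map K.subtype with hL
  haveI : L.Normal := ⟨fun n hn g => by
    obtain ⟨y, hy, rfl⟩ := hn
    refine ⟨⟨g * y * g⁻¹, (inferInstance : K.Normal).conj_mem y y.2 g⟩, (hL₀ _).2 ?_, rfl⟩
    rw [← Subgroup.orderOf_coe]
    show IsPiNat π (orderOf (g * (y : G) * g⁻¹))
    rw [show orderOf (g * (y : G) * g⁻¹) = orderOf (y : G) from (MulAut.conj g).orderOf_eq _, Subgroup.orderOf_coe]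
    exact (hL₀ y).1 hy⟩
  have hLK : L ≤ K := Subgroup.map_subtype_le _
  have hLπ : IsPiNat π (Nat.card L) := by rw [hL, Subgroup.card_map_of_injective K.subtype_injective]; exact hL₀π
  have hKL : IsPiNat πᶜ (L.relIndex K) := by
    have : L.relIndex K = L₀.index := by
      rw [Subgroup.relIndex, hL, Subgroup.subgroupOf, Subgroup.comap_map_eq_self_of_injective K.subtype_injective]
    rw [this]; exact hL₀i
  set f := QuotientGroup.mk' L with hf
  set Kb := K.map f with hKb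
  let ψ : G ⧸ L →* G ⧸ K := QuotientGroup.map L K (MonoidHom.id G) hLK
  set D := Subgroup.centralizer (Kb : Set (G ⧸ L)) ⊓ R.comap ψ with hD
  let Z : Subgroup D := (ψ.comp D.subtype).ker
  have hker : ∀ z : D, z ∈ Z → (z : G ⧸ L) ∈ Kb := fun z hz => by
    obtain ⟨g, hg⟩ := QuotientGroup.mk'_surjective L (z : G ⧸ L)
    have h1 : ψ (z : G ⧸ L) = 1 := hz
    rw [← hg] at h1
    exact ⟨g, (QuotientGroup.eq_one_iff g).1 h1, hg⟩
  have hZπ : IsPiNat πᶜ (Nat.card Z) := by
    intro q hq hd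
    haveI := Fact.mk hq
    obtain ⟨z, hz⟩ := exists_prime_orderOf_dvd_card' q hd
    obtain ⟨k, hk, hke⟩ := hker z.1 z.2
    refine hKL q hq ?_
    have h1 : orderOf (((z : D) : G ⧸ L)) = q := by rw [Subgroup.orderOf_coe, Subgroup.orderOf_coe, hz]
    rw [← hke] at h1
    rw [← h1]
    have h2 := (L.subgroupOf K).pow_index_mem (⟨k, hk⟩ : K)
    refine orderOf_dvd_of_pow_eq_one ?_
    rw [← map_pow, ← MonoidHom.mem_ker, hf, QuotientGroup.ker_mk']
    exact h2
  have hZi : IsPiNat π Z.index := by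
    rw [Subgroup.index_ker]
    refine hRπ.of_dvd (Subgroup.card_dvd_of_le ?_)
    rintro _ ⟨d, rfl⟩
    exact d.2.2
  haveI : Z.Normal := MonoidHom.normal_ker _
  obtain ⟨V, hV⟩ := Subgroup.exists_right_complement'_of_coprime (N := Z) (hZi.coprime hZπ).symm
  have hVπ : IsPiNat π (Nat.card V) := by rw [← hV.symm.index_eq_card]; exact hZi
  have hmemV : ∀ d : D, IsPiNat π (orderOf d) → d ∈ V := by
    intro d hd
    obtain ⟨⟨z, v⟩, hzv⟩ := hV.2 d
    have hzv' : (z : D) * (v : D) = d := hzv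
    have hc : Commute (z : D) (v : D) := Subtype.ext (Subgroup.mem_centralizer_iff.1 (v : D).2.1 _ (hker z z.2))
    have hcop : (orderOf (z : D)).Coprime (orderOf (v : D)) := by
      rw [Subgroup.orderOf_coe, Subgroup.orderOf_coe]
      exact ((hVπ.of_dvd (orderOf_dvd_natCard v)).coprime (hZπ.of_dvd (orderOf_dvd_natCard z))).symm
    have hzπ : IsPiNat π (orderOf (z : D)) := hd.of_dvd (by
      rw [← hzv', hc.orderOf_mul_eq_mul_orderOf_of_coprime hcop]; exact dvd_mul_right _ _)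
    have hz1 : (z : D) = 1 := by
      rw [← orderOf_eq_one_iff]
      refine Nat.eq_one_of_dvd_coprimes (hzπ.coprime hZπ) dvd_rfl ?_
      rw [Subgroup.orderOf_coe]; exact orderOf_dvd_natCard z
    rw [← hzv', hz1, one_mul]
    exact v.2
  have hmemD : ∀ x : G, IsPiNat π (orderOf x) → f x ∈ D := fun x hx =>
    ⟨map_mem_centralizer hhom hLK hLπ hKL hx, (hR _).2 (hx.of_dvd (orderOf_map_dvd (QuotientGroup.mk' K) x))⟩
  set W := (V.map D.subtype).comap f with hW
  refine ⟨W, fun x => ⟨fun hx => ?_, fun hx => ?_⟩⟩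
  · obtain ⟨v, hv, hve⟩ := hx
    refine IsPiNat.of_dvd (n := orderOf v * Nat.card L) ((hVπ.of_dvd ?_).mul hLπ) ?_
    · rw [← Subgroup.orderOf_mk v hv]; exact orderOf_dvd_natCard _
    · have hmem : x ^ orderOf v ∈ L := by
        refine (QuotientGroup.eq_one_iff _).1 ?_
        show f (x ^ orderOf v) = 1
        rw [map_pow, ← hve]
        exact congrArg Subtype.val (pow_orderOf_eq_one v)
      refine orderOf_dvd_of_pow_eq_one ?_
      rw [pow_mul]
      exact congrArg Subtype.val (pow_card_eq_one' (x := (⟨_, hmem⟩ : L)))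
  · refine ⟨⟨f x, hmemD x hx⟩, hmemV _ ?_, rfl⟩
    rw [Subgroup.orderOf_mk]
    exact hx.of_dvd (orderOf_map_dvd f x)

end CfsgLib.Core.PiClosed
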