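import Cfsg.Agent.Lib.LocalRankTwoOmega
import Cfsg.Prelude.Def_OddOrderLocal

/-!
# Huppert's metacyclicity criterion
-/

set_option autoImplicit false

universe u

namespace CfsgLib.RankTwo

open Subgroup CfsgLib.Core
open scoped commutatorElement IsMulCommutative

set_option linter.unusedSectionVars false

variable {G : Type u} [Group G] [Finite G] {p : ℕ} [hp : Fact p.Prime]

theorem exists_card_pow (hG : IsPGroup p G) {W : Subgroup G} {k : ℕ} (h : p ^ k ≤ Nat.card W) :
    ∃ E : Subgroup G, E ≤ W ∧ Nat.card E = p ^ k := by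
  obtain ⟨a, ha⟩ := IsPGroup.iff_card.mp (hG.to_subgroup W)
  have hka : k ≤ a := (Nat.pow_le_pow_iff_right hp.out.one_lt).mp (ha ▸ h)
  obtain ⟨E, hE⟩ := Sylow.exists_subgroup_card_pow_prime (G := W) p (n := k)
    (ha ▸ pow_dvd_pow p hka)
  exact ⟨E.map W.subtype, map_subtype_le _,
    by rw [card_map_of_injective W.subtype_injective, hE]⟩

theorem exists_exponent_cube (hp3 : 3 < p) (hG : IsPGroup p G)
    (h : p ^ 2 < Nat.card ↥(Cfsg.omegaOne p (⊤ : Subgroup G))) :
    ∃ E : Subgroup G, Nat.card E = p ^ 3 ∧ ∀ x ∈ E, x ^ p = 1 := by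
  have key : ∀ W : Subgroup G, (∀ x ∈ W, x ^ p = 1) → p ^ 2 < Nat.card W →
      ∃ E : Subgroup G, Nat.card E = p ^ 3 ∧ ∀ x ∈ E, x ^ p = 1 := by
    intro W hW hc
    obtain ⟨a, ha⟩ := IsPGroup.iff_card.mp (hG.to_subgroup W)
    obtain ⟨E, hEW, hE⟩ := exists_card_pow hG (W := W) (k := 3) (by
      rw [ha] at hc ⊢
      exact Nat.pow_le_pow_right hp.out.pos ((Nat.pow_lt_pow_iff_right hp.out.one_lt).mp hc))
    exact ⟨E, hE, fun x hx => hW x (hEW hx)⟩
  by_cases hrk : ∀ E : Subgroup G, IsMulCommutative E → (∀ e ∈ E, e ^ p = 1) → Nat.card E ≤ p ^ 2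
  · refine key _ (fun x hx => omega_exponent hp3 hG hrk x ?_) h
    exact closure_mono (fun y hy => hy.2) hx
  · push Not at hrk
    obtain ⟨E, -, hE, hc⟩ := hrk
    exact key E hE hc

theorem commutator_card_le (hG : IsPGroup p G) (hc : Nat.card G = p ^ 3) :
    Nat.card ↥(⁅(⊤ : Subgroup G), (⊤ : Subgroup G)⁆) ≤ p := by
  haveI : Nontrivial G := Finite.one_lt_card_iff_nontrivial.mp (by
    rw [hc]; exact Nat.one_lt_pow (by norm_num) hp.out.one_lt)
  set Z := center G with hZ
  obtain ⟨z, hz⟩ := IsPGroup.iff_card.mp (hG.to_subgroup Z)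
  have hz1 : 1 ≤ z := by
    by_contra h0
    exact (Subgroup.nontrivial_iff_ne_bot _).mp hG.center_nontrivial
      (eq_bot_of_card_eq _ (by rw [hz, show z = 0 by omega, pow_zero]))
  have hq := card_eq_card_quotient_mul_card_subgroup Z
  rw [hc, hz] at hq
  by_cases hz2 : z = 1
  · subst hz2
    rw [pow_one] at hq hz
    have hQ : Nat.card (G ⧸ Z) = p ^ 2 := by
      refine Nat.eq_of_mul_eq_mul_right hp.out.pos ?_
      rw [← hq]; ring
    haveI : IsMulCommutative (G ⧸ Z) := ⟨⟨IsPGroup.commutative_of_card_eq_prime_sq hQ⟩⟩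
    refine (card_le_of_le ?_).trans hz.le
    rw [Subgroup.commutator_le]
    intro a _ b _
    rw [← QuotientGroup.eq_one_iff]
    show QuotientGroup.mk' Z ⁅a, b⁆ = 1
    rw [map_commutatorElement, commutatorElement_eq_one_iff_mul_comm]
    exact mul_comm' _ _
  · -- the centre has index at most `p`
    have hzle : z ≤ 3 := (Nat.pow_le_pow_iff_right hp.out.one_lt).mp (by
      rw [← hz, ← hc]; exact card_le_card_group Z)
    haveI : IsCyclic (G ⧸ Z) := by
      rcases (show z = 2 ∨ z = 3 by omega) with rfl | rfl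
      · exact isCyclic_of_prime_card (p := p) (Nat.eq_of_mul_eq_mul_right (pow_pos hp.out.pos 2)
          (by rw [← hq]; ring))
      · haveI : Subsingleton (G ⧸ Z) := (Nat.card_eq_one_iff_unique.mp
          (Nat.eq_of_mul_eq_mul_right (pow_pos hp.out.pos 3) (by rw [← hq]; ring))).1
        exact isCyclic_of_subsingleton
    have hcomm : ∀ a b : G, a * b = b * a :=
      commutative_of_cyclic_center_quotient (QuotientGroup.mk' Z) (by rw [QuotientGroup.ker_mk'])
    refine (card_le_of_le (K := ⊥) ?_).trans (by rw [card_bot]; exact hp.out.one_lt.le)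
    rw [Subgroup.commutator_le]
    intro a _ b _
    rw [mem_bot, commutatorElement_eq_one_iff_mul_comm]
    exact hcomm a b

theorem omega_quotient_central (hp3 : 3 < p) (hG : IsPGroup p G)
    (hO : Nat.card ↥(Cfsg.omegaOne p (⊤ : Subgroup G)) ≤ p ^ 2) (N : Subgroup G) [N.Normal]
    (hN : N ≤ center G) (hNc : Nat.card N = p) :
    Nat.card ↥(Cfsg.omegaOne p (⊤ : Subgroup (G ⧸ N))) ≤ p ^ 2 := by
  by_contra hbig
  obtain ⟨E, hEc, hEe⟩ := exists_exponent_cube hp3 (hG.to_quotient N) (not_le.mp hbig)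
  set f := QuotientGroup.mk' N with hf
  set K := E.comap f with hK
  have hKf : K.map f = E := map_comap_eq_self_of_surjective (QuotientGroup.mk'_surjective N) E
  have hNK : N ≤ K := (QuotientGroup.ker_mk' N).ge.trans (ker_le_comap f E)
  have hKc : Nat.card K = p ^ 4 := by
    have h := CfsgLib.Core.card_mul_relIndex hNK
    rw [hNc] at h
    have h2 : N.relIndex K = Nat.card E := by
      rw [← hKf, ← relIndex_ker, hf, QuotientGroup.ker_mk']
    rw [h2, hEc] at h
    rw [← h]; ring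
  have hcentN : ∀ n ∈ N, ∀ g : G, Commute n g := fun n hn g =>
    (Subgroup.mem_center_iff.mp (hN hn) g).symm
  have hpowN : ∀ x ∈ K, x ^ p ∈ N := fun x hx => by
    rw [← QuotientGroup.eq_one_iff]
    exact (map_pow f x p).trans (hEe _ hx)
  set K₁ := ⁅K, K⁆ with hK₁
  have hK₁le : K₁ ≤ K := commutator_le_of_le_normalizer le_normalizer
  have hK₁c : Nat.card K₁ ≤ p ^ 2 := by
    have hmap : K₁.map f = ⁅E, E⁆ := by rw [hK₁, Subgroup.map_commutator, hKf]
    have hE' : Nat.card ↥⁅E, E⁆ ≤ p := by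
      have h := commutator_card_le ((hG.to_quotient N).to_subgroup E) hEc
      rw [← card_map_of_injective E.subtype_injective, Subgroup.map_commutator,
        ← MonoidHom.range_eq_map, range_subtype] at h
      exact h
    have h := card_inf_mul_relIndex N K₁
    rw [show N.relIndex K₁ = Nat.card ↥(K₁.map f) by
      rw [← relIndex_ker, hf, QuotientGroup.ker_mk'], hmap] at h
    rw [← h, sq]
    exact Nat.mul_le_mul ((card_le_of_le inf_le_left).trans hNc.le) hE'
  set K₂ := ⁅K₁, K⁆ with hK₂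
  have hK₁n : K ≤ normalizer (K₁ : Set G) := le_normalizer_commutator_right K K
  have hK₂le : K₂ ≤ K₁ := commutator_le_of_le_normalizer hK₁n
  have hK₂c : Nat.card K₂ ≤ p := by
    rcases eq_or_ne K₁ ⊥ with h0 | h0
    · rw [hK₂, h0, Subgroup.commutator_bot_left, card_bot]; exact hp.out.one_lt.le
    · have hne := commutator_lt_of_isPGroup (p := p) (hG.to_subgroup K₁) (hG.to_subgroup K) hK₁n h0
      obtain ⟨a, ha⟩ := IsPGroup.iff_card.mp (hG.to_subgroup K₁)
      obtain ⟨b, hab, hb⟩ := (Nat.dvd_prime_pow hp.out).mp (ha ▸ card_dvd_of_le hK₂le)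
      have hba : b ≠ a := fun e => hne (eq_of_le_of_card_le hK₂le (by rw [hb, ha, e]))
      have ha2 : a ≤ 2 := (Nat.pow_le_pow_iff_right hp.out.one_lt).mp (ha ▸ hK₁c)
      rw [hb]
      exact (Nat.pow_le_pow_right hp.out.pos (show b ≤ 1 by omega)).trans (pow_one p).le
  have hK₂p : ∀ g ∈ K₂, g ^ p = 1 := by
    intro g hg
    obtain ⟨b, hb⟩ := IsPGroup.iff_card.mp (hG.to_subgroup K₂)
    have hb1 : b ≤ 1 := (Nat.pow_le_pow_iff_right hp.out.one_lt).mp (by rw [← hb, pow_one]; exact hK₂c)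
    have h1 : (⟨g, hg⟩ : K₂) ^ Nat.card K₂ = 1 := pow_card_eq_one'
    rw [hb] at h1
    have h1' : g ^ p ^ b = 1 := congrArg Subtype.val h1
    interval_cases b
    · rw [pow_zero, pow_one] at h1'; rw [h1', one_pow]
    · rwa [pow_one] at h1'
  have hK₂cent : ∀ g ∈ K₂, ∀ k ∈ K, Commute g k := by
    intro g hg k hk
    have hK₂n : K ≤ normalizer (K₂ : Set G) := le_normalizer_commutator_right K₁ K
    have hbot : ⁅K₂, K⁆ = ⊥ := by
      by_contra hne
      have h0 : K₂ ≠ ⊥ := fun e => hne (by rw [e, Subgroup.commutator_bot_left])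
      have hlt := commutator_lt_of_isPGroup (p := p) (hG.to_subgroup K₂) (hG.to_subgroup K) hK₂n h0
      obtain ⟨b, hb⟩ := IsPGroup.iff_card.mp (hG.to_subgroup K₂)
      have hb1 : b ≤ 1 :=
        (Nat.pow_le_pow_iff_right hp.out.one_lt).mp (by rw [← hb, pow_one]; exact hK₂c)
      have hle := commutator_le_of_le_normalizer hK₂n
      interval_cases b
      · exact h0 (eq_bot_of_card_eq _ (by rw [hb, pow_zero]))
      · rcases (Nat.dvd_prime hp.out).mp ((pow_one p) ▸ hb ▸ card_dvd_of_le hle) with h | h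
        · exact hne (eq_bot_of_card_eq _ h)
        · exact hlt (eq_of_le_of_card_le hle (by rw [h, hb, pow_one]))
    have := commutator_mem_commutator hg hk
    rw [hbot, mem_bot, commutatorElement_eq_one_iff_mul_comm] at this
    exact this
  have hmul : ∀ x ∈ K, ∀ y ∈ K, (x * y) ^ p = x ^ p * y ^ p := by
    intro x hx y hy
    set c := x⁻¹ * (y * x * y⁻¹) with hcdef
    have hc1 : c ∈ K₁ := by
      rw [hK₁, hcdef, show x⁻¹ * (y * x * y⁻¹) = ⁅x⁻¹, y⁆ by rw [commutatorElement_def]; group]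
      exact commutator_mem_commutator (inv_mem hx) hy
    set d := c⁻¹ * (y * c * y⁻¹) with hddef
    have hd2 : d ∈ K₂ := by
      rw [hK₂, hddef, show c⁻¹ * (y * c * y⁻¹) = ⁅c⁻¹, y⁆ by rw [commutatorElement_def]; group]
      exact commutator_mem_commutator (inv_mem hc1) hy
    set e := (x * c)⁻¹ * (c * x) with hedef
    have he2 : e ∈ K₂ := by
      rw [hK₂, hedef, show (x * c)⁻¹ * (c * x) = ⁅c⁻¹, x⁻¹⁆ by rw [commutatorElement_def]; group]
      exact commutator_mem_commutator (inv_mem hc1) (inv_mem hx)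
    have hcK : c ∈ K := hK₁le hc1
    have hcx2 : ⁅c, x⁆ ∈ K₂ := commutator_mem_commutator hc1 hx
    have hcp : c ^ p = 1 := by
      have h1 : (x * c) ^ p = x ^ p * c ^ p := by
        rw [mul_pow_of_central (hK₂cent _ hcx2 x hx).eq (hK₂cent _ hcx2 c hcK).eq,
          choose_vanish (hK₂p _ hcx2) two_ne_zero (by omega), mul_one]
      have h2 : (x * c) ^ p = x ^ p := by
        rw [show x * c = y * x * y⁻¹ by rw [hcdef]; group, conj_pow,
          ← (hcentN _ (hpowN x hx) y).eq, mul_inv_cancel_right]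
      rw [h2] at h1
      exact mul_eq_left.mp h1.symm
    exact mul_pow_of_three hp3 hcp (hK₂p d hd2) (hK₂p e he2)
      (by rw [hcdef]; group) (by rw [hddef]; group)
      (by rw [← (hK₂cent d hd2 y hy).eq, mul_inv_cancel_right])
      (by rw [hedef]; group) (hK₂cent d hd2 x hx) (hK₂cent d hd2 c hcK)
      (hK₂cent e he2 x hx) (hK₂cent e he2 c hcK) (hK₂cent e he2 d (hK₁le (hK₂le hd2)))
  let φ : K →* N :=
    { toFun := fun x => ⟨(x : G) ^ p, hpowN x x.2⟩
      map_one' := Subtype.ext (one_pow _)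
      map_mul' := fun x y => Subtype.ext (hmul x x.2 y y.2) }
  have hker : φ.ker.map K.subtype ≤ Cfsg.omegaOne p (⊤ : Subgroup G) := by
    rintro _ ⟨x, hx, rfl⟩
    exact subset_closure ⟨mem_top _, congrArg Subtype.val (MonoidHom.mem_ker.mp hx)⟩
  have h1 := φ.ker.card_mul_index
  rw [index_ker, hKc] at h1
  have h2 : Nat.card φ.range ≤ p := hNc ▸ card_le_card_group φ.range
  have h3 : Nat.card φ.ker ≤ p ^ 2 := by
    rw [← card_map_of_injective K.subtype_injective]
    exact (card_le_of_le hker).trans hO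
  have h4 : p ^ 4 ≤ p ^ 3 := by
    calc p ^ 4 = Nat.card φ.ker * Nat.card φ.range := h1.symm
      _ ≤ p ^ 2 * p := Nat.mul_le_mul h3 h2
      _ = p ^ 3 := by ring
  exact absurd ((Nat.pow_le_pow_iff_right hp.out.one_lt).mp h4) (by norm_num)

theorem omega_map {H : Type u} [Group H] (e : G ≃* H) :
    Nat.card ↥(Cfsg.omegaOne p (⊤ : Subgroup G)) = Nat.card ↥(Cfsg.omegaOne p (⊤ : Subgroup H)) := by
  rw [← card_map_of_injective (f := e.toMonoidHom) e.injective, Cfsg.omegaOne, Cfsg.omegaOne,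
    MonoidHom.map_closure]
  suffices h : (e.toMonoidHom : G → H) '' {x | x ∈ (⊤ : Subgroup G) ∧ x ^ p = 1} =
      {x | x ∈ (⊤ : Subgroup H) ∧ x ^ p = 1} by rw [h]
  ext y
  constructor
  · rintro ⟨x, ⟨-, hx⟩, rfl⟩
    exact ⟨mem_top _, by rw [← map_pow, hx, map_one]⟩
  · rintro ⟨-, hy⟩
    exact ⟨e.symm y, ⟨mem_top _, by rw [← map_pow, hy, map_one]⟩, e.apply_symm_apply y⟩

theorem exists_central_prime (hG : IsPGroup p G) (T : Subgroup G) [T.Normal] (hT : T ≠ ⊥) :
    ∃ N : Subgroup G, N ≤ T ∧ N ≤ center G ∧ Nat.card N = p := by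
  haveI := hG.isNilpotent
  have h := CfsgLib.Core.nilpotent_inf_center_ne_bot (N := T) hT
  obtain ⟨a, ha⟩ := IsPGroup.iff_card.mp (hG.to_subgroup (T ⊓ center G))
  have ha1 : 1 ≤ a := by
    by_contra h0
    exact h (eq_bot_of_card_eq _ (by rw [ha, show a = 0 by omega, pow_zero]))
  obtain ⟨N, hN, hNc⟩ := exists_card_pow hG (W := T ⊓ center G) (k := 1)
    (by rw [ha]; exact Nat.pow_le_pow_right hp.out.pos ha1)
  exact ⟨N, hN.trans inf_le_left, hN.trans inf_le_right, by rwa [pow_one] at hNc⟩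

theorem omega_quotient (hp3 : 3 < p) : ∀ (n : ℕ) {G : Type u} [Group G] [Finite G],
    IsPGroup p G → Nat.card ↥(Cfsg.omegaOne p (⊤ : Subgroup G)) ≤ p ^ 2 →
    ∀ (T : Subgroup G) [T.Normal], Nat.card T = n →
      Nat.card ↥(Cfsg.omegaOne p (⊤ : Subgroup (G ⧸ T))) ≤ p ^ 2 := by
  intro n
  induction n using Nat.strong_induction_on with
  | _ n ih =>
  intro G _ _ hG hO T _ hn
  rcases eq_or_ne T ⊥ with rfl | hT
  · rw [omega_map (QuotientGroup.quotientBot (G := G))]
    exact hO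
  obtain ⟨N, hNT, hNZ, hNc⟩ := exists_central_prime hG T hT
  haveI : N.Normal := ⟨fun x hx g => by
    rwa [Subgroup.mem_center_iff.mp (hNZ hx) g, mul_inv_cancel_right]⟩
  haveI : (T.map (QuotientGroup.mk' N)).Normal :=
    Normal.map inferInstance _ (QuotientGroup.mk'_surjective N)
  have hlt : Nat.card ↥(T.map (QuotientGroup.mk' N)) < n := by
    have h := card_inf_mul_relIndex N T
    rw [inf_eq_left.mpr hNT, hNc, show N.relIndex T = Nat.card ↥(T.map (QuotientGroup.mk' N)) by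
      rw [← relIndex_ker, QuotientGroup.ker_mk'], hn] at h
    rw [← h]
    exact lt_mul_of_one_lt_left Nat.card_pos hp.out.one_lt
  rw [← omega_map (QuotientGroup.quotientQuotientEquivQuotient N T hNT)]
  exact ih _ hlt (hG.to_quotient N) (omega_quotient_central hp3 hG hO N hNZ hNc) _ rfl

theorem metacyclic_of_generator (hG : IsPGroup p G)
    (hM : ∀ x : G, x ^ p ∈ frattini G) (M : Subgroup G) [M.Normal] (hMF : M ≤ frattini G)
    (hMc : Nat.card (G ⧸ M) ≤ p ^ 2) (g : G) (hg : g ∉ M)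
    (hcomm : ⁅(⊤ : Subgroup G), (⊤ : Subgroup G)⁆ ≤ zpowers g) : Cfsg.IsMetacyclic G := by
  haveI hgn : (zpowers g).Normal := ⟨fun x hx a => by
    have := mul_mem (hcomm (commutator_mem_commutator (mem_top a) (mem_top x))) hx
    rwa [commutatorElement_def, inv_mul_cancel_right] at this⟩
  refine ⟨zpowers g, hgn, inferInstance, ?_⟩
  set f := QuotientGroup.mk' M with hf
  obtain ⟨a, ha⟩ := IsPGroup.iff_card.mp (hG.to_quotient M)
  have ha2 : a ≤ 2 := (Nat.pow_le_pow_iff_right hp.out.one_lt).mp (ha ▸ hMc)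
  obtain ⟨h, hh⟩ : ∃ h : G, (zpowers g ⊔ M) ⊔ zpowers h = ⊤ := by
    by_cases htop : zpowers g ⊔ M = ⊤
    · exact ⟨1, by rw [htop, top_sup_eq]⟩
    obtain ⟨h, hh⟩ : ∃ h, h ∉ zpowers g ⊔ M := by
      by_contra hcon
      push Not at hcon
      exact htop (eq_top_iff.mpr fun x _ => hcon x)
    refine ⟨h, ?_⟩
    set A := (zpowers g ⊔ M).map f with hA
    set B := ((zpowers g ⊔ M) ⊔ zpowers h).map f with hB
    have hA1 : A ≠ ⊥ := fun e => hg (by
      have : f g ∈ A := ⟨g, mem_sup_left (mem_zpowers g), rfl⟩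
      rw [e, mem_bot] at this
      exact (QuotientGroup.eq_one_iff g).mp this)
    have hAB : A ≠ B := fun e => hh (by
      have hmem : f h ∈ A := e ▸ ⟨h, mem_sup_right (mem_zpowers h), rfl⟩
      obtain ⟨y, hy, hy'⟩ := hmem
      have h1 : y⁻¹ * h ∈ M := QuotientGroup.eq.mp hy'
      have := mul_mem hy (mem_sup_right (S := zpowers g) h1)
      rwa [mul_inv_cancel_left] at this)
    obtain ⟨i, hi, hi'⟩ := (Nat.dvd_prime_pow hp.out).mp (ha ▸ card_subgroup_dvd_card A)
    obtain ⟨j, hj, hj'⟩ := (Nat.dvd_prime_pow hp.out).mp (ha ▸ card_subgroup_dvd_card B)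
    have hAle : A ≤ B := map_mono le_sup_left
    have hi1 : 1 ≤ i := by
      by_contra h0
      exact hA1 (eq_bot_of_card_eq _ (by rw [hi', show i = 0 by omega, pow_zero]))
    have hij : i < j := (Nat.pow_lt_pow_iff_right hp.out.one_lt).mp (hi' ▸ hj' ▸
      lt_of_le_of_ne (card_le_of_le hAle) fun e => hAB (eq_of_le_of_card_le hAle e.ge))
    have hBtop : B = ⊤ := eq_top_of_card_eq _ (by rw [hj', ha, show j = a by omega])
    have := congrArg (Subgroup.comap f) hBtop
    rwa [comap_map_eq, hf, QuotientGroup.ker_mk', comap_top,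
      sup_eq_left.mpr (le_sup_right.trans le_sup_left)] at this
  have htop : zpowers g ⊔ zpowers h = ⊤ :=
    frattini_nongenerating (eq_top_iff.mpr (hh.ge.trans
      (sup_le (sup_le (le_sup_left.trans le_sup_left) (hMF.trans le_sup_right))
        (le_sup_right.trans le_sup_left))))
  refine isCyclic_iff_exists_zpowers_eq_top.mpr ⟨(QuotientGroup.mk' (zpowers g)) h,
    eq_top_iff.mpr fun x _ => ?_⟩
  obtain ⟨y, rfl⟩ := QuotientGroup.mk'_surjective _ x
  have hy : (QuotientGroup.mk' (zpowers g)) y ∈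
      (zpowers g ⊔ zpowers h).map (QuotientGroup.mk' (zpowers g)) := ⟨y, htop ▸ mem_top y, rfl⟩
  rw [Subgroup.map_sup, MonoidHom.map_zpowers, MonoidHom.map_zpowers,
    show (QuotientGroup.mk' (zpowers g)) g = 1 from (QuotientGroup.eq_one_iff g).mpr (mem_zpowers g),
    zpowers_one_eq_bot, bot_sup_eq] at hy
  exact hy

theorem huppert (hp3 : 3 < p) : ∀ (n : ℕ) {G : Type u} [Group G] [Finite G], Nat.card G = n →
    IsPGroup p G → Nat.card ↥(Cfsg.omegaOne p (⊤ : Subgroup G)) ≤ p ^ 2 →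
    Cfsg.IsMetacyclic G := by
  intro n
  induction n using Nat.strong_induction_on with
  | _ n ih =>
  intro G _ _ hn hG hO
  rcases subsingleton_or_nontrivial G with hs | hs
  · haveI : IsCyclic G := isCyclic_of_subsingleton
    exact ⟨⊥, inferInstance, inferInstance, inferInstance⟩
  set M := closure (Set.range fun x : G => x ^ p) with hMdef
  haveI hMn : M.Normal := ⟨fun x hx a => by
    have hle : M ≤ M.comap (MulAut.conj a).toMonoidHom := by
      refine (closure_le _).mpr ?_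
      rintro _ ⟨y, rfl⟩
      exact subset_closure ⟨a * y * a⁻¹, by simp [conj_pow]⟩
    exact hle hx⟩
  have hMF : M ≤ frattini G := (closure_le _).mpr (by
    rintro _ ⟨y, rfl⟩; exact pgroup_pow_mem_frattini hG y)
  have hMc : Nat.card (G ⧸ M) ≤ p ^ 2 := by
    have h := omega_quotient hp3 _ hG hO M rfl
    have htop : Cfsg.omegaOne p (⊤ : Subgroup (G ⧸ M)) = ⊤ := eq_top_iff.mpr fun x _ => by
      obtain ⟨y, rfl⟩ := QuotientGroup.mk'_surjective M x
      refine subset_closure ⟨mem_top _, ?_⟩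
      rw [← map_pow]
      exact (QuotientGroup.eq_one_iff _).mpr (subset_closure ⟨y, rfl⟩)
    rwa [htop, card_top] at h
  have hMne : M ≠ ⊤ := fun e => by
    obtain ⟨S, hS, -⟩ := (eq_top_or_exists_le_coatom (⊥ : Subgroup G)).resolve_left bot_ne_top
    exact hS.1 (top_le_iff.mp ((e.ge.trans hMF).trans (frattini_le_coatom hS)))
  set G' := ⁅(⊤ : Subgroup G), (⊤ : Subgroup G)⁆ with hG'
  rcases eq_or_ne G' ⊥ with h0 | h0
  · obtain ⟨g, hg⟩ : ∃ g, g ∉ M := by
      by_contra hcon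
      push Not at hcon
      exact hMne (eq_top_iff.mpr fun x _ => hcon x)
    exact metacyclic_of_generator hG (fun x => pgroup_pow_mem_frattini hG x) M hMF hMc g hg
      (h0.le.trans bot_le)
  haveI : G'.Normal := inferInstance
  obtain ⟨N, hNG', hNZ, hNc⟩ := exists_central_prime hG G' h0
  haveI hNn : N.Normal := ⟨fun x hx g => by
    rwa [Subgroup.mem_center_iff.mp (hNZ hx) g, mul_inv_cancel_right]⟩
  have hlt : Nat.card (G ⧸ N) < n := by
    rw [← hn, card_eq_card_quotient_mul_card_subgroup N, hNc]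
    exact lt_mul_of_one_lt_right Nat.card_pos hp.out.one_lt
  obtain ⟨C, hCn, hCc, hQc⟩ :=
    ih _ hlt rfl (hG.to_quotient N) (omega_quotient_central hp3 hG hO N hNZ hNc)
  set π := QuotientGroup.mk' N with hπ
  obtain ⟨⟨c, hc⟩, hcgen⟩ := IsCyclic.exists_generator (α := C)
  obtain ⟨a, rfl⟩ := QuotientGroup.mk'_surjective N c
  obtain ⟨bq, hbgen⟩ := IsCyclic.exists_generator (α := (G ⧸ N) ⧸ C)
  obtain ⟨bn, rfl⟩ := QuotientGroup.mk'_surjective C bq
  obtain ⟨b, rfl⟩ := QuotientGroup.mk'_surjective N bn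
  set C₀ := C.comap π with hC₀
  haveI : C₀.Normal := hCn.comap π
  have hC₀eq : ∀ x ∈ C₀, ∃ i : ℤ, ∃ m ∈ N, x = a ^ i * m := by
    intro x hx
    obtain ⟨i, hi⟩ := mem_zpowers_iff.mp (hcgen ⟨π x, hx⟩)
    have hi' : π (a ^ i) = π x := by rw [map_zpow]; exact congrArg Subtype.val hi
    exact ⟨i, (a ^ i)⁻¹ * x, QuotientGroup.eq.mp hi', by group⟩
  have hcent : ∀ m ∈ N, ∀ g : G, Commute m g := fun m hm g =>
    (Subgroup.mem_center_iff.mp (hNZ hm) g).symm
  have hgenG : ∀ x : G, ∃ j : ℤ, ∃ y ∈ C₀, x = b ^ j * y := by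
    intro x
    obtain ⟨j, hj⟩ := mem_zpowers_iff.mp (hbgen (QuotientGroup.mk' C (π x)))
    refine ⟨j, (b ^ j)⁻¹ * x, ?_, by group⟩
    show π ((b ^ j)⁻¹ * x) ∈ C
    rw [map_mul, map_inv, map_zpow]
    exact QuotientGroup.eq.mp (by
      rw [← map_zpow] at hj
      exact hj)
  have ha : a ∈ C₀ := hc
  have hba : b * a * b⁻¹ ∈ C₀ := Normal.conj_mem inferInstance a ha b
  set w := b * a * b⁻¹ * a⁻¹ with hw
  have hwC : w ∈ C₀ := mul_mem hba (inv_mem ha)
  obtain ⟨s, t, ht, hwst⟩ := hC₀eq w hwC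
  have hC₀comm : ∀ x ∈ C₀, ∀ y ∈ C₀, Commute x y := by
    intro x hx y hy
    obtain ⟨i, m, hm, rfl⟩ := hC₀eq x hx
    obtain ⟨j, m', hm', rfl⟩ := hC₀eq y hy
    exact (((Commute.refl a).zpow_zpow i j).mul_right (hcent m' hm' _).symm).mul_left
      ((hcent m hm _))
  have hbai : ∀ i : ℤ, b * a ^ i * b⁻¹ = w ^ i * a ^ i := by
    intro i
    rw [← conj_zpow, show b * a * b⁻¹ = w * a by rw [hw]; group,
      (hC₀comm w hwC a ha).mul_zpow]
  have hbw : b * w * b⁻¹ = w ^ (s + 1) := by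
    rw [hwst, show b * (a ^ s * t) * b⁻¹ = b * a ^ s * b⁻¹ * (b * t * b⁻¹) by group, hbai,
      ← (hcent t ht b).eq, mul_inv_cancel_right, ← hwst, zpow_add_one]
    conv_rhs => rw [hwst]
    simp only [mul_assoc]
    rw [← hwst]
  have hG'w : G' ≤ zpowers w := by
    have hbn : b ∈ normalizer (zpowers w : Set G) := by
      refine mem_normalizer_iff_map_conj_eq.mpr (eq_of_le_of_card_le ?_
        (card_map_of_injective (f := (MulAut.conj b).toMonoidHom) (MulAut.conj b).injective).ge)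
      rintro _ ⟨x, hx, rfl⟩
      obtain ⟨i, rfl⟩ := mem_zpowers_iff.mp hx
      show b * w ^ i * b⁻¹ ∈ zpowers w
      rw [← conj_zpow, hbw, ← zpow_mul]
      exact zpow_mem (mem_zpowers w) _
    have hCn' : C₀ ≤ normalizer (zpowers w : Set G) := fun y hy => by
      refine Subgroup.centralizer_le_normalizer _ (mem_centralizer_iff.mpr fun x hx => ?_)
      obtain ⟨i, rfl⟩ := mem_zpowers_iff.mp hx
      exact ((hC₀comm w hwC y hy).zpow_left i).eq
    haveI : (zpowers w).Normal := normalizer_eq_top_iff.mp (eq_top_iff.mpr fun x _ => by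
      obtain ⟨j, y, hy, rfl⟩ := hgenG x
      exact mul_mem (zpow_mem hbn j) (hCn' hy))
    set q := QuotientGroup.mk' (zpowers w) with hq
    have hqab : q b * q a = q a * q b := by
      rw [← map_mul, ← map_mul]
      refine (QuotientGroup.eq.mpr ?_).symm
      rw [show (a * b)⁻¹ * (b * a) = (b⁻¹ * a⁻¹) * w * (b⁻¹ * a⁻¹)⁻¹ by rw [hw]; group]
      exact Normal.conj_mem inferInstance w (mem_zpowers w) _
    have hcq : ∀ x y : G, Commute (q x) (q y) := by
      intro x y
      obtain ⟨j, x', hx', rfl⟩ := hgenG x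
      obtain ⟨k, y', hy', rfl⟩ := hgenG y
      obtain ⟨i, m, hm, rfl⟩ := hC₀eq x' hx'
      obtain ⟨l, m', hm', rfl⟩ := hC₀eq y' hy'
      simp only [map_mul, map_zpow]
      have hab : Commute (q b) (q a) := hqab
      have hmc : ∀ m ∈ N, ∀ z, Commute (q m) (q z) := fun m hm z => (hcent m hm z).map q
      have h1 : Commute (q m) ((q b) ^ k * ((q a) ^ l * q m')) := by
        rw [← map_zpow, ← map_zpow, ← map_mul, ← map_mul]
        exact hmc m hm _
      have h2 : Commute (q b ^ j) ((q b) ^ k * ((q a) ^ l * q m')) :=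
        ((Commute.refl _).zpow_zpow j k).mul_right ((hab.zpow_zpow j l).mul_right
          (((hmc m' hm' b).symm).zpow_left j))
      have h3 : Commute (q a ^ i) ((q b) ^ k * ((q a) ^ l * q m')) :=
        (hab.symm.zpow_zpow i k).mul_right (((Commute.refl _).zpow_zpow i l).mul_right
          (((hmc m' hm' a).symm).zpow_left i))
      exact h2.mul_left (h3.mul_left h1)
    rw [hG', Subgroup.commutator_le]
    intro x _ y _
    rw [← QuotientGroup.eq_one_iff]
    show q ⁅x, y⁆ = 1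
    rw [map_commutatorElement, commutatorElement_eq_one_iff_mul_comm]
    exact hcq x y
  by_cases hNa : N ≤ zpowers a
  · -- the cyclic subgroup lifts
    have hC₀a : C₀ = zpowers a := by
      refine le_antisymm (fun x hx => ?_) (zpowers_le.mpr ha)
      obtain ⟨i, m, hm, rfl⟩ := hC₀eq x hx
      exact mul_mem (zpow_mem (mem_zpowers a) i) (hNa hm)
    refine ⟨C₀, inferInstance, hC₀a ▸ inferInstance, ?_⟩
    refine isCyclic_iff_exists_zpowers_eq_top.mpr ⟨QuotientGroup.mk' C₀ b,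
      eq_top_iff.mpr fun z _ => ?_⟩
    obtain ⟨x, rfl⟩ := QuotientGroup.mk'_surjective _ z
    obtain ⟨j, y, hy, rfl⟩ := hgenG x
    rw [map_mul, map_zpow, show (QuotientGroup.mk' C₀) y = 1 from (QuotientGroup.eq_one_iff y).mpr hy,
      mul_one]
    exact zpow_mem (mem_zpowers _) j
  have hd : N ⊓ zpowers a = ⊥ := by
    rcases (Nat.dvd_prime hp.out).mp (hNc ▸ card_dvd_of_le (inf_le_left : N ⊓ zpowers a ≤ N)) with h | h
    · exact eq_bot_of_card_eq _ h
    · have e : N ⊓ zpowers a = N := eq_of_le_of_card_le inf_le_left (by rw [h, hNc])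
      exact absurd (e ▸ inf_le_right) hNa
  obtain ⟨⟨n₀, hn₀⟩, hn01⟩ := ne_bot_iff_exists_ne_one.mp fun (e : N = ⊥) => by
    rw [e, card_bot] at hNc; exact hp.out.ne_one hNc.symm
  have hn₀1 : n₀ ≠ 1 := fun e => hn01 (Subtype.ext e)
  have hmp : ∀ m ∈ N, m ^ p = 1 := fun m hm => by
    have h := congrArg Subtype.val (pow_card_eq_one' (x := (⟨m, hm⟩ : N)))
    rw [hNc] at h
    exact h
  obtain ⟨k, hk⟩ := mem_zpowers_iff.mp (hG'w (hNG' hn₀))
  have hwp : w ^ p = 1 := by
    by_cases hpk : (p : ℤ) ∣ k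
    · obtain ⟨l, rfl⟩ := hpk
      refine absurd ?_ hn₀1
      have e1 : n₀ = (a ^ s) ^ ((p : ℤ) * l) := by
        rw [← hk, hwst, ((hcent t ht _).symm).mul_zpow,
          show t ^ ((p : ℤ) * l) = 1 by rw [zpow_mul, zpow_natCast, hmp t ht, one_zpow], mul_one]
      have := mem_inf.mpr ⟨hn₀, show n₀ ∈ zpowers a from
        e1 ▸ zpow_mem (zpow_mem (mem_zpowers a) s) _⟩
      rwa [hd, mem_bot] at this
    · obtain ⟨e, he⟩ := hG w
      have hcop : IsCoprime ((p : ℤ) ^ e) k :=
        ((Nat.prime_iff_prime_int.mp hp.out).coprime_iff_not_dvd.mpr hpk).pow_left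
      obtain ⟨u, v, huv⟩ := hcop
      have hwk : w = n₀ ^ v := by
        calc w = w ^ (u * (p : ℤ) ^ e + v * k) := by rw [huv, zpow_one]
          _ = _ := by
            rw [zpow_add, mul_comm u, zpow_mul, ← Nat.cast_pow, zpow_natCast, he, one_zpow, one_mul,
              mul_comm v, zpow_mul, hk]
      rw [hwk, ← zpow_natCast, ← zpow_mul, mul_comm, zpow_mul, zpow_natCast, hmp n₀ hn₀, one_zpow]
  have hG'N : G' = N := by
    refine (eq_of_le_of_card_le hNG' ?_).symm
    rw [hNc]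
    refine (card_le_of_le hG'w).trans ?_
    rw [Nat.card_zpowers]
    exact Nat.le_of_dvd hp.out.pos (orderOf_dvd_of_pow_eq_one hwp)
  have hpowmul : ∀ x y : G, (x * y) ^ p = x ^ p * y ^ p := by
    intro x y
    have hyx : ⁅y, x⁆ ∈ N := hG'N ▸ commutator_mem_commutator (mem_top y) (mem_top x)
    rw [mul_pow_of_central (hcent _ hyx x).eq (hcent _ hyx y).eq,
      choose_vanish (hmp _ hyx) two_ne_zero (by omega), mul_one]
  let φ : G →* G :=
    { toFun := fun x => x ^ p, map_one' := one_pow _, map_mul' := hpowmul }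
  have hMr : M ≤ φ.range := (closure_le _).mpr (by rintro _ ⟨y, rfl⟩; exact ⟨y, rfl⟩)
  have hNM : N ≤ M := by
    rw [← hG'N, hG', Subgroup.commutator_le]
    intro x _ y _
    rw [← QuotientGroup.eq_one_iff]
    show QuotientGroup.mk' M ⁅x, y⁆ = 1
    rw [map_commutatorElement, commutatorElement_eq_one_iff_mul_comm]
    obtain ⟨e, he⟩ := IsPGroup.iff_card.mp (hG.to_quotient M)
    have he2 : e ≤ 2 := (Nat.pow_le_pow_iff_right hp.out.one_lt).mp (he ▸ hMc)
    interval_cases e
    · haveI : Subsingleton (G ⧸ M) := (Nat.card_eq_one_iff_unique.mp (by rw [he, pow_zero])).1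
      exact Subsingleton.elim _ _
    · haveI : IsCyclic (G ⧸ M) := isCyclic_of_prime_card (p := p) (by rw [he, pow_one])
      exact mul_comm' _ _
    · exact IsPGroup.commutative_of_card_eq_prime_sq he _ _
  obtain ⟨g, hg, hgmax⟩ := Set.exists_max_image {g : G | n₀ ∈ zpowers g} orderOf (Set.toFinite _)
    ⟨n₀, mem_zpowers n₀⟩
  have hgM : g ∉ M := by
    intro hgM
    obtain ⟨y, hy⟩ := hMr hgM
    have hy' : y ^ p = g := hy
    have hgle : zpowers g ≤ zpowers y := zpowers_le.mpr (hy' ▸ npow_mem_zpowers y p)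
    have hg1 : orderOf g ≠ 1 := fun e => hn₀1 (by
      rw [orderOf_eq_one_iff] at e
      have hg' : n₀ ∈ zpowers g := hg
      rw [e, zpowers_one_eq_bot, mem_bot] at hg'
      exact hg')
    obtain ⟨ey, hey⟩ := IsPGroup.iff_orderOf.mp hG y
    have hey1 : 1 ≤ ey := by
      by_contra h
      rw [show ey = 0 by omega, pow_zero, orderOf_eq_one_iff] at hey
      exact hg1 (by rw [← hy', hey, one_pow, orderOf_one])
    have hdiv : orderOf g = p ^ (ey - 1) := by
      rw [← hy', orderOf_pow' y hp.out.ne_zero, hey,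
        Nat.gcd_eq_right (dvd_pow_self p (by omega)), Nat.div_eq_iff_eq_mul_left hp.out.pos
          (dvd_pow_self p (by omega)), ← pow_succ, Nat.sub_add_cancel hey1]
    have := hgmax y (hgle hg)
    rw [hdiv, hey] at this
    exact absurd ((Nat.pow_le_pow_iff_right hp.out.one_lt).mp this) (by omega)
  refine metacyclic_of_generator hG (fun x => pgroup_pow_mem_frattini hG x) M hMF hMc g hgM ?_
  have hNz : N = zpowers n₀ :=
    (eq_of_le_of_card_le (zpowers_le.mpr hn₀)
      (by rw [hNc, Nat.card_zpowers, orderOf_eq_prime (hmp n₀ hn₀) hn₀1])).symm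
  exact hG'N.le.trans (hNz.le.trans (zpowers_le.mpr hg))

end CfsgLib.RankTwo
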