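import Cfsg.Agent.Lib.TransferApps
import Cfsg.Agent.Lib.TransferMaximalClass
import Cfsg.Agent.Lib.LocalHuppertMetacyclic
import Cfsg.Agent.Lib.CoreOmega

/-!
# `p`-groups of odd order with at most `p ^ 2` solutions of `x ^ p = 1` in the relevant subgroups
-/

set_option autoImplicit false

universe u

namespace CfsgLib.Core.RankTwoP

open Subgroup
open scoped commutatorElement

set_option linter.unusedSectionVars false

variable {G : Type u} [Group G] [Finite G] {p : ℕ} [hp : Fact p.Prime]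

theorem laffey (hp2 : p ≠ 2) (hG : IsPGroup p G) : ∀ (n : ℕ) (K : Subgroup G), Nat.card K = n →
    (∀ x ∈ K, x ^ p = 1 → ∀ y ∈ K, Commute x y) →
    ∀ x ∈ K, ∀ y ∈ K, x ^ p = y ^ p → (x⁻¹ * y) ^ p = 1 := by
  intro n
  induction n using Nat.strong_induction_on with
  | _ n ih =>
  intro K hn hK x hx y hy hxy
  by_cases hgen : zpowers x = K
  · obtain ⟨i, rfl⟩ := mem_zpowers_iff.mp (hgen.ge hy)
    rw [((Commute.refl x).zpow_right i).inv_left.mul_pow, inv_pow, ← hxy, inv_mul_cancel]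
  haveI := (hG.to_subgroup K).isNilpotent
  have hne : zpowers (⟨x, hx⟩ : K) ≠ ⊤ := fun e => hgen (by
    have := congrArg (Subgroup.map K.subtype) e
    rwa [MonoidHom.map_zpowers, ← MonoidHom.range_eq_map, range_subtype] at this)
  obtain ⟨M, hM, hle⟩ := (eq_top_or_exists_le_coatom _).resolve_left hne
  haveI hMn : M.Normal :=
    NormalizerCondition.normal_of_coatom M Group.normalizerCondition_of_isNilpotent hM
  have hMK : M.map K.subtype ≤ K := map_subtype_le M
  have hxM : x ∈ M.map K.subtype := ⟨⟨x, hx⟩, hle (mem_zpowers _), rfl⟩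
  have hyM : y⁻¹ * x * y ∈ M.map K.subtype :=
    ⟨⟨y, hy⟩⁻¹ * ⟨x, hx⟩ * ⟨y, hy⟩, by
      simpa using hMn.conj_mem ⟨x, hx⟩ (hle (mem_zpowers _)) (⟨y, hy⟩⁻¹), rfl⟩
  have hlt : Nat.card ↥(M.map K.subtype) < n := by
    rw [card_map_of_injective K.subtype_injective, ← hn]
    exact lt_of_le_of_ne (card_le_card_group M) fun e => hM.1 (eq_top_of_card_eq M e)
  have hpow : (y⁻¹ * x * y) ^ p = x ^ p := by
    calc (y⁻¹ * x * y) ^ p = y⁻¹ * x ^ p * y := by
          simpa using conj_pow (a := y⁻¹) (b := x) (i := p)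
      _ = x ^ p := by
          rw [hxy, mul_assoc, ← pow_succ, pow_succ' y p, inv_mul_cancel_left]
  have hc := ih _ hlt _ rfl (fun a ha h b hb => hK a (hMK ha) h b (hMK hb)) x hxM _ hyM hpow.symm
  set c := x⁻¹ * (y⁻¹ * x * y) with hcdef
  have hcK : c ∈ K := mul_mem (inv_mem hx) (mul_mem (mul_mem (inv_mem hy) hx) hy)
  have hcen := hK c hcK hc
  have e1 : ⁅y, x⁻¹⁆ = c := by
    have h1 : ⁅y, x⁻¹⁆ = y * c * y⁻¹ := by rw [hcdef, commutatorElement_def]; group
    rw [h1, (hcen _ hy).symm.eq, mul_inv_cancel_right]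
  rw [CfsgLib.Core.mul_pow_of_central (x := x⁻¹) (z := y) (by rw [e1]; exact hcen _ (inv_mem hx))
    (by rw [e1]; exact hcen _ hy), e1]
  obtain ⟨m, hm⟩ := hp.out.dvd_choose_self (k := 2) two_ne_zero
    (lt_of_le_of_ne hp.out.two_le (Ne.symm hp2))
  rw [hm, pow_mul, hc, one_pow, mul_one, inv_pow, hxy, inv_mul_cancel]

/-- Commutators with an element whose `p`-th power is central have order `p`. -/
theorem comm_pow (hp2 : p ≠ 2) (hG : IsPGroup p G) {K : Subgroup G}
    (hK : ∀ x ∈ K, x ^ p = 1 → ∀ y ∈ K, Commute x y) {x y : G} (hx : x ∈ K) (hy : y ∈ K)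
    (hc : Commute (x ^ p) y) : ⁅y, x⁆ ^ p = 1 := by
  have h1 : (x⁻¹) ^ p = ((y * x * y⁻¹)⁻¹) ^ p := by
    rw [inv_pow, inv_pow, conj_pow, hc.symm.eq, mul_inv_cancel_right]
  have h2 := laffey hp2 hG _ K rfl hK _ (inv_mem (mul_mem (mul_mem hy hx) (inv_mem hy))) _
    (inv_mem hx) h1.symm
  rwa [inv_inv, ← commutatorElement_def] at h2

theorem pth_mul (hp2 : p ≠ 2) (hG : IsPGroup p G) {K : Subgroup G}
    (hK : ∀ x ∈ K, x ^ p = 1 → ∀ y ∈ K, Commute x y) {x y : G} (hx : x ∈ K) (hy : y ∈ K)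
    (hc : Commute (x ^ p) y) : (x * y) ^ p = x ^ p * y ^ p := by
  have h := comm_pow hp2 hG hK hx hy hc
  have hcK : ⁅y, x⁆ ∈ K := by
    rw [commutatorElement_def]
    exact mul_mem (mul_mem (mul_mem hy hx) (inv_mem hy)) (inv_mem hx)
  rw [CfsgLib.Core.mul_pow_of_central (hK _ hcK h x hx) (hK _ hcK h y hy)]
  obtain ⟨m, hm⟩ := hp.out.dvd_choose_self (k := 2) two_ne_zero
    (lt_of_le_of_ne hp.out.two_le (Ne.symm hp2))
  rw [hm, pow_mul, h, one_pow, mul_one]

theorem isCyclic_of_small (hp2 : p ≠ 2) (hG : IsPGroup p G) (E : Subgroup G)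
    (hE : ∀ x : G, x ^ p = 1 → x ∈ E) (hc : Nat.card E < p ^ 2) : IsCyclic G := by
  by_contra h
  obtain ⟨A, -, hA, hAc⟩ := CfsgLib.Transfer.exists_normal_rank_two hp2 hG h
  have hle : A ≤ E := fun a ha => hE a (hA.2 a ha)
  exact absurd (card_le_of_le hle) (by omega)

theorem root_of_zpowers {m f : G} {k : ℕ} (hm : orderOf m = p ^ k) (hf : f ∈ zpowers m)
    (hne : zpowers f ≠ zpowers m) : ∃ y : G, y ^ p = f := by
  obtain ⟨i, rfl⟩ := mem_zpowers_iff.mp hf
  by_cases hd : (p : ℤ) ∣ i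
  · obtain ⟨j, rfl⟩ := hd
    exact ⟨m ^ j, by rw [← zpow_natCast, ← zpow_mul, mul_comm]⟩
  · refine absurd (le_antisymm (zpowers_le.mpr (zpow_mem (mem_zpowers m) i)) ?_) hne
    obtain ⟨a, b, hab⟩ : IsCoprime i ((p ^ k : ℕ) : ℤ) := by
      push_cast
      exact ((Nat.prime_iff_prime_int.mp hp.out).coprime_iff_not_dvd.mpr hd).symm.pow_right
    refine zpowers_le.mpr (mem_zpowers_iff.mpr ⟨a, ?_⟩)
    have h1 : m ^ ((p ^ k : ℕ) : ℤ) = 1 := by rw [zpow_natCast, ← hm, pow_orderOf_eq_one]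
    calc (m ^ i) ^ a = m ^ (a * i + b * ((p ^ k : ℕ) : ℤ)) := by
          rw [zpow_add, mul_comm b, zpow_mul m _ b, h1, one_zpow, mul_one, ← zpow_mul, mul_comm]
      _ = m := by rw [hab, zpow_one]

theorem commutator_le_of_generators (N : Subgroup G) [N.Normal] (S : Set G)
    (hS : closure S = ⊤) (h : ∀ s ∈ S, ∀ t ∈ S, ⁅s, t⁆ ∈ N) :
    ⁅(⊤ : Subgroup G), (⊤ : Subgroup G)⁆ ≤ N := by
  set f := QuotientGroup.mk' N with hf
  have hst : ∀ s ∈ S, ∀ t ∈ S, f s * f t = f t * f s := fun s hs t ht => by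
    rw [← commutatorElement_eq_one_iff_mul_comm, ← map_commutatorElement]
    exact (QuotientGroup.eq_one_iff _).mpr (h s hs t ht)
  have h1 : ∀ s ∈ S, ∀ g : G, f s * f g = f g * f s := by
    intro s hs g
    have hle : closure S ≤ (centralizer {f s}).comap f := (closure_le _).mpr fun t ht =>
      mem_centralizer_singleton_iff.mpr (hst t ht s hs)
    exact (mem_centralizer_singleton_iff.mp (hle (hS.ge (mem_top g)))).symm
  refine commutator_le.mpr fun a _ b _ => ?_
  rw [← QuotientGroup.eq_one_iff, ← QuotientGroup.mk'_apply, map_commutatorElement,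
    commutatorElement_eq_one_iff_mul_comm]
  have hle : closure S ≤ (Subgroup.center (G ⧸ N)).comap f := (closure_le _).mpr fun t ht =>
    Subgroup.mem_center_iff.mpr fun w => by
      obtain ⟨g, rfl⟩ := QuotientGroup.mk'_surjective N w
      exact (h1 t ht g).symm
  exact (Subgroup.mem_center_iff.mp (hle (hS.ge (mem_top a))) (f b)).symm

/-- Two elements of a group with cyclic normal subgroup and cyclic quotient modulo `N`. -/
theorem exists_generators (N : Subgroup G) [N.Normal] (h : Cfsg.IsMetacyclic (G ⧸ N)) :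
    ∃ a b : G, (∃ r : ℤ, (b ^ r)⁻¹ * (a * b * a⁻¹) ∈ N) ∧
      ∀ g : G, ∃ i j : ℤ, (a ^ i * b ^ j)⁻¹ * g ∈ N := by
  obtain ⟨B, hBn, hB, hA⟩ := h
  obtain ⟨b', hb'⟩ := isCyclic_iff_exists_zpowers_eq_top.mp hB
  obtain ⟨a', ha'⟩ := isCyclic_iff_exists_zpowers_eq_top.mp hA
  obtain ⟨a'', rfl⟩ := QuotientGroup.mk'_surjective B a'
  obtain ⟨a, rfl⟩ := QuotientGroup.mk'_surjective N a''
  obtain ⟨b, hb⟩ := QuotientGroup.mk'_surjective N (b' : G ⧸ N)
  have hBz : ∀ w ∈ B, ∃ j : ℤ, QuotientGroup.mk' N (b ^ j) = w := fun w hw => by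
    obtain ⟨j, hj⟩ := mem_zpowers_iff.mp (hb'.ge (mem_top ⟨w, hw⟩))
    exact ⟨j, by rw [map_zpow, hb]; exact congrArg Subtype.val hj⟩
  refine ⟨a, b, ?_, fun g => ?_⟩
  · obtain ⟨r, hr⟩ := hBz _ (hBn.conj_mem _ b'.2 (QuotientGroup.mk' N a))
    refine ⟨r, QuotientGroup.eq.mp ?_⟩
    rw [← hb, ← map_inv, ← map_mul, ← map_mul] at hr
    exact hr
  · obtain ⟨i, hi⟩ := mem_zpowers_iff.mp
      (ha'.ge (mem_top (QuotientGroup.mk' B (QuotientGroup.mk' N g))))
    rw [← map_zpow, ← map_zpow] at hi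
    have h2 : (QuotientGroup.mk' N (a ^ i))⁻¹ * QuotientGroup.mk' N g ∈ B :=
      QuotientGroup.eq.mp hi
    obtain ⟨j, hj⟩ := hBz _ h2
    refine ⟨i, j, QuotientGroup.eq.mp ?_⟩
    show QuotientGroup.mk' N (a ^ i * b ^ j) = QuotientGroup.mk' N g
    rw [map_mul, hj, mul_inv_cancel_left]

/-- The central case: if the solutions of `x ^ p = 1` form a central subgroup of order at most
`p ^ 2`, the group is metacyclic and every element of its Frattini subgroup is a `p`-th power. -/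
theorem central_case (hp2 : p ≠ 2) : ∀ (n : ℕ) {G : Type u} [Group G] [Finite G], Nat.card G = n →
    IsPGroup p G → ∀ E : Subgroup G, (∀ x, x ∈ E ↔ x ^ p = 1) → E ≤ center G →
    Nat.card E ≤ p ^ 2 → Cfsg.IsMetacyclic G ∧ ∀ f ∈ frattini G, ∃ y : G, y ^ p = f := by
  intro n
  induction n using Nat.strong_induction_on with
  | _ n ih =>
  intro G _ _ hn hG E hE hEc hEcard
  haveI hEn : E.Normal := ⟨fun x hx g => by
    rwa [Subgroup.mem_center_iff.mp (hEc hx) g, mul_inv_cancel_right]⟩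
  rcases subsingleton_or_nontrivial G with hs | hs
  · haveI : IsCyclic G := isCyclic_of_subsingleton
    exact ⟨⟨⊥, inferInstance, inferInstance, inferInstance⟩,
      fun f _ => ⟨1, Subsingleton.elim _ _⟩⟩
  rcases lt_or_eq_of_le hEcard with hlt | hEq
  · haveI hcyc : IsCyclic G := isCyclic_of_small hp2 hG E (fun x => (hE x).mpr) hlt
    refine ⟨⟨⊥, inferInstance, inferInstance,
      isCyclic_of_surjective _ (QuotientGroup.mk'_surjective (⊥ : Subgroup G))⟩, fun f hf => ?_⟩
    obtain ⟨g, hg⟩ := isCyclic_iff_exists_zpowers_eq_top.mp hcyc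
    obtain ⟨k, hk⟩ := IsPGroup.iff_orderOf.mp hG g
    refine root_of_zpowers hk (hg.ge (mem_top f)) fun e => ?_
    have h1 : frattini G = ⊤ := top_le_iff.mp ((e.trans hg).ge.trans (zpowers_le.mpr hf))
    exact bot_ne_top (frattini_nongenerating (K := (⊥ : Subgroup G)) (by rw [h1, sup_top_eq]))
  have hEp : ∀ e ∈ E, e ^ p = 1 := fun e he => (hE e).mp he
  have hK : ∀ x ∈ (⊤ : Subgroup G), x ^ p = 1 → ∀ y ∈ (⊤ : Subgroup G), Commute x y :=
    fun x _ hx y _ => (Subgroup.mem_center_iff.mp (hEc ((hE x).mpr hx)) y).symm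
  by_cases hEF : E ≤ frattini G
  swap
  · -- `E` is not inside the Frattini subgroup
    obtain ⟨e, he, hef⟩ := SetLike.not_le_iff_exists.mp hEF
    obtain ⟨M, hM, heM⟩ : ∃ M : Subgroup G, IsCoatom M ∧ e ∉ M := by
      by_contra hcon
      push Not at hcon
      exact hef (Subgroup.mem_iInf.mpr fun M => Subgroup.mem_iInf.mpr fun hM => hcon M hM)
    obtain ⟨hMn, hMi⟩ := CfsgLib.Core.index_of_coatom_pgroup hG hM
    haveI := hMn
    have hsmall : Nat.card ↥(E.subgroupOf M) < p ^ 2 := by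
      rw [← card_map_of_injective M.subtype_injective, subgroupOf_map_subtype, ← hEq]
      exact lt_of_le_of_ne (card_le_of_le inf_le_left) fun h =>
        heM ((inf_eq_left.mp (CfsgLib.Core.eq_of_le_of_card_le inf_le_left h.ge)) he)
    haveI hMc : IsCyclic M := isCyclic_of_small hp2 (hG.to_subgroup M) (E.subgroupOf M)
      (fun x hx => (hE _).mpr (congrArg Subtype.val hx)) hsmall
    haveI : IsCyclic (G ⧸ M) := isCyclic_of_prime_card (p := p) (by rw [← Subgroup.index_eq_card, hMi])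
    refine ⟨⟨M, inferInstance, inferInstance, inferInstance⟩, fun f hf => ?_⟩
    obtain ⟨m, hm⟩ := isCyclic_iff_exists_zpowers_eq_top.mp hMc
    have hmM : zpowers (m : G) = M := by
      have := congrArg (Subgroup.map M.subtype) hm
      rwa [MonoidHom.map_zpowers, ← MonoidHom.range_eq_map, range_subtype] at this
    obtain ⟨k, hk⟩ := IsPGroup.iff_orderOf.mp hG (m : G)
    by_cases hfm : zpowers f = zpowers (m : G)
    · have htop : zpowers e ⊔ frattini G = ⊤ := by
        refine hM.2 _ (lt_of_le_of_ne ?_ fun h => heM (h ▸ mem_sup_left (mem_zpowers e)))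
        rw [← hmM, ← hfm]
        exact (zpowers_le.mpr hf).trans le_sup_right
      obtain ⟨i, hi⟩ := mem_zpowers_iff.mp ((frattini_nongenerating htop).ge (mem_top f))
      refine ⟨1, ?_⟩
      by_contra hf1
      apply heM
      have hfM : f ∈ M := hmM.le (hfm.le (mem_zpowers f))
      obtain ⟨a, b, hab⟩ : IsCoprime i (p : ℤ) := by
        refine ((Nat.prime_iff_prime_int.mp hp.out).coprime_iff_not_dvd.mpr fun hd => ?_).symm
        obtain ⟨j, rfl⟩ := hd
        rw [zpow_mul, zpow_natCast, hEp e he, one_zpow] at hi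
        exact hf1 (by rw [one_pow, hi])
      have : e = f ^ a := by
        calc e = e ^ (a * i + b * (p : ℤ)) := by rw [hab, zpow_one]
          _ = f ^ a := by
            rw [zpow_add, mul_comm b, zpow_mul e _ b, zpow_natCast, hEp e he, one_zpow, mul_one,
              ← hi, ← zpow_mul, mul_comm]
      exact this ▸ zpow_mem hfM a
    · exact root_of_zpowers hk (hmM.ge (frattini_le_coatom hM hf)) hfm
  -- the quotient by `E`
  have hcomm : ∀ x : G, x ^ p ∈ E → ∀ y : G, ⁅y, x⁆ ∈ E := fun x hx y =>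
    (hE _).mpr (comm_pow hp2 hG hK (mem_top x) (mem_top y)
      (Subgroup.mem_center_iff.mp (hEc hx) y).symm)
  have hmul : ∀ x : G, x ^ p ∈ E → ∀ y : G, (x * y) ^ p = x ^ p * y ^ p := fun x hx y =>
    pth_mul hp2 hG hK (mem_top x) (mem_top y) (Subgroup.mem_center_iff.mp (hEc hx) y).symm
  let X : Subgroup G :=
    { carrier := {x | x ^ p ∈ E}
      one_mem' := by show (1 : G) ^ p ∈ E; rw [one_pow]; exact one_mem E
      mul_mem' := fun {x y} hx hy => by
        show (x * y) ^ p ∈ E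
        rw [hmul x hx y]
        exact mul_mem hx hy
      inv_mem' := fun {x} hx => by
        show x⁻¹ ^ p ∈ E
        rw [inv_pow]; exact inv_mem hx }
  let φ : X →* E :=
    { toFun := fun x => ⟨(x : G) ^ p, x.2⟩
      map_one' := Subtype.ext (by simp)
      map_mul' := fun x y => Subtype.ext (hmul x x.2 y) }
  have hker : φ.ker = E.subgroupOf X := by
    ext x
    rw [MonoidHom.mem_ker, mem_subgroupOf, hE, Subtype.ext_iff]
    rfl
  have hEX : E ≤ X := fun x hx => by show x ^ p ∈ E; rw [hEp x hx]; exact one_mem E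
  set f := QuotientGroup.mk' E with hf
  have hX' : ∀ w : G ⧸ E, w ∈ X.map f ↔ w ^ p = 1 := by
    intro w
    obtain ⟨x, rfl⟩ := QuotientGroup.mk'_surjective E w
    rw [← map_pow, hf, QuotientGroup.mk'_apply E (x ^ p), QuotientGroup.eq_one_iff]
    constructor
    · rintro ⟨y, hy, hyx⟩
      have h1 : y⁻¹ * x ∈ X := hEX (QuotientGroup.eq.mp hyx)
      have h2 := mul_mem hy h1
      rwa [mul_inv_cancel_left] at h2
    · exact fun hx => ⟨x, hx, rfl⟩
  have hX'card : Nat.card ↥(X.map f) = Nat.card φ.range := by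
    rw [← relIndex_ker, hf, QuotientGroup.ker_mk', relIndex, ← hker, index_ker]
  have hX'c : X.map f ≤ center (G ⧸ E) := by
    rintro _ ⟨x, hx, rfl⟩
    refine Subgroup.mem_center_iff.mpr fun w => ?_
    obtain ⟨y, rfl⟩ := QuotientGroup.mk'_surjective E w
    rw [← commutatorElement_eq_one_iff_mul_comm, ← map_commutatorElement]
    exact (QuotientGroup.eq_one_iff _).mpr (hcomm x hx y)
  have hE1 : 1 < Nat.card E := hEq ▸ Nat.one_lt_pow two_ne_zero hp.out.one_lt
  have hlt : Nat.card (G ⧸ E) < n := by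
    rw [← hn, ← Subgroup.index_eq_card, ← card_mul_index E]
    exact lt_mul_of_one_lt_left (Nat.pos_of_ne_zero index_ne_zero_of_finite) hE1
  obtain ⟨hmet, hroot⟩ := ih _ hlt rfl (hG.to_quotient E) (X.map f) hX' hX'c
    (hX'card.trans_le ((card_le_card_group _).trans hEcard))
  have hsurj : ∀ e ∈ E, ∃ h : G, h ^ p = e := by
    intro e he
    by_cases hr : φ.range = ⊤
    · obtain ⟨x, hx⟩ := hr.ge (mem_top (⟨e, he⟩ : E))
      exact ⟨x, congrArg Subtype.val hx⟩
    exfalso
    have hsmall : Nat.card ↥(X.map f) < p ^ 2 := by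
      rw [hX'card]
      exact (lt_of_le_of_ne (card_le_card_group _) fun h => hr (eq_top_of_card_eq _ h)).trans_le
        hEcard
    obtain ⟨g', hg'⟩ := isCyclic_iff_exists_zpowers_eq_top.mp
      (isCyclic_of_small hp2 (hG.to_quotient E) (X.map f) (fun x => (hX' x).mpr) hsmall)
    obtain ⟨g, rfl⟩ := QuotientGroup.mk'_surjective E g'
    have htop : zpowers g ⊔ frattini G = ⊤ := eq_top_iff.mpr fun x _ => by
      obtain ⟨i, hi⟩ := mem_zpowers_iff.mp (hg'.ge (mem_top (f x)))
      rw [hf, ← map_zpow] at hi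
      rw [← mul_inv_cancel_left (g ^ i) x]
      exact mul_mem_sup (zpow_mem (mem_zpowers g) i) (hEF (QuotientGroup.eq.mp hi))
    haveI : IsCyclic G :=
      isCyclic_iff_exists_zpowers_eq_top.mpr ⟨g, frattini_nongenerating htop⟩
    haveI := Fintype.ofFinite G
    classical
    have h1 : Nat.card E ≤ p := by
      calc Nat.card E ≤ (Finset.univ.filter fun x : G => x ^ p = 1).card := by
            rw [Nat.card_eq_fintype_card]
            refine Finset.card_le_card_of_injOn (s := Finset.univ) (fun x : E => (x : G)) ?_ ?_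
            · intro x _; simp [hEp _ x.2]
            · intro x _ y _ h; exact Subtype.ext h
        _ ≤ p := IsCyclic.card_pow_eq_one_le hp.out.pos
    have : p ^ 2 ≤ p ^ 1 := by rw [pow_one, ← hEq]; exact h1
    exact absurd ((Nat.pow_le_pow_iff_right hp.out.one_lt).mp this) (by norm_num)
  have hroots : ∀ x ∈ frattini G, ∃ y : G, y ^ p = x := by
    intro x hx
    obtain ⟨y', hy'⟩ := hroot (f x)
      (frattini_le_comap_frattini_of_surjective (QuotientGroup.mk'_surjective E) hx)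
    obtain ⟨y, rfl⟩ := QuotientGroup.mk'_surjective E y'
    rw [hf, ← map_pow] at hy'
    have h1 : (y ^ p)⁻¹ * x ∈ E := QuotientGroup.eq.mp hy'
    obtain ⟨h, hh⟩ := hsurj _ h1
    refine ⟨h * y, ?_⟩
    rw [hmul h (hh ▸ h1) y, hh, ← Subgroup.mem_center_iff.mp (hEc h1) (y ^ p),
      mul_inv_cancel_left]
  refine ⟨?_, hroots⟩
  obtain ⟨a, b, ⟨r, hr⟩, hgen⟩ := exists_generators E hmet
  set e := (b ^ r)⁻¹ * (a * b * a⁻¹) with hedef
  have hec : ∀ g : G, Commute e g := fun g => (Subgroup.mem_center_iff.mp (hEc hr) g).symm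
  set u₀ := b ^ (r - 1) * e with hu₀
  have habu : a * b * a⁻¹ = b * u₀ := by
    rw [hu₀, ← mul_assoc, ← zpow_one_add, show 1 + (r - 1) = r by ring, hedef, mul_inv_cancel_left]
  have hau : a * u₀ * a⁻¹ = u₀ ^ r := by
    calc a * u₀ * a⁻¹ = (a * b * a⁻¹) ^ (r - 1) * e := by
          rw [hu₀, conj_zpow, ← mul_assoc, mul_assoc _ e a⁻¹, (hec a⁻¹).eq, ← mul_assoc]
      _ = u₀ ^ r := by
          rw [show a * b * a⁻¹ = b ^ r * e by rw [hedef, mul_inv_cancel_left],
            ((hec (b ^ r)).symm).mul_zpow, hu₀, ((hec (b ^ (r - 1))).symm).mul_zpow,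
            mul_assoc, ← zpow_add_one, show r - 1 + 1 = r by ring, ← zpow_mul, ← zpow_mul,
            mul_comm r]
  have hbu : Commute b u₀ := (Commute.self_zpow b (r - 1)).mul_right (hec b).symm
  have hS : closure ({a, b} ∪ (E : Set G)) = ⊤ := eq_top_iff.mpr fun g _ => by
    obtain ⟨i, j, hij⟩ := hgen g
    rw [← mul_inv_cancel_left (a ^ i * b ^ j) g]
    exact mul_mem (mul_mem (zpow_mem (subset_closure (by simp)) i)
      (zpow_mem (subset_closure (by simp)) j)) (subset_closure (Or.inr hij))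
  haveI hu₀n : (zpowers u₀).Normal := by
    refine normalizer_eq_top_iff.mp (top_le_iff.mp (hS.ge.trans ((closure_le _).mpr ?_)))
    intro s hs
    refine Subgroup.mem_normalizer_iff.mpr fun w => ?_
    have key : (∀ w ∈ zpowers u₀, s * w * s⁻¹ ∈ zpowers u₀) → (w ∈ zpowers u₀ ↔
        s * w * s⁻¹ ∈ zpowers u₀) := fun h => by
      have hmap : (zpowers u₀).map (MulAut.conj s).toMonoidHom = zpowers u₀ :=
        CfsgLib.Core.eq_of_le_of_card_le (by rintro _ ⟨v, hv, rfl⟩; exact h v hv)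
          (by rw [card_map_of_injective (f := (MulAut.conj s).toMonoidHom) (MulAut.conj s).injective])
      refine ⟨h w, fun hw => ?_⟩
      rw [← hmap] at hw
      obtain ⟨v, hv, hvw⟩ := hw
      have : v = w := (MulAut.conj s).injective hvw
      exact this ▸ hv
    refine key fun w hw => ?_
    obtain ⟨k, rfl⟩ := mem_zpowers_iff.mp hw
    rw [← conj_zpow]
    refine zpow_mem ?_ k
    rcases hs with hs | hs
    · rcases hs with rfl | rfl
      · rw [hau]; exact zpow_mem (mem_zpowers u₀) r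
      · rw [hbu.eq, mul_inv_cancel_right]; exact mem_zpowers u₀
    · rw [← Subgroup.mem_center_iff.mp (hEc hs) u₀, mul_inv_cancel_right]; exact mem_zpowers u₀
  have hcom : ⁅(⊤ : Subgroup G), (⊤ : Subgroup G)⁆ ≤ zpowers u₀ := by
    refine commutator_le_of_generators _ _ hS fun s hs t ht => ?_
    have hcE : ∀ s ∈ E, ∀ t : G, ⁅s, t⁆ = 1 ∧ ⁅t, s⁆ = 1 := fun s hs t =>
      ⟨commutatorElement_eq_one_iff_mul_comm.mpr (Subgroup.mem_center_iff.mp (hEc hs) t).symm,
        commutatorElement_eq_one_iff_mul_comm.mpr (Subgroup.mem_center_iff.mp (hEc hs) t)⟩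
    have hab : ⁅a, b⁆ ∈ zpowers u₀ := by
      rw [commutatorElement_def, habu]
      exact hu₀n.conj_mem _ (mem_zpowers u₀) b
    rcases hs with hs | hs
    · rcases ht with ht | ht
      · rcases hs with rfl | rfl <;> rcases ht with rfl | rfl
        · rw [commutatorElement_self]; exact one_mem _
        · exact hab
        · rw [← commutatorElement_inv]; exact inv_mem hab
        · rw [commutatorElement_self]; exact one_mem _
      · rw [(hcE t ht s).2]; exact one_mem _
    · rw [(hcE s hs t).1]; exact one_mem _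
  obtain ⟨g, ⟨hgu, hg1⟩, hgmax⟩ := Set.exists_max_image {g : G | u₀ ∈ zpowers g ∧ g ≠ 1} orderOf
    (Set.toFinite _) (by
      by_cases h1 : u₀ = 1
      · obtain ⟨w, hw⟩ := exists_ne (1 : G)
        exact ⟨w, h1 ▸ one_mem _, hw⟩
      · exact ⟨u₀, mem_zpowers u₀, h1⟩)
  have hgF : g ∉ frattini G := by
    intro hgF
    obtain ⟨y, hy⟩ := hroots g hgF
    have hy1 : y ≠ 1 := fun h => hg1 (by rw [← hy, h, one_pow])
    have hle : zpowers g ≤ zpowers y := zpowers_le.mpr (hy ▸ npow_mem_zpowers y p)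
    obtain ⟨k, hk⟩ := IsPGroup.iff_orderOf.mp hG y
    have hdvd : p ∣ orderOf y := by
      rw [hk]
      refine dvd_pow_self p fun h0 => hy1 ?_
      rw [h0, pow_zero, orderOf_eq_one_iff] at hk
      exact hk
    have hdiv : orderOf g = orderOf y / p := by rw [← hy, orderOf_pow_of_dvd hp.out.ne_zero hdvd]
    have := hgmax y ⟨hle hgu, hy1⟩
    rw [hdiv] at this
    exact absurd this (not_le.mpr (Nat.div_lt_self (orderOf_pos y) hp.out.one_lt))
  refine CfsgLib.RankTwo.metacyclic_of_generator hG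
    (fun x => CfsgLib.Core.pgroup_pow_mem_frattini hG x) (frattini G) le_rfl ?_ g hgF
    (hcom.trans (zpowers_le.mpr hgu))
  set q := QuotientGroup.mk' (frattini G) with hq
  have hqp : ∀ x : G, q x ^ (p : ℤ) = 1 := fun x => by
    rw [zpow_natCast, ← map_pow]
    exact (QuotientGroup.eq_one_iff _).mpr (CfsgLib.Core.pgroup_pow_mem_frattini hG x)
  calc Nat.card (G ⧸ frattini G) ≤ Nat.card (Fin p × Fin p) := by
        refine Nat.card_le_card_of_surjective
          (fun ij : Fin p × Fin p => q a ^ ((ij.1 : ℕ) : ℤ) * q b ^ ((ij.2 : ℕ) : ℤ)) fun w => ?_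
        obtain ⟨x, rfl⟩ := QuotientGroup.mk'_surjective _ w
        obtain ⟨i, j, hij⟩ := hgen x
        have hp0 : (p : ℤ) ≠ 0 := by exact_mod_cast hp.out.ne_zero
        have hred : ∀ (z : G) (i : ℤ), q z ^ ((i % (p : ℤ)).toNat : ℤ) = q z ^ i := fun z i => by
          rw [Int.toNat_of_nonneg (Int.emod_nonneg i hp0)]
          rw [Int.emod_def, zpow_sub, zpow_mul, hqp, one_zpow, inv_one, mul_one]
        have hlt : ∀ i : ℤ, (i % (p : ℤ)).toNat < p := fun i => by
          have := Int.emod_lt_of_pos i (b := (p : ℤ)) (by exact_mod_cast hp.out.pos)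
          have := Int.emod_nonneg i hp0
          omega
        refine ⟨(⟨_, hlt i⟩, ⟨_, hlt j⟩), ?_⟩
        show q a ^ ((i % (p : ℤ)).toNat : ℤ) * q b ^ ((j % (p : ℤ)).toNat : ℤ) = q x
        rw [hred, hred, ← map_zpow, ← map_zpow, ← map_mul]
        exact QuotientGroup.eq.mpr (hEF hij)
    _ = p ^ 2 := by rw [Nat.card_prod, Nat.card_fin, sq]

end CfsgLib.Core.RankTwoP
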