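import Mathlib

/-!
# The arithmetic in Dickson's count
-/

set_option autoImplicit false

namespace CfsgLib.Dickson

/-- The solutions of the class equation with two classes of semisimple centralizers. -/
theorem arith_two {p q n k d N g : ℕ} (hq : 3 ≤ q) (hodd : Odd q) (hpq : p ∣ q)
    (hn : 1 ≤ n) (hN : N = 1 + n * q) (hk : 2 ≤ k) (hkq : k ∣ q - 1) (hd : 2 ≤ d) (hpd : ¬ p ∣ d)
    (hg : g = N * (q * k))
    (heq : d * (N * q * (k - 1) + 2 * N - 2) = g * (d - 1)) :
    N = q + 1 ∨ (q = 3 ∧ k = 2 ∧ N = 10 ∧ d = 5) := by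
  have hN1 : 1 ≤ N := by omega
  have hz : ((d : ℤ) * (N * q * (k - 1) + 2 * N - 2)) = N * (q * k) * (d - 1) := by
    have h1 : ((d * (N * q * (k - 1) + 2 * N - 2) : ℕ) : ℤ) = ((g * (d - 1) : ℕ) : ℤ) := by
      rw [heq]
    rw [hg] at h1
    push_cast [Nat.cast_sub (show 2 ≤ N * q * (k - 1) + 2 * N by omega),
      Nat.cast_sub (show 1 ≤ k by omega), Nat.cast_sub (show 1 ≤ d by omega)] at h1
    exact h1
  have hzN : (N : ℤ) = 1 + n * q := by exact_mod_cast hN
  have hnq : (q : ℤ) + 1 ≤ N := by rw [hzN]; nlinarith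
  have he : (N : ℤ) * ((q : ℤ) * k - ((q : ℤ) - 2) * d) = 2 * d := by linear_combination hz
  set e : ℤ := (q : ℤ) * k - ((q : ℤ) - 2) * d with hedef
  have hepos : 0 < e := by
    by_contra h
    have h' : (N : ℤ) * e ≤ 0 :=
      mul_nonpos_of_nonneg_of_nonpos (by linarith [(Int.natCast_nonneg q : (0 : ℤ) ≤ q)]) (by linarith)
    have : (0 : ℤ) < d := by exact_mod_cast (by omega : 0 < d)
    linarith
  have hle : ((q : ℤ) + 1) * e ≤ 2 * d := by rw [← he]; exact mul_le_mul_of_nonneg_right hnq hepos.le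
  obtain ⟨c, hc⟩ := hkq
  have hc1 : 1 ≤ c := by rcases c with _ | c <;> omega
  have hcz : (q : ℤ) - 1 = k * c := by
    have : ((q - 1 : ℕ) : ℤ) = ((k * c : ℕ) : ℤ) := by rw [hc]
    push_cast [Nat.cast_sub (show 1 ≤ q by omega)] at this
    exact this
  have hlt : k < d := by
    have h1 : ((q : ℤ) + 1) * ((q : ℤ) * k) ≤ (q : ℤ) * ((q : ℤ) - 1) * d := by
      rw [hedef] at hle
      nlinarith
    have h2 : ((q : ℤ) + 1) * k ≤ ((q : ℤ) - 1) * d := by
      refine le_of_mul_le_mul_left (a := (q : ℤ)) ?_ (by positivity)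
      linarith
    have hk0 : (0 : ℤ) < k := by exact_mod_cast (by omega : 0 < k)
    have hq3 : (3 : ℤ) ≤ q := by exact_mod_cast hq
    by_contra h
    have h3 : (d : ℤ) ≤ k := by exact_mod_cast not_lt.1 h
    nlinarith
  obtain ⟨j, rfl⟩ := Nat.exists_eq_add_of_lt hlt
  by_cases hq5 : q = 3
  · subst hq5
    have hk2 : k = 2 := by
      have h2 : k ∣ 2 := ⟨c, by omega⟩
      have := Nat.le_of_dvd two_pos h2
      omega
    subst hk2
    rw [hedef] at hepos he
    push_cast at hepos he
    have hj3 : j ≤ 2 := by omega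
    interval_cases j
    · exfalso
      norm_num at he hpd
      have h3 : p ∣ 3 := hpq
      exact hpd h3
    · left; push_cast at he; omega
    · right
      exact ⟨rfl, rfl, by push_cast at he; omega, rfl⟩
  · have hq5' : 5 ≤ q := by
      obtain ⟨r, hr⟩ := hodd
      omega
    left
    have hj : (j + 1) * c ≤ 2 := by
      by_contra h
      have h3 : (3 : ℤ) ≤ ((j : ℤ) + 1) * c := by exact_mod_cast (by omega : 3 ≤ (j + 1) * c)
      rw [hedef] at hepos
      push_cast at hepos
      have hq5z : (5 : ℤ) ≤ q := by exact_mod_cast hq5'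
      have hc0 : (0 : ℤ) < c := by exact_mod_cast hc1
      nlinarith
    have hcle : c ≤ 2 := le_trans (Nat.le_mul_of_pos_left c (Nat.succ_pos j)) hj
    have hjle : j ≤ 1 := by
      have : (j + 1) * 1 ≤ 2 := le_trans (Nat.mul_le_mul_left _ hc1) hj
      omega
    rw [hedef] at he
    interval_cases c <;> interval_cases j
    · exfalso
      apply hpd
      rwa [show k + 0 + 1 = q by omega]
    · push_cast at he hcz
      have : (q : ℤ) = k + 1 := by linarith
      rw [this] at he
      have h4 : (N : ℤ) = q + 1 := by rw [this]; nlinarith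
      exact_mod_cast h4
    · push_cast at he hcz
      have : (q : ℤ) = 2 * k + 1 := by linarith
      rw [this] at he
      have h4 : (N : ℤ) = q + 1 := by rw [this]; nlinarith
      exact_mod_cast h4
    · omega

end CfsgLib.Dickson
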