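import Mathlib
import Cfsg.Agent.Lib.CoreBasic

/-!
# Counting in groups whose noncentral elements have abelian centralizers, semisimple version

The class equation of Dickson, as far as the number of Sylow `p`-subgroups.
-/

set_option autoImplicit false
set_option linter.style.haveILetI false

universe u v

namespace CfsgLib.Klein

open scoped Classical commutatorElement

/-- The properties of a finite subgroup of `SL₂` that the semisimple count uses. -/
structure Core (p : ℕ) {H : Type u} [Group H] (Z : Subgroup H) : Prop where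
  central : Z ≤ Subgroup.center H
  coprime : ¬ p ∣ Nat.card Z
  abel : ∀ h ∉ Z, ∀ g k : H, Commute g h → Commute k h → Commute g k
  conj_inv : ∀ h ∉ Z, ¬ p ∣ orderOf h → ∀ g : H, Commute (g * h * g⁻¹) h →
    g * h * g⁻¹ = h ∨ g * h * g⁻¹ = h⁻¹
  no_mixed : ∀ x : H, (∃ a, orderOf x = p ^ a) → x ≠ 1 → ∀ y : H, Commute y x →
    ¬ p ∣ orderOf y → y ∈ Z

variable {H : Type u} [Group H]

/-- The centralizer of an element. -/
abbrev cent (h : H) : Subgroup H := Subgroup.centralizer ({h} : Set H)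

theorem mem_cent {h c : H} : c ∈ cent h ↔ Commute c h :=
  Subgroup.mem_centralizer_singleton_iff

/-- If all stabilizers are the same normal subgroup, its index divides the number of points. -/
theorem index_dvd_of_free {C : Type u} [Group C] [Finite C] {α : Type v} [MulAction C α] [Finite α]
    {Z : Subgroup C} (h : ∀ a : α, MulAction.stabilizer C a = Z) : Z.index ∣ Nat.card α := by
  haveI := Fintype.ofFinite α
  rw [Nat.card_congr (MulAction.selfEquivSigmaOrbitsQuotientStabilizer C α), Nat.card_sigma]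
  refine Finset.dvd_sum fun ω _ => ?_
  rw [h]
  exact dvd_rfl

/-- Splitting an element into its `p`-part and its part of order prime to `p`. -/
theorem mem_of_parts [Finite H] {p : ℕ} [hp : Fact p.Prime] {g : H} {S : Subgroup H}
    (h1 : ∀ m : ℕ, ¬ p ∣ orderOf (g ^ m) → g ^ m ∈ S)
    (h2 : ∀ m : ℕ, (∃ a, orderOf (g ^ m) = p ^ a) → g ^ m ∈ S) : g ∈ S := by
  obtain ⟨a, m, hm, he⟩ := Nat.exists_eq_pow_mul_and_not_dvd (orderOf_pos g).ne' p hp.out.ne_one
  have e1 : orderOf (g ^ (p ^ a)) = m := by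
    rw [orderOf_pow' _ (pow_ne_zero a hp.out.ne_zero), he, Nat.gcd_mul_right_left,
      Nat.mul_div_cancel_left _ (pow_pos hp.out.pos a)]
  have hm0 : m ≠ 0 := fun e => hm (e ▸ dvd_zero p)
  have e2 : orderOf (g ^ m) = p ^ a := by
    rw [orderOf_pow' _ hm0, he, Nat.gcd_mul_left_left, Nat.mul_div_cancel _ (Nat.pos_of_ne_zero hm0)]
  obtain ⟨u, v, huv⟩ : IsCoprime ((p ^ a : ℕ) : ℤ) (m : ℤ) :=
    Nat.isCoprime_iff_coprime.2 (((hp.out.coprime_iff_not_dvd).2 hm).pow_left a)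
  rw [← zpow_one g, ← huv, zpow_add, mul_comm u, mul_comm v, zpow_mul, zpow_mul, zpow_natCast,
    zpow_natCast]
  exact mul_mem (zpow_mem (h1 _ (by rw [e1]; exact hm)) u) (zpow_mem (h2 _ ⟨a, e2⟩) v)

variable {p : ℕ} [hp : Fact p.Prime] [Finite H] {Z : Subgroup H} (ax : Core p Z)

include ax

theorem Core.commute_z {z : H} (hz : z ∈ Z) (g : H) : Commute z g :=
  (Subgroup.mem_center_iff.1 (ax.central hz) g).symm

theorem Core.z_le_cent (h : H) : Z ≤ cent h := fun _ hz => mem_cent.2 (ax.commute_z hz h)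

theorem Core.not_mem_of_ppow {x : H} (hx : ∃ a, orderOf x = p ^ a) (h1 : x ≠ 1) : x ∉ Z := by
  intro hz
  obtain ⟨a, ha⟩ := hx
  have hd : orderOf x ∣ Nat.card Z := Subgroup.orderOf_dvd_natCard Z hz
  rw [ha] at hd
  rcases a with _ | a
  · exact h1 (orderOf_eq_one_iff.1 (by rw [ha, pow_zero]))
  · exact ax.coprime ((dvd_pow_self p (Nat.succ_ne_zero a)).trans hd)

theorem Core.cent_eq {h x : H} (hh : h ∉ Z) (hx : x ∉ Z) (hc : Commute x h) :
    cent x = cent h := by
  ext c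
  exact ⟨fun hcx => mem_cent.2 (ax.abel x hx c h (mem_cent.1 hcx) hc.symm),
    fun hch => mem_cent.2 (ax.abel h hh c x (mem_cent.1 hch) hc)⟩

theorem Core.regular_of_mem_cent {h c : H} (hh : h ∉ Z) (hr : ¬ p ∣ orderOf h)
    (hc : Commute c h) : ¬ p ∣ orderOf c := by
  intro hd
  have ho : orderOf (c ^ (orderOf c / p)) = p := orderOf_pow_orderOf_div (orderOf_pos c).ne' hd
  refine hh (ax.no_mixed _ ⟨1, by rw [ho, pow_one]⟩ (fun e => ?_) h (hc.pow_left _).symm hr)
  rw [e, orderOf_one] at ho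
  exact hp.out.ne_one ho.symm

theorem Core.not_dvd_card_cent {h : H} (hh : h ∉ Z) (hr : ¬ p ∣ orderOf h) :
    ¬ p ∣ Nat.card (cent h) := by
  intro hd
  obtain ⟨c, hc⟩ := exists_prime_orderOf_dvd_card' (G := cent h) p hd
  exact ax.regular_of_mem_cent hh hr (mem_cent.1 c.2) (by rw [Subgroup.orderOf_coe, hc])

theorem Core.map_cent (h g : H) :
    ∀ y, y ∈ cent (g * h * g⁻¹) ↔ g⁻¹ * y * g ∈ cent h := by
  intro y
  rw [mem_cent, mem_cent]
  refine ⟨fun hc => ?_, fun hc => ?_⟩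
  · have := hc.map (MulAut.conj g⁻¹).toMonoidHom
    simpa [mul_assoc] using this
  · have := hc.map (MulAut.conj g).toMonoidHom
    simpa [mul_assoc] using this

theorem Core.mem_normalizer_cent_iff {h g : H} (hh : h ∉ Z) :
    g ∈ Subgroup.normalizer (cent h : Set H) ↔ g * h * g⁻¹ ∈ cent h := by
  refine ⟨fun hg => (Subgroup.mem_normalizer_iff.1 hg h).1 (mem_cent.2 (Commute.refl h)), fun hg => ?_⟩
  have hnZ : g * h * g⁻¹ ∉ Z := fun e => hh (by
    have h1 := ax.commute_z e g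
    have h2 : g * h * g⁻¹ = h := by
      calc g * h * g⁻¹ = g⁻¹ * ((g * h * g⁻¹) * g) := by rw [h1.eq]; group
        _ = h := by group
    rwa [h2] at e)
  rw [Subgroup.mem_normalizer_iff]
  intro y
  show y ∈ cent h ↔ g * y * g⁻¹ ∈ cent h
  have h1 := ax.map_cent h g (g * y * g⁻¹)
  rw [show g⁻¹ * (g * y * g⁻¹) * g = y by group, ax.cent_eq hh hnZ (mem_cent.1 hg)] at h1
  exact h1.symm

theorem Core.card_normalizer_cent {h : H} (hh : h ∉ Z) (hr : ¬ p ∣ orderOf h) :
    Nat.card (Subgroup.normalizer (cent h : Set H)) = Nat.card (cent h) ∨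
      Nat.card (Subgroup.normalizer (cent h : Set H)) = 2 * Nat.card (cent h) := by
  set N := Subgroup.normalizer (cent h : Set H) with hN
  have hCN : cent h ≤ N := Subgroup.le_normalizer
  have hmul : Nat.card (cent h) * (cent h).relIndex N = Nat.card N :=
    CfsgLib.Core.card_mul_relIndex hCN
  by_cases hle : N ≤ cent h
  · exact Or.inl (le_antisymm (Subgroup.card_le_of_le hle) (Subgroup.card_le_of_le hCN))
  right
  obtain ⟨a, haN, haC⟩ := SetLike.not_le_iff_exists.1 hle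
  have hinv : ∀ g ∈ N, g ∉ cent h → g * h * g⁻¹ = h⁻¹ := fun g hg hgC =>
    (ax.conj_inv h hh hr g (mem_cent.1 ((ax.mem_normalizer_cent_iff hh).1 hg))).resolve_left
      fun e => hgC (mem_cent.2 (mul_inv_eq_iff_eq_mul.1 e))
  have h2 : (cent h).relIndex N = 2 := by
    rw [Subgroup.relIndex, Subgroup.index_eq_two_iff]
    refine ⟨⟨a, haN⟩, fun b => ?_⟩
    simp only [Subgroup.mem_subgroupOf, Subgroup.coe_mul]
    by_cases hb : (b : H) ∈ cent h
    · exact Or.inr ⟨hb, fun hba => haC (by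
        simpa using mul_mem (inv_mem hb) hba)⟩
    · refine Or.inl ⟨mem_cent.2 (mul_inv_eq_iff_eq_mul.1 ?_), hb⟩
      calc (b : H) * a * h * ((b : H) * a)⁻¹ = (b : H) * (a * h * a⁻¹) * (b : H)⁻¹ := by group
        _ = ((b : H) * h * (b : H)⁻¹)⁻¹ := by rw [hinv a haN haC]; group
        _ = h := by rw [hinv b b.2 hb, inv_inv]
  rw [← hmul, h2, mul_comm]

omit ax

/-- The elements outside `Z` conjugate into `C`. -/
noncomputable def classUnion [Fintype H] (Z C : Subgroup H) : Finset H :=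
  Finset.univ.filter fun x => x ∉ Z ∧ ∃ g, g * x * g⁻¹ ∈ C

theorem mem_classUnion [Fintype H] {C : Subgroup H} {x : H} :
    x ∈ classUnion Z C ↔ x ∉ Z ∧ ∃ g, g * x * g⁻¹ ∈ C := by
  simp [classUnion]

include ax

theorem Core.not_mem_conj {x : H} (hx : x ∉ Z) (g : H) : g * x * g⁻¹ ∉ Z := fun e => hx (by
  have h1 := ax.commute_z e g⁻¹
  have : x = g * x * g⁻¹ := by
    calc x = g⁻¹ * (g * x * g⁻¹) * g := by group
      _ = g * x * g⁻¹ := by rw [← h1.eq]; group
  rw [this]; exact e)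

theorem Core.classUnion_card [Fintype H] {h : H} (hh : h ∉ Z) :
    (classUnion Z (cent h)).card * Nat.card (Subgroup.normalizer (cent h : Set H)) =
      Nat.card H * (Nat.card (cent h) - Nat.card Z) := by
  set N := Subgroup.normalizer (cent h : Set H) with hN
  have key : ∀ (x g₁ g₂ : H), x ∉ Z → g₁ * x * g₁⁻¹ ∈ cent h → g₂ * x * g₂⁻¹ ∈ cent h →
      g₁ * g₂⁻¹ ∈ N := by
    intro x g₁ g₂ hx h1 h2
    set y := g₂ * x * g₂⁻¹ with hy
    have hyZ : y ∉ Z := ax.not_mem_conj hx g₂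
    have hcy := ax.cent_eq hh hyZ (mem_cent.1 h2)
    rw [hN, ← hcy, ax.mem_normalizer_cent_iff hyZ, hcy]
    rw [show g₁ * g₂⁻¹ * y * (g₁ * g₂⁻¹)⁻¹ = g₁ * x * g₁⁻¹ by rw [hy]; group]
    exact h1
  have hw : ∀ x : classUnion Z (cent h), ∃ g, g * (x : H) * g⁻¹ ∈ cent h := fun x =>
    (mem_classUnion.1 x.2).2
  choose w hw using hw
  let C' := {y : H // y ∈ cent h ∧ y ∉ Z}
  have hsrc : ∀ gy : H × C', gy.1⁻¹ * gy.2.1 * gy.1 ∈ classUnion Z (cent h) := fun gy => by
    refine mem_classUnion.2 ⟨?_, gy.1, ?_⟩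
    · have := ax.not_mem_conj gy.2.2.2 gy.1⁻¹
      simpa using this
    · rw [show gy.1 * (gy.1⁻¹ * gy.2.1 * gy.1) * gy.1⁻¹ = gy.2.1 by group]
      exact gy.2.2.1
  let e : H × C' ≃ classUnion Z (cent h) × N :=
    { toFun := fun gy => (⟨_, hsrc gy⟩, ⟨gy.1 * (w ⟨_, hsrc gy⟩)⁻¹, key _ _ _
        (mem_classUnion.1 (hsrc gy)).1
        (by rw [show gy.1 * (gy.1⁻¹ * gy.2.1 * gy.1) * gy.1⁻¹ = gy.2.1 by group]; exact gy.2.2.1)
        (hw ⟨_, hsrc gy⟩)⟩)
      invFun := fun xn => (xn.2.1 * w xn.1,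
        ⟨xn.2.1 * w xn.1 * (xn.1 : H) * (xn.2.1 * w xn.1)⁻¹, by
          refine ⟨?_, ax.not_mem_conj (mem_classUnion.1 xn.1.2).1 _⟩
          rw [show xn.2.1 * w xn.1 * (xn.1 : H) * (xn.2.1 * w xn.1)⁻¹ =
            xn.2.1 * (w xn.1 * (xn.1 : H) * (w xn.1)⁻¹) * xn.2.1⁻¹ by group]
          exact (Subgroup.mem_normalizer_iff.1 xn.2.2 _).1 (hw xn.1)⟩)
      left_inv := fun gy => by
        obtain ⟨g, y⟩ := gy
        simp only [inv_mul_cancel_right]
        refine Prod.ext rfl (Subtype.ext ?_)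
        simp only
        group
      right_inv := fun xn => by
        obtain ⟨⟨x, hx⟩, ⟨n, hn⟩⟩ := xn
        have e1 : (n * w ⟨x, hx⟩)⁻¹ * (n * w ⟨x, hx⟩ * x * (n * w ⟨x, hx⟩)⁻¹) *
            (n * w ⟨x, hx⟩) = x := by group
        refine Prod.ext (Subtype.ext e1) (Subtype.ext ?_)
        simp only [e1, mul_inv_cancel_right] }
  have hcard := Nat.card_congr e
  rw [Nat.card_prod, Nat.card_prod, Nat.card_eq_finsetCard] at hcard
  rw [← hcard]
  congr 1
  have h1 : Nat.card C' + Nat.card Z = Nat.card (cent h) := by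
    have e2 : (cent h : Set H) = {y | y ∈ cent h ∧ y ∉ Z} ∪ (Z : Set H) := by
      ext y
      by_cases hy : y ∈ Z
      · simp [hy, ax.z_le_cent h hy]
      · simp [hy]
    have e3 : Disjoint {y | y ∈ cent h ∧ y ∉ Z} (Z : Set H) :=
      Set.disjoint_left.2 fun y hy hy' => hy.2 hy'
    have e4 := Set.ncard_union_eq e3 (Set.toFinite _) (Set.toFinite _)
    rw [← e2] at e4
    rw [← Nat.card_coe_set_eq, ← Nat.card_coe_set_eq, ← Nat.card_coe_set_eq] at e4
    exact e4.symm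
  omega

theorem Core.classUnion_disjoint [Fintype H] {h h' : H} (hh : h ∉ Z) (hh' : h' ∉ Z)
    (hne : h' ∉ classUnion Z (cent h)) :
    Disjoint (classUnion Z (cent h')) (classUnion Z (cent h)) := by
  rw [Finset.disjoint_left]
  intro x hx' hx
  obtain ⟨hxZ, g', hg'⟩ := mem_classUnion.1 hx'
  obtain ⟨-, g, hg⟩ := mem_classUnion.1 hx
  refine hne (mem_classUnion.2 ⟨hh', g * g'⁻¹, ?_⟩)
  have h1 := ax.cent_eq hh' (ax.not_mem_conj hxZ g') (mem_cent.1 hg')
  have h2 := ax.cent_eq hh (ax.not_mem_conj hxZ g) (mem_cent.1 hg)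
  have hmem : h' ∈ cent (g' * x * g'⁻¹) := by rw [h1]; exact mem_cent.2 (Commute.refl h')
  rw [ax.map_cent] at hmem
  rw [← h2, ax.map_cent]
  rwa [show g⁻¹ * (g * g'⁻¹ * h' * (g * g'⁻¹)⁻¹) * g = g'⁻¹ * h' * g' by group]

theorem Core.mem_classUnion_self [Fintype H] {h : H} (hh : h ∉ Z) :
    h ∈ classUnion Z (cent h) :=
  mem_classUnion.2 ⟨hh, 1, mem_cent.2 (by simp)⟩

/-- The size of the class of a centralizer of order prime to `p`. -/
theorem Core.class_data [Fintype H] {h : H} (hh : h ∉ Z) (hr : ¬ p ∣ orderOf h) :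
    ∃ s, (s = 1 ∨ s = 2) ∧ 2 ≤ Z.relIndex (cent h) ∧ ¬ p ∣ Z.relIndex (cent h) ∧
      Nat.card (cent h) = Nat.card Z * Z.relIndex (cent h) ∧
      Nat.card (Subgroup.normalizer (cent h : Set H)) = s * Nat.card (cent h) ∧
      (classUnion Z (cent h)).card * (s * Z.relIndex (cent h)) =
        Nat.card H * (Z.relIndex (cent h) - 1) := by
  have hc : Nat.card Z * Z.relIndex (cent h) = Nat.card (cent h) :=
    CfsgLib.Core.card_mul_relIndex (ax.z_le_cent h)
  set d := Z.relIndex (cent h) with hd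
  have hd0 : d ≠ 0 := Subgroup.index_ne_zero_of_finite
  have hd1 : d ≠ 1 := fun e => hh (Subgroup.relIndex_eq_one.1 e (mem_cent.2 (Commute.refl h)))
  have hpd : ¬ p ∣ d := fun e => ax.not_dvd_card_cent hh hr (hc ▸ e.trans (dvd_mul_left _ _))
  have hU := ax.classUnion_card hh
  obtain ⟨s, hs, hN⟩ : ∃ s, (s = 1 ∨ s = 2) ∧
      Nat.card (Subgroup.normalizer (cent h : Set H)) = s * Nat.card (cent h) := by
    rcases ax.card_normalizer_cent hh hr with e | e
    · exact ⟨1, Or.inl rfl, by rw [e, one_mul]⟩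
    · exact ⟨2, Or.inr rfl, e⟩
  refine ⟨s, hs, by omega, hpd, hc.symm, hN, ?_⟩
  rw [hN, ← hc, ← Nat.mul_sub_one] at hU
  apply Nat.eq_of_mul_eq_mul_left (Nat.card_pos (α := Z))
  calc Nat.card Z * ((classUnion Z (cent h)).card * (s * d))
      = (classUnion Z (cent h)).card * (s * (Nat.card Z * d)) := by ring
    _ = Nat.card H * (Nat.card Z * (d - 1)) := hU
    _ = _ := by ring


end CfsgLib.Klein
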