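import Cfsg.Agent.Lib.DicksonMain
import Cfsg.Agent.Lib.DicksonKleinCount

/-!
# The centraliser axioms for `SL₂` in every characteristic
-/

set_option autoImplicit false
set_option linter.style.haveILetI false

universe u v

namespace CfsgLib.Dickson

open Matrix
open scoped Classical commutatorElement

variable {F : Type u} [Field F]

theorem eq_upperU_any {g : SL F} (hc : Commute g (upperU 1)) (ht : g.1 0 0 + g.1 1 1 = 2) :
    g = upperU (g.1 0 1) := by
  obtain ⟨e1, e2⟩ := commute_upperU_iff.1 hc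
  have hd := det_eq g
  have ha : g.1 0 0 = 1 := by
    have h : (g.1 0 0 - 1) ^ 2 = 0 := by
      linear_combination hd - g.1 0 0 * (-e2) + g.1 0 1 * e1 - (ht + e2)
    exact sub_eq_zero.1 ((pow_eq_zero_iff two_ne_zero).1 h)
  refine sl_ext ?_ ?_ ?_ ?_ <;> simp [coe_upperU, ha, e1]
  exact e2 ▸ ha

variable {p : ℕ} [hp : Fact p.Prime] [CharP F p] {L : Type v} [Group L] [Finite L]

omit hp [CharP F p] in
theorem isScal_mul {g k : SL F} (hg : IsScal g) (hk : IsScal k) : IsScal (g * k) := by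
  obtain ⟨g1, g2, g3⟩ := hg
  obtain ⟨k1, k2, k3⟩ := hk
  refine ⟨?_, ?_, ?_⟩ <;> simp [Matrix.mul_apply, Fin.sum_univ_two, g1, g2, g3, k1, k2, k3]

omit hp [CharP F p] in
theorem isScal_pow {g : SL F} (hg : IsScal g) : ∀ n : ℕ, IsScal (g ^ n)
  | 0 => by refine ⟨?_, ?_, ?_⟩ <;> simp
  | n + 1 => by rw [pow_succ]; exact isScal_mul (isScal_pow hg n) hg

omit [Finite L] in
/-- A regular element whose `p`th power is scalar is scalar. -/
theorem isScal_of_pow_char {g : SL F} (hord : ¬ p ∣ orderOf g) (h : IsScal (g ^ p)) : IsScal g := by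
  by_cases h0 : orderOf g = 0
  · exact absurd (h0 ▸ dvd_zero p) hord
  by_cases h1 : orderOf g = 1
  · rw [orderOf_eq_one_iff.1 h1]; refine ⟨?_, ?_, ?_⟩ <;> simp
  obtain ⟨m, hm⟩ := Nat.exists_mul_mod_eq_one_of_coprime ((hp.out.coprime_iff_not_dvd).2 hord) (by omega)
  have : g = (g ^ p) ^ m := by
    rw [← pow_mul, ← pow_mod_orderOf, hm.2, pow_one]
  rw [this]
  exact isScal_pow h m

omit [Finite L] in
/-- `(g - c)² = 0` makes a regular element scalar. -/
theorem isScal_of_sq_zero {g : SL F} (hord : ¬ p ∣ orderOf g) (c : F)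
    (h : (g.1 - c • (1 : Matrix (Fin 2) (Fin 2) F)) * (g.1 - c • 1) = 0) : IsScal g := by
  refine isScal_of_pow_char (p := p) hord ?_
  have h1 : g.1 ^ p = c ^ p • (1 : Matrix (Fin 2) (Fin 2) F) := by
    haveI : CharP (Matrix (Fin 2) (Fin 2) F) p := inferInstance
    have h2 : (g.1 - c • (1 : Matrix (Fin 2) (Fin 2) F)) ^ p = g.1 ^ p - (c • 1) ^ p :=
      sub_pow_char_of_commute p ((Commute.one_right g.1).smul_right c)
    obtain ⟨k, hk⟩ := Nat.exists_eq_add_of_le hp.out.two_le
    rw [hk, pow_add, pow_two, h, zero_mul, ← hk, smul_pow, one_pow] at h2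
    exact sub_eq_zero.1 h2.symm
  have h3 : (g ^ p).1 = c ^ p • (1 : Matrix (Fin 2) (Fin 2) F) := (Matrix.SpecialLinearGroup.coe_pow g p).trans h1
  refine ⟨?_, ?_, ?_⟩ <;> simp [h3]

omit [Finite L] in
theorem isScal_of_trace_any {g : SL F} (hord : ¬ p ∣ orderOf g)
    (e : (g.1 0 0 + g.1 1 1) ^ 2 = 4) : IsScal g := by
  by_cases hp2 : p = 2
  · subst hp2
    refine isScal_of_sq_zero (p := 2) hord 1 ?_
    have h2 : (2 : F) = 0 := by exact_mod_cast CharP.cast_eq_zero F 2
    have ht : g.1 0 0 + g.1 1 1 = 2 := by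
      have h' : (g.1 0 0 + g.1 1 1) ^ 2 = 0 := by linear_combination e + 2 * h2
      rw [(pow_eq_zero_iff two_ne_zero).1 h', h2]
    rw [one_smul]; exact sub_one_sq ht
  · exact isScal_of_trace (p := p) hp2 hord e

omit [Finite L] in
theorem conj_eq_or_inv_any {g h : SL F} (hh : ¬ IsScal h) (hord : ¬ p ∣ orderOf h)
    (hc : Commute (g * h * g⁻¹) h) : g * h * g⁻¹ = h ∨ g * h * g⁻¹ = h⁻¹ := by
  by_cases hp2 : p = 2
  swap
  · exact conj_eq_or_inv (p := p) hp2 hh hord hc
  subst hp2
  have h2 : (2 : F) = 0 := by exact_mod_cast CharP.cast_eq_zero F 2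
  set k := g * h * g⁻¹ with hk
  have htr : k.1 0 0 + k.1 1 1 = h.1 0 0 + h.1 1 1 := by
    have e : Matrix.trace k.1 = Matrix.trace h.1 := by
      rw [hk, Matrix.SpecialLinearGroup.coe_mul, Matrix.trace_mul_comm,
        ← Matrix.SpecialLinearGroup.coe_mul, ← mul_assoc, inv_mul_cancel, one_mul]
    simpa [Matrix.trace, Fin.sum_univ_two] using e
  obtain ⟨β, b1, b2, b3⟩ := exists_coeff hh hc
  have ht : h.1 0 0 + h.1 1 1 ≠ 0 := fun e => hh (isScal_of_trace_any (p := 2) hord (by rw [e]; linear_combination -2 * h2))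
  have hβ : β = 1 := by
    refine mul_right_cancel₀ ht ?_
    linear_combination -b3 + htr + (-k.1 1 1 + β * h.1 1 1) * h2
  subst hβ
  have hd := det_eq h
  have hd' := det_eq k
  rw [b1, b2, one_mul, one_mul] at hd'
  have key : (k.1 0 0 - h.1 0 0) * (k.1 0 0 - h.1 1 1) = 0 := by
    linear_combination hd - hd' + k.1 0 0 * htr
  rcases mul_eq_zero.1 key with e | e
  · left
    exact sl_ext (sub_eq_zero.1 e) (by rw [b1, one_mul]) (by rw [b2, one_mul]) (by linear_combination htr - e)
  · right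
    refine sl_ext ?_ ?_ ?_ ?_ <;> simp only [Matrix.SpecialLinearGroup.coe_inv, Matrix.adjugate_fin_two]
    · simp; linear_combination e
    · simp [b1]; linear_combination h.1 0 1 * h2
    · simp [b2]; linear_combination h.1 1 0 * h2
    · simp; linear_combination htr - e

omit [Finite L] in
theorem not_isScal_of_ppow {ι : L →* SL F} (hι : Function.Injective ι) {x : L}
    (hx : ∃ a, orderOf x = p ^ a) (hx1 : x ≠ 1) : ¬ IsScal (ι x) := by
  rintro ⟨e1, e2, e3⟩
  refine hx1 (hι ?_)
  rw [map_one]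
  have ht := trace_of_ppow (p := p) (ι := ι) hx
  have hd := det_eq (ι x)
  rw [e1, e2, ← e3] at hd
  rw [← e3] at ht
  have ha : (ι x).1 0 0 = 1 := sub_eq_zero.1 ((pow_eq_zero_iff two_ne_zero).1
    (show ((ι x).1 0 0 - 1) ^ 2 = 0 by linear_combination hd - ht))
  exact sl_ext (by simpa using ha) (by simpa using e1) (by simpa using e2) (by simpa using e3 ▸ ha)

theorem core_scalPart {ι : L →* SL F} (hι : Function.Injective ι) : Klein.Core p (scalPart ι) where
  central z hz := Subgroup.mem_center_iff.2 fun g =>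
    (Commute.of_map hι ((mem_scalPart.1 hz).commute (ι g))).eq.symm
  coprime h := by
    obtain ⟨z, hz⟩ := exists_prime_orderOf_dvd_card' (G := scalPart ι) p h
    rw [← Subgroup.orderOf_coe] at hz
    exact not_isScal_of_ppow (p := p) hι ⟨1, by rw [hz, pow_one]⟩
      (fun e => by rw [e, orderOf_one] at hz; exact hp.out.ne_one hz.symm) (mem_scalPart.1 z.2)
  abel h hh g k hg hk := Commute.of_map hι (commute_of_commute
    (fun e => hh (mem_scalPart.2 e)) (hg.map ι) (hk.map ι))
  conj_inv h hh hr g hc := by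
    have h1 := conj_eq_or_inv_any (p := p) (g := ι g) (fun e => hh (mem_scalPart.2 e))
      (by rwa [orderOf_injective ι hι]) (by rw [← map_inv, ← map_mul, ← map_mul]; exact hc.map ι)
    rw [← map_inv, ← map_mul, ← map_mul, ← map_inv] at h1
    exact h1.imp (fun e => hι e) (fun e => hι e)
  no_mixed x hx hx1 y hc hr := by
    rw [mem_scalPart]
    obtain ⟨β, b1, b2, b3⟩ := exists_coeff (not_isScal_of_ppow (p := p) hι hx hx1) (hc.map ι)
    refine isScal_of_sq_zero (p := p) (by rwa [orderOf_injective ι hι]) ((ι y).1 0 0 - β * ((ι x).1 0 0 - 1)) ?_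
    have e : (ι y).1 - ((ι y).1 0 0 - β * ((ι x).1 0 0 - 1)) • (1 : Matrix (Fin 2) (Fin 2) F) = β • ((ι x).1 - 1) := by
      ext i j
      fin_cases i <;> fin_cases j <;> simp
      · linear_combination b1
      · linear_combination b2
      · linear_combination -b3
    rw [e, Matrix.smul_mul, Matrix.mul_smul, sub_one_sq (trace_of_ppow (p := p) (ι := ι) hx), smul_zero, smul_zero]

theorem exists_coords_any {ι : L →* SL F} (hι : Function.Injective ι)
    (hdvd : p ∣ Nat.card L) (Q : Sylow p L) :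
    ∃ x, x ∈ (Q : Subgroup L) ∧ x ≠ 1 ∧ ∃ f : SL F →* SL F, Function.Injective f ∧
      f (ι x) = upperU 1 ∧
      (∀ q ∈ (Q : Subgroup L), ∃ a, f (ι q) = upperU a) ∧
      (∀ g : L, g ∈ Subgroup.normalizer ((Q : Subgroup L) : Set L) ↔ (f (ι g)).1 1 0 = 0) := by
  have hne : (Q : Subgroup L) ≠ ⊥ := Q.ne_bot_of_dvd_card hdvd
  haveI : Nontrivial (Q : Subgroup L) := (Subgroup.nontrivial_iff_ne_bot _).2 hne
  haveI := Q.2.center_nontrivial
  obtain ⟨z, hz⟩ := exists_ne (1 : Subgroup.center (Q : Subgroup L))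
  set x : L := ((z : (Q : Subgroup L)) : L) with hx
  have hxQ : x ∈ (Q : Subgroup L) := (z : (Q : Subgroup L)).2
  have hx1 : x ≠ 1 := fun e => hz (Subtype.ext (Subtype.ext e))
  have hxc : ∀ q ∈ (Q : Subgroup L), Commute q x := fun q hq =>
    congrArg Subtype.val (Subgroup.mem_center_iff.1 z.2 ⟨q, hq⟩)
  obtain ⟨P, hP⟩ := exists_conj_upper (trace_of_ppow (p := p) (ι := ι) (ppow_of_mem hxQ))
    (fun e => hx1 (hι (by rw [e, map_one])))
  set f := (conjHom P).comp ι with hf
  have hfi : Function.Injective f := (conjHom_injective P).comp hι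
  have hQu : ∀ q ∈ (Q : Subgroup L), ∃ a, f q = upperU a := by
    intro q hq
    refine ⟨(f q).1 0 1, eq_upperU_any ?_ (trace_of_ppow (p := p) (ι := f) (ppow_of_mem hq))⟩
    have h3 := (hxc q hq).map f
    rwa [show f x = upperU 1 from hP] at h3
  refine ⟨x, hxQ, hx1, conjHom P, conjHom_injective P, hP, hQu, fun g => ⟨fun hg => ?_, fun hg => ?_⟩⟩
  · have h3 := (hxc _ ((Subgroup.mem_normalizer_iff.1 hg x).1 hxQ)).map f
    rw [map_mul, map_mul, map_inv, show f x = upperU 1 from hP] at h3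
    exact upper_of_conj_commute h3
  · have key : ∀ g' : L, (f g').1 1 0 = 0 → ∀ q ∈ (Q : Subgroup L), g' * q * g'⁻¹ ∈ (Q : Subgroup L) := by
      intro g' hg' q hq
      obtain ⟨a, ha⟩ := hQu q hq
      obtain ⟨k, hk⟩ := ppow_of_mem hq
      refine mem_sylow_of_ppow ?_ ⟨k, ((MulAut.conj g').orderOf_eq q).trans hk⟩
      rw [Subgroup.mem_normalizer_iff]
      intro r
      have hcom : ∀ r ∈ (Q : Subgroup L), Commute (g' * q * g'⁻¹) r := by
        intro r hr
        obtain ⟨b, hb⟩ := hQu r hr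
        have hns : ¬ IsScal (upperU (1 : F)) := fun e => by
          have := e.1
          simp [coe_upperU] at this
        refine Commute.of_map hfi ?_
        rw [map_mul, map_mul, map_inv, ha, hb]
        refine commute_of_commute hns (conj_upperU_commute hg' a) ?_
        show upperU b * upperU 1 = upperU 1 * upperU b
        rw [upperU_add, upperU_add, add_comm]
      constructor
      · intro hr
        rw [(hcom r hr).eq, mul_inv_cancel_right]
        exact hr
      · intro hr
        have h1 := hcom _ hr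
        set c := g' * q * g'⁻¹
        have h3 : c * r * c⁻¹ = r := by
          calc c * r * c⁻¹ = c⁻¹ * (c * (c * r * c⁻¹)) := by group
            _ = c⁻¹ * ((c * r * c⁻¹) * c) := by rw [h1.eq]
            _ = r := by group
        rwa [h3] at hr
    rw [Subgroup.mem_normalizer_iff]
    refine fun q => ⟨key g hg q, fun hq => ?_⟩
    have := key g⁻¹ (by
      rw [map_inv]
      simp [Matrix.adjugate_fin_two, show (f g).1 1 0 = 0 from hg]) _ hq
    simpa [mul_assoc] using this

theorem axioms_scalPart_any {ι : L →* SL F} (hι : Function.Injective ι)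
    (hdvd : p ∣ Nat.card L) : Axioms p (scalPart ι) where
  central := (core_scalPart (p := p) hι).central
  coprime := (core_scalPart (p := p) hι).coprime
  abel := (core_scalPart (p := p) hι).abel
  conj_inv := (core_scalPart (p := p) hι).conj_inv
  no_mixed := (core_scalPart (p := p) hι).no_mixed
  comm_mem Q g hg k hk := by
    obtain ⟨x, -, -, f, hf, hfx, -, hN⟩ := exists_coords_any hι hdvd Q
    have hgu := (hN g).1 hg
    have hku := (hN k).1 hk
    have ht : (f (ι ⁅g, k⁆)).1 0 0 + (f (ι ⁅g, k⁆)).1 1 1 = 2 := by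
      have d1 := det_eq (f (ι g))
      have d2 := det_eq (f (ι k))
      simp only [commutatorElement_def, map_mul, map_inv]
      simp [Matrix.mul_apply, Fin.sum_univ_two, Matrix.adjugate_fin_two, hgu, hku]
      rw [hgu] at d1
      rw [hku] at d2
      linear_combination 2 * (f (ι k)).1 0 0 * (f (ι k)).1 1 1 * d1 + 2 * d2
    have hp1 : ⁅g, k⁆ ^ p = 1 := by
      refine hι (hf ?_)
      rw [map_pow, map_pow, map_one, map_one]
      exact pow_eq_one_of_trace ht
    obtain ⟨a, -, ha⟩ := (Nat.dvd_prime_pow hp.out).1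
      (show orderOf ⁅g, k⁆ ∣ p ^ 1 by rw [pow_one]; exact orderOf_dvd_of_pow_eq_one hp1)
    refine mem_sylow_of_ppow ?_ ⟨a, ha⟩
    rw [commutatorElement_def]
    exact mul_mem (mul_mem (mul_mem hg hk) (inv_mem hg)) (inv_mem hk)
  cent_mem Q h hh hhZ c hc := by
    obtain ⟨x, -, -, f, hf, -, -, hN⟩ := exists_coords_any hι hdvd Q
    rw [hN]
    refine upper_of_commute (fun e => hhZ ?_) ((hN h).1 hh) ((hc.map ι).map f)
    rw [mem_scalPart]
    have hscal : ∀ k, Commute (f (ι h)) (f k) := fun k => e.commute _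
    exact isScal_iff_commute.2 ⟨Commute.of_map hf (hscal _), Commute.of_map hf (hscal _)⟩

end CfsgLib.Dickson
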