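import Cfsg.Agent.Lib.DicksonSubfieldMax
import Cfsg.Agent.Lib.PermSimple

/-! Consequences of Dickson's list: orders, solvability, maximal subgroups. -/

set_option autoImplicit false
set_option linter.style.haveILetI false

universe u v

namespace CfsgLib.Dickson

open Matrix
open scoped MatrixGroups

/-! ## Solvability -/

theorem isSolvable_dihedral (k : ℕ) : Group.IsSolvable (DihedralGroup k) := by
  let f : DihedralGroup k →* Multiplicative (ZMod 2) :=
    { toFun := fun x => match x with
        | .r _ => Multiplicative.ofAdd 0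
        | .sr _ => Multiplicative.ofAdd 1
      map_one' := rfl
      map_mul' := by
        rintro (i | i) (j | j) <;>
          simp only [DihedralGroup.r_mul_r, DihedralGroup.r_mul_sr, DihedralGroup.sr_mul_r, DihedralGroup.sr_mul_sr] <;>
          rfl }
  have hker : ∀ x ∈ f.ker, ∃ i, x = DihedralGroup.r i := by
    rintro (i | i) hx
    · exact ⟨i, rfl⟩
    · exact absurd hx (show ¬ Multiplicative.ofAdd (1 : ZMod 2) = 1 by decide)
  haveI : Group.IsSolvable f.ker := Group.isSolvable_of_comm fun a b => Subtype.ext (by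
    obtain ⟨i, hi⟩ := hker a a.2
    obtain ⟨j, hj⟩ := hker b b.2
    rw [Subgroup.coe_mul, Subgroup.coe_mul, hi, hj, DihedralGroup.r_mul_r, DihedralGroup.r_mul_r, add_comm])
  haveI : Group.IsSolvable (Multiplicative (ZMod 2)) := Group.isSolvable_of_comm mul_comm
  exact Group.isSolvable_of_ker_le_range f.ker.subtype f (le_of_eq (Subgroup.range_subtype _).symm)

theorem isSolvable_perm_four : Group.IsSolvable (Equiv.Perm (Fin 4)) := by
  haveI := CfsgLib.Perm.isSolvable_alternating_four
  haveI : Group.IsSolvable ℤˣ := Group.isSolvable_of_comm mul_comm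
  exact Group.isSolvable_of_ker_le_range (alternatingGroup (Fin 4)).subtype Equiv.Perm.sign
    (by rw [Subgroup.range_subtype]; rfl)

theorem isSolvable_of_iso {G H : Type*} [Group G] [Group H] (e : G ≃* H) (h : Group.IsSolvable H) :
    Group.IsSolvable G :=
  Group.isSolvable_of_isSolvable_injective (f := e.toMonoidHom) e.injective

theorem not_isSolvable_alt_five : ¬ Group.IsSolvable (alternatingGroup (Fin 5)) := by
  intro h
  haveI := alternatingGroup.isSimpleGroup_five
  have hcomm := IsSimpleGroup.comm_iff_isSolvable.mpr h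
  have : ∃ a b : alternatingGroup (Fin 5), a * b ≠ b * a := by decide +kernel
  obtain ⟨a, b, hab⟩ := this
  exact hab (hcomm a b)

attribute [local instance] _root_.Classical.propDecidable

theorem psl_card_pos {K : Type*} [Field K] [Fintype K] (h : 4 ≤ Fintype.card K) :
    IsSimpleGroup (ProjectiveSpecialLinearGroup (Fin 2) K) :=
  Matrix.ProjectiveSpecialLinearGroup.rank_two_simple (by rw [Nat.card_eq_fintype_card]; omega)

theorem psl_not_comm {K : Type*} [Field K] [Fintype K] :
    ¬ IsMulCommutative (PSL K) := by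
  intro h
  exact (subfield_pair (RingHom.id K)).1 (h.is_comm.comm _ _)

theorem psl_not_isSolvable {K : Type*} [Field K] [Fintype K] (h : 4 ≤ Fintype.card K) :
    ¬ Group.IsSolvable (PSL K) := by
  intro hs
  haveI := psl_card_pos h
  exact psl_not_comm ⟨⟨IsSimpleGroup.comm_iff_isSolvable.mpr hs⟩⟩

variable {F : Type u} [Field F] [Fintype F] {p : ℕ} [hp : Fact p.Prime] [CharP F p]

theorem borel_isSolvable (P : Sylow p (PSL F)) :
    Group.IsSolvable (Subgroup.normalizer ((P : Subgroup (PSL F)) : Set (PSL F))) := by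
  obtain ⟨S, -, hN⟩ := borel_lift P
  rw [hN]
  set N := Subgroup.normalizer ((S : Subgroup (SL F)) : Set (SL F))
  have hd : p ∣ Nat.card (SL F) := by
    obtain ⟨n, -, hn⟩ := FiniteField.card F p
    rw [CfsgLib.Classical.Two.card_sl_two]
    exact ((hn ▸ dvd_pow_self p n.ne_zero : p ∣ Fintype.card F).mul_right _).mul_right _
  have ax := axioms_scalPart_any (p := p) (ι := MonoidHom.id (SL F)) Function.injective_id hd
  suffices Group.IsSolvable N from Group.isSolvable_of_surjective ((mkP : SL F →* PSL F).subgroupMap_surjective N)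
  set D := (S : Subgroup (SL F)).subgroupOf N
  haveI : D.Normal := Subgroup.normal_in_normalizer
  haveI : Group.IsSolvable D := Group.isSolvable_of_comm fun a b => Subtype.ext (Subtype.ext
    ((ax.sylow_comm S a.2 b.2).eq))
  haveI : Group.IsSolvable (N ⧸ D) := Group.isSolvable_of_comm fun a b => by
    induction a using QuotientGroup.induction_on with | H a => ?_
    induction b using QuotientGroup.induction_on with | H b => ?_
    rw [← QuotientGroup.mk_mul, ← QuotientGroup.mk_mul, QuotientGroup.eq]
    show ((a * b)⁻¹ * (b * a) : N).1 ∈ (S : Subgroup (SL F))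
    have h := ax.comm_mem S _ (inv_mem b.2) _ (inv_mem a.2)
    rw [commutatorElement_def, inv_inv, inv_inv] at h
    simpa [mul_assoc] using h
  exact Group.isSolvable_of_ker_le_range D.subtype (QuotientGroup.mk' D)
    (by rw [QuotientGroup.ker_mk', D.range_subtype])

/-! ## Orders of subgroups -/

theorem borel_index {q : ℕ} (hF : Fintype.card F = q) (P : Sylow p (PSL F)) :
    (Subgroup.normalizer ((P : Subgroup (PSL F)) : Set (PSL F))).index = q + 1 := by
  have h1 := borel_card hF P
  have h2 := card_psl hF (p := p)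
  have h3 := (Subgroup.normalizer ((P : Subgroup (PSL F)) : Set (PSL F))).index_mul_card
  have hq1 : 1 < q := hF ▸ Fintype.one_lt_card
  refine Nat.eq_of_mul_eq_mul_right (show 0 < q * (q - 1) from Nat.mul_pos (by omega) (by omega)) ?_
  rw [← h1, ← mul_assoc, h3, h1, h2]
  ring

theorem borel_ne_top {q : ℕ} (hF : Fintype.card F = q) (P : Sylow p (PSL F)) :
    Subgroup.normalizer ((P : Subgroup (PSL F)) : Set (PSL F)) ≠ ⊤ := fun h => by
  have h1 := borel_index hF P
  rw [h, Subgroup.index_top] at h1
  have : 1 < q := hF ▸ Fintype.one_lt_card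
  omega

/-- A `p`-subgroup lies in a Borel subgroup. -/
theorem le_borel_of_pgroup {M : Subgroup (PSL F)} (hM : IsPGroup p M) :
    ∃ P : Sylow p (PSL F), M ≤ Subgroup.normalizer ((P : Subgroup (PSL F)) : Set (PSL F)) := by
  obtain ⟨P, hP⟩ := hM.exists_le_sylow
  exact ⟨P, hP.trans Subgroup.le_normalizer⟩

omit hp [CharP F p] in
theorem isScal_sq {g : SL F} (h : IsScal g) : g * g = 1 := by
  rcases CfsgLib.Classical.eq_one_or_neg_one_of_isScal h with rfl | rfl
  · rw [one_mul]
  · exact Subtype.ext (by simp)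

/-- A group normalising a cyclic group of order `≥ 3` prime to `p` lies in a dihedral group. -/
theorem le_dihedral {q : ℕ} (hF : Fintype.card F = q) (h4 : 4 ≤ q) {M : Subgroup (PSL F)} {c : PSL F}
    (hc : 1 < orderOf c) (hcp : ¬ p ∣ orderOf c)
    (hM : ∀ x ∈ M, x * c * x⁻¹ ∈ Subgroup.zpowers c) :
    ∃ (n : ℕ) (D : Subgroup (PSL F)),
      (Nat.gcd 2 (q - 1) * n = q - 1 ∨ Nat.gcd 2 (q - 1) * n = q + 1) ∧
      Nonempty (D ≃* DihedralGroup n) ∧ M ≤ D ∧ D ≠ ⊤ := by
  obtain ⟨C, rfl⟩ := mkP_surjective c
  have hC : ¬ IsScal C := fun h => by rw [mkP_eq_one.2 h, orderOf_one] at hc; omega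
  have hord : ¬ p ∣ orderOf C := by
    intro h
    set m := orderOf (mkP C)
    have h1 : IsScal (C ^ m) := mkP_eq_one.1 (by rw [map_pow]; exact pow_orderOf_eq_one _)
    have h2 : orderOf C ∣ m * 2 := orderOf_dvd_of_pow_eq_one (by rw [pow_mul, pow_two]; exact isScal_sq h1)
    rcases hp.out.dvd_mul.1 (h.trans h2) with h3 | h3
    · exact hcp h3
    · have hp2 : p = 2 := (Nat.prime_dvd_prime_iff_eq hp.out Nat.prime_two).1 h3
      subst hp2
      have hone : (-1 : SL F) = 1 := by
        refine sl_ext ?_ ?_ ?_ ?_ <;> simp [CharTwo.neg_eq]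
      have : C ^ m = 1 := by
        rcases CfsgLib.Classical.eq_one_or_neg_one_of_isScal h1 with e | e
        · exact e
        · rw [e, hone]
      exact hcp (h.trans (orderOf_dvd_of_pow_eq_one this))
  obtain ⟨n, D, hn, hD, -, -, hmem, -⟩ := exists_dihedral (p := p) hF h4 hC hord
  have hn' : Nat.gcd 2 (q - 1) * n = q - 1 ∨ Nat.gcd 2 (q - 1) * n = q + 1 := by
    rcases (torus_data (p := p) hF h4 hC hord).2.1 with h | h
    · exact Or.inl (hn.trans h)
    · exact Or.inr (hn.trans h)
  refine ⟨n, D, hn', hD, fun x hx => hmem x (hM x hx), fun htop => ?_⟩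
  obtain ⟨e⟩ := hD
  have hG := card_psl hF (p := p)
  have hDc : Nat.card (PSL F) = 2 * n := by
    rw [← Subgroup.card_top (G := PSL F), ← htop, Nat.card_congr e.toEquiv, DihedralGroup.nat_card]
  rw [hDc, mul_assoc, mul_comm n] at hG
  have h5 : 4 * 3 * (q + 1) ≤ q * (q - 1) * (q + 1) :=
    Nat.mul_le_mul_right _ (Nat.mul_le_mul h4 (by omega))
  rcases hn' with h | h <;> rw [h] at hG <;> omega

omit hp [CharP F p] in
theorem card_cyclic_dihedral_le {q : ℕ} (hF : Fintype.card F = q) {k : ℕ}
    (hk : k ∣ (q + 1) / Nat.gcd 2 (q - 1) ∨ k ∣ (q - 1) / Nat.gcd 2 (q - 1)) :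
    k * Nat.gcd 2 (q - 1) ≤ q + 1 := by
  have hq1 : 1 < q := hF ▸ Fintype.one_lt_card
  rcases hk with h | h
  · exact Nat.le_of_dvd (by omega) (by
      rw [mul_comm]; exact Nat.mul_dvd_of_dvd_div (gcd_dvd hF).2 h)
  · have := Nat.le_of_dvd (show 0 < q - 1 by omega) (show k * Nat.gcd 2 (q - 1) ∣ q - 1 by
      rw [mul_comm]; exact Nat.mul_dvd_of_dvd_div (gcd_dvd hF).1 h)
    omega

omit hp [CharP F p] in
/-- The order of a subfield subgroup. -/
theorem subfield_card_le {M : Subgroup (PSL F)} {K : Type} [Field K] [Fintype K]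
    (h : Nonempty (M ≃* ProjectiveSpecialLinearGroup (Fin 2) K) ∨ Nonempty (M ≃* ProjGenLinGroup (Fin 2) K)) :
    Nat.card M ≤ Fintype.card K * (Fintype.card K - 1) * (Fintype.card K + 1) := by
  obtain ⟨p', hchar⟩ := CharP.exists K
  obtain ⟨i, hp', -⟩ := FiniteField.card K p'
  haveI := Fact.mk hp'
  rcases h with ⟨⟨e⟩⟩ | ⟨⟨e⟩⟩
  · rw [Nat.card_congr e.toEquiv, ← card_psl (F := K) rfl (p := p')]
    exact Nat.le_mul_of_pos_right _ (Nat.gcd_pos_of_pos_left _ two_pos)
  · rw [Nat.card_congr e.toEquiv, card_pgl_two]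

omit hp [CharP F p] in
/-- Intermediate fields give intermediate subgroups. -/
theorem not_isCoatom_of_intermediate {M : Subgroup (PSL F)} {K : Type} [Field K] [Fintype K]
    {E : Type v} [Field E] [Fintype E] {k e : ℕ} (hk : Fintype.card K = k) (he : Fintype.card E = e)
    (hKE : ∃ j : ℕ, e = k ^ j) (hlt : e < Fintype.card F)
    (φ : K →+* F) (ψ : E →+* F) (f : SL F →* SL F) (hf : Function.Injective f)
    (hM : ∀ g : SL F, mkP g ∈ M → ∃ A : Matrix (Fin 2) (Fin 2) K, IsOver φ (f g) A)
    (hcard : 2 * Nat.card M < e * (e - 1) * (e + 1)) : ¬ IsCoatom M := by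
  intro hmax
  have he1 : 1 < e := he ▸ Fintype.one_lt_card
  -- matrices proportional to matrices over the fixed field of `x ↦ x ^ e`
  let Fix : F → Prop := fun x => x ^ e = x
  let S : Set (SL F) := {g | ∃ r : F, r ≠ 0 ∧ ∀ i j, (r * g.1 i j) ^ e = r * g.1 i j}
  have hadd : ∀ x y : F, x ^ e = x → y ^ e = y → (x + y) ^ e = x + y := by
    obtain ⟨p, hchar⟩ := CharP.exists F
    obtain ⟨b, hp, hb⟩ := FiniteField.card F p
    haveI := Fact.mk hp
    haveI : CharP E p := RingHom.charP ψ ψ.injective p
    obtain ⟨a, -, ha⟩ := FiniteField.card E p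
    intro x y hx hy
    rw [← he, ha] at hx hy ⊢
    rw [add_pow_char_pow, hx, hy]
  have hmul : ∀ g ∈ S, ∀ h ∈ S, g * h ∈ S := by
    rintro g ⟨r, hr, hg⟩ h ⟨s, hs, hh⟩
    refine ⟨r * s, mul_ne_zero hr hs, fun i j => ?_⟩
    have e1 : r * s * (g * h).1 i j = (r * g.1 i 0) * (s * h.1 0 j) + (r * g.1 i 1) * (s * h.1 1 j) := by
      rw [Matrix.SpecialLinearGroup.coe_mul, Matrix.mul_apply, Fin.sum_univ_two]; ring
    rw [e1]
    exact hadd _ _ (by rw [mul_pow, hg, hh]) (by rw [mul_pow, hg, hh])
  let T : Subgroup (SL F) :=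
    { carrier := S
      mul_mem' := fun {g h} hg hh => hmul g hg h hh
      one_mem' := ⟨1, one_ne_zero, fun i j => by
        rw [Matrix.SpecialLinearGroup.coe_one]
        rcases eq_or_ne i j with rfl | h <;> simp [*, zero_pow (show e ≠ 0 by omega)]⟩
      inv_mem' := fun {g} hg => by
        have : ∀ n : ℕ, g ^ n ∈ S := fun n => by
          induction n with
          | zero => exact ⟨1, one_ne_zero, fun i j => by
              rw [pow_zero, Matrix.SpecialLinearGroup.coe_one]
              rcases eq_or_ne i j with rfl | h <;> simp [*, zero_pow (show e ≠ 0 by omega)]⟩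
          | succ n ih => rw [pow_succ]; exact hmul _ ih _ hg
        obtain ⟨n, hn⟩ : ∃ n : ℕ, g⁻¹ = g ^ n := ⟨orderOf g - 1, inv_eq_of_mul_eq_one_right (by
          rw [← pow_succ', Nat.sub_add_cancel (orderOf_pos g), pow_orderOf_eq_one])⟩
        exact hn ▸ this n }
  let T' : Subgroup (SL F) := T.comap f
  have hcenter : Subgroup.center (SL F) ≤ T' := fun z hz => by
    show f z ∈ S
    have hs : IsScal (f z) := by
      rw [← mem_center_iff_isScal, Subgroup.mem_center_iff]
      intro x
      obtain ⟨y, rfl⟩ := Finite.surjective_of_injective hf x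
      rw [← map_mul, ← map_mul, Subgroup.mem_center_iff.1 hz]
    rcases CfsgLib.Classical.eq_one_or_neg_one_of_isScal hs with h | h <;> rw [h]
    · exact T.one_mem
    · refine ⟨-1, neg_ne_zero.2 one_ne_zero, fun i j => ?_⟩
      rw [Matrix.SpecialLinearGroup.coe_neg, Matrix.SpecialLinearGroup.coe_one]
      rcases eq_or_ne i j with rfl | h <;> simp [*, zero_pow (show e ≠ 0 by omega)]
  have hφ : ∀ x : K, (φ x) ^ e = φ x := fun x => by
    obtain ⟨j, rfl⟩ := hKE
    rw [← map_pow, ← hk, FiniteField.pow_card_pow]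
  have hψ : ∀ x : E, (ψ x) ^ e = ψ x := fun x => by rw [← map_pow, ← he, FiniteField.pow_card]
  have hMT : M ≤ T'.map mkP := fun x hx => by
    obtain ⟨g, rfl⟩ := mkP_surjective x
    refine Subgroup.mem_map_of_mem _ ?_
    obtain ⟨A, r, hr⟩ := hM g hx
    have hr0 : r ≠ 0 := fun h => by
      have := (f g).2
      rw [hr, h, zero_smul, Matrix.det_zero] at this
      exact zero_ne_one this
    refine ⟨r⁻¹, inv_ne_zero hr0, fun i j => ?_⟩
    rw [hr, Matrix.smul_apply, smul_eq_mul, ← mul_assoc, inv_mul_cancel₀ hr0, one_mul]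
    exact hφ _
  have hTne : T'.map mkP ≠ ⊤ := by
    intro htop
    obtain ⟨x, hx⟩ : ∃ x : F, x ^ e ≠ x := by
      by_contra! hall
      have hsub : (Finset.univ : Finset F) ⊆ ((Polynomial.X ^ e - Polynomial.X : Polynomial F)).roots.toFinset := by
        intro x _
        rw [Multiset.mem_toFinset, Polynomial.mem_roots (FiniteField.X_pow_card_sub_X_ne_zero F he1)]
        simp [hall x]
      have h1 := (Finset.card_le_card hsub).trans ((Multiset.toFinset_card_le _).trans (Polynomial.card_roots' _))
      rw [FiniteField.X_pow_card_sub_X_natDegree_eq F he1, Finset.card_univ] at h1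
      omega
    obtain ⟨g, hg⟩ := Finite.surjective_of_injective hf (upperU x)
    have hmem : mkP g ∈ T'.map mkP := htop ▸ Subgroup.mem_top _
    rw [← Subgroup.mem_comap, Subgroup.comap_map_eq_self (by rw [QuotientGroup.ker_mk']; exact hcenter)] at hmem
    obtain ⟨r, hr, hfix⟩ : f g ∈ S := hmem
    rw [hg] at hfix
    have h00 := hfix 0 0
    have h01 := hfix 0 1
    simp [coe_upperU] at h00 h01
    rw [mul_pow, h00] at h01
    exact hx (mul_left_cancel₀ hr h01)
  have hlarge : Nat.card M < Nat.card (T'.map mkP) := by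
    have h1 : Nat.card (SL E) ≤ Nat.card T' := by
      refine Nat.card_le_card_of_injective (fun s : SL E =>
        (⟨(Finite.surjective_of_injective hf (Matrix.SpecialLinearGroup.map ψ s)).choose, by
          show f _ ∈ S
          rw [(Finite.surjective_of_injective hf (Matrix.SpecialLinearGroup.map ψ s)).choose_spec]
          exact ⟨1, one_ne_zero, fun i j => by
            rw [one_mul]; exact hψ _⟩⟩ : T')) fun a b hab => ?_
      have h := congrArg (fun z : T' => f z.1) hab
      simp only [(Finite.surjective_of_injective hf (Matrix.SpecialLinearGroup.map ψ a)).choose_spec,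
        (Finite.surjective_of_injective hf (Matrix.SpecialLinearGroup.map ψ b)).choose_spec] at h
      exact sl_ext (ψ.injective (congrArg (fun z : SL F => z.1 0 0) h))
        (ψ.injective (congrArg (fun z : SL F => z.1 0 1) h)) (ψ.injective (congrArg (fun z : SL F => z.1 1 0) h))
        (ψ.injective (congrArg (fun z : SL F => z.1 1 1) h))
    rw [CfsgLib.Classical.Two.card_sl_two, he] at h1
    obtain ⟨p, hchar⟩ := CharP.exists F
    obtain ⟨b, hp, -⟩ := FiniteField.card F p
    haveI := Fact.mk hp
    have h2 : Nat.card T' ≤ 2 * Nat.card (T'.map mkP) := by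
      have hker : Nat.card (Subgroup.center (SL F)) ≤ 2 := by
        rw [card_center rfl (p := p)]
        exact Nat.le_of_dvd two_pos (Nat.gcd_dvd_left _ _)
      have h := (mkP.comp T'.subtype).ker.card_mul_index
      rw [Subgroup.index_ker, MonoidHom.range_comp, Subgroup.range_subtype] at h
      rw [← h]
      refine Nat.mul_le_mul_right _ (le_trans (Nat.card_le_card_of_injective
        (fun z : (mkP.comp T'.subtype).ker => (⟨z.1.1, by
          have hz := z.2
          rw [MonoidHom.mem_ker, MonoidHom.comp_apply, mkP_eq_one] at hz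
          exact mem_center_iff_isScal.2 hz⟩ : Subgroup.center (SL F))) fun a b hab => ?_) hker)
      exact Subtype.ext (Subtype.ext (congrArg (fun z : Subgroup.center (SL F) => z.1) hab))
    omega
  have hne : M ≠ T'.map mkP := fun h => by rw [← h] at hlarge; omega
  exact hTne (hmax.2 _ (lt_of_le_of_ne hMT hne))

end CfsgLib.Dickson

namespace CfsgLib.Dickson

open Matrix
open scoped MatrixGroups

variable {F : Type*} [Field F]

/-- The small subfield groups are solvable. -/
theorem isSolvable_subfield_small {M : Subgroup (PSL F)} {K : Type} [Field K] [Fintype K]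
    (hk : Fintype.card K = 2 ∨ Fintype.card K = 3)
    (h : Nonempty (M ≃* ProjectiveSpecialLinearGroup (Fin 2) K) ∨ Nonempty (M ≃* ProjGenLinGroup (Fin 2) K)) :
    Group.IsSolvable M := by
  have hpgl : Group.IsSolvable (ProjGenLinGroup (Fin 2) K) := by
    let act := MulAction.toPermHom (ProjGenLinGroup (Fin 2) K) (Projectivization K (Fin 2 → K))
    have hinj : Function.Injective act := by
      rw [← MonoidHom.ker_eq_bot_iff, Subgroup.eq_bot_iff_forall]
      intro g hg
      have h2 : 2 < Nat.card (Projectivization K (Fin 2 → K)) := by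
        rw [CfsgLib.Classical.Two.card_projLine]; omega
      haveI := Fintype.ofFinite (Projectivization K (Fin 2 → K))
      rw [Nat.card_eq_fintype_card, Fintype.two_lt_card_iff] at h2
      obtain ⟨a, b, c, hab, hac, hbc⟩ := h2
      exact CfsgLib.Classical.Two.pgl_three_free g a b c hab hac hbc (congrArg (fun σ : Equiv.Perm _ => σ a) hg)
        (congrArg (fun σ : Equiv.Perm _ => σ b) hg) (congrArg (fun σ : Equiv.Perm _ => σ c) hg)
    have hcard : Nat.card (Projectivization K (Fin 2 → K)) ≤ 4 := by
      rw [CfsgLib.Classical.Two.card_projLine]; omega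
    haveI := Fintype.ofFinite (Projectivization K (Fin 2 → K))
    let e : Projectivization K (Fin 2 → K) ↪ Fin 4 :=
      (Fintype.equivFin _).toEmbedding.trans (Fin.castLEEmb (by rw [← Nat.card_eq_fintype_card]; exact hcard))
    haveI := isSolvable_perm_four
    exact Group.isSolvable_of_isSolvable_injective
      (f := (Equiv.Perm.viaEmbeddingHom e).comp act) ((Equiv.Perm.viaEmbeddingHom_injective e).comp hinj)
  rcases h with ⟨⟨e⟩⟩ | ⟨⟨e⟩⟩
  · haveI := hpgl
    exact isSolvable_of_iso e (Group.isSolvable_of_isSolvable_injective ProjectiveSpecialLinearGroup.toPGL_injective)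
  · exact isSolvable_of_iso e hpgl

end CfsgLib.Dickson
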