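import Cfsg.Agent.Lib.DicksonDichotomy

/-!
# Dickson's count in characteristic two
-/

set_option autoImplicit false
set_option linter.style.haveILetI false

universe u

namespace CfsgLib.Dickson

open scoped Classical commutatorElement

/-- The solution of the class equation in characteristic two. -/
theorem arith_two_even {q n k d N : ℕ} (heven : Even q) (hq : 2 ≤ q) (hn : 1 ≤ n) (hN : N = 1 + n * q)
    (hkq : k ∣ q - 1) (hk : 2 ≤ k) (hpd : ¬ 2 ∣ d)
    (heq : d * (N * q * (k - 1) + 2 * N - 2) = N * (q * k) * (d - 1)) :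
    N = q + 1 := by
  obtain ⟨m, rfl⟩ := heven
  have hd1 : 1 ≤ d := by
    by_contra h
    exact hpd (by rw [show d = 0 by omega]; exact dvd_zero 2)
  have hkle : k ≤ m + m - 1 := Nat.le_of_dvd (by omega) hkq
  have hz : ((d : ℤ) * (N * (m + m) * (k - 1) + 2 * N - 2)) = N * ((m + m) * k) * (d - 1) := by
    have h1 : ((d * (N * (m + m) * (k - 1) + 2 * N - 2) : ℕ) : ℤ) = ((N * ((m + m) * k) * (d - 1) : ℕ) : ℤ) := by
      rw [heq]
    push_cast [Nat.cast_sub (show 2 ≤ N * (m + m) * (k - 1) + 2 * N by omega),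
      Nat.cast_sub (show 1 ≤ k by omega), Nat.cast_sub hd1] at h1
    exact h1
  have he : (N : ℤ) * ((m : ℤ) * k - ((m : ℤ) - 1) * d) = d := by
    have : 2 * ((N : ℤ) * ((m : ℤ) * k - ((m : ℤ) - 1) * d)) = 2 * d := by linear_combination hz
    linarith
  set e : ℤ := (m : ℤ) * k - ((m : ℤ) - 1) * d with hedef
  have hzN : (N : ℤ) = 1 + n * (m + m) := by exact_mod_cast hN
  have hm : (1 : ℤ) ≤ m := by omega
  have hk' : (k : ℤ) = e * (1 + 2 * n * ((m : ℤ) - 1)) := by
    have h1 : (m : ℤ) * k = (m : ℤ) * (e * (1 + 2 * n * ((m : ℤ) - 1))) := by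
      have h2 : (m : ℤ) * k = e + ((m : ℤ) - 1) * (N * e) := by rw [he, hedef]; ring
      rw [h2, hzN]; ring
    exact mul_left_cancel₀ (by omega) h1
  have hepos : 1 ≤ e := by
    by_contra h
    have : (N : ℤ) * e ≤ 0 := mul_nonpos_of_nonneg_of_nonpos (by positivity) (by omega)
    omega
  have hkz : (k : ℤ) ≤ 2 * m - 1 := by omega
  rcases (show n = 1 ∨ 2 ≤ n by omega) with rfl | hn2
  · rw [hN]; ring
  exfalso
  have h3 : 1 + 2 * (n : ℤ) * ((m : ℤ) - 1) ≤ 2 * m - 1 := by
    refine le_trans ?_ hkz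
    rw [hk']
    exact le_mul_of_one_le_left (by nlinarith) hepos
  have hm1 : (m : ℤ) = 1 := by
    by_contra hne
    have : (2 : ℤ) ≤ m := by omega
    have : (2 : ℤ) ≤ n := by exact_mod_cast hn2
    nlinarith
  omega

variable {H : Type u} [Group H] {p : ℕ} [hp : Fact p.Prime] [Finite H] {Z : Subgroup H}
  (ax : Axioms p Z)

include ax

/-- **Dickson's count.** -/
theorem Axioms.sylow_data_two [Fintype H] (hp2 : p = 2) (hN : 1 < Nat.card (Sylow p H)) (Q : Sylow p H) :
    Nat.card (Sylow p H) = Nat.card (Q : Subgroup H) + 1 ∨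
      (Nat.card (Q : Subgroup H) = 2 ∧ Nat.card H = 2 * Nat.card (Sylow p H) * Nat.card Z ∧
        ∃ w, w ∉ Z ∧ ¬ p ∣ orderOf w ∧ Z.relIndex (cent w) = Nat.card (Sylow p H)) := by
  set N := Nat.card (Sylow p H) with hNdef
  set q := Nat.card (Q : Subgroup H) with hq
  set z := Nat.card Z with hz
  have hz0 : 0 < z := Nat.card_pos
  have hHN : Nat.card H = N * Nat.card (Subgroup.normalizer ((Q : Subgroup H) : Set H)) := by
    rw [hNdef, Sylow.card_eq_index_normalizer Q, mul_comm]
    exact (Subgroup.card_mul_index _).symm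
  obtain ⟨hmod, -⟩ := ax.sylow_count_mod Q
  have hQb : (Q : Subgroup H) ≠ ⊥ := by
    intro e
    have : Subsingleton (Sylow p H) := ⟨fun A B => by
      obtain ⟨a, rfl⟩ := MulAction.exists_smul_eq H Q A
      obtain ⟨b, rfl⟩ := MulAction.exists_smul_eq H Q B
      apply Sylow.ext
      rw [Sylow.coe_subgroup_smul, Sylow.coe_subgroup_smul, e]
      simp⟩
    have := Finite.card_le_one_iff_subsingleton.2 this
    omega
  obtain ⟨a, ha⟩ := IsPGroup.iff_card.1 Q.2
  have ha0 : a ≠ 0 := by
    rintro rfl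
    exact hQb ((Subgroup.card_eq_one).1 (by rw [ha, pow_zero]))
  have hpq : p ∣ q := by rw [hq, ha]; exact dvd_pow_self p ha0
  have hq2 : 2 ≤ q := hp2 ▸ Nat.le_of_dvd (Nat.card_pos (α := (Q : Subgroup H))) hpq
  have hqeven : Even q := even_iff_two_dvd.2 (hp2 ▸ hpq)
  obtain ⟨x, hx, hx1⟩ : ∃ x, x ∈ (Q : Subgroup H) ∧ x ≠ 1 := by
    by_contra hc
    push Not at hc
    exact hQb (eq_bot_iff.2 fun y hy => Subgroup.mem_bot.2 (hc y hy))
  have hxZ := ax.not_mem_of_ppow (ppow_of_mem hx) hx1
  have hU0 : (classUnion Z (cent x)).card = N * ((q - 1) * z) := by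
    have h1 := ax.classUnion_card hxZ
    rw [ax.normalizer_cent_sylow Q hx hx1, ax.card_cent_sylow Q hx hx1, ← hq, ← hz,
      ← Nat.sub_one_mul, hHN] at h1
    apply Nat.eq_of_mul_eq_mul_right (Nat.card_pos (α := Subgroup.normalizer ((Q : Subgroup H) : Set H)))
    rw [h1]; ring
  set S := Finset.univ.filter fun y : H => y ∉ Z with hS
  have hScard : S.card + z = Nat.card H := by
    rw [hz, Nat.card_eq_fintype_card, Fintype.card_subtype, hS, Nat.card_eq_fintype_card, add_comm,
      Finset.card_filter_add_card_filter_not, Finset.card_univ]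
  have hUS : ∀ w : H, classUnion Z (cent w) ⊆ S := fun w y hy => by
    simp [hS, (mem_classUnion.1 hy).1]
  obtain ⟨n, hn⟩ := hmod
  have hn1 : 1 ≤ n := by
    rcases n with _ | n
    · omega
    · omega
  have hNn : N = 1 + n * q := by
    rw [← hNdef, ← hq] at hn
    have : n * q = q * n := mul_comm _ _
    omega
  rcases ax.normalizer_sylow Q hQb with hk1 | ⟨h₁, h1Z, h1r, -, hk, hkdvd⟩
  · -- the normalizer is `Q × Z`
    rw [← hq, ← hz] at hk1
    rw [hk1] at hHN
    have hRcard : (S \ classUnion Z (cent x)).card = (N - 1) * z := by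
      rw [Finset.card_sdiff_of_subset (hUS x), hU0]
      have : S.card = N * (q * z) - z := by omega
      rw [this, Nat.sub_sub, Nat.sub_one_mul, Nat.sub_one_mul]
      have : N * (q * z - z) + N * z = N * (q * z) := by
        rw [← mul_add, Nat.sub_add_cancel (Nat.le_mul_of_pos_left z (by omega))]
      omega
    have hcls : ∀ w ∈ S \ classUnion Z (cent x),
        classUnion Z (cent w) ⊆ S \ classUnion Z (cent x) ∧ q = 2 ∧ ∃ d, 3 ≤ d ∧
          d = Z.relIndex (cent w) ∧ ¬ p ∣ orderOf w ∧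
          (classUnion Z (cent w)).card * d = N * z * (d - 1) := by
      intro w hw
      rw [Finset.mem_sdiff, hS, Finset.mem_filter] at hw
      have hwr := ax.regular_of_not_mem Q hx hx1 hw.1.2 hw.2
      obtain ⟨s, hs, hd2, hpd, -, -, hU⟩ := ax.class_data hw.1.2 hwr
      have hsub : classUnion Z (cent w) ⊆ S \ classUnion Z (cent x) := by
        intro y hy
        rw [Finset.mem_sdiff]
        exact ⟨hUS w hy, Finset.disjoint_left.1 (ax.classUnion_disjoint hxZ hw.1.2 hw.2) hy⟩
      have hle := (Finset.card_le_card hsub).trans hRcard.le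
      have hd3 : 3 ≤ Z.relIndex (cent w) := by
        by_contra hlt
        exact hpd (by rw [hp2, show Z.relIndex (cent w) = 2 by omega])
      refine ⟨hsub, ?_⟩
      set U := (classUnion Z (cent w)).card
      rw [hHN] at hU
      obtain ⟨d', hd'eq⟩ : ∃ d', Z.relIndex (cent w) = d' + 3 :=
        ⟨Z.relIndex (cent w) - 3, by omega⟩
      rw [hd'eq] at hU
      rw [show d' + 3 - 1 = d' + 2 by omega] at hU
      obtain ⟨N', hN'⟩ : ∃ N', N = N' + 1 := ⟨N - 1, by omega⟩
      rw [hN'] at hle hU ⊢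
      rw [Nat.add_sub_cancel] at hle
      have hs2 : s = 2 := by
        rcases hs with rfl | rfl
        · exfalso
          nlinarith [Nat.mul_le_mul_right ((N' + 1) * z * (d' + 2)) hq2]
        · rfl
      subst hs2
      have hq2' : q = 2 := by
        by_contra hne
        have : 4 ≤ q := by obtain ⟨r, hr⟩ := hqeven; omega
        nlinarith [Nat.mul_le_mul_right ((N' + 1) * z * (d' + 2)) this]
      refine ⟨hq2', d' + 3, by omega, hd'eq.symm, hwr, ?_⟩
      rw [hq2'] at hU
      rw [show d' + 3 - 1 = d' + 2 by omega]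
      nlinarith
    obtain ⟨w, hw⟩ : (S \ classUnion Z (cent x)).Nonempty := by
      rw [← Finset.card_pos, hRcard]
      exact Nat.mul_pos (by omega) hz0
    obtain ⟨hsub, hq2', d, hd3, hd, hwr, hU⟩ := hcls w hw
    have hwZ : w ∉ Z := by
      have := (Finset.mem_sdiff.1 hw).1
      simpa [hS] using this
    have hbound : ∀ v ∈ S \ classUnion Z (cent x), 2 * (N * z) ≤ 3 * (classUnion Z (cent v)).card := by
      intro v hv
      obtain ⟨-, -, e, he, -, -, hU'⟩ := hcls v hv
      obtain ⟨e', rfl⟩ : ∃ e', e = e' + 3 := ⟨e - 3, by omega⟩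
      rw [show e' + 3 - 1 = e' + 2 by omega] at hU'
      nlinarith
    have heq : classUnion Z (cent w) = S \ classUnion Z (cent x) := by
      refine Finset.Subset.antisymm hsub fun v hv => ?_
      by_contra hvn
      obtain ⟨hsub', -⟩ := hcls v hv
      have hvZ : v ∉ Z := by
        have := (Finset.mem_sdiff.1 hv).1
        simpa [hS] using this
      have h6 := Finset.card_le_card (Finset.union_subset hsub' hsub)
      rw [Finset.card_union_of_disjoint (ax.classUnion_disjoint hwZ hvZ hvn), hRcard] at h6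
      have h7 : (N - 1) * z < N * z := Nat.mul_lt_mul_of_pos_right (by omega) hz0
      have := hbound v hv
      have := hbound w hw
      omega
    rw [heq, hRcard] at hU
    refine Or.inr ⟨hq2', by rw [hHN, hq2']; ring, w, hwZ, hwr, ?_⟩
    rw [← hd]
    obtain ⟨N', hN'⟩ : ∃ N', N = N' + 1 := ⟨N - 1, by omega⟩
    obtain ⟨d', hd'⟩ : ∃ d', d = d' + 1 := ⟨d - 1, by omega⟩
    rw [hN', hd', Nat.add_sub_cancel, Nat.add_sub_cancel] at hU
    rw [hN', hd']
    nlinarith
  · -- a second kind of centralizer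
    obtain ⟨s₁, hs₁, hk2, -, hC1, hNC1, hU1⟩ := ax.class_data h1Z h1r
    set k := Z.relIndex (cent h₁) with hkdef
    rw [← hq, hC1, ← hz] at hk
    rw [hk] at hHN
    have h1U : h₁ ∉ classUnion Z (cent x) := fun hm => by
      obtain ⟨-, g, hg⟩ := mem_classUnion.1 hm
      refine ax.not_mem_conj h1Z g (ax.no_mixed x (ppow_of_mem hx) hx1 _ (mem_cent.1 hg) ?_)
      rwa [show orderOf (g * h₁ * g⁻¹) = orderOf h₁ from (MulAut.conj g).orderOf_eq h₁]
    have hdisj := ax.classUnion_disjoint hxZ h1Z h1U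
    set U1 := (classUnion Z (cent h₁)).card with hU1def
    set T := classUnion Z (cent x) ∪ classUnion Z (cent h₁) with hT
    have hTcard : (S \ T).card + (N * ((q - 1) * z) + U1) + z = N * (q * (z * k)) := by
      rw [Finset.card_sdiff_of_subset (Finset.union_subset (hUS x) (hUS h₁)),
        Finset.card_union_of_disjoint hdisj.symm, hU0, ← hHN, ← hScard]
      have := Finset.card_le_card (Finset.union_subset (hUS x) (hUS h₁))
      rw [Finset.card_union_of_disjoint hdisj.symm, hU0] at this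
      omega
    have hcls : ∀ w ∈ S \ T, classUnion Z (cent w) ⊆ S \ T ∧ ∃ s d, (s = 1 ∨ s = 2) ∧ 2 ≤ d ∧
        ¬ p ∣ d ∧ d = Z.relIndex (cent w) ∧
          (classUnion Z (cent w)).card * (s * d) = Nat.card H * (d - 1) := by
      intro w hw
      rw [Finset.mem_sdiff, hS, Finset.mem_filter, hT, Finset.mem_union, not_or] at hw
      have hwr := ax.regular_of_not_mem Q hx hx1 hw.1.2 hw.2.1
      obtain ⟨s, hs, hd2, hpd, -, -, hU⟩ := ax.class_data hw.1.2 hwr
      refine ⟨fun y hy => ?_, s, _, hs, hd2, hpd, rfl, hU⟩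
      rw [Finset.mem_sdiff, hT, Finset.mem_union, not_or]
      exact ⟨hUS w hy, Finset.disjoint_left.1 (ax.classUnion_disjoint hxZ hw.1.2 hw.2.1) hy,
        Finset.disjoint_left.1 (ax.classUnion_disjoint h1Z hw.1.2 hw.2.2) hy⟩
    have hq3 : 3 ≤ q := by
      have := Nat.le_of_dvd (by omega) hkdvd
      omega
    obtain ⟨k', hk'⟩ : ∃ k', k = k' + 2 := ⟨k - 2, by omega⟩
    obtain ⟨N', hN'⟩ : ∃ N', N = N' + 2 := ⟨N - 2, by omega⟩
    obtain ⟨q', hq'⟩ : ∃ q', q = q' + 3 := ⟨q - 3, by omega⟩
    rw [hHN] at hU1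
    rw [show k - 1 = k' + 1 by omega] at hU1
    rw [show q - 1 = q' + 2 by omega] at hTcard
    have hU1' : U1 * s₁ = N * (q * z) * (k' + 1) := by
      apply Nat.eq_of_mul_eq_mul_right (show 0 < k by omega)
      rw [mul_assoc, hU1]
      ring
    replace hU1 := hU1'
    obtain ⟨w, hw⟩ : (S \ T).Nonempty := by
      rw [← Finset.card_pos]
      rw [hN', hq'] at hU1
      rw [hk', hN', hq'] at hTcard
      rcases hs₁ with rfl | rfl <;>
        nlinarith [Nat.mul_pos hz0 (Nat.succ_pos N'), Nat.zero_le (N' * q' * z * k'),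
          Nat.zero_le (N' * z * k'), Nat.zero_le (q' * z * k'), Nat.zero_le (z * k'),
          Nat.zero_le (N' * q' * z), Nat.zero_le (q' * z)]
    obtain ⟨hsub, s, d, hs, hd2, hpd, hdrel, hU⟩ := hcls w hw
    have hle := Finset.card_le_card hsub
    set U := (classUnion Z (cent w)).card with hUdef
    have hbig : ∀ v ∈ S \ T, Nat.card H ≤ 4 * (classUnion Z (cent v)).card := by
      intro v hv
      obtain ⟨-, s', d'', hs', hd'', -, -, hU'⟩ := hcls v hv
      obtain ⟨e, rfl⟩ : ∃ e, d'' = e + 2 := ⟨d'' - 2, by omega⟩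
      rw [show e + 2 - 1 = e + 1 by omega] at hU'
      rcases hs' with rfl | rfl <;> nlinarith
    rcases hs₁ with rfl | rfl
    · exfalso
      have h9 := hbig w hw
      rw [hN', hq'] at hU1
      rw [hk', hN', hq'] at hTcard
      rw [hHN, hk', hN', hq'] at h9
      nlinarith [Nat.zero_le (N' * q' * z * k'), Nat.zero_le (N' * z * k'), Nat.zero_le (q' * z * k'),
          Nat.zero_le (z * k'), Nat.zero_le (N' * q' * z), Nat.zero_le (q' * z), Nat.zero_le (N' * z)]
    obtain ⟨d', hd'⟩ : ∃ d', d = d' + 2 := ⟨d - 2, by omega⟩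
    have hs2 : s = 2 := by
      rcases hs with rfl | rfl
      · exfalso
        rw [hHN, hk', hN', hq', hd', show d' + 2 - 1 = d' + 1 by omega] at hU
        rw [hN', hq'] at hU1
        rw [hk', hN', hq'] at hTcard
        nlinarith [Nat.zero_le (N' * q' * z * k'), Nat.zero_le (N' * z * k'), Nat.zero_le (q' * z * k'),
          Nat.zero_le (z * k'), Nat.zero_le (N' * q' * z), Nat.zero_le (q' * z), Nat.zero_le (N' * z)]
      · rfl
    subst hs2
    have heq : classUnion Z (cent w) = S \ T := by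
      refine Finset.Subset.antisymm hsub fun v hv => ?_
      by_contra hvn
      obtain ⟨hsub', -⟩ := hcls v hv
      have hvZ : v ∉ Z := by
        have := (Finset.mem_sdiff.1 hv).1
        simpa [hS] using this
      have hwZ : w ∉ Z := by
        have := (Finset.mem_sdiff.1 hw).1
        simpa [hS] using this
      have h6 := Finset.card_le_card (Finset.union_subset hsub' hsub)
      rw [Finset.card_union_of_disjoint (ax.classUnion_disjoint hwZ hvZ hvn)] at h6
      have h9 := hbig w hw
      have h10 := hbig v hv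
      rw [hHN, hk', hN', hq'] at h9 h10
      rw [hN', hq'] at hU1
      rw [hk', hN', hq'] at hTcard
      nlinarith [Nat.zero_le (N' * q' * z * k'), Nat.zero_le (N' * z * k'), Nat.zero_le (q' * z * k'),
          Nat.zero_le (z * k'), Nat.zero_le (N' * q' * z), Nat.zero_le (q' * z), Nat.zero_le (N' * z)]
    rw [← heq, ← hUdef] at hTcard
    have hkey : d * (N * q * (k - 1) + 2 * N - 2) = (N * (q * k)) * (d - 1) := by
      obtain ⟨M', hM'⟩ : ∃ M', N * q * (k - 1) + 2 * N - 2 = M' ∧
          M' + 2 = N * q * (k - 1) + 2 * N := ⟨_, rfl, Nat.sub_add_cancel (by omega)⟩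
      rw [hM'.1]
      have h11 : U * 2 = M' * z := by
        have h12 := hM'.2
        rw [show k - 1 = k' + 1 by omega] at h12
        have h14 := hU1
        rw [hN', hq'] at h12
        rw [hk'] at hTcard
        rw [hN', hq'] at h14 hTcard
        nlinarith
      apply Nat.eq_of_mul_eq_mul_right hz0
      rw [show d * M' * z = (M' * z) * d by ring, ← h11,
        show U * 2 * d = U * (2 * d) by ring, hU, hHN]
      ring
    exact Or.inl (arith_two_even hqeven hq2 hn1 hNn hkdvd hk2 (hp2 ▸ hpd) hkey)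

end CfsgLib.Dickson
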