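import Cfsg.Agent.Lib.DicksonSylow
import Cfsg.Agent.Lib.DicksonArith

/-!
# Dickson's count: either `|Q| + 1` Sylow subgroups or a smaller example
-/

set_option autoImplicit false
set_option linter.style.haveILetI false

universe u

namespace CfsgLib.Dickson

open scoped Classical commutatorElement

variable {H : Type u} [Group H] {p : ℕ} [hp : Fact p.Prime] [Finite H] {Z : Subgroup H}
  (ax : Axioms p Z)

include ax

/-- The size of the class of a centralizer of order prime to `p`. -/
theorem Axioms.class_data [Fintype H] {h : H} (hh : h ∉ Z) (hr : ¬ p ∣ orderOf h) :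
    ∃ s, (s = 1 ∨ s = 2) ∧ 2 ≤ Z.relIndex (cent h) ∧ ¬ p ∣ Z.relIndex (cent h) ∧
      Nat.card (cent h) = Nat.card Z * Z.relIndex (cent h) ∧
      Nat.card (Subgroup.normalizer (cent h : Set H)) = s * Nat.card (cent h) ∧
      (classUnion Z (cent h)).card * (s * Z.relIndex (cent h)) =
        Nat.card H * (Z.relIndex (cent h) - 1) := by
  have hc : Nat.card Z * Z.relIndex (cent h) = Nat.card (cent h) :=
    CfsgLib.Core.card_mul_relIndex (ax.z_le_cent h)
  set d := Z.relIndex (cent h) with hd
  have hd0 : d ≠ 0 := Subgroup.index_ne_zero_of_finite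
  have hd1 : d ≠ 1 := fun e => hh (Subgroup.relIndex_eq_one.1 e (mem_cent.2 (Commute.refl h)))
  have hpd : ¬ p ∣ d := fun e => ax.not_dvd_card_cent hh hr (hc ▸ e.trans (dvd_mul_left _ _))
  have hU := ax.classUnion_card hh
  obtain ⟨s, hs, hN⟩ : ∃ s, (s = 1 ∨ s = 2) ∧
      Nat.card (Subgroup.normalizer (cent h : Set H)) = s * Nat.card (cent h) := by
    rcases ax.card_normalizer_cent hh hr with e | e
    · exact ⟨1, Or.inl rfl, by rw [e, one_mul]⟩
    · exact ⟨2, Or.inr rfl, e⟩
  refine ⟨s, hs, by omega, hpd, hc.symm, hN, ?_⟩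
  rw [hN, ← hc, ← Nat.mul_sub_one] at hU
  apply Nat.eq_of_mul_eq_mul_left (Nat.card_pos (α := Z))
  calc Nat.card Z * ((classUnion Z (cent h)).card * (s * d))
      = (classUnion Z (cent h)).card * (s * (Nat.card Z * d)) := by ring
    _ = Nat.card H * (Nat.card Z * (d - 1)) := hU
    _ = _ := by ring

theorem Axioms.regular_of_not_mem [Fintype H] (Q : Sylow p H) {x : H} (hx : x ∈ (Q : Subgroup H))
    (hx1 : x ≠ 1) {h : H} (hh : h ∉ Z) (hU : h ∉ classUnion Z (cent x)) : ¬ p ∣ orderOf h := by
  intro hd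
  set y := h ^ (orderOf h / p) with hy
  have ho : orderOf y = p := orderOf_pow_orderOf_div (orderOf_pos h).ne' hd
  obtain ⟨R, hR⟩ := (show IsPGroup p ↥(Subgroup.zpowers y) from
    IsPGroup.of_card (n := 1) (by rw [Nat.card_zpowers, ho, pow_one])).exists_le_sylow
  obtain ⟨g, hg⟩ := MulAction.exists_smul_eq H R Q
  have hyQ : g * y * g⁻¹ ∈ (Q : Subgroup H) := by
    rw [← hg, Sylow.coe_subgroup_smul]
    exact ⟨y, hR (Subgroup.mem_zpowers y), rfl⟩
  refine hU (mem_classUnion.2 ⟨hh, g, ?_⟩)
  have hy1 : g * y * g⁻¹ ≠ 1 := fun e => by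
    rw [show y = 1 by simpa using e, orderOf_one] at ho
    exact hp.out.ne_one ho.symm
  rw [ax.cent_sylow Q hx hx1, ← ax.cent_sylow Q hyQ hy1, ax.map_cent,
    show g⁻¹ * (g * h * g⁻¹) * g = h by group]
  exact mem_cent.2 ((Commute.refl h).pow_right _)

/-- In the exceptional case there is a smaller subgroup with more than one Sylow subgroup. -/
theorem Axioms.exceptional [Fintype H] (hp3 : p = 3) {h : H} (hh : h ∉ Z) (hr : ¬ p ∣ orderOf h)
    (hk : Z.relIndex (cent h) = 2)
    (hRc : Nat.card (Subgroup.normalizer (cent h : Set H)) = 4 * Nat.card Z)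
    (hH : Nat.card H = 60 * Nat.card Z)
    (hclass : ∀ w, w ∉ Z → ¬ p ∣ orderOf w →
      w ∈ classUnion Z (cent h) ∨ Z.relIndex (cent w) = 5) :
    ∃ M : Subgroup H, M ≠ ⊤ ∧ 1 < Nat.card (Sylow p M) := by
  have hz0 : 0 < Nat.card Z := Nat.card_pos
  have hC : Nat.card (cent h) = Nat.card Z * 2 := by
    rw [← CfsgLib.Core.card_mul_relIndex (ax.z_le_cent h), hk]
  set R := Subgroup.normalizer (cent h : Set H) with hR
  have hCR : cent h ≤ R := Subgroup.le_normalizer
  have hi2 : (cent h).relIndex R = 2 := by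
    have := CfsgLib.Core.card_mul_relIndex hCR
    rw [hC, hRc] at this
    nlinarith
  have hZn : (Z.subgroupOf (cent h)).Normal := ⟨fun z hz g => by
    rw [Subgroup.mem_subgroupOf] at hz ⊢
    push_cast
    rw [← (ax.commute_z hz (g : H)).eq, mul_inv_cancel_right]
    exact hz⟩
  have hsq : h ^ 2 ∈ Z := by
    have := Subgroup.pow_index_mem (H := Z.subgroupOf (cent h)) ⟨h, mem_cent.2 (Commute.refl h)⟩
    rw [← Subgroup.relIndex, hk, Subgroup.mem_subgroupOf] at this
    simpa using this
  obtain ⟨w, hwR, hwC⟩ : ∃ w ∈ R, w ∉ cent h := SetLike.not_le_iff_exists.1 fun hle => by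
    rw [Subgroup.relIndex_eq_one.2 hle] at hi2
    omega
  have hwinv : w * h * w⁻¹ = h⁻¹ :=
    (ax.conj_inv h hh hr w (mem_cent.1 ((ax.mem_normalizer_cent_iff hh).1 hwR))).resolve_left
      fun e => hwC (mem_cent.2 (mul_inv_eq_iff_eq_mul.1 e))
  have hwZ : w ∉ Z := fun e => hwC (ax.z_le_cent h e)
  have hpR : ¬ p ∣ Nat.card R := by
    rw [hRc]
    intro hd
    rcases (Nat.Prime.dvd_mul hp.out).1 hd with e | e
    · rw [hp3] at e; norm_num at e
    · exact ax.coprime e
  have hwr : ¬ p ∣ orderOf w := fun hd => hpR (hd.trans (Subgroup.orderOf_dvd_natCard R hwR))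
  have hw2C : w ^ 2 ∈ cent h := by
    refine mem_cent.2 ?_
    show w ^ 2 * h = h * w ^ 2
    have e1 : w * (w * h * w⁻¹) * w⁻¹ = h := by
      rw [hwinv, ← _root_.conj_inv, hwinv, inv_inv]
    calc w ^ 2 * h = (w * (w * h * w⁻¹) * w⁻¹) * w ^ 2 := by simp [pow_two, mul_assoc]
      _ = h * w ^ 2 := by rw [e1]
  have hw2 : w ^ 2 ∈ Z := by
    by_contra hn
    exact hwC (mem_cent.2 (ax.abel (w ^ 2) hn w h ((Commute.refl w).pow_right 2)
      (mem_cent.1 hw2C).symm))
  rcases hclass w hwZ hwr with hU | h5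
  swap
  · exfalso
    haveI : (Z.subgroupOf (cent w)).Normal := ⟨fun z hz g => by
      rw [Subgroup.mem_subgroupOf] at hz ⊢
      push_cast
      rw [← (ax.commute_z hz (g : H)).eq, mul_inv_cancel_right]
      exact hz⟩
    have := Subgroup.pow_index_mem (H := Z.subgroupOf (cent w)) ⟨w, mem_cent.2 (Commute.refl w)⟩
    rw [← Subgroup.relIndex, h5, Subgroup.mem_subgroupOf] at this
    push_cast at this
    refine hwZ ?_
    rw [show w = w ^ 5 * ((w ^ 2) ^ 2)⁻¹ by group]
    exact mul_mem this (inv_mem (pow_mem hw2 2))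
  obtain ⟨-, g, hg⟩ := mem_classUnion.1 hU
  have hD : cent w = (cent h).map (MulAut.conj g⁻¹).toMonoidHom := by
    ext y
    rw [Subgroup.mem_map_equiv, ← ax.cent_eq hh (ax.not_mem_conj hwZ g) (mem_cent.1 hg), ax.map_cent]
    simp [mul_assoc]
  have hND : Subgroup.normalizer (cent w : Set H) = R.map (MulAut.conj g⁻¹).toMonoidHom := by
    rw [hD, hR, Subgroup.map_equiv_normalizer_eq]
  have hRD : R ≤ Subgroup.normalizer (cent w : Set H) := by
    have hhD : h ∈ Subgroup.normalizer (cent w : Set H) := by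
      rw [ax.mem_normalizer_cent_iff hwZ, mem_cent]
      have e1 : h * w * h⁻¹ = h ^ 2 * w := by
        calc h * w * h⁻¹ = h * (w * h * w⁻¹)⁻¹ * w := by group
          _ = h ^ 2 * w := by rw [hwinv, inv_inv, pow_two]
      rw [e1]
      exact (ax.commute_z hsq w).mul_left (Commute.refl w)
    have hCD : cent h ≤ Subgroup.normalizer (cent w : Set H) := by
      intro c hc
      by_cases hcZ : c ∈ Z
      · exact ax.z_le_normalizer _ hcZ
      have h2 := Subgroup.mul_mem_iff_of_index_two
        (show (Z.subgroupOf (cent h)).index = 2 from hk)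
        (a := ⟨c, hc⟩) (b := ⟨h, mem_cent.2 (Commute.refl h)⟩)
      simp only [Subgroup.mem_subgroupOf, Subgroup.coe_mul] at h2
      rw [show c = c * h * h⁻¹ by group]
      exact mul_mem (ax.z_le_normalizer _ (h2.2 (by tauto))) (inv_mem hhD)
    intro r hr'
    have hwD : w ∈ Subgroup.normalizer (cent w : Set H) :=
      Subgroup.le_normalizer (mem_cent.2 (Commute.refl w))
    by_cases hrC : r ∈ cent h
    · exact hCD hrC
    have h2 := Subgroup.mul_mem_iff_of_index_two
      (show ((cent h).subgroupOf R).index = 2 from hi2) (a := ⟨r, hr'⟩) (b := ⟨w, hwR⟩)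
    simp only [Subgroup.mem_subgroupOf, Subgroup.coe_mul] at h2
    rw [show r = r * w * w⁻¹ by group]
    exact mul_mem (hCD (h2.2 (by tauto))) (inv_mem hwD)
  have hmap : R.map (MulAut.conj g⁻¹).toMonoidHom = R :=
    (Subgroup.eq_of_le_of_card_ge (hND ▸ hRD)
      (le_of_eq (Subgroup.card_map_of_injective (MulEquiv.injective _)))).symm
  set M := Subgroup.normalizer (R : Set H) with hM
  have hRM : R ≤ M := Subgroup.le_normalizer
  have hgM : g ∈ M := by
    rw [← inv_mem_iff, hM, Subgroup.mem_normalizer_iff]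
    intro y
    conv_rhs => rw [← hmap, Subgroup.mem_map_equiv]
    simp [mul_assoc]
  have hgR : g ∉ R := fun hgR => hwC (by
    have h1 := (Subgroup.mem_normalizer_iff.1 hgR w).2 hg
    exact h1)
  -- the conjugates of the centralizer inside `R`
  let pick : M ⧸ R.subgroupOf M → H := fun m => (m.out : H) * h * (m.out : H)⁻¹
  let f : (M ⧸ R.subgroupOf M) × Z → {r : H // r ∈ R ∧ r ∉ Z} := fun mz =>
    ⟨pick mz.1 * mz.2, mul_mem ((Subgroup.mem_normalizer_iff.1 mz.1.out.2 h).1
        (hCR (mem_cent.2 (Commute.refl h)))) (hCR (ax.z_le_cent h mz.2.2)),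
      fun e => ax.not_mem_conj hh _ (by
        have := mul_mem e (inv_mem mz.2.2)
        rwa [mul_inv_cancel_right] at this)⟩
  have hfinj : Function.Injective f := by
    rintro ⟨m, z⟩ ⟨m', z'⟩ he
    have h1 : pick m * (z : H) = pick m' * (z' : H) := congrArg Subtype.val he
    have hmm : m = m' := by
      have hc : Commute (pick m') (pick m) := by
        have e1 : pick m' = pick m * ((z : H) * (z' : H)⁻¹) := by
          rw [← mul_assoc, h1, mul_inv_cancel_right]
        rw [e1]
        exact (Commute.refl _).mul_left (ax.commute_z (mul_mem z.2 (inv_mem z'.2)) _)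
      have h3 : ((m.out : M) : H)⁻¹ * (m'.out : M) ∈ R := by
        show _ ∈ Subgroup.normalizer (cent h : Set H)
        rw [ax.mem_normalizer_cent_iff hh, mem_cent]
        have h4 := hc.map (MulAut.conj ((m.out : M) : H)⁻¹).toMonoidHom
        convert h4 using 1 <;> simp [pick, mul_assoc]
      rw [← QuotientGroup.out_eq' m, ← QuotientGroup.out_eq' m', QuotientGroup.eq]
      exact h3
    subst hmm
    exact Prod.ext rfl (Subtype.ext (mul_left_cancel h1))
  have hle := Nat.card_le_card_of_injective f hfinj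
  have h3z : Nat.card {r : H // r ∈ R ∧ r ∉ Z} + Nat.card Z = Nat.card R := by
    have hZR : Z ≤ R := (ax.z_le_cent h).trans hCR
    have e2 : (R : Set H) = {r | r ∈ R ∧ r ∉ Z} ∪ (Z : Set H) := by
      ext y
      by_cases hy : y ∈ Z
      · simp [hy, hZR hy]
      · simp [hy]
    have e3 : Disjoint {r | r ∈ R ∧ r ∉ Z} (Z : Set H) :=
      Set.disjoint_left.2 fun y hy hy' => hy.2 hy'
    have e4 := Set.ncard_union_eq e3 (Set.toFinite _) (Set.toFinite _)
    rw [← e2] at e4
    rw [← Nat.card_coe_set_eq, ← Nat.card_coe_set_eq, ← Nat.card_coe_set_eq] at e4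
    exact e4.symm
  set i := R.relIndex M with hi
  have hMc : Nat.card R * i = Nat.card M := CfsgLib.Core.card_mul_relIndex hRM
  have hi3 : i ≤ 3 := by
    have h4 : i * Nat.card Z ≤ Nat.card {r : H // r ∈ R ∧ r ∉ Z} := by
      rw [Nat.card_prod] at hle
      exact hle
    rw [hRc] at h3z
    nlinarith
  have hi1 : i ≠ 1 := fun e => hgR (Subgroup.relIndex_eq_one.1 e hgM)
  have hi15 : i ∣ 15 := by
    have h5 : Nat.card R * i ∣ Nat.card H := hMc ▸ Subgroup.card_subgroup_dvd_card M
    rw [hRc, hH] at h5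
    refine (Nat.mul_dvd_mul_iff_left (show 0 < 4 * Nat.card Z by positivity)).1 (h5.trans (dvd_of_eq ?_))
    ring
  have hi0 : i ≠ 0 := Subgroup.index_ne_zero_of_finite
  have hi3' : i = 3 := by
    interval_cases i <;> omega
  rw [hi3', hRc] at hMc
  refine ⟨M, fun e => ?_, ?_⟩
  · rw [e, Subgroup.card_top, hH] at hMc
    nlinarith
  -- two Sylow subgroups
  obtain ⟨P⟩ := (inferInstance : Nonempty (Sylow p M))
  by_contra hle1
  haveI : Subsingleton (Sylow p M) :=
    Finite.card_le_one_iff_subsingleton.1 (not_lt.1 hle1)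
  haveI : (P : Subgroup M).Normal := Sylow.normal_of_subsingleton P
  haveI : (R.subgroupOf M).Normal := Subgroup.normal_subgroupOf_iff_le_normalizer hRM |>.2 le_rfl
  obtain ⟨x, hx⟩ := exists_prime_orderOf_dvd_card' (G := M) p
    (by rw [← hMc, hp3]; exact ⟨4 * Nat.card Z, by ring⟩)
  obtain ⟨P', hP'⟩ := (show IsPGroup p ↥(Subgroup.zpowers x) from
    IsPGroup.of_card (n := 1) (by rw [Nat.card_zpowers, hx, pow_one])).exists_le_sylow
  have hxP : x ∈ (P : Subgroup M) := Subsingleton.elim P' P ▸ hP' (Subgroup.mem_zpowers x)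
  have hdisj : Disjoint (P : Subgroup M) (R.subgroupOf M) := by
    rw [disjoint_iff, eq_bot_iff]
    intro y hy
    rw [Subgroup.mem_bot]
    obtain ⟨a, ha⟩ := IsPGroup.iff_orderOf.1 P.2 ⟨y, hy.1⟩
    refine Subtype.ext (regular_iff_not (p := p) ⟨a, ?_⟩ ?_)
    · rw [← ha, Subgroup.orderOf_mk, Subgroup.orderOf_coe]
    · exact fun hd => hpR (hd.trans (Subgroup.orderOf_dvd_natCard R hy.2))
  have hcomm := Subgroup.commute_of_normal_of_disjoint _ _ inferInstance inferInstance hdisj x
    ⟨h, hRM (hCR (mem_cent.2 (Commute.refl h)))⟩ hxP (hCR (mem_cent.2 (Commute.refl h)))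
  refine hh (ax.no_mixed (x : H) ⟨1, by rw [Subgroup.orderOf_coe, hx, pow_one]⟩ (fun e => ?_) h
    (congrArg Subtype.val hcomm.eq).symm hr)
  rw [show x = 1 from Subtype.ext e, orderOf_one] at hx
  exact hp.out.ne_one hx.symm

/-- **Dickson's count.** -/
theorem Axioms.dichotomy [Fintype H] (hodd : p ≠ 2) (hN : 1 < Nat.card (Sylow p H)) :
    (∃ M : Subgroup H, M ≠ ⊤ ∧ 1 < Nat.card (Sylow p M)) ∨
      ∀ Q : Sylow p H, Nat.card (Sylow p H) = Nat.card (Q : Subgroup H) + 1 := by
  refine or_iff_not_imp_left.2 fun hM Q => ?_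
  set N := Nat.card (Sylow p H) with hNdef
  set q := Nat.card (Q : Subgroup H) with hq
  set z := Nat.card Z with hz
  have hz0 : 0 < z := Nat.card_pos
  have hHN : Nat.card H = N * Nat.card (Subgroup.normalizer ((Q : Subgroup H) : Set H)) := by
    rw [hNdef, Sylow.card_eq_index_normalizer Q, mul_comm]
    exact (Subgroup.card_mul_index _).symm
  obtain ⟨hmod, -⟩ := ax.sylow_count_mod Q
  have hQb : (Q : Subgroup H) ≠ ⊥ := by
    intro e
    have : Subsingleton (Sylow p H) := ⟨fun A B => by
      obtain ⟨a, rfl⟩ := MulAction.exists_smul_eq H Q A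
      obtain ⟨b, rfl⟩ := MulAction.exists_smul_eq H Q B
      apply Sylow.ext
      rw [Sylow.coe_subgroup_smul, Sylow.coe_subgroup_smul, e]
      simp⟩
    have := Finite.card_le_one_iff_subsingleton.2 this
    omega
  obtain ⟨a, ha⟩ := IsPGroup.iff_card.1 Q.2
  have ha0 : a ≠ 0 := by
    rintro rfl
    exact hQb ((Subgroup.card_eq_one).1 (by rw [ha, pow_zero]))
  have hpo : Odd p := hp.out.odd_of_ne_two hodd
  have hqodd : Odd q := by rw [hq, ha]; exact hpo.pow
  have hpq : p ∣ q := by rw [hq, ha]; exact dvd_pow_self p ha0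
  have hq3 : 3 ≤ q := by
    have h1 := Nat.le_of_dvd (Nat.card_pos (α := (Q : Subgroup H))) hpq
    have h2 := hp.out.two_le
    omega
  obtain ⟨x, hx, hx1⟩ : ∃ x, x ∈ (Q : Subgroup H) ∧ x ≠ 1 := by
    by_contra hc
    push Not at hc
    exact hQb (eq_bot_iff.2 fun y hy => Subgroup.mem_bot.2 (hc y hy))
  have hxZ := ax.not_mem_of_ppow (ppow_of_mem hx) hx1
  have hU0 : (classUnion Z (cent x)).card = N * ((q - 1) * z) := by
    have h1 := ax.classUnion_card hxZ
    rw [ax.normalizer_cent_sylow Q hx hx1, ax.card_cent_sylow Q hx hx1, ← hq, ← hz,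
      ← Nat.sub_one_mul, hHN] at h1
    apply Nat.eq_of_mul_eq_mul_right (Nat.card_pos (α := Subgroup.normalizer ((Q : Subgroup H) : Set H)))
    rw [h1]; ring
  set S := Finset.univ.filter fun y : H => y ∉ Z with hS
  have hScard : S.card + z = Nat.card H := by
    rw [hz, Nat.card_eq_fintype_card, Fintype.card_subtype, hS, Nat.card_eq_fintype_card, add_comm,
      Finset.card_filter_add_card_filter_not, Finset.card_univ]
  have hUS : ∀ w : H, classUnion Z (cent w) ⊆ S := fun w y hy => by
    simp [hS, (mem_classUnion.1 hy).1]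
  obtain ⟨n, hn⟩ := hmod
  have hn1 : 1 ≤ n := by
    rcases n with _ | n
    · omega
    · omega
  have hNn : N = 1 + n * q := by
    rw [← hNdef, ← hq] at hn
    have : n * q = q * n := mul_comm _ _
    omega
  rcases ax.normalizer_sylow Q hQb with hk1 | ⟨h₁, h1Z, h1r, -, hk, hkdvd⟩
  · -- the normalizer is `Q × Z`
    rw [← hq, ← hz] at hk1
    rw [hk1] at hHN
    have hRcard : (S \ classUnion Z (cent x)).card = (N - 1) * z := by
      rw [Finset.card_sdiff_of_subset (hUS x), hU0]
      have : S.card = N * (q * z) - z := by omega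
      rw [this, Nat.sub_sub, Nat.sub_one_mul, Nat.sub_one_mul]
      have : N * (q * z - z) + N * z = N * (q * z) := by
        rw [← mul_add, Nat.sub_add_cancel (Nat.le_mul_of_pos_left z (by omega))]
      omega
    have hcls : ∀ w ∈ S \ classUnion Z (cent x),
        classUnion Z (cent w) ⊆ S \ classUnion Z (cent x) ∧ q = 3 ∧
          4 * (classUnion Z (cent w)).card = 3 * N * z := by
      intro w hw
      rw [Finset.mem_sdiff, hS, Finset.mem_filter] at hw
      have hwr := ax.regular_of_not_mem Q hx hx1 hw.1.2 hw.2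
      obtain ⟨s, hs, hd2, hpd, -, -, hU⟩ := ax.class_data hw.1.2 hwr
      have hsub : classUnion Z (cent w) ⊆ S \ classUnion Z (cent x) := by
        intro y hy
        rw [Finset.mem_sdiff]
        exact ⟨hUS w hy, Finset.disjoint_left.1 (ax.classUnion_disjoint hxZ hw.1.2 hw.2) hy⟩
      have hle := (Finset.card_le_card hsub).trans hRcard.le
      refine ⟨hsub, ?_⟩
      set U := (classUnion Z (cent w)).card
      rw [hHN] at hU
      obtain ⟨d', hd'eq⟩ : ∃ d', Z.relIndex (cent w) = d' + 2 :=
        ⟨Z.relIndex (cent w) - 2, by omega⟩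
      rw [hd'eq] at hU
      rw [show d' + 2 - 1 = d' + 1 by omega] at hU
      obtain ⟨N', hN'⟩ : ∃ N', N = N' + 1 := ⟨N - 1, by omega⟩
      rw [hN'] at hle hU ⊢
      rw [Nat.add_sub_cancel] at hle
      have h5 : (N' + 1) * (q * z) * (d' + 1) ≤ N' * z * (2 * (d' + 2)) := by
        rw [← hU]
        rcases hs with rfl | rfl <;> nlinarith
      have hq3' : q = 3 := by
        by_contra hne
        have : 4 ≤ q := by omega
        nlinarith [Nat.mul_le_mul_right ((N' + 1) * z * (d' + 1)) this]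
      refine ⟨hq3', ?_⟩
      rw [hq3'] at h5 hU
      have hd' : d' = 0 := by
        by_contra hne
        have : 1 ≤ d' := by omega
        nlinarith [Nat.mul_le_mul_left (N' * z) this]
      subst hd'
      rcases hs with rfl | rfl
      · exfalso; nlinarith
      · nlinarith
    obtain ⟨w, hw⟩ : (S \ classUnion Z (cent x)).Nonempty := by
      rw [← Finset.card_pos, hRcard]
      exact Nat.mul_pos (by omega) hz0
    obtain ⟨hsub, hq3', hU⟩ := hcls w hw
    have heq : classUnion Z (cent w) = S \ classUnion Z (cent x) := by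
      refine Finset.Subset.antisymm hsub fun v hv => ?_
      by_contra hvn
      obtain ⟨hsub', -, hU'⟩ := hcls v hv
      have hvZ : v ∉ Z := by
        have := (Finset.mem_sdiff.1 hv).1
        simpa [hS] using this
      have hwZ : w ∉ Z := by
        have := (Finset.mem_sdiff.1 hw).1
        simpa [hS] using this
      have h6 := Finset.card_le_card (Finset.union_subset hsub' hsub)
      rw [Finset.card_union_of_disjoint (ax.classUnion_disjoint hwZ hvZ hvn), hRcard] at h6
      rw [Nat.sub_one_mul] at h6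
      nlinarith [Nat.sub_add_cancel (Nat.le_mul_of_pos_left z (show 0 < N by omega))]
    rw [heq, hRcard] at hU
    rw [hq3']
    have h7 : (4 * (N - 1)) * z = (3 * N) * z := by rw [← hU]; ring
    have h8 := Nat.eq_of_mul_eq_mul_right hz0 h7
    omega
  · -- a second kind of centralizer
    obtain ⟨s₁, hs₁, hk2, -, hC1, hNC1, hU1⟩ := ax.class_data h1Z h1r
    set k := Z.relIndex (cent h₁) with hkdef
    rw [← hq, hC1, ← hz] at hk
    rw [hk] at hHN
    have h1U : h₁ ∉ classUnion Z (cent x) := fun hm => by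
      obtain ⟨-, g, hg⟩ := mem_classUnion.1 hm
      refine ax.not_mem_conj h1Z g (ax.no_mixed x (ppow_of_mem hx) hx1 _ (mem_cent.1 hg) ?_)
      rwa [show orderOf (g * h₁ * g⁻¹) = orderOf h₁ from (MulAut.conj g).orderOf_eq h₁]
    have hdisj := ax.classUnion_disjoint hxZ h1Z h1U
    set U1 := (classUnion Z (cent h₁)).card with hU1def
    set T := classUnion Z (cent x) ∪ classUnion Z (cent h₁) with hT
    have hTcard : (S \ T).card + (N * ((q - 1) * z) + U1) + z = N * (q * (z * k)) := by
      rw [Finset.card_sdiff_of_subset (Finset.union_subset (hUS x) (hUS h₁)),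
        Finset.card_union_of_disjoint hdisj.symm, hU0, ← hHN, ← hScard]
      have := Finset.card_le_card (Finset.union_subset (hUS x) (hUS h₁))
      rw [Finset.card_union_of_disjoint hdisj.symm, hU0] at this
      omega
    have hcls : ∀ w ∈ S \ T, classUnion Z (cent w) ⊆ S \ T ∧ ∃ s d, (s = 1 ∨ s = 2) ∧ 2 ≤ d ∧
        ¬ p ∣ d ∧ d = Z.relIndex (cent w) ∧
          (classUnion Z (cent w)).card * (s * d) = Nat.card H * (d - 1) := by
      intro w hw
      rw [Finset.mem_sdiff, hS, Finset.mem_filter, hT, Finset.mem_union, not_or] at hw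
      have hwr := ax.regular_of_not_mem Q hx hx1 hw.1.2 hw.2.1
      obtain ⟨s, hs, hd2, hpd, -, -, hU⟩ := ax.class_data hw.1.2 hwr
      refine ⟨fun y hy => ?_, s, _, hs, hd2, hpd, rfl, hU⟩
      rw [Finset.mem_sdiff, hT, Finset.mem_union, not_or]
      exact ⟨hUS w hy, Finset.disjoint_left.1 (ax.classUnion_disjoint hxZ hw.1.2 hw.2.1) hy,
        Finset.disjoint_left.1 (ax.classUnion_disjoint h1Z hw.1.2 hw.2.2) hy⟩
    obtain ⟨k', hk'⟩ : ∃ k', k = k' + 2 := ⟨k - 2, by omega⟩
    obtain ⟨N', hN'⟩ : ∃ N', N = N' + 2 := ⟨N - 2, by omega⟩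
    obtain ⟨q', hq'⟩ : ∃ q', q = q' + 3 := ⟨q - 3, by omega⟩
    rw [hHN] at hU1
    rw [show k - 1 = k' + 1 by omega] at hU1
    rw [show q - 1 = q' + 2 by omega] at hTcard
    have hU1' : U1 * s₁ = N * (q * z) * (k' + 1) := by
      apply Nat.eq_of_mul_eq_mul_right (show 0 < k by omega)
      rw [mul_assoc, hU1]
      ring
    replace hU1 := hU1'
    obtain ⟨w, hw⟩ : (S \ T).Nonempty := by
      rw [← Finset.card_pos]
      rw [hN', hq'] at hU1
      rw [hk', hN', hq'] at hTcard
      rcases hs₁ with rfl | rfl <;>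
        nlinarith [Nat.mul_pos hz0 (Nat.succ_pos N'), Nat.zero_le (N' * q' * z * k'),
          Nat.zero_le (N' * z * k'), Nat.zero_le (q' * z * k'), Nat.zero_le (z * k'),
          Nat.zero_le (N' * q' * z), Nat.zero_le (q' * z)]
    obtain ⟨hsub, s, d, hs, hd2, hpd, hdrel, hU⟩ := hcls w hw
    have hle := Finset.card_le_card hsub
    set U := (classUnion Z (cent w)).card with hUdef
    have hbig : ∀ v ∈ S \ T, Nat.card H ≤ 4 * (classUnion Z (cent v)).card := by
      intro v hv
      obtain ⟨-, s', d'', hs', hd'', -, -, hU'⟩ := hcls v hv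
      obtain ⟨e, rfl⟩ : ∃ e, d'' = e + 2 := ⟨d'' - 2, by omega⟩
      rw [show e + 2 - 1 = e + 1 by omega] at hU'
      rcases hs' with rfl | rfl <;> nlinarith
    rcases hs₁ with rfl | rfl
    · exfalso
      have h9 := hbig w hw
      rw [hN', hq'] at hU1
      rw [hk', hN', hq'] at hTcard
      rw [hHN, hk', hN', hq'] at h9
      nlinarith [Nat.zero_le (N' * q' * z * k'), Nat.zero_le (N' * z * k'), Nat.zero_le (q' * z * k'),
          Nat.zero_le (z * k'), Nat.zero_le (N' * q' * z), Nat.zero_le (q' * z), Nat.zero_le (N' * z)]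
    obtain ⟨d', hd'⟩ : ∃ d', d = d' + 2 := ⟨d - 2, by omega⟩
    have hs2 : s = 2 := by
      rcases hs with rfl | rfl
      · exfalso
        rw [hHN, hk', hN', hq', hd', show d' + 2 - 1 = d' + 1 by omega] at hU
        rw [hN', hq'] at hU1
        rw [hk', hN', hq'] at hTcard
        nlinarith [Nat.zero_le (N' * q' * z * k'), Nat.zero_le (N' * z * k'), Nat.zero_le (q' * z * k'),
          Nat.zero_le (z * k'), Nat.zero_le (N' * q' * z), Nat.zero_le (q' * z), Nat.zero_le (N' * z)]
      · rfl
    subst hs2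
    have heq : classUnion Z (cent w) = S \ T := by
      refine Finset.Subset.antisymm hsub fun v hv => ?_
      by_contra hvn
      obtain ⟨hsub', -⟩ := hcls v hv
      have hvZ : v ∉ Z := by
        have := (Finset.mem_sdiff.1 hv).1
        simpa [hS] using this
      have hwZ : w ∉ Z := by
        have := (Finset.mem_sdiff.1 hw).1
        simpa [hS] using this
      have h6 := Finset.card_le_card (Finset.union_subset hsub' hsub)
      rw [Finset.card_union_of_disjoint (ax.classUnion_disjoint hwZ hvZ hvn)] at h6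
      have h9 := hbig w hw
      have h10 := hbig v hv
      rw [hHN, hk', hN', hq'] at h9 h10
      rw [hN', hq'] at hU1
      rw [hk', hN', hq'] at hTcard
      nlinarith [Nat.zero_le (N' * q' * z * k'), Nat.zero_le (N' * z * k'), Nat.zero_le (q' * z * k'),
          Nat.zero_le (z * k'), Nat.zero_le (N' * q' * z), Nat.zero_le (q' * z), Nat.zero_le (N' * z)]
    rw [← heq, ← hUdef] at hTcard
    have hkey : d * (N * q * (k - 1) + 2 * N - 2) = (N * (q * k)) * (d - 1) := by
      obtain ⟨M', hM'⟩ : ∃ M', N * q * (k - 1) + 2 * N - 2 = M' ∧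
          M' + 2 = N * q * (k - 1) + 2 * N := ⟨_, rfl, Nat.sub_add_cancel (by omega)⟩
      rw [hM'.1]
      have h11 : U * 2 = M' * z := by
        have h12 := hM'.2
        rw [show k - 1 = k' + 1 by omega] at h12
        have h14 := hU1
        rw [hN', hq'] at h12
        rw [hk'] at hTcard
        rw [hN', hq'] at h14 hTcard
        nlinarith
      apply Nat.eq_of_mul_eq_mul_right hz0
      rw [show d * M' * z = (M' * z) * d by ring, ← h11,
        show U * 2 * d = U * (2 * d) by ring, hU, hHN]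
      ring
    rcases arith_two hq3 hqodd hpq hn1 hNn hk2 hkdvd hd2 hpd rfl hkey with h | ⟨e1, e2, e3, e4⟩
    · exact h
    exfalso
    refine hM (ax.exceptional ?_ h1Z h1r e2 ?_ ?_ ?_)
    · exact (Nat.prime_dvd_prime_iff_eq hp.out Nat.prime_three).1 (e1 ▸ hpq)
    · rw [hNC1, hC1, e2, ← hz]; ring
    · rw [hHN, e1, e2, e3]; ring
    · intro v hvZ hvr
      by_cases hv1 : v ∈ classUnion Z (cent h₁)
      · exact Or.inl hv1
      right
      have hvx : v ∉ classUnion Z (cent x) := fun hm => by
        obtain ⟨-, g, hg⟩ := mem_classUnion.1 hm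
        refine ax.not_mem_conj hvZ g (ax.no_mixed x (ppow_of_mem hx) hx1 _ (mem_cent.1 hg) ?_)
        rwa [show orderOf (g * v * g⁻¹) = orderOf v from (MulAut.conj g).orderOf_eq v]
      have hvT : v ∈ classUnion Z (cent w) := by
        rw [heq, Finset.mem_sdiff, hT, Finset.mem_union, not_or]
        exact ⟨by simp [hS, hvZ], hvx, hv1⟩
      obtain ⟨-, g, hg⟩ := mem_classUnion.1 hvT
      have hwZ : w ∉ Z := by
        have := (Finset.mem_sdiff.1 hw).1
        simpa [hS] using this
      have hcard : Nat.card (cent v) = Nat.card (cent w) := by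
        have h15 : (cent v).map (MulAut.conj g).toMonoidHom = cent w := by
          rw [← ax.cent_eq hwZ (ax.not_mem_conj hvZ g) (mem_cent.1 hg)]
          ext y
          rw [Subgroup.mem_map_equiv, ax.map_cent]
          simp [mul_assoc]
        rw [← h15, Subgroup.card_map_of_injective (MulEquiv.injective _)]
      rw [← CfsgLib.Core.card_mul_relIndex (ax.z_le_cent v),
        ← CfsgLib.Core.card_mul_relIndex (ax.z_le_cent w), ← hdrel] at hcard
      rw [Nat.eq_of_mul_eq_mul_left hz0 hcard, e4]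

end CfsgLib.Dickson
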