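import Mathlib

/-! A group with a cyclic subgroup of index two inverted by an involution is dihedral. -/

set_option autoImplicit false

namespace CfsgLib.Dickson

open DihedralGroup

variable {H : Type*} [Group H]

/-- A finite group generated by a cyclic subgroup of index two and an involution inverting it. -/
theorem equiv_dihedral [Finite H] {c g : H} {k : ℕ} (hk : orderOf c = k) (hcard : Nat.card H = 2 * k)
    (hg : g * g = 1) (hgc : g ∉ Subgroup.zpowers c) (hinv : g * c * g⁻¹ = c⁻¹) :
    Nonempty (H ≃* DihedralGroup k) := by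
  have hk0 : 0 < k := by
    rw [← hk]
    exact orderOf_pos c
  have : NeZero k := ⟨hk0.ne'⟩
  have hck : c ^ k = 1 := hk ▸ pow_orderOf_eq_one c
  have hadd : ∀ i j : ZMod k, c ^ (i + j).val = c ^ i.val * c ^ j.val := fun i j => by
    rw [ZMod.val_add, ← pow_add, pow_eq_pow_mod (i.val + j.val) hck]
  have hsub : ∀ i j : ZMod k, c ^ (j - i).val = (c ^ i.val)⁻¹ * c ^ j.val := fun i j => by
    rw [eq_inv_mul_iff_mul_eq, ← hadd, add_sub_cancel]
  have hcomm : ∀ m n : ℕ, c ^ m * c ^ n = c ^ n * c ^ m := fun m n => by rw [← pow_add, ← pow_add, add_comm]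
  have hgm : ∀ m : ℕ, c ^ m * g = g * (c ^ m)⁻¹ := fun m => by
    have h1 : g * c ^ m * g⁻¹ = (c ^ m)⁻¹ := by rw [← conj_pow, hinv, inv_pow]
    have hgi : g⁻¹ = g := inv_eq_of_mul_eq_one_right hg
    rw [hgi] at h1
    calc c ^ m * g = g * (g * c ^ m * g) := by rw [← mul_assoc, ← mul_assoc, hg, one_mul]
      _ = g * (c ^ m)⁻¹ := by rw [h1]
  let φ : DihedralGroup k →* H :=
    { toFun := fun x => match x with
        | .r i => c ^ i.val
        | .sr i => g * c ^ i.val
      map_one' := by
        show c ^ (0 : ZMod k).val = 1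
        rw [ZMod.val_zero, pow_zero]
      map_mul' := fun x y => by
        rcases x with i | i <;> rcases y with j | j
        · rw [r_mul_r]; exact hadd i j
        · rw [r_mul_sr]
          show g * c ^ (j - i).val = c ^ i.val * (g * c ^ j.val)
          rw [hsub, ← mul_assoc (c ^ i.val), hgm, mul_assoc]
        · rw [sr_mul_r]
          show g * c ^ (i + j).val = g * c ^ i.val * c ^ j.val
          rw [hadd, mul_assoc]
        · rw [sr_mul_sr]
          show c ^ (j - i).val = g * c ^ i.val * (g * c ^ j.val)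
          rw [hsub, mul_assoc g, ← mul_assoc (c ^ i.val), hgm, ← mul_assoc g, ← mul_assoc g, hg, one_mul] }
  have hinj : Function.Injective φ := by
    rw [injective_iff_map_eq_one]
    rintro (i | i) h
    · have h1 : c ^ i.val = 1 := h
      have h2 := Nat.eq_zero_of_dvd_of_lt ((dvd_of_eq hk.symm).trans (orderOf_dvd_of_pow_eq_one h1)) (ZMod.val_lt i)
      rw [ZMod.val_eq_zero] at h2
      rw [h2]; rfl
    · have h1 : g * c ^ i.val = 1 := h
      refine absurd ?_ hgc
      rw [mul_eq_one_iff_eq_inv.mp h1]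
      exact Subgroup.inv_mem _ (Subgroup.pow_mem _ (Subgroup.mem_zpowers c) _)
  exact ⟨(MulEquiv.ofBijective φ ((Nat.bijective_iff_injective_and_card φ).mpr
    ⟨hinj, by rw [DihedralGroup.nat_card, hcard]⟩)).symm⟩

end CfsgLib.Dickson
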