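import Cfsg.Agent.Lib.DicksonMaxCases

/-! Automorphisms of `PSL₂` from `GL₂`, and normal forms of Klein four-groups. -/

set_option autoImplicit false
set_option linter.style.haveILetI false

universe u v

namespace CfsgLib.Dickson

open Matrix

variable {F : Type u} [Field F]

/-- Conjugation by an invertible matrix on `SL₂`. -/
def conjSL (P : GL (Fin 2) F) : SL F ≃* SL F where
  toFun g := ⟨P.1 * g.1 * (P⁻¹).1, by
    rw [Matrix.det_mul, Matrix.det_mul, mul_right_comm, ← Matrix.det_mul, ← Units.val_mul, mul_inv_cancel,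
      Units.val_one, Matrix.det_one, one_mul, g.2]⟩
  invFun g := ⟨(P⁻¹).1 * g.1 * P.1, by
    rw [Matrix.det_mul, Matrix.det_mul, mul_right_comm, ← Matrix.det_mul, ← Units.val_mul, inv_mul_cancel,
      Units.val_one, Matrix.det_one, one_mul, g.2]⟩
  left_inv g := Subtype.ext (by simp [mul_assoc])
  right_inv g := Subtype.ext (by simp [mul_assoc])
  map_mul' g h := Subtype.ext (by
    show P.1 * (g.1 * h.1) * (P⁻¹).1 = P.1 * g.1 * (P⁻¹).1 * (P.1 * h.1 * (P⁻¹).1)
    simp [mul_assoc])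

theorem coe_conjSL (P : GL (Fin 2) F) (g : SL F) :
    ((conjSL P g : SL F) : Matrix (Fin 2) (Fin 2) F) = P.1 * g.1 * (P⁻¹).1 := rfl

/-- An automorphism of `SL₂` on `PSL₂`. -/
def autP (e : SL F ≃* SL F) : PSL F ≃* PSL F :=
  QuotientGroup.congr _ _ e (by
    ext x
    rw [Subgroup.mem_map, Subgroup.mem_center_iff]
    constructor
    · rintro ⟨y, hy, rfl⟩ z
      show z * e y = e y * z
      rw [← e.apply_symm_apply z, ← map_mul, ← map_mul, Subgroup.mem_center_iff.1 hy]
    · intro hx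
      refine ⟨e.symm x, Subgroup.mem_center_iff.2 fun z => e.injective ?_, e.apply_symm_apply x⟩
      rw [map_mul, map_mul, e.apply_symm_apply, hx])

theorem autP_mk (e : SL F ≃* SL F) (g : SL F) : autP e (mkP g) = mkP (e g) := rfl

/-- The trace of a matrix of `SL₂`. -/
def tr (g : SL F) : F := g.1 0 0 + g.1 1 1

theorem tr_neg (g : SL F) : tr (-g) = -tr g := by simp [tr, add_comm]

theorem mul_self_eq (g : SL F) : g.1 * g.1 = tr g • g.1 - 1 := by
  have hd := det_eq g
  ext i j
  fin_cases i <;> fin_cases j <;> simp [tr, Matrix.mul_apply, Fin.sum_univ_two]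
  · linear_combination -hd
  · ring
  · ring
  · linear_combination -hd

theorem coeff_eq_zero {g h : SL F} (hh : IsScal h) (hg : ¬ IsScal g) {c d : F}
    (e : h.1 = c • g.1 + d • (1 : Matrix (Fin 2) (Fin 2) F)) : c = 0 := by
  by_contra hc
  obtain ⟨h1, h2, h3⟩ := hh
  rw [e] at h1 h2 h3
  simp [hc] at h1 h2 h3
  exact hg ⟨h1, h2, h3⟩

theorem tr_of_sq {g : SL F} (hg : ¬ IsScal g) (h : IsScal (g * g)) : tr g = 0 :=
  coeff_eq_zero h hg (d := -1) (by rw [Matrix.SpecialLinearGroup.coe_mul, mul_self_eq]; module)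

theorem pow_three_eq (g : SL F) :
    g.1 * g.1 * g.1 = (tr g ^ 2 - 1) • g.1 + (-tr g) • (1 : Matrix (Fin 2) (Fin 2) F) := by
  rw [mul_self_eq, Matrix.sub_mul, Matrix.smul_mul, mul_self_eq, one_mul]; module

theorem tr_of_cube {g : SL F} (hg : ¬ IsScal g) (h : IsScal (g ^ 3)) : tr g ^ 2 = 1 :=
  sub_eq_zero.1 (coeff_eq_zero h hg (d := -tr g) (by
    rw [pow_succ, pow_two, Matrix.SpecialLinearGroup.coe_mul, Matrix.SpecialLinearGroup.coe_mul, pow_three_eq]))

theorem tr_of_four {g : SL F} (hg : ¬ IsScal g) (h : IsScal (g ^ 4)) : tr g = 0 ∨ tr g ^ 2 = 2 := by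
  have e := coeff_eq_zero h hg (c := tr g ^ 3 - 2 * tr g) (d := 1 - tr g ^ 2) (by
    rw [pow_succ, pow_succ, pow_two, Matrix.SpecialLinearGroup.coe_mul, Matrix.SpecialLinearGroup.coe_mul,
      Matrix.SpecialLinearGroup.coe_mul, pow_three_eq, Matrix.add_mul, Matrix.smul_mul, Matrix.smul_mul,
      mul_self_eq, one_mul]
    module)
  rcases mul_eq_zero.1 (show tr g * (tr g ^ 2 - 2) = 0 by linear_combination e) with h1 | h1
  · exact Or.inl h1
  · exact Or.inr (sub_eq_zero.1 h1)

theorem tr_of_five {g : SL F} (hg : ¬ IsScal g) (h : IsScal (g ^ 5)) :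
    (tr g * tr g + tr g - 1) * (tr g * tr g - tr g - 1) = 0 := by
  have e := coeff_eq_zero h hg (c := tr g ^ 4 - 3 * tr g ^ 2 + 1) (d := -(tr g ^ 3 - 2 * tr g)) (by
    rw [Matrix.SpecialLinearGroup.coe_pow, CfsgLib.Classical.pow_five_eq g (tr g) rfl]
    module)
  linear_combination e

theorem tr_of_scal {g : SL F} (hg : IsScal g) : tr g = 2 ∨ tr g = -2 := by
  rcases CfsgLib.Classical.eq_one_or_neg_one_of_isScal hg with rfl | rfl
  · left; simp [tr]; norm_num
  · right; simp [tr]; norm_num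

theorem isScal_pow_of_mkP {g : SL F} {n : ℕ} (h : mkP g ^ n = 1) : IsScal (g ^ n) :=
  mkP_eq_one.1 (by rw [map_pow, h])

/-- Conjugation by a matrix with given images of the columns. -/
theorem exists_conj {ι : Type v} (P : Matrix (Fin 2) (Fin 2) F) (hP : P.det ≠ 0) (g h : ι → SL F)
    (e : ∀ i, (g i).1 * P = P * (h i).1) :
    ∃ c : SL F ≃* SL F, (∀ x, tr (c x) = tr x) ∧ ∀ i, c (g i) = h i := by
  refine ⟨conjSL (GeneralLinearGroup.mkOfDetNeZero P hP)⁻¹, fun x => ?_, fun i => Subtype.ext ?_⟩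
  · have h1 := Matrix.trace_units_conj (GeneralLinearGroup.mkOfDetNeZero P hP)⁻¹ x.1
    rw [inv_inv, Matrix.trace_fin_two, Matrix.trace_fin_two] at h1
    show (conjSL (GeneralLinearGroup.mkOfDetNeZero P hP)⁻¹ x).1 0 0 +
      (conjSL (GeneralLinearGroup.mkOfDetNeZero P hP)⁻¹ x).1 1 1 = _
    rw [coe_conjSL, inv_inv]
    exact h1
  set U := GeneralLinearGroup.mkOfDetNeZero P hP
  have hU : (U : Matrix (Fin 2) (Fin 2) F) = P := rfl
  rw [coe_conjSL, inv_inv, mul_assoc, hU, e i, ← mul_assoc, ← hU, ← Units.val_mul, inv_mul_cancel, Units.val_one,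
    one_mul]

/-- Nonscalar matrices of determinant one with the same trace are conjugate. -/
theorem exists_conj_companion {g h : SL F} (hg : ¬ IsScal g) (hh : ¬ IsScal h) (ht : tr g = tr h) :
    ∃ c : SL F ≃* SL F, c g = h := by
  let C : F → SL F := fun t => ⟨!![0, -1; 1, t], by simp [Matrix.det_fin_two]⟩
  have key : ∀ k : SL F, ¬ IsScal k → ∃ c : SL F ≃* SL F, c k = C (tr k) := by
    intro k hk
    obtain ⟨x, y, hxy⟩ : ∃ x y : F, x * (k.1 1 0 * x + k.1 1 1 * y) - y * (k.1 0 0 * x + k.1 0 1 * y) ≠ 0 := by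
      by_contra! hall
      have h1 := hall 1 0
      have h2 := hall 0 1
      have h3 := hall 1 1
      simp at h1 h2 h3
      rw [h1, h2] at h3
      exact hk ⟨h2, h1, by linear_combination -h3⟩
    obtain ⟨c, -, hc⟩ := exists_conj (ι := Unit) !![x, k.1 0 0 * x + k.1 0 1 * y; y, k.1 1 0 * x + k.1 1 1 * y]
      (by rw [Matrix.det_fin_two_of]; intro e; exact hxy (by linear_combination e)) (fun _ => k) (fun _ => C (tr k))
      (fun _ => by
        have hd := det_eq k
        ext i j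
        fin_cases i <;> fin_cases j <;> simp [C, tr, Matrix.mul_apply, Fin.sum_univ_two] <;>
          first
          | ring1
          | linear_combination -x * hd
          | linear_combination -y * hd)
    exact ⟨c, hc ()⟩
  obtain ⟨c, hc⟩ := key g hg
  obtain ⟨d, hd⟩ := key h hh
  exact ⟨c.trans d.symm, by rw [MulEquiv.trans_apply, hc, ht, ← hd, MulEquiv.symm_apply_apply]⟩

/-- Generators of a Klein four-group. -/
def KPair {H : Type v} [Group H] (u v : H) : Prop :=
  u * u = 1 ∧ v * v = 1 ∧ u ≠ 1 ∧ v ≠ 1 ∧ u ≠ v ∧ u * v = v * u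

theorem KPair.map {H : Type*} [Group H] {G : Type*} [Group G] {u v : H} (h : KPair u v) (f : H →* G)
    (hf : Function.Injective f) : KPair (f u) (f v) :=
  ⟨by rw [← map_mul, h.1, map_one], by rw [← map_mul, h.2.1, map_one],
    fun e => h.2.2.1 (hf (e.trans (map_one f).symm)), fun e => h.2.2.2.1 (hf (e.trans (map_one f).symm)),
    fun e => h.2.2.2.2.1 (hf e), by rw [← map_mul, h.2.2.2.2.2, map_mul]⟩

/-- The standard pair. -/
def stdI : SL F := ⟨!![0, -1; 1, 0], by simp [Matrix.det_fin_two]⟩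

/-- The standard pair. -/
def stdJ (a b : F) (hab : a * a + b * b = -1) : SL F :=
  ⟨!![a, b; b, -a], by simp [Matrix.det_fin_two]; linear_combination -hab⟩

/-- Two Klein generators can be brought to the standard form. -/
theorem klein_normal_form (h2 : (2 : F) ≠ 0) {a b : F} (hab : a * a + b * b = -1) {u v : PSL F}
    (h : KPair u v) :
    ∃ c : SL F ≃* SL F, (∀ x, tr (c x) = tr x) ∧ autP c u = mkP stdI ∧ autP c v = mkP (stdJ a b hab) := by
  obtain ⟨hu, hv, hu1, hv1, huv, hc⟩ := h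
  obtain ⟨I, rfl⟩ := mkP_surjective u
  obtain ⟨J, rfl⟩ := mkP_surjective v
  have hI : ¬ IsScal I := fun e => hu1 (mkP_eq_one.2 e)
  have hJ : ¬ IsScal J := fun e => hv1 (mkP_eq_one.2 e)
  have tI : I.1 0 0 + I.1 1 1 = 0 := tr_of_sq hI (mkP_eq_one.1 (by rw [map_mul, hu]))
  have tJ : J.1 0 0 + J.1 1 1 = 0 := tr_of_sq hJ (mkP_eq_one.1 (by rw [map_mul, hv]))
  have dI := det_eq I
  have dJ := det_eq J
  have anti : I.1 * J.1 = -(J.1 * I.1) := by
    rcases mkP_eq_iff.1 (show mkP (I * J) = mkP (J * I) by rw [map_mul, map_mul, hc]) with e | e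
    · exfalso
      obtain ⟨β, b1, b2, b3⟩ := exists_coeff hI (show Commute J I from e.symm)
      have b00 : J.1 0 0 = β * I.1 0 0 := by
        refine mul_left_cancel₀ h2 ?_
        linear_combination b3 + tJ - β * tI
      have b11 : J.1 1 1 = β * I.1 1 1 := by linear_combination tJ - β * tI - b00
      have hβ : (β - 1) * (β + 1) = 0 := by
        rw [b00, b11, b1, b2] at dJ
        linear_combination dJ - β ^ 2 * dI
      rcases mul_eq_zero.1 hβ with e | e
      · rw [sub_eq_zero.1 e, one_mul] at b00 b11 b1 b2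
        exact huv (congrArg mkP (sl_ext b00.symm b1.symm b2.symm b11.symm))
      · rw [eq_neg_of_add_eq_zero_left e] at b00 b11 b1 b2
        refine huv (mkP_eq_iff.2 (Or.inr (sl_ext ?_ ?_ ?_ ?_))) <;> simp [b00, b11, b1, b2]
    · simpa using congrArg Subtype.val e
  have hq : 2 * (I.1 0 0 * J.1 0 0) + I.1 0 1 * J.1 1 0 + I.1 1 0 * J.1 0 1 = 0 := by
    have e := congrFun (congrFun anti 0) 0
    simp [Matrix.mul_apply, Fin.sum_univ_two] at e
    linear_combination e
  have i11 : I.1 1 1 = -I.1 0 0 := by linear_combination tI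
  have j11 : J.1 1 1 = -J.1 0 0 := by linear_combination tJ
  have hdet : (J.1 - b • I.1 - a • (1 : Matrix (Fin 2) (Fin 2) F)).det = 0 := by
    rw [Matrix.det_fin_two]
    simp
    rw [i11] at dI ⊢
    rw [j11] at dJ ⊢
    linear_combination dJ + b ^ 2 * dI + b * hq + hab
  obtain ⟨w, hw0, hw⟩ := Matrix.exists_mulVec_eq_zero_iff.2 hdet
  have hJw : J.1 *ᵥ w = a • w + b • (I.1 *ᵥ w) := by
    rw [Matrix.sub_mulVec, Matrix.sub_mulVec, Matrix.smul_mulVec, Matrix.smul_mulVec, Matrix.one_mulVec] at hw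
    linear_combination (norm := module) hw
  have hIIw : I.1 *ᵥ (I.1 *ᵥ w) = -w := by
    rw [Matrix.mulVec_mulVec, mul_self_eq, show tr I = 0 from tI, zero_smul, zero_sub, Matrix.neg_mulVec, Matrix.one_mulVec]
  have hJIw : J.1 *ᵥ (I.1 *ᵥ w) = b • w - a • (I.1 *ᵥ w) := by
    have e : J.1 * I.1 = -(I.1 * J.1) := by rw [anti, neg_neg]
    rw [Matrix.mulVec_mulVec, e, Matrix.neg_mulVec, ← Matrix.mulVec_mulVec, hJw, Matrix.mulVec_add, Matrix.mulVec_smul,
      Matrix.mulVec_smul, hIIw]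
    module
  set z := I.1 *ᵥ w with hz
  have hind : w 0 * z 1 - z 0 * w 1 ≠ 0 := by
    intro e
    obtain ⟨l, hl⟩ : ∃ l : F, z = l • w := by
      by_cases h0 : w 0 = 0
      · have h1 : w 1 ≠ 0 := fun h => hw0 (funext fun i => by fin_cases i <;> assumption)
        refine ⟨z 1 / w 1, funext fun i => ?_⟩
        fin_cases i
        · rw [h0] at e; simp [h0] ; simpa [h1] using e
        · simp [h1]
      · refine ⟨z 0 / w 0, funext fun i => ?_⟩
        fin_cases i
        · simp [h0]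
        · simp; field_simp; linear_combination e
    rw [hl, Matrix.mulVec_smul] at hJIw
    rw [hl, smul_smul] at hJw
    rw [hJw] at hJIw
    rw [hl, Matrix.mulVec_smul, ← hz, hl, smul_smul] at hIIw
    obtain ⟨i, hi⟩ := Function.ne_iff.1 hw0
    simp only [Pi.zero_apply] at hi
    have e1 := congrFun hJIw i
    have e2 := congrFun hIIw i
    simp at e1 e2
    have e3 : l * l = -1 := mul_right_cancel₀ hi (by linear_combination e2)
    have e4 : a + b * l = 0 := by
      have h5 : 2 * l * (a + b * l) = 0 := mul_right_cancel₀ hi (by linear_combination e1 + b * w i * e3)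
      refine (mul_eq_zero.1 h5).resolve_left (mul_ne_zero h2 fun h => ?_)
      rw [h, mul_zero] at e3
      exact one_ne_zero (by linear_combination e3 : (1 : F) = 0)
    have hJw0 : J.1 *ᵥ w = 0 := by rw [hJw, ← add_smul, e4, zero_smul]
    refine hw0 (Matrix.eq_zero_of_mulVec_eq_zero ?_ hJw0)
    rw [J.2]; exact one_ne_zero
  obtain ⟨c, ht, hc⟩ := exists_conj (ι := Bool) !![w 0, z 0; w 1, z 1]
    (by rw [Matrix.det_fin_two_of]; exact hind) (fun i => if i then I else J)
    (fun i => if i then stdI else stdJ a b hab) (fun i => by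
      have a0 := congrFun hIIw
      have a1 := congrFun hJw
      have a2 := congrFun hJIw
      have a3 : ∀ i, (I.1 *ᵥ w) i = z i := fun _ => rfl
      simp [Matrix.mulVec, dotProduct, Fin.sum_univ_two] at a0 a1 a2 a3
      cases i <;> (ext k l; fin_cases k <;> fin_cases l) <;>
        simp [stdI, stdJ, Matrix.mul_apply, Fin.sum_univ_two, a0, a1, a2, a3] <;> ring)
  exact ⟨c, ht, by rw [autP_mk]; exact congrArg mkP (hc true), by rw [autP_mk]; exact congrArg mkP (hc false)⟩

/-- Any two Klein generating pairs are conjugate under automorphisms. -/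
theorem klein_conj {p : ℕ} [Fact p.Prime] [CharP F p] (hp2 : p ≠ 2) {u v u' v' : PSL F} (h : KPair u v)
    (h' : KPair u' v') : ∃ σ : PSL F ≃* PSL F, σ u = u' ∧ σ v = v' := by
  obtain ⟨a, b, hab⟩ := ZMod.sq_add_sq p (-1)
  have hab' : ZMod.castHom dvd_rfl F a * ZMod.castHom dvd_rfl F a +
      ZMod.castHom dvd_rfl F b * ZMod.castHom dvd_rfl F b = -1 := by
    rw [← map_mul, ← map_mul, ← map_add, ← sq, ← sq, hab, map_neg, map_one]
  have h2 := two_ne_zero_of_char (F := F) hp2
  obtain ⟨c, -, c1, c2⟩ := klein_normal_form h2 hab' h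
  obtain ⟨d, -, d1, d2⟩ := klein_normal_form h2 hab' h'
  exact ⟨(autP c).trans (autP d).symm, by rw [MulEquiv.trans_apply, c1, ← d1, MulEquiv.symm_apply_apply],
    by rw [MulEquiv.trans_apply, c2, ← d2, MulEquiv.symm_apply_apply]⟩

end CfsgLib.Dickson
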