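import Mathlib
/-! Jordan's theorem on cycles of prime length in primitive groups. -/

namespace CfsgLib.Perm

open MulAction Equiv Equiv.Perm

variable {α : Type*} [Fintype α] [DecidableEq α]

theorem eq_pow_on_support_of_commute {g c : Equiv.Perm α} (hg : g.IsCycle) (hc : Commute c g) :
    ∃ i : ℤ, ∀ x ∈ g.support, c x = (g ^ i) x := by
  obtain ⟨x₀, hx₀, hcyc⟩ := hg
  have hcx : g (c x₀) ≠ c x₀ := by
    intro h
    apply hx₀
    apply c.injective
    rw [show c (g x₀) = g (c x₀) from Equiv.Perm.ext_iff.mp hc.eq x₀, h]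
  obtain ⟨i, hi⟩ := hcyc hcx
  refine ⟨i, fun x hx => ?_⟩
  obtain ⟨j, rfl⟩ := hcyc (mem_support.mp hx)
  calc c ((g ^ j) x₀) = (g ^ j) (c x₀) := Equiv.Perm.ext_iff.mp (hc.zpow_right j).eq x₀
    _ = (g ^ j) ((g ^ i) x₀) := by rw [hi]
    _ = (g ^ i) ((g ^ j) x₀) := by rw [← Perm.mul_apply, ← zpow_add, add_comm, zpow_add, Perm.mul_apply]

variable {G : Subgroup (Equiv.Perm α)}

/-- Jordan: a primitive group containing a cycle of prime length `p ≤ n - 3` contains the alternating group. -/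
theorem alternatingGroup_le_of_prime_cycle (hG : IsPreprimitive G α) {p : ℕ} (hp : p.Prime)
    (hp' : p + 3 ≤ Nat.card α) {g : Equiv.Perm α} (hgc : g.IsCycle) (hgp : g.support.card = p)
    (hg : g ∈ G) : alternatingGroup α ≤ G := by
  classical
  haveI : Fact p.Prime := ⟨hp⟩
  set F : Set α := (g.support : Set α)ᶜ with hF
  set k := Nat.card α - p with hk
  have hFc : F.ncard = k := by
    have := Set.ncard_add_ncard_compl (g.support : Set α)
    rw [Set.ncard_coe_finset, hgp, ← hF] at this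
    omega
  obtain ⟨n, hn⟩ : ∃ n, k = n + 1 := ⟨k - 1, by omega⟩
  haveI hpre : IsMultiplyPreprimitive G α (n + 2) := by
    refine hG.isMultiplyPreprimitive (s := F) (by rw [hFc, hn]) (by have := hp.two_le; omega) ?_
    have := isPretransitive_of_isCycle_mem hgc hg
    apply IsPreprimitive.of_prime_card
    convert! hp
    rw [Nat.card_eq_fintype_card, Fintype.card_subtype, ← hgp]
    apply congr_arg
    ext x
    simp [hF, SubMulAction.mem_ofFixingSubgroup_iff]
  haveI hmt : IsMultiplyPretransitive G α (n + 2) := IsMultiplyPreprimitive.isMultiplyPretransitive ..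
  haveI hk' : IsMultiplyPretransitive G α k :=
    isMultiplyPretransitive_of_le' (n := n + 2) (by omega) (by
      rw [ENat.card_eq_coe_natCard]; exact_mod_cast (show n + 2 ≤ Nat.card α by have := hp.two_le; omega))
  -- lift a permutation of the fixed points to the normaliser of the cycle
  have lift : ∀ σ : Equiv.Perm α, (∀ x, x ∈ F ↔ σ x ∈ F) →
      ∃ h ∈ G, (∀ x ∈ F, h x = σ x) ∧ h * g * h⁻¹ ∈ Subgroup.zpowers g := by
    intro σ hσ
    haveI := Fintype.ofFinite F
    have hcard : Fintype.card F = k := by rw [← Nat.card_eq_fintype_card, Nat.card_coe_set_eq, hFc]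
    let e : Fin k ≃ F := (Fintype.equivFinOfCardEq hcard).symm
    let u : Fin k ↪ α := ⟨fun i => (e i : α), fun i j h => e.injective (Subtype.ext h)⟩
    let v : Fin k ↪ α := ⟨fun i => σ (e i : α), fun i j h => e.injective (Subtype.ext (σ.injective h))⟩
    obtain ⟨⟨h, hh⟩, hhu⟩ := MulAction.exists_smul_eq G u v
    have hhF : ∀ x ∈ F, h x = σ x := by
      intro x hx
      have h1 := DFunLike.congr_fun hhu (e.symm ⟨x, hx⟩)
      change h (u _) = v _ at h1
      change h ((e (e.symm ⟨x, hx⟩) : F) : α) = σ ((e (e.symm ⟨x, hx⟩) : F) : α) at h1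
      rw [Equiv.apply_symm_apply] at h1
      exact h1
    have hinvF : ∀ x ∈ F, h⁻¹ x ∈ F := by
      intro x hx
      have hsx : σ (σ⁻¹ x) = x := σ.apply_symm_apply x
      have hpre' : σ⁻¹ x ∈ F := (hσ _).mpr (by rw [hsx]; exact hx)
      have h1 := hhF _ hpre'
      rw [hsx] at h1
      rw [show h⁻¹ x = σ⁻¹ x by rw [Perm.inv_eq_iff_eq]; exact h1.symm]
      exact hpre'
    -- both cycles generate Sylow subgroups of the pointwise stabiliser
    let K : Subgroup (Equiv.Perm α) := G ⊓ fixingSubgroup (Equiv.Perm α) F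
    have hgK : g ∈ K := ⟨hg, (mem_fixingSubgroup_iff _).mpr fun y hy => notMem_support.mp (by simpa [hF] using hy)⟩
    have hg'K : h * g * h⁻¹ ∈ K := by
      refine ⟨G.mul_mem (G.mul_mem hh hg) (G.inv_mem hh), (mem_fixingSubgroup_iff _).mpr fun y hy => ?_⟩
      change h (g (h⁻¹ y)) = y
      rw [notMem_support.mp (show h⁻¹ y ∉ g.support by simpa [hF] using hinvF y hy)]
      simp
    have hK : Nat.card K ∣ p.factorial := by
      let S := {x : α // x ∈ g.support}
      let r : K →* Equiv.Perm S :=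
        { toFun := fun q => Perm.subtypePerm q.1 (fun x => by
            have hfix := (mem_fixingSubgroup_iff (Equiv.Perm α)).mp q.2.2
            constructor <;> intro hx <;> by_contra hc
            · have := hfix x (by simpa [hF] using hc)
              exact hc (this ▸ hx)
            · have h2 := hfix (q.1 x) (by simpa [hF] using hc)
              have := q.1.injective h2
              exact hc (this.symm ▸ hx))
          map_one' := by ext; rfl
          map_mul' := fun a b => by ext; rfl }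
      have hr : Function.Injective r := by
        intro a b hab
        apply Subtype.ext
        apply Equiv.Perm.ext
        intro x
        by_cases hx : x ∈ g.support
        · exact congrArg Subtype.val (Equiv.Perm.ext_iff.mp hab ⟨x, hx⟩)
        · have ha := (mem_fixingSubgroup_iff (Equiv.Perm α)).mp a.2.2 x (by simpa [hF] using hx)
          have hb := (mem_fixingSubgroup_iff (Equiv.Perm α)).mp b.2.2 x (by simpa [hF] using hx)
          exact ha.trans hb.symm
      have := Subgroup.card_dvd_of_injective r hr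
      rwa [Nat.card_perm, show Nat.card S = p by
        rw [Nat.card_eq_fintype_card, Fintype.card_coe, hgp]] at this
    have hop : orderOf g = p := by rw [hgc.orderOf, hgp]
    have hsyl : ∀ x : K, orderOf x = p → ∃ P : Sylow p K, (P : Subgroup K) = Subgroup.zpowers x := by
      intro x hx
      obtain ⟨P, hP⟩ := (IsPGroup.of_card (p := p) (n := 1) (G := Subgroup.zpowers x)
        (by rw [Nat.card_zpowers, hx, pow_one])).exists_le_sylow
      refine ⟨P, (Subgroup.eq_of_le_of_card_ge hP ?_).symm⟩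
      obtain ⟨j, hj⟩ := P.isPGroup'.exists_card_eq
      rw [Nat.card_zpowers, hx, hj]
      rcases Nat.lt_or_ge j 2 with h2 | h2
      · calc p ^ j ≤ p ^ 1 := Nat.pow_le_pow_right hp.pos (by omega)
          _ = p := pow_one p
      · exfalso
        have hd : p ^ 2 ∣ p.factorial :=
          ((pow_dvd_pow p h2).trans (hj ▸ Subgroup.card_subgroup_dvd_card (P : Subgroup K))).trans hK
        rw [← Nat.mul_factorial_pred hp.ne_zero, pow_two] at hd
        have := (hp.dvd_factorial).mp (Nat.dvd_of_mul_dvd_mul_left hp.pos hd)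
        have := hp.two_le
        omega
    obtain ⟨P₁, hP₁⟩ := hsyl ⟨g, hgK⟩ (by rw [Subgroup.orderOf_mk, hop])
    obtain ⟨P₂, hP₂⟩ := hsyl ⟨h * g * h⁻¹, hg'K⟩ (by
      rw [Subgroup.orderOf_mk, ← hop]
      exact orderOf_injective (MulAut.conj h).toMonoidHom (MulAut.conj h).injective g)
    obtain ⟨u', hu'⟩ := MulAction.exists_smul_eq K P₂ P₁
    refine ⟨u'.1 * h, G.mul_mem u'.2.1 hh, fun x hx => ?_, ?_⟩
    · rw [Perm.mul_apply, hhF x hx]
      exact (mem_fixingSubgroup_iff (Equiv.Perm α)).mp u'.2.2 _ ((hσ x).mp hx)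
    · have hm : u' * ⟨h * g * h⁻¹, hg'K⟩ * u'⁻¹ ∈ (P₁ : Subgroup K) := by
        rw [← hu']
        exact ⟨⟨h * g * h⁻¹, hg'K⟩, by rw [hP₂]; exact Subgroup.mem_zpowers _, rfl⟩
      rw [hP₁] at hm
      obtain ⟨i, hi⟩ := hm
      refine ⟨i, ?_⟩
      change g ^ i = _
      have := congrArg Subtype.val hi
      simp only [SubgroupClass.coe_zpow, Subgroup.coe_mul, Subgroup.coe_inv] at this
      rw [this]
      group
  -- three fixed points
  obtain ⟨a, ha, b, hb, c, hc, hab, hac, hbc⟩ : ∃ a ∈ F, ∃ b ∈ F, ∃ c ∈ F, a ≠ b ∧ a ≠ c ∧ b ≠ c := by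
    haveI := Fintype.ofFinite F
    have hcard : 2 < F.ncard := by omega
    obtain ⟨a, b, c, ha, hb, hc, h1, h2, h3⟩ := (Set.two_lt_ncard_iff (Set.toFinite F)).mp hcard
    exact ⟨a, ha, b, hb, c, hc, h1, h2, h3⟩
  have hswap : ∀ x y : α, x ∈ F → y ∈ F → ∀ z, z ∈ F ↔ Equiv.swap x y z ∈ F := by
    intro x y hx hy z
    by_cases h1 : z = x
    · subst h1; rw [Equiv.swap_apply_left]; exact iff_of_true hx hy
    by_cases h2 : z = y
    · subst h2; rw [Equiv.swap_apply_right]; exact iff_of_true hy hx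
    · rw [Equiv.swap_apply_of_ne_of_ne h1 h2]
  obtain ⟨h₁, h₁G, h₁F, h₁g⟩ := lift (Equiv.swap a b) (hswap a b ha hb)
  obtain ⟨h₂, h₂G, h₂F, h₂g⟩ := lift (Equiv.swap b c) (hswap b c hb hc)
  obtain ⟨r, hr⟩ := h₁g
  obtain ⟨s, hs⟩ := h₂g
  simp only at hr hs
  have e1 : (h₁ * h₂) * g * (h₁ * h₂)⁻¹ = g ^ (r * s) := by
    calc (h₁ * h₂) * g * (h₁ * h₂)⁻¹ = h₁ * (h₂ * g * h₂⁻¹) * h₁⁻¹ := by group
      _ = (h₁ * g * h₁⁻¹) ^ s := by rw [← hs, conj_zpow]
      _ = g ^ (r * s) := by rw [← hr, ← zpow_mul]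
  have e2 : (h₂ * h₁) * g * (h₂ * h₁)⁻¹ = g ^ (r * s) := by
    calc (h₂ * h₁) * g * (h₂ * h₁)⁻¹ = h₂ * (h₁ * g * h₁⁻¹) * h₂⁻¹ := by group
      _ = (h₂ * g * h₂⁻¹) ^ r := by rw [← hr, conj_zpow]
      _ = g ^ (r * s) := by rw [← hs, ← zpow_mul, mul_comm]
  set d := (h₂ * h₁)⁻¹ * (h₁ * h₂) with hd
  have hcomm : Commute d g := by
    have : d * g * d⁻¹ = g := by
      rw [hd]
      calc (h₂ * h₁)⁻¹ * (h₁ * h₂) * g * ((h₂ * h₁)⁻¹ * (h₁ * h₂))⁻¹
          = (h₂ * h₁)⁻¹ * ((h₁ * h₂) * g * (h₁ * h₂)⁻¹) * (h₂ * h₁) := by group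
        _ = (h₂ * h₁)⁻¹ * ((h₂ * h₁) * g * (h₂ * h₁)⁻¹) * (h₂ * h₁) := by rw [e1, e2]
        _ = g := by group
    exact mul_inv_eq_iff_eq_mul.mp this
  obtain ⟨i, hi⟩ := eq_pow_on_support_of_commute hgc hcomm
  set w := Equiv.swap a b * Equiv.swap b c * Equiv.swap a b * Equiv.swap b c with hw
  have hgF : ∀ x ∈ F, ∀ j : ℤ, (g ^ j) x = x := fun x hx j =>
    zpow_apply_eq_self_of_apply_eq_self (notMem_support.mp (by simpa [hF] using hx)) j
  have hdF : ∀ x ∈ F, d x = w x := by
    intro x hx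
    have x1 := (hswap b c hb hc x).mp hx
    have x2 := (hswap a b ha hb _).mp x1
    have x3 := (hswap b c hb hc _).mp x2
    rw [hd, Perm.mul_apply, Perm.mul_apply, h₂F x hx, h₁F _ x1]
    have hinv : ∀ y ∈ F, (h₂ * h₁)⁻¹ y = Equiv.swap a b (Equiv.swap b c y) := by
      intro y hy
      rw [Perm.inv_eq_iff_eq, Perm.mul_apply]
      have y1 := (hswap b c hb hc y).mp hy
      have y2 := (hswap a b ha hb _).mp y1
      rw [h₁F _ y2, Equiv.swap_apply_self, h₂F _ y1, Equiv.swap_apply_self]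
    rw [hinv _ x2]
    rfl
  have heq : g ^ (-i) * d = w := by
    apply Equiv.Perm.ext
    intro x
    by_cases hx : x ∈ F
    · rw [Perm.mul_apply, hdF x hx]
      have hwF : w x ∈ F := by
        simp only [hw, Perm.mul_apply]
        exact (hswap a b ha hb _).mp ((hswap b c hb hc _).mp ((hswap a b ha hb _).mp ((hswap b c hb hc _).mp hx)))
      exact hgF _ hwF _
    · have hxs : x ∈ g.support := by simpa [hF] using hx
      rw [Perm.mul_apply, hi x hxs, ← Perm.mul_apply, ← zpow_add, neg_add_cancel, zpow_zero, Perm.one_apply]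
      have ne : ∀ y ∈ F, x ≠ y := fun y hy h => hx (h ▸ hy)
      simp only [hw, Perm.mul_apply, Equiv.swap_apply_of_ne_of_ne (ne b hb) (ne c hc),
        Equiv.swap_apply_of_ne_of_ne (ne a ha) (ne b hb)]
  have hwG : w ∈ G := heq ▸ mul_mem (zpow_mem hg _) (mul_mem (inv_mem (mul_mem h₂G h₁G)) (mul_mem h₁G h₂G))
  have hab' : Equiv.swap a b * Equiv.swap b c = Equiv.swap b a * Equiv.swap b c := by rw [Equiv.swap_comm]
  have h3 : (Equiv.swap a b * Equiv.swap b c).IsThreeCycle := by
    rw [hab']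
    exact isThreeCycle_swap_mul_swap_same hab.symm hbc hac
  have hw3 : w.IsThreeCycle := by
    have := h3.isThreeCycle_sq
    rw [hw]
    simpa [mul_assoc] using this
  exact alternatingGroup_le_of_isPreprimitive_of_isThreeCycle_mem hG hw3 hwG

end CfsgLib.Perm
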