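import Mathlib
import Cfsg.Agent.Lib.PermJordanCycle
/-! Groups generated by two permutations of large prime orders. -/

namespace CfsgLib.TwoPrime

open MulAction Equiv Equiv.Perm
open scoped Pointwise

variable {β : Type*} [Fintype β] [DecidableEq β]

theorem sign_eq_one_of_odd_orderOf {x : Equiv.Perm β} (h : Odd (orderOf x)) : Equiv.Perm.sign x = 1 := by
  rcases Int.units_eq_one_or (Equiv.Perm.sign x) with h1 | h1
  · exact h1
  · exfalso
    have h2 := congrArg Equiv.Perm.sign (pow_orderOf_eq_one x)
    rw [map_pow, h1, h.neg_one_pow, map_one] at h2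
    exact absurd h2 (by decide)

theorem isCycle_of_large {y : Equiv.Perm β} {q : ℕ} (hq : q.Prime) (hy : orderOf y = q)
    (hlarge : Fintype.card β < 2 * q) : y.IsCycle ∧ y.support.card = q := by
  have hc : y.IsCycle := isCycle_of_prime_order' (by rw [hy]; exact hq) (by rw [hy]; omega)
  exact ⟨hc, by rw [← hc.orderOf, hy]⟩

theorem zpow_apply_eq_self_iff_dvd {x : Equiv.Perm β} {p : ℕ} (hp : p.Prime) (hx : orderOf x = p) {z : β}
    (hz : x z ≠ z) (i : ℤ) : (x ^ i) z = z ↔ (p : ℤ) ∣ i := by
  constructor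
  · intro h
    by_contra hd
    apply hz
    have hco : IsCoprime (p : ℤ) i := (Nat.prime_iff_prime_int.mp hp).coprime_iff_not_dvd.mpr hd
    obtain ⟨a, b, hab⟩ := hco
    have h1 : (x ^ (a * p + b * i)) z = z := by
      rw [zpow_add, Perm.mul_apply, mul_comm b i, zpow_mul x i b, zpow_apply_eq_self_of_apply_eq_self h,
        mul_comm a (p : ℤ), zpow_mul x (p : ℤ) a, zpow_natCast, ← hx, pow_orderOf_eq_one, one_zpow, Perm.one_apply]
    rwa [hab, zpow_one] at h1
  · rintro ⟨k, rfl⟩
    rw [zpow_mul, zpow_natCast, ← hx, pow_orderOf_eq_one, one_zpow, Perm.one_apply]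

theorem pretransitive_and_primitive (x y : Equiv.Perm β) {p q : ℕ} (hp : p.Prime) (hq : q.Prime)
    (hx : orderOf x = p) (hy : orderOf y = q) (hlarge : Fintype.card β < 2 * q)
    (hpq : Fintype.card β < p + q) (hcov : ∀ z, x z ≠ z ∨ y z ≠ z) :
    IsPretransitive (Subgroup.closure ({x, y} : Set (Equiv.Perm β))) β ∧
    IsPreprimitive (Subgroup.closure ({x, y} : Set (Equiv.Perm β))) β := by
  classical
  obtain ⟨hcyc, hsupp⟩ := isCycle_of_large hq hy hlarge
  set K := Subgroup.closure ({x, y} : Set (Equiv.Perm β)) with hK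
  have hxK : x ∈ K := Subgroup.subset_closure (Or.inl rfl)
  have hyK : y ∈ K := Subgroup.subset_closure (Or.inr rfl)
  obtain ⟨a, ha⟩ : ∃ a, y a ≠ a := ⟨_, hcyc.choose_spec.1⟩
  have horb : ∀ z, z ∈ orbit K a := by
    intro z
    have key : ∀ w, y w ≠ w → w ∈ orbit K a := fun w hw => by
      obtain ⟨i, hi⟩ := hcyc.sameCycle ha hw
      exact ⟨⟨y ^ i, zpow_mem hyK i⟩, hi⟩
    by_cases hz : y z ≠ z
    · exact key z hz
    have hxz : x z ≠ z := (hcov z).resolve_right hz
    obtain ⟨i, hi⟩ : ∃ i : ℤ, y ((x ^ i) z) ≠ (x ^ i) z := by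
      by_contra hcon
      push_neg at hcon
      have hinj : Function.Injective (fun i : Fin p => (⟨(x ^ (i : ℤ)) z, by
          simp only [Finset.mem_compl, mem_support, not_not]; exact hcon _⟩ : {w // w ∈ y.supportᶜ})) := by
        intro i j hij
        have h1 : (x ^ (i : ℤ)) z = (x ^ (j : ℤ)) z := congrArg Subtype.val hij
        have h2 : (x ^ ((i : ℤ) - j)) z = z := by
          rw [sub_eq_neg_add, zpow_add, Perm.mul_apply, h1, ← Perm.mul_apply, ← zpow_add, neg_add_cancel,
            zpow_zero, Perm.one_apply]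
        obtain ⟨k, hk⟩ := (zpow_apply_eq_self_iff_dvd hp hx hxz _).mp h2
        have hi := i.2
        have hj := j.2
        apply Fin.ext
        rcases eq_or_ne k 0 with rfl | hk0
        · omega
        · exfalso
          rcases lt_or_gt_of_ne hk0 with h | h
          · nlinarith
          · nlinarith
      have := Fintype.card_le_of_injective _ hinj
      rw [Fintype.card_fin, Fintype.card_coe, Finset.card_compl, hsupp] at this
      have := hp.two_le
      omega
    obtain ⟨k, hk⟩ := key _ hi
    refine ⟨(⟨x ^ i, zpow_mem hxK i⟩ : K)⁻¹ * k, ?_⟩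
    change ((⟨x ^ i, zpow_mem hxK i⟩ : K)⁻¹ * k) • a = z
    rw [mul_smul, show k • a = (⟨x ^ i, zpow_mem hxK i⟩ : K) • z from hk, inv_smul_smul]
  haveI ht : IsPretransitive K β := by
    refine ⟨fun u v => ?_⟩
    obtain ⟨g, hg⟩ := horb u
    obtain ⟨h, hh⟩ := horb v
    exact ⟨h * g⁻¹, by rw [mul_smul, ← show g • a = u from hg, inv_smul_smul]; exact hh⟩
  refine ⟨ht, IsPreprimitive.of_isTrivialBlock_base a fun {B} haB hB => ?_⟩
  by_contra hcon
  change ¬ (B.Subsingleton ∨ B = Set.univ) at hcon
  rw [not_or] at hcon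
  obtain ⟨hns, hnu⟩ := hcon
  have hB2 : 2 ≤ B.ncard := by
    by_contra hlt
    apply hns
    exact (Set.ncard_le_one_iff_subsingleton (s := B)).mp (by omega)
  set yy : K := ⟨y, hyK⟩
  have hbe := hB.ncard_block_mul_ncard_orbit_eq (G := K) ⟨a, haB⟩
  by_cases hyB : yy • B = B
  · apply hnu
    apply hB.eq_univ_of_card_lt
    have hsub : (y.support : Set β) ⊆ B := by
      intro w hw
      obtain ⟨i, hi⟩ := hcyc.sameCycle ha (mem_support.mp hw)
      have : (yy ^ i) • B = B := mem_stabilizer_iff.mp (Subgroup.zpow_mem (stabilizer K B) (mem_stabilizer_iff.mpr hyB) i)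
      rw [← this]
      exact ⟨a, haB, by rw [← hi]; rfl⟩
    have := Set.ncard_le_ncard hsub
    rw [Set.ncard_coe_finset, hsupp] at this
    rw [Nat.card_eq_fintype_card]
    omega
  · have hinj : Function.Injective (fun i : Fin q => (⟨(yy ^ (i : ℕ)) • B, mem_orbit _ _⟩ : orbit K B)) := by
      intro i j hij
      have h1 : (yy ^ (i : ℕ)) • B = (yy ^ (j : ℕ)) • B := congrArg Subtype.val hij
      by_contra hne
      apply hyB
      have hd : orderOf yy = q := by rw [← hy]; exact (orderOf_submonoid yy).symm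
      have hst : yy ^ ((i : ℤ) - j) ∈ stabilizer K B := by
        rw [mem_stabilizer_iff, sub_eq_neg_add, zpow_add, mul_smul, zpow_natCast, h1, ← zpow_natCast, smul_smul,
          ← zpow_add, neg_add_cancel, zpow_zero, one_smul]
      have hco : IsCoprime (q : ℤ) ((i : ℤ) - j) := by
        refine (Nat.prime_iff_prime_int.mp hq).coprime_iff_not_dvd.mpr ?_
        rintro ⟨k, hk⟩
        have hi := i.2
        have hj := j.2
        apply hne
        apply Fin.ext
        rcases eq_or_ne k 0 with rfl | hk0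
        · omega
        · exfalso
          rcases lt_or_gt_of_ne hk0 with h | h
          · nlinarith
          · nlinarith
      obtain ⟨u, v, huv⟩ := hco
      have : yy ^ (u * q + v * ((i : ℤ) - j)) ∈ stabilizer K B := by
        have hpq1 : yy ^ q = 1 := orderOf_dvd_iff_pow_eq_one.mp (dvd_of_eq hd)
        rw [zpow_add, mul_comm u, zpow_mul, zpow_natCast, hpq1, one_zpow, one_mul,
          mul_comm v, zpow_mul]
        exact zpow_mem hst v
      rw [huv, zpow_one] at this
      exact mem_stabilizer_iff.mp this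
    have h3 := Nat.card_le_card_of_injective _ hinj
    rw [Nat.card_fin, Nat.card_coe_set_eq] at h3
    rw [Nat.card_eq_fintype_card] at hbe
    nlinarith

theorem closure_le_alternating (x y : Equiv.Perm β) (hx : Odd (orderOf x)) (hy : Odd (orderOf y)) :
    Subgroup.closure ({x, y} : Set (Equiv.Perm β)) ≤ alternatingGroup β := by
  rw [Subgroup.closure_le]
  rintro z (rfl | rfl) <;>
    exact Equiv.Perm.mem_alternatingGroup.mpr (sign_eq_one_of_odd_orderOf ‹_›)

/-- The isomorphism type of a two-generated subgroup of an alternating group from its moved points. -/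
theorem nonempty_mulEquiv_closure {m : ℕ} (x y : alternatingGroup (Fin m)) {P : Fin m → Prop} [DecidablePred P]
    (x' y' : Equiv.Perm {z // P z}) (hx : Equiv.Perm.ofSubtype x' = (x : Equiv.Perm (Fin m)))
    (hy : Equiv.Perm.ofSubtype y' = (y : Equiv.Perm (Fin m)))
    (h : Subgroup.closure ({x', y'} : Set (Equiv.Perm {z // P z})) = alternatingGroup {z // P z}) :
    Nonempty (Subgroup.closure ({x, y} : Set (alternatingGroup (Fin m))) ≃*
      alternatingGroup (Fin (Fintype.card {z // P z}))) := by
  have h1 : (Subgroup.closure ({x, y} : Set (alternatingGroup (Fin m)))).map (alternatingGroup (Fin m)).subtype =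
      (alternatingGroup {z // P z}).map Equiv.Perm.ofSubtype := by
    rw [← h, MonoidHom.map_closure, MonoidHom.map_closure, Set.image_pair, Set.image_pair, hx, hy]
    rfl
  exact ⟨((Subgroup.equivMapOfInjective _ _ (Subgroup.subtype_injective _)).trans
    (MulEquiv.subgroupCongr h1)).trans
    ((Subgroup.equivMapOfInjective _ _ Equiv.Perm.ofSubtype_injective).symm.trans
      (Equiv.altCongrHom (Fintype.equivFin {z // P z})))⟩

end CfsgLib.TwoPrime
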