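import Mathlib
import Cfsg.Agent.Lib.PermSimple
import Cfsg.Agent.Lib.PermSylow
import Cfsg.Agent.Lib.FgsTwoPrimeGen
/-! Transitive groups of degrees six and seven generated by two elements. -/

namespace CfsgLib.TwoPrime

open MulAction Equiv Equiv.Perm

/-- In a group of order 30 an element of order five fixes the orbit of each of its fixed points. -/
theorem fixed_of_card_thirty {G : Type*} [Group G] [Finite G] (hG : Nat.card G = 30) {γ : Type*}
    [MulAction G γ] {x : G} (hx : orderOf x = 5) {a : γ} (ha : x • a = a) (g : G) :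
    x • g • a = g • a := by
  classical
  haveI := Fintype.ofFinite G
  haveI : Fact (Nat.Prime 5) := ⟨by norm_num⟩
  haveI : Fact (Nat.Prime 3) := ⟨Nat.prime_three⟩
  obtain ⟨P⟩ : Nonempty (Sylow 5 G) := inferInstance
  obtain ⟨R⟩ : Nonempty (Sylow 3 G) := inferInstance
  have hP : Nat.card P = 5 :=
    (CfsgLib.Perm.sylow_card P (k := 1) (m := 6) (by rw [hG]; norm_num) (by norm_num)).trans (pow_one 5)
  have hR : Nat.card R = 3 :=
    (CfsgLib.Perm.sylow_card R (k := 1) (m := 10) (by rw [hG]; norm_num) (by norm_num)).trans (pow_one 3)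
  have hn5 : Nat.card (Sylow 5 G) = 1 := by
    have h5 : Nat.card (Sylow 5 G) = 1 ∨ Nat.card (Sylow 5 G) = 6 := by
      have h1 : Nat.card (Sylow 5 G) ∈ Nat.divisors 6 := by
        refine Nat.mem_divisors.mpr ⟨?_, by norm_num⟩
        have := (P : Subgroup G).index_mul_card
        rw [hG, hP] at this
        exact (show (P : Subgroup G).index = 6 by omega) ▸ P.card_dvd_index
      rw [show Nat.divisors 6 = {1, 2, 3, 6} by decide] at h1
      simp only [Finset.mem_insert, Finset.mem_singleton] at h1
      have h2 := card_sylow_modEq_one 5 G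
      rw [Nat.ModEq] at h2
      omega
    refine h5.resolve_right fun h6 => ?_
    have h3 : Nat.card (Sylow 3 G) = 1 ∨ Nat.card (Sylow 3 G) = 10 := by
      have h1 : Nat.card (Sylow 3 G) ∈ Nat.divisors 10 := by
        refine Nat.mem_divisors.mpr ⟨?_, by norm_num⟩
        have := (R : Subgroup G).index_mul_card
        rw [hG, hR] at this
        exact (show (R : Subgroup G).index = 10 by omega) ▸ R.card_dvd_index
      rw [show Nat.divisors 10 = {1, 2, 5, 10} by decide] at h1
      simp only [Finset.mem_insert, Finset.mem_singleton] at h1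
      have h2 := card_sylow_modEq_one 3 G
      rw [Nat.ModEq] at h2
      omega
    rcases h3 with h3 | h3
    · have hdvd : 5 ∣ Nat.card (Subgroup.normalizer ((R : Subgroup G) : Set G)) := by
        have := CfsgLib.Perm.card_sylow_mul_card_normalizer R
        rw [h3, hG, one_mul] at this
        omega
      obtain ⟨y, hy⟩ := exists_prime_orderOf_dvd_card' (G := Subgroup.normalizer ((R : Subgroup G) : Set G)) 5 hdvd
      have hoy : orderOf (y : G) = 5 := by rw [orderOf_submonoid]; exact hy
      haveI : IsCyclic (R : Subgroup G) := isCyclic_of_prime_card hR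
      have hcent : Subgroup.normalizerMonoidHom (R : Subgroup G) y = 1 := by
        have h1 : orderOf (Subgroup.normalizerMonoidHom (R : Subgroup G) y) ∣ 2 := by
          have := orderOf_dvd_natCard (Subgroup.normalizerMonoidHom (R : Subgroup G) y)
          rwa [IsCyclic.card_mulAut, hR] at this
        have h2 := orderOf_map_dvd (Subgroup.normalizerMonoidHom (R : Subgroup G)) y
        rw [hy] at h2
        exact orderOf_eq_one_iff.mp (Nat.eq_one_of_dvd_coprimes (by norm_num : Nat.Coprime 2 5) h1 h2)
      obtain ⟨Q, hQ⟩ := CfsgLib.Perm.exists_sylow_eq_zpowers hP hoy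
      have hle : (R : Subgroup G) ≤ Subgroup.normalizer ((Q : Subgroup G) : Set G) := by
        intro r hr
        have he : (y : G) * r * (y : G)⁻¹ = r :=
          congrArg Subtype.val (DFunLike.congr_fun hcent (⟨r, hr⟩ : (R : Subgroup G)))
        refine Subgroup.centralizer_le_normalizer _ (Subgroup.mem_centralizer_iff.mpr ?_)
        intro z hz
        rw [hQ] at hz
        obtain ⟨i, rfl⟩ := hz
        exact (show Commute (y : G) r from mul_inv_eq_iff_eq_mul.mp he).zpow_left i |>.eq
      have h33 := CfsgLib.Perm.card_sylow_mul_card_normalizer Q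
      rw [h6, hG] at h33
      have h := Subgroup.card_dvd_of_le hle
      rw [hR, show Nat.card (Subgroup.normalizer ((Q : Subgroup G) : Set G)) = 5 by omega] at h
      exact absurd h (by norm_num)
    · have e1 := CfsgLib.Perm.card_orderOf_prime hP
      have e2 := CfsgLib.Perm.card_orderOf_prime hR
      rw [h6] at e1
      rw [h3] at e2
      rw [Nat.card_eq_fintype_card, Fintype.card_subtype] at e1 e2
      have hd : Disjoint (Finset.univ.filter fun g : G => orderOf g = 5) (Finset.univ.filter fun g : G => orderOf g = 3) := by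
        rw [Finset.disjoint_left]
        intro g hg hg'
        rw [Finset.mem_filter] at hg hg'
        omega
      have := Finset.card_le_univ ((Finset.univ.filter fun g : G => orderOf g = 5) ∪ (Finset.univ.filter fun g : G => orderOf g = 3))
      rw [Finset.card_union_of_disjoint hd, e1, e2, ← Nat.card_eq_fintype_card, hG] at this
      omega
  haveI := (Nat.card_eq_one_iff_unique.mp hn5).1
  obtain ⟨Q, hQ⟩ := CfsgLib.Perm.exists_sylow_eq_zpowers hP hx
  have hn : (Q : Subgroup G).Normal := Sylow.normal_of_subsingleton Q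
  have hm : g⁻¹ * x * g⁻¹⁻¹ ∈ (Q : Subgroup G) := hn.conj_mem x (hQ ▸ Subgroup.mem_zpowers x) _
  rw [hQ, inv_inv] at hm
  obtain ⟨i, hi⟩ := hm
  have h1 : (x ^ i) • a = a :=
    mem_stabilizer_iff.mp (Subgroup.zpow_mem (stabilizer G a) (mem_stabilizer_iff.mpr ha) i)
  change x ^ i = g⁻¹ * x * g at hi
  rw [hi, mul_smul, mul_smul, inv_smul_eq_iff] at h1
  exact h1

/-- A transitive group of even permutations of degree six with order divisible by fifteen. -/
theorem degree_six {β : Type*} [Fintype β] [DecidableEq β] (K : Subgroup (Equiv.Perm β))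
    (h6 : Fintype.card β = 6) (ht : IsPretransitive K β) (heven : K ≤ alternatingGroup β)
    {y : Equiv.Perm β} (hyK : y ∈ K) (hy : orderOf y = 5) {x : Equiv.Perm β} (hxK : x ∈ K)
    (hx : orderOf x = 3) :
    K = alternatingGroup β ∨ Nonempty (K ≃* alternatingGroup (Fin 5)) := by
  classical
  haveI := alternatingGroup.isSimpleGroup (α := β) (by rw [Nat.card_eq_fintype_card, h6]; norm_num)
  haveI : Nontrivial β := Fintype.one_lt_card_iff_nontrivial.mp (by omega)
  set A := alternatingGroup β
  have hA : Nat.card A = 360 := by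
    rw [nat_card_alternatingGroup, Nat.card_eq_fintype_card, h6]; rfl
  set H : Subgroup A := K.subgroupOf A with hH
  have hHK : Nat.card H = Nat.card K := Nat.card_congr (Subgroup.subgroupOfEquivOfLe heven).toEquiv
  have hdvd : Nat.card K ∣ 360 := by rw [← hHK, ← hA]; exact Subgroup.card_subgroup_dvd_card H
  have h5 : 5 ∣ Nat.card K := by
    have := Subgroup.orderOf_dvd_natCard K hyK
    rwa [hy] at this
  have h3 : 3 ∣ Nat.card K := by
    have := Subgroup.orderOf_dvd_natCard K hxK
    rwa [hx] at this
  have h6' : 6 ∣ Nat.card K := by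
    obtain ⟨a⟩ : Nonempty β := inferInstance
    rw [← (stabilizer K a).index_mul_card, index_stabilizer_of_transitive, Nat.card_eq_fintype_card, h6]
    exact dvd_mul_right 6 _
  have hne30 : Nat.card K ≠ 30 := by
    intro h30
    obtain ⟨hc, hs⟩ := isCycle_of_large (by norm_num : Nat.Prime 5) hy (by omega)
    obtain ⟨a, -, ha⟩ : ∃ a, a ∈ (Finset.univ : Finset β) ∧ a ∉ y.support :=
      Finset.exists_mem_notMem_of_card_lt_card (by rw [hs, Finset.card_univ, h6]; norm_num)
    have hya : (⟨y, hyK⟩ : K) • a = a := notMem_support.mp ha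
    obtain ⟨b, hb⟩ : ∃ b, y b ≠ b := ⟨_, hc.choose_spec.1⟩
    obtain ⟨g, hg⟩ := exists_smul_eq K a b
    apply hb
    have := fixed_of_card_thirty h30 (x := (⟨y, hyK⟩ : K)) (by rw [Subgroup.orderOf_mk, hy]) hya g
    rw [hg] at this
    exact this
  by_cases hHtop : H = ⊤
  · left
    exact le_antisymm heven (Subgroup.subgroupOf_eq_top.mp hHtop)
  right
  have hfac := CfsgLib.Perm.card_le_factorial_index H hHtop
  have hidx := H.index_mul_card
  rw [hA, hHK] at hidx
  rw [hA] at hfac
  have hk : Nat.card K = 60 := by
    obtain ⟨k, hk⟩ : 30 ∣ Nat.card K := by omega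
    have hk12 : k ∣ 12 := Nat.dvd_of_mul_dvd_mul_left (by norm_num : 0 < 30) (by rw [← hk]; exact hdvd)
    have hk' : k ∈ Nat.divisors 12 := Nat.mem_divisors.mpr ⟨hk12, by norm_num⟩
    rw [show Nat.divisors 12 = {1, 2, 3, 4, 6, 12} by decide] at hk'
    simp only [Finset.mem_insert, Finset.mem_singleton] at hk'
    rw [hk] at hidx
    rcases hk' with rfl | rfl | rfl | rfl | rfl | rfl
    · omega
    · omega
    · rw [show H.index = 4 by omega] at hfac; norm_num [Nat.factorial] at hfac
    · rw [show H.index = 3 by omega] at hfac; norm_num [Nat.factorial] at hfac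
    · rw [show H.index = 2 by omega] at hfac; norm_num [Nat.factorial] at hfac
    · exfalso
      apply hHtop
      rw [← Subgroup.index_eq_one]
      omega
  have hcoset : Nat.card (A ⧸ H) = 6 := by
    rw [← Subgroup.index_eq_card]
    rw [hk] at hidx
    omega
  set base : A ⧸ H := ((1 : A) : A ⧸ H)
  have hfix : ∀ k : H, ∀ z : A ⧸ H, z ≠ base → (k : A) • z ≠ base := by
    intro k z hz e
    apply hz
    have hb : (k : A) • base = base := by
      change (((k : A) * 1 : A) : A ⧸ H) = _
      rw [mul_one, QuotientGroup.eq]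
      simp
    exact MulAction.injective (k : A) (e.trans hb.symm)
  let r : H →* Equiv.Perm {z : A ⧸ H // z ≠ base} :=
    { toFun := fun k =>
        { toFun := fun z => ⟨(k : A) • (z : A ⧸ H), hfix k z z.2⟩
          invFun := fun z => ⟨((k⁻¹ : H) : A) • (z : A ⧸ H), hfix k⁻¹ z z.2⟩
          left_inv := fun z => Subtype.ext (by simp [← mul_smul])
          right_inv := fun z => Subtype.ext (by simp [← mul_smul]) }
      map_one' := by ext z; exact one_smul A (z : A ⧸ H)
      map_mul' := fun u v => by ext z; exact mul_smul (u : A) (v : A) (z : A ⧸ H) }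
  have hr : Function.Injective r := by
    intro u v huv
    apply Subtype.ext
    apply CfsgLib.Perm.toPermHom_injective H hHtop
    ext z
    by_cases hz : z = base
    · subst hz
      change (((u : A) * 1 : A) : A ⧸ H) = (((v : A) * 1 : A) : A ⧸ H)
      rw [QuotientGroup.eq]
      simpa using H.mul_mem (H.inv_mem u.2) v.2
    · exact congrArg Subtype.val (Equiv.Perm.ext_iff.mp huv ⟨z, hz⟩)
  haveI := Fintype.ofFinite (A ⧸ H)
  have hc5 : Fintype.card {z : A ⧸ H // z ≠ base} = 5 := by
    rw [Fintype.card_subtype_compl, Fintype.card_subtype_eq, ← Nat.card_eq_fintype_card, hcoset]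
  have hidx2 : r.range.index = 2 := by
    have h := r.range.index_mul_card
    rw [Nat.card_congr (MonoidHom.ofInjective hr).toEquiv.symm, hHK, hk, Nat.card_perm,
      Nat.card_eq_fintype_card (α := {z : A ⧸ H // z ≠ base}), hc5] at h
    norm_num [Nat.factorial] at h
    omega
  have hrange := Equiv.Perm.eq_alternatingGroup_of_index_eq_two hidx2
  exact ⟨((Subgroup.subgroupOfEquivOfLe heven).symm.trans (MonoidHom.ofInjective hr)).trans
    ((MulEquiv.subgroupCongr hrange).trans (Equiv.altCongrHom (Fintype.equivFinOfCardEq hc5)))⟩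

/-- A primitive group of even permutations of degree seven with a five-cycle. -/
theorem degree_seven {β : Type*} [Fintype β] [DecidableEq β] (K : Subgroup (Equiv.Perm β))
    (h7 : Fintype.card β = 7) (hprim : IsPreprimitive K β) (heven : K ≤ alternatingGroup β)
    {g : Equiv.Perm β} (hg : g ∈ K) (hgc : g.IsCycle) (hgs : g.support.card = 5) :
    alternatingGroup β ≤ K := by
  classical
  haveI := alternatingGroup.isSimpleGroup (α := β) (by rw [Nat.card_eq_fintype_card, h7]; norm_num)
  haveI : Nontrivial β := Fintype.one_lt_card_iff_nontrivial.mp (by omega)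
  haveI : Fact (Nat.Prime 5) := ⟨by norm_num⟩
  set A := alternatingGroup β
  set F : Set β := (g.support : Set β)ᶜ with hF
  have hF2 : F.ncard = 2 := by
    have := Set.ncard_add_ncard_compl (g.support : Set β)
    rw [Set.ncard_coe_finset, hgs, ← hF, Nat.card_eq_fintype_card, h7] at this
    omega
  haveI : IsMultiplyPreprimitive K β 3 := by
    refine hprim.isMultiplyPreprimitive (s := F) (n := 1) hF2 (by rw [Nat.card_eq_fintype_card, h7]; norm_num) ?_
    have := isPretransitive_of_isCycle_mem hgc hg
    apply IsPreprimitive.of_prime_card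
    convert! (by norm_num : Nat.Prime 5)
    rw [Nat.card_eq_fintype_card, Fintype.card_subtype, ← hgs]
    apply congr_arg
    ext x
    simp [hF, SubMulAction.mem_ofFixingSubgroup_iff]
  haveI hmt : IsMultiplyPretransitive K β 3 := IsMultiplyPreprimitive.isMultiplyPretransitive ..
  have h210 : 210 ∣ Nat.card K := by
    haveI : IsPretransitive K (Fin 3 ↪ β) := hmt
    obtain ⟨e⟩ : Nonempty (Fin 3 ↪ β) := Function.Embedding.nonempty_of_card_le (by simp [h7])
    have hi : (stabilizer K e).index = Nat.card (Fin 3 ↪ β) :=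
      @index_stabilizer_of_transitive K (Fin 3 ↪ β) _ _ e hmt
    rw [← (stabilizer K e).index_mul_card, hi,
      Nat.card_eq_fintype_card (α := Fin 3 ↪ β), Fintype.card_embedding_eq, h7, Fintype.card_fin]
    exact dvd_mul_right 210 _
  have hA : Nat.card A = 2520 := by
    rw [nat_card_alternatingGroup, Nat.card_eq_fintype_card, h7]; rfl
  set H : Subgroup A := K.subgroupOf A with hH
  have hHK : Nat.card H = Nat.card K := Nat.card_congr (Subgroup.subgroupOfEquivOfLe heven).toEquiv
  by_contra hcon
  have hHtop : H ≠ ⊤ := fun h => hcon (Subgroup.subgroupOf_eq_top.mp h)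
  have hfac := CfsgLib.Perm.card_le_factorial_index H hHtop
  have hidx := H.index_mul_card
  rw [hA, hHK] at hidx
  rw [hA] at hfac
  have hk : Nat.card K = 210 := by
    obtain ⟨k, hk⟩ := h210
    have hmul : H.index * k = 12 := by rw [hk] at hidx; linarith
    have hk' : k ∈ Nat.divisors 12 := Nat.mem_divisors.mpr ⟨Dvd.intro_left _ hmul, by norm_num⟩
    rw [show Nat.divisors 12 = {1, 2, 3, 4, 6, 12} by decide] at hk'
    simp only [Finset.mem_insert, Finset.mem_singleton] at hk'
    rcases hk' with rfl | rfl | rfl | rfl | rfl | rfl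
    · omega
    · rw [show H.index = 6 by omega] at hfac; norm_num [Nat.factorial] at hfac
    · rw [show H.index = 4 by omega] at hfac; norm_num [Nat.factorial] at hfac
    · rw [show H.index = 3 by omega] at hfac; norm_num [Nat.factorial] at hfac
    · rw [show H.index = 2 by omega] at hfac; norm_num [Nat.factorial] at hfac
    · exact absurd (Subgroup.index_eq_one.mp (by omega)) hHtop
  obtain ⟨a, b, hab, hFab⟩ := Set.ncard_eq_two.mp hF2
  have ha : g a = a := by
    have : a ∈ F := hFab ▸ Set.mem_insert a _
    simpa [hF] using this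
  have hb : g b = b := by
    have : b ∈ F := hFab ▸ Set.mem_insert_of_mem a rfl
    simpa [hF] using this
  haveI := hprim.toIsPretransitive
  set Ka := stabilizer K a with hKa
  have hKacard : Nat.card Ka = 30 := by
    have := Ka.index_mul_card
    rw [hKa, index_stabilizer_of_transitive, Nat.card_eq_fintype_card, h7, hk] at this
    rw [hKa]
    omega
  obtain ⟨c, hc⟩ : g.support.Nonempty := Finset.card_pos.mp (by omega)
  haveI h2t : IsMultiplyPretransitive K β 2 := isMultiplyPretransitive_of_le' (n := 3) (by norm_num)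
    (by rw [ENat.card_eq_coe_natCard, Nat.card_eq_fintype_card, h7]; norm_num)
  have hca : c ≠ a := fun e => mem_support.mp hc (e ▸ ha)
  obtain ⟨h, ha', hb'⟩ := is_two_pretransitive_iff.mp h2t hab (Ne.symm hca)
  have := fixed_of_card_thirty hKacard (γ := β) (x := (⟨⟨g, hg⟩, (show (⟨g, hg⟩ : K) ∈ Ka from ha)⟩ : Ka))
    (by rw [Subgroup.orderOf_mk, Subgroup.orderOf_mk, hgc.orderOf, hgs]) (a := b) hb ⟨h, ha'⟩
  rw [show (⟨h, ha'⟩ : Ka) • b = c from hb'] at this
  exact mem_support.mp hc this

end CfsgLib.TwoPrime
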