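import Cfsg.Agent.Lib.DicksonMain
import Cfsg.Agent.Lib.ClassicalSLTwoTorus
import Cfsg.Agent.Lib.PermSylow
import Cfsg.Agent.Lib.FgsSmallDegrees

/-!
# Ingredients of Dickson's list
-/

set_option autoImplicit false
set_option linter.style.haveILetI false

universe u v

namespace CfsgLib.Dickson

open Matrix

attribute [local instance] _root_.Classical.propDecidable

variable {F : Type u} [Field F]

theorem mem_center_iff_isScal {g : SL F} : g ∈ Subgroup.center (SL F) ↔ IsScal g := by
  rw [Subgroup.mem_center_iff]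
  exact ⟨fun h => isScal_iff_commute.2 ⟨(h (upperU 1)).symm, (h (lowerU 1)).symm⟩,
    fun h x => (h.commute x).eq.symm⟩

theorem neg_one_isScal : IsScal (-1 : SL F) := ⟨by simp, by simp, by simp⟩

theorem card_center [Fintype F] {q : ℕ} (hF : Fintype.card F = q) {p : ℕ} [hp : Fact p.Prime] [CharP F p] :
    Nat.card (Subgroup.center (SL F)) = Nat.gcd 2 (q - 1) := by
  have he : (Subgroup.center (SL F) : Set (SL F)) = {1, -1} := by
    ext g
    rw [SetLike.mem_coe, mem_center_iff_isScal, Set.mem_insert_iff, Set.mem_singleton_iff]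
    refine ⟨CfsgLib.Classical.eq_one_or_neg_one_of_isScal, fun h => ?_⟩
    rcases h with rfl | rfl
    · exact ⟨by simp, by simp, by simp⟩
    · exact neg_one_isScal
  have hq1 : 1 < q := hF ▸ Fintype.one_lt_card
  rw [← SetLike.coe_sort_coe, Nat.card_coe_set_eq, he]
  obtain ⟨n, hn, hc⟩ := FiniteField.card F p
  by_cases h2 : p = 2
  · subst h2
    have h12 : (-1 : SL F) = 1 := by
      refine sl_ext ?_ ?_ ?_ ?_ <;> simp [CharTwo.neg_eq]
    rw [h12, Set.pair_eq_singleton, Set.ncard_singleton]
    have : q % 2 = 0 := by rw [← hF, hc, Nat.pow_mod]; simp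
    exact Eq.symm (Nat.coprime_two_left.2 (show Odd (q - 1) by rw [Nat.odd_iff]; omega))
  · have h12 : (1 : SL F) ≠ -1 := fun e => by
      have h := congrArg (fun g : SL F => g.1 0 0) e
      simp at h
      exact two_ne_zero_of_char (F := F) h2 (by linear_combination h)
    rw [Set.ncard_pair h12]
    have : q % 2 = 1 := by
      rw [← hF, hc]
      exact Nat.odd_iff.1 ((hp.out.odd_of_ne_two h2).pow)
    exact (Nat.gcd_eq_left (by omega)).symm

/-- A regular element of `SL₂(q)` has order dividing `q - 1` or `q + 1`. -/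
theorem pow_eq_one_of_regular [Fintype F] {q : ℕ} (hF : Fintype.card F = q) {p : ℕ} [hp : Fact p.Prime]
    [CharP F p] {g : SL F} (hord : ¬ p ∣ orderOf g) : g ^ (q - 1) = 1 ∨ g ^ (q + 1) = 1 := by
  obtain ⟨n, -, hc⟩ := FiniteField.card F p
  have hq1 : 1 < q := hF ▸ Fintype.one_lt_card
  have hkey : ∀ h : SL F, ¬ p ∣ orderOf h → (h.1 - 1).det = 0 → h = 1 := by
    intro h hh hd
    have ht : h.1 0 0 + h.1 1 1 = 2 := by
      rw [Matrix.det_fin_two] at hd
      simp [Matrix.one_apply] at hd
      linear_combination det_eq h - hd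
    have h1 : orderOf h ∣ p := orderOf_dvd_of_pow_eq_one (pow_eq_one_of_trace ht)
    rcases (Nat.dvd_prime hp.out).1 h1 with e | e
    · exact orderOf_eq_one_iff.1 e
    · exact absurd (e ▸ dvd_rfl) hh
  have hdvd : ∀ m, ¬ p ∣ orderOf (g ^ m) := fun m h => hord (h.trans (orderOf_pow_dvd m))
  set t : F := g.1 0 0 + g.1 1 1 with ht
  have hsum : ∀ h : SL F, h.1 + (h⁻¹).1 = (h.1 0 0 + h.1 1 1) • (1 : Matrix (Fin 2) (Fin 2) F) := by
    intro h
    rw [Matrix.SpecialLinearGroup.coe_inv, Matrix.adjugate_fin_two]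
    ext i j
    fin_cases i <;> fin_cases j <;> simp [add_comm]
  have hX : (g ^ q).1 + ((g ^ q)⁻¹).1 = t • (1 : Matrix (Fin 2) (Fin 2) F) := by
    have h1 : g.1 + (g⁻¹).1 = t • (1 : Matrix (Fin 2) (Fin 2) F) := hsum g
    have hcm : Commute g.1 (g⁻¹).1 := by
      show g.1 * (g⁻¹).1 = (g⁻¹).1 * g.1
      rw [← Matrix.SpecialLinearGroup.coe_mul, ← Matrix.SpecialLinearGroup.coe_mul, mul_inv_cancel, inv_mul_cancel]
    haveI : CharP (Matrix (Fin 2) (Fin 2) F) p := inferInstance
    have h2 : (g.1 + (g⁻¹).1) ^ q = g.1 ^ q + (g⁻¹).1 ^ q := by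
      rw [← hF, hc]; exact add_pow_char_pow_of_commute p _ hcm
    rw [h1, smul_pow, one_pow, ← hF, FiniteField.pow_card, hF] at h2
    rw [h2, ← inv_pow, Matrix.SpecialLinearGroup.coe_pow, Matrix.SpecialLinearGroup.coe_pow]
  set X := (g ^ q).1 with hXdef
  set Y := ((g ^ q)⁻¹).1 with hYdef
  have hXY : X * Y = 1 := by
    rw [hXdef, hYdef, ← Matrix.SpecialLinearGroup.coe_mul, mul_inv_cancel, Matrix.SpecialLinearGroup.coe_one]
  have hA : g.1 * (g⁻¹).1 = 1 := by
    rw [← Matrix.SpecialLinearGroup.coe_mul, mul_inv_cancel, Matrix.SpecialLinearGroup.coe_one]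
  have hXA : g.1 * X = X * g.1 := by
    rw [hXdef, ← Matrix.SpecialLinearGroup.coe_mul, ← Matrix.SpecialLinearGroup.coe_mul, (Commute.self_pow g q).eq]
  have hprod : (X - g.1) * (X - (g⁻¹).1) = 0 := by
    have h1 : g.1 + (g⁻¹).1 = X + Y := by rw [hsum g, hX]
    calc (X - g.1) * (X - (g⁻¹).1) = X * X - (g.1 * X + X * (g⁻¹).1) + g.1 * (g⁻¹).1 := by noncomm_ring
      _ = X * X - X * (g.1 + (g⁻¹).1) + 1 := by rw [hXA, hA, mul_add]
      _ = 0 := by rw [h1, mul_add, hXY]; abel
  have hdet := congrArg Matrix.det hprod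
  rw [Matrix.det_mul, Matrix.det_zero] at hdet
  rcases mul_eq_zero.1 hdet with e | e
  · left
    refine hkey _ (hdvd _) ?_
    have e' : X - g.1 = g.1 * ((g ^ (q - 1)).1 - 1) := by
      rw [mul_sub, mul_one, hXdef, ← Matrix.SpecialLinearGroup.coe_mul, ← pow_succ', Nat.sub_add_cancel hq1.le]
    rw [e', Matrix.det_mul, g.2, one_mul] at e
    exact e
  · right
    refine hkey _ (hdvd _) ?_
    have e' : g.1 * (X - (g⁻¹).1) = (g ^ (q + 1)).1 - 1 := by
      rw [mul_sub, hA, hXdef, ← Matrix.SpecialLinearGroup.coe_mul, ← pow_succ']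
    rw [← e', Matrix.det_mul, g.2, one_mul]
    exact e

/-- The elementary matrices generate `SL₂`. -/
theorem mem_of_elementary {S : Subgroup (SL F)} (hu : ∀ a, upperU a ∈ S) (hl : ∀ a, lowerU a ∈ S)
    (g : SL F) : g ∈ S := by
  have key : ∀ g : SL F, g.1 1 0 ≠ 0 → g ∈ S := by
    intro g hc
    have hd := det_eq g
    have e : g = upperU ((g.1 0 0 - 1) / g.1 1 0) * lowerU (g.1 1 0) *
        upperU ((g.1 1 1 - 1) / g.1 1 0) := by
      refine sl_ext ?_ ?_ ?_ ?_ <;>
        simp [coe_upperU, coe_lowerU, Matrix.mul_apply, Fin.sum_univ_two] <;> field_simp <;> try ring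
      linear_combination -hd
    rw [e]
    exact mul_mem (mul_mem (hu _) (hl _)) (hu _)
  by_cases hc : g.1 1 0 = 0
  · have h1 : (lowerU 1 * g).1 1 0 ≠ 0 := by
      have hd := det_eq g
      rw [hc, mul_zero, sub_zero] at hd
      simp [coe_lowerU, Matrix.mul_apply, Fin.sum_univ_two, hc]
      intro e
      rw [e, zero_mul] at hd
      exact zero_ne_one hd
    have h2 := mul_mem (inv_mem (hl 1)) (key _ h1)
    rwa [inv_mul_cancel_left] at h2
  · exact key g hc

/-- An additive subgroup containing `1` whose inverses also form an additive subgroup is a field. -/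
theorem exists_subfield [Finite F] (A : AddSubgroup F) (h1 : (1 : F) ∈ A)
    (hB : ∀ a ∈ A, ∀ b ∈ A, (a⁻¹ + b⁻¹)⁻¹ ∈ A) : ∃ K : Subfield F, (K : Set F) = A := by
  -- the identity of Hua
  have hua : ∀ a ∈ A, ∀ c ∈ A, a * a * c⁻¹ ∈ A := by
    intro a ha c hc
    rcases eq_or_ne a 0 with rfl | ha0
    · simpa using A.zero_mem
    rcases eq_or_ne c 0 with rfl | hc0
    · simpa using A.zero_mem
    rcases eq_or_ne c a with rfl | hca
    · rwa [mul_assoc, mul_inv_cancel₀ hc0, mul_one]
    have hd := hB a ha (c - a) (A.sub_mem hc ha)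
    have e : a * a * c⁻¹ = a - (a⁻¹ + (c - a)⁻¹)⁻¹ := by
      have hca' : c - a ≠ 0 := sub_ne_zero.2 hca
      have h' : a⁻¹ + (c - a)⁻¹ = c / (a * (c - a)) := by field_simp; ring
      rw [h', inv_div]
      field_simp
      ring
    rw [e]
    exact A.sub_mem ha hd
  have hinv : ∀ c ∈ A, c⁻¹ ∈ A := fun c hc => by simpa using hua 1 h1 c hc
  have hsq : ∀ a ∈ A, a * a ∈ A := fun a ha => by simpa using hua a ha 1 h1
  have hmul : ∀ a ∈ A, ∀ b ∈ A, a * b ∈ A := by
    intro a ha b hb
    by_cases h2 : (2 : F) = 0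
    · -- squaring is onto
      have hinj : Function.Injective fun x : A => (⟨x.1 * x.1, hsq _ x.2⟩ : A) := by
        intro x y hxy
        have h : x.1 * x.1 = y.1 * y.1 := congrArg Subtype.val hxy
        refine Subtype.ext (sub_eq_zero.1 (mul_self_eq_zero.1 ?_))
        linear_combination h + (y.1 * y.1 - x.1 * y.1) * h2
      obtain ⟨s, hs⟩ := Finite.surjective_of_injective hinj ⟨a, ha⟩
      have hs' : s.1 * s.1 = a := congrArg Subtype.val hs
      have := hua s.1 s.2 b⁻¹ (hinv b hb)
      rwa [inv_inv, hs'] at this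
    · have h := A.sub_mem (A.sub_mem (hsq _ (A.add_mem ha hb)) (hsq a ha)) (hsq b hb)
      rw [show (a + b) * (a + b) - a * a - b * b = (2 : ℕ) • (a * b) by rw [nsmul_eq_mul]; push_cast; ring] at h
      obtain ⟨p, hchar⟩ := CharP.exists F
      rcases CharP.char_is_prime_or_zero F p with hp | rfl
      · obtain ⟨k, hk⟩ : Odd p := hp.odd_of_ne_two fun e => h2 (by
          subst e; exact_mod_cast CharP.cast_eq_zero F 2)
        have hk' := A.nsmul_mem h (k + 1)
        rw [smul_smul, show (k + 1) * 2 = p + 1 by omega, add_smul, one_smul, nsmul_eq_mul,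
          CharP.cast_eq_zero F p, zero_mul, zero_add] at hk'
        exact hk'
      · haveI := CharP.charP_to_charZero F
        exact absurd (Infinite.of_injective (fun n : ℕ => (n : F)) Nat.cast_injective) (not_infinite_iff_finite.2 ‹_›)
  exact ⟨{ carrier := A
           zero_mem' := A.zero_mem
           one_mem' := h1
           add_mem' := A.add_mem
           neg_mem' := A.neg_mem
           mul_mem' := fun {a b} ha hb => hmul a ha b hb
           inv_mem' := hinv }, rfl⟩

/-- A group of order sixty with ten Sylow `3`-subgroups, no element of order `3` centralising a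
nontrivial element of order prime to `3`, is `A₅`. -/
theorem alt_five_of_sixty {H : Type v} [Group H] [Finite H] (hc : Nat.card H = 60)
    (h3 : Nat.card (Sylow 3 H) = 10)
    (hcomm : ∀ x g : H, orderOf x = 3 → Commute g x → ¬ 3 ∣ orderOf g → g = 1) :
    Nonempty (H ≃* alternatingGroup (Fin 5)) := by
  classical
  haveI : Fact (Nat.Prime 3) := ⟨Nat.prime_three⟩
  haveI : Fact (Nat.Prime 5) := ⟨Nat.prime_five⟩
  obtain ⟨x, hx⟩ := exists_prime_orderOf_dvd_card' (G := H) 3 (by rw [hc]; norm_num)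
  obtain ⟨P⟩ : Nonempty (Sylow 5 H) := inferInstance
  obtain ⟨Q⟩ : Nonempty (Sylow 3 H) := inferInstance
  have hP : Nat.card P = 5 := by
    rw [P.card_eq_multiplicity, hc, show (60 : ℕ) = 5 ^ 1 * 12 from rfl,
      Nat.factorization_mul (by norm_num) (by norm_num), Finsupp.add_apply,
      Nat.Prime.factorization_pow Nat.prime_five,
      Nat.factorization_eq_zero_of_not_dvd (by norm_num : ¬ 5 ∣ 12)]
    simp
  have hQ : Nat.card Q = 3 := by
    rw [Q.card_eq_multiplicity, hc, show (60 : ℕ) = 3 ^ 1 * 20 from rfl,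
      Nat.factorization_mul (by norm_num) (by norm_num), Finsupp.add_apply,
      Nat.Prime.factorization_pow Nat.prime_three,
      Nat.factorization_eq_zero_of_not_dvd (by norm_num : ¬ 3 ∣ 20)]
    simp
  obtain ⟨y, hy⟩ := exists_prime_orderOf_dvd_card' (G := H) 5 (by rw [hc]; norm_num)
  -- six Sylow fives
  have h5 : Nat.card (Sylow 5 H) = 6 := by
    have hd := CfsgLib.Perm.card_sylow_mul_card_normalizer P
    have hN : 5 ∣ Nat.card (Subgroup.normalizer ((P : Subgroup H) : Set H)) := by
      exact hP.symm.dvd.trans (Subgroup.card_dvd_of_le Subgroup.le_normalizer)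
    obtain ⟨k, hk⟩ := hN
    rw [hk, hc] at hd
    have hn := card_sylow_modEq_one 5 H
    rw [Nat.ModEq] at hn
    have hle : Nat.card (Sylow 5 H) ≤ 12 := Nat.le_of_dvd (by norm_num)
      ⟨k, Nat.eq_of_mul_eq_mul_left (by norm_num : 0 < 5) (by linarith)⟩
    have hne : Nat.card (Sylow 5 H) ≠ 1 := by
      intro h1
      have : Subsingleton (Sylow 5 H) := Finite.card_le_one_iff_subsingleton.1 h1.le
      have hn : (P : Subgroup H).Normal := Sylow.normal_of_subsingleton P
      obtain ⟨⟨a, haP⟩, ha⟩ : ∃ a : (P : Subgroup H), a ≠ 1 := by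
        haveI : Nontrivial (P : Subgroup H) := Finite.one_lt_card_iff_nontrivial.1 (by
          show 1 < Nat.card P; omega)
        exact exists_ne 1
      have ha1 : a ≠ 1 := fun e => ha (Subtype.ext e)
      have hoa := CfsgLib.Perm.orderOf_eq_prime_of_mem hP haP ha1
      have hmem := hn.conj_mem a haP x
      rw [← CfsgLib.Perm.zpowers_eq_sylow hP haP ha1, ← mem_powers_iff_mem_zpowers,
        Submonoid.mem_powers_iff] at hmem
      obtain ⟨i, hi⟩ := hmem
      have hit : ∀ m : ℕ, x ^ m * a * (x ^ m)⁻¹ = a ^ (i ^ m) := by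
        intro m
        induction m with
        | zero => simp
        | succ m ih =>
          calc x ^ (m + 1) * a * (x ^ (m + 1))⁻¹ = x * (x ^ m * a * (x ^ m)⁻¹) * x⁻¹ := by
                rw [pow_succ']; group
            _ = (x * a * x⁻¹) ^ (i ^ m) := by rw [ih, conj_pow]
            _ = a ^ (i ^ (m + 1)) := by rw [← hi, ← pow_mul, pow_succ']
      have h3' := hit 3
      have hx3 : x ^ 3 = 1 := hx ▸ pow_orderOf_eq_one x
      rw [hx3, one_mul, inv_one, mul_one] at h3'
      nth_rewrite 1 [← pow_one a] at h3'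
      rw [pow_eq_pow_iff_modEq, hoa, Nat.ModEq, Nat.pow_mod] at h3'
      have hi1 : i % 5 = 1 := by
        have : i % 5 < 5 := Nat.mod_lt _ (by norm_num)
        generalize i % 5 = r at h3' this
        interval_cases r <;> simp_all
      rw [← pow_mod_orderOf a i, hoa, hi1, pow_one] at hi
      refine ha1 (hcomm x a hx ?_ (by rw [hoa]; norm_num))
      exact ((mul_inv_eq_iff_eq_mul.1 hi.symm).symm : a * x = x * a)
    rcases (show Nat.card (Sylow 5 H) = 6 ∨ Nat.card (Sylow 5 H) = 11 by omega) with e | e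
    · exact e
    · rw [e] at hd; omega
  have hfin := Fintype.ofFinite (Sylow 5 H)
  let f : H →* Equiv.Perm (Sylow 5 H) := MulAction.toPermHom H (Sylow 5 H)
  have hinj : Function.Injective f := by
    rw [← MonoidHom.ker_eq_bot_iff]
    have hmem : ∀ g ∈ f.ker, ∀ R : Sylow 5 H, g ∈ Subgroup.normalizer ((R : Subgroup H) : Set H) :=
      fun g hg R => Sylow.smul_eq_iff_mem_normalizer.1 (congrArg (fun σ : Equiv.Perm _ => σ R) hg)
    have h5' : ¬ 5 ∣ Nat.card f.ker := fun h => by
      obtain ⟨⟨a, ha⟩, hoa⟩ := exists_prime_orderOf_dvd_card' (G := f.ker) 5 h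
      rw [Subgroup.orderOf_mk] at hoa
      have hall : ∀ R : Sylow 5 H, (R : Subgroup H) = Subgroup.zpowers a := fun R => by
        have hpg : IsPGroup 5 (Subgroup.zpowers a) :=
          IsPGroup.of_card (n := 1) (by rw [Nat.card_zpowers, hoa, pow_one])
        have hle : Subgroup.zpowers a ≤ (R : Subgroup H) := by
          rw [← inf_eq_left, ← hpg.inf_normalizer_sylow R, inf_eq_left]
          exact Subgroup.zpowers_le.2 (hmem a ha R)
        exact (Subgroup.eq_of_le_of_card_ge hle (by
          rw [CfsgLib.Perm.card_eq_of_card_sylow hP R, Nat.card_zpowers, hoa])).symm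
      have : Subsingleton (Sylow 5 H) := ⟨fun A B => Sylow.ext ((hall A).trans (hall B).symm)⟩
      have := Finite.card_le_one_iff_subsingleton.2 this
      omega
    have hle : Nat.card f.ker ∣ 10 := by
      have h := Subgroup.card_dvd_of_le (fun g hg => hmem g hg P : f.ker ≤ _)
      have hd := CfsgLib.Perm.card_sylow_mul_card_normalizer P
      rwa [show Nat.card (Subgroup.normalizer ((P : Subgroup H) : Set H)) = 10 by rw [h5, hc] at hd; omega] at h
    have hle2 : Nat.card f.ker ∣ 2 :=
      ((Nat.prime_five.coprime_iff_not_dvd.2 h5').symm.dvd_of_dvd_mul_right (show Nat.card f.ker ∣ 2 * 5 from hle))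
    rw [Subgroup.eq_bot_iff_forall]
    intro g hg
    have hog : orderOf g ∣ 2 := (Subgroup.orderOf_dvd_natCard _ hg).trans hle2
    refine hcomm x g hx ?_ (fun h => by have := Nat.le_of_dvd two_pos (h.trans hog); omega)
    -- a normal subgroup of order two is central
    by_cases hg1 : g = 1
    · rw [hg1]; exact Commute.one_left x
    have h2 : Nat.card f.ker = 2 := (Nat.dvd_prime Nat.prime_two).1 hle2 |>.resolve_left fun e => hg1 (by
      have := Subgroup.card_eq_one.1 e
      rw [this] at hg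
      exact Subgroup.mem_bot.1 hg)
    obtain ⟨w, -, hw⟩ := (Nat.card_eq_two_iff' (1 : f.ker)).1 h2
    have e1 := hw ⟨x * g * x⁻¹, f.normal_ker.conj_mem g hg x⟩
      (fun e => hg1 (conj_eq_one_iff.1 (congrArg Subtype.val e)))
    have e2 := hw ⟨g, hg⟩ (fun e => hg1 (congrArg Subtype.val e))
    have e3 : x * g * x⁻¹ = g := congrArg Subtype.val (e1.trans e2.symm)
    exact ((mul_inv_eq_iff_eq_mul.1 e3).symm : g * x = x * g)
  have heven : f.range ≤ alternatingGroup (Sylow 5 H) := by
    rintro _ ⟨g, rfl⟩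
    rw [Equiv.Perm.mem_alternatingGroup]
    by_contra hodd
    have hodd' : ∀ (h : H) (m : ℕ), Odd m → h ^ m = 1 → Equiv.Perm.sign (f h) = 1 := by
      intro h m hm e
      have := congrArg (fun σ => Equiv.Perm.sign (f σ)) e
      simp only [map_pow, map_one] at this
      rcases Int.units_eq_one_or (Equiv.Perm.sign (f h)) with e' | e'
      · exact e'
      · rw [e', hm.neg_one_pow] at this; exact absurd this (by decide)
    set M := (Equiv.Perm.sign.comp f).ker with hM
    have hM2 : M.index = 2 := by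
      rw [hM, Subgroup.index_ker]
      have hne : (Equiv.Perm.sign.comp f).range ≠ ⊥ := fun e => hodd (Subgroup.mem_bot.1 (e ▸ ⟨g, rfl⟩))
      have h := Subgroup.card_subgroup_dvd_card (Equiv.Perm.sign.comp f).range
      rw [Nat.card_eq_fintype_card (α := ℤˣ), Fintype.card_units_int] at h
      exact ((Nat.dvd_prime Nat.prime_two).1 h).resolve_left fun e => hne (Subgroup.card_eq_one.1 e)
    have hMc : Nat.card M = 30 := by
      have := M.index_mul_card
      rw [hM2, hc] at this
      omega
    have h24 := CfsgLib.Perm.card_orderOf_prime hP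
    have h20 := CfsgLib.Perm.card_orderOf_prime hQ
    rw [h5] at h24
    rw [h3] at h20
    have hsub : {g : H | orderOf g = 5} ∪ {g : H | orderOf g = 3} ⊆ (M : Set H) := by
      rintro h (e | e)
      · exact hodd' h 5 (by decide) (e ▸ pow_orderOf_eq_one h)
      · exact hodd' h 3 (by decide) (e ▸ pow_orderOf_eq_one h)
    have hdis : Disjoint {g : H | orderOf g = 5} {g : H | orderOf g = 3} :=
      Set.disjoint_left.2 fun g (e : orderOf g = 5) (e' : orderOf g = 3) => by omega
    have hcard := Set.ncard_le_ncard hsub (Set.toFinite _)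
    rw [Set.ncard_union_eq hdis (Set.toFinite _) (Set.toFinite _), ← Nat.card_coe_set_eq, ← Nat.card_coe_set_eq,
      ← Nat.card_coe_set_eq] at hcard
    simp only [Set.coe_setOf, SetLike.coe_sort_coe] at hcard
    omega
  haveI : MulAction.IsPretransitive f.range (Sylow 5 H) := ⟨fun A B => by
    obtain ⟨g, hg⟩ := MulAction.exists_smul_eq H A B
    exact ⟨⟨f g, g, rfl⟩, hg⟩⟩
  have hcf : Nat.card f.range = 60 := (Nat.card_congr (MonoidHom.ofInjective hinj).toEquiv).symm.trans hc
  rcases CfsgLib.TwoPrime.degree_six f.range (by rw [← Nat.card_eq_fintype_card, h5]) inferInstance heven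
    (y := f y) ⟨y, rfl⟩ (by rw [orderOf_injective f hinj, hy]) (x := f x) ⟨x, rfl⟩
    (by rw [orderOf_injective f hinj, hx]) with h | e
  · exfalso
    haveI : Nontrivial (Sylow 5 H) := Finite.one_lt_card_iff_nontrivial.1 (by omega)
    rw [h, nat_card_alternatingGroup, h5] at hcf
    exact absurd hcf (by decide)
  · exact e.map fun e => (MonoidHom.ofInjective hinj).trans e

end CfsgLib.Dickson
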