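import Cfsg.Agent.Lib.DicksonAxiomsAny
import Cfsg.Agent.Lib.DicksonListAux

/-!
# Subgroups with `q + 1` Sylow subgroups are defined over a subfield
-/

set_option autoImplicit false
set_option linter.style.haveILetI false

universe u

namespace CfsgLib.Dickson

open Matrix
open scoped MatrixGroups

attribute [local instance] _root_.Classical.propDecidable

variable {F : Type u} [Field F]

theorem conj_upperU_entries (s : F) (g : SL F) :
    (upperU s * g * (upperU s)⁻¹).1 0 0 = g.1 0 0 + s * g.1 1 0 ∧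
      (upperU s * g * (upperU s)⁻¹).1 1 0 = g.1 1 0 := by
  constructor <;>
    simp [coe_upperU, Matrix.mul_apply, Fin.sum_univ_two, Matrix.adjugate_fin_two, Matrix.vecMul, dotProduct]

theorem conj_upperU_upperU (s a : F) : upperU s * upperU a * (upperU s)⁻¹ = upperU a := by
  rw [upperU_add, add_comm, ← upperU_add, mul_inv_cancel_right]

/-- The Weyl element. -/
def weylW : SL F := ⟨!![0, 1; -1, 0], by simp [Matrix.det_fin_two]⟩

theorem coe_weylW : ((weylW : SL F) : Matrix (Fin 2) (Fin 2) F) = !![0, 1; -1, 0] := rfl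

theorem weylW_conj (g : SL F) : (weylW⁻¹ * (g * weylW)).1 1 0 = -g.1 0 1 := by
  simp [coe_weylW, Matrix.mul_apply, Fin.sum_univ_two, Matrix.adjugate_fin_two, Matrix.vecMul, dotProduct]

theorem eq_lowerU_any {g : SL F} {c : F} (hc0 : c ≠ 0) (hc : Commute g (lowerU c))
    (ht : g.1 0 0 + g.1 1 1 = 2) : g = lowerU (g.1 1 0) := by
  obtain ⟨e1, -, e3⟩ := commute_iff_entries.1 hc
  simp [coe_lowerU, hc0] at e1 e3
  have e2 : g.1 0 0 = g.1 1 1 := sub_eq_zero.1 e3
  have hd := det_eq g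
  rw [e1, zero_mul, sub_zero] at hd
  have ha : g.1 0 0 = 1 := sub_eq_zero.1 ((pow_eq_zero_iff two_ne_zero).1
    (show (g.1 0 0 - 1) ^ 2 = 0 by linear_combination hd - ht + (g.1 0 0 - 1) * e2))
  exact sl_ext (by simp [coe_lowerU, ha]) (by simp [coe_lowerU, e1]) (by simp [coe_lowerU])
    (by simp [coe_lowerU, ← e2, ha])

/-- `j g` is a scalar multiple of a matrix over `K`. -/
def IsOver {K : Type} [Field K] (φ : K →+* F) (g : SL F) (M : Matrix (Fin 2) (Fin 2) K) : Prop :=
  ∃ r : F, g.1 = r • M.map φ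

theorem IsOver.mul {K : Type} [Field K] {φ : K →+* F} {g h : SL F} {M M' : Matrix (Fin 2) (Fin 2) K}
    (hg : IsOver φ g M) (hh : IsOver φ h M') : IsOver φ (g * h) (M * M') := by
  obtain ⟨r, hr⟩ := hg
  obtain ⟨r', hr'⟩ := hh
  exact ⟨r * r', by rw [Matrix.SpecialLinearGroup.coe_mul, hr, hr', Matrix.map_mul, Matrix.smul_mul,
    Matrix.mul_smul, smul_smul]⟩

theorem IsOver.det_ne_zero {K : Type} [Field K] {φ : K →+* F} {g : SL F} {M : Matrix (Fin 2) (Fin 2) K}
    (hg : IsOver φ g M) : M.det ≠ 0 := by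
  obtain ⟨r, hr⟩ := hg
  intro h
  have h1 := g.2
  rw [hr, Matrix.det_smul] at h1
  have h2 : (M.map φ).det = φ M.det := (φ.map_det M).symm
  rw [h2, h, map_zero, mul_zero] at h1
  exact zero_ne_one h1

theorem IsOver.mk_eq {K : Type} [Field K] {φ : K →+* F} {g : SL F} {M M' : GL (Fin 2) K}
    (h : IsOver φ g M.1) (h' : IsOver φ g M'.1) : ProjGenLinGroup.mk M = ProjGenLinGroup.mk M' := by
  obtain ⟨r, hr⟩ := h
  obtain ⟨r', hr'⟩ := h'
  have he : ∀ i j, r * φ (M.1 i j) = r' * φ (M'.1 i j) := fun i j => by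
    have := congrFun (congrFun (hr.symm.trans hr') i) j
    simpa [Matrix.smul_apply] using this
  have hr0 : r ≠ 0 := fun e => by
    have := g.2
    rw [hr, e, zero_smul, Matrix.det_zero] at this
    exact zero_ne_one this
  have hM : M.1.det ≠ 0 := (Matrix.GeneralLinearGroup.det M).ne_zero
  obtain ⟨i, j, hij⟩ : ∃ i j, M.1 i j ≠ 0 := by
    by_contra! hall
    exact hM (by rw [Matrix.det_fin_two, hall, hall, hall, hall]; ring)
  set s : K := M'.1 i j / M.1 i j with hs
  have hs' : ∀ k l, M'.1 k l = s * M.1 k l := fun k l => by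
    refine φ.injective ?_
    have h1 := he i j
    have h2 := he k l
    have hr'0 : r' ≠ 0 := fun e => by rw [e, zero_mul] at h1; exact (mul_ne_zero hr0 (φ.injective.ne_iff' (map_zero φ) |>.2 hij)) h1
    rw [map_mul, hs, map_div₀]
    have hφ : φ (M.1 i j) ≠ 0 := φ.injective.ne_iff' (map_zero φ) |>.2 hij
    field_simp
    apply mul_left_cancel₀ hr'0
    linear_combination -φ (M.1 i j) * h2 + φ (M.1 k l) * h1
  have hs0 : s ≠ 0 := fun e => (Matrix.GeneralLinearGroup.det M').ne_zero (by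
    show M'.1.det = 0
    rw [Matrix.det_fin_two, hs', hs', hs', hs', e]; ring)
  rw [ProjGenLinGroup.mk_eq_mk_iff]
  refine ⟨Units.mk0 s hs0, Units.ext ?_⟩
  ext k l
  rw [Units.val_mul, Matrix.GeneralLinearGroup.coe_scalar]
  simp [Matrix.mul_apply, Fin.sum_univ_two, Matrix.scalar_apply, hs' k l]
  fin_cases k <;> fin_cases l <;> simp [mul_comm]

theorem isSquare_mul_of_not {K : Type*} [Field K] [Fintype K] {a b : K} (ha : ¬ IsSquare a)
    (hb : ¬ IsSquare b) : IsSquare (a * b) := by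
  by_cases h2 : ringChar K = 2
  · exact absurd (FiniteField.isSquare_of_char_two h2 a) ha
  rw [← quadraticChar_one_iff_isSquare (mul_ne_zero (fun e => ha (by rw [e]; exact IsSquare.zero)) (fun e => hb (by rw [e]; exact IsSquare.zero))),
    map_mul, (quadraticChar_neg_one_iff_not_isSquare).2 ha, (quadraticChar_neg_one_iff_not_isSquare).2 hb]
  norm_num

variable [Fintype F] {p : ℕ} [hp : Fact p.Prime] [CharP F p] {L : Type u} [Group L] [Finite L]

omit hp [CharP F p] [Finite L] in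
theorem scalPart_comp {ι : L →* SL F} (f : SL F →* SL F) (hf : Function.Injective f) :
    scalPart (f.comp ι) = scalPart ι := by
  ext g
  rw [mem_scalPart, mem_scalPart, ← mem_center_iff_isScal, ← mem_center_iff_isScal, MonoidHom.comp_apply,
    Subgroup.mem_center_iff, Subgroup.mem_center_iff]
  refine ⟨fun h x => hf (by rw [map_mul, map_mul]; exact h (f x)), fun h x => ?_⟩
  obtain ⟨y, rfl⟩ := Finite.surjective_of_injective hf x
  rw [← map_mul, ← map_mul, h]

omit hp [CharP F p] in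
/-- Coordinates in which one Sylow subgroup is upper and another is lower unitriangular, and the
subfield they define. -/
theorem exists_subfield_coords [Fact p.Prime] [CharP F p] {ι : L →* SL F} (hι : Function.Injective ι)
    (hN1 : 1 < Nat.card (Sylow p L)) (Q : Sylow p L)
    (hN : Nat.card (Sylow p L) = Nat.card (Q : Subgroup L) + 1) :
    ∃ (K : Type) (_ : Field K) (_ : Fintype K) (φ : K →+* F) (f : SL F →* SL F), Function.Injective f ∧
      (∀ S : SL K, Matrix.SpecialLinearGroup.map φ S ∈ (f.comp ι).range) ∧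
      ∀ g : L, ∃ M : Matrix (Fin 2) (Fin 2) K, IsOver φ ((f.comp ι) g) M := by
  have hdvd : p ∣ Nat.card L := by
    by_contra hnd
    have hb : ∀ R : Sylow p L, (R : Subgroup L) = ⊥ := fun R => Subgroup.eq_bot_of_card_eq _ (by
      obtain ⟨a, ha⟩ := IsPGroup.iff_card.1 R.2
      rcases a with _ | a
      · rw [ha, pow_zero]
      · exact absurd ((dvd_pow_self p (Nat.succ_ne_zero a)).trans
          (ha ▸ Subgroup.card_subgroup_dvd_card _)) hnd)
    have : Subsingleton (Sylow p L) := ⟨fun A B => Sylow.ext ((hb A).trans (hb B).symm)⟩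
    have := Finite.card_le_one_iff_subsingleton.2 this
    omega
  have ax := axioms_scalPart_any hι hdvd
  obtain ⟨x, hxQ, hx1, f, hf, hfx, hQu, hNQ⟩ := exists_coords_any hι hdvd Q
  -- a second Sylow subgroup
  haveI : Nontrivial (Sylow p L) := Finite.one_lt_card_iff_nontrivial.1 hN1
  obtain ⟨R, hR⟩ := exists_ne Q
  obtain ⟨⟨y, hyR⟩, hy1⟩ : ∃ y : (R : Subgroup L), y ≠ 1 := by
    haveI : Nontrivial (R : Subgroup L) :=
      (Subgroup.nontrivial_iff_ne_bot _).2 (R.ne_bot_of_dvd_card hdvd)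
    exact exists_ne 1
  have hy1' : y ≠ 1 := fun e => hy1 (Subtype.ext e)
  set c := (f (ι y)).1 1 0 with hcdef
  have hc : c ≠ 0 := fun e => hR (ax.sylow_eq_of_commute hyR hy1'
    (mem_sylow_of_ppow ((hNQ y).2 e) (ppow_of_mem hyR)) hy1' (Commute.refl y))
  set s : F := -((f (ι y)).1 0 0 - 1) / c with hs
  set f' : SL F →* SL F := (MulAut.conj (upperU s)).toMonoidHom.comp f with hf'
  have hf'i : Function.Injective f' := (MulAut.conj (upperU s)).injective.comp hf
  set j : L →* SL F := f'.comp ι with hjdef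
  have hj : Function.Injective j := hf'i.comp hι
  have hjapp : ∀ g, j g = upperU s * f (ι g) * (upperU s)⁻¹ := fun g => rfl
  have hjQ : ∀ q ∈ (Q : Subgroup L), ∃ a, j q = upperU a := fun q hq => by
    obtain ⟨a, ha⟩ := hQu q hq
    exact ⟨a, by rw [hjapp, ha, conj_upperU_upperU]⟩
  have hjx : j x = upperU 1 := by rw [hjapp, hfx, conj_upperU_upperU]
  have hjN : ∀ g : L, g ∈ Subgroup.normalizer ((Q : Subgroup L) : Set L) ↔ (j g).1 1 0 = 0 := fun g => by
    rw [hjapp, (conj_upperU_entries s _).2]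
    exact hNQ g
  have htr : ∀ g : L, (∃ a, orderOf g = p ^ a) → (j g).1 0 0 + (j g).1 1 1 = 2 :=
    fun g hg => trace_of_ppow (p := p) (ι := j) hg
  have hjy : j y = lowerU c := by
    obtain ⟨e0, e1⟩ := conj_upperU_entries s (f (ι y))
    rw [← hjapp] at e0 e1
    have e00 : (j y).1 0 0 = 1 := by rw [e0, hs, ← hcdef]; field_simp; ring
    have e11 : (j y).1 1 1 = 1 := by linear_combination htr y (ppow_of_mem hyR) - e00
    have hd := det_eq (j y)
    rw [e00, e11, e1, ← hcdef] at hd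
    have e01 : (j y).1 0 1 = 0 := (mul_eq_zero.1 (show (j y).1 0 1 * c = 0 by linear_combination -hd)).resolve_right hc
    exact sl_ext (by simp [coe_lowerU, e00]) (by simp [coe_lowerU, e01]) (by simp [coe_lowerU, e1, hcdef])
      (by simp [coe_lowerU, e11])
  have hjR : ∀ r ∈ (R : Subgroup L), ∃ b, j r = lowerU b := fun r hr =>
    ⟨(j r).1 1 0, eq_lowerU_any hc (hjy ▸ (ax.sylow_comm R hr hyR).map j) (htr r (ppow_of_mem hr))⟩
  have hQR : Nat.card (R : Subgroup L) = Nat.card (Q : Subgroup L) := by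
    show Nat.card R = Nat.card Q
    rw [R.card_eq_multiplicity, Q.card_eq_multiplicity]
  -- the additive groups
  let A : AddSubgroup F :=
    { carrier := {a | ∃ q ∈ (Q : Subgroup L), j q = upperU a}
      zero_mem' := ⟨1, one_mem _, by rw [map_one, upperU_zero]⟩
      add_mem' := fun {a b} ⟨q, hq, e⟩ ⟨r, hr, e'⟩ => ⟨q * r, mul_mem hq hr, by rw [map_mul, e, e', upperU_add]⟩
      neg_mem' := fun {a} ⟨q, hq, e⟩ => ⟨q⁻¹, inv_mem hq, by
        rw [map_inv, e, inv_eq_of_mul_eq_one_right (show upperU a * upperU (-a) = 1 by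
          rw [upperU_add, add_neg_cancel, upperU_zero])]⟩ }
  let B : AddSubgroup F :=
    { carrier := {b | ∃ q ∈ (R : Subgroup L), j q = lowerU b}
      zero_mem' := ⟨1, one_mem _, by rw [map_one]; refine sl_ext ?_ ?_ ?_ ?_ <;> simp [coe_lowerU]⟩
      add_mem' := fun {a b} ⟨q, hq, e⟩ ⟨r, hr, e'⟩ => ⟨q * r, mul_mem hq hr, by rw [map_mul, e, e', lowerU_add]⟩
      neg_mem' := fun {a} ⟨q, hq, e⟩ => ⟨q⁻¹, inv_mem hq, by
        rw [map_inv, e, inv_eq_of_mul_eq_one_right (show lowerU a * lowerU (-a) = 1 by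
          rw [lowerU_add, add_neg_cancel]; refine sl_ext ?_ ?_ ?_ ?_ <;> simp [coe_lowerU])]⟩ }
  have hA1 : (1 : F) ∈ A := ⟨x, hxQ, hjx⟩
  have upper_inj : ∀ a b : F, upperU a = upperU b → a = b := fun a b e => by
    have := congrArg (fun g : SL F => g.1 0 1) e
    simpa [coe_upperU] using this
  have lower_inj : ∀ a b : F, lowerU a = lowerU b → a = b := fun a b e => by
    have := congrArg (fun g : SL F => g.1 1 0) e
    simpa [coe_lowerU] using this
  have hBA : ∀ a ∈ A, a⁻¹ ∈ B := by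
    rintro a ⟨q, hq, hqa⟩
    rcases eq_or_ne a 0 with rfl | ha
    · rw [_root_.inv_zero]; exact B.zero_mem
    have hSR : q • R ≠ R := fun e => hR (ax.sylow_eq_of_commute hq (fun h => ha (by
        rw [h, map_one, ← upperU_zero] at hqa; exact (upper_inj _ _ hqa).symm))
      (mem_sylow_of_ppow (Sylow.smul_eq_iff_mem_normalizer.1 e) (ppow_of_mem hq)) (fun h => ha (by
        rw [h, map_one, ← upperU_zero] at hqa; exact (upper_inj _ _ hqa).symm)) (Commute.refl q)).symm
    obtain ⟨r, hr, hrS⟩ := (ax.sylow_count_mod R).2 (by rw [hQR]; exact hN) Q (q • R) (Ne.symm hR) hSR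
    obtain ⟨μ, hμ⟩ := hjR r hr
    have hmem : (r⁻¹ * q) • R = Q := by rw [mul_smul, ← hrS, inv_smul_smul]
    have hm : (r⁻¹ * q) * y * (r⁻¹ * q)⁻¹ ∈ (Q : Subgroup L) := by
      rw [← hmem, Sylow.coe_subgroup_smul]
      exact Subgroup.smul_mem_pointwise_smul y (MulAut.conj (r⁻¹ * q)) _ hyR
    obtain ⟨e, he⟩ := hjQ _ hm
    simp only [map_mul, map_inv, hqa, hμ, hjy] at he
    have h10 := congrArg (fun g : SL F => g.1 1 0) he
    simp [coe_upperU, coe_lowerU, Matrix.mul_apply, Fin.sum_univ_two, Matrix.adjugate_fin_two] at h10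
    have hμa : a * μ = 1 := by
      have h2 : (a * μ - 1) ^ 2 * c = 0 := by linear_combination h10
      exact sub_eq_zero.1 ((pow_eq_zero_iff two_ne_zero).1 ((mul_eq_zero.1 h2).resolve_right hc))
    exact ⟨r, hr, by rw [hμ, eq_inv_of_mul_eq_one_right hμa]⟩
  have hcard : Nat.card B ≤ Nat.card A := by
    have e1 : Nat.card B ≤ Nat.card (R : Subgroup L) := by
      refine Nat.card_le_card_of_injective (fun b : B => (⟨b.2.choose, b.2.choose_spec.1⟩ : (R : Subgroup L)))
        fun a b e => Subtype.ext (lower_inj _ _ ?_)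
      rw [← a.2.choose_spec.2, ← b.2.choose_spec.2]
      exact congrArg j (congrArg Subtype.val e)
    have e2 : Nat.card (Q : Subgroup L) ≤ Nat.card A := by
      refine Nat.card_le_card_of_injective (fun q : (Q : Subgroup L) =>
        (⟨(hjQ q q.2).choose, q, q.2, (hjQ q q.2).choose_spec⟩ : A)) fun a b e => ?_
      refine Subtype.ext (hj ?_)
      rw [(hjQ a a.2).choose_spec, (hjQ b b.2).choose_spec]
      exact congrArg upperU (congrArg Subtype.val e)
    omega
  have hAB : ∀ b ∈ B, b⁻¹ ∈ A := by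
    intro b hb
    have hsurj := (Function.Injective.bijective_of_nat_card_le
      (f := fun a : A => (⟨a.1⁻¹, hBA a.1 a.2⟩ : B))
      (fun a b e => Subtype.ext (inv_injective (congrArg Subtype.val e))) hcard).2
    obtain ⟨a, ha⟩ := hsurj ⟨b, hb⟩
    rw [← show a.1⁻¹ = b from congrArg Subtype.val ha, inv_inv]
    exact a.2
  obtain ⟨K₀, hK₀⟩ := exists_subfield A hA1 fun a ha b hb => hAB _ (B.add_mem (hBA a ha) (hBA b hb))
  haveI : Small.{0} K₀ := Countable.toSmall _
  let e : Shrink.{0} K₀ ≃+* K₀ := Shrink.ringEquiv K₀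
  letI : Fintype (Shrink.{0} K₀) := Fintype.ofFinite _
  let φ : Shrink.{0} K₀ →+* F := K₀.subtype.comp e.toRingHom
  have hφA : ∀ k, φ k ∈ A := fun k => by
    have := (e k).2
    exact (Set.ext_iff.1 hK₀ _).1 this
  have hφsurj : ∀ a ∈ A, ∃ k, φ k = a := fun a ha =>
    ⟨e.symm ⟨a, (Set.ext_iff.1 hK₀ _).2 ha⟩, by simp [φ]⟩
  refine ⟨Shrink.{0} K₀, inferInstance, inferInstance, φ, f', hf'i, ?_, ?_⟩
  · -- the subgroup over the subfield
    intro S
    refine mem_of_elementary (S := j.range.comap (Matrix.SpecialLinearGroup.map φ)) (fun k => ?_) (fun k => ?_) S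
    · obtain ⟨q, -, hq⟩ := hφA k
      refine ⟨q, hq.trans (sl_ext ?_ ?_ ?_ ?_)⟩ <;> simp [coe_upperU, Matrix.SpecialLinearGroup.map_apply_coe]
    · have hk : φ k ∈ B := by
        have h1 := hBA _ (hφA k⁻¹)
        rwa [map_inv₀, inv_inv] at h1
      obtain ⟨q, -, hq⟩ := hk
      refine ⟨q, hq.trans (sl_ext ?_ ?_ ?_ ?_)⟩ <;> simp [coe_lowerU, Matrix.SpecialLinearGroup.map_apply_coe]
  · intro g
    obtain ⟨y₁, hy₁R, hy₁⟩ : (-1 : F) ∈ B := by
      have := hBA _ (A.neg_mem hA1)
      rwa [inv_neg, inv_one] at this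
    set w := x * y₁ * x with hw
    have hjw : j w = weylW := by
      rw [hw, map_mul, map_mul, hjx, hy₁]
      refine sl_ext ?_ ?_ ?_ ?_ <;> simp [coe_weylW, coe_upperU, coe_lowerU, Matrix.mul_apply, Fin.sum_univ_two]
    have hwx : j (w * x * w⁻¹) = lowerU (-1) := by
      rw [map_mul, map_mul, map_inv, hjw, hjx]
      refine sl_ext ?_ ?_ ?_ ?_ <;>
        simp [coe_weylW, coe_upperU, coe_lowerU, Matrix.mul_apply, Fin.sum_univ_two, Matrix.adjugate_fin_two]
    have hwR : w • Q = R := by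
      refine ax.sylow_eq_of_commute (x := w * x * w⁻¹) (y := y) ?_ (fun e => hx1 (conj_eq_one_iff.1 e)) hyR hy1' ?_
      · rw [Sylow.coe_subgroup_smul]
        exact Subgroup.smul_mem_pointwise_smul x (MulAut.conj w) _ hxQ
      · refine Commute.of_map hj ?_
        rw [hwx, hjy]
        show lowerU c * lowerU (-1) = lowerU (-1) * lowerU c
        rw [lowerU_add, lowerU_add, add_comm]
    have hNR : ∀ n : L, n • R = R → (j n).1 0 1 = 0 := by
      intro n hn
      rw [← hwR, ← mul_smul] at hn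
      have h1 : (w⁻¹ * (n * w)) • Q = Q := by rw [mul_smul, hn, inv_smul_smul]
      have h2 := (hjN _).1 (Sylow.smul_eq_iff_mem_normalizer.1 h1)
      rw [map_mul, map_mul, map_inv, hjw, weylW_conj] at h2
      exact neg_eq_zero.1 h2
    -- the normaliser of `Q`
    have hnorm : ∀ n : L, n • Q = Q → ∃ M : Matrix (Fin 2) (Fin 2) (Shrink.{0} K₀), IsOver φ (j n) M := by
      intro n hn
      have hnN := Sylow.smul_eq_iff_mem_normalizer.1 hn
      have h10 := (hjN n).1 hnN
      have hd := det_eq (j n)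
      rw [h10, mul_zero, sub_zero] at hd
      have ht : (j n).1 0 0 * (j n).1 0 0 ∈ A := by
        refine ⟨n * x * n⁻¹, (Subgroup.mem_normalizer_iff.1 hnN x).1 hxQ, ?_⟩
        rw [map_mul, map_mul, map_inv, hjx]
        refine sl_ext ?_ ?_ ?_ ?_ <;>
          simp [coe_upperU, Matrix.mul_apply, Fin.sum_univ_two, Matrix.adjugate_fin_two, h10]
        all_goals first | linear_combination hd | linear_combination -hd | linear_combination (0 : F) * hd
      have hnR : n • R ≠ Q := fun e => hR (smul_left_cancel n (e.trans hn.symm))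
      obtain ⟨q, hq, hqR⟩ := (ax.sylow_count_mod Q).2 hN R (n • R) hR hnR
      obtain ⟨a, ha⟩ := hjQ q hq
      have h01 := hNR (q⁻¹ * n) (by rw [mul_smul, ← hqR, inv_smul_smul])
      rw [map_mul, map_inv, ha] at h01
      simp [coe_upperU, Matrix.mul_apply, Fin.sum_univ_two, Matrix.adjugate_fin_two] at h01
      obtain ⟨k₁, hk₁⟩ := hφsurj _ ht
      obtain ⟨k₂, hk₂⟩ := hφsurj a ⟨q, hq, ha⟩
      refine ⟨!![k₁, k₂; 0, 1], (j n).1 1 1, ?_⟩
      ext i k
      fin_cases i <;> fin_cases k <;> simp [hk₁, hk₂, h10]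
      · linear_combination -(j n).1 0 0 * hd
      · linear_combination h01
    have hover : ∀ g : L, ∀ k : Shrink.{0} K₀, j g = upperU (φ k) → ∃ M, IsOver φ (j g) M := fun g k hg =>
      ⟨!![1, k; 0, 1], 1, by
        rw [hg, one_smul]
        ext i l
        fin_cases i <;> fin_cases l <;> simp [coe_upperU]⟩
    by_cases hgQ : g • Q = Q
    · exact hnorm g hgQ
    obtain ⟨q, hq, hqS⟩ := (ax.sylow_count_mod Q).2 hN R (g • Q) hR hgQ
    rw [← hwR, ← mul_smul] at hqS
    obtain ⟨M₃, hM₃⟩ := hnorm ((q * w)⁻¹ * g) (by rw [mul_smul, ← hqS, inv_smul_smul])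
    obtain ⟨a, ha⟩ := hjQ q hq
    obtain ⟨k, hk⟩ := hφsurj a ⟨q, hq, ha⟩
    obtain ⟨M₁, hM₁⟩ := hover q k (by rw [ha, hk])
    have hM₂ : IsOver φ (j w) (!![0, 1; -1, 0] : Matrix (Fin 2) (Fin 2) (Shrink.{0} K₀)) := ⟨1, by
      rw [hjw, one_smul, coe_weylW]
      ext i l
      fin_cases i <;> fin_cases l <;> simp⟩
    refine ⟨M₁ * !![0, 1; -1, 0] * M₃, ?_⟩
    have h := (hM₁.mul hM₂).mul hM₃
    rwa [← map_mul, ← map_mul, mul_inv_cancel_left] at h

omit hp [CharP F p] in
/-- A subgroup with `q + 1` Sylow subgroups maps onto `PSL₂` or `PGL₂` of a subfield. -/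
theorem subfield_of_count [Fact p.Prime] [CharP F p] {ι : L →* SL F} (hι : Function.Injective ι)
    (hN1 : 1 < Nat.card (Sylow p L)) (Q : Sylow p L)
    (hN : Nat.card (Sylow p L) = Nat.card (Q : Subgroup L) + 1) :
    ∃ (K : Type) (_ : Field K) (_ : Fintype K) (φ : K →+* F) (Φ : L →* ProjGenLinGroup (Fin 2) K)
      (f : SL F →* SL F), Function.Injective f ∧
      (∀ S : SL K, Matrix.SpecialLinearGroup.map φ S ∈ (f.comp ι).range) ∧
      (∀ g : L, ∃ M : Matrix (Fin 2) (Fin 2) K, IsOver φ ((f.comp ι) g) M) ∧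
      Φ.ker = scalPart ι ∧ (Φ.range = ⊤ ∨
        Φ.range = (ProjectiveSpecialLinearGroup.toPGL (n := Fin 2) (R := K)).range) := by
  obtain ⟨K, hKf, hKt, φ, f, hf, hS, hM'⟩ := exists_subfield_coords hι hN1 Q hN
  have hscal : scalPart (f.comp ι) = scalPart ι := scalPart_comp f hf
  set j : L →* SL F := f.comp ι
  choose M hM using hM'
  let Mg : L → GL (Fin 2) K := fun g =>
    Matrix.GeneralLinearGroup.mkOfDetNeZero (M g) (hM g).det_ne_zero
  have hMg : ∀ g, IsOver φ (j g) (Mg g).1 := hM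
  have hone : IsOver φ (1 : SL F) ((1 : GL (Fin 2) K) : Matrix (Fin 2) (Fin 2) K) := ⟨1, by
    rw [Units.val_one, Matrix.map_one _ (map_zero φ) (map_one φ), one_smul, Matrix.SpecialLinearGroup.coe_one]⟩
  let Φ : L →* ProjGenLinGroup (Fin 2) K :=
    { toFun := fun g => ProjGenLinGroup.mk (Mg g)
      map_one' := by
        rw [IsOver.mk_eq (hMg 1) (by rw [map_one]; exact hone), map_one]
      map_mul' := fun g h => by
        rw [← map_mul]
        exact IsOver.mk_eq (hMg (g * h)) (by rw [map_mul]; exact (hMg g).mul (hMg h)) }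
  refine ⟨K, hKf, hKt, φ, Φ, f, hf, hS, fun g => ⟨_, hM g⟩, ?_, ?_⟩
  · rw [← hscal]
    ext g
    rw [mem_scalPart, MonoidHom.mem_ker]
    show ProjGenLinGroup.mk (Mg g) = 1 ↔ _
    constructor
    · intro e
      rw [← map_one (ProjGenLinGroup.mk (n := Fin 2) (R := K)), ProjGenLinGroup.mk_eq_mk_iff] at e
      obtain ⟨u, hu⟩ := e
      obtain ⟨r, hr⟩ := hMg g
      have hMv : (Mg g).1 = Matrix.scalar (Fin 2) (u⁻¹ : Kˣ).1 := by
        have h1 : Mg g = (Matrix.GeneralLinearGroup.scalar (Fin 2) u)⁻¹ := eq_inv_of_mul_eq_one_left hu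
        rw [h1, ← map_inv, Matrix.GeneralLinearGroup.coe_scalar]
      refine ⟨?_, ?_, ?_⟩ <;> rw [hr, hMv] <;> simp [Matrix.scalar_apply]
    · rintro ⟨e1, e2, e3⟩
      rw [← map_one (ProjGenLinGroup.mk (n := Fin 2) (R := K))]
      refine IsOver.mk_eq (hMg g) ⟨(j g).1 0 0, ?_⟩
      rw [Units.val_one, Matrix.map_one _ (map_zero φ) (map_one φ)]
      ext i l
      fin_cases i <;> fin_cases l <;> simp [e1, e2, ← e3]
  · have hle : (ProjectiveSpecialLinearGroup.toPGL (n := Fin 2) (R := K)).range ≤ Φ.range := by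
      rintro _ ⟨S, rfl⟩
      induction S using QuotientGroup.induction_on with
      | H S =>
        obtain ⟨g, hg⟩ := hS S
        refine ⟨g, ?_⟩
        rw [ProjectiveSpecialLinearGroup.toPGL_mk]
        refine IsOver.mk_eq (hMg g) ⟨1, ?_⟩
        rw [hg, one_smul]
        rfl
    -- a matrix with square determinant is in the image of `SL₂`
    have hsq : ∀ A : GL (Fin 2) K, IsSquare A.1.det →
        ProjGenLinGroup.mk A ∈ (ProjectiveSpecialLinearGroup.toPGL (n := Fin 2) (R := K)).range := by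
      rintro A ⟨c, hc⟩
      have hc0 : c ≠ 0 := fun e => (Matrix.GeneralLinearGroup.det A).ne_zero (by
        show A.1.det = 0
        rw [hc, e, mul_zero])
      obtain ⟨S, hS⟩ : ∃ S : SpecialLinearGroup (Fin 2) K, S.1 = c⁻¹ • A.1 := ⟨⟨c⁻¹ • A.1, by
        rw [Matrix.det_smul, hc, Fintype.card_fin]; field_simp⟩, rfl⟩
      refine ⟨(S : ProjectiveSpecialLinearGroup (Fin 2) K), ?_⟩
      rw [ProjectiveSpecialLinearGroup.toPGL_mk, ProjGenLinGroup.mk_eq_mk_iff]
      refine ⟨Units.mk0 c hc0, Units.ext ?_⟩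
      rw [Units.val_mul, Matrix.GeneralLinearGroup.coe_scalar, Matrix.SpecialLinearGroup.coe_GL_coe_matrix, hS]
      ext i l
      fin_cases i <;> fin_cases l <;>
        simp [Matrix.mul_apply, Fin.sum_univ_two, Matrix.scalar_apply] <;> field_simp
    by_cases hall : ∀ g, IsSquare (Mg g).1.det
    · right
      refine le_antisymm ?_ hle
      rintro _ ⟨g, rfl⟩
      exact hsq _ (hall g)
    · left
      push Not at hall
      obtain ⟨g₀, hg₀⟩ := hall
      rw [eq_top_iff]
      intro X _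
      induction X using ProjGenLinGroup.induction_on with
      | mk A =>
        by_cases hA : IsSquare A.1.det
        · exact hle (hsq A hA)
        · have h1 := hle (hsq (A * Mg g₀) (by
            rw [Units.val_mul, Matrix.det_mul]
            exact isSquare_mul_of_not hA hg₀))
          rw [map_mul] at h1
          exact (Subgroup.mul_mem_cancel_right Φ.range (show ProjGenLinGroup.mk (Mg g₀) ∈ Φ.range from ⟨g₀, rfl⟩)).1 h1

end CfsgLib.Dickson
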