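import Cfsg.Agent.Lib.DicksonSemisimple
import Cfsg.Agent.Lib.DicksonCountFull
import Cfsg.Agent.Lib.DicksonCountTwo
import Cfsg.Agent.Lib.DicksonListField

/-!
# Dickson's list of the subgroups of `PSL₂(q)`
-/

set_option autoImplicit false
set_option linter.style.haveILetI false
set_option maxHeartbeats 1000000

universe u

namespace CfsgLib.Dickson

open Matrix
open scoped MatrixGroups

attribute [local instance] _root_.Classical.propDecidable

variable {F : Type u} [Field F] [Fintype F]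

/-- The preimage in `SL₂`. -/
abbrev lift (H : Subgroup (ProjectiveSpecialLinearGroup (Fin 2) F)) : Subgroup (SL F) :=
  H.comap (QuotientGroup.mk' (Subgroup.center (SL F)))

/-- The projection of the preimage. -/
def proj (H : Subgroup (ProjectiveSpecialLinearGroup (Fin 2) F)) : lift H →* H :=
  ((QuotientGroup.mk' (Subgroup.center (SL F))).comp (lift H).subtype).codRestrict H fun g => g.2

variable (H : Subgroup (ProjectiveSpecialLinearGroup (Fin 2) F))

theorem proj_isProj : Klein.IsProj (proj H) (scalPart (lift H).subtype) where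
  surj h := by
    obtain ⟨g, hg⟩ := QuotientGroup.mk'_surjective (Subgroup.center (SL F)) h.1
    exact ⟨⟨g, Subgroup.mem_comap.2 (hg ▸ h.2)⟩, Subtype.ext hg⟩
  ker := by
    ext g
    rw [MonoidHom.mem_ker, mem_scalPart, ← mem_center_iff_isScal]
    refine ⟨fun h => (QuotientGroup.eq_one_iff _).1 (congrArg Subtype.val h), fun h => ?_⟩
    exact Subtype.ext ((QuotientGroup.eq_one_iff _).2 h)

theorem card_scalPart {q : ℕ} (hF : Fintype.card F = q) {p : ℕ} [Fact p.Prime] [CharP F p] :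
    Nat.card (scalPart (lift H).subtype) = Nat.gcd 2 (q - 1) := by
  rw [← card_center hF (p := p)]
  refine Nat.card_congr
    { toFun := fun g => ⟨((g : lift H) : SL F), mem_center_iff_isScal.2 (mem_scalPart.1 g.2)⟩
      invFun := fun g => ⟨⟨g.1, Subgroup.mem_comap.2 (by
          rw [QuotientGroup.mk'_apply, (QuotientGroup.eq_one_iff _).2 g.2]; exact one_mem _)⟩,
        mem_scalPart.2 (mem_center_iff_isScal.1 g.2)⟩
      left_inv := fun g => rfl
      right_inv := fun g => rfl }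

variable {H} {p : ℕ} [hp : Fact p.Prime] [CharP F p]

omit hp [CharP F p] in
theorem isCyclic_cent [Fact p.Prime] [CharP F p] {h : lift H} (hh : h ∉ scalPart (lift H).subtype)
    (hco : ¬ p ∣ Nat.card (Subgroup.centralizer ({h} : Set (lift H)))) :
    IsCyclic (Subgroup.centralizer ({h} : Set (lift H))) := by
  set C := Subgroup.centralizer ({h} : Set (lift H))
  have hj := (lift H).subtype_injective
  have e := C.equivMapOfInjective (lift H).subtype hj
  have hc : IsCyclic (C.map (lift H).subtype) := by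
    refine CfsgLib.Classical.isCyclic_of_comm_coprime (p := p) _ ?_ (by rwa [← Nat.card_congr e.toEquiv])
    rintro _ ⟨a, ha, rfl⟩ _ ⟨b, hb, rfl⟩
    exact (commute_of_commute (fun e => hh (mem_scalPart.2 e))
      ((show Commute a h from Subgroup.mem_centralizer_singleton_iff.1 ha).map (lift H).subtype)
      ((show Commute b h from Subgroup.mem_centralizer_singleton_iff.1 hb).map (lift H).subtype)).eq
  exact e.isCyclic.2 hc

/-- The index of the scalars in a regular centraliser divides `(q ± 1) / d`. -/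
theorem relIndex_dvd {q : ℕ} (hF : Fintype.card F = q) {h : lift H} (hh : h ∉ scalPart (lift H).subtype)
    (hco : ¬ p ∣ Nat.card (Subgroup.centralizer ({h} : Set (lift H)))) :
    (scalPart (lift H).subtype).relIndex (Subgroup.centralizer ({h} : Set (lift H))) ∣ (q + 1) / Nat.gcd 2 (q - 1) ∨
      (scalPart (lift H).subtype).relIndex (Subgroup.centralizer ({h} : Set (lift H))) ∣ (q - 1) / Nat.gcd 2 (q - 1) := by
  haveI := isCyclic_cent hh hco
  set C := Subgroup.centralizer ({h} : Set (lift H))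
  obtain ⟨c, hc⟩ := IsCyclic.exists_ofOrder_eq_natCard (α := C)
  have hord : orderOf ((c : lift H) : SL F) = Nat.card C := by
    rw [Subgroup.orderOf_coe, Subgroup.orderOf_coe, hc]
  have hle : scalPart (lift H).subtype ≤ C := (core_scalPart (p := p) (lift H).subtype_injective).z_le_cent h
  rw [← card_scalPart H hF (p := p)]
  have hmul := CfsgLib.Core.card_mul_relIndex hle
  rcases pow_eq_one_of_regular hF (p := p) (g := ((c : lift H) : SL F)) (by rwa [hord]) with e | e
  · right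
    refine Nat.dvd_div_of_mul_dvd ?_
    rw [hmul, ← hord]
    exact orderOf_dvd_of_pow_eq_one e
  · left
    refine Nat.dvd_div_of_mul_dvd ?_
    rw [hmul, ← hord]
    exact orderOf_dvd_of_pow_eq_one e

/-- A normal Sylow subgroup puts the group into a Borel subgroup. -/
theorem le_normalizer_of_one (hN : Nat.card (Sylow p (lift H)) = 1) (hdvd : p ∣ Nat.card (lift H)) :
    ∃ P : Sylow p (ProjectiveSpecialLinearGroup (Fin 2) F),
      H ≤ Subgroup.normalizer ((P : Subgroup (ProjectiveSpecialLinearGroup (Fin 2) F)) : Set _) := by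
  obtain ⟨Q⟩ : Nonempty (Sylow p (lift H)) := inferInstance
  obtain ⟨⟨x, hxQ⟩, hx1⟩ : ∃ x : (Q : Subgroup (lift H)), x ≠ 1 := by
    haveI : Nontrivial (Q : Subgroup (lift H)) :=
      (Subgroup.nontrivial_iff_ne_bot _).2 (Q.ne_bot_of_dvd_card hdvd)
    exact exists_ne 1
  have : Subsingleton (Sylow p (lift H)) := Finite.card_le_one_iff_subsingleton.1 hN.le
  have hQn : (Q : Subgroup (lift H)).Normal := Sylow.normal_of_subsingleton Q
  obtain ⟨S, hS⟩ := (Q.2.map (lift H).subtype).exists_le_sylow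
  have hdS : p ∣ Nat.card (SL F) := hdvd.trans (Subgroup.card_subgroup_dvd_card _)
  have ax := axioms_scalPart_any (p := p) (ι := MonoidHom.id (SL F)) Function.injective_id hdS
  have hx1' : (x : SL F) ≠ 1 := fun e => hx1 (Subtype.ext (Subtype.ext e))
  refine ⟨S.mapSurjective (QuotientGroup.mk'_surjective (Subgroup.center (SL F))), ?_⟩
  intro h hh
  obtain ⟨g, rfl⟩ := QuotientGroup.mk'_surjective (Subgroup.center (SL F)) h
  have hg : g ∈ lift H := hh
  have hgS : g • S = S := by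
    have hy := hS (Subgroup.mem_map_of_mem (lift H).subtype (hQn.conj_mem x hxQ ⟨g, hg⟩))
    rw [map_mul, map_mul, map_inv] at hy
    have hxS : (lift H).subtype x ∈ (S : Subgroup (SL F)) := hS (Subgroup.mem_map_of_mem _ hxQ)
    simp only [Subgroup.coe_subtype] at hy hxS
    have hy' : g * (x : SL F) * g⁻¹ ∈ ((g • S : Sylow p (SL F)) : Subgroup (SL F)) := by
      rw [Sylow.coe_subgroup_smul, ← MulAut.conj_apply]
      exact Subgroup.smul_mem_pointwise_smul (x : SL F) (MulAut.conj g) _ hxS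
    exact Axioms.sylow_eq_of_commute ax hy' (fun e => hx1' (conj_eq_one_iff.1 e)) hy
      (fun e => hx1' (conj_eq_one_iff.1 e)) (Commute.refl _)
  rw [Sylow.coe_mapSurjective]
  exact Subgroup.le_normalizer_map _ (Subgroup.mem_map_of_mem _ (Sylow.smul_eq_iff_mem_normalizer.1 hgS))

/-- The exceptional count in characteristic two gives a dihedral group. -/
theorem dihedral_of_exceptional {q : ℕ} (hF : Fintype.card F = q) (hp2 : p = 2) (Q : Sylow p (lift H))
    (hQ : Nat.card (Q : Subgroup (lift H)) = 2)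
    (hL : Nat.card (lift H) = 2 * Nat.card (Sylow p (lift H)) * Nat.card (scalPart (lift H).subtype))
    {w : lift H} (hw : w ∉ scalPart (lift H).subtype) (hwr : ¬ p ∣ orderOf w)
    (hd : (scalPart (lift H).subtype).relIndex (cent w) = Nat.card (Sylow p (lift H))) :
    ∃ k : ℕ, (k ∣ (q + 1) / Nat.gcd 2 (q - 1) ∨ k ∣ (q - 1) / Nat.gcd 2 (q - 1)) ∧
      Nonempty (H ≃* DihedralGroup k) := by
  subst hp2
  have hcore := core_scalPart (p := 2) (lift H).subtype_injective
  have hco : ¬ 2 ∣ Nat.card (cent w) := Klein.Core.not_dvd_card_cent hcore hw hwr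
  refine ⟨_, hd ▸ relIndex_dvd hF hw hco, ?_⟩
  haveI := isCyclic_cent hw hco
  have hz : Nat.card (scalPart (lift H).subtype) = 1 := by
    rw [card_scalPart H hF (p := 2)]
    obtain ⟨n, -, hn⟩ := FiniteField.card F 2
    have hq1 : 1 < q := hF ▸ Fintype.one_lt_card
    have : q % 2 = 0 := by rw [← hF, hn, Nat.pow_mod]; simp
    exact Nat.coprime_two_left.2 (show Odd (q - 1) by rw [Nat.odd_iff]; omega)
  rw [hz, mul_one] at hL
  set N := Nat.card (Sylow 2 (lift H))
  have hcard : Nat.card (cent w) = N := by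
    rw [← CfsgLib.Core.card_mul_relIndex (hcore.z_le_cent w), hz, one_mul]
    exact hd
  obtain ⟨c, hc⟩ := IsCyclic.exists_ofOrder_eq_natCard (α := cent w)
  have hco' : orderOf (c : lift H) = N := by rw [Subgroup.orderOf_coe, hc, hcard]
  have hgen : Subgroup.zpowers (c : lift H) = cent w :=
    Subgroup.eq_of_le_of_card_ge (Subgroup.zpowers_le.2 c.2) (by rw [Nat.card_zpowers, hco', hcard])
  obtain ⟨⟨g, hgQ⟩, hg1⟩ : ∃ g : (Q : Subgroup (lift H)), g ≠ 1 := by
    haveI : Nontrivial (Q : Subgroup (lift H)) := Finite.one_lt_card_iff_nontrivial.1 (by omega)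
    exact exists_ne 1
  have hg2 : g * g = 1 := by
    have h2 : (⟨g, hgQ⟩ : (Q : Subgroup (lift H))) ^ 2 = 1 := by
      have h := pow_card_eq_one' (x := (⟨g, hgQ⟩ : (Q : Subgroup (lift H))))
      rwa [hQ] at h
    rw [← pow_two]
    exact congrArg Subtype.val h2
  have hgord : orderOf g = 2 := orderOf_eq_prime (by rw [pow_two, hg2]) fun e => hg1 (Subtype.ext e)
  have hgC : g ∉ cent w := fun h => hco (hgord.symm.dvd.trans (Subgroup.orderOf_dvd_natCard _ h))
  have hidx : (cent w).index = 2 := by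
    have h := (cent w).index_mul_card
    rw [hcard, hL] at h
    exact Nat.eq_of_mul_eq_mul_right Nat.card_pos h
  have hnormal := Subgroup.normal_of_index_eq_two hidx
  have hinv : g * w * g⁻¹ = w⁻¹ := (hcore.conj_inv w hw hwr g
    (Subgroup.mem_centralizer_singleton_iff.1 (hnormal.conj_mem w (mem_cent.2 (Commute.refl w)) g))).resolve_left
    fun e => hgC (mem_cent.2 (mul_inv_eq_iff_eq_mul.1 e))
  have hcinv : g * (c : lift H) * g⁻¹ = (c : lift H)⁻¹ := by
    have hcs : (c : lift H) ∉ scalPart (lift H).subtype := by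
      intro e
      have h1 : orderOf (c : lift H) ∣ 1 := hz ▸ Subgroup.orderOf_dvd_natCard _ e
      rw [hco', Nat.dvd_one, ← hcard] at h1
      have hbot := Subgroup.card_eq_one.1 h1
      have hw1 : w ∈ (⊥ : Subgroup (lift H)) := hbot ▸ mem_cent.2 (Commute.refl w)
      exact hw (Subgroup.mem_bot.1 hw1 ▸ one_mem _)
    refine (hcore.conj_inv _ hcs ?_ g ?_).resolve_left fun e => hgC (mem_cent.2 ?_)
    · exact fun h => hco (h.trans (Subgroup.orderOf_dvd_natCard _ c.2))
    · exact hcore.abel w hw _ _ (mem_cent.1 (hnormal.conj_mem _ c.2 g)) (mem_cent.1 c.2)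
    · exact hcore.abel _ hcs g w (mul_inv_eq_iff_eq_mul.1 e) (mem_cent.1 c.2).symm
  obtain ⟨e⟩ := equiv_dihedral (H := lift H) hco' hL hg2 (by rw [hgen]; exact hgC) hcinv
  have hbij : Function.Bijective (proj H) := ⟨(MonoidHom.ker_eq_bot_iff _).1 (by
      rw [(proj_isProj H).ker, Subgroup.eq_bot_iff_card, hz]), (proj_isProj H).surj⟩
  exact ⟨(MulEquiv.ofBijective (proj H) hbij).symm.trans e⟩

/-- The exceptional count in characteristic three gives `A₅`. -/
theorem alt_five_of_exceptional (hp3 : p = 3) (hdvd : p ∣ Nat.card (lift H))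
    (hN : Nat.card (Sylow p (lift H)) = 10)
    (hL : Nat.card (lift H) = 60 * Nat.card (scalPart (lift H).subtype)) :
    Nonempty (H ≃* alternatingGroup (Fin 5)) := by
  subst hp3
  have ax := axioms_scalPart_any (p := 3) (lift H).subtype_injective hdvd
  have hπ := proj_isProj H
  set π := proj H
  set Z := scalPart (lift H).subtype
  have hH : Nat.card H = 60 := by
    have h := hπ.card_eq
    rw [hL, mul_comm 60] at h
    exact Nat.eq_of_mul_eq_mul_left Nat.card_pos h
  have hsep : ∀ (S : Sylow 3 (lift H)) (a : lift H), (∃ n, orderOf a = 3 ^ n) →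
      π a ∈ (S : Subgroup (lift H)).map π → a ∈ (S : Subgroup (lift H)) := by
    intro S a ha hm
    refine ax.mem_sylow_of_mem_sup S ?_ ha
    rw [← hπ.ker, ← Subgroup.comap_map_eq]
    exact hm
  refine alt_five_of_sixty hH ?_ ?_
  · rw [← hN]
    refine (Nat.card_eq_of_bijective (Sylow.mapSurjective hπ.surj) ⟨fun S T e => ?_,
      Sylow.mapSurjective_surjective hπ.surj 3⟩).symm
    have e' : (S : Subgroup (lift H)).map π = (T : Subgroup (lift H)).map π := by
      rw [← Sylow.coe_mapSurjective hπ.surj, ← Sylow.coe_mapSurjective hπ.surj, e]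
    exact Sylow.ext (le_antisymm
      (fun a ha => hsep T a (ppow_of_mem ha) (e' ▸ Subgroup.mem_map_of_mem π ha))
      (fun a ha => hsep S a (ppow_of_mem ha) (e'.symm ▸ Subgroup.mem_map_of_mem π ha)))
  · intro x g hx hc hg
    obtain ⟨T, hT⟩ := (IsPGroup.of_card (p := 3) (n := 1) (G := Subgroup.zpowers x)
      (by rw [Nat.card_zpowers, hx, pow_one])).exists_le_sylow
    obtain ⟨S, rfl⟩ := Sylow.mapSurjective_surjective hπ.surj 3 T
    rw [Sylow.coe_mapSurjective] at hT
    obtain ⟨x₀, hx₀, hx₀'⟩ := hT (Subgroup.mem_zpowers x)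
    obtain ⟨g₀, hg₀⟩ := hπ.surj g
    have hx1 : x₀ ≠ 1 := fun e => by
      rw [e, map_one] at hx₀'
      rw [← hx₀', orderOf_one] at hx
      omega
    set ζ := x₀⁻¹ * (g₀ * x₀ * g₀⁻¹) with hζ
    have hζZ : ζ ∈ Z := hπ.eq_one.1 (by
      rw [hζ, map_mul, map_mul, map_mul, map_inv, map_inv, hg₀, hx₀', hc.eq, mul_inv_cancel_right, inv_mul_cancel])
    have hconj : g₀ * x₀ * g₀⁻¹ ∈ (S : Subgroup (lift H)) := by
      obtain ⟨n, hn⟩ := ppow_of_mem hx₀
      refine ax.mem_sylow_of_mem_sup S ?_ ⟨n, ((MulAut.conj g₀).orderOf_eq x₀).trans hn⟩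
      rw [show g₀ * x₀ * g₀⁻¹ = x₀ * ζ by rw [hζ]; group]
      exact Subgroup.mul_mem_sup hx₀ hζZ
    have hζ1 : ζ = 1 := by
      by_contra h
      exact ax.not_mem_of_ppow (ppow_of_mem (mul_mem (inv_mem hx₀) hconj : ζ ∈ (S : Subgroup (lift H)))) h hζZ
    have hcom : Commute g₀ x₀ := mul_inv_eq_iff_eq_mul.1 (inv_mul_eq_one.1 hζ1).symm
    have hg₀r : ¬ 3 ∣ orderOf g₀ := by
      intro h
      have h1 : g₀ ^ orderOf g ∈ Z := hπ.eq_one.1 (by rw [map_pow, hg₀, pow_orderOf_eq_one])
      have h2 : orderOf g₀ ∣ orderOf g * Nat.card Z := by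
        refine orderOf_dvd_of_pow_eq_one ?_
        rw [pow_mul]
        exact orderOf_dvd_iff_pow_eq_one.1 (Subgroup.orderOf_dvd_natCard Z h1)
      rcases (Nat.Prime.dvd_mul Nat.prime_three).1 (h.trans h2) with h3 | h3
      · exact hg h3
      · exact ax.coprime h3
    rw [← hg₀, hπ.eq_one.2 (ax.no_mixed x₀ (ppow_of_mem hx₀) hx1 g₀ hcom hg₀r)]

/-- **Dickson's list**, with the circumstances in which the entries occur. -/
theorem dickson_list_fine {q : ℕ} (hF : Fintype.card F = q) (p : ℕ) [Fact p.Prime] [CharP F p]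
    (H : Subgroup (ProjectiveSpecialLinearGroup (Fin 2) F)) :
    (∃ k : ℕ, (k ∣ (q + 1) / Nat.gcd 2 (q - 1) ∨ k ∣ (q - 1) / Nat.gcd 2 (q - 1)) ∧
        ((IsCyclic H ∧ Nat.card H = k) ∨ Nonempty (H ≃* DihedralGroup k))) ∨
      (∃ P : Sylow p (ProjectiveSpecialLinearGroup (Fin 2) F),
        H ≤ Subgroup.normalizer ((P : Subgroup (ProjectiveSpecialLinearGroup (Fin 2) F)) : Set _)) ∨
      (¬ p ∣ Nat.card H ∧ Nonempty (H ≃* alternatingGroup (Fin 4))) ∨
      (¬ p ∣ Nat.card H ∧ Nonempty (H ≃* Equiv.Perm (Fin 4))) ∨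
      ((¬ p ∣ Nat.card H ∨ p = 3) ∧ Nonempty (H ≃* alternatingGroup (Fin 5))) ∨
      (∃ (K : Type) (_ : Field K) (_ : Fintype K) (m : ℕ) (φ : K →+* F) (f : SL F →* SL F),
        Fintype.card K ^ m = q ∧ Function.Injective f ∧
        (∀ S : SL K, Matrix.SpecialLinearGroup.map φ S ∈ (lift H).map f) ∧
        (∀ g ∈ lift H, ∃ M : Matrix (Fin 2) (Fin 2) K, IsOver φ (f g) M) ∧
        (Nonempty (H ≃* ProjectiveSpecialLinearGroup (Fin 2) K) ∨ Nonempty (H ≃* ProjGenLinGroup (Fin 2) K))) := by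
  have hπ := proj_isProj H
  by_cases hdvd : p ∣ Nat.card (lift H)
  swap
  · -- the semisimple groups
    have hcore := core_scalPart (p := p) (lift H).subtype_injective
    have hco : ∀ h, h ∉ scalPart (lift H).subtype →
        ¬ p ∣ Nat.card (Subgroup.centralizer ({h} : Set (lift H))) := fun h _ e =>
      hdvd (e.trans (Subgroup.card_subgroup_dvd_card _))
    have hH : ¬ p ∣ Nat.card H := fun e => hdvd (hπ.card_eq ▸ dvd_mul_of_dvd_right e _)
    rcases Klein.semisimple_classification hcore hπ hdvd (fun h hh => isCyclic_cent hh (hco h hh)) with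
      h | ⟨h, hh, hc, hk⟩ | ⟨h, hh, hk⟩ | h | h | h
    · exact Or.inl ⟨1, Or.inl (one_dvd _), Or.inl ⟨by
        haveI := (Nat.card_eq_one_iff_unique.1 h).1
        exact isCyclic_of_subsingleton, h⟩⟩
    · exact Or.inl ⟨_, relIndex_dvd hF hh (hco h hh), Or.inl ⟨hc, hk⟩⟩
    · exact Or.inl ⟨_, relIndex_dvd hF hh (hco h hh), Or.inr hk⟩
    · exact Or.inr (Or.inr (Or.inl ⟨hH, h⟩))
    · exact Or.inr (Or.inr (Or.inr (Or.inl ⟨hH, h⟩)))
    · exact Or.inr (Or.inr (Or.inr (Or.inr (Or.inl ⟨Or.inl hH, h⟩))))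
  rcases Nat.lt_or_ge 1 (Nat.card (Sylow p (lift H))) with hN | hN
  swap
  · have hpos : 0 < Nat.card (Sylow p (lift H)) := Nat.card_pos
    exact Or.inr (Or.inl (le_normalizer_of_one (by omega) hdvd))
  haveI := Fintype.ofFinite (lift H)
  have ax := axioms_scalPart_any (p := p) (lift H).subtype_injective hdvd
  obtain ⟨Q⟩ : Nonempty (Sylow p (lift H)) := inferInstance
  have hfield : Nat.card (Sylow p (lift H)) = Nat.card (Q : Subgroup (lift H)) + 1 →
      ∃ (K : Type) (_ : Field K) (_ : Fintype K) (m : ℕ) (φ : K →+* F) (f : SL F →* SL F),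
        Fintype.card K ^ m = q ∧ Function.Injective f ∧
        (∀ S : SL K, Matrix.SpecialLinearGroup.map φ S ∈ (lift H).map f) ∧
        (∀ g ∈ lift H, ∃ M : Matrix (Fin 2) (Fin 2) K, IsOver φ (f g) M) ∧
        (Nonempty (H ≃* ProjectiveSpecialLinearGroup (Fin 2) K) ∨ Nonempty (H ≃* ProjGenLinGroup (Fin 2) K)) := by
    intro hN'
    obtain ⟨K, hKf, hKt, φ, Φ, f, hf, hS, hM, hker, hr⟩ := subfield_of_count (lift H).subtype_injective hN Q hN'
    letI : Algebra K F := φ.toAlgebra
    refine ⟨K, hKf, hKt, Module.finrank K F, φ, f, by rw [← Module.card_eq_pow_finrank, hF], hf,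
      fun S => ?_, fun g hg => hM ⟨g, hg⟩, ?_⟩
    · obtain ⟨g, hg⟩ := hS S
      exact ⟨g, g.2, hg⟩
    have e : H ≃* Φ.range :=
      ((QuotientGroup.quotientKerEquivOfSurjective (proj H) hπ.surj).symm.trans
        (QuotientGroup.quotientMulEquivOfEq (hπ.ker.trans hker.symm))).trans (QuotientGroup.quotientKerEquivRange Φ)
    rcases hr with hr | hr
    · exact Or.inr ⟨e.trans ((MulEquiv.subgroupCongr hr).trans Subgroup.topEquiv)⟩
    · exact Or.inl ⟨e.trans ((MulEquiv.subgroupCongr hr).trans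
        (MonoidHom.ofInjective ProjectiveSpecialLinearGroup.toPGL_injective).symm)⟩
  by_cases hp2 : p = 2
  · rcases ax.sylow_data_two hp2 hN Q with h | ⟨hQ, hL, w, hw, hwr, hd⟩
    · exact Or.inr (Or.inr (Or.inr (Or.inr (Or.inr (hfield h)))))
    · obtain ⟨k, hk, he⟩ := dihedral_of_exceptional hF hp2 Q hQ hL hw hwr hd
      exact Or.inl ⟨k, hk, Or.inr he⟩
  · rcases ax.sylow_data hp2 hN Q with h | ⟨hp3, -, hN10, hL⟩
    · exact Or.inr (Or.inr (Or.inr (Or.inr (Or.inr (hfield h)))))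
    · exact Or.inr (Or.inr (Or.inr (Or.inr (Or.inl ⟨Or.inr hp3, alt_five_of_exceptional hp3 hdvd hN10 hL⟩))))

/-- **Dickson's list.** -/
theorem dickson_list {q : ℕ} (hF : Fintype.card F = q) (p : ℕ) [Fact p.Prime] [CharP F p]
    (H : Subgroup (ProjectiveSpecialLinearGroup (Fin 2) F)) :
    (∃ k : ℕ, (k ∣ (q + 1) / Nat.gcd 2 (q - 1) ∨ k ∣ (q - 1) / Nat.gcd 2 (q - 1)) ∧
        ((IsCyclic H ∧ Nat.card H = k) ∨ Nonempty (H ≃* DihedralGroup k))) ∨
      (∃ P : Sylow p (ProjectiveSpecialLinearGroup (Fin 2) F),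
        H ≤ Subgroup.normalizer ((P : Subgroup (ProjectiveSpecialLinearGroup (Fin 2) F)) : Set _)) ∨
      Nonempty (H ≃* alternatingGroup (Fin 4)) ∨ Nonempty (H ≃* Equiv.Perm (Fin 4)) ∨
      Nonempty (H ≃* alternatingGroup (Fin 5)) ∨
      (∃ (K : Type) (_ : Field K) (_ : Fintype K) (m : ℕ), Fintype.card K ^ m = q ∧
        (Nonempty (H ≃* ProjectiveSpecialLinearGroup (Fin 2) K) ∨ Nonempty (H ≃* ProjGenLinGroup (Fin 2) K))) := by
  rcases dickson_list_fine hF p H with h | h | h | h | h | ⟨K, hK, hKf, m, φ, f, hm, -, -, -, h⟩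
  · exact Or.inl h
  · exact Or.inr (Or.inl h)
  · exact Or.inr (Or.inr (Or.inl h.2))
  · exact Or.inr (Or.inr (Or.inr (Or.inl h.2)))
  · exact Or.inr (Or.inr (Or.inr (Or.inr (Or.inl h.2))))
  · exact Or.inr (Or.inr (Or.inr (Or.inr (Or.inr ⟨K, hK, hKf, m, hm, h⟩))))

end CfsgLib.Dickson
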