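import Cfsg.Agent.Lib.DicksonBasic
import Cfsg.Agent.Lib.DicksonDichotomy

/-!
# Subgroups of `SL₂` with more than one Sylow `p`-subgroup contain `SL₂(p)`
-/

set_option autoImplicit false
set_option linter.style.haveILetI false

universe u v

namespace CfsgLib.Dickson

open Matrix
open scoped Classical commutatorElement

variable {F : Type u} [Field F]

/-- Conjugation of `SL₂` by an invertible matrix. -/
def conjHom (P : GL (Fin 2) F) : SL F →* SL F where
  toFun g := ⟨((P⁻¹ : GL (Fin 2) F) : Matrix (Fin 2) (Fin 2) F) * g.1 *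
    (P : Matrix (Fin 2) (Fin 2) F), by rw [Matrix.det_units_conj']; exact g.2⟩
  map_one' := Subtype.ext (by simp)
  map_mul' g k := Subtype.ext (by
    show _ * (g.1 * k.1) * _ = _ * g.1 * _ * (_ * k.1 * _)
    simp [Matrix.mul_assoc])

theorem conjHom_injective (P : GL (Fin 2) F) : Function.Injective (conjHom P) := fun g k h => by
  have h1 := congrArg Subtype.val h
  refine Subtype.ext ?_
  have h2 : ((P⁻¹ : GL (Fin 2) F) : Matrix (Fin 2) (Fin 2) F) * g.1 *
      (P : Matrix (Fin 2) (Fin 2) F) = ((P⁻¹ : GL (Fin 2) F) : Matrix (Fin 2) (Fin 2) F) * k.1 *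
        (P : Matrix (Fin 2) (Fin 2) F) := h1
  rw [Units.mul_left_inj, Units.mul_right_inj] at h2
  exact h2

theorem conjHom_eq_iff (P : GL (Fin 2) F) (g k : SL F) :
    conjHom P g = k ↔ g.1 * (P : Matrix (Fin 2) (Fin 2) F) =
      (P : Matrix (Fin 2) (Fin 2) F) * k.1 := by
  constructor
  · intro h
    have h' : ((P⁻¹ : GL (Fin 2) F) : Matrix (Fin 2) (Fin 2) F) * g.1 *
        (P : Matrix (Fin 2) (Fin 2) F) = k.1 := congrArg Subtype.val h
    rw [← h', ← Matrix.mul_assoc, ← Matrix.mul_assoc, Units.mul_inv, one_mul]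
  · intro h
    refine Subtype.ext ?_
    show ((P⁻¹ : GL (Fin 2) F) : Matrix (Fin 2) (Fin 2) F) * g.1 * (P : Matrix (Fin 2) (Fin 2) F) = k.1
    rw [Matrix.mul_assoc, h, ← Matrix.mul_assoc, Units.inv_mul, one_mul]

theorem coe_mkGL (A : Matrix (Fin 2) (Fin 2) F) (h : A.det ≠ 0) :
    ((Matrix.GeneralLinearGroup.mkOfDetNeZero A h : GL (Fin 2) F) : Matrix (Fin 2) (Fin 2) F) = A :=
  rfl

/-- A nontrivial element of trace two becomes upper unitriangular. -/
theorem exists_conj_upper {x : SL F} (ht : x.1 0 0 + x.1 1 1 = 2) (h1 : x ≠ 1) :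
    ∃ P : GL (Fin 2) F, conjHom P x = upperU 1 := by
  have hd := det_eq x
  by_cases hc : x.1 1 0 = 0
  · have ha : x.1 0 0 = 1 := by
      have : (x.1 0 0 - 1) ^ 2 = 0 := by
        linear_combination x.1 0 0 * ht - hd - x.1 0 1 * hc
      linear_combination (pow_eq_zero_iff two_ne_zero).1 this
    have hb : x.1 0 1 ≠ 0 := fun e => h1 (sl_ext (by simpa using ha) (by simpa using e)
      (by simpa using hc) (by simp; linear_combination ht - ha))
    refine ⟨Matrix.GeneralLinearGroup.mkOfDetNeZero !![x.1 0 1, 0; 0, 1]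
      (by simp [Matrix.det_fin_two, hb]), (conjHom_eq_iff _ _ _).2 ?_⟩
    ext i j
    fin_cases i <;> fin_cases j <;>
      simp [Matrix.mul_apply, Fin.sum_univ_two, coe_upperU, coe_mkGL, hc, ha]
    linear_combination ht - ha
  · refine ⟨Matrix.GeneralLinearGroup.mkOfDetNeZero !![x.1 0 0 - 1, 1; x.1 1 0, 0]
      (by simp [Matrix.det_fin_two, hc]), (conjHom_eq_iff _ _ _).2 ?_⟩
    ext i j
    fin_cases i <;> fin_cases j <;>
      simp [Matrix.mul_apply, Fin.sum_univ_two, coe_upperU, coe_mkGL]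
    · linear_combination x.1 0 0 * ht - hd
    · linear_combination x.1 1 0 * ht

theorem commute_upperU_iff {g : SL F} : Commute g (upperU 1) ↔ g.1 1 0 = 0 ∧ g.1 0 0 = g.1 1 1 := by
  rw [commute_iff_entries, coe_upperU]
  simp only [Matrix.of_apply, Matrix.cons_val', Matrix.cons_val_zero, Matrix.cons_val_one,
    Matrix.cons_val_fin_one, Matrix.empty_val']
  constructor
  · rintro ⟨e1, e2, -⟩
    exact ⟨by linear_combination -e1, by linear_combination -e2⟩
  · rintro ⟨e1, e2⟩
    exact ⟨by rw [e1]; ring, by rw [e2]; ring, by rw [e1, e2]; ring⟩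

theorem upper_of_conj_commute {g : SL F} (h : Commute (g * upperU 1 * g⁻¹) (upperU 1)) :
    g.1 1 0 = 0 := by
  have h1 := (commute_upperU_iff.1 h).1
  simp [coe_upperU, Matrix.mul_apply, Fin.sum_univ_two, Matrix.adjugate_fin_two] at h1
  have h2 : g.1 1 0 ^ 2 = 0 := by linear_combination -h1
  exact (pow_eq_zero_iff two_ne_zero).1 h2

theorem upper_of_commute {c h : SL F} (hh : ¬ IsScal h) (hu : h.1 1 0 = 0) (hc : Commute c h) :
    c.1 1 0 = 0 := by
  obtain ⟨β, -, b2, -⟩ := exists_coeff hh hc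
  rw [b2, hu, mul_zero]

theorem conj_upperU_commute {g : SL F} (hu : g.1 1 0 = 0) (a : F) :
    Commute (g * upperU a * g⁻¹) (upperU 1) := by
  rw [commute_upperU_iff]
  constructor <;>
    simp [coe_upperU, Matrix.mul_apply, Fin.sum_univ_two, Matrix.adjugate_fin_two, hu]
  ring

theorem eq_upperU {g : SL F} (hc : Commute g (upperU 1)) (ht : g.1 0 0 + g.1 1 1 = 2)
    (h2 : (2 : F) ≠ 0) : g = upperU (g.1 0 1) := by
  obtain ⟨e1, e2⟩ := commute_upperU_iff.1 hc
  have ha : g.1 0 0 = 1 := mul_left_cancel₀ h2 (by linear_combination ht + e2)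
  refine sl_ext ?_ ?_ ?_ ?_ <;> simp [coe_upperU, ha, e1]
  exact e2 ▸ ha

theorem isScal_iff_commute {g : SL F} :
    IsScal g ↔ Commute g (upperU 1) ∧ Commute g (lowerU 1) := by
  constructor
  · exact fun h => ⟨h.commute _, h.commute _⟩
  · rintro ⟨h1, h2⟩
    obtain ⟨e1, e2⟩ := commute_upperU_iff.1 h1
    obtain ⟨e3, -, -⟩ := commute_iff_entries.1 h2
    simp [coe_lowerU] at e3
    exact ⟨e3, e1, e2⟩

variable {p : ℕ} [hp : Fact p.Prime] [CharP F p] {L : Type v} [Group L] [Finite L]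

/-- The scalar elements of a group of matrices. -/
def scalPart (ι : L →* SL F) : Subgroup L :=
  (Subgroup.centralizer ({upperU 1, lowerU 1} : Set (SL F))).comap ι

omit [Finite L] in
theorem mem_scalPart {ι : L →* SL F} {g : L} : g ∈ scalPart ι ↔ IsScal (ι g) := by
  rw [isScal_iff_commute, scalPart, Subgroup.mem_comap, Subgroup.mem_centralizer_iff]
  simp [Commute, SemiconjBy, eq_comm]

omit [Finite L] in
theorem trace_of_ppow {ι : L →* SL F} {x : L} (hx : ∃ a, orderOf x = p ^ a) :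
    (ι x).1 0 0 + (ι x).1 1 1 = 2 := by
  obtain ⟨a, ha⟩ := hx
  refine trace_of_pow (p := p) (k := a) ?_
  rw [← map_pow, ← ha, pow_orderOf_eq_one, map_one]

theorem exists_coords {ι : L →* SL F} (hι : Function.Injective ι) (hodd : p ≠ 2)
    (hdvd : p ∣ Nat.card L) (Q : Sylow p L) :
    ∃ x, x ∈ (Q : Subgroup L) ∧ x ≠ 1 ∧ ∃ f : SL F →* SL F, Function.Injective f ∧
      f (ι x) = upperU 1 ∧
      (∀ q ∈ (Q : Subgroup L), ∃ a, f (ι q) = upperU a) ∧
      (∀ g : L, g ∈ Subgroup.normalizer ((Q : Subgroup L) : Set L) ↔ (f (ι g)).1 1 0 = 0) := by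
  have h2 := two_ne_zero_of_char (F := F) hodd
  have hne : (Q : Subgroup L) ≠ ⊥ := Q.ne_bot_of_dvd_card hdvd
  haveI : Nontrivial (Q : Subgroup L) := (Subgroup.nontrivial_iff_ne_bot _).2 hne
  haveI := Q.2.center_nontrivial
  obtain ⟨z, hz⟩ := exists_ne (1 : Subgroup.center (Q : Subgroup L))
  set x : L := ((z : (Q : Subgroup L)) : L) with hx
  have hxQ : x ∈ (Q : Subgroup L) := (z : (Q : Subgroup L)).2
  have hx1 : x ≠ 1 := fun e => hz (Subtype.ext (Subtype.ext e))
  have hxc : ∀ q ∈ (Q : Subgroup L), Commute q x := fun q hq =>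
    congrArg Subtype.val (Subgroup.mem_center_iff.1 z.2 ⟨q, hq⟩)
  obtain ⟨P, hP⟩ := exists_conj_upper (trace_of_ppow (p := p) (ι := ι) (ppow_of_mem hxQ))
    (fun e => hx1 (hι (by rw [e, map_one])))
  set f := (conjHom P).comp ι with hf
  have hfi : Function.Injective f := (conjHom_injective P).comp hι
  have hQu : ∀ q ∈ (Q : Subgroup L), ∃ a, f q = upperU a := by
    intro q hq
    refine ⟨(f q).1 0 1, eq_upperU ?_ (trace_of_ppow (p := p) (ι := f) (ppow_of_mem hq)) h2⟩
    have h3 := (hxc q hq).map f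
    rwa [show f x = upperU 1 from hP] at h3
  refine ⟨x, hxQ, hx1, conjHom P, conjHom_injective P, hP, hQu, fun g => ⟨fun hg => ?_, fun hg => ?_⟩⟩
  · have h3 := (hxc _ ((Subgroup.mem_normalizer_iff.1 hg x).1 hxQ)).map f
    rw [map_mul, map_mul, map_inv, show f x = upperU 1 from hP] at h3
    exact upper_of_conj_commute h3
  · have key : ∀ g' : L, (f g').1 1 0 = 0 → ∀ q ∈ (Q : Subgroup L), g' * q * g'⁻¹ ∈ (Q : Subgroup L) := by
      intro g' hg' q hq
      obtain ⟨a, ha⟩ := hQu q hq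
      obtain ⟨k, hk⟩ := ppow_of_mem hq
      refine mem_sylow_of_ppow ?_ ⟨k, ((MulAut.conj g').orderOf_eq q).trans hk⟩
      rw [Subgroup.mem_normalizer_iff]
      intro r
      have hcom : ∀ r ∈ (Q : Subgroup L), Commute (g' * q * g'⁻¹) r := by
        intro r hr
        obtain ⟨b, hb⟩ := hQu r hr
        have hns : ¬ IsScal (upperU (1 : F)) := fun e => by
          have := e.1
          simp [coe_upperU] at this
        refine Commute.of_map hfi ?_
        rw [map_mul, map_mul, map_inv, ha, hb]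
        refine commute_of_commute hns (conj_upperU_commute hg' a) ?_
        show upperU b * upperU 1 = upperU 1 * upperU b
        rw [upperU_add, upperU_add, add_comm]
      constructor
      · intro hr
        rw [(hcom r hr).eq, mul_inv_cancel_right]
        exact hr
      · intro hr
        have h1 := hcom _ hr
        set c := g' * q * g'⁻¹
        have h3 : c * r * c⁻¹ = r := by
          calc c * r * c⁻¹ = c⁻¹ * (c * (c * r * c⁻¹)) := by group
            _ = c⁻¹ * ((c * r * c⁻¹) * c) := by rw [h1.eq]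
            _ = r := by group
        rwa [h3] at hr
    rw [Subgroup.mem_normalizer_iff]
    refine fun q => ⟨key g hg q, fun hq => ?_⟩
    have := key g⁻¹ (by
      rw [map_inv]
      simp [Matrix.adjugate_fin_two, show (f g).1 1 0 = 0 from hg]) _ hq
    simpa [mul_assoc] using this

theorem axioms_scalPart {ι : L →* SL F} (hι : Function.Injective ι) (hodd : p ≠ 2)
    (hdvd : p ∣ Nat.card L) : Axioms p (scalPart ι) where
  central z hz := Subgroup.mem_center_iff.2 fun g =>
    (Commute.of_map hι ((mem_scalPart.1 hz).commute (ι g))).eq.symm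
  coprime h := by
    obtain ⟨z, hz⟩ := exists_prime_orderOf_dvd_card' (G := scalPart ι) p h
    obtain ⟨e1, e2, e3⟩ := mem_scalPart.1 z.2
    have h1 : ι (z : L) * ι (z : L) = 1 := by
      have hd := det_eq (ι (z : L))
      rw [e1, e2, ← e3] at hd
      refine sl_ext ?_ ?_ ?_ ?_ <;> simp [Matrix.mul_apply, Fin.sum_univ_two, e1, e2, ← e3]
      all_goals linear_combination hd
    rw [← map_mul, ← map_one ι] at h1
    have h2 : orderOf (z : L) ∣ 2 := orderOf_dvd_of_pow_eq_one (by rw [pow_two]; exact hι h1)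
    rw [Subgroup.orderOf_coe, hz] at h2
    exact hodd ((Nat.prime_dvd_prime_iff_eq hp.out Nat.prime_two).1 h2)
  abel h hh g k hg hk := Commute.of_map hι (commute_of_commute
    (fun e => hh (mem_scalPart.2 e)) (hg.map ι) (hk.map ι))
  conj_inv h hh hr g hc := by
    have h1 := conj_eq_or_inv (p := p) hodd (g := ι g) (fun e => hh (mem_scalPart.2 e))
      (by rwa [orderOf_injective ι hι]) (by rw [← map_inv, ← map_mul, ← map_mul]; exact hc.map ι)
    rw [← map_inv, ← map_mul, ← map_mul, ← map_inv] at h1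
    exact h1.imp (fun e => hι e) (fun e => hι e)
  no_mixed x hx hx1 y hc hr := by
    rw [mem_scalPart]
    refine isScal_of_trace (p := p) hodd (by rwa [orderOf_injective ι hι]) ?_
    have hxs : ¬ IsScal (ι x) := fun e => by
      obtain ⟨e1, e2, e3⟩ := e
      refine hx1 (hι ?_)
      rw [map_one]
      have h2 := two_ne_zero_of_char (F := F) hodd
      have ht := trace_of_ppow (p := p) (ι := ι) hx
      have ha : (ι x).1 0 0 = 1 := mul_left_cancel₀ h2 (by linear_combination ht + e3)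
      exact sl_ext (by simpa using ha) (by simpa using e1) (by simpa using e2)
        (by simpa using e3 ▸ ha)
    obtain ⟨β, b1, b2, b3⟩ := exists_coeff hxs (hc.map ι)
    have ht := trace_of_ppow (p := p) (ι := ι) hx
    have hd := det_eq (ι x)
    have hd' := det_eq (ι y)
    linear_combination 4 * hd' - 4 * β ^ 2 * hd +
      ((ι y).1 0 0 - (ι y).1 1 1 + β * ((ι x).1 0 0 - (ι x).1 1 1)) * b3 +
      β ^ 2 * ((ι x).1 0 0 + (ι x).1 1 1 + 2) * ht +
      4 * (ι y).1 1 0 * b1 + 4 * β * (ι x).1 0 1 * b2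
  comm_mem Q g hg k hk := by
    obtain ⟨x, -, -, f, hf, hfx, -, hN⟩ := exists_coords hι hodd hdvd Q
    have hgu := (hN g).1 hg
    have hku := (hN k).1 hk
    have ht : (f (ι ⁅g, k⁆)).1 0 0 + (f (ι ⁅g, k⁆)).1 1 1 = 2 := by
      have d1 := det_eq (f (ι g))
      have d2 := det_eq (f (ι k))
      simp only [commutatorElement_def, map_mul, map_inv]
      simp [Matrix.mul_apply, Fin.sum_univ_two, Matrix.adjugate_fin_two, hgu, hku]
      rw [hgu] at d1
      rw [hku] at d2
      linear_combination 2 * (f (ι k)).1 0 0 * (f (ι k)).1 1 1 * d1 + 2 * d2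
    have hp1 : ⁅g, k⁆ ^ p = 1 := by
      refine hι (hf ?_)
      rw [map_pow, map_pow, map_one, map_one]
      exact pow_eq_one_of_trace ht
    obtain ⟨a, -, ha⟩ := (Nat.dvd_prime_pow hp.out).1
      (show orderOf ⁅g, k⁆ ∣ p ^ 1 by rw [pow_one]; exact orderOf_dvd_of_pow_eq_one hp1)
    refine mem_sylow_of_ppow ?_ ⟨a, ha⟩
    rw [commutatorElement_def]
    exact mul_mem (mul_mem (mul_mem hg hk) (inv_mem hg)) (inv_mem hk)
  cent_mem Q h hh hhZ c hc := by
    obtain ⟨x, -, -, f, hf, -, -, hN⟩ := exists_coords hι hodd hdvd Q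
    rw [hN]
    refine upper_of_commute (fun e => hhZ ?_) ((hN h).1 hh) ((hc.map ι).map f)
    rw [mem_scalPart]
    have hscal : ∀ k, Commute (f (ι h)) (f k) := fun k => e.commute _
    exact isScal_iff_commute.2 ⟨Commute.of_map hf (hscal _), Commute.of_map hf (hscal _)⟩

/-- `SL₂` over the prime field, embedded with the off-diagonal entries rescaled. -/
theorem sl_zmod_closure :
    Subgroup.closure ({upperU (1 : ZMod p), lowerU 1} : Set (SL (ZMod p))) = ⊤ := by
  rw [eq_top_iff]
  intro g _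
  set S := Subgroup.closure ({upperU (1 : ZMod p), lowerU 1} : Set (SL (ZMod p))) with hS
  have hu : ∀ a : ZMod p, upperU a ∈ S := fun a => by
    have h1 := pow_mem (Subgroup.subset_closure (k := {upperU (1 : ZMod p), lowerU 1})
      (show upperU (1 : ZMod p) ∈ _ by simp)) a.val
    rwa [upperU_pow, mul_one, ZMod.natCast_zmod_val] at h1
  have hl : ∀ a : ZMod p, lowerU a ∈ S := fun a => by
    have h1 := pow_mem (Subgroup.subset_closure (k := {upperU (1 : ZMod p), lowerU 1})
      (show lowerU (1 : ZMod p) ∈ _ by simp)) a.val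
    rwa [lowerU_pow, mul_one, ZMod.natCast_zmod_val] at h1
  have key : ∀ g : SL (ZMod p), g.1 1 0 ≠ 0 → g ∈ S := by
    intro g hc
    have hd := det_eq g
    have e : g = upperU ((g.1 0 0 - 1) / g.1 1 0) * lowerU (g.1 1 0) *
        upperU ((g.1 1 1 - 1) / g.1 1 0) := by
      refine sl_ext ?_ ?_ ?_ ?_ <;>
        simp [coe_upperU, coe_lowerU, Matrix.mul_apply, Fin.sum_univ_two] <;> field_simp <;> try ring
      linear_combination -hd
    rw [e]
    exact mul_mem (mul_mem (hu _) (hl _)) (hu _)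
  by_cases hc : g.1 1 0 = 0
  · have h1 : (lowerU 1 * g).1 1 0 ≠ 0 := by
      have hd := det_eq g
      rw [hc, mul_zero, sub_zero] at hd
      simp [coe_lowerU, Matrix.mul_apply, Fin.sum_univ_two, hc]
      intro e
      rw [e, zero_mul] at hd
      exact zero_ne_one hd
    have h2 := mul_mem (inv_mem (hl 1)) (key _ h1)
    rwa [inv_mul_cancel_left] at h2
  · exact key g hc

/-- **Dickson.** A finite group of two by two matrices of determinant one in odd characteristic
with more than one Sylow `p`-subgroup contains `SL₂(p)`. -/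
theorem exists_sl2_zmod (hodd : p ≠ 2) {L : Type v} [Group L] [Finite L] {ι : L →* SL F}
    (hι : Function.Injective ι) (hL : 1 < Nat.card (Sylow p L)) :
    ∃ f : SL (ZMod p) →* L, Function.Injective f := by
  obtain ⟨n, hn⟩ : ∃ n, Nat.card L = n := ⟨_, rfl⟩
  induction n using Nat.strong_induction_on generalizing L with
  | h n ih =>
  haveI : Fintype L := Fintype.ofFinite L
  have hdvd : p ∣ Nat.card L := by
    by_contra hnd
    have : Subsingleton (Sylow p L) := ⟨fun A B => Sylow.ext (by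
      have hb : ∀ R : Sylow p L, (R : Subgroup L) = ⊥ := fun R => Subgroup.eq_bot_of_card_eq _ (by
        obtain ⟨a, ha⟩ := IsPGroup.iff_card.1 R.2
        rcases a with _ | a
        · rw [ha, pow_zero]
        · exact absurd ((dvd_pow_self p (Nat.succ_ne_zero a)).trans
            (ha ▸ Subgroup.card_subgroup_dvd_card _)) hnd)
      rw [hb A, hb B])⟩
    have := Finite.card_le_one_iff_subsingleton.2 this
    omega
  have ax := axioms_scalPart hι hodd hdvd
  rcases ax.dichotomy hodd hL with ⟨M, hM, hM1⟩ | hN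
  · obtain ⟨f, hf⟩ := ih (Nat.card M) (hn ▸ lt_of_le_of_ne (Subgroup.card_le_card_group M)
      (fun e => hM ((Subgroup.card_eq_iff_eq_top M).1 e))) (ι := ι.comp M.subtype)
      (hι.comp M.subtype_injective) hM1 rfl
    exact ⟨M.subtype.comp f, M.subtype_injective.comp hf⟩
  obtain ⟨Q⟩ := (inferInstance : Nonempty (Sylow p L))
  obtain ⟨R, hR⟩ : ∃ R, R ≠ Q := by
    by_contra hc
    push Not at hc
    have : Subsingleton (Sylow p L) := ⟨fun A B => (hc A).trans (hc B).symm⟩
    have := Finite.card_le_one_iff_subsingleton.2 this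
    omega
  obtain ⟨x, hxQ, hx1, f₀, hf₀, hf₀x, hf₀Q, hf₀N⟩ := exists_coords hι hodd hdvd Q
  obtain ⟨y, hyR, hy1⟩ : ∃ y ∈ (R : Subgroup L), y ≠ 1 := by
    by_contra hc
    push Not at hc
    exact R.ne_bot_of_dvd_card hdvd (eq_bot_iff.2 fun y hy => Subgroup.mem_bot.2 (hc y hy))
  have h2 := two_ne_zero_of_char (F := F) hodd
  set Y := f₀ (ι y) with hY
  have hYt : Y.1 0 0 + Y.1 1 1 = 2 := trace_of_ppow (p := p) (ι := f₀.comp ι) (ppow_of_mem hyR)
  have hc : Y.1 1 0 ≠ 0 := fun e => by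
    refine hR (ax.sylow_eq_of_commute hxQ hx1 hyR hy1 (Commute.of_map (f := f₀.comp ι) (fun u v h => hι (hf₀ h)) ?_)).symm
    show Commute Y (f₀ (ι x))
    rw [hf₀x, commute_upperU_iff]
    refine ⟨e, ?_⟩
    have hd := det_eq Y
    have : (Y.1 0 0 - 1) ^ 2 = 0 := by linear_combination Y.1 0 0 * hYt - hd - Y.1 0 1 * e
    linear_combination 2 * (pow_eq_zero_iff two_ne_zero).1 this - hYt
  set s := (1 - Y.1 0 0) / Y.1 1 0 with hs
  set f : L →* SL F := ((MulAut.conj (upperU s)).toMonoidHom.comp f₀).comp ι with hf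
  have hfi : Function.Injective f := fun u v h => hι (hf₀ ((MulAut.conj (upperU s)).injective h))
  have hfx : f x = upperU 1 := by
    show upperU s * f₀ (ι x) * (upperU s)⁻¹ = _
    rw [hf₀x, upperU_add, add_comm, ← upperU_add, mul_inv_cancel_right]
  have hfQ : ∀ q ∈ (Q : Subgroup L), ∃ a, f q = upperU a := fun q hq => by
    obtain ⟨a, ha⟩ := hf₀Q q hq
    refine ⟨a, ?_⟩
    show upperU s * f₀ (ι q) * (upperU s)⁻¹ = _
    rw [ha, upperU_add, add_comm, ← upperU_add, mul_inv_cancel_right]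
  have hfy : ∃ μ, μ ≠ 0 ∧ f y = lowerU μ := by
    refine ⟨Y.1 1 0, hc, ?_⟩
    show upperU s * Y * (upperU s)⁻¹ = _
    have hd := det_eq Y
    refine sl_ext ?_ ?_ ?_ ?_ <;>
      simp [coe_upperU, coe_lowerU, Matrix.mul_apply, Fin.sum_univ_two, Matrix.adjugate_fin_two,
        Matrix.vecMul, dotProduct, hs] <;> (try field_simp)
    · ring
    · linear_combination hYt - hd
    · linear_combination hYt
  obtain ⟨μ, hμ, hfy⟩ := hfy
  have hyQ : y • Q ≠ Q := by
    intro e
    have hyN := Sylow.smul_eq_iff_mem_normalizer.1 e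
    have h3 := ((hfx ▸ ((ax.sylow_comm Q ((Subgroup.mem_normalizer_iff.1 hyN x).1 hxQ) hxQ).map f)) :
      Commute (f (y * x * y⁻¹)) (upperU 1))
    rw [map_mul, map_mul, map_inv, hfx, hfy] at h3
    have h4 := upper_of_conj_commute h3
    simp [coe_lowerU] at h4
    exact hμ h4
  obtain ⟨q, hq, hqR⟩ : ∃ q ∈ (Q : Subgroup L), q • R = y • Q :=
    (ax.sylow_count_mod Q).2 (hN Q) R (y • Q) hR hyQ
  obtain ⟨a, ha⟩ := hfQ q hq
  have hcomm : Commute (f (y * x * y⁻¹)) (f (q * y * q⁻¹)) := by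
    refine (ax.sylow_comm (y • Q) ?_ ?_).map f
    · rw [Sylow.coe_subgroup_smul]; exact ⟨x, hxQ, rfl⟩
    · rw [← hqR, Sylow.coe_subgroup_smul]; exact ⟨y, hyR, rfl⟩
  simp only [map_mul, map_inv, hfx, hfy, ha] at hcomm
  obtain ⟨e1, e2, -⟩ := commute_iff_entries.1 hcomm
  simp [coe_upperU, coe_lowerU, Matrix.mul_apply, Fin.sum_univ_two, Matrix.adjugate_fin_two] at e1 e2
  have ha0 : a ≠ 0 := by
    rintro rfl
    apply hμ
    linear_combination e1
  have haμ : a * μ = 1 := by
    have h5 : (2 * a * μ) * (a * μ - 1) = 0 := by linear_combination -e2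
    rcases mul_eq_zero.1 h5 with h | h
    · exact absurd h (mul_ne_zero (mul_ne_zero h2 ha0) hμ)
    · exact sub_eq_zero.1 h
  -- the embedding
  let γ : ZMod p →+* F := ZMod.castHom dvd_rfl F
  let P : GL (Fin 2) F := Matrix.GeneralLinearGroup.mkOfDetNeZero !![μ, 0; 0, 1]
    (by simp [Matrix.det_fin_two, hμ])
  let ψ : SL (ZMod p) →* SL F := (conjHom P).comp (Matrix.SpecialLinearGroup.map γ)
  have hψ : ∀ (g : SL (ZMod p)) (k : SL F), γ (g.1 0 0) = k.1 0 0 → γ (g.1 0 1) = μ * k.1 0 1 →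
      γ (g.1 1 0) * μ = k.1 1 0 → γ (g.1 1 1) = k.1 1 1 → ψ g = k := by
    intro g k h00 h01 h10 h11
    refine (conjHom_eq_iff P _ k).2 ?_
    ext i j
    fin_cases i <;> fin_cases j <;>
      simp [P, Matrix.mul_apply, Fin.sum_univ_two, coe_mkGL, h00, h01, h10, h11]
    ring
  have hψu : ψ (upperU 1) = f q := by
    rw [ha]
    refine hψ _ _ ?_ ?_ ?_ ?_ <;> simp [coe_upperU, mul_comm μ a, haμ]
  have hψl : ψ (lowerU 1) = f y := by
    rw [hfy]
    refine hψ _ _ ?_ ?_ ?_ ?_ <;> simp [coe_lowerU]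
  have hψi : Function.Injective ψ := (conjHom_injective P).comp fun g k h => by
    have h' : ∀ i j, g.1 i j = k.1 i j := fun i j => γ.injective (by
      have := congrArg (fun M : SL F => M.1 i j) h
      simpa using this)
    exact sl_ext (h' 0 0) (h' 0 1) (h' 1 0) (h' 1 1)
  have hrange : ∀ g, ψ g ∈ f.range := fun g => by
    have hle : (⊤ : Subgroup (SL (ZMod p))) ≤ f.range.comap ψ := by
      rw [← sl_zmod_closure, Subgroup.closure_le]
      rintro k (rfl | rfl)
      · exact ⟨q, hψu.symm⟩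
      · exact ⟨y, hψl.symm⟩
    exact hle (Subgroup.mem_top g)
  refine ⟨(MonoidHom.ofInjective hfi).symm.toMonoidHom.comp (ψ.codRestrict f.range hrange), ?_⟩
  exact fun u v h => hψi (congrArg Subtype.val
    ((MonoidHom.ofInjective hfi).symm.injective h) : ψ u = ψ v)

end CfsgLib.Dickson
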