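import Cfsg.Agent.Lib.DicksonOver

/-! The maximal subgroups of `PSL₂(q)`: the cases of Dickson's list. -/

set_option autoImplicit false
set_option linter.style.haveILetI false

universe u v

namespace CfsgLib.Dickson

open Matrix

attribute [local instance] _root_.Classical.propDecidable

variable {F : Type u} [Field F] [Fintype F] {p : ℕ} [hp : Fact p.Prime] [CharP F p]

/-- A maximal subgroup which normalises a cyclic group of order prime to `p` is dihedral. -/
theorem coatom_normalising {q : ℕ} (hF : Fintype.card F = q) (h4 : 4 ≤ q) {M : Subgroup (PSL F)}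
    (hM : IsCoatom M) {c : PSL F} (hc : 1 < orderOf c) (hcp : ¬ p ∣ orderOf c)
    (hn : ∀ x ∈ M, x * c * x⁻¹ ∈ Subgroup.zpowers c) :
    ∃ n : ℕ, (Nat.gcd 2 (q - 1) * n = q - 1 ∨ Nat.gcd 2 (q - 1) * n = q + 1) ∧
      Nonempty (M ≃* DihedralGroup n) := by
  obtain ⟨n, D, hn', hD, hle, hne⟩ := le_dihedral hF h4 hc hcp hn
  rcases eq_or_lt_of_le hle with rfl | hlt
  · exact ⟨n, hn', hD⟩
  · exact absurd (hM.2 D hlt) hne

/-- A maximal subgroup inside the normaliser of a Sylow `p`-subgroup is that normaliser. -/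
theorem coatom_le_borel {q : ℕ} (hF : Fintype.card F = q) {M : Subgroup (PSL F)} (hM : IsCoatom M)
    {P : Sylow p (PSL F)} (h : M ≤ Subgroup.normalizer ((P : Subgroup (PSL F)) : Set (PSL F))) :
    Nat.card M * Nat.gcd 2 (q - 1) = q * (q - 1) := by
  rcases eq_or_lt_of_le h with rfl | hlt
  · exact borel_card hF P
  · exact absurd (hM.2 _ hlt) (borel_ne_top hF P)

omit [Fintype F] hp [CharP F p] in
/-- The cyclic part of a cyclic or dihedral group. -/
theorem exists_normalised {M : Subgroup (PSL F)} {k : ℕ}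
    (h : (IsCyclic M ∧ Nat.card M = k) ∨ Nonempty (M ≃* DihedralGroup k)) :
    ∃ c ∈ M, orderOf c = k ∧ ∀ x ∈ M, x * c * x⁻¹ ∈ Subgroup.zpowers c := by
  rcases h with ⟨hc, hk⟩ | ⟨⟨e⟩⟩
  · obtain ⟨g, hg⟩ := hc.exists_generator
    have hord : orderOf g = k := by
      rw [← hk, ← Nat.card_zpowers, (Subgroup.eq_top_iff' _).2 hg, Subgroup.card_top]
    refine ⟨g.1, g.2, by rw [Subgroup.orderOf_coe, hord], fun x hx => ?_⟩
    obtain ⟨i, hi⟩ := Subgroup.mem_zpowers_iff.1 (hg (⟨x, hx⟩ * g * ⟨x, hx⟩⁻¹))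
    exact ⟨i, by simpa using congrArg Subtype.val hi⟩
  · refine ⟨(e.symm (DihedralGroup.r 1)).1, SetLike.coe_mem _, ?_, fun x hx => ?_⟩
    · rw [Subgroup.orderOf_coe, e.symm.orderOf_eq, DihedralGroup.orderOf_r_one]
    · have key : ∀ d : DihedralGroup k, d * DihedralGroup.r 1 * d⁻¹ = DihedralGroup.r 1 ∨
          d * DihedralGroup.r 1 * d⁻¹ = (DihedralGroup.r 1)⁻¹ := by
        rintro (i | i)
        · left; simp
        · right; simp
      set g : M := e.symm (DihedralGroup.r 1) with hg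
      have hx' : (⟨x, hx⟩ : M) = e.symm (e ⟨x, hx⟩) := (e.symm_apply_apply _).symm
      rcases key (e ⟨x, hx⟩) with h | h
      · have h' := congrArg (fun y => (e.symm y).1) h
        simp only [map_mul, map_inv, e.symm_apply_apply, ← hg] at h'
        exact ⟨1, by simpa using h'.symm⟩
      · have h' := congrArg (fun y => (e.symm y).1) h
        simp only [map_mul, map_inv, e.symm_apply_apply, ← hg] at h'
        exact ⟨-1, by simpa using h'.symm⟩

omit hp in
/-- `q` is a power of the characteristic. -/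
theorem exists_exponent (p : ℕ) [Fact p.Prime] [CharP F p] : ∃ b : ℕ, b ≠ 0 ∧ Fintype.card F = p ^ b := by
  obtain ⟨n, -, hn⟩ := FiniteField.card F p
  exact ⟨n, n.ne_zero, hn⟩

/-- A group defined over the field with `p ^ a` elements, `a` a proper divisor, is not maximal. -/
theorem not_isCoatom_of_fix {a s : ℕ} (ha : a ≠ 0) (hs : 2 ≤ s) (hq : Fintype.card F = (p ^ a) ^ s)
    {M : Subgroup (PSL F)} (f : SL F →* SL F) (hf : Function.Injective f)
    (hM : ∀ g : SL F, mkP g ∈ M → f g ∈ overSub (fixField (F := F) p a))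
    (hcard : 2 * Nat.card M < p ^ a * (p ^ a - 1) * (p ^ a + 1)) : ¬ IsCoatom M := by
  have h1 : 1 < p ^ a := Nat.one_lt_pow ha hp.out.one_lt
  haveI : Fintype (GaloisField p a) := Fintype.ofFinite _
  have hL : Fintype.card (GaloisField p a) = p ^ a := by
    rw [← Nat.card_eq_fintype_card, GaloisField.card p a ha]
  obtain ⟨φ⟩ := exists_field_hom (F := F) hL hq (by omega)
  refine not_isCoatom_of_over (p := p) (fixField_ne_top ha ?_) f hf hM
    (hcard.trans_le (card_overSub_fix_ge φ hL.symm))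
  rw [hq]
  calc p ^ a = (p ^ a) ^ 1 := (pow_one _).symm
    _ < (p ^ a) ^ s := Nat.pow_lt_pow_right h1 (by omega)

omit hp [CharP F p] in
omit hp [CharP F p] in
/-- A subgroup over a subfield is maximal only for a subfield of prime index. -/
theorem subfield_prime (p : ℕ) [hp : Fact p.Prime] [CharP F p] {q : ℕ} (hF : Fintype.card F = q) {M : Subgroup (PSL F)} (hM : IsCoatom M)
    {K : Type} [Field K] [Fintype K] {m : ℕ} (φ : K →+* F) (f : SL F →* SL F)
    (hm : Fintype.card K ^ m = q) (hf : Function.Injective f)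
    (hover : ∀ g ∈ lift M, ∃ A : Matrix (Fin 2) (Fin 2) K, IsOver φ (f g) A)
    (hiso : Nonempty (M ≃* ProjectiveSpecialLinearGroup (Fin 2) K) ∨ Nonempty (M ≃* ProjGenLinGroup (Fin 2) K)) :
    m.Prime := by
  have hq1 : 1 < q := hF ▸ Fintype.one_lt_card
  have hk1 : 1 < Fintype.card K := Fintype.one_lt_card
  by_contra hnp
  rcases Nat.eq_zero_or_pos m with rfl | hmpos
  · rw [pow_zero] at hm; omega
  rcases eq_or_ne m 1 with rfl | hm1
  · exact hM.1 (eq_top_of_subfield (p := p) hF (by rw [← hm, pow_one]) hiso)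
  obtain ⟨l, ⟨s, hls⟩, hl2, hlm⟩ := Nat.exists_dvd_of_not_prime2 (show 2 ≤ m by omega) hnp
  haveI : CharP K p := char_eq_of_pow (F := F) rfl (hF.trans hm.symm) (by omega) p
  obtain ⟨a, ha, hka⟩ := exists_exponent (F := K) p
  have hs2 : 2 ≤ s := by
    rcases s with _ | _ | s
    · omega
    · omega
    · omega
  have hpk : p ^ (a * l) = Fintype.card K ^ l := by rw [hka, ← pow_mul]
  refine not_isCoatom_of_fix (p := p) (a := a * l) (s := s) (Nat.mul_ne_zero ha (by omega)) hs2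
    (by rw [hF, ← hm, hls, pow_mul, hpk]) f hf (fun g hg => ?_) ?_ hM
  · obtain ⟨A, r, hr⟩ := hover g hg
    have hr0 : r ≠ 0 := fun e => by
      have := (f g).2
      rw [hr, e, zero_smul, Matrix.det_zero] at this
      exact zero_ne_one this
    refine ⟨r⁻¹, inv_ne_zero hr0, fun i j => ?_⟩
    rw [hr, Matrix.smul_apply, smul_eq_mul, ← mul_assoc, inv_mul_cancel₀ hr0, one_mul]
    exact map_mem_fixField φ (j := l) hpk _
  · rw [hpk]
    have h1 := subfield_card_le hiso
    have h2 : Fintype.card K * 2 ≤ Fintype.card K ^ l :=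
      calc Fintype.card K * 2 ≤ Fintype.card K ^ 2 := by rw [pow_two]; exact Nat.mul_le_mul_left _ hk1
        _ ≤ Fintype.card K ^ l := Nat.pow_le_pow_right (by omega) hl2
    generalize Fintype.card K ^ l = e at h2 ⊢
    calc 2 * Nat.card M ≤ 2 * (Fintype.card K * (Fintype.card K - 1) * (Fintype.card K + 1)) := Nat.mul_le_mul_left _ h1
      _ = Fintype.card K * 2 * (Fintype.card K - 1) * (Fintype.card K + 1) := by ring
      _ < e * (e - 1) * (e + 1) :=
        Nat.mul_lt_mul_of_le_of_lt (Nat.mul_le_mul h2 (by omega)) (by omega)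
          (Nat.mul_pos (by omega) (by omega))

/-- The cases of Dickson's list for a maximal subgroup. -/
theorem maximal_cases {q : ℕ} (hF : Fintype.card F = q) (h4 : 4 ≤ q) {M : Subgroup (PSL F)} (hM : IsCoatom M) :
    (∃ n : ℕ, (Nat.gcd 2 (q - 1) * n = q - 1 ∨ Nat.gcd 2 (q - 1) * n = q + 1) ∧
      Nonempty (M ≃* DihedralGroup n)) ∨
    Nat.card M * Nat.gcd 2 (q - 1) = q * (q - 1) ∨
    (¬ p ∣ Nat.card M ∧ Nonempty (M ≃* alternatingGroup (Fin 4))) ∨
    (¬ p ∣ Nat.card M ∧ Nonempty (M ≃* Equiv.Perm (Fin 4))) ∨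
    ((¬ p ∣ Nat.card M ∨ p = 3) ∧ Nonempty (M ≃* alternatingGroup (Fin 5))) ∨
    (∃ (K : Type) (_ : Field K) (_ : Fintype K) (m : ℕ) (φ : K →+* F) (f : SL F →* SL F),
        Fintype.card K ^ m = q ∧ m.Prime ∧ Function.Injective f ∧
        (∀ S : SL K, Matrix.SpecialLinearGroup.map φ S ∈ (lift M).map f) ∧
        (∀ g ∈ lift M, ∃ A : Matrix (Fin 2) (Fin 2) K, IsOver φ (f g) A) ∧
        (Nonempty (M ≃* ProjectiveSpecialLinearGroup (Fin 2) K) ∨ Nonempty (M ≃* ProjGenLinGroup (Fin 2) K))) := by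
  rcases dickson_list_fine hF p M with ⟨k, hk, hC⟩ | ⟨P, hP⟩ | h | h | h | ⟨K, hK, hKf, m, φ, f, hm, hf, hS, ho, hiso⟩
  · have hkd : k * Nat.gcd 2 (q - 1) ∣ q + 1 ∨ k * Nat.gcd 2 (q - 1) ∣ q - 1 := by
      rcases hk with h | h
      · exact Or.inl (by rw [mul_comm]; exact Nat.mul_dvd_of_dvd_div (gcd_dvd hF).2 h)
      · exact Or.inr (by rw [mul_comm]; exact Nat.mul_dvd_of_dvd_div (gcd_dvd hF).1 h)
    have hpk : ¬ p ∣ k := fun h => by
      obtain ⟨b, hb, hq⟩ := exists_exponent (F := F) p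
      have hpq : p ∣ q := by rw [← hF, hq]; exact dvd_pow_self p hb
      rcases hkd with h' | h' <;> have h2 : p ∣ _ := (h.trans (dvd_mul_right k _)).trans h'
      · exact hp.out.one_lt.ne' (Nat.dvd_one.1 ((Nat.dvd_add_iff_right hpq).2 h2))
      · have h3 := Nat.dvd_sub hpq h2
        rw [show q - (q - 1) = 1 by omega] at h3
        exact hp.out.one_lt.ne' (Nat.dvd_one.1 h3)
    obtain ⟨c, -, hc, hn⟩ := exists_normalised hC
    by_cases hk1 : 1 < k
    · exact Or.inl (coatom_normalising hF h4 hM (c := c) (hc ▸ hk1) (hc ▸ hpk) hn)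
    have hk0 : k = 1 := by
      rcases Nat.eq_zero_or_pos k with rfl | h
      · exact absurd (dvd_zero p) hpk
      · omega
    have hM2 : Nat.card M ∣ 2 := by
      rcases hC with ⟨-, h⟩ | ⟨⟨e⟩⟩
      · rw [h, hk0]; exact one_dvd _
      · rw [Nat.card_congr e.toEquiv, DihedralGroup.nat_card, hk0]
    rcases (Nat.dvd_prime Nat.prime_two).1 hM2 with h1 | h2
    · obtain ⟨P, hP⟩ := le_borel_of_pgroup (IsPGroup.of_card (p := p) (n := 0) (G := M) (by rw [h1, pow_zero]))
      exact Or.inr (Or.inl (coatom_le_borel hF hM hP))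
    obtain ⟨t, ht⟩ := exists_prime_orderOf_dvd_card' (G := M) 2 (by rw [h2])
    by_cases hp2 : p = 2
    · obtain ⟨P, hP⟩ := le_borel_of_pgroup (IsPGroup.of_card (p := p) (n := 1) (G := M) (by rw [h2, hp2, pow_one]))
      exact Or.inr (Or.inl (coatom_le_borel hF hM hP))
    · refine Or.inl (coatom_normalising (p := p) hF h4 hM (c := (t : PSL F))
        (by rw [Subgroup.orderOf_coe, ht]; norm_num) (by
          rw [Subgroup.orderOf_coe, ht]
          exact fun e => hp2 ((Nat.prime_dvd_prime_iff_eq hp.out Nat.prime_two).1 e)) fun x hx => ?_)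
      have htop : Subgroup.zpowers t = ⊤ := (Subgroup.card_eq_iff_eq_top _).1 (by rw [Nat.card_zpowers, ht, h2])
      obtain ⟨i, hi⟩ := Subgroup.mem_zpowers_iff.1 (htop ▸ Subgroup.mem_top _ :
        (⟨x, hx⟩ : M) * t * ⟨x, hx⟩⁻¹ ∈ Subgroup.zpowers t)
      exact ⟨i, by simpa using congrArg Subtype.val hi⟩
  · exact Or.inr (Or.inl (coatom_le_borel hF hM hP))
  · exact Or.inr (Or.inr (Or.inl h))
  · exact Or.inr (Or.inr (Or.inr (Or.inl h)))
  · exact Or.inr (Or.inr (Or.inr (Or.inr (Or.inl h))))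
  · exact Or.inr (Or.inr (Or.inr (Or.inr (Or.inr
      ⟨K, hK, hKf, m, φ, f, hm, subfield_prime p hF hM φ f hm hf ho hiso, hf, hS, ho, hiso⟩))))

end CfsgLib.Dickson
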