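import Cfsg.Agent.Lib.DicksonPolyField

/-! Small subgroups of `PSL₂(q)` which are not maximal. -/

set_option autoImplicit false
set_option linter.style.haveILetI false

universe u

namespace CfsgLib.Dickson

open Matrix

theorem dihedral_two_pair : ∃ u v : DihedralGroup 2,
    u * u = 1 ∧ v * v = 1 ∧ u ≠ 1 ∧ v ≠ 1 ∧ u ≠ v ∧ u * v = v * u ∧
    ∀ x, (x * u * x⁻¹ = u ∨ x * u * x⁻¹ = v ∨ x * u * x⁻¹ = u * v) ∧
      (x * v * x⁻¹ = u ∨ x * v * x⁻¹ = v ∨ x * v * x⁻¹ = u * v) :=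
  ⟨DihedralGroup.r 1, DihedralGroup.sr 0, by decide +kernel⟩

theorem dihedral_four_pair : ∃ u v : DihedralGroup 4,
    u * u = 1 ∧ v * v = 1 ∧ u ≠ 1 ∧ v ≠ 1 ∧ u ≠ v ∧ u * v = v * u ∧
    ∀ x, (x * u * x⁻¹ = u ∨ x * u * x⁻¹ = v ∨ x * u * x⁻¹ = u * v) ∧
      (x * v * x⁻¹ = u ∨ x * v * x⁻¹ = v ∨ x * v * x⁻¹ = u * v) :=
  ⟨DihedralGroup.r 2, DihedralGroup.sr 0, by decide +kernel⟩

theorem perm_four_three : ∃ c s : Equiv.Perm (Fin 4),
    c ^ 3 = 1 ∧ c ≠ 1 ∧ s * c * s⁻¹ = c⁻¹ ∧ s * c ≠ c * s :=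
  ⟨Equiv.swap 0 1 * Equiv.swap 1 2, Equiv.swap 0 1, by decide +kernel⟩

theorem alt_five_five : ∃ c s : alternatingGroup (Fin 5),
    c ^ 5 = 1 ∧ c ≠ 1 ∧ s * c * s⁻¹ = c⁻¹ ∧ s * c ≠ c * s :=
  ⟨⟨finRotate 5, Equiv.Perm.mem_alternatingGroup.2 (by decide +kernel)⟩,
    ⟨Equiv.swap 1 4 * Equiv.swap 2 3, Equiv.Perm.mem_alternatingGroup.2 (by decide +kernel)⟩, by decide +kernel⟩

attribute [local instance] _root_.Classical.propDecidable

variable {F : Type u} [Field F] [Fintype F]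

/-- A conjugate condition on generators puts an element into the normaliser. -/
theorem mem_normalizer_closure {S : Set (PSL F)} {x : PSL F}
    (h : ∀ s ∈ S, x * s * x⁻¹ ∈ Subgroup.closure S) :
    x ∈ Subgroup.normalizer ((Subgroup.closure S : Subgroup (PSL F)) : Set (PSL F)) := by
  set V := Subgroup.closure S with hV
  have hle : V.map (MulAut.conj x).toMonoidHom ≤ V := by
    rw [Subgroup.map_le_iff_le_comap, hV, Subgroup.closure_le]
    exact fun s hs => Subgroup.mem_comap.2 (h s hs)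
  have heq : V.map (MulAut.conj x).toMonoidHom = V := Subgroup.eq_of_le_of_card_ge hle
    (le_of_eq (Nat.card_congr (V.equivMapOfInjective _ (MulAut.conj x).injective).toEquiv))
  rw [Subgroup.mem_normalizer_iff]
  intro g
  refine ⟨fun hg => hle (Subgroup.mem_map_of_mem _ hg), fun hg => ?_⟩
  obtain ⟨g', hg', e⟩ := Subgroup.mem_map.1 (heq.symm ▸ hg : x * g * x⁻¹ ∈ V.map (MulAut.conj x).toMonoidHom)
  exact (MulAut.conj x).injective e ▸ hg'

/-- A maximal subgroup normalising a subgroup whose image has a large normaliser. -/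
theorem coatom_exclude (h4 : 4 ≤ Fintype.card F) {M V : Subgroup (PSL F)} (hM : IsCoatom M) (hV : V ≠ ⊥)
    (hV' : V ≠ ⊤) (hMV : M ≤ Subgroup.normalizer (V : Set (PSL F))) (σ : PSL F ≃* PSL F) :
    ∀ L H : Subgroup (PSL F), L ≤ Subgroup.normalizer ((V.map σ.toMonoidHom : Subgroup (PSL F)) : Set (PSL F)) →
      L ≤ H → Nat.card M ≤ Nat.card L → Nat.card M < Nat.card H → H ≠ ⊤ → False := by
  haveI := psl_card_pos h4
  have hN : Subgroup.normalizer (V : Set (PSL F)) ≠ ⊤ := fun e => by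
    rcases (Subgroup.normalizer_eq_top_iff.1 e).eq_bot_or_eq_top with h | h
    · exact hV h
    · exact hV' h
  have hMN : M = Subgroup.normalizer (V : Set (PSL F)) :=
    (eq_or_lt_of_le hMV).resolve_right fun h => hN (hM.2 _ h)
  intro L H hL hLH hc hlt hH
  rw [← Subgroup.map_equiv_normalizer_eq, ← hMN] at hL
  have hcard : Nat.card (M.map σ.toMonoidHom) = Nat.card M :=
    Nat.card_congr (M.equivMapOfInjective _ σ.injective).symm.toEquiv
  have hmax : IsCoatom (M.map σ.toMonoidHom) := (OrderIso.isCoatom_iff σ.mapSubgroup M).2 hM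
  have hLeq : L = M.map σ.toMonoidHom := Subgroup.eq_of_le_of_card_ge hL (hcard.trans_le hc)
  exact hH (hmax.2 H (lt_of_le_of_ne (hLeq ▸ hLH) fun e => by rw [← e, hcard] at hlt; omega))

variable {p : ℕ} [hp : Fact p.Prime] [CharP F p]

/-- A maximal subgroup with a normal four-group cannot be small. -/
theorem klein_exclude (h4 : 4 ≤ Fintype.card F) (hp2 : p ≠ 2) {M : Subgroup (PSL F)} (hM : IsCoatom M)
    {M₀ T₀ H₀ : Type} [Group M₀] [Group T₀] [Group H₀] (e : M ≃* M₀) {H : Subgroup (PSL F)} (eH : H ≃* H₀)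
    (ψ : T₀ →* H₀) (hψ : Function.Injective ψ)
    (h₁ : ∃ u v : M₀, u * u = 1 ∧ v * v = 1 ∧ u ≠ 1 ∧ v ≠ 1 ∧ u ≠ v ∧ u * v = v * u ∧
      ∀ x, (x * u * x⁻¹ = u ∨ x * u * x⁻¹ = v ∨ x * u * x⁻¹ = u * v) ∧
        (x * v * x⁻¹ = u ∨ x * v * x⁻¹ = v ∨ x * v * x⁻¹ = u * v))
    (h₂ : ∃ u v : T₀, u * u = 1 ∧ v * v = 1 ∧ u ≠ 1 ∧ v ≠ 1 ∧ u ≠ v ∧ u * v = v * u ∧
      ∀ x, (x * u * x⁻¹ = u ∨ x * u * x⁻¹ = v ∨ x * u * x⁻¹ = u * v) ∧
        (x * v * x⁻¹ = u ∨ x * v * x⁻¹ = v ∨ x * v * x⁻¹ = u * v))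
    (hc : Nat.card M ≤ Nat.card T₀) (hlt : Nat.card M < Nat.card H₀) (hH : Nat.card H₀ < Nat.card (PSL F)) :
    False := by
  obtain ⟨u, v, hu, hv, hu1, hv1, huv, hcom, hn⟩ := h₁
  obtain ⟨u', v', hu', hv', hu1', hv1', huv', hcom', hn'⟩ := h₂
  set ι := M.subtype.comp e.symm.toMonoidHom with hι
  have hιi : Function.Injective ι := Subtype.val_injective.comp e.symm.injective
  set κ := (H.subtype.comp eH.symm.toMonoidHom).comp ψ with hκ
  have hκi : Function.Injective κ := (Subtype.val_injective.comp eH.symm.injective).comp hψ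
  have hk := KPair.map ⟨hu, hv, hu1, hv1, huv, hcom⟩ ι hιi
  have hk' := KPair.map ⟨hu', hv', hu1', hv1', huv', hcom'⟩ κ hκi
  obtain ⟨σ, hσu, hσv⟩ := klein_conj hp2 hk hk'
  set V := Subgroup.closure ({ι u, ι v} : Set (PSL F)) with hV
  have memu : ι u ∈ V := Subgroup.subset_closure (Or.inl rfl)
  have memv : ι v ∈ V := Subgroup.subset_closure (Or.inr rfl)
  have hVσ : V.map σ.toMonoidHom = Subgroup.closure ({κ u', κ v'} : Set (PSL F)) := by
    rw [hV, MonoidHom.map_closure, Set.image_pair]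
    show Subgroup.closure ({σ (ι u), σ (ι v)} : Set (PSL F)) = _
    rw [hσu, hσv]
  refine coatom_exclude h4 hM (V := V) ?_ ?_ ?_ σ κ.range H ?_ ?_ ?_ ?_ ?_
  · exact fun e => hk.2.2.1 (Subgroup.mem_bot.1 (e ▸ memu))
  · intro htop
    refine psl_not_comm (K := F) ⟨⟨fun a b => ?_⟩⟩
    have h1 : ∀ g : PSL F, Commute g (ι u) ∧ Commute g (ι v) := by
      intro g
      have hg : g ∈ V := htop ▸ Subgroup.mem_top g
      rw [hV] at hg
      induction hg using Subgroup.closure_induction with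
      | mem x hx =>
        rcases hx with rfl | rfl
        · exact ⟨Commute.refl _, hk.2.2.2.2.2⟩
        · exact ⟨hk.2.2.2.2.2.symm, Commute.refl _⟩
      | one => exact ⟨Commute.one_left _, Commute.one_left _⟩
      | mul x y _ _ hx hy => exact ⟨hx.1.mul_left hy.1, hx.2.mul_left hy.2⟩
      | inv x _ hx => exact ⟨hx.1.inv_left, hx.2.inv_left⟩
    have hb : b ∈ V := htop ▸ Subgroup.mem_top b
    rw [hV] at hb
    show Commute a b
    induction hb using Subgroup.closure_induction with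
    | mem x hx =>
      rcases hx with rfl | rfl
      · exact (h1 a).1
      · exact (h1 a).2
    | one => exact Commute.one_right _
    | mul x y _ _ hx hy => exact hx.mul_right hy
    | inv x _ hx => exact hx.inv_right
  · intro x hx
    obtain ⟨y, rfl⟩ : ∃ y, ι y = x := ⟨e ⟨x, hx⟩, by simp [ι]⟩
    refine mem_normalizer_closure fun s hs => ?_
    rcases hs with rfl | rfl
    · rw [← map_inv, ← map_mul, ← map_mul]
      rcases (hn y).1 with h | h | h <;> rw [h]
      · exact memu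
      · exact memv
      · rw [map_mul]; exact mul_mem memu memv
    · rw [← map_inv, ← map_mul, ← map_mul]
      rcases (hn y).2 with h | h | h <;> rw [h]
      · exact memu
      · exact memv
      · rw [map_mul]; exact mul_mem memu memv
  · rintro _ ⟨y, rfl⟩
    rw [hVσ]
    have mu : κ u' ∈ Subgroup.closure ({κ u', κ v'} : Set (PSL F)) := Subgroup.subset_closure (Or.inl rfl)
    have mv : κ v' ∈ Subgroup.closure ({κ u', κ v'} : Set (PSL F)) := Subgroup.subset_closure (Or.inr rfl)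
    refine mem_normalizer_closure fun s hs => ?_
    rcases hs with rfl | rfl
    · rw [← map_inv, ← map_mul, ← map_mul]
      rcases (hn' y).1 with h | h | h <;> rw [h]
      · exact mu
      · exact mv
      · rw [map_mul]; exact mul_mem mu mv
    · rw [← map_inv, ← map_mul, ← map_mul]
      rcases (hn' y).2 with h | h | h <;> rw [h]
      · exact mu
      · exact mv
      · rw [map_mul]; exact mul_mem mu mv
  · rintro _ ⟨y, rfl⟩
    exact SetLike.coe_mem _
  · rw [Nat.card_congr (MonoidHom.ofInjective hκi).symm.toEquiv]; exact hc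
  · rw [Nat.card_congr eH.toEquiv]; exact hlt
  · intro htop
    rw [← Nat.card_congr eH.toEquiv, htop, Subgroup.card_top] at hH
    omega

/-- A lift with a prescribed sign of the trace condition. -/
theorem exists_lift_trace {x : PSL F} (hx : x ≠ 1) {n : ℕ} (hn : n = 3 ∨ n = 5) (h : x ^ n = 1) :
    ∃ g : SL F, mkP g = x ∧ ¬ IsScal g ∧
      ((n = 3 ∧ tr g = -1) ∨ (n = 5 ∧ tr g * tr g + tr g - 1 = 0)) := by
  obtain ⟨g, rfl⟩ := mkP_surjective x
  have hs : ¬ IsScal g := fun e => hx (mkP_eq_one.2 e)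
  have hs' : ¬ IsScal (-g) := fun e => hs (isScal_neg_iff.1 e)
  have hpow : IsScal (g ^ n) := isScal_pow_of_mkP h
  rcases hn with rfl | rfl
  · rcases mul_eq_zero.1 (show (tr g - 1) * (tr g + 1) = 0 by linear_combination tr_of_cube hs hpow) with e | e
    · exact ⟨-g, mkP_neg g, hs', Or.inl ⟨rfl, by rw [tr_neg, sub_eq_zero.1 e]⟩⟩
    · exact ⟨g, rfl, hs, Or.inl ⟨rfl, eq_neg_of_add_eq_zero_left e⟩⟩
  · rcases mul_eq_zero.1 (tr_of_five hs hpow) with e | e
    · exact ⟨g, rfl, hs, Or.inr ⟨rfl, e⟩⟩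
    · exact ⟨-g, mkP_neg g, hs', Or.inr ⟨rfl, by rw [tr_neg]; linear_combination e⟩⟩

omit hp [CharP F p] [Fintype F] in
theorem orderOf_three_or_five {G : Type*} [Group G] {x : G} {n : ℕ} (hn : n = 3 ∨ n = 5) (h1 : x ≠ 1)
    (h : x ^ n = 1) : orderOf x = n := by
  haveI : Fact n.Prime := ⟨by rcases hn with rfl | rfl <;> norm_num⟩
  exact orderOf_eq_prime h h1

/-- Subgroups of order three, or five, are conjugate under automorphisms. -/
theorem cyclic_conj {n : ℕ} (hn : n = 3 ∨ n = 5) {c c' : PSL F} (hc : c ≠ 1) (hc' : c' ≠ 1) (h : c ^ n = 1)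
    (h' : c' ^ n = 1) :
    ∃ σ : PSL F ≃* PSL F, (Subgroup.zpowers c).map σ.toMonoidHom = Subgroup.zpowers c' := by
  obtain ⟨g, rfl, hg, tg⟩ := exists_lift_trace hc hn h
  obtain ⟨g', rfl, hg', tg'⟩ := exists_lift_trace hc' hn h'
  have key : ∀ k : SL F, ¬ IsScal k → tr g = tr k → mkP k ∈ Subgroup.zpowers (mkP g') →
      ∃ σ : PSL F ≃* PSL F, (Subgroup.zpowers (mkP g)).map σ.toMonoidHom = Subgroup.zpowers (mkP g') := by
    intro k hk ht hmem
    obtain ⟨d, hd⟩ := exists_conj_companion hg hk ht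
    refine ⟨autP d, ?_⟩
    rw [MonoidHom.map_zpowers]
    show Subgroup.zpowers (autP d (mkP g)) = _
    rw [autP_mk, hd]
    refine Subgroup.eq_of_le_of_card_ge (Subgroup.zpowers_le.2 hmem) ?_
    rw [Nat.card_zpowers, Nat.card_zpowers, ← hd, ← autP_mk, MulEquiv.orderOf_eq,
      orderOf_three_or_five hn hc h, orderOf_three_or_five hn hc' h']
  rcases tg with ⟨rfl, tg⟩ | ⟨rfl, tg⟩
  · rcases tg' with ⟨-, tg'⟩ | ⟨h35, -⟩
    · exact key g' hg' (tg.trans tg'.symm) (Subgroup.mem_zpowers _)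
    · omega
  · rcases tg' with ⟨h35, -⟩ | ⟨-, tg'⟩
    · omega
    have hpow5 : IsScal (g' ^ 5) := isScal_pow_of_mkP h'
    rcases mul_eq_zero.1 (show (tr g - tr g') * (tr g + tr g' + 1) = 0 by linear_combination tg - tg') with e | e
    · exact key g' hg' (sub_eq_zero.1 e) (Subgroup.mem_zpowers _)
    · refine key (g' * g') (fun hs => ?_) ?_ (by rw [map_mul]; exact mul_mem (Subgroup.mem_zpowers _) (Subgroup.mem_zpowers _))
      · apply hc'
        have h2 : mkP g' ^ 2 = 1 := by rw [pow_two, ← map_mul, mkP_eq_one]; exact hs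
        rw [← pow_one (mkP g')]
        exact pow_gcd_eq_one.2 ⟨h2, h'⟩ |> fun e => by simpa using e
      · have e2 : tr (g' * g') = tr g' * tr g' - 2 := by
          show (g'.1 * g'.1) 0 0 + (g'.1 * g'.1) 1 1 = _
          rw [mul_self_eq]
          simp [tr]
          ring
        rw [e2]
        linear_combination e - tg'

omit hp [CharP F p] in
/-- A maximal dihedral group of order six or ten inside `S₄` or `A₅`. -/
theorem cyclic_exclude (h4 : 4 ≤ Fintype.card F) {n : ℕ} (hn : n = 3 ∨ n = 5) {M : Subgroup (PSL F)}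
    (hM : IsCoatom M) (e : M ≃* DihedralGroup n) {H₀ : Type} [Group H₀] {H : Subgroup (PSL F)} (eH : H ≃* H₀)
    (h₀ : ∃ c s : H₀, c ^ n = 1 ∧ c ≠ 1 ∧ s * c * s⁻¹ = c⁻¹ ∧ s * c ≠ c * s)
    (hlt : 2 * n < Nat.card H₀) (hH : Nat.card H₀ < Nat.card (PSL F)) : False := by
  obtain ⟨c₀, s₀, hcn, hc1, hs, hsc⟩ := h₀
  haveI : NeZero n := ⟨by omega⟩
  have hMc : Nat.card M = 2 * n := by rw [Nat.card_congr e.toEquiv, DihedralGroup.nat_card]
  obtain ⟨c, hcM, hco, hnorm⟩ := exists_normalised (M := M) (k := n) (Or.inr ⟨e⟩)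
  set ι := H.subtype.comp eH.symm.toMonoidHom with hι
  have hιi : Function.Injective ι := Subtype.val_injective.comp eH.symm.injective
  have hc' : ι c₀ ≠ 1 := fun h => hc1 (hιi (h.trans (map_one ι).symm))
  have hcne : c ≠ 1 := fun h => by rw [h, orderOf_one] at hco; omega
  obtain ⟨σ, hσ⟩ := cyclic_conj hn hcne hc' (hco ▸ pow_orderOf_eq_one c) (by rw [← map_pow, hcn, map_one])
  have hord := orderOf_three_or_five hn hc' (by rw [← map_pow, hcn, map_one])
  have hnz : ∀ {x d : PSL F}, x * d * x⁻¹ ∈ Subgroup.zpowers d →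
      x ∈ Subgroup.normalizer ((Subgroup.zpowers d : Subgroup (PSL F)) : Set (PSL F)) := by
    intro x d hx
    rw [Subgroup.zpowers_eq_closure] at hx ⊢
    exact mem_normalizer_closure fun y hy => by rw [Set.mem_singleton_iff.1 hy]; exact hx
  set N := Subgroup.normalizer ((Subgroup.zpowers (ι c₀) : Subgroup (PSL F)) : Set (PSL F)) with hN
  have hcN : Subgroup.zpowers (ι c₀) ≤ N ⊓ H := le_inf Subgroup.le_normalizer
    (Subgroup.zpowers_le.2 (SetLike.coe_mem _))
  have hsN : ι s₀ ∈ N ⊓ H := by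
    refine ⟨hnz ?_, SetLike.coe_mem _⟩
    rw [← map_inv, ← map_mul, ← map_mul, hs, map_inv]
    exact inv_mem (Subgroup.mem_zpowers _)
  have hsZ : ι s₀ ∉ Subgroup.zpowers (ι c₀) := fun hm => by
    obtain ⟨i, hi⟩ := Subgroup.mem_zpowers_iff.1 hm
    exact hsc (hιi (by rw [map_mul, map_mul, ← hi]; exact ((Commute.refl (ι c₀)).zpow_left i).eq))
  have hlt' : n < Nat.card (N ⊓ H : Subgroup (PSL F)) := by
    rcases lt_or_eq_of_le (Subgroup.card_le_of_le hcN) with h | h
    · rwa [Nat.card_zpowers, hord] at h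
    · exact absurd ((Subgroup.eq_of_le_of_card_ge hcN h.ge).symm ▸ hsN) hsZ
  have hd : n ∣ Nat.card (N ⊓ H : Subgroup (PSL F)) := by
    have := Subgroup.card_dvd_of_le hcN
    rwa [Nat.card_zpowers, hord] at this
  have hge : 2 * n ≤ Nat.card (N ⊓ H : Subgroup (PSL F)) := by
    obtain ⟨j, hj⟩ := hd
    rw [hj] at hlt' ⊢
    rcases j with _ | _ | j <;> nlinarith
  refine coatom_exclude h4 hM (V := Subgroup.zpowers c) ?_ ?_ (fun x hx => hnz (hnorm x hx)) σ (N ⊓ H) H
    (by rw [hσ]; exact inf_le_left) inf_le_right (hMc.trans_le hge) ?_ ?_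
  · rw [ne_eq, Subgroup.zpowers_eq_bot]; exact hcne
  · intro htop
    have := congrArg (fun S : Subgroup (PSL F) => Nat.card S) htop
    simp only [Nat.card_zpowers, Subgroup.card_top, hco] at this
    omega
  · rw [Nat.card_congr eH.toEquiv, hMc]; exact hlt
  · intro htop
    rw [← Nat.card_congr eH.toEquiv, htop, Subgroup.card_top] at hH
    omega

end CfsgLib.Dickson
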