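import Cfsg.Agent.Lib.DicksonCor

/-! The subgroups of `SL₂(F)` projectively defined over a subfield. -/

set_option autoImplicit false
set_option linter.style.haveILetI false

universe u v

namespace CfsgLib.Dickson

open Matrix

attribute [local instance] _root_.Classical.propDecidable

variable {F : Type u} [Field F]

/-- The matrices of determinant one proportional to a matrix over a subfield. -/
def overSub (E : Subfield F) : Subgroup (SL F) where
  carrier := {g | ∃ r : F, r ≠ 0 ∧ ∀ i j, r * g.1 i j ∈ E}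
  one_mem' := ⟨1, one_ne_zero, fun i j => by
    rw [Matrix.SpecialLinearGroup.coe_one, one_mul]
    rcases eq_or_ne i j with rfl | h
    · rw [Matrix.one_apply_eq]; exact E.one_mem
    · rw [Matrix.one_apply_ne h]; exact E.zero_mem⟩
  mul_mem' := by
    rintro g h ⟨r, hr, hg⟩ ⟨s, hs, hh⟩
    refine ⟨r * s, mul_ne_zero hr hs, fun i j => ?_⟩
    rw [Matrix.SpecialLinearGroup.coe_mul, Matrix.mul_apply, Fin.sum_univ_two,
      show r * s * (g.1 i 0 * h.1 0 j + g.1 i 1 * h.1 1 j) =
        r * g.1 i 0 * (s * h.1 0 j) + r * g.1 i 1 * (s * h.1 1 j) by ring]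
    exact E.add_mem (E.mul_mem (hg i 0) (hh 0 j)) (E.mul_mem (hg i 1) (hh 1 j))
  inv_mem' := by
    rintro g ⟨r, hr, hg⟩
    refine ⟨r, hr, fun i j => ?_⟩
    rw [Matrix.SpecialLinearGroup.coe_inv, Matrix.adjugate_fin_two]
    fin_cases i <;> fin_cases j <;> simp
    · exact hg 1 1
    · exact hg 0 1
    · exact hg 1 0
    · exact hg 0 0

theorem mem_overSub {E : Subfield F} {g : SL F} :
    g ∈ overSub E ↔ ∃ r : F, r ≠ 0 ∧ ∀ i j, r * g.1 i j ∈ E := Iff.rfl

theorem isScal_mem_overSub (E : Subfield F) {g : SL F} (h : IsScal g) : g ∈ overSub E := by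
  obtain ⟨e1, e2, e3⟩ := h
  have hd := det_eq g
  rw [e1, e2, ← e3] at hd
  have h0 : g.1 0 0 ≠ 0 := fun e => by rw [e] at hd; simp at hd
  refine ⟨(g.1 0 0)⁻¹, inv_ne_zero h0, fun i j => ?_⟩
  fin_cases i <;> fin_cases j <;> simp [e1, e2, ← e3, h0, E.zero_mem, E.one_mem]

theorem center_le_overSub (E : Subfield F) : Subgroup.center (SL F) ≤ overSub E :=
  fun _ h => isScal_mem_overSub E (mem_center_iff_isScal.1 h)

theorem upperU_not_mem {E : Subfield F} {x : F} (hx : x ∉ E) : upperU x ∉ overSub E := by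
  rintro ⟨r, hr, h⟩
  have h00 := h 0 0
  have h01 := h 0 1
  simp [coe_upperU] at h00 h01
  exact hx (by simpa [hr] using E.mul_mem (E.inv_mem h00) h01)

theorem card_overSub_ge [Finite F] (E : Subfield F) :
    Nat.card (SL E) ≤ Nat.card (overSub E) := by
  refine Nat.card_le_card_of_injective (fun s : SL E =>
    (⟨Matrix.SpecialLinearGroup.map E.subtype s, 1, one_ne_zero, fun i j => by
      rw [one_mul]; exact (s.1 i j).2⟩ : overSub E)) fun a b h => ?_
  have h' := congrArg (fun z : overSub E => z.1.1) h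
  exact Subtype.ext (Matrix.ext fun i j => Subtype.ext (congrFun (congrFun h' i) j))

theorem card_overSub_ge_two [Finite F] {E : Subfield F} {K : Type v} [Field K] [Finite K] (φ : K →+* F)
    (hφ : ∀ x, φ x ∈ E) {ν : K} (hν : ¬ IsSquare ν) {r : F} (hr : r * r = φ ν) :
    2 * Nat.card (SL K) ≤ Nat.card (overSub E) := by
  have hν0 : φ ν ≠ 0 := fun h => hν (by
    rw [show ν = 0 from φ.injective (h.trans (map_zero φ).symm)]; exact IsSquare.zero)
  have hr0 : r ≠ 0 := fun h => hν0 (by rw [← hr, h, zero_mul])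
  let D : SL F := ⟨!![r, 0; 0, r⁻¹], by simp [Matrix.det_fin_two, hr0]⟩
  have hD : D ∈ overSub E := ⟨r, hr0, fun i j => by
    fin_cases i <;> fin_cases j <;> simp [D, hr, hr0, hφ, E.zero_mem, E.one_mem]⟩
  have hDn : ∀ s : SL K, Matrix.SpecialLinearGroup.map φ s ≠ D := fun s h => by
    have h00 : φ (s.1 0 0) = r := congrArg (fun g : SL F => g.1 0 0) h
    exact hν ⟨s.1 0 0, φ.injective (by rw [map_mul, h00, hr])⟩
  have hmem : ∀ s : SL K, Matrix.SpecialLinearGroup.map φ s ∈ overSub E := fun s =>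
    ⟨1, one_ne_zero, fun i j => by rw [one_mul]; exact hφ _⟩
  have hinj : Function.Injective (Matrix.SpecialLinearGroup.map (n := Fin 2) φ) := fun a b h =>
    Subtype.ext (Matrix.ext fun i j => φ.injective (congrFun (congrFun (congrArg Subtype.val h) i) j))
  have h := Nat.card_le_card_of_injective (fun x : Bool × SL K =>
    (⟨(if x.1 then D else 1) * Matrix.SpecialLinearGroup.map φ x.2,
      mul_mem (by split <;> [exact hD; exact one_mem _]) (hmem x.2)⟩ : overSub E)) (fun a b h => ?_)
  · rwa [Nat.card_prod, Nat.card_eq_fintype_card, Fintype.card_bool] at h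
  · rcases a with ⟨ea, sa⟩
    rcases b with ⟨eb, sb⟩
    have h' := congrArg Subtype.val h
    cases ea <;> cases eb <;> simp at h'
    · rw [hinj h']
    · exact absurd (by rw [map_mul, map_inv, h', mul_inv_cancel_right] :
        Matrix.SpecialLinearGroup.map φ (sa * sb⁻¹) = D) (hDn _)
    · exact absurd (by rw [map_mul, map_inv, ← h', mul_inv_cancel_right] :
        Matrix.SpecialLinearGroup.map φ (sb * sa⁻¹) = D) (hDn _)
    · rw [hinj h']

variable [Fintype F]

/-- The fixed field of a power of Frobenius. -/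
def fixField (p : ℕ) [Fact p.Prime] [CharP F p] (a : ℕ) : Subfield F where
  carrier := {x | x ^ (p ^ a) = x}
  mul_mem' := fun {x y} hx hy => by
    show (x * y) ^ (p ^ a) = x * y
    rw [mul_pow, hx, hy]
  one_mem' := one_pow _
  add_mem' := fun {x y} hx hy => by
    show (x + y) ^ (p ^ a) = x + y
    rw [add_pow_char_pow, hx, hy]
  zero_mem' := zero_pow (pow_ne_zero a (Fact.out : p.Prime).ne_zero)
  neg_mem' := fun {x} hx => by
    show (-x) ^ (p ^ a) = -x
    rw [show -x = (-1) * x by ring, mul_pow, hx]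
    congr 1
    have h : (-1 + 1 : F) ^ (p ^ a) = (-1) ^ (p ^ a) + 1 := by rw [add_pow_char_pow, one_pow]
    rw [neg_add_cancel, zero_pow (pow_ne_zero a (Fact.out : p.Prime).ne_zero)] at h
    linear_combination -h
  inv_mem' := fun x hx => by
    show x⁻¹ ^ (p ^ a) = x⁻¹
    rw [inv_pow, hx]

theorem mem_fixField {p : ℕ} [Fact p.Prime] [CharP F p] {a : ℕ} {x : F} :
    x ∈ fixField p a ↔ x ^ (p ^ a) = x := Iff.rfl

theorem fixField_ne_top {p : ℕ} [Fact p.Prime] [CharP F p] {a : ℕ} (ha : a ≠ 0)
    (h : p ^ a < Fintype.card F) : ∃ x : F, x ∉ fixField p a := by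
  by_contra! hall
  have he1 : 1 < p ^ a := Nat.one_lt_pow ha (Fact.out : p.Prime).one_lt
  have hsub : (Finset.univ : Finset F) ⊆ ((Polynomial.X ^ (p ^ a) - Polynomial.X : Polynomial F)).roots.toFinset := by
    intro x _
    rw [Multiset.mem_toFinset, Polynomial.mem_roots (FiniteField.X_pow_card_sub_X_ne_zero F he1)]
    simp [mem_fixField.1 (hall x)]
  have h1 := (Finset.card_le_card hsub).trans ((Multiset.toFinset_card_le _).trans (Polynomial.card_roots' _))
  rw [FiniteField.X_pow_card_sub_X_natDegree_eq F he1, Finset.card_univ] at h1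
  omega

theorem map_mem_fixField {p : ℕ} [Fact p.Prime] [CharP F p] {a : ℕ} {K : Type v} [Field K] [Fintype K]
    (φ : K →+* F) {j : ℕ} (h : p ^ a = Fintype.card K ^ j) (x : K) : φ x ∈ fixField p a := by
  rw [mem_fixField, h, ← map_pow, FiniteField.pow_card_pow]

theorem card_fixField_ge {p : ℕ} [Fact p.Prime] [CharP F p] {a : ℕ} {K : Type v} [Field K] [Fintype K]
    (φ : K →+* F) (h : p ^ a = Fintype.card K) :
    Fintype.card K ≤ Fintype.card (fixField (F := F) p a) :=
  Fintype.card_le_of_injective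
    (fun x => (⟨φ x, map_mem_fixField φ (j := 1) (by rw [pow_one, h]) x⟩ : fixField (F := F) p a))
    fun _ _ e => φ.injective (congrArg Subtype.val e)

/-- A group defined over a proper subfield and small is not maximal. -/
theorem not_isCoatom_of_over {p : ℕ} [Fact p.Prime] [CharP F p] {M : Subgroup (PSL F)} {E : Subfield F}
    (hE : ∃ x : F, x ∉ E) (f : SL F →* SL F) (hf : Function.Injective f)
    (hM : ∀ g : SL F, mkP g ∈ M → f g ∈ overSub E)
    (hcard : 2 * Nat.card M < Nat.card (overSub E)) : ¬ IsCoatom M := by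
  intro hmax
  have hbij : Function.Bijective f := ⟨hf, Finite.surjective_of_injective hf⟩
  set T := (overSub E).comap f with hT
  have hcenter : Subgroup.center (SL F) ≤ T := fun z hz => by
    refine Subgroup.mem_comap.2 (center_le_overSub E (Subgroup.mem_center_iff.2 fun x => ?_))
    obtain ⟨y, rfl⟩ := hbij.2 x
    rw [← map_mul, ← map_mul, Subgroup.mem_center_iff.1 hz]
  have hTcard : Nat.card T = Nat.card (overSub E) :=
    Nat.card_congr ((Equiv.ofBijective f hbij).subtypeEquiv fun g => Iff.rfl)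
  have hMT : M ≤ T.map mkP := fun x hx => by
    obtain ⟨g, rfl⟩ := mkP_surjective x
    exact Subgroup.mem_map_of_mem _ (Subgroup.mem_comap.2 (hM g hx))
  have hne : T.map mkP ≠ ⊤ := by
    intro htop
    obtain ⟨x, hx⟩ := hE
    obtain ⟨g, hg⟩ := hbij.2 (upperU x)
    have hmem : mkP g ∈ T.map mkP := htop ▸ Subgroup.mem_top _
    rw [← Subgroup.mem_comap, Subgroup.comap_map_eq_self (by rw [QuotientGroup.ker_mk']; exact hcenter),
      hT, Subgroup.mem_comap, hg] at hmem
    exact upperU_not_mem hx hmem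
  have h2 : Nat.card T ≤ 2 * Nat.card (T.map mkP) := by
    have hker : Nat.card (Subgroup.center (SL F)) ≤ 2 := by
      rw [card_center rfl (p := p)]
      exact Nat.le_of_dvd two_pos (Nat.gcd_dvd_left _ _)
    have h := (mkP.comp T.subtype).ker.card_mul_index
    rw [Subgroup.index_ker, MonoidHom.range_comp, Subgroup.range_subtype] at h
    rw [← h]
    refine Nat.mul_le_mul_right _ (le_trans (Nat.card_le_card_of_injective
      (fun z : (mkP.comp T.subtype).ker => (⟨z.1.1, by
        have hz := z.2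
        rw [MonoidHom.mem_ker, MonoidHom.comp_apply, mkP_eq_one] at hz
        exact mem_center_iff_isScal.2 hz⟩ : Subgroup.center (SL F))) fun a b hab => ?_) hker)
    exact Subtype.ext (Subtype.ext (congrArg (fun z : Subgroup.center (SL F) => z.1) hab))
  have hne' : M ≠ T.map mkP := fun e => by rw [← e] at h2; omega
  exact hne (hmax.2 _ (lt_of_le_of_ne hMT hne'))

theorem card_sl_ge {K : Type v} [Field K] [Fintype K] {e : ℕ} (h : e ≤ Fintype.card K) :
    e * (e - 1) * (e + 1) ≤ Nat.card (SL K) := by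
  rw [CfsgLib.Classical.Two.card_sl_two]
  exact Nat.mul_le_mul (Nat.mul_le_mul h (by omega)) (by omega)

theorem card_overSub_fix_ge {p : ℕ} [Fact p.Prime] [CharP F p] {a : ℕ} {K : Type v} [Field K] [Fintype K]
    (φ : K →+* F) (h : p ^ a = Fintype.card K) :
    p ^ a * (p ^ a - 1) * (p ^ a + 1) ≤ Nat.card (overSub (fixField (F := F) p a)) :=
  (card_sl_ge (h.le.trans (card_fixField_ge φ h))).trans (card_overSub_ge _)

end CfsgLib.Dickson
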