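import Cfsg.Agent.Lib.DicksonTorus
import Cfsg.Agent.Lib.ClassicalCardLinear

/-!
# Invariants separating the entries of Dickson's list
-/

set_option autoImplicit false
set_option linter.style.haveILetI false

universe u

namespace CfsgLib.Dickson

open Matrix
open scoped MatrixGroups commutatorElement

/-! ## Small groups -/

theorem order_alt_four (x : alternatingGroup (Fin 4)) : x ^ 2 = 1 ∨ x ^ 3 = 1 := by
  revert x; decide +kernel

theorem order_perm_four (x : Equiv.Perm (Fin 4)) : x ^ 4 = 1 ∨ x ^ 3 = 1 := by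
  revert x; decide +kernel

theorem order_alt_five (x : alternatingGroup (Fin 5)) : x ^ 2 = 1 ∨ x ^ 3 = 1 ∨ x ^ 5 = 1 := by
  revert x; decide +kernel

set_option synthInstance.maxSize 4000 in
set_option synthInstance.maxHeartbeats 400000 in
theorem no_sym_three_alt_four (a b : alternatingGroup (Fin 4)) :
    a ^ 2 = 1 → b ^ 3 = 1 → a * b * a⁻¹ = b⁻¹ → b = 1 := by
  revert a b; decide +kernel

attribute [local instance] _root_.Classical.propDecidable

theorem orderOf_le_of_pow {G : Type*} [Group G] {x : G} {n : ℕ} (hn : 0 < n) (h : x ^ n = 1) : orderOf x ≤ n :=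
  Nat.le_of_dvd hn (orderOf_dvd_of_pow_eq_one h)

theorem orderOf_le_five {G : Type*} [Group G] {M : Subgroup G}
    (h : Nonempty (M ≃* alternatingGroup (Fin 4)) ∨ Nonempty (M ≃* Equiv.Perm (Fin 4)) ∨
      Nonempty (M ≃* alternatingGroup (Fin 5))) {c : G} (hc : c ∈ M) : orderOf c ≤ 5 := by
  rw [← Subgroup.orderOf_mk c hc]
  rcases h with ⟨⟨e⟩⟩ | ⟨⟨e⟩⟩ | ⟨⟨e⟩⟩ <;> rw [← e.orderOf_eq]
  · rcases order_alt_four (e ⟨c, hc⟩) with h | h <;> exact (orderOf_le_of_pow (by norm_num) h).trans (by norm_num)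
  · rcases order_perm_four (e ⟨c, hc⟩) with h | h <;> exact (orderOf_le_of_pow (by norm_num) h).trans (by norm_num)
  · rcases order_alt_five (e ⟨c, hc⟩) with h | h | h <;> exact (orderOf_le_of_pow (by norm_num) h).trans (by norm_num)

theorem commute_dihedral {k : ℕ} {a b : DihedralGroup k} (ha : a * a ≠ 1) (hb : b * b ≠ 1) :
    Commute a b := by
  rcases a with i | i
  · rcases b with j | j
    · show DihedralGroup.r i * DihedralGroup.r j = DihedralGroup.r j * DihedralGroup.r i
      rw [DihedralGroup.r_mul_r, DihedralGroup.r_mul_r, add_comm]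
    · exact absurd (DihedralGroup.sr_mul_self j) hb
  · exact absurd (DihedralGroup.sr_mul_self i) ha

theorem commute_of_cyclic_or_dihedral {G : Type*} [Group G] {M : Subgroup G} {k : ℕ}
    (h : IsCyclic M ∨ Nonempty (M ≃* DihedralGroup k)) {a b : G} (ha : a ∈ M) (hb : b ∈ M)
    (ha2 : a * a ≠ 1) (hb2 : b * b ≠ 1) : Commute a b := by
  rcases h with h | ⟨⟨e⟩⟩
  · letI := IsCyclic.commGroup (α := M)
    exact congrArg Subtype.val (mul_comm (⟨a, ha⟩ : M) ⟨b, hb⟩)
  · have key : ∀ x : M, (x : G) * x ≠ 1 → e x * e x ≠ 1 := fun x hx he => hx (by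
      rw [← map_mul, ← map_one e] at he
      exact congrArg Subtype.val (e.injective he))
    exact congrArg Subtype.val (e.injective (by
      rw [map_mul, map_mul]
      exact (commute_dihedral (key ⟨a, ha⟩ ha2) (key ⟨b, hb⟩ hb2)).eq) : (⟨a, ha⟩ : M) * ⟨b, hb⟩ = ⟨b, hb⟩ * ⟨a, ha⟩)

theorem dvd_of_mem_dihedral {G : Type*} [Group G] {M : Subgroup G} {k : ℕ} (e : M ≃* DihedralGroup k)
    {c : G} (hc : c ∈ M) (h3 : 3 ≤ orderOf c) : orderOf c ∣ k := by
  rw [← Subgroup.orderOf_mk c hc, ← e.orderOf_eq] at h3 ⊢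
  generalize e ⟨c, hc⟩ = x at h3
  rcases x with i | i
  · refine orderOf_dvd_of_pow_eq_one ?_
    obtain ⟨j, rfl⟩ := ZMod.intCast_surjective i
    rw [← DihedralGroup.r_one_zpow, ← zpow_natCast, zpow_comm, zpow_natCast]
    simp [DihedralGroup.r_one_pow]
  · rw [DihedralGroup.orderOf_sr] at h3
    omega

/-! ## Subfields -/

theorem pgl_pow_cases {K : Type*} [Field K] [Fintype K] {p : ℕ} [Fact p.Prime] [CharP K p]
    (x : ProjGenLinGroup (Fin 2) K) :
    x ^ (Fintype.card K - 1) = 1 ∨ x ^ (Fintype.card K + 1) = 1 ∨ x ^ p = 1 := by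
  obtain ⟨M, rfl⟩ := ProjGenLinGroup.mk_surjective x
  have hsc : ∀ (m : ℕ) (c : K), M.1 ^ m = c • (1 : Matrix (Fin 2) (Fin 2) K) →
      ProjGenLinGroup.mk M ^ m = 1 := by
    intro m c h
    have hc : c ≠ 0 := fun e => by
      have h0 : M.1.det ^ m = 0 := by rw [← Matrix.det_pow, h, e, zero_smul, Matrix.det_zero]
      exact (Matrix.GeneralLinearGroup.det M).ne_zero (eq_zero_of_pow_eq_zero h0)
    rw [← map_pow, show M ^ m = Matrix.GeneralLinearGroup.scalar (Fin 2) (Units.mk0 c hc) from Units.ext (by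
      rw [Units.val_pow_eq_pow_val, h, Matrix.GeneralLinearGroup.coe_scalar]
      ext i j; simp [Matrix.scalar_apply, Matrix.diagonal_apply, Matrix.one_apply])]
    exact ProjGenLinGroup.mk_scalar _
  rcases pow_cases rfl (p := p) M.1 (Matrix.GeneralLinearGroup.det M).ne_zero with h | h | ⟨-, c, h⟩
  · exact Or.inl (hsc _ 1 (by rw [h, one_smul]))
  · exact Or.inr (Or.inl (hsc _ _ h))
  · exact Or.inr (Or.inr (hsc _ c h))

theorem orderOf_pgl_le {K : Type*} [Field K] [Fintype K] (x : ProjGenLinGroup (Fin 2) K) :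
    orderOf x ≤ Fintype.card K + 1 := by
  obtain ⟨p, hchar⟩ := CharP.exists K
  obtain ⟨n, hp, hn⟩ := FiniteField.card K p
  haveI := Fact.mk hp
  have : 1 < Fintype.card K := Fintype.one_lt_card
  have hpk : p ≤ Fintype.card K := hn ▸ Nat.le_self_pow n.ne_zero p
  rcases pgl_pow_cases (p := p) x with h | h | h
  · exact (orderOf_le_of_pow (by omega) h).trans (by omega)
  · exact orderOf_le_of_pow (by omega) h
  · exact (orderOf_le_of_pow hp.pos h).trans (by omega)

theorem card_pgl_two {K : Type*} [Field K] [Fintype K] :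
    Nat.card (ProjGenLinGroup (Fin 2) K) = Fintype.card K * (Fintype.card K - 1) * (Fintype.card K + 1) := by
  rw [CfsgLib.Classical.card_pgl, CfsgLib.Classical.Two.card_sl_two]

variable {F : Type u} [Field F] [Fintype F]

theorem orderOf_le_of_subfield {M : Subgroup (PSL F)} {K : Type} [Field K] [Fintype K]
    (h : Nonempty (M ≃* ProjectiveSpecialLinearGroup (Fin 2) K) ∨ Nonempty (M ≃* ProjGenLinGroup (Fin 2) K))
    {c : PSL F} (hc : c ∈ M) : orderOf c ≤ Fintype.card K + 1 := by
  rw [← Subgroup.orderOf_mk c hc]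
  rcases h with ⟨⟨e⟩⟩ | ⟨⟨e⟩⟩ <;> rw [← e.orderOf_eq]
  · rw [← orderOf_injective _ ProjectiveSpecialLinearGroup.toPGL_injective]
    exact orderOf_pgl_le _
  · exact orderOf_pgl_le _

variable {p : ℕ} [hp : Fact p.Prime] [CharP F p]

omit hp [CharP F p] in
/-- A subgroup isomorphic to `PSL₂` or `PGL₂` of a field of the same order is everything. -/
theorem eq_top_of_subfield [Fact p.Prime] [CharP F p] {q : ℕ} (hF : Fintype.card F = q)
    {M : Subgroup (PSL F)} {K : Type} [Field K] [Fintype K] (hK : Fintype.card K = q)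
    (h : Nonempty (M ≃* ProjectiveSpecialLinearGroup (Fin 2) K) ∨ Nonempty (M ≃* ProjGenLinGroup (Fin 2) K)) :
    M = ⊤ := by
  refine Subgroup.eq_top_of_le_card _ ?_
  have hG := card_psl hF (p := p)
  obtain ⟨p', hchar⟩ := CharP.exists K
  obtain ⟨n, hp', -⟩ := FiniteField.card K p'
  haveI := Fact.mk hp'
  have hd : 0 < Nat.gcd 2 (q - 1) := Nat.gcd_pos_of_pos_left _ two_pos
  rcases h with ⟨⟨e⟩⟩ | ⟨⟨e⟩⟩
  · rw [Nat.card_congr e.toEquiv]
    refine le_of_eq (Nat.eq_of_mul_eq_mul_right hd ?_)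
    rw [hG]
    exact (card_psl hK (p := p')).symm
  · rw [Nat.card_congr e.toEquiv, card_pgl_two, hK, ← hG]
    exact Nat.le_mul_of_pos_right _ hd

/-! ## The Borel subgroups -/

omit [Fintype F] hp [CharP F p] in
theorem mkP_center_le (S : Subgroup (SL F)) : Subgroup.center (SL F) ≤ Subgroup.normalizer (S : Set (SL F)) :=
  fun z hz => Subgroup.mem_normalizer_iff.2 fun x => by
    rw [show z * x * z⁻¹ = x by rw [← Subgroup.mem_center_iff.1 hz x, mul_inv_cancel_right]]

/-- A Borel subgroup of `PSL₂` lifts to a Borel subgroup of `SL₂`. -/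
theorem borel_lift (P : Sylow p (PSL F)) : ∃ S : Sylow p (SL F),
    (P : Subgroup (PSL F)) = (S : Subgroup (SL F)).map mkP ∧
      Subgroup.normalizer ((P : Subgroup (PSL F)) : Set (PSL F)) =
        (Subgroup.normalizer ((S : Subgroup (SL F)) : Set (SL F))).map mkP := by
  obtain ⟨S, rfl⟩ := Sylow.mapSurjective_surjective (mkP_surjective (F := F)) p P
  refine ⟨S, Sylow.coe_mapSurjective _ S, le_antisymm ?_ ?_⟩
  · intro x hx
    obtain ⟨g, rfl⟩ := mkP_surjective x
    refine Subgroup.mem_map_of_mem _ ?_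
    have hd : p ∣ Nat.card (SL F) := by
      obtain ⟨n, -, hn⟩ := FiniteField.card F p
      rw [CfsgLib.Classical.Two.card_sl_two]
      exact ((hn ▸ dvd_pow_self p n.ne_zero : p ∣ Fintype.card F).mul_right _).mul_right _
    have ax := axioms_scalPart_any (p := p) (ι := MonoidHom.id (SL F)) Function.injective_id hd
    have key : ∀ h : SL F, mkP h ∈ Subgroup.normalizer ((S.mapSurjective mkP_surjective : Subgroup (PSL F)) : Set (PSL F)) →
        ∀ s ∈ (S : Subgroup (SL F)), h * s * h⁻¹ ∈ (S : Subgroup (SL F)) := by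
      intro h hh s hs
      obtain ⟨k, hk⟩ := ppow_of_mem hs
      refine ax.mem_sylow_of_mem_sup S ?_ ⟨k, ((MulAut.conj h).orderOf_eq s).trans hk⟩
      have h1 : mkP (h * s * h⁻¹) ∈ (S : Subgroup (SL F)).map mkP := by
        rw [map_mul, map_mul, map_inv, ← Sylow.coe_mapSurjective mkP_surjective]
        exact (Subgroup.mem_normalizer_iff.1 hh _).1 (by
          rw [Sylow.coe_mapSurjective]; exact Subgroup.mem_map_of_mem _ hs)
      rw [← Subgroup.mem_comap, Subgroup.comap_map_eq, QuotientGroup.ker_mk'] at h1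
      rwa [show scalPart (MonoidHom.id (SL F)) = Subgroup.center (SL F) from
        Subgroup.ext fun z => mem_scalPart.trans mem_center_iff_isScal.symm]
    rw [Subgroup.mem_normalizer_iff]
    refine fun s => ⟨key g hx s, fun hs => ?_⟩
    have := key g⁻¹ (by rw [map_inv]; exact inv_mem hx) _ hs
    simpa [mul_assoc] using this
  · rw [Sylow.coe_mapSurjective]
    exact Subgroup.le_normalizer_map _

/-- Twice `PSL₂`: the order of a Borel subgroup. -/
theorem borel_card {q : ℕ} (hF : Fintype.card F = q) (P : Sylow p (PSL F)) :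
    Nat.card (Subgroup.normalizer ((P : Subgroup (PSL F)) : Set (PSL F))) * Nat.gcd 2 (q - 1) = q * (q - 1) := by
  obtain ⟨S, -, hN⟩ := borel_lift P
  subst hF
  have hd : p ∣ Nat.card (SL F) := by
    obtain ⟨n, -, hn⟩ := FiniteField.card F p
    rw [CfsgLib.Classical.Two.card_sl_two]
    exact ((hn ▸ dvd_pow_self p n.ne_zero : p ∣ Fintype.card F).mul_right _).mul_right _
  obtain ⟨x, -, -, f, hf, -, -, hNS⟩ := exists_coords_any (p := p) (ι := MonoidHom.id (SL F))
    Function.injective_id hd S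
  set N := Subgroup.normalizer ((S : Subgroup (SL F)) : Set (SL F))
  have hcard : Nat.card N = Fintype.card F * (Fintype.card F - 1) := by
    have e1 : Nat.card N = Nat.card {g : SL F // g.1 1 0 = 0} :=
      Nat.card_congr ((Equiv.ofBijective f ⟨hf, Finite.surjective_of_injective hf⟩).subtypeEquiv
        fun g => hNS g)
    let e2 : {g : SL F // g.1 1 0 = 0} ≃ F × Fˣ :=
      { toFun := fun g => (g.1.1 0 1, Units.mk0 (g.1.1 0 0) (fun e => by
          have hd := det_eq g.1
          rw [g.2, e] at hd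
          simp at hd))
        invFun := fun x => ⟨⟨!![(x.2 : F), x.1; 0, (x.2 : F)⁻¹], by simp [Matrix.det_fin_two]⟩, rfl⟩
        left_inv := fun g => by
          have hd := det_eq g.1
          rw [g.2, mul_zero, sub_zero] at hd
          refine Subtype.ext (sl_ext ?_ ?_ ?_ ?_) <;> simp [g.2]
          exact inv_eq_of_mul_eq_one_right hd
        right_inv := fun x => by simp }
    rw [e1, Nat.card_congr e2, Nat.card_prod, Nat.card_units, Nat.card_eq_fintype_card]
  rw [hN, ← card_center rfl (p := p), ← hcard]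
  have h := (Subgroup.center (SL F)).card_mul_index
  have h1 := Subgroup.index_map_eq (H := N) (f := (mkP : SL F →* PSL F)) mkP_surjective
    (by rw [QuotientGroup.ker_mk']; exact mkP_center_le _)
  have h2 := (N.map (mkP : SL F →* PSL F)).card_mul_index
  have h3 := N.card_mul_index
  rw [h1] at h2
  rw [← h, Subgroup.index_eq_card (Subgroup.center (SL F))] at h3
  change _ = _ * Nat.card (PSL F) at h3
  rw [← h2, ← mul_assoc] at h3
  rw [mul_comm]
  exact (Nat.eq_of_mul_eq_mul_right (Nat.pos_of_ne_zero Subgroup.index_ne_zero_of_finite) h3).symm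

/-- Commutators in a Borel subgroup have order dividing `p`. -/
theorem borel_commutator (P : Sylow p (PSL F)) {a b : PSL F}
    (ha : a ∈ Subgroup.normalizer ((P : Subgroup (PSL F)) : Set (PSL F)))
    (hb : b ∈ Subgroup.normalizer ((P : Subgroup (PSL F)) : Set (PSL F))) : ⁅a, b⁆ ^ p = 1 := by
  obtain ⟨S, -, hN⟩ := borel_lift P
  rw [hN] at ha hb
  obtain ⟨g, hg, rfl⟩ := ha
  obtain ⟨k, hk, rfl⟩ := hb
  have hd : p ∣ Nat.card (SL F) := by
    obtain ⟨n, -, hn⟩ := FiniteField.card F p
    rw [CfsgLib.Classical.Two.card_sl_two]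
    exact ((hn ▸ dvd_pow_self p n.ne_zero : p ∣ Fintype.card F).mul_right _).mul_right _
  have ax := axioms_scalPart_any (p := p) (ι := MonoidHom.id (SL F)) Function.injective_id hd
  rw [← map_commutatorElement, ← map_pow]
  have h := ppow_of_mem (ax.comm_mem S g hg k hk)
  obtain ⟨n, hn⟩ := h
  rw [pow_prime_of_pow (k := n) (by rw [← hn, pow_orderOf_eq_one]), map_one]

/-- Elements of order `p` in a Borel subgroup commute. -/
theorem borel_commute (P : Sylow p (PSL F)) {a b : PSL F}
    (ha : a ∈ Subgroup.normalizer ((P : Subgroup (PSL F)) : Set (PSL F)))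
    (hb : b ∈ Subgroup.normalizer ((P : Subgroup (PSL F)) : Set (PSL F))) (ha' : a ^ p = 1) (hb' : b ^ p = 1) :
    Commute a b := by
  obtain ⟨S, hP, -⟩ := borel_lift P
  have hmem : ∀ x, x ∈ Subgroup.normalizer ((P : Subgroup (PSL F)) : Set (PSL F)) → x ^ p = 1 →
      x ∈ (S : Subgroup (SL F)).map mkP := by
    intro x hx hxp
    rw [← hP]
    obtain ⟨k, -, hk⟩ := (Nat.dvd_prime_pow hp.out).1
      (show orderOf x ∣ p ^ 1 by rw [pow_one]; exact orderOf_dvd_of_pow_eq_one hxp)
    exact mem_sylow_of_ppow hx ⟨k, hk⟩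
  obtain ⟨g, hg, rfl⟩ := hmem a ha ha'
  obtain ⟨k, hk, rfl⟩ := hmem b hb hb'
  have hd : p ∣ Nat.card (SL F) := by
    obtain ⟨n, -, hn⟩ := FiniteField.card F p
    rw [CfsgLib.Classical.Two.card_sl_two]
    exact ((hn ▸ dvd_pow_self p n.ne_zero : p ∣ Fintype.card F).mul_right _).mul_right _
  exact ((axioms_scalPart_any (p := p) (ι := MonoidHom.id (SL F)) Function.injective_id hd).sylow_comm S hg hk).map mkP

/-! ## Maximal dihedral subgroups -/

omit hp [CharP F p] in
theorem no_perm_four_of {q : ℕ} (hF : Fintype.card F = q) (h : q ^ 2 % 16 ≠ 1)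
    {M : Subgroup (PSL F)} (e : M ≃* Equiv.Perm (Fin 4))
    (iff : (∃ H : Subgroup (PSL F), Nonempty (H ≃* Equiv.Perm (Fin 4))) ↔ Fintype.card F ^ 2 % 16 = 1) : False :=
  h (hF ▸ iff.1 ⟨M, ⟨e⟩⟩)

omit hp [CharP F p] in
/-- A dihedral subgroup of order `2(q ± 1) / d` is maximal. -/
theorem dihedral_isCoatom (p : ℕ) [Fact p.Prime] [CharP F p] {q : ℕ} (hF : Fintype.card F = q) (h4 : 4 ≤ q) {n : ℕ}
    (hn : Nat.gcd 2 (q - 1) * n = q - 1 ∨ Nat.gcd 2 (q - 1) * n = q + 1) (h9 : q ≠ 9)
    {D : Subgroup (PSL F)} (hD : Nonempty (D ≃* DihedralGroup n))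
    (hsmall : 6 ≤ n ∨ (Nat.card (PSL F) ≤ 60 ∧ (n = 5 ∨ n = 3) ∧ q ^ 2 % 16 ≠ 1))
    (hS4 : (∃ H : Subgroup (PSL F), Nonempty (H ≃* Equiv.Perm (Fin 4))) ↔ Fintype.card F ^ 2 % 16 = 1) :
    IsCoatom D := by
  obtain ⟨e⟩ := hD
  set d := Nat.gcd 2 (q - 1) with hd
  have hd2 : d = 1 ∨ d = 2 := (Nat.dvd_prime Nat.prime_two).1 (Nat.gcd_dvd_left 2 (q - 1))
  have hn3 : 3 ≤ n := by omega
  haveI : NeZero n := ⟨by omega⟩
  have hcard : Nat.card D = 2 * n := by rw [Nat.card_congr e.toEquiv, DihedralGroup.nat_card]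
  have hG := card_psl hF (p := p)
  rw [← hd] at hG
  refine ⟨fun htop => ?_, fun M hDM => ?_⟩
  · have h1 : Nat.card (PSL F) = 2 * n := by rw [← hcard, htop, Subgroup.card_top]
    rw [h1, mul_comm (2 * n), ← mul_assoc, mul_comm d 2, mul_assoc] at hG
    have h2 : 4 * 3 * (q + 1) ≤ q * (q - 1) * (q + 1) :=
      Nat.mul_le_mul_right _ (Nat.mul_le_mul h4 (by omega))
    omega
  by_contra hMtop
  have hlt : Nat.card D < Nat.card M := lt_of_le_of_ne (Subgroup.card_le_of_le hDM.le)
    fun h => hDM.ne (Subgroup.eq_of_le_of_card_ge hDM.le h.ge)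
  rw [hcard] at hlt
  obtain ⟨c, hcD, hco⟩ : ∃ c ∈ D, orderOf c = n := ⟨(e.symm (DihedralGroup.r 1) : D), SetLike.coe_mem _, by
    rw [Subgroup.orderOf_coe, e.symm.orderOf_eq, DihedralGroup.orderOf_r_one]⟩
  have hcM := hDM.le hcD
  obtain ⟨s, hsD, hs2, hsc⟩ : ∃ s ∈ D, s ^ 2 = 1 ∧ (s * c) ^ 2 = 1 := by
    obtain ⟨c', hc', hc''⟩ : ∃ c', c' ∈ D ∧ c' = c := ⟨c, hcD, rfl⟩
    obtain ⟨i, hi⟩ : ∃ i, e ⟨c, hcD⟩ = DihedralGroup.r i := by
      have h3 : 3 ≤ orderOf (e ⟨c, hcD⟩) := by rw [e.orderOf_eq, Subgroup.orderOf_mk, hco]; exact hn3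
      generalize e ⟨c, hcD⟩ = x at h3
      rcases x with i | i
      · exact ⟨i, rfl⟩
      · rw [DihedralGroup.orderOf_sr] at h3; omega
    refine ⟨(e.symm (DihedralGroup.sr 0) : D), SetLike.coe_mem _, ?_, ?_⟩
    · rw [← SubgroupClass.coe_pow, ← map_pow, pow_two, DihedralGroup.sr_mul_self, map_one, Subgroup.coe_one]
    · rw [show c = ((⟨c, hcD⟩ : D) : PSL F) from rfl, ← Subgroup.coe_mul, ← SubgroupClass.coe_pow,
        show (⟨c, hcD⟩ : D) = e.symm (DihedralGroup.r i) by rw [← hi, e.symm_apply_apply], ← map_mul,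
        ← map_pow, DihedralGroup.sr_mul_r, pow_two, DihedralGroup.sr_mul_self, map_one, Subgroup.coe_one]
  have hsM := hDM.le hsD
  -- a cyclic group or an abelian one cannot contain `s` and `c`
  have hnc : ¬ Commute s c := fun h => by
    rw [h.mul_pow, hs2, one_mul] at hsc
    have := Nat.le_of_dvd two_pos (hco ▸ orderOf_dvd_of_pow_eq_one hsc)
    omega
  rcases dickson_list hF p M with ⟨k, hk, hM⟩ | ⟨P, hP⟩ | hM | hM | hM | ⟨K, hKf, hKt, m, hm, hM⟩
  · rcases hM with ⟨hc, -⟩ | ⟨⟨e'⟩⟩
    · letI := IsCyclic.commGroup (α := M)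
      exact hnc (congrArg Subtype.val (mul_comm (⟨s, hsM⟩ : M) ⟨c, hcM⟩))
    · have hnk : n ∣ k := hco ▸ dvd_of_mem_dihedral e' hcM (hco ▸ hn3)
      rw [Nat.card_congr e'.toEquiv, DihedralGroup.nat_card] at hlt
      have hk' : d * k ∣ q + 1 ∨ d * k ∣ q - 1 :=
        hk.imp (fun h => Nat.mul_dvd_of_dvd_div (gcd_dvd hF).2 h) (fun h => Nat.mul_dvd_of_dvd_div (gcd_dvd hF).1 h)
      have hdk : d * n < d * k := Nat.mul_lt_mul_of_pos_left (by omega) (by omega)
      rcases hk' with h | h
      · have hle := Nat.le_of_dvd (by omega) h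
        rcases hn with hn | hn
        · have h1 : q - 1 ∣ q + 1 := hn ▸ (Nat.mul_dvd_mul_left d hnk).trans h
          have h2 := Nat.dvd_sub h1 (dvd_refl (q - 1))
          rw [show q + 1 - (q - 1) = 2 by omega] at h2
          have := Nat.le_of_dvd two_pos h2
          omega
        · omega
      · have hle := Nat.le_of_dvd (by omega) h
        omega
  · have hdvd : 2 * n * d ∣ q * (q - 1) := by
      rw [← borel_card hF P, ← hd, ← hcard]
      exact Nat.mul_dvd_mul_right (Subgroup.card_dvd_of_le (hDM.le.trans hP)) d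
    rcases hn with hn | hn
    · rw [mul_assoc, mul_comm n d, hn] at hdvd
      have hq2 : 2 ∣ q := Nat.dvd_of_mul_dvd_mul_right (by omega) hdvd
      obtain ⟨j, -, hj⟩ := FiniteField.card F p
      have hp2 : p = 2 := ((Nat.prime_dvd_prime_iff_eq Nat.prime_two (Fact.out : p.Prime)).1
        (Nat.prime_two.dvd_of_dvd_pow (hj ▸ hF.symm ▸ hq2))).symm
      subst hp2
      have hscN : s * c ∈ Subgroup.normalizer ((P : Subgroup (PSL F)) : Set (PSL F)) :=
        hP (mul_mem hsM hcM)
      have hcomm := borel_commute P (hP hsM) hscN hs2 hsc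
      exact hnc (mul_left_cancel (hcomm.eq.trans (mul_assoc s c s)) : s * c = c * s)
    · rw [mul_assoc, mul_comm n d, hn] at hdvd
      have h1 : q + 1 ∣ q * (q - 1) := (dvd_mul_left _ 2).trans hdvd
      have h2 : q + 1 ∣ q - 1 := (Nat.Coprime.dvd_of_dvd_mul_left (Nat.coprime_self_add_left.2 (Nat.coprime_one_left q)) h1)
      have := Nat.le_of_dvd (by omega) h2
      omega
  · have h5 := orderOf_le_five (Or.inl hM) hcM
    rcases hsmall with h | ⟨-, hn', hS⟩
    · omega
    · obtain ⟨e'⟩ := hM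
      rcases hn' with rfl | rfl
      · rcases order_alt_four (e' ⟨c, hcM⟩) with h | h <;>
          have := orderOf_le_of_pow (by norm_num) h <;>
          rw [e'.orderOf_eq, Subgroup.orderOf_mk, hco] at this <;> omega
      · have hc3 : c ^ 3 = 1 := hco ▸ pow_orderOf_eq_one c
        have hconj : s * c * s⁻¹ = c⁻¹ := by
          rw [inv_eq_of_mul_eq_one_right (show s * s = 1 by rw [← pow_two]; exact hs2)]
          rw [pow_two] at hsc
          exact eq_inv_of_mul_eq_one_left (by rw [mul_assoc, mul_assoc, ← mul_assoc s c]; exact hsc)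
        have h1 := no_sym_three_alt_four (e' ⟨s, hsM⟩) (e' ⟨c, hcM⟩)
          (by rw [← map_pow, ← map_one e']; exact congrArg e' (Subtype.ext hs2))
          (by rw [← map_pow, ← map_one e']; exact congrArg e' (Subtype.ext hc3))
          (by rw [← map_inv, ← map_mul, ← map_mul, ← map_inv]; exact congrArg e' (Subtype.ext hconj))
        rw [← map_one e'] at h1
        have : c = 1 := congrArg Subtype.val (e'.injective h1)
        rw [this, orderOf_one] at hco
        omega
  · have h5 := orderOf_le_five (Or.inr (Or.inl hM)) hcM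
    rcases hsmall with h | ⟨-, -, hS⟩
    · omega
    · exact no_perm_four_of hF hS hM.some hS4
  · have h5 := orderOf_le_five (Or.inr (Or.inr hM)) hcM
    rcases hsmall with h | ⟨hle, -, -⟩
    · omega
    · refine hMtop (Subgroup.eq_top_of_le_card _ (hle.trans (le_of_eq ?_)))
      rw [Nat.card_congr hM.some.toEquiv, nat_card_alternatingGroup, Nat.card_fin]
      rfl
  · by_cases hKq : Fintype.card K = q
    · exact hMtop (eq_top_of_subfield (p := p) hF hKq hM)
    · have hord := orderOf_le_of_subfield hM hcM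
      rw [hco] at hord
      set k := Fintype.card K
      have hk1 : 1 < k := Fintype.one_lt_card
      have hm2 : 2 ≤ m := by
        rcases m with _ | _ | m
        · rw [pow_zero] at hm; omega
        · rw [pow_one] at hm; exact absurd hm hKq
        · omega
      have hkk : k * k ≤ q := by
        rw [← hm, ← pow_two]
        exact Nat.pow_le_pow_right (by omega) hm2
      have hkd : k ≤ 3 := by
        by_contra hk4
        have h4k := Nat.mul_le_mul_right k (show 4 ≤ k by omega)
        rcases hd2 with h | h <;> rw [h] at hn <;> omega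
      -- only fields with two or three elements remain
      rcases (show k = 2 ∨ k = 3 by omega) with hk | hk
      · have hde : d = 1 := by
          rcases hd2 with h | h
          · exact h
          · exfalso
            have : 2 ∣ q - 1 := h ▸ Nat.gcd_dvd_right 2 (q - 1)
            have : 2 ∣ q := hm ▸ hk.symm ▸ dvd_pow_self 2 (by omega)
            omega
        have hq4 : q ≤ 4 := by rw [hde] at hn; omega
        obtain ⟨p', hchar⟩ := CharP.exists K
        obtain ⟨j, hp', -⟩ := FiniteField.card K p'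
        haveI := Fact.mk hp'
        have hle : Nat.card M ≤ 6 := by
          rcases hM with ⟨⟨e'⟩⟩ | ⟨⟨e'⟩⟩
          · have h := card_psl (F := K) rfl (p := p')
            rw [← Nat.card_congr e'.toEquiv, show Fintype.card K = 2 from hk] at h
            rw [show Nat.gcd 2 (2 - 1) = 1 from rfl, mul_one] at h
            exact h.le
          · rw [Nat.card_congr e'.toEquiv, card_pgl_two, show Fintype.card K = 2 from hk]
        omega
      · rcases hd2 with h | h
        · have : q % 2 = 0 := by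
            by_contra hodd
            have := Nat.gcd_dvd_right 2 (q - 1)
            have h2 : Nat.gcd 2 (q - 1) = 2 := Nat.gcd_eq_left (by omega)
            omega
          rw [← hm, hk, Nat.pow_mod] at this
          simp at this
        · have hqle : q ≤ 9 := by rw [h] at hn; omega
          rw [hk] at hkk
          omega

end CfsgLib.Dickson
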