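import Cfsg.Agent.Lib.DicksonKlein

/-! Fields of definition of the polyhedral subgroups of `PSL₂`. -/

set_option autoImplicit false
set_option linter.style.haveILetI false

universe u

namespace CfsgLib.Dickson

open Matrix

theorem klein_sign_four : ∃ u v : Equiv.Perm (Fin 4), Equiv.Perm.sign u = 1 ∧ Equiv.Perm.sign v = 1 ∧
    u * u = 1 ∧ v * v = 1 ∧ u ≠ 1 ∧ v ≠ 1 ∧ u ≠ v ∧ u * v = v * u ∧
    ∀ x, (x * u * x⁻¹ = u ∨ x * u * x⁻¹ = v ∨ x * u * x⁻¹ = u * v) ∧
      (x * v * x⁻¹ = u ∨ x * v * x⁻¹ = v ∨ x * v * x⁻¹ = u * v) :=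
  ⟨Equiv.swap 0 1 * Equiv.swap 2 3, Equiv.swap 0 2 * Equiv.swap 1 3, by decide +kernel⟩

theorem klein_alt_four : ∃ u v : alternatingGroup (Fin 4),
    u * u = 1 ∧ v * v = 1 ∧ u ≠ 1 ∧ v ≠ 1 ∧ u ≠ v ∧ u * v = v * u ∧
    ∀ x, (x * u * x⁻¹ = u ∨ x * u * x⁻¹ = v ∨ x * u * x⁻¹ = u * v) ∧
      (x * v * x⁻¹ = u ∨ x * v * x⁻¹ = v ∨ x * v * x⁻¹ = u * v) :=
  ⟨⟨Equiv.swap 0 1 * Equiv.swap 2 3, Equiv.Perm.mem_alternatingGroup.2 (by decide +kernel)⟩,
    ⟨Equiv.swap 0 2 * Equiv.swap 1 3, Equiv.Perm.mem_alternatingGroup.2 (by decide +kernel)⟩,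
    by decide +kernel⟩

theorem order_perm_four_even : ∀ x : Equiv.Perm (Fin 4), Equiv.Perm.sign x = 1 → x ^ 2 = 1 ∨ x ^ 3 = 1 := by
  decide +kernel

theorem order_perm_four_odd : ∀ x : Equiv.Perm (Fin 4), Equiv.Perm.sign x ≠ 1 → x ^ 4 = 1 ∧ x ≠ 1 := by
  decide +kernel

theorem exists_order_four : ∃ x : Equiv.Perm (Fin 4), x ^ 4 = 1 ∧ x ^ 2 ≠ 1 :=
  ⟨finRotate 4, by decide +kernel⟩

attribute [local instance] _root_.Classical.propDecidable

variable {F : Type u} [Field F]

/-- The entries are determined by four traces. -/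
theorem mem_overSub_of_traces (h2 : (2 : F) ≠ 0) {E : Subfield F} {a b : F} (ha : a ∈ E) (hb : b ∈ E)
    (hab : a * a + b * b = -1) {g : SL F} {r : F} (hr : r ≠ 0) (t0 : r * tr g ∈ E) (t1 : r * tr (g * stdI) ∈ E)
    (t2 : r * tr (g * stdJ a b hab) ∈ E) (t3 : r * tr (g * stdI * stdJ a b hab) ∈ E) : g ∈ overSub E := by
  have e1 : tr (g * stdI) = g.1 0 1 - g.1 1 0 := by
    simp only [tr, Matrix.SpecialLinearGroup.coe_mul]; simp [stdI, Matrix.mul_apply, Fin.sum_univ_two]; ring
  have e2 : tr (g * stdJ a b hab) = a * (g.1 0 0 - g.1 1 1) + b * (g.1 0 1 + g.1 1 0) := by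
    simp only [tr, Matrix.SpecialLinearGroup.coe_mul]; simp [stdJ, Matrix.mul_apply, Fin.sum_univ_two]; ring
  have e3 : tr (g * stdI * stdJ a b hab) = -b * (g.1 0 0 - g.1 1 1) + a * (g.1 0 1 + g.1 1 0) := by
    simp only [tr, Matrix.SpecialLinearGroup.coe_mul]; simp [stdI, stdJ, Matrix.mul_apply, Fin.sum_univ_two]; ring
  have hD : r * (g.1 0 0 - g.1 1 1) ∈ E := by
    have h := E.neg_mem (E.sub_mem (E.mul_mem ha t2) (E.mul_mem hb t3))
    rw [e2, e3] at h
    convert h using 1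
    linear_combination (r * (g.1 0 0 - g.1 1 1)) * hab
  have hS : r * (g.1 0 1 + g.1 1 0) ∈ E := by
    have h := E.neg_mem (E.add_mem (E.mul_mem hb t2) (E.mul_mem ha t3))
    rw [e2, e3] at h
    convert h using 1
    linear_combination (r * (g.1 0 1 + g.1 1 0)) * hab
  have half : ∀ x : F, 2 * x ∈ E → x ∈ E := fun x hx => by
    have h := E.mul_mem (E.inv_mem (natCast_mem E 2)) hx
    rwa [Nat.cast_ofNat, ← mul_assoc, inv_mul_cancel₀ h2, one_mul] at h
  rw [e1] at t1
  unfold tr at t0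
  refine ⟨r, hr, fun i j => half _ ?_⟩
  fin_cases i <;> fin_cases j
  · convert E.add_mem t0 hD using 1; simp only [Fin.zero_eta, Fin.isValue]; ring
  · convert E.add_mem hS t1 using 1; simp only [Fin.zero_eta, Fin.mk_one, Fin.isValue]; ring
  · convert E.sub_mem hS t1 using 1; simp only [Fin.zero_eta, Fin.mk_one, Fin.isValue]; ring
  · convert E.sub_mem t0 hD using 1; simp only [Fin.mk_one, Fin.isValue]; ring

variable {p : ℕ} [hp : Fact p.Prime] [CharP F p]

theorem zmod_mem (E : Subfield F) (x : ZMod p) : ZMod.castHom dvd_rfl F x ∈ E := by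
  rw [← ZMod.natCast_zmod_val x, map_natCast]
  exact natCast_mem E _

/-- A group containing a four-group is defined over a field containing its traces, up to scalars. -/
theorem over_of_traces (hp2 : p ≠ 2) (E : Subfield F) {M : Subgroup (PSL F)} {u v : PSL F} (h : KPair u v)
    (hM : ∀ x ∈ M, ∃ r : F, r ≠ 0 ∧ ∀ g : SL F,
      (mkP g = x ∨ mkP g = x * u ∨ mkP g = x * v ∨ mkP g = x * u * v) → r * tr g ∈ E) :
    ∃ f : SL F →* SL F, Function.Injective f ∧ ∀ g : SL F, mkP g ∈ M → f g ∈ overSub E := by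
  obtain ⟨a, b, hab⟩ := ZMod.sq_add_sq p (-1)
  have hab' : ZMod.castHom dvd_rfl F a * ZMod.castHom dvd_rfl F a +
      ZMod.castHom dvd_rfl F b * ZMod.castHom dvd_rfl F b = -1 := by
    rw [← map_mul, ← map_mul, ← map_add, ← sq, ← sq, hab, map_neg, map_one]
  have h2 := two_ne_zero_of_char (F := F) hp2
  obtain ⟨c, ht, hu, hv⟩ := klein_normal_form h2 hab' h
  refine ⟨c.toMonoidHom, c.injective, fun g hg => ?_⟩
  obtain ⟨r, hr, hall⟩ := hM _ hg
  have key : ∀ k : SL F, autP c (mkP g) * mkP k = mkP (c g * k) := fun k => by rw [autP_mk, map_mul]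
  refine mem_overSub_of_traces h2 (zmod_mem E a) (zmod_mem E b) hab' hr ?_ ?_ ?_ ?_
  · show r * tr (c g) ∈ E
    rw [ht]; exact hall g (Or.inl rfl)
  · show r * tr (c g * stdI) ∈ E
    rw [← c.apply_symm_apply (c g * stdI), ht]
    refine hall _ (Or.inr (Or.inl ((autP c).injective ?_)))
    rw [autP_mk, c.apply_symm_apply, map_mul (autP c), hu, key]
  · show r * tr (c g * stdJ _ _ hab') ∈ E
    rw [← c.apply_symm_apply (c g * stdJ _ _ hab'), ht]
    refine hall _ (Or.inr (Or.inr (Or.inl ((autP c).injective ?_))))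
    rw [autP_mk, c.apply_symm_apply, map_mul (autP c), hv, key]
  · show r * tr (c g * stdI * stdJ _ _ hab') ∈ E
    rw [← c.apply_symm_apply (c g * stdI * stdJ _ _ hab'), ht]
    refine hall _ (Or.inr (Or.inr (Or.inr ((autP c).injective ?_))))
    rw [autP_mk, c.apply_symm_apply, map_mul (autP c), map_mul (autP c), hu, hv, key, ← map_mul]

omit hp [CharP F p] in
/-- The traces of elements of order at most three. -/
theorem tr_small {g : SL F} {x : PSL F} (hg : mkP g = x) (h : x ^ 2 = 1 ∨ x ^ 3 = 1) (E : Subfield F) :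
    tr g ∈ E := by
  by_cases hs : IsScal g
  · rcases tr_of_scal hs with e | e <;> rw [e]
    · exact_mod_cast natCast_mem E 2
    · exact E.neg_mem (by exact_mod_cast natCast_mem E 2)
  rw [← hg] at h
  rcases h with h | h
  · rw [tr_of_sq hs (by rw [← pow_two]; exact isScal_pow_of_mkP h)]; exact E.zero_mem
  · have e := tr_of_cube hs (isScal_pow_of_mkP h)
    rcases mul_eq_zero.1 (show (tr g - 1) * (tr g + 1) = 0 by linear_combination e) with e | e
    · rw [sub_eq_zero.1 e]; exact E.one_mem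
    · rw [eq_neg_of_add_eq_zero_left e]; exact E.neg_mem E.one_mem

variable [Fintype F]

/-- `A₄` is defined over the prime field. -/
theorem alt_four_over (hp2 : p ≠ 2) (E : Subfield F) {M : Subgroup (PSL F)} (e : M ≃* alternatingGroup (Fin 4)) :
    ∃ f : SL F →* SL F, Function.Injective f ∧ ∀ g : SL F, mkP g ∈ M → f g ∈ overSub E := by
  obtain ⟨u, v, hu, hv, hu1, hv1, huv, hc, -⟩ := klein_alt_four
  set φ := M.subtype.comp e.symm.toMonoidHom with hφ
  have hφi : Function.Injective φ := Subtype.val_injective.comp e.symm.injective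
  refine over_of_traces hp2 E (KPair.map ⟨hu, hv, hu1, hv1, huv, hc⟩ φ hφi) fun x hx => ⟨1, one_ne_zero, ?_⟩
  intro g hg
  rw [one_mul]
  obtain ⟨y, rfl⟩ : ∃ y, φ y = x := ⟨e ⟨x, hx⟩, by simp [φ]⟩
  simp only [← map_mul] at hg
  rcases hg with h | h | h | h <;>
    exact tr_small h ((order_alt_four _).imp (fun o => by rw [← map_pow, o, map_one]) fun o => by
      rw [← map_pow, o, map_one]) E

/-- `A₅` is defined over any field containing the roots of `s² = s + 1`. -/
theorem alt_five_over (hp2 : p ≠ 2) (E : Subfield F) (hE : ∀ s : F, s * s = s + 1 → s ∈ E)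
    {M : Subgroup (PSL F)} (e : M ≃* alternatingGroup (Fin 5)) :
    ∃ f : SL F →* SL F, Function.Injective f ∧ ∀ g : SL F, mkP g ∈ M → f g ∈ overSub E := by
  obtain ⟨u, v, hu, hv, hu1, hv1, huv, hc, -⟩ := klein_alt_four
  obtain ⟨T, ⟨t⟩⟩ := CfsgLib.Classical.exists_alt_four_in_alt_five
  set φ := M.subtype.comp e.symm.toMonoidHom with hφ
  have hφi : Function.Injective φ := Subtype.val_injective.comp e.symm.injective
  set ψ := φ.comp (T.subtype.comp t.symm.toMonoidHom) with hψ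
  have hψi : Function.Injective ψ := hφi.comp (Subtype.val_injective.comp t.symm.injective)
  refine over_of_traces hp2 E (KPair.map ⟨hu, hv, hu1, hv1, huv, hc⟩ ψ hψi) fun x hx => ⟨1, one_ne_zero, ?_⟩
  intro g hg
  rw [one_mul]
  obtain ⟨y, rfl⟩ : ∃ y, φ y = x := ⟨e ⟨x, hx⟩, by simp [φ]⟩
  simp only [hψ, MonoidHom.comp_apply, ← map_mul φ] at hg
  have main : ∀ w, mkP g = φ w → tr g ∈ E := fun w h => by
    rcases order_alt_five w with o | o | o
    · exact tr_small h (Or.inl (by rw [← map_pow, o, map_one])) E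
    · exact tr_small h (Or.inr (by rw [← map_pow, o, map_one])) E
    by_cases hs : IsScal g
    · exact tr_small h (Or.inl (by rw [← h, ← map_pow, mkP_eq_one, pow_two, isScal_sq hs]; exact isScal_one)) E
    rcases mul_eq_zero.1 (tr_of_five hs (isScal_pow_of_mkP (by rw [h, ← map_pow, o, map_one]))) with r | r
    · rw [← neg_neg (tr g)]; exact E.neg_mem (hE _ (by linear_combination r))
    · exact hE _ (by linear_combination r)
  rcases hg with h | h | h | h <;> exact main _ h

/-- `S₄` is defined over the prime field, up to scalars. -/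
theorem perm_four_over (hp2 : p ≠ 2) (E : Subfield F) {M : Subgroup (PSL F)} (e : M ≃* Equiv.Perm (Fin 4)) :
    ∃ f : SL F →* SL F, Function.Injective f ∧ ∀ g : SL F, mkP g ∈ M → f g ∈ overSub E := by
  obtain ⟨u, v, su, sv, hu, hv, hu1, hv1, huv, hc, -⟩ := klein_sign_four
  set φ := M.subtype.comp e.symm.toMonoidHom with hφ
  have hφi : Function.Injective φ := Subtype.val_injective.comp e.symm.injective
  obtain ⟨z, hz4, hz2⟩ := exists_order_four
  obtain ⟨G, hG⟩ := mkP_surjective (φ z)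
  have hGs : ¬ IsScal G := fun h => hz2 (hφi (by
    rw [map_pow, ← hG, mkP_eq_one.2 h, one_pow, map_one]))
  have hr : tr G ^ 2 = 2 := (tr_of_four hGs (isScal_pow_of_mkP (by rw [hG, ← map_pow, hz4, map_one]))).resolve_left
    fun h => hz2 (hφi (by
      rw [map_pow, ← hG, ← map_pow, map_one, mkP_eq_one, pow_two]
      have h' : G * G = -1 := Subtype.ext (by
        rw [Matrix.SpecialLinearGroup.coe_mul, mul_self_eq, h, zero_smul, zero_sub, Matrix.SpecialLinearGroup.coe_neg,
          Matrix.SpecialLinearGroup.coe_one])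
      rw [h']; exact neg_one_isScal))
  refine over_of_traces hp2 E (KPair.map ⟨hu, hv, hu1, hv1, huv, hc⟩ φ hφi) fun x hx => ?_
  obtain ⟨y, rfl⟩ : ∃ y, φ y = x := ⟨e ⟨x, hx⟩, by simp [φ]⟩
  have hwn : ∀ g : SL F, (mkP g = φ y ∨ mkP g = φ y * φ u ∨ mkP g = φ y * φ v ∨ mkP g = φ y * φ u * φ v) →
      ∃ w, mkP g = φ w ∧ Equiv.Perm.sign w = Equiv.Perm.sign y := by
    intro g hg
    rcases hg with h | h | h | h
    · exact ⟨y, h, rfl⟩
    · exact ⟨y * u, by rw [h, map_mul], by rw [map_mul, su, mul_one]⟩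
    · exact ⟨y * v, by rw [h, map_mul], by rw [map_mul, sv, mul_one]⟩
    · exact ⟨y * u * v, by rw [h, map_mul, map_mul], by rw [map_mul, map_mul, su, sv, mul_one, mul_one]⟩
  by_cases hy : Equiv.Perm.sign y = 1
  · refine ⟨1, one_ne_zero, fun g hg => ?_⟩
    obtain ⟨w, hw, hs⟩ := hwn g hg
    rw [one_mul]
    exact tr_small hw ((order_perm_four_even w (hs.trans hy)).imp (fun o => by rw [← map_pow, o, map_one])
      fun o => by rw [← map_pow, o, map_one]) E
  · refine ⟨tr G, fun h => two_ne_zero_of_char (F := F) hp2 (by rw [← hr, h]; ring), fun g hg => ?_⟩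
    obtain ⟨w, hw, hs⟩ := hwn g hg
    obtain ⟨o4, o1⟩ := order_perm_four_odd w (hs ▸ hy)
    have hgs : ¬ IsScal g := fun h => o1 (hφi (by rw [← hw, mkP_eq_one.2 h, map_one]))
    rcases tr_of_four hgs (isScal_pow_of_mkP (by rw [hw, ← map_pow, o4, map_one])) with h | h
    · rw [h, mul_zero]; exact E.zero_mem
    rcases mul_eq_zero.1 (show (tr g - tr G) * (tr g + tr G) = 0 by linear_combination h - hr) with r | r
    · rw [sub_eq_zero.1 r, ← pow_two, hr]; exact_mod_cast natCast_mem E 2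
    · rw [eq_neg_of_add_eq_zero_left r, mul_neg, ← pow_two, hr]
      exact E.neg_mem (by exact_mod_cast natCast_mem E 2)

/-- Roots of `s² = s + 1` lie in the field with `p ^ a` elements when that field contains one. -/
theorem root_mem_fixField {a s : ℕ} (ha : a ≠ 0) (hq : Fintype.card F = (p ^ a) ^ s)
    (h5 : 5 ∣ p ^ a * (p ^ a - 1) * (p ^ a + 1)) (t : F) (ht : t * t = t + 1) : t ∈ fixField (F := F) p a := by
  haveI : Fintype (GaloisField p a) := Fintype.ofFinite _
  have hL : Fintype.card (GaloisField p a) = p ^ a := by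
    rw [← Nat.card_eq_fintype_card, GaloisField.card p a ha]
  have hs : s ≠ 0 := by
    rintro rfl
    rw [pow_zero] at hq
    have := Fintype.one_lt_card (α := F)
    omega
  obtain ⟨φ⟩ := exists_field_hom (F := F) hL hq hs
  obtain ⟨t0, ht0⟩ := CfsgLib.Classical.exists_root_of_five_dvd (F := GaloisField p a)
    (by rw [CfsgLib.Classical.Two.card_sl_two, hL]; exact h5)
  have hm := map_mem_fixField (p := p) (a := a) φ (j := 1) (by rw [pow_one, hL]) t0
  have e : φ t0 * φ t0 = φ t0 + 1 := by rw [← map_mul, ht0, map_add, map_one]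
  rcases mul_eq_zero.1 (show (t - φ t0) * (t + φ t0 - 1) = 0 by linear_combination ht - e) with r | r
  · rw [sub_eq_zero.1 r]; exact hm
  · rw [show t = 1 - φ t0 by linear_combination r]; exact (fixField p a).sub_mem (fixField p a).one_mem hm

end CfsgLib.Dickson
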