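import Cfsg.Agent.Lib.DicksonOvergroups
import Cfsg.Agent.Lib.ClassicalPSLTwoPoly
import Cfsg.Agent.S0803
import Cfsg.Agent.S0804

/-! Maximality of the polyhedral subgroups of `PSL₂(q)`. -/

set_option autoImplicit false
set_option linter.style.haveILetI false
set_option synthInstance.maxSize 4000

universe u

namespace CfsgLib.Dickson

open Matrix
open scoped commutatorElement

/-- Two elements of order greater than two not commuting, with commutator an involution. -/
def HasPair (H : Type*) [Group H] : Prop :=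
  ∃ a b : H, a * a ≠ 1 ∧ b * b ≠ 1 ∧ a * b ≠ b * a ∧
    (a * b * a⁻¹ * b⁻¹) * (a * b * a⁻¹ * b⁻¹) = 1

theorem hasPair_alt_four : HasPair (alternatingGroup (Fin 4)) := by
  unfold HasPair; decide +kernel

theorem hasPair_map {H H' : Type*} [Group H] [Group H'] (f : H →* H') (hf : Function.Injective f)
    (h : HasPair H) : HasPair H' := by
  obtain ⟨a, b, h1, h2, h3, h4⟩ := h
  refine ⟨f a, f b, fun e => h1 (hf ?_), fun e => h2 (hf ?_), fun e => h3 (hf ?_), ?_⟩
  · rw [map_mul, map_one, e]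
  · rw [map_mul, map_one, e]
  · rw [map_mul, map_mul, e]
  · rw [← map_inv, ← map_inv, ← map_mul, ← map_mul, ← map_mul, ← map_mul, h4, map_one]

theorem hasPair_perm_four : HasPair (Equiv.Perm (Fin 4)) :=
  hasPair_map (alternatingGroup (Fin 4)).subtype Subtype.val_injective hasPair_alt_four

theorem hasPair_alt_five : HasPair (alternatingGroup (Fin 5)) := by
  obtain ⟨T, ⟨e⟩⟩ := CfsgLib.Classical.exists_alt_four_in_alt_five
  exact hasPair_map (T.subtype.comp e.symm.toMonoidHom) (Subtype.val_injective.comp e.symm.injective)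
    hasPair_alt_four

variable {F : Type u} [Field F] [Fintype F] {p : ℕ} [hp : Fact p.Prime] [CharP F p]

/-- Overgroups of a group with such a pair are polyhedral or over a subfield. -/
theorem overgroup_cases {q : ℕ} (hF : Fintype.card F = q) (hp2 : p ≠ 2) {H M : Subgroup (PSL F)}
    (hH : HasPair H) (hle : H ≤ M) :
    Nonempty (M ≃* alternatingGroup (Fin 4)) ∨ Nonempty (M ≃* Equiv.Perm (Fin 4)) ∨
      Nonempty (M ≃* alternatingGroup (Fin 5)) ∨
      (∃ (K : Type) (_ : Field K) (_ : Fintype K) (m : ℕ), Fintype.card K ^ m = q ∧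
        (Nonempty (M ≃* ProjectiveSpecialLinearGroup (Fin 2) K) ∨ Nonempty (M ≃* ProjGenLinGroup (Fin 2) K))) := by
  obtain ⟨⟨a, ha⟩, ⟨b, hb⟩, h1, h2, h3, h4⟩ := hH
  have ha2 : a * a ≠ 1 := fun e => h1 (Subtype.ext e)
  have hb2 : b * b ≠ 1 := fun e => h2 (Subtype.ext e)
  have hab : ¬ Commute a b := fun e => h3 (Subtype.ext e.eq)
  have hc2 : ⁅a, b⁆ ^ 2 = 1 := by
    rw [pow_two, commutatorElement_def]
    exact congrArg Subtype.val h4
  rcases dickson_list hF p M with ⟨k, -, hM⟩ | ⟨P, hP⟩ | h | h | h | h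
  · exact absurd (commute_of_cyclic_or_dihedral (hM.imp (fun h => h.1) id) (hle ha) (hle hb) ha2 hb2) hab
  · exfalso
    have hcp := borel_commutator P (hP (hle ha)) (hP (hle hb))
    apply hab
    rw [← commutatorElement_eq_one_iff_commute, ← pow_one ⁅a, b⁆]
    have hcop : Nat.Coprime 2 p := (Nat.coprime_primes Nat.prime_two hp.out).2 (Ne.symm hp2)
    rw [← hcop.gcd_eq_one]
    exact pow_gcd_eq_one.2 ⟨hc2, hcp⟩
  · exact Or.inl h
  · exact Or.inr (Or.inl h)
  · exact Or.inr (Or.inr (Or.inl h))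
  · exact Or.inr (Or.inr (Or.inr h))

theorem five_dvd_iff (p : ℕ) (hp : p.Prime) : 5 ∣ p * (p ^ 2 - 1) ↔ p = 5 ∨ p % 5 = 1 ∨ p % 5 = 4 := by
  have h1 : p % 5 < 5 := Nat.mod_lt _ (by norm_num)
  have hp1 : 1 ≤ p ^ 2 := Nat.one_le_pow _ _ hp.pos
  have hsq : p ^ 2 % 5 = (p % 5) ^ 2 % 5 := Nat.pow_mod _ _ _
  rw [Nat.prime_five.dvd_mul, Nat.prime_dvd_prime_iff_eq Nat.prime_five hp, Nat.dvd_iff_mod_eq_zero]
  generalize p % 5 = r at h1 hsq ⊢
  interval_cases r <;> norm_num at hsq ⊢ <;> omega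

omit hp [CharP F p] in
theorem card_top_of_five (p : ℕ) [Fact p.Prime] [CharP F p] {q : ℕ} (hF : Fintype.card F = q) (h5 : q = 5) :
    Nat.card (PSL F) = 60 := by
  have h := card_psl hF (p := p)
  subst h5
  rw [show Nat.gcd 2 (5 - 1) = 2 from rfl] at h
  omega

theorem sq_mod_sixteen (p : ℕ) (h : p % 8 = 3 ∨ p % 8 = 5) : p ^ 2 % 16 ≠ 1 := by
  have h16 := Nat.mod_lt p (show 16 > 0 by norm_num)
  rw [Nat.pow_mod]
  have h8 : p % 8 = p % 16 % 8 := by omega
  rw [h8] at h
  generalize p % 16 = r at h h16 ⊢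
  interval_cases r <;> first | omega | norm_num

end CfsgLib.Dickson
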