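import Cfsg.Agent.Lib.DicksonKleinCount
import Cfsg.Agent.Lib.DicksonDihedral
import Cfsg.Agent.Lib.ClassicalTetra

/-!
# Klein's classification of the semisimple groups

`L` satisfies the centraliser axioms relative to `Z` and has order prime to `p`; `H` is `L ⧸ Z`.
-/

set_option autoImplicit false
set_option linter.style.haveILetI false

universe u v

namespace CfsgLib.Klein

attribute [local instance] _root_.Classical.propDecidable

/-- the solutions with two classes, of indices one and two -/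
theorem arith_cyclic_pair {g a b : ℕ} (ha : 2 ≤ a) (hb : 2 ≤ b) (hg : 2 * b ≤ g)
    (h : (g : ℤ) * (2 * b * (a - 1) + a * (b - 1)) = (g - 1) * (2 * a * b)) :
    (a = 2 ∧ g = 2 * b) ∨ (a = 3 ∧ b = 2 ∧ g = 12) := by
  have key : (g : ℤ) * (a + 2 * b - a * b) = 2 * a * b := by linear_combination -h
  have hpos : (0 : ℤ) < a + 2 * b - a * b := by
    by_contra hh
    push Not at hh
    have : (g : ℤ) * (a + 2 * b - a * b) ≤ 0 := mul_nonpos_of_nonneg_of_nonpos (by positivity) hh
    have : (0 : ℤ) < 2 * a * b := by positivity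
    omega
  rcases (show a = 2 ∨ 3 ≤ a by omega) with rfl | ha3
  · left
    refine ⟨rfl, ?_⟩
    push_cast at key
    have : (g : ℤ) = 2 * b := by linarith
    exact_mod_cast this
  · right
    have haZ : (3 : ℤ) ≤ a := by exact_mod_cast ha3
    have hbZ : (2 : ℤ) ≤ b := by exact_mod_cast hb
    have hb2 : b = 2 := by
      by_contra hne
      have hb3 : (3 : ℤ) ≤ b := by exact_mod_cast (show 3 ≤ b by omega)
      nlinarith
    subst hb2
    push_cast at key hpos
    have : a = 3 := by omega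
    subst this
    push_cast at key
    exact ⟨rfl, rfl, by omega⟩

/-- the solutions with three classes -/
theorem arith_triple {g a b c : ℕ} (ha : 2 ≤ a) (hab : a ≤ b) (hbc : b ≤ c) (hg : 0 < g)
    (h : (g : ℤ) * ((a - 1) * b * c + (b - 1) * a * c + (c - 1) * a * b) = (g - 1) * (2 * a * b * c)) :
    (a = 2 ∧ b = 2 ∧ g = 2 * c) ∨
      (a = 2 ∧ b = 3 ∧ ((c = 3 ∧ g = 12) ∨ (c = 4 ∧ g = 24) ∨ (c = 5 ∧ g = 60))) := by
  have key : (g : ℤ) * (b * c + a * c + a * b - a * b * c) = 2 * a * b * c := by linear_combination -h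
  have haZ : (2 : ℤ) ≤ a := by exact_mod_cast ha
  have habZ : (a : ℤ) ≤ b := by exact_mod_cast hab
  have hbcZ : (b : ℤ) ≤ c := by exact_mod_cast hbc
  have hpos : (0 : ℤ) < b * c + a * c + a * b - a * b * c := by
    by_contra hh
    push Not at hh
    have h1 : (g : ℤ) * (b * c + a * c + a * b - a * b * c) ≤ 0 :=
      mul_nonpos_of_nonneg_of_nonpos (by positivity) hh
    have h2 : (0 : ℤ) < 2 * a * b * c := mul_pos (mul_pos (mul_pos two_pos (by omega)) (by omega)) (by omega)
    omega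
  have ha2 : a = 2 := by
    by_contra hne
    have h3 : (3 : ℤ) ≤ a := by exact_mod_cast (show 3 ≤ a by omega)
    nlinarith [mul_le_mul_of_nonneg_right habZ (show (0 : ℤ) ≤ c by omega),
      mul_le_mul_of_nonneg_left hbcZ (show (0 : ℤ) ≤ a by omega),
      mul_le_mul_of_nonneg_right h3 (show (0 : ℤ) ≤ (b : ℤ) * c by positivity)]
  subst ha2
  push_cast at key hpos haZ habZ
  rcases (show b = 2 ∨ b = 3 ∨ 4 ≤ b by omega) with rfl | rfl | hb4
  · left
    push_cast at key
    have : (g : ℤ) = 2 * c := by linarith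
    exact ⟨rfl, rfl, by exact_mod_cast this⟩
  · right
    push_cast at key hpos hbcZ
    have hc : c = 3 ∨ c = 4 ∨ c = 5 := by omega
    refine ⟨rfl, rfl, ?_⟩
    rcases hc with rfl | rfl | rfl <;> push_cast at key <;> omega
  · exfalso
    have : (4 : ℤ) ≤ b := by exact_mod_cast hb4
    nlinarith

variable {L : Type u} [Group L] [Finite L] {H : Type v} [Group H] {p : ℕ} [hp : Fact p.Prime]
  {Z : Subgroup L} {π : L →* H}

/-- `π` presents `H` as the quotient of `L` by `Z`. -/
structure IsProj (π : L →* H) (Z : Subgroup L) : Prop where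
  surj : Function.Surjective π
  ker : π.ker = Z

theorem IsProj.eq_one (hπ : IsProj π Z) {x : L} : π x = 1 ↔ x ∈ Z := by
  rw [← hπ.ker, MonoidHom.mem_ker]

theorem IsProj.finite (hπ : IsProj π Z) : Finite H := Finite.of_surjective π hπ.surj

theorem IsProj.comap_map (hπ : IsProj π Z) {S : Subgroup L} (hS : Z ≤ S) : (S.map π).comap π = S :=
  Subgroup.comap_map_eq_self (hπ.ker ▸ hS)

theorem IsProj.mem_map (hπ : IsProj π Z) {S : Subgroup L} (hS : Z ≤ S) {x : L} : π x ∈ S.map π ↔ x ∈ S := by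
  rw [← Subgroup.mem_comap, hπ.comap_map hS]

theorem IsProj.card_eq (hπ : IsProj π Z) : Nat.card Z * Nat.card H = Nat.card L := by
  have h := Subgroup.card_mul_index π.ker
  rw [Subgroup.index_ker, MonoidHom.range_eq_top.mpr hπ.surj, Subgroup.card_top, hπ.ker] at h
  exact h

theorem IsProj.card_map (hπ : IsProj π Z) {S : Subgroup L} (hS : Z ≤ S) :
    Nat.card Z * Nat.card (S.map π) = Nat.card S := by
  have := hπ.finite
  have h1 := Subgroup.index_map_eq (H := S) hπ.surj (hπ.ker ▸ hS)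
  have h2 := (S.map π).card_mul_index
  have h3 := S.card_mul_index
  rw [h1] at h2
  rw [← hπ.card_eq, ← h2, ← mul_assoc] at h3
  exact (Nat.eq_of_mul_eq_mul_right (Nat.pos_of_ne_zero Subgroup.index_ne_zero_of_finite) h3).symm

variable (ax : Core p Z) (hπ : IsProj π Z) (hreg : ¬ p ∣ Nat.card L)

include hreg in
omit hp in
theorem regular (h : L) : ¬ p ∣ orderOf h := fun hd => hreg (hd.trans (orderOf_dvd_natCard h))

include ax hπ in
theorem card_cent_map (h : L) : Nat.card ((cent h).map π) = Z.relIndex (cent h) := by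
  refine Nat.eq_of_mul_eq_mul_left (Nat.card_pos (α := Z)) ?_
  rw [hπ.card_map (ax.z_le_cent h), CfsgLib.Core.card_mul_relIndex (ax.z_le_cent h)]

include ax hπ hreg

/-- the number of images of a class of centralisers -/
theorem class_unit [Fintype L] {h : L} (hh : h ∉ Z) :
    ∃ u s : ℕ, (classUnion Z (cent h)).card = Nat.card Z * u ∧ (s = 1 ∨ s = 2) ∧
      2 ≤ Z.relIndex (cent h) ∧ s * Z.relIndex (cent h) ≤ Nat.card H ∧
      Nat.card ((Subgroup.normalizer (cent h : Set L)).map π) = s * Z.relIndex (cent h) ∧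
      u * (s * Z.relIndex (cent h)) = Nat.card H * (Z.relIndex (cent h) - 1) := by
  obtain ⟨s, hs, hd, -, hC, hN, hU⟩ := ax.class_data hh (regular (hreg := hreg) h)
  have := hπ.finite
  have hZN : Z ≤ Subgroup.normalizer (cent h : Set L) := (ax.z_le_cent h).trans Subgroup.le_normalizer
  have hNm : Nat.card ((Subgroup.normalizer (cent h : Set L)).map π) = s * Z.relIndex (cent h) := by
    refine Nat.eq_of_mul_eq_mul_left (Nat.card_pos (α := Z)) ?_
    rw [hπ.card_map hZN, hN, hC]
    ring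
  have hdvd := Subgroup.card_subgroup_dvd_card ((Subgroup.normalizer (cent h : Set L)).map π)
  rw [hNm] at hdvd
  obtain ⟨m, hm⟩ := hdvd
  have hle : s * Z.relIndex (cent h) ≤ Nat.card H := Nat.le_of_dvd Nat.card_pos ⟨m, hm⟩
  refine ⟨m * (Z.relIndex (cent h) - 1), s, ?_, hs, hd, hle, hNm, by rw [hm]; ring⟩
  have hsd : 0 < s * Z.relIndex (cent h) := Nat.mul_pos (by omega) (by omega)
  refine Nat.eq_of_mul_eq_mul_right hsd ?_
  rw [hU, ← hπ.card_eq, hm]
  ring

omit hreg in
theorem map_normalizer (h : L) :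
    Subgroup.normalizer (((cent h).map π : Subgroup H) : Set H) =
      (Subgroup.normalizer (cent h : Set L)).map π := by
  refine Subgroup.comap_injective hπ.surj ?_
  rw [Subgroup.comap_normalizer_eq_of_surjective _ hπ.surj, hπ.comap_map (ax.z_le_cent h),
    hπ.comap_map ((ax.z_le_cent h).trans Subgroup.le_normalizer)]

omit hπ in
theorem inverts {h g x : L} (hh : h ∉ Z) (hg : g ∈ Subgroup.normalizer (cent h : Set L)) (hgC : g ∉ cent h)
    (hx : x ∈ cent h) : g * x * g⁻¹ = x⁻¹ := by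
  by_cases hxZ : x ∈ Z
  · have hw : ∀ y, y ∈ cent h → y ∉ Z → g * y * g⁻¹ = y⁻¹ := fun y hy hyZ => by
      have hc := ax.cent_eq hh hyZ (mem_cent.1 hy)
      refine (ax.conj_inv y hyZ (regular (hreg := hreg) y) g ?_).resolve_left fun e => hgC ?_
      · rw [← mem_cent, hc]; exact (Subgroup.mem_normalizer_iff.1 hg y).1 hy
      · rw [← hc, mem_cent]; exact mul_inv_eq_iff_eq_mul.1 e
    have hhx : h * x ∈ cent h := mul_mem (mem_cent.2 (Commute.refl h)) hx
    have hhxZ : h * x ∉ Z := fun e => hh (by simpa using mul_mem e (inv_mem hxZ))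
    have e1 := hw h (mem_cent.2 (Commute.refl h)) hh
    have e2 := hw (h * x) hhx hhxZ
    rw [show g * (h * x) * g⁻¹ = (g * h * g⁻¹) * (g * x * g⁻¹) by group, e1,
      (ax.commute_z hxZ h).symm.eq, mul_inv_rev] at e2
    exact mul_left_cancel e2
  · have hc := ax.cent_eq hh hxZ (mem_cent.1 hx)
    refine (ax.conj_inv x hxZ (regular (hreg := hreg) x) g ?_).resolve_left fun e => hgC ?_
    · rw [← mem_cent, hc]; exact (Subgroup.mem_normalizer_iff.1 hg x).1 hx
    · rw [← hc, mem_cent]; exact mul_inv_eq_iff_eq_mul.1 e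

omit hπ in
theorem sq_mem {h g : L} (hh : h ∉ Z) (hg : g ∈ Subgroup.normalizer (cent h : Set L)) (hgC : g ∉ cent h) :
    g * g ∈ Z := by
  by_contra hn
  have h1 : g * g * h * (g * g)⁻¹ = h := by
    calc g * g * h * (g * g)⁻¹ = g * (g * h * g⁻¹) * g⁻¹ := by group
      _ = g * h⁻¹ * g⁻¹ := by rw [inverts ax hreg hh hg hgC (mem_cent.2 (Commute.refl h))]
      _ = (g * h * g⁻¹)⁻¹ := by group
      _ = h := by rw [inverts ax hreg hh hg hgC (mem_cent.2 (Commute.refl h)), inv_inv]
  have hmem : g * g ∈ cent h := mem_cent.2 (mul_inv_eq_iff_eq_mul.1 h1)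
  refine hgC ?_
  rw [← ax.cent_eq hh hn (mem_cent.1 hmem), mem_cent]
  exact (Commute.refl g).mul_right (Commute.refl g)

/-- A centraliser whose image has index two and is not self-normalising gives a dihedral group. -/
theorem dihedral_of_index_two [Fintype L] {h : L} (hh : h ∉ Z) (hcyc : IsCyclic (cent h))
    (hN : Nat.card ((Subgroup.normalizer (cent h : Set L)).map π) = 2 * Z.relIndex (cent h))
    (hg : Nat.card H = 2 * Z.relIndex (cent h)) :
    Nonempty (H ≃* DihedralGroup (Z.relIndex (cent h))) := by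
  have := hπ.finite
  obtain ⟨g, hgN, hgC⟩ : ∃ g ∈ Subgroup.normalizer (cent h : Set L), g ∉ cent h := by
    refine SetLike.not_le_iff_exists.1 fun hle => ?_
    have := Subgroup.card_le_of_le (Subgroup.map_mono (f := π) hle)
    rw [hN, card_cent_map ax hπ] at this
    have : 0 < Z.relIndex (cent h) := Nat.pos_of_ne_zero Subgroup.index_ne_zero_of_finite
    omega
  obtain ⟨c, hc⟩ := hcyc.exists_generator
  have hmap : (cent h).map π = Subgroup.zpowers (π c) := by
    rw [← MonoidHom.map_zpowers]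
    congr 1
    refine le_antisymm (fun y hy => ?_) (Subgroup.zpowers_le.2 c.2)
    obtain ⟨n, hn⟩ := hc ⟨y, hy⟩
    exact ⟨n, congrArg Subtype.val hn⟩
  refine CfsgLib.Dickson.equiv_dihedral (c := π c) (g := π g) ?_ hg ?_ ?_ ?_
  · rw [← Nat.card_zpowers, ← hmap, card_cent_map ax hπ]
  · rw [← map_mul, hπ.eq_one]; exact sq_mem ax hreg hh hgN hgC
  · rw [← hmap, hπ.mem_map (ax.z_le_cent h)]; exact hgC
  · rw [← map_inv, ← map_mul, ← map_mul, inverts ax hreg hh hgN hgC c.2, map_inv]

omit hπ in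
theorem mem_cent_of_cube [Fintype L] {h y : L} (hh : h ∉ Z) (hyN : y ∈ Subgroup.normalizer (cent h : Set L))
    (hy : y ∉ Z) (hy3 : y ^ 3 ∈ Z) : y ∈ cent h := by
  by_contra hC
  refine hy ?_
  have h2 := sq_mem ax hreg hh hyN hC
  have : y = y ^ 3 * (y * y)⁻¹ := by group
  rw [this]
  exact mul_mem hy3 (inv_mem h2)

omit hreg in
theorem pow_relIndex_mem {h y : L} (hy : y ∈ cent h) : y ^ Z.relIndex (cent h) ∈ Z := by
  haveI : (Z.subgroupOf (cent h)).Normal := ⟨fun z hz g => by
    rw [Subgroup.mem_subgroupOf] at hz ⊢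
    push_cast
    rw [← (ax.commute_z hz (g : L)).eq, mul_inv_cancel_right]
    exact hz⟩
  have h1 := Subgroup.pow_index_mem (H := Z.subgroupOf (cent h)) ⟨y, hy⟩
  rw [Subgroup.mem_subgroupOf] at h1
  simpa [Subgroup.relIndex] using h1

theorem alt_four_of_pair [Fintype L] {h : L} (hh : h ∉ Z) (hd : Z.relIndex (cent h) = 3)
    (hN : Nat.card ((Subgroup.normalizer (cent h : Set L)).map π) = 3) (hg : Nat.card H = 12) :
    Nonempty (H ≃* alternatingGroup (Fin 4)) := by
  have := hπ.finite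
  set S := (cent h).map π with hS
  have hcard : Nat.card S = 3 := by rw [card_cent_map ax hπ, hd]
  have hidx : S.index = 4 := by
    have := S.index_mul_card
    rw [hcard, hg] at this
    omega
  refine CfsgLib.Classical.equiv_alternating_of_core_bot (by norm_num) S ?_ hidx (by rw [hg]; rfl)
  by_contra hne
  have hd' := Subgroup.card_dvd_of_le S.normalCore_le
  rw [hcard] at hd'
  rcases (Nat.dvd_prime Nat.prime_three).mp hd' with e | e
  · exact hne (Subgroup.card_eq_one.mp e)
  have heq : S.normalCore = S := Subgroup.eq_of_le_of_card_ge S.normalCore_le (by rw [hcard, e])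
  have hNm : S.Normal := heq ▸ Subgroup.normalCore_normal S
  have htop : Subgroup.normalizer (S : Set H) = ⊤ := eq_top_iff.mpr fun x _ =>
    Subgroup.mem_normalizer_iff.mpr fun y => ⟨fun hy => hNm.conj_mem y hy x,
      fun hy => by simpa [mul_assoc] using hNm.conj_mem _ hy x⁻¹⟩
  rw [← map_normalizer ax hπ, ← hS, htop, Subgroup.card_top, hg] at hN
  omega

theorem perm_four_of_triple [Fintype L] {h : L} (hh : h ∉ Z) (hd : Z.relIndex (cent h) = 3)
    (hN : Nat.card ((Subgroup.normalizer (cent h : Set L)).map π) = 6) (hg : Nat.card H = 24) :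
    Nonempty (H ≃* Equiv.Perm (Fin 4)) := by
  have := hπ.finite
  set M := Subgroup.normalizer (cent h : Set L) with hM
  set N := M.map π with hNdef
  have hZM : Z ≤ M := (ax.z_le_cent h).trans Subgroup.le_normalizer
  have hidx : N.index = 4 := by
    have := N.index_mul_card
    rw [hN, hg] at this
    omega
  refine CfsgLib.Classical.equiv_perm_of_core_bot N ?_ hidx (by rw [hg]; rfl)
  by_contra hne
  set K := N.normalCore.comap π with hK
  have hKM : K ≤ M := fun x hx => (hπ.mem_map hZM).mp (N.normalCore_le hx)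
  have hKn : K.Normal := (Subgroup.normalCore_normal N).comap π
  obtain ⟨⟨y', hy'⟩, hy1⟩ : ∃ y : N.normalCore, y ≠ 1 := by
    have : Nontrivial N.normalCore := (Subgroup.nontrivial_iff_ne_bot _).mpr hne
    exact exists_ne 1
  obtain ⟨y, rfl⟩ := hπ.surj y'
  have hyZ : y ∉ Z := fun e => hy1 (Subtype.ext (hπ.eq_one.mpr e))
  have hhC : h ∈ cent h := mem_cent.2 (Commute.refl h)
  have hh3 : h ^ 3 ∈ Z := hd ▸ pow_relIndex_mem ax hπ hhC
  -- some noncentral element of the centraliser lies in the core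
  obtain ⟨w, hwK, hwC, hwZ⟩ : ∃ w ∈ K, w ∈ cent h ∧ w ∉ Z := by
    by_cases hyC : y ∈ cent h
    · exact ⟨y, hy', hyC, hyZ⟩
    · refine ⟨y * (h * y⁻¹ * h⁻¹), K.mul_mem hy' (hKn.conj_mem _ (K.inv_mem hy') h), ?_, ?_⟩
      · rw [show y * (h * y⁻¹ * h⁻¹) = (y * h * y⁻¹) * h⁻¹ by group,
          inverts ax hreg hh (hKM hy') hyC hhC]
        exact mul_mem (inv_mem hhC) (inv_mem hhC)
      · rw [show y * (h * y⁻¹ * h⁻¹) = (y * h * y⁻¹) * h⁻¹ by group,
          inverts ax hreg hh (hKM hy') hyC hhC]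
        intro e
        have e' : h * h ∈ Z := by simpa using inv_mem e
        exact hh (by
          rw [show h = h ^ 3 * (h * h)⁻¹ by group]
          exact mul_mem hh3 (inv_mem e'))
  have hw3 : w ^ 3 ∈ Z := hd ▸ pow_relIndex_mem ax hπ hwC
  -- so every element normalises the centraliser
  have htop : M = ⊤ := eq_top_iff.mpr fun g _ => by
    have h1 : g * w * g⁻¹ ∈ M := hKM (hKn.conj_mem w hwK g)
    have h2 : g * w * g⁻¹ ∉ Z := ax.not_mem_conj hwZ g
    have h3 : (g * w * g⁻¹) ^ 3 ∈ Z := by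
      rw [conj_pow, ← (ax.commute_z hw3 g).eq, mul_inv_cancel_right]
      exact hw3
    have h4 := mem_cent_of_cube ax hreg hh h1 h2 h3
    have hc := ax.cent_eq hh hwZ (mem_cent.1 hwC)
    rw [hM, ← hc, ax.mem_normalizer_cent_iff hwZ, hc]
    exact h4
  rw [hNdef, htop, ← MonoidHom.range_eq_map, MonoidHom.range_eq_top.mpr hπ.surj, Subgroup.card_top, hg] at hN
  omega

/-- order sixty -/
theorem alt_five_of_triple [Fintype L] {h₂ h₃ h₅ : L} (hh2 : h₂ ∉ Z) (hh3 : h₃ ∉ Z) (hh5 : h₅ ∉ Z)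
    (hd2 : Z.relIndex (cent h₂) = 2) (hd3 : Z.relIndex (cent h₃) = 3) (hd5 : Z.relIndex (cent h₅) = 5)
    (hN2 : Nat.card ((Subgroup.normalizer (cent h₂ : Set L)).map π) = 4)
    (hN3 : Nat.card ((Subgroup.normalizer (cent h₃ : Set L)).map π) = 6)
    (hN5 : Nat.card ((Subgroup.normalizer (cent h₅ : Set L)).map π) = 10)
    (hg : Nat.card H = 60)
    (hcov : ∀ y ∉ Z, y ∈ classUnion Z (cent h₂) ∨ y ∈ classUnion Z (cent h₃) ∨ y ∈ classUnion Z (cent h₅)) :
    Nonempty (H ≃* alternatingGroup (Fin 5)) := by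
  have := hπ.finite
  have := Fintype.ofFinite H
  -- conjugating into one of the three centralisers
  have hconj : ∀ x : H, x ≠ 1 → ∃ g : H, g * x * g⁻¹ ∈ (cent h₂).map π ∨ g * x * g⁻¹ ∈ (cent h₃).map π ∨
      g * x * g⁻¹ ∈ (cent h₅).map π := by
    intro x hx
    obtain ⟨y, rfl⟩ := hπ.surj x
    have hyZ : y ∉ Z := fun e => hx (hπ.eq_one.mpr e)
    rcases hcov y hyZ with h | h | h <;> obtain ⟨-, g, hg'⟩ := mem_classUnion.1 h <;> refine ⟨π g, ?_⟩ <;>
      rw [← map_inv, ← map_mul, ← map_mul]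
    · exact Or.inl ⟨_, hg', rfl⟩
    · exact Or.inr (Or.inl ⟨_, hg', rfl⟩)
    · exact Or.inr (Or.inr ⟨_, hg', rfl⟩)
  have hC2 : Nat.card ((cent h₂).map π) = 2 := by rw [card_cent_map ax hπ, hd2]
  have hC3 : Nat.card ((cent h₃).map π) = 3 := by rw [card_cent_map ax hπ, hd3]
  have hC5 : Nat.card ((cent h₅).map π) = 5 := by rw [card_cent_map ax hπ, hd5]
  have hordC : ∀ (C : Subgroup H) (d : ℕ), d.Prime → Nat.card C = d → ∀ x ∈ C, x ≠ 1 → orderOf x = d := by
    intro C d hd hC x hx hx1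
    have h1 := Subgroup.orderOf_dvd_natCard C hx
    rw [hC] at h1
    exact ((Nat.dvd_prime hd).mp h1).resolve_left fun e => hx1 (orderOf_eq_one_iff.mp e)
  -- an involution lies in the first class
  have hinv : ∀ x : H, orderOf x = 2 → ∃ g : H, g * x * g⁻¹ ∈ (cent h₂).map π := by
    intro x hx
    have hx1 : x ≠ 1 := fun e => by rw [e, orderOf_one] at hx; omega
    obtain ⟨g, hg'⟩ := hconj x hx1
    have ho : orderOf (g * x * g⁻¹) = 2 := by rw [← MulAut.conj_apply, MulEquiv.orderOf_eq, hx]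
    have hne : g * x * g⁻¹ ≠ 1 := fun e => hx1 (conj_eq_one_iff.mp e)
    rcases hg' with e | e | e
    · exact ⟨g, e⟩
    · have := hordC _ 3 Nat.prime_three hC3 _ e hne; omega
    · have := hordC _ 5 (by norm_num) hC5 _ e hne; omega
  obtain ⟨⟨a, haC⟩, ha1⟩ : ∃ a : (cent h₂).map π, a ≠ 1 := by
    have : Nontrivial ((cent h₂).map π) := Finite.one_lt_card_iff_nontrivial.mp (by omega)
    exact exists_ne 1
  have ha1' : a ≠ 1 := fun e => ha1 (Subtype.ext e)
  have hoa : orderOf a = 2 := hordC _ 2 Nat.prime_two hC2 a haC ha1'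
  have hC2eq : ∀ y ∈ (cent h₂).map π, y ≠ 1 → y = a := by
    intro y hy hy1
    obtain ⟨u, -, hu⟩ := (Nat.card_eq_two_iff' (⟨1, one_mem _⟩ : (cent h₂).map π)).mp hC2
    have e1 := hu ⟨y, hy⟩ (fun e => hy1 (congrArg Subtype.val e))
    have e2 := hu ⟨a, haC⟩ (fun e => ha1' (congrArg Subtype.val e))
    exact congrArg Subtype.val (e1.trans e2.symm)
  have hz2 : (cent h₂).map π = Subgroup.zpowers a := (Subgroup.eq_of_le_of_card_ge
    (Subgroup.zpowers_le.mpr haC) (by rw [Nat.card_zpowers, hoa, hC2])).symm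
  have hcent : Nat.card (Subgroup.centralizer ({a} : Set H)) = 4 := by
    rw [← hN2, ← map_normalizer ax hπ, hz2]
    have heq : Subgroup.centralizer ({a} : Set H) = Subgroup.normalizer (Subgroup.zpowers a : Set H) := by
      ext g
      rw [Subgroup.mem_centralizer_singleton_iff]
      refine ⟨fun hc => Subgroup.mem_normalizer_iff.mpr fun y => ?_, fun hN => ?_⟩
      · have hg' : g * a * g⁻¹ = a := by rw [hc, mul_inv_cancel_right]
        refine ⟨fun ⟨n, hn⟩ => ⟨n, ?_⟩, fun ⟨n, hn⟩ => ⟨n, ?_⟩⟩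
        · show a ^ n = g * y * g⁻¹
          rw [← hn]
          show a ^ n = g * a ^ n * g⁻¹
          rw [← conj_zpow, hg']
        · show a ^ n = y
          have : g * a ^ n * g⁻¹ = a ^ n := by rw [← conj_zpow, hg']
          exact mul_left_cancel (mul_right_cancel (this.trans hn))
      · have h1 := (Subgroup.mem_normalizer_iff.mp hN a).mp (Subgroup.mem_zpowers a)
        rw [← hz2] at h1
        exact mul_inv_eq_iff_eq_mul.mp (hC2eq _ h1 (fun e => ha1' (conj_eq_one_iff.mp e)))
    rw [heq]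
  have hcentx : ∀ x : H, orderOf x = 2 → Nat.card (Subgroup.centralizer ({x} : Set H)) = 4 := by
    intro x hx
    obtain ⟨g, hg'⟩ := hinv x hx
    have hx1 : x ≠ 1 := fun e => by rw [e, orderOf_one] at hx; omega
    have ha' := hC2eq _ hg' fun e => hx1 (conj_eq_one_iff.mp e)
    rw [← hcent, ← ha']
    refine Nat.card_congr ((MulAut.conj g).toEquiv.subtypeEquiv fun u => ?_)
    simp only [Subgroup.mem_centralizer_singleton_iff, MulEquiv.toEquiv_eq_coe, MulEquiv.coe_toEquiv,
      MulAut.conj_apply]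
    constructor
    · intro e
      rw [show g * u * g⁻¹ * (g * x * g⁻¹) = g * (u * x) * g⁻¹ by group, e]; group
    · intro e
      have := congrArg (fun t => g⁻¹ * t * g) e
      simpa [mul_assoc] using this
  -- fifteen involutions
  have hcl : Nat.card {x : H // orderOf x = 2} = 15 := by
    have horb := MulAction.index_stabilizer (ConjAct H) (x := a)
    have e : MulAction.orbit (ConjAct H) a = {x : H | orderOf x = 2} := by
      ext x
      rw [ConjAct.mem_orbit_conjAct, isConj_comm, isConj_iff]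
      constructor
      · rintro ⟨g, rfl⟩
        show orderOf (g * a * g⁻¹) = 2
        rw [← MulAut.conj_apply, MulEquiv.orderOf_eq, hoa]
      · intro hx
        obtain ⟨g, hg'⟩ := hinv x hx
        have hx1 : x ≠ 1 := fun e => by rw [e] at hx; simp at hx
        exact ⟨g⁻¹, by rw [← hC2eq _ hg' fun e => hx1 (conj_eq_one_iff.mp e)]; group⟩
    rw [e, ← Nat.card_coe_set_eq] at horb
    rw [ConjAct.stabilizer_eq_centralizer] at horb
    refine horb.symm.trans ?_
    have h1 := (Subgroup.centralizer ({a} : Set H)).index_mul_card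
    rw [hcent, hg] at h1
    show (Subgroup.centralizer ({a} : Set H)).index = 15
    omega
  have : Fact (Nat.Prime 2) := ⟨Nat.prime_two⟩
  have hfac : (60 : ℕ).factorization 2 = 2 := by
    rw [show (60 : ℕ) = 2 ^ 2 * 15 from rfl, Nat.factorization_mul (by norm_num) (by norm_num), Finsupp.add_apply,
      Nat.Prime.factorization_pow Nat.prime_two,
      Nat.factorization_eq_zero_of_not_dvd (by norm_num : ¬ 2 ∣ 15)]
    simp
  have hP4 : ∀ Q : Sylow 2 H, Nat.card Q = 4 := fun Q => by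
    rw [Q.card_eq_multiplicity, hg, hfac]; rfl
  have hQc : ∀ (Q : Sylow 2 H) (x : H), x ∈ (Q : Subgroup H) → orderOf x = 2 →
      (Q : Subgroup H) = Subgroup.centralizer ({x} : Set H) := by
    intro Q x hx ho
    refine Subgroup.eq_of_le_of_card_ge (fun y hy => Subgroup.mem_centralizer_singleton_iff.mpr ?_)
      (by rw [hcentx x ho]; exact (hP4 Q).ge)
    letI := IsPGroup.commGroupOfCardEqPrimeSq (p := 2) (G := Q) (by rw [hP4 Q]; rfl)
    exact congrArg Subtype.val (mul_comm (⟨y, hy⟩ : Q) ⟨x, hx⟩)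
  have hcount : Nat.card (Sylow 2 H) * 3 = 15 := by
    rw [← hcl]
    have e3 : ∀ Q : Sylow 2 H, Nat.card {x : (Q : Subgroup H) // orderOf x = 2} = 3 := by
      intro Q
      have h4 : Fintype.card (Q : Subgroup H) = 4 := by rw [← Nat.card_eq_fintype_card]; exact hP4 Q
      have hall : ∀ x : (Q : Subgroup H), x ≠ 1 → orderOf x = 2 := by
        intro x hx
        have hd := orderOf_dvd_natCard x
        rw [hP4 Q] at hd
        have hle := Nat.le_of_dvd (by norm_num) hd
        have h1 : orderOf x ≠ 1 := fun e => hx (orderOf_eq_one_iff.mp e)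
        have h4' : orderOf x ≠ 4 := by
          intro e
          have h2 : orderOf ((x : H) ^ 2) = 2 := by
            rw [← SubgroupClass.coe_pow, Subgroup.orderOf_coe, orderOf_pow' _ two_ne_zero, e]
            rfl
          obtain ⟨g, hg'⟩ := hconj (x : H) (fun h => hx (Subtype.ext h))
          have ho : orderOf (g * (x : H) * g⁻¹) = 4 := by
            rw [← MulAut.conj_apply, MulEquiv.orderOf_eq, Subgroup.orderOf_coe, e]
          have hne : g * (x : H) * g⁻¹ ≠ 1 := fun h => by rw [h] at ho; simp at ho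
          rcases hg' with h | h | h
          · have := hordC _ 2 Nat.prime_two hC2 _ h hne; omega
          · have := hordC _ 3 Nat.prime_three hC3 _ h hne; omega
          · have := hordC _ 5 (by norm_num) hC5 _ h hne; omega
        have h0 : 0 < orderOf x := orderOf_pos x
        have h3 : orderOf x ≠ 3 := fun e => by rw [e] at hd; norm_num at hd
        omega
      rw [Nat.card_eq_fintype_card, Fintype.card_subtype, show (Finset.univ.filter fun x : (Q : Subgroup H) => orderOf x = 2) = Finset.univ.erase 1 by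
        ext x
        simp only [Finset.mem_filter, Finset.mem_univ, true_and, Finset.mem_erase, and_true]
        exact ⟨fun h e => by rw [e, orderOf_one] at h; omega, hall x⟩,
        Finset.card_erase_of_mem (Finset.mem_univ _), Finset.card_univ, h4]
    let f : (Σ Q : Sylow 2 H, {x : (Q : Subgroup H) // orderOf x = 2}) → {x : H // orderOf x = 2} :=
      fun t => ⟨(t.2.1 : H), by rw [Subgroup.orderOf_coe]; exact t.2.2⟩
    have hf : Function.Bijective f := by
      constructor
      · rintro ⟨Q, ⟨x, hxQ⟩, hx⟩ ⟨Q', ⟨x', hxQ'⟩, hx'⟩ he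
        obtain rfl : x = x' := congrArg Subtype.val he
        have ho : orderOf x = 2 := by rw [← hx]; exact Subgroup.orderOf_mk x hxQ |>.symm
        obtain rfl : Q = Q' := Sylow.ext ((hQc Q x hxQ ho).trans (hQc Q' x hxQ' ho).symm)
        rfl
      · rintro ⟨x, hx⟩
        let Q : Sylow 2 H := Sylow.ofCard (Subgroup.centralizer ({x} : Set H)) (by rw [hcentx x hx, hg, hfac]; rfl)
        exact ⟨⟨Q, ⟨x, Subgroup.mem_centralizer_singleton_iff.mpr rfl⟩, (Subgroup.orderOf_coe _).symm.trans hx⟩, rfl⟩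
    rw [← Nat.card_eq_of_bijective f hf, Nat.card_sigma]
    simp only [e3, Finset.sum_const, Finset.card_univ, smul_eq_mul, Nat.card_eq_fintype_card]
  obtain ⟨P⟩ : Nonempty (Sylow 2 H) := inferInstance
  set T := Subgroup.normalizer ((P : Subgroup H) : Set H)
  have hidx : T.index = 5 := by
    have e : Nat.card (Sylow 2 H) = T.index := P.card_eq_index_normalizer
    omega
  refine CfsgLib.Classical.equiv_alternating_of_core_bot (by norm_num) T ?_ hidx (by rw [hg]; rfl)
  by_contra hne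
  have hKn := Subgroup.normalCore_normal T
  have hTc : Nat.card T = 12 := by
    have := T.index_mul_card
    rw [hidx, hg] at this
    omega
  have hKd := Subgroup.card_dvd_of_le T.normalCore_le
  rw [hTc] at hKd
  -- the core is not divisible by three, nor even
  have h3 : ¬ 3 ∣ Nat.card T.normalCore := by
    intro h3
    have : Fact (Nat.Prime 3) := ⟨Nat.prime_three⟩
    obtain ⟨⟨x, hxK⟩, hx⟩ := exists_prime_orderOf_dvd_card' (G := T.normalCore) 3 h3
    rw [Subgroup.orderOf_mk] at hx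
    have hS : ((cent h₃).map π) ≤ T.normalCore := by
      have hx1 : x ≠ 1 := fun e => by rw [e, orderOf_one] at hx; omega
      obtain ⟨g, hg'⟩ := hconj x hx1
      have ho : orderOf (g * x * g⁻¹) = 3 := by rw [← MulAut.conj_apply, MulEquiv.orderOf_eq, hx]
      have hne' : g * x * g⁻¹ ≠ 1 := fun e => hx1 (conj_eq_one_iff.mp e)
      rcases hg' with e | e | e
      · have := hordC _ 2 Nat.prime_two hC2 _ e hne'; omega
      · rw [← Subgroup.eq_of_le_of_card_ge (Subgroup.zpowers_le.mpr e) (by rw [Nat.card_zpowers, ho, hC3])]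
        exact Subgroup.zpowers_le.mpr (hKn.conj_mem x hxK g)
      · have := hordC _ 5 (by norm_num) hC5 _ e hne'; omega
    -- twenty conjugates of order three do not fit into twelve
    obtain ⟨b, hbdef⟩ : ∃ b, b = π h₃ := ⟨_, rfl⟩
    have hhC : h₃ ∈ cent h₃ := mem_cent.2 (Commute.refl h₃)
    have hbC : b ∈ (cent h₃).map π := hbdef ▸ ⟨h₃, hhC, rfl⟩
    have hb1 : b ≠ 1 := fun e => hh3 (hπ.eq_one.mp (hbdef.symm.trans e))
    have hob := hordC _ 3 Nat.prime_three hC3 b hbC hb1
    have hh33 : h₃ ^ 3 ∈ Z := hd3 ▸ pow_relIndex_mem ax hπ hhC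
    have hcb : Nat.card (Subgroup.centralizer ({b} : Set H)) ≤ 3 := by
      rw [← hC3]
      refine Subgroup.card_le_of_le fun x hx => ?_
      obtain ⟨u, rfl⟩ := hπ.surj x
      have hu := Subgroup.mem_centralizer_singleton_iff.mp hx
      have hz : h₃⁻¹ * (u * h₃ * u⁻¹) ∈ Z := by
        rw [← hπ.eq_one, map_mul, map_mul, map_mul, map_inv, map_inv, ← hbdef, hu, mul_inv_cancel_right, inv_mul_cancel]
      have hmem : u * h₃ * u⁻¹ ∈ cent h₃ := by
        rw [show u * h₃ * u⁻¹ = h₃ * (h₃⁻¹ * (u * h₃ * u⁻¹)) by group]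
        exact mul_mem hhC (ax.z_le_cent h₃ hz)
      have huN := (ax.mem_normalizer_cent_iff hh3).mpr hmem
      refine ⟨u, ?_, rfl⟩
      by_contra huC
      rw [inverts ax hreg hh3 huN huC hhC] at hz
      have hz2 : h₃ * h₃ ∈ Z := by simpa using inv_mem hz
      exact hh3 (by
        rw [show h₃ = h₃ ^ 3 * (h₃ * h₃)⁻¹ by group]
        exact mul_mem hh33 (inv_mem hz2))
    have horb : MulAction.orbit (ConjAct H) b ⊆ (T.normalCore : Set H) := fun y hy => by
      rw [ConjAct.mem_orbit_conjAct, isConj_comm, isConj_iff] at hy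
      obtain ⟨u, rfl⟩ := hy
      exact hKn.conj_mem b (hS hbC) u
    have h1 := Set.ncard_le_ncard (show MulAction.orbit (ConjAct H) b ∪ {1} ⊆ (T.normalCore : Set H) from
      Set.union_subset horb (Set.singleton_subset_iff.mpr T.normalCore.one_mem)) (Set.toFinite _)
    rw [Set.union_singleton, Set.ncard_insert_of_notMem, ← MulAction.index_stabilizer,
      ConjAct.stabilizer_eq_centralizer, ← Nat.card_coe_set_eq] at h1
    · have h2 := (Subgroup.centralizer ({b} : Set H)).index_mul_card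
      rw [hg] at h2
      have h5 := Nat.le_of_dvd (by norm_num) hKd
      simp only [SetLike.coe_sort_coe] at h1
      have h6 : (Subgroup.centralizer ({b} : Set H)).index + 1 ≤ 12 := le_trans h1 h5
      nlinarith
    · rw [ConjAct.mem_orbit_conjAct, isConj_one_right]
      intro e
      rw [e, orderOf_one] at hob
      omega
  have h2 : ¬ 2 ∣ Nat.card T.normalCore := by
    intro h2
    obtain ⟨⟨x, hxK⟩, hx⟩ := exists_prime_orderOf_dvd_card' (G := T.normalCore) 2 h2
    rw [Subgroup.orderOf_mk] at hx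
    obtain ⟨g, hg'⟩ := hinv x hx
    have hx1 : x ≠ 1 := fun e => by rw [e] at hx; simp at hx
    have haK : a ∈ T.normalCore := hC2eq _ hg' (fun e => hx1 (conj_eq_one_iff.mp e)) ▸ hKn.conj_mem x hxK g
    have hsub : {x : H | orderOf x = 2} ⊆ (T.normalCore : Set H) := fun y hy => by
      obtain ⟨u, hu⟩ := hinv y hy
      have hy1 : y ≠ 1 := fun e => by rw [e] at hy; simp at hy
      have := hC2eq _ hu fun e => hy1 (conj_eq_one_iff.mp e)
      have hy' := hKn.conj_mem a haK u⁻¹
      rw [← this] at hy'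
      simpa [mul_assoc] using hy'
    have h1 := Set.ncard_le_ncard hsub (Set.toFinite _)
    rw [← Nat.card_coe_set_eq, ← Nat.card_coe_set_eq] at h1
    have h5 := Nat.le_of_dvd (by norm_num) hKd
    have h6 : Nat.card {x : H // orderOf x = 2} ≤ Nat.card T.normalCore := h1
    omega
  refine hne (Subgroup.card_eq_one.mp ?_)
  have h5 := Nat.le_of_dvd (by norm_num) hKd
  have h0 : 0 < Nat.card T.normalCore := Nat.card_pos
  generalize Nat.card T.normalCore = m at hKd h2 h3 h5 h0 ⊢
  interval_cases m <;> simp_all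

/-- **Klein.** The quotient of a semisimple group is cyclic, dihedral or polyhedral. -/
theorem semisimple_classification (hcyc : ∀ h, h ∉ Z → IsCyclic (cent h)) :
    Nat.card H = 1 ∨ (∃ h, h ∉ Z ∧ IsCyclic H ∧ Nat.card H = Z.relIndex (cent h)) ∨
      (∃ h, h ∉ Z ∧ Nonempty (H ≃* DihedralGroup (Z.relIndex (cent h)))) ∨
      Nonempty (H ≃* alternatingGroup (Fin 4)) ∨ Nonempty (H ≃* Equiv.Perm (Fin 4)) ∨
      Nonempty (H ≃* alternatingGroup (Fin 5)) := by
  have := hπ.finite
  have := Fintype.ofFinite L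
  set g := Nat.card H with hgdef
  rcases Nat.lt_or_ge g 2 with hg2 | hg2
  · exact Or.inl (by have : 0 < g := Nat.card_pos; omega)
  refine Or.inr ?_
  set S := Finset.univ.filter fun y : L => y ∉ Z with hSdef
  have hScard : S.card + Nat.card Z = Nat.card Z * g := by
    rw [hgdef, hπ.card_eq, Nat.card_eq_fintype_card, Fintype.card_subtype, hSdef, Nat.card_eq_fintype_card, add_comm,
      Finset.card_filter_add_card_filter_not, Finset.card_univ]
  have hmemS : ∀ y, y ∈ S ↔ y ∉ Z := fun y => by simp [hSdef]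
  have hsubS : ∀ h, classUnion Z (cent h) ⊆ S := fun h y hy => (hmemS y).mpr (mem_classUnion.1 hy).1
  have hz : 0 < Nat.card Z := Nat.card_pos
  obtain ⟨h₁, hh1⟩ : ∃ h, h ∉ Z := by
    by_contra! hall
    have hle : Nat.card L ≤ Nat.card Z := by
      rw [← Subgroup.card_top (G := L)]; exact Subgroup.card_le_of_le fun y _ => hall y
    rw [← hπ.card_eq] at hle
    nlinarith
  obtain ⟨u₁, s₁, hU1, hs1, hd1, hle1, hN1, he1⟩ := class_unit ax hπ hreg hh1
  set d₁ := Z.relIndex (cent h₁)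
  rw [← hgdef] at hle1 he1
  -- a single class
  by_cases hS1 : S ⊆ classUnion Z (cent h₁)
  · have hu : u₁ + 1 = g := by
      have := Finset.card_le_card hS1
      have := Finset.card_le_card (hsubS h₁)
      nlinarith
    rcases hs1 with rfl | rfl
    · have hd : g = d₁ := by
        obtain ⟨e, he⟩ : ∃ e, d₁ = e + 1 := ⟨d₁ - 1, by omega⟩
        rw [he, show e + 1 - 1 = e by omega, ← hu] at he1
        nlinarith
      refine Or.inl ⟨h₁, hh1, ?_, hd⟩
      have htop : (cent h₁).map π = ⊤ := Subgroup.eq_top_of_card_eq _ (by rw [card_cent_map ax hπ, ← hgdef, hd])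
      have hc : IsCyclic ((cent h₁).map π) :=
        haveI := hcyc h₁ hh1
        isCyclic_of_surjective (π.subgroupMap (cent h₁)) (π.subgroupMap_surjective (cent h₁))
      exact ((MulEquiv.subgroupCongr htop).trans Subgroup.topEquiv).isCyclic.mp hc
    · exfalso
      obtain ⟨e, he⟩ : ∃ e, d₁ = e + 2 := ⟨d₁ - 2, by omega⟩
      rw [he, show e + 2 - 1 = e + 1 by omega] at he1
      rw [he] at hle1
      nlinarith
  obtain ⟨h₂, hh2S, hh2n⟩ := Finset.not_subset.mp hS1
  have hh2 := (hmemS h₂).mp hh2S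
  obtain ⟨u₂, s₂, hU2, hs2, hd2, hle2, hN2, he2⟩ := class_unit ax hπ hreg hh2
  set d₂ := Z.relIndex (cent h₂)
  rw [← hgdef] at hle2 he2
  have hdis12 := ax.classUnion_disjoint hh1 hh2 hh2n
  have hquarter : ∀ u s d : ℕ, (s = 1 ∨ s = 2) → 2 ≤ d → u * (s * d) = g * (d - 1) → g ≤ 4 * u ∧ (s = 1 → g ≤ 2 * u) := by
    intro u s d hs hd he
    obtain ⟨e, rfl⟩ : ∃ e, d = e + 2 := ⟨d - 2, by omega⟩
    rw [show e + 2 - 1 = e + 1 by omega] at he
    rcases hs with rfl | rfl
    · refine ⟨?_, fun _ => ?_⟩ <;> nlinarith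
    · exact ⟨by nlinarith, by omega⟩
  set T₂ := classUnion Z (cent h₁) ∪ classUnion Z (cent h₂) with hT2
  have hT2c : T₂.card = Nat.card Z * (u₁ + u₂) := by
    rw [hT2, Finset.card_union_of_disjoint hdis12.symm, hU1, hU2, mul_add]
  -- two classes
  by_cases hS2 : S ⊆ T₂
  · have hu : u₁ + u₂ + 1 = g := by
      have h1 := Finset.card_le_card hS2
      have h2 := Finset.card_le_card (show T₂ ⊆ S from Finset.union_subset (hsubS _) (hsubS _))
      nlinarith
    have hfin : ∀ (a b : L) (u v : ℕ), a ∉ Z → b ∉ Z → 2 ≤ Z.relIndex (cent a) → 2 ≤ Z.relIndex (cent b) →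
        2 * Z.relIndex (cent b) ≤ g → u + v + 1 = g →
        Nat.card ((Subgroup.normalizer (cent a : Set L)).map π) = Z.relIndex (cent a) →
        Nat.card ((Subgroup.normalizer (cent b : Set L)).map π) = 2 * Z.relIndex (cent b) →
        u * (1 * Z.relIndex (cent a)) = g * (Z.relIndex (cent a) - 1) →
        v * (2 * Z.relIndex (cent b)) = g * (Z.relIndex (cent b) - 1) →
        (∃ h, h ∉ Z ∧ Nonempty (H ≃* DihedralGroup (Z.relIndex (cent h)))) ∨
          Nonempty (H ≃* alternatingGroup (Fin 4)) := by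
      intro a b u v ha hb hda hdb hgb hsum hNa hNb hua hvb
      have key : (g : ℤ) * (2 * Z.relIndex (cent b) * ((Z.relIndex (cent a) : ℤ) - 1) +
          Z.relIndex (cent a) * ((Z.relIndex (cent b) : ℤ) - 1)) =
          ((g : ℤ) - 1) * (2 * Z.relIndex (cent a) * Z.relIndex (cent b)) := by
        have e1 := congrArg (fun m : ℕ => (m : ℤ)) hua
        have e2 := congrArg (fun m : ℕ => (m : ℤ)) hvb
        have e3 := congrArg (fun m : ℕ => (m : ℤ)) hsum
        push_cast [Nat.cast_sub (show 1 ≤ Z.relIndex (cent a) by omega),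
          Nat.cast_sub (show 1 ≤ Z.relIndex (cent b) by omega)] at e1 e2 e3
        linear_combination -2 * (Z.relIndex (cent b) : ℤ) * e1 - (Z.relIndex (cent a) : ℤ) * e2 +
          2 * (Z.relIndex (cent a) : ℤ) * (Z.relIndex (cent b) : ℤ) * e3
      rcases arith_cyclic_pair hda hdb hgb key with ⟨-, e⟩ | ⟨e1, -, e3⟩
      · exact Or.inl ⟨b, hb, dihedral_of_index_two ax hπ hreg hb (hcyc b hb) hNb e⟩
      · exact Or.inr (alt_four_of_pair ax hπ hreg ha e1 (hNa.trans e1) e3)
    rcases hs1 with rfl | rfl <;> rcases hs2 with rfl | rfl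
    · exfalso
      have := (hquarter u₁ 1 d₁ (Or.inl rfl) hd1 he1).2 rfl
      have := (hquarter u₂ 1 d₂ (Or.inl rfl) hd2 he2).2 rfl
      omega
    · rcases hfin h₁ h₂ u₁ u₂ hh1 hh2 hd1 hd2 hle2 hu (by rw [hN1, one_mul]) hN2 he1 he2 with h | h
      · exact Or.inr (Or.inl h)
      · exact Or.inr (Or.inr (Or.inl h))
    · rcases hfin h₂ h₁ u₂ u₁ hh2 hh1 hd2 hd1 hle1 (by omega) (by rw [hN2, one_mul]) hN1 he2 he1 with h | h
      · exact Or.inr (Or.inl h)
      · exact Or.inr (Or.inr (Or.inl h))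
    · exfalso
      obtain ⟨e, he⟩ : ∃ e, d₁ = e + 2 := ⟨d₁ - 2, by omega⟩
      obtain ⟨f, hf⟩ : ∃ f, d₂ = f + 2 := ⟨d₂ - 2, by omega⟩
      rw [he, show e + 2 - 1 = e + 1 by omega] at he1
      rw [hf, show f + 2 - 1 = f + 1 by omega] at he2
      rw [he] at hle1
      rw [hf] at hle2
      have h1 : 2 * u₁ + 2 ≤ g := by
        by_contra hlt
        nlinarith [Nat.mul_le_mul_left (e + 2) (show g ≤ 2 * u₁ + 1 by omega)]
      have h2 : 2 * u₂ + 2 ≤ g := by
        by_contra hlt
        nlinarith [Nat.mul_le_mul_left (f + 2) (show g ≤ 2 * u₂ + 1 by omega)]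
      omega
  obtain ⟨h₃, hh3S, hh3n⟩ := Finset.not_subset.mp hS2
  have hh3 := (hmemS h₃).mp hh3S
  rw [hT2, Finset.mem_union, not_or] at hh3n
  obtain ⟨u₃, s₃, hU3, hs3, hd3, hle3, hN3, he3⟩ := class_unit ax hπ hreg hh3
  set d₃ := Z.relIndex (cent h₃)
  rw [← hgdef] at hle3 he3
  have hdis13 := ax.classUnion_disjoint hh1 hh3 hh3n.1
  have hdis23 := ax.classUnion_disjoint hh2 hh3 hh3n.2
  set T₃ := T₂ ∪ classUnion Z (cent h₃) with hT3
  have hT3c : T₃.card = Nat.card Z * (u₁ + u₂ + u₃) := by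
    rw [hT3, Finset.card_union_of_disjoint (Finset.disjoint_union_left.mpr ⟨hdis13.symm, hdis23.symm⟩),
      hT2c, hU3]
    ring
  have hq1 := hquarter u₁ s₁ d₁ hs1 hd1 he1
  have hq2 := hquarter u₂ s₂ d₂ hs2 hd2 he2
  have hq3 := hquarter u₃ s₃ d₃ hs3 hd3 he3
  by_cases hS3 : S ⊆ T₃
  swap
  · exfalso
    obtain ⟨h₄, hh4S, hh4n⟩ := Finset.not_subset.mp hS3
    rw [hT3, hT2, Finset.mem_union, Finset.mem_union, not_or, not_or] at hh4n
    have hh4 := (hmemS h₄).mp hh4S
    obtain ⟨u₄, s₄, hU4, hs4, hd4, -, -, he4⟩ := class_unit ax hπ hreg hh4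
    rw [← hgdef] at he4
    have hq4 := hquarter u₄ s₄ _ hs4 hd4 he4
    have h1 := Finset.card_le_card (show T₃ ∪ classUnion Z (cent h₄) ⊆ S from
      Finset.union_subset (Finset.union_subset (Finset.union_subset (hsubS _) (hsubS _)) (hsubS _)) (hsubS _))
    rw [Finset.card_union_of_disjoint (Finset.disjoint_union_left.mpr ⟨Finset.disjoint_union_left.mpr
      ⟨(ax.classUnion_disjoint hh1 hh4 hh4n.1.1).symm, (ax.classUnion_disjoint hh2 hh4 hh4n.1.2).symm⟩,
      (ax.classUnion_disjoint hh3 hh4 hh4n.2).symm⟩), hT3c, hU4] at h1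
    nlinarith [hq1.1, hq2.1, hq3.1, hq4.1]
  have hu : u₁ + u₂ + u₃ + 1 = g := by
    have h1 := Finset.card_le_card hS3
    have h2 := Finset.card_le_card (show T₃ ⊆ S from
      Finset.union_subset (Finset.union_subset (hsubS _) (hsubS _)) (hsubS _))
    nlinarith
  obtain ⟨rfl, rfl, rfl⟩ : s₁ = 2 ∧ s₂ = 2 ∧ s₃ = 2 := by
    refine ⟨?_, ?_, ?_⟩
    · rcases hs1 with h | h
      · have := hq1.2 h; omega
      · exact h
    · rcases hs2 with h | h
      · have := hq2.2 h; omega
      · exact h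
    · rcases hs3 with h | h
      · have := hq3.2 h; omega
      · exact h
  have hcov : ∀ y, y ∉ Z → y ∈ classUnion Z (cent h₁) ∨ y ∈ classUnion Z (cent h₂) ∨ y ∈ classUnion Z (cent h₃) := by
    intro y hy
    have := hS3 ((hmemS y).mpr hy)
    rw [hT3, hT2, Finset.mem_union, Finset.mem_union] at this
    tauto
  -- the final step, for the classes sorted by the orders of the centralisers
  have hfin : ∀ (a b c : L) (u v w : ℕ), a ∉ Z → b ∉ Z → c ∉ Z →
      b ∉ classUnion Z (cent a) → c ∉ classUnion Z (cent a) → c ∉ classUnion Z (cent b) →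
      2 ≤ Z.relIndex (cent a) → Z.relIndex (cent a) ≤ Z.relIndex (cent b) →
      Z.relIndex (cent b) ≤ Z.relIndex (cent c) →
      u + v + w + 1 = g →
      Nat.card ((Subgroup.normalizer (cent a : Set L)).map π) = 2 * Z.relIndex (cent a) →
      Nat.card ((Subgroup.normalizer (cent b : Set L)).map π) = 2 * Z.relIndex (cent b) →
      Nat.card ((Subgroup.normalizer (cent c : Set L)).map π) = 2 * Z.relIndex (cent c) →
      u * (2 * Z.relIndex (cent a)) = g * (Z.relIndex (cent a) - 1) →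
      v * (2 * Z.relIndex (cent b)) = g * (Z.relIndex (cent b) - 1) →
      w * (2 * Z.relIndex (cent c)) = g * (Z.relIndex (cent c) - 1) →
      (∀ y, y ∉ Z → y ∈ classUnion Z (cent a) ∨ y ∈ classUnion Z (cent b) ∨ y ∈ classUnion Z (cent c)) →
      (∃ h, h ∉ Z ∧ Nonempty (H ≃* DihedralGroup (Z.relIndex (cent h)))) ∨
        Nonempty (H ≃* Equiv.Perm (Fin 4)) ∨ Nonempty (H ≃* alternatingGroup (Fin 5)) := by
    intro a b c u v w ha hb hc hba hca hcb hda hab hbc hsum hNa hNb hNc hua hvb hwc hcov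
    have key : (g : ℤ) * (((Z.relIndex (cent a) : ℤ) - 1) * Z.relIndex (cent b) * Z.relIndex (cent c) +
        ((Z.relIndex (cent b) : ℤ) - 1) * Z.relIndex (cent a) * Z.relIndex (cent c) +
        ((Z.relIndex (cent c) : ℤ) - 1) * Z.relIndex (cent a) * Z.relIndex (cent b)) =
        ((g : ℤ) - 1) * (2 * Z.relIndex (cent a) * Z.relIndex (cent b) * Z.relIndex (cent c)) := by
      have e1 := congrArg (fun m : ℕ => (m : ℤ)) hua
      have e2 := congrArg (fun m : ℕ => (m : ℤ)) hvb
      have e3 := congrArg (fun m : ℕ => (m : ℤ)) hwc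
      have e4 := congrArg (fun m : ℕ => (m : ℤ)) hsum
      push_cast [Nat.cast_sub (show 1 ≤ Z.relIndex (cent a) by omega),
        Nat.cast_sub (show 1 ≤ Z.relIndex (cent b) by omega),
        Nat.cast_sub (show 1 ≤ Z.relIndex (cent c) by omega)] at e1 e2 e3 e4
      linear_combination -((Z.relIndex (cent b) : ℤ) * Z.relIndex (cent c)) * e1 -
        ((Z.relIndex (cent a) : ℤ) * Z.relIndex (cent c)) * e2 -
        ((Z.relIndex (cent a) : ℤ) * Z.relIndex (cent b)) * e3 +
        2 * (Z.relIndex (cent a) : ℤ) * Z.relIndex (cent b) * Z.relIndex (cent c) * e4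
    rcases arith_triple hda hab hbc (by omega) key with ⟨-, -, e⟩ | ⟨e1, e2, ⟨e3, eg⟩ | ⟨e3, eg⟩ | ⟨e3, eg⟩⟩
    · exact Or.inl ⟨c, hc, dihedral_of_index_two ax hπ hreg hc (hcyc c hc) hNc e⟩
    · exfalso
      have hhc : c ∈ cent c := mem_cent.2 (Commute.refl c)
      have hc3 : c ^ 3 ∈ Z := e3 ▸ pow_relIndex_mem ax hπ hhc
      have hidx : (Subgroup.normalizer (cent b : Set L)).index = 2 := by
        have h1 := ((Subgroup.normalizer (cent b : Set L)).map π).index_mul_card
        rw [Subgroup.index_map_eq (H := Subgroup.normalizer (cent b : Set L)) hπ.surj (hπ.ker ▸ ((ax.z_le_cent b).trans Subgroup.le_normalizer)),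
          hNb, e2, ← hgdef, eg] at h1
        omega
      have hcN : c ∈ Subgroup.normalizer (cent b : Set L) := by
        rw [show c = c ^ 3 * (c * c)⁻¹ by group]
        refine mul_mem (((ax.z_le_cent b).trans Subgroup.le_normalizer) hc3) (inv_mem ?_)
        exact Subgroup.mul_self_mem_of_index_two hidx c
      exact hcb (mem_classUnion.2 ⟨hc, 1, by simpa using mem_cent_of_cube ax hreg hb hcN hc hc3⟩)
    · exact Or.inr (Or.inl (perm_four_of_triple ax hπ hreg hb e2 (by rw [hNb, e2]) eg))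
    · exact Or.inr (Or.inr (alt_five_of_triple ax hπ hreg ha hb hc e1 e2 e3 (by rw [hNa, e1]) (by rw [hNb, e2])
        (by rw [hNc, e3]) eg hcov))
  have hn21 := hh2n
  have hn31 := hh3n.1
  have hn32 := hh3n.2
  -- a class not meeting another is not met by it
  have hsymm : ∀ x y : L, x ∉ Z → y ∉ Z → y ∉ classUnion Z (cent x) → x ∉ classUnion Z (cent y) :=
    fun x y hx hy hxy hmem =>
      Finset.disjoint_left.1 (ax.classUnion_disjoint hx hy hxy) hmem (ax.mem_classUnion_self hx)
  have hn12 := hsymm _ _ hh1 hh2 hn21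
  have hn13 := hsymm _ _ hh1 hh3 hn31
  have hn23 := hsymm _ _ hh2 hh3 hn32
  have hres : (∃ h, h ∉ Z ∧ Nonempty (H ≃* DihedralGroup (Z.relIndex (cent h)))) ∨
      Nonempty (H ≃* Equiv.Perm (Fin 4)) ∨ Nonempty (H ≃* alternatingGroup (Fin 5)) := by
    rcases le_total d₁ d₂ with h12 | h12 <;> rcases le_total d₂ d₃ with h23 | h23 <;>
      rcases le_total d₁ d₃ with h13 | h13
    · exact hfin h₁ h₂ h₃ u₁ u₂ u₃ hh1 hh2 hh3 hn21 hn31 hn32 hd1 h12 h23 hu hN1 hN2 hN3 he1 he2 he3 hcov
    · exact hfin h₁ h₂ h₃ u₁ u₂ u₃ hh1 hh2 hh3 hn21 hn31 hn32 hd1 h12 h23 hu hN1 hN2 hN3 he1 he2 he3 hcov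
    · exact hfin h₁ h₃ h₂ u₁ u₃ u₂ hh1 hh3 hh2 hn31 hn21 hn23 hd1 h13 h23 (by omega) hN1 hN3 hN2 he1 he3 he2
        (fun y hy => by rcases hcov y hy with h | h | h <;> tauto)
    · exact hfin h₃ h₁ h₂ u₃ u₁ u₂ hh3 hh1 hh2 hn13 hn23 hn21 hd3 h13 h12 (by omega) hN3 hN1 hN2 he3 he1 he2
        (fun y hy => by rcases hcov y hy with h | h | h <;> tauto)
    · exact hfin h₂ h₁ h₃ u₂ u₁ u₃ hh2 hh1 hh3 hn12 hn32 hn31 hd2 h12 h13 (by omega) hN2 hN1 hN3 he2 he1 he3
        (fun y hy => by rcases hcov y hy with h | h | h <;> tauto)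
    · exact hfin h₂ h₃ h₁ u₂ u₃ u₁ hh2 hh3 hh1 hn32 hn12 hn13 hd2 h23 h13 (by omega) hN2 hN3 hN1 he2 he3 he1
        (fun y hy => by rcases hcov y hy with h | h | h <;> tauto)
    · exact hfin h₃ h₂ h₁ u₃ u₂ u₁ hh3 hh2 hh1 hn23 hn13 hn12 hd3 h23 h12 (by omega) hN3 hN2 hN1 he3 he2 he1
        (fun y hy => by rcases hcov y hy with h | h | h <;> tauto)
    · exact hfin h₃ h₂ h₁ u₃ u₂ u₁ hh3 hh2 hh1 hn23 hn13 hn12 hd3 h23 h12 (by omega) hN3 hN2 hN1 he3 he2 he1
        (fun y hy => by rcases hcov y hy with h | h | h <;> tauto)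
  rcases hres with h | h | h
  · exact Or.inr (Or.inl h)
  · exact Or.inr (Or.inr (Or.inr (Or.inl h)))
  · exact Or.inr (Or.inr (Or.inr (Or.inr h)))

end CfsgLib.Klein
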