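import Cfsg.Agent.Lib.DicksonPolyMax

/-! Subfield subgroups of `PSL₂(q)`. -/

set_option autoImplicit false
set_option linter.style.haveILetI false

universe u v

namespace CfsgLib.Dickson

open Matrix
open scoped MatrixGroups commutatorElement

attribute [local instance] _root_.Classical.propDecidable

variable {F : Type u} [Field F] [Fintype F] {K : Type v} [Field K] [Fintype K]

theorem char_eq_of_pow {k m : ℕ} (hk : Fintype.card K = k) (hm : Fintype.card F = k ^ m) (hm0 : m ≠ 0)
    (p : ℕ) [Fact p.Prime] [CharP F p] : CharP K p := by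
  obtain ⟨p', hK⟩ := CharP.exists K
  obtain ⟨a, hp', ha⟩ := FiniteField.card K p'
  obtain ⟨b, hp, hb⟩ := FiniteField.card F p
  have : p' ∣ p ^ (b : ℕ) := by
    rw [← hb, hm, ← hk, ha, ← pow_mul]
    exact dvd_pow_self p' (Nat.mul_ne_zero a.ne_zero hm0)
  rwa [← (Nat.prime_dvd_prime_iff_eq hp' hp).1 (hp'.dvd_of_dvd_pow this)]

theorem exists_field_hom {k m : ℕ} (hk : Fintype.card K = k) (hm : Fintype.card F = k ^ m) (hm0 : m ≠ 0) :
    Nonempty (K →+* F) := by
  obtain ⟨p, hF⟩ := CharP.exists F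
  obtain ⟨b, hp, hb⟩ := FiniteField.card F p
  haveI := Fact.mk hp
  haveI := char_eq_of_pow hk hm hm0 p
  letI : Algebra (ZMod p) F := ZMod.algebra F p
  letI : Algebra (ZMod p) K := ZMod.algebra K p
  obtain ⟨f⟩ := FiniteField.nonempty_algHom_of_finrank_dvd (F := ZMod p) (K := K) (L := F) (by
    refine ⟨m, Nat.pow_right_injective hp.two_le ?_⟩
    show p ^ Module.finrank (ZMod p) F = p ^ (Module.finrank (ZMod p) K * m)
    have h1 := Module.card_eq_pow_finrank (K := ZMod p) (V := F)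
    have h2 := Module.card_eq_pow_finrank (K := ZMod p) (V := K)
    rw [ZMod.card] at h1 h2
    rw [pow_mul, ← h1, ← h2, hk, hm])
  exact ⟨f.toRingHom⟩

omit [Fintype F] [Fintype K] in
/-- `PGL₂` of a subfield all of whose elements are squares embeds in `PSL₂`. -/
theorem exists_pgl_hom_sq (φ : K →+* F) (hsq : ∀ a : K, IsSquare (φ a)) :
    ∃ f : ProjGenLinGroup (Fin 2) K →* PSL F, Function.Injective f ∧
      ∀ S : SL K, f (ProjGenLinGroup.mk (Matrix.SpecialLinearGroup.toGL S)) =
        mkP (Matrix.SpecialLinearGroup.map φ S) := by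
  choose s hs using hsq
  have hs0 : ∀ M : GL (Fin 2) K, s M.1.det ≠ 0 := fun M h => (Matrix.GeneralLinearGroup.det M).ne_zero (by
    show M.1.det = 0
    exact φ.injective (by rw [hs, h, mul_zero, map_zero]))
  let S : GL (Fin 2) K → SL F := fun M => ⟨(s M.1.det)⁻¹ • M.1.map φ, by
    rw [Matrix.det_smul, Fintype.card_fin, show (M.1.map φ).det = φ M.1.det from (φ.map_det M.1).symm, hs]
    have := hs0 M
    field_simp⟩
  have huniq : ∀ (M : GL (Fin 2) K) (g : SL F) (r : F), g.1 = r • M.1.map φ → mkP g = mkP (S M) := by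
    intro M g r hr
    have hd := g.2
    rw [hr, Matrix.det_smul, Fintype.card_fin, show (M.1.map φ).det = φ M.1.det from (φ.map_det M.1).symm, hs] at hd
    have h2 : (r * s M.1.det - 1) * (r * s M.1.det + 1) = 0 := by linear_combination hd
    have hne := hs0 M
    rw [mkP_eq_iff]
    rcases mul_eq_zero.1 h2 with e | e
    · left
      apply Subtype.ext
      show g.1 = (s M.1.det)⁻¹ • M.1.map φ
      rw [hr, eq_inv_of_mul_eq_one_left (sub_eq_zero.1 e)]
    · right
      apply Subtype.ext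
      show g.1 = -((s M.1.det)⁻¹ • M.1.map φ)
      rw [hr, show r = -(s M.1.det)⁻¹ by field_simp; linear_combination e, neg_smul]
  let ψ : GL (Fin 2) K →* PSL F :=
    { toFun := fun M => mkP (S M)
      map_one' := by
        rw [← huniq 1 1 1 (by rw [Units.val_one, Matrix.map_one _ (map_zero φ) (map_one φ), one_smul,
          Matrix.SpecialLinearGroup.coe_one]), map_one]
      map_mul' := fun M N => by
        rw [← map_mul]
        refine (huniq (M * N) (S M * S N) ((s M.1.det)⁻¹ * (s N.1.det)⁻¹) ?_).symm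
        rw [Matrix.SpecialLinearGroup.coe_mul, Units.val_mul, Matrix.map_mul]
        show (s M.1.det)⁻¹ • M.1.map φ * ((s N.1.det)⁻¹ • N.1.map φ) = _
        rw [Matrix.smul_mul, Matrix.mul_smul, smul_smul] }
  have hker : ψ.ker = Subgroup.center (GL (Fin 2) K) := by
    ext M
    rw [MonoidHom.mem_ker, Matrix.GeneralLinearGroup.center_eq_range_scalar, MonoidHom.mem_range]
    show mkP (S M) = 1 ↔ _
    rw [mkP_eq_one]
    constructor
    · rintro ⟨e1, e2, e3⟩
      have hne := inv_ne_zero (hs0 M)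
      have f01 : M.1 0 1 = 0 := φ.injective (by
        rw [map_zero]; exact (mul_eq_zero.1 (show (s M.1.det)⁻¹ * φ (M.1 0 1) = 0 by simpa [S] using e1)).resolve_left hne)
      have f10 : M.1 1 0 = 0 := φ.injective (by
        rw [map_zero]; exact (mul_eq_zero.1 (show (s M.1.det)⁻¹ * φ (M.1 1 0) = 0 by simpa [S] using e2)).resolve_left hne)
      have f00 : M.1 0 0 = M.1 1 1 := φ.injective (mul_left_cancel₀ hne
        (show (s M.1.det)⁻¹ * φ (M.1 0 0) = (s M.1.det)⁻¹ * φ (M.1 1 1) by simpa [S] using e3))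
      have hu : M.1 0 0 ≠ 0 := fun e => (Matrix.GeneralLinearGroup.det M).ne_zero (by
        show M.1.det = 0
        rw [Matrix.det_fin_two, f01, e]; ring)
      refine ⟨Units.mk0 _ hu, Units.ext ?_⟩
      rw [Matrix.GeneralLinearGroup.coe_scalar]
      ext i j
      fin_cases i <;> fin_cases j <;> simp [Matrix.scalar_apply, f01, f10, f00]
    · rintro ⟨u, rfl⟩
      refine ⟨?_, ?_, ?_⟩ <;> simp [S, Matrix.GeneralLinearGroup.coe_scalar, Matrix.scalar_apply]
  refine ⟨QuotientGroup.lift _ ψ hker.ge, ?_, fun T => ?_⟩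
  · exact (QuotientGroup.injective_lift_iff _ _ _).2 hker.symm
  · show ψ (Matrix.SpecialLinearGroup.toGL T) = _
    refine (huniq _ _ 1 ?_).symm
    rw [one_smul]
    rfl

theorem isSquare_of_even {k m : ℕ} (hk : Fintype.card K = k) (hm : Fintype.card F = k ^ m) (hm2 : Even m)
    (hodd : Odd k) (φ : K →+* F) (a : K) : IsSquare (φ a) := by
  by_cases ha : a = 0
  · rw [ha, map_zero]; exact IsSquare.zero
  have hchar : ringChar F ≠ 2 := by
    intro h
    have : Even (Fintype.card F) := FiniteField.even_card_iff_char_two.1 h |> Nat.even_iff.2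
    exact Nat.not_even_iff_odd.2 (hm ▸ hodd.pow) this
  rw [FiniteField.isSquare_iff hchar (by simpa using (φ.injective.ne_iff' (map_zero φ)).2 ha), ← map_pow]
  obtain ⟨j, hj⟩ : k - 1 ∣ Fintype.card F / 2 := by
    obtain ⟨i, rfl⟩ := hm2
    rw [hm, ← two_mul, pow_mul]
    obtain ⟨c, hc⟩ := hodd
    have h1 : k ^ 2 - 1 ∣ (k ^ 2) ^ i - 1 := Nat.sub_one_dvd_pow_sub_one _ _
    obtain ⟨t, ht⟩ := h1
    have h2 : (k ^ 2) ^ i = (k ^ 2 - 1) * t + 1 := by
      have : 1 ≤ (k ^ 2) ^ i := Nat.one_le_pow _ _ (by rw [hc]; positivity)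
      omega
    have h3 : k ^ 2 - 1 = (k - 1) * (2 * (c + 1)) := by
      rw [show k - 1 = 2 * c by omega, hc]
      have : (2 * c + 1) ^ 2 = 2 * c * (2 * (c + 1)) + 1 := by ring
      omega
    refine ⟨(c + 1) * t, ?_⟩
    rw [h2, h3, show (k - 1) * (2 * (c + 1)) * t = (k - 1) * ((c + 1) * t) * 2 by ring]
    omega
  rw [hj, pow_mul, ← hk, FiniteField.pow_card_sub_one_eq_one a ha, one_pow, map_one]

theorem odd_sum {k : ℕ} (hk : Odd k) : ∀ i : ℕ, ∃ S, Odd S ∧ k ^ (2 * i + 1) = (k - 1) * S + 1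
  | 0 => ⟨1, odd_one, by obtain ⟨c, hc⟩ := hk; rw [mul_one, pow_one]; omega⟩
  | i + 1 => by
    obtain ⟨S, hS, h⟩ := odd_sum hk i
    obtain ⟨c, rfl⟩ := hk
    simp only [Nat.add_sub_cancel] at h ⊢
    refine ⟨S + (2 * c + 1) ^ (2 * i + 1) * (2 * (c + 1)),
      hS.add_even (by rw [mul_comm, mul_assoc]; exact even_two_mul _), ?_⟩
    rw [show 2 * (i + 1) + 1 = 2 * i + 1 + 2 by ring, pow_add]
    linear_combination h

/-- `PGL₂(k)` is not in `PSL₂(k^m)` for odd `m`. -/
theorem no_pgl_of_odd {k m : ℕ} (hk : Fintype.card K = k) (hm : Fintype.card F = k ^ m) (hm2 : Odd m)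
    (hodd : Odd k) (H : Subgroup (PSL F)) (e : H ≃* ProjGenLinGroup (Fin 2) K) : False := by
  obtain ⟨p, hF⟩ := CharP.exists F
  obtain ⟨b, hp, hb⟩ := FiniteField.card F p
  haveI := Fact.mk hp
  have hk1 : 1 < k := hk ▸ Fintype.one_lt_card
  obtain ⟨z, hz⟩ := IsCyclic.exists_ofOrder_eq_natCard (α := Kˣ)
  rw [Nat.card_units, Nat.card_eq_fintype_card, hk] at hz
  let D : GL (Fin 2) K := Matrix.GeneralLinearGroup.mkOfDetNeZero !![(z : K), 0; 0, 1]
    (by simp [Matrix.det_fin_two])
  have hD : ∀ n : ℕ, (D ^ n).1 = !![(z : K) ^ n, 0; 0, 1] := by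
    intro n
    induction n with
    | zero => ext i j; fin_cases i <;> fin_cases j <;> simp
    | succ n ih =>
      rw [pow_succ, Units.val_mul, ih]
      show _ * !![(z : K), 0; 0, 1] = _
      ext i j
      fin_cases i <;> fin_cases j <;> simp [Matrix.mul_apply, Fin.sum_univ_two, pow_succ]
  have hord : orderOf (ProjGenLinGroup.mk D) = k - 1 := by
    rw [← hz, orderOf_eq_orderOf_iff]
    intro n
    rw [← map_pow, ProjGenLinGroup.mk_eq_one, Matrix.GeneralLinearGroup.center_eq_range_scalar, MonoidHom.mem_range]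
    constructor
    · rintro ⟨u, hu⟩
      have h1 := congrArg (fun M : GL (Fin 2) K => M.1) hu
      simp only [hD, Matrix.GeneralLinearGroup.coe_scalar] at h1
      have h00 := congrFun (congrFun h1 0) 0
      have h11 := congrFun (congrFun h1 1) 1
      simp [Matrix.scalar_apply] at h00 h11
      exact Units.ext (by rw [Units.val_pow_eq_pow_val, ← h00, h11, Units.val_one])
    · intro h
      refine ⟨1, Units.ext ?_⟩
      rw [map_one, Units.val_one, hD, ← Units.val_pow_eq_pow_val, h, Units.val_one]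
      ext i j; fin_cases i <;> fin_cases j <;> simp
  obtain ⟨i, rfl⟩ := hm2
  obtain ⟨S, hS, hqS⟩ := odd_sum hodd i
  rw [← hm] at hqS
  set x : PSL F := ((e.symm (ProjGenLinGroup.mk D) : H) : PSL F)
  have hx : orderOf x = k - 1 := by rw [Subgroup.orderOf_coe, e.symm.orderOf_eq, hord]
  have hq1 : 1 < Fintype.card F := Fintype.one_lt_card
  obtain ⟨c, hc⟩ := hodd
  have hd : Nat.gcd 2 (Fintype.card F - 1) = 2 := Nat.gcd_eq_left
    ⟨c * S, by rw [hqS, show k - 1 = 2 * c by omega]; ring_nf; omega⟩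
  rcases psl_pow_cases rfl (p := p) x with h | h | h
  · have hdvd : k - 1 ∣ p := hx ▸ orderOf_dvd_of_pow_eq_one h
    rcases (Nat.dvd_prime hp).1 hdvd with e1 | e1
    · omega
    · have hp2 : p = 2 := (hp.eq_two_or_odd).resolve_right (by omega)
      have : Even (Fintype.card F) := by rw [hb, hp2]; exact Nat.even_pow.2 ⟨even_two, b.ne_zero⟩
      exact Nat.not_even_iff_odd.2 (hm ▸ Odd.pow ⟨c, hc⟩) this
  · rw [hd] at h
    have hdvd : k - 1 ∣ (Fintype.card F - 1) / 2 := hx ▸ orderOf_dvd_of_pow_eq_one h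
    rw [hqS, Nat.add_sub_cancel, show k - 1 = 2 * c by omega, mul_assoc, Nat.mul_div_cancel_left _ two_pos] at hdvd
    have := Nat.dvd_of_mul_dvd_mul_right (by omega : 0 < c) (show 2 * c ∣ S * c by rwa [mul_comm S])
    exact Nat.not_even_iff_odd.2 hS (even_iff_two_dvd.2 this)
  · rw [hd] at h
    have hdvd : k - 1 ∣ (Fintype.card F + 1) / 2 := hx ▸ orderOf_dvd_of_pow_eq_one h
    rw [hqS, show k - 1 = 2 * c by omega] at hdvd
    have hc1 : c = 1 := by
      have h2 : 2 * c ∣ c * S + 1 := by rwa [show (2 * c * S + 1 + 1) / 2 = c * S + 1 by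
        rw [show 2 * c * S + 1 + 1 = 2 * (c * S + 1) by ring, Nat.mul_div_cancel_left _ two_pos]] at hdvd
      have := (Nat.dvd_add_right (dvd_mul_right c S)).1 ((dvd_mul_left c 2).trans h2)
      exact Nat.dvd_one.1 this
    subst hc1
    -- the field with three elements
    haveI : Fact (Nat.Prime 3) := ⟨Nat.prime_three⟩
    haveI : CharP K 3 := charP_of_card_eq_prime_pow (f := 1) (by rw [hk, hc]; norm_num)
    let N : GL (Fin 2) K := Matrix.GeneralLinearGroup.mkOfDetNeZero !![1, 1; -1, 1] (by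
      simp [Matrix.det_fin_two]
      intro h2
      exact two_ne_zero_of_char (F := K) (p := 3) (by norm_num) (by linear_combination h2))
    have hN2 : (N ^ 2).1 = !![0, 2; -2, 0] := by
      rw [pow_two, Units.val_mul]
      show !![(1 : K), 1; -1, 1] * !![(1 : K), 1; -1, 1] = _
      ext i j; fin_cases i <;> fin_cases j <;> simp [Matrix.mul_apply, Fin.sum_univ_two] <;> norm_num
    have h20 : (2 : K) ≠ 0 := two_ne_zero_of_char (F := K) (p := 3) (by norm_num)
    have hoN : orderOf (ProjGenLinGroup.mk N) = 2 ^ (1 + 1) := by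
      refine orderOf_eq_prime_pow ?_ ?_
      · rw [pow_one, ← map_pow, ProjGenLinGroup.mk_eq_one, Matrix.GeneralLinearGroup.center_eq_range_scalar, MonoidHom.mem_range]
        rintro ⟨u, hu⟩
        have h1 := congrArg (fun M : GL (Fin 2) K => M.1) hu
        simp only [hN2, Matrix.GeneralLinearGroup.coe_scalar] at h1
        have h01 := congrFun (congrFun h1 0) 1
        simp [Matrix.scalar_apply] at h01
        exact h20 h01.symm
      · rw [← map_pow, ProjGenLinGroup.mk_eq_one, Matrix.GeneralLinearGroup.center_eq_range_scalar, MonoidHom.mem_range]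
        refine ⟨Units.mk0 (-(2 * 2)) (neg_ne_zero.2 (mul_ne_zero h20 h20)), Units.ext ?_⟩
        rw [show 2 ^ (1 + 1) = 2 * 2 by norm_num, pow_mul, pow_two (N ^ 2), Units.val_mul, hN2,
          Matrix.GeneralLinearGroup.coe_scalar]
        ext i j; fin_cases i <;> fin_cases j <;> simp [Matrix.mul_apply, Fin.sum_univ_two, Matrix.scalar_apply]
    have hoddF : Odd (Fintype.card F) := hm ▸ Odd.pow ⟨1, hc⟩
    obtain ⟨t, ht⟩ := CfsgLib.Classical.exists_sqrt_two hoddF ((e.symm (ProjGenLinGroup.mk N) : H) : PSL F)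
      (by rw [Subgroup.orderOf_coe, e.symm.orderOf_eq, hoN]; rfl)
    have h8 := FiniteField.isSquare_two_iff.1 (⟨t, ht.symm⟩ : IsSquare (2 : F))
    have h3 : k ^ (2 * i + 1) % 8 = 3 := by
      rw [show k = 3 by omega, pow_succ, pow_mul, Nat.mul_mod, Nat.pow_mod]
      norm_num
    omega

/-- The elementary elements of a subfield. -/
theorem subfield_pair (φ : K →+* F) :
    ¬ Commute (mkP (upperU (1 : F))) (mkP (lowerU 1)) ∧
      (∀ a : K, mkP (upperU (φ a)) = mkP (Matrix.SpecialLinearGroup.map φ (upperU a))) ∧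
      (∀ a : K, mkP (lowerU (φ a)) = mkP (Matrix.SpecialLinearGroup.map φ (lowerU a))) := by
  refine ⟨fun h => ?_, fun a => congrArg mkP (sl_ext ?_ ?_ ?_ ?_), fun a => congrArg mkP (sl_ext ?_ ?_ ?_ ?_)⟩
  · have h' := h.eq
    rw [← map_mul, ← map_mul, mkP_eq_iff] at h'
    rcases h' with e | e
    · have := congrArg (fun g : SL F => g.1 0 0) e
      simp [coe_upperU, coe_lowerU, Matrix.mul_apply, Fin.sum_univ_two] at this
    · have e00 := congrArg (fun g : SL F => g.1 0 0) e
      have e01 := congrArg (fun g : SL F => g.1 0 1) e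
      simp [coe_upperU, coe_lowerU, Matrix.mul_apply, Fin.sum_univ_two] at e00 e01
      exact one_ne_zero (show (1 : F) = 0 by linear_combination e00 - e01)
  all_goals simp [coe_upperU, coe_lowerU, Matrix.SpecialLinearGroup.map_apply_coe]

/-- Overgroups of subfield subgroups. -/
theorem subfield_overgroup {p : ℕ} [Fact p.Prime] [CharP F p] {q k : ℕ} (hF : Fintype.card F = q)
    (hk : Fintype.card K = k) (hk2 : k ≠ 2) (φ : K →+* F) {H M : Subgroup (PSL F)} (hle : H ≤ M)
    (hH : ∀ S : SL K, mkP (Matrix.SpecialLinearGroup.map φ S) ∈ H) :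
    Nonempty (M ≃* alternatingGroup (Fin 4)) ∨ Nonempty (M ≃* Equiv.Perm (Fin 4)) ∨
      Nonempty (M ≃* alternatingGroup (Fin 5)) ∨
      (∃ (K' : Type) (_ : Field K') (_ : Fintype K') (m : ℕ), Fintype.card K' ^ m = q ∧
        (Nonempty (M ≃* ProjectiveSpecialLinearGroup (Fin 2) K') ∨ Nonempty (M ≃* ProjGenLinGroup (Fin 2) K'))) := by
  have hk1 : 1 < k := hk ▸ Fintype.one_lt_card
  obtain ⟨hnc, hu, hl⟩ := subfield_pair φ
  have hu1 : ∀ a : K, mkP (upperU (φ a)) ∈ M := fun a => hle (by rw [hu]; exact hH _)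
  have hl1 : ∀ a : K, mkP (lowerU (φ a)) ∈ M := fun a => hle (by rw [hl]; exact hH _)
  have hU := hu1 1
  have hL := hl1 1
  rw [map_one] at hU hL
  rcases dickson_list hF p M with ⟨n, -, hM⟩ | ⟨P, hP⟩ | h | h | h | h
  · exfalso
    have hM' := hM.imp (fun h => h.1) id
    by_cases hp2 : p = 2
    · subst hp2
      have h2 : (2 : F) = 0 := by exact_mod_cast CharP.cast_eq_zero F 2
      obtain ⟨a, ha0, ha1⟩ : ∃ a : K, a ≠ 0 ∧ a ≠ 1 := by
        by_contra! hall
        have h : (Finset.univ : Finset K) ⊆ {0, 1} := fun a _ => by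
          by_cases ha : a = 0
          · simp [ha]
          · simp [hall a ha]
        have := Finset.card_le_card h
        rw [Finset.card_univ, hk] at this
        have := this.trans Finset.card_le_two
        omega
      have hr1 : ∀ b : F, b ≠ 0 → mkP (upperU b * lowerU 1) * mkP (upperU b * lowerU 1) ≠ 1 := by
        intro b hb h
        rw [← map_mul, mkP_eq_one] at h
        have := h.1
        simp [coe_upperU, coe_lowerU, Matrix.mul_apply, Fin.sum_univ_two] at this
        exact hb ((pow_eq_zero_iff two_ne_zero).1 (show b ^ 2 = 0 by linear_combination this - b * h2))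
      have hφa : φ a ≠ 0 := (φ.injective.ne_iff' (map_zero φ)).2 ha0
      have hmem : ∀ b : K, mkP (upperU (φ b) * lowerU 1) ∈ M := fun b => by
        rw [map_mul]; exact mul_mem (hu1 b) hL
      have hc := commute_of_cyclic_or_dihedral hM' (hmem a) (map_one φ ▸ hmem 1) (hr1 _ hφa) (hr1 1 one_ne_zero)
      have hc' := hc.eq
      rw [← map_mul, ← map_mul, mkP_eq_iff] at hc'
      have hneg : ∀ g : SL F, -g = g := fun g => by
        refine sl_ext ?_ ?_ ?_ ?_ <;> simp <;>
          first | linear_combination -(g.1 0 0) * h2 | linear_combination -(g.1 0 1) * h2 |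
            linear_combination -(g.1 1 0) * h2 | linear_combination -(g.1 1 1) * h2
      rw [hneg, or_self] at hc'
      have e01 := congrArg (fun g : SL F => g.1 1 0) hc'
      simp [coe_upperU, coe_lowerU, Matrix.mul_apply, Fin.sum_univ_two] at e01
      exact ha1 (φ.injective (by rw [map_one]; linear_combination e01 + (φ a - 1) * h2))
    · have h2 := two_ne_zero_of_char (F := F) hp2
      refine hnc (commute_of_cyclic_or_dihedral hM' hU hL (fun h => ?_) (fun h => ?_))
      · rw [← map_mul, mkP_eq_one] at h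
        have := h.1
        simp [coe_upperU, Matrix.mul_apply, Fin.sum_univ_two] at this
        exact h2 (by linear_combination this)
      · rw [← map_mul, mkP_eq_one] at h
        have := h.2.1
        simp [coe_lowerU, Matrix.mul_apply, Fin.sum_univ_two] at this
        exact h2 (by linear_combination this)
  · refine absurd (borel_commute P (hP hU) (hP hL) ?_ ?_) hnc
    · rw [← map_pow, upperU_pow, CharP.cast_eq_zero F p, zero_mul, upperU_zero, map_one]
    · rw [← map_pow, lowerU_pow, CharP.cast_eq_zero F p, zero_mul,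
        show lowerU (0 : F) = 1 from sl_ext (by simp [coe_lowerU]) (by simp [coe_lowerU]) (by simp [coe_lowerU]) (by simp [coe_lowerU]),
        map_one]
  · exact Or.inl h
  · exact Or.inr (Or.inl h)
  · exact Or.inr (Or.inr (Or.inl h))
  · exact Or.inr (Or.inr (Or.inr h))

/-- The exponent of an intermediate field. -/
theorem exponent_cases {p a e r : ℕ} (hp : p.Prime) (ha : a ≠ 0) (he : e ∣ a * r) (hr : r.Prime)
    (h : p ^ (2 * a) - 1 ∣ 2 * (p ^ (2 * e) - 1)) : e = a ∨ e = a * r := by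
  have hae : a ∣ e := by
    have h1 : p ^ (2 * a) - 1 ∣ Nat.gcd (2 * (p ^ (2 * a) - 1)) (2 * (p ^ (2 * e) - 1)) :=
      Nat.dvd_gcd (dvd_mul_left _ _) h
    rw [Nat.gcd_mul_left, Nat.pow_sub_one_gcd_pow_sub_one, Nat.gcd_mul_left] at h1
    by_contra hne
    set g := Nat.gcd a e with hg
    have hga : g ∣ a := Nat.gcd_dvd_left a e
    have hg2 : 2 * g ≤ a := by
      obtain ⟨c, hc⟩ := hga
      rcases c with _ | _ | c
      · omega
      · exact absurd (hc.trans (mul_one g) ▸ Nat.gcd_dvd_right a e) hne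
      · have := Nat.mul_le_mul_left g (show 2 ≤ c + 1 + 1 by omega)
        omega
    have hg0 : 0 < g := Nat.gcd_pos_of_pos_left _ (Nat.pos_of_ne_zero ha)
    have hpos : 0 < p ^ (2 * g) - 1 := by
      have := Nat.one_lt_pow (show 2 * g ≠ 0 by omega) hp.one_lt
      omega
    have hle := Nat.le_of_dvd (by omega) h1
    have hmono : p ^ (2 * g) ≤ p ^ a := Nat.pow_le_pow_right hp.pos hg2
    have hsq : p ^ (2 * a) = p ^ a * p ^ a := by rw [two_mul, pow_add]
    have := Nat.mul_le_mul_right (p ^ a) (show 2 ≤ p ^ a by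
      calc 2 ≤ p := hp.two_le
        _ ≤ p ^ a := Nat.le_self_pow ha p)
    omega
  obtain ⟨c, rfl⟩ := hae
  rcases (Nat.dvd_prime hr).1 (Nat.dvd_of_mul_dvd_mul_left (Nat.pos_of_ne_zero ha) he) with rfl | rfl
  · exact Or.inl (mul_one a)
  · exact Or.inr rfl

/-- A subfield subgroup lies only in subfield subgroups of the same field. -/
theorem subfield_card_eq {p : ℕ} [Fact p.Prime] [CharP F p] {q k r : ℕ} (hF : Fintype.card F = q)
    (hk : Fintype.card K = k) (hq : q = k ^ r) (hr : r.Prime) {M : Subgroup (PSL F)}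
    (hdvd : k * (k - 1) * (k + 1) ∣ Nat.gcd 2 (k - 1) * Nat.card M)
    {K' : Type} [Field K'] [Fintype K'] {m : ℕ} (hm : Fintype.card K' ^ m = q)
    (hM : Nonempty (M ≃* ProjectiveSpecialLinearGroup (Fin 2) K') ∨ Nonempty (M ≃* ProjGenLinGroup (Fin 2) K')) :
    Fintype.card K' = k ∨ Fintype.card K' = q := by
  have hp := (Fact.out : p.Prime)
  have hq1 : 1 < q := hF ▸ Fintype.one_lt_card
  have hm0 : m ≠ 0 := fun e => by rw [e, pow_zero] at hm; omega
  haveI := char_eq_of_pow (F := F) hk (by rw [hF, hq]) hr.ne_zero p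
  haveI := char_eq_of_pow (F := F) (K := K') rfl (by rw [hF, hm]) hm0 p
  obtain ⟨a, -, ha⟩ := FiniteField.card K p
  obtain ⟨e, -, he⟩ := FiniteField.card K' p
  rw [hk] at ha
  set k' := Fintype.card K'
  have hMd : Nat.card M ∣ k' * (k' - 1) * (k' + 1) := by
    rcases hM with ⟨⟨f⟩⟩ | ⟨⟨f⟩⟩
    · rw [Nat.card_congr f.toEquiv, ← card_psl (F := K') rfl (p := p)]; exact dvd_mul_right _ _
    · rw [Nat.card_congr f.toEquiv, card_pgl_two]
  have hk' : ∀ n : ℕ, (n - 1) * (n + 1) = n ^ 2 - 1 := fun n => by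
    rw [show n ^ 2 - 1 = n ^ 2 - 1 ^ 2 by rw [one_pow], Nat.sq_sub_sq, mul_comm]
  have h1 : k ^ 2 - 1 ∣ 2 * k' * (k' ^ 2 - 1) := by
    rw [← hk', ← hk' k', mul_assoc 2, ← mul_assoc k']
    refine (dvd_mul_left _ k).trans ?_
    rw [← mul_assoc]
    exact hdvd.trans (Nat.mul_dvd_mul (Nat.gcd_dvd_left 2 (k - 1)) hMd)
  have hcop : Nat.Coprime (k ^ 2 - 1) k' := by
    rw [ha, he]
    refine Nat.Coprime.pow_right _ (Nat.Coprime.symm (hp.coprime_iff_not_dvd.2 fun h => ?_))
    have h2 : p ∣ (p ^ (a : ℕ)) ^ 2 := dvd_pow (dvd_pow_self p a.ne_zero) two_ne_zero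
    have h3 := Nat.dvd_sub h2 h
    rw [Nat.sub_sub_self (Nat.one_le_pow _ _ (pow_pos hp.pos _))] at h3
    exact hp.ne_one (Nat.dvd_one.1 h3)
  have h2 : k ^ 2 - 1 ∣ 2 * (k' ^ 2 - 1) := hcop.dvd_of_dvd_mul_left (by rwa [mul_left_comm, ← mul_assoc])
  rw [ha, he, ← pow_mul, ← pow_mul, mul_comm (a : ℕ) 2, mul_comm (e : ℕ) 2] at h2
  have hear : (e : ℕ) ∣ a * r := by
    have h3 : p ^ ((e : ℕ) * m) = p ^ ((a : ℕ) * r) := by
      rw [pow_mul, pow_mul, ← he, hm, hq, ha]
    exact ⟨m, (Nat.pow_right_injective hp.two_le h3).symm⟩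
  rcases exponent_cases hp a.ne_zero hear hr h2 with h | h
  · left; rw [he, h, ha]
  · right; rw [he, h, hq, ha, pow_mul]

end CfsgLib.Dickson
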