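import Cfsg.Agent.Lib.DicksonSubfield

/-! Maximality of subfield subgroups. -/

set_option autoImplicit false
set_option linter.style.haveILetI false

universe u v

namespace CfsgLib.Dickson

open Matrix

variable {F : Type u} [Field F] [Fintype F] {K : Type v} [Field K] [Fintype K]

omit [Fintype F] [Fintype K] in
theorem exists_psl_hom_map (φ : K →+* F) :
    ∃ f : PSL K →* PSL F, Function.Injective f ∧ ∀ S : SL K, f (mkP S) = mkP (Matrix.SpecialLinearGroup.map φ S) := by
  let m : SL K →* PSL F := (mkP : SL F →* PSL F).comp (Matrix.SpecialLinearGroup.map φ)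
  have hker : m.ker = Subgroup.center (SL K) := by
    ext g
    rw [MonoidHom.mem_ker, mem_center_iff_isScal]
    show mkP (Matrix.SpecialLinearGroup.map φ g) = 1 ↔ _
    rw [mkP_eq_one]
    constructor
    · rintro ⟨a, b, c⟩
      simp [Matrix.SpecialLinearGroup.map_apply_coe] at a b c
      exact ⟨a, b, φ.injective c⟩
    · rintro ⟨a, b, c⟩
      refine ⟨?_, ?_, ?_⟩ <;> simp [Matrix.SpecialLinearGroup.map_apply_coe, a, b, c]
  exact ⟨QuotientGroup.lift _ m hker.ge, (QuotientGroup.injective_lift_iff _ _ _).2 hker.symm, fun S => rfl⟩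

/-- The order argument showing maximality. -/
theorem subfield_isCoatom {p : ℕ} [Fact p.Prime] [CharP F p] {q k r : ℕ} (hF : Fintype.card F = q)
    (hk : Fintype.card K = k) (hq : q = k ^ r) (hr : r.Prime) (hk2 : k ≠ 2) (φ : K →+* F) {H : Subgroup (PSL F)}
    (hH : ∀ S : SL K, mkP (Matrix.SpecialLinearGroup.map φ S) ∈ H)
    (hcard : k * (k - 1) * (k + 1) ∣ Nat.gcd 2 (k - 1) * Nat.card H)
    (hne : Nat.card H ≤ k * (k - 1) * (k + 1))
    (hsmall : ∀ M : Subgroup (PSL F), Nonempty (M ≃* alternatingGroup (Fin 4)) ∨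
      Nonempty (M ≃* Equiv.Perm (Fin 4)) ∨ Nonempty (M ≃* alternatingGroup (Fin 5)) → H ≤ M → M = H)
    (hsame : ∀ M : Subgroup (PSL F), ∀ (K' : Type) (_ : Field K') (_ : Fintype K'), Fintype.card K' = k →
      Nonempty (M ≃* ProjectiveSpecialLinearGroup (Fin 2) K') ∨ Nonempty (M ≃* ProjGenLinGroup (Fin 2) K') →
        Nat.card M ≤ Nat.card H) :
    IsCoatom H := by
  have hk1 : 1 < k := hk ▸ Fintype.one_lt_card
  have hG := card_psl hF (p := p)
  refine ⟨fun htop => ?_, fun M hM => ?_⟩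
  · rw [show Nat.card (PSL F) = Nat.card H by rw [htop, Subgroup.card_top]] at hG
    have hkq : k * k ≤ q := by
      rw [hq, ← pow_two]
      exact Nat.pow_le_pow_right (by omega) hr.two_le
    have h2 := Nat.mul_le_mul_left k (show 2 ≤ k by omega)
    have hd := Nat.le_of_dvd two_pos (Nat.gcd_dvd_left 2 (q - 1))
    have h3 : k * 2 * (k - 1) * (k + 1) < q * (q - 1) * (q + 1) :=
      Nat.mul_lt_mul_of_le_of_lt (Nat.mul_le_mul (h2.trans hkq) (by omega)) (by omega)
        (Nat.mul_pos (by omega) (by omega))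
    have h4 := Nat.mul_le_mul hne hd
    rw [hG] at h4
    linarith
  by_contra hMtop
  have hlt : Nat.card H < Nat.card M := lt_of_le_of_ne (Subgroup.card_le_of_le hM.le)
    fun h => hM.ne (Subgroup.eq_of_le_of_card_ge hM.le h.ge)
  rcases subfield_overgroup (p := p) hF hk hk2 φ hM.le hH with h | h | h | ⟨K', hK', hK'f, m, hm, hiso⟩
  · exact hM.ne (hsmall M (Or.inl h) hM.le).symm
  · exact hM.ne (hsmall M (Or.inr (Or.inl h)) hM.le).symm
  · exact hM.ne (hsmall M (Or.inr (Or.inr h)) hM.le).symm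
  · rcases subfield_card_eq (p := p) hF hk hq hr (hcard.trans (Nat.mul_dvd_mul_left _ (Subgroup.card_dvd_of_le hM.le))) hm hiso with h | h
    · have := hsame M K' hK' hK'f h hiso
      omega
    · exact hMtop (eq_top_of_subfield (p := p) hF h hiso)

theorem small_card {M : Subgroup (PSL F)} (h : Nonempty (M ≃* alternatingGroup (Fin 4)) ∨
    Nonempty (M ≃* Equiv.Perm (Fin 4)) ∨ Nonempty (M ≃* alternatingGroup (Fin 5))) :
    (Nat.card M = 12 ∧ Nonempty (M ≃* alternatingGroup (Fin 4))) ∨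
      (Nat.card M = 24 ∧ Nonempty (M ≃* Equiv.Perm (Fin 4))) ∨
      (Nat.card M = 60 ∧ Nonempty (M ≃* alternatingGroup (Fin 5))) := by
  rcases h with ⟨⟨f⟩⟩ | ⟨⟨f⟩⟩ | ⟨⟨f⟩⟩
  · exact Or.inl ⟨by rw [Nat.card_congr f.toEquiv, nat_card_alternatingGroup, Nat.card_fin]; rfl, ⟨f⟩⟩
  · exact Or.inr (Or.inl ⟨by rw [Nat.card_congr f.toEquiv, Nat.card_perm, Nat.card_fin]; rfl, ⟨f⟩⟩)
  · exact Or.inr (Or.inr ⟨by rw [Nat.card_congr f.toEquiv, nat_card_alternatingGroup, Nat.card_fin]; rfl, ⟨f⟩⟩)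

end CfsgLib.Dickson
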