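import Cfsg.Agent.Lib.DicksonCount

/-!
# The Sylow `p`-subgroup in Dickson's count
-/

set_option autoImplicit false
set_option linter.style.haveILetI false

universe u

namespace CfsgLib.Dickson

open scoped Classical commutatorElement

variable {H : Type u} [Group H] {p : ℕ} [hp : Fact p.Prime] [Finite H] {Z : Subgroup H}
  (ax : Axioms p Z)

omit [Finite H] in
theorem ppow_of_mem {Q : Sylow p H} {q : H} (hq : q ∈ (Q : Subgroup H)) :
    ∃ a, orderOf q = p ^ a := by
  obtain ⟨a, ha⟩ := IsPGroup.iff_orderOf.1 Q.2 ⟨q, hq⟩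
  exact ⟨a, by rw [← ha, Subgroup.orderOf_mk]⟩

theorem mem_sylow_of_ppow {Q : Sylow p H} {q : H} (hN : q ∈ Subgroup.normalizer ((Q : Subgroup H) : Set H))
    (hq : ∃ a, orderOf q = p ^ a) : q ∈ (Q : Subgroup H) := by
  obtain ⟨a, ha⟩ := hq
  have h1 : IsPGroup p ↥(Subgroup.zpowers q ⊔ (Q : Subgroup H)) :=
    IsPGroup.to_sup_of_normal_right' (IsPGroup.of_card (n := a) (by rw [Nat.card_zpowers, ha])) Q.2
      (Subgroup.zpowers_le.2 hN)
  rw [← Q.3 h1 le_sup_right]
  exact Subgroup.mem_sup_left (Subgroup.mem_zpowers q)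

omit [Finite H] in
theorem regular_iff_not {q : H} (hq : ∃ a, orderOf q = p ^ a) (h1 : ¬ p ∣ orderOf q) : q = 1 := by
  obtain ⟨a, ha⟩ := hq
  rcases a with _ | a
  · exact orderOf_eq_one_iff.1 (by rw [ha, pow_zero])
  · exact absurd (ha ▸ dvd_pow_self p (Nat.succ_ne_zero a)) h1

include ax

theorem Axioms.sylow_comm (Q : Sylow p H) {a c : H} (ha : a ∈ (Q : Subgroup H))
    (hc : c ∈ (Q : Subgroup H)) : Commute a c := by
  by_cases hne : (Q : Subgroup H) = ⊥
  · rw [hne, Subgroup.mem_bot] at ha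
    rw [ha]; exact Commute.one_left _
  haveI : Nontrivial (Q : Subgroup H) := (Subgroup.nontrivial_iff_ne_bot _).2 hne
  haveI := Q.2.center_nontrivial
  obtain ⟨z, hz⟩ := exists_ne (1 : Subgroup.center (Q : Subgroup H))
  have hz1 : ((z : (Q : Subgroup H)) : H) ≠ 1 := fun e => hz (Subtype.ext (Subtype.ext e))
  have hzc : ∀ d ∈ (Q : Subgroup H), Commute d ((z : (Q : Subgroup H)) : H) := fun d hd =>
    congrArg Subtype.val (Subgroup.mem_center_iff.1 z.2 ⟨d, hd⟩)
  exact ax.abel _ (ax.not_mem_of_ppow (ppow_of_mem (z : (Q : Subgroup H)).2) hz1) a c (hzc a ha) (hzc c hc)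

theorem Axioms.mem_sylow_of_commute (Q : Sylow p H) {x w : H} (hx : x ∈ (Q : Subgroup H))
    (hx1 : x ≠ 1) (hw : ∃ a, orderOf w = p ^ a) (hc : Commute w x) : w ∈ (Q : Subgroup H) := by
  refine mem_sylow_of_ppow ?_ hw
  have hxZ := ax.not_mem_of_ppow (ppow_of_mem hx) hx1
  have key : ∀ d ∈ (Q : Subgroup H), Commute w d := fun d hd =>
    ax.abel x hxZ w d hc (ax.sylow_comm Q hd hx)
  rw [Subgroup.mem_normalizer_iff]
  intro d
  constructor
  · intro hd
    rw [(key d hd).eq, mul_inv_cancel_right]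
    exact hd
  · intro hd
    have h1 := key _ hd
    have h2 : w * d * w⁻¹ = d := by
      calc w * d * w⁻¹ = w⁻¹ * (w * (w * d * w⁻¹)) := by group
        _ = w⁻¹ * ((w * d * w⁻¹) * w) := by rw [h1.eq]
        _ = d := by group
    rwa [h2] at hd

theorem Axioms.cent_sylow (Q : Sylow p H) {x : H} (hx : x ∈ (Q : Subgroup H)) (hx1 : x ≠ 1) :
    cent x = (Q : Subgroup H) ⊔ Z := by
  refine le_antisymm (fun c hc => ?_)
    (sup_le (fun d hd => mem_cent.2 (ax.sylow_comm Q hd hx)) (ax.z_le_cent x))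
  refine mem_of_parts (p := p) (fun m hm => Subgroup.mem_sup_right ?_)
    (fun m hm => Subgroup.mem_sup_left ?_)
  · exact ax.no_mixed x (ppow_of_mem hx) hx1 _ ((mem_cent.1 hc).pow_left m) hm
  · exact ax.mem_sylow_of_commute Q hx hx1 hm ((mem_cent.1 hc).pow_left m)

theorem Axioms.z_le_normalizer (S : Subgroup H) : Z ≤ Subgroup.normalizer (S : Set H) :=
  ax.central.trans (fun c hc => Subgroup.mem_normalizer_iff.2 fun d => by
    rw [← Subgroup.mem_center_iff.1 hc d, mul_inv_cancel_right])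

theorem Axioms.mem_sylow_of_mem_sup (Q : Sylow p H) {w : H} (hw : w ∈ (Q : Subgroup H) ⊔ Z)
    (hp' : ∃ a, orderOf w = p ^ a) : w ∈ (Q : Subgroup H) :=
  mem_sylow_of_ppow ((sup_le Subgroup.le_normalizer (ax.z_le_normalizer _)) hw) hp'

theorem Axioms.normalizer_cent_sylow (Q : Sylow p H) {x : H} (hx : x ∈ (Q : Subgroup H))
    (hx1 : x ≠ 1) : Subgroup.normalizer (cent x : Set H) =
      Subgroup.normalizer ((Q : Subgroup H) : Set H) := by
  have hxZ := ax.not_mem_of_ppow (ppow_of_mem hx) hx1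
  ext g
  constructor
  · intro hg
    rw [Subgroup.mem_normalizer_iff]
    have key : ∀ g' ∈ Subgroup.normalizer (cent x : Set H), ∀ d ∈ (Q : Subgroup H),
        g' * d * g'⁻¹ ∈ (Q : Subgroup H) := by
      intro g' hg' d hd
      have h1 : g' * d * g'⁻¹ ∈ cent x := (Subgroup.mem_normalizer_iff.1 hg' d).1
        (mem_cent.2 (ax.sylow_comm Q hd hx))
      obtain ⟨a, ha⟩ := ppow_of_mem hd
      exact ax.mem_sylow_of_commute Q hx hx1 ⟨a, ((MulAut.conj g').orderOf_eq d).trans ha⟩
        (mem_cent.1 h1)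
    refine fun d => ⟨key g hg d, fun hd => ?_⟩
    have := key g⁻¹ (inv_mem hg) _ hd
    simpa [mul_assoc] using this
  · intro hg
    rw [ax.mem_normalizer_cent_iff hxZ, mem_cent]
    exact ax.sylow_comm Q ((Subgroup.mem_normalizer_iff.1 hg x).1 hx) hx

theorem Axioms.card_cent_sylow (Q : Sylow p H) {x : H} (hx : x ∈ (Q : Subgroup H)) (hx1 : x ≠ 1) :
    Nat.card (cent x) = Nat.card (Q : Subgroup H) * Nat.card Z := by
  rw [ax.cent_sylow Q hx hx1, sup_comm, CfsgLib.Core.card_sup_of_disjoint (ax.z_le_normalizer _),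
    mul_comm]
  refine eq_bot_iff.2 fun w hw => Subgroup.mem_bot.2 ?_
  by_contra h1
  exact ax.not_mem_of_ppow (ppow_of_mem hw.2) h1 hw.1

/-- The normalizer of a Sylow `p`-subgroup. -/
theorem Axioms.normalizer_sylow (Q : Sylow p H) (hQ : (Q : Subgroup H) ≠ ⊥) :
    Nat.card (Subgroup.normalizer ((Q : Subgroup H) : Set H)) =
        Nat.card (Q : Subgroup H) * Nat.card Z ∨
      ∃ h, h ∉ Z ∧ ¬ p ∣ orderOf h ∧ h ∈ Subgroup.normalizer ((Q : Subgroup H) : Set H) ∧
        Nat.card (Subgroup.normalizer ((Q : Subgroup H) : Set H)) =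
            Nat.card (Q : Subgroup H) * Nat.card (cent h) ∧
        Z.relIndex (cent h) ∣ Nat.card (Q : Subgroup H) - 1 := by
  set N := Subgroup.normalizer ((Q : Subgroup H) : Set H) with hN
  obtain ⟨⟨x, hx⟩, hx1⟩ : ∃ x : (Q : Subgroup H), x ≠ 1 := by
    haveI : Nontrivial (Q : Subgroup H) := (Subgroup.nontrivial_iff_ne_bot _).2 hQ
    exact exists_ne 1
  by_cases hle : N ≤ (Q : Subgroup H) ⊔ Z
  · left
    rw [le_antisymm hle (sup_le Subgroup.le_normalizer (ax.z_le_normalizer _)),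
      ← ax.cent_sylow Q hx fun e => hx1 (Subtype.ext e)]
    exact ax.card_cent_sylow Q hx fun e => hx1 (Subtype.ext e)
  right
  obtain ⟨g, hg, hgQ⟩ := SetLike.not_le_iff_exists.1 hle
  obtain ⟨m, hm, hmZ⟩ : ∃ m, ¬ p ∣ orderOf (g ^ m) ∧ g ^ m ∉ Z := by
    by_contra hc
    push Not at hc
    exact hgQ (mem_of_parts (p := p) (fun m hm => Subgroup.mem_sup_right (hc m hm))
      (fun m hm => Subgroup.mem_sup_left (mem_sylow_of_ppow (pow_mem hg m) hm)))
  set h := g ^ m with hh
  have hhN : h ∈ N := pow_mem hg m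
  have hCN : cent h ≤ N := fun c hc => ax.cent_mem Q h hhN hmZ c (mem_cent.1 hc)
  have hfix : ∀ q ∈ (Q : Subgroup H), Commute q h → q = 1 := fun q hq hc =>
    regular_iff_not (ppow_of_mem hq) (ax.regular_of_mem_cent hmZ hm hc)
  have hinf : cent h ⊓ (Q : Subgroup H) = ⊥ :=
    eq_bot_iff.2 fun q hq => Subgroup.mem_bot.2 (hfix q hq.2 (mem_cent.1 hq.1))
  refine ⟨h, hmZ, hm, hhN, ?_, ?_⟩
  · -- every element of the normalizer is a product
    have hsur : Function.Surjective fun q : (Q : Subgroup H) =>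
        (⟨⁅(q : H), h⁆, ax.comm_mem Q q (Subgroup.le_normalizer q.2) h hhN⟩ : (Q : Subgroup H)) := by
      refine Finite.injective_iff_surjective.1 fun a c hac => ?_
      have h1 : (a : H) * h * (a : H)⁻¹ = (c : H) * h * (c : H)⁻¹ := by
        have := congrArg (fun w : (Q : Subgroup H) => (w : H) * h) hac
        simpa [commutatorElement_def, mul_assoc] using this
      have h2 : Commute ((c : H)⁻¹ * (a : H)) h := by
        have h3 : (c : H)⁻¹ * ((a : H) * h * (a : H)⁻¹) * (a : H) =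
            (c : H)⁻¹ * ((c : H) * h * (c : H)⁻¹) * (a : H) := by rw [h1]
        show _ = _
        simpa [mul_assoc] using h3
      exact (Subtype.ext (inv_mul_eq_one.1 (hfix _ (mul_mem (inv_mem c.2) a.2) h2))).symm
    have heq : cent h ⊔ (Q : Subgroup H) = N := by
      refine le_antisymm (sup_le hCN Subgroup.le_normalizer) fun n hn => ?_
      obtain ⟨q, hq⟩ := hsur ⟨⁅n, h⁆, ax.comm_mem Q n hn h hhN⟩
      have h1 : (q : H) * h * (q : H)⁻¹ = n * h * n⁻¹ := by
        have := congrArg (fun w : (Q : Subgroup H) => (w : H) * h) hq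
        simpa [commutatorElement_def, mul_assoc] using this
      have h2 : (q : H)⁻¹ * n ∈ cent h := by
        refine mem_cent.2 ?_
        have h3 : (q : H)⁻¹ * ((q : H) * h * (q : H)⁻¹) * n = (q : H)⁻¹ * (n * h * n⁻¹) * n := by
          rw [h1]
        show _ = _
        simpa [mul_assoc] using h3.symm
      rw [show n = (q : H) * ((q : H)⁻¹ * n) by group]
      exact mul_mem (Subgroup.mem_sup_right q.2) (Subgroup.mem_sup_left h2)
    rw [← heq, CfsgLib.Core.card_sup_of_disjoint hCN hinf, mul_comm]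
  · -- the centralizer acts freely on `Q`
    let α := {q : H // q ∈ (Q : Subgroup H) ∧ q ≠ 1}
    have hmem : ∀ (c : cent h) (q : α), (c : H) * q.1 * (c : H)⁻¹ ∈ (Q : Subgroup H) ∧
        (c : H) * q.1 * (c : H)⁻¹ ≠ 1 := fun c q =>
      ⟨(Subgroup.mem_normalizer_iff.1 (hCN c.2) q.1).1 q.2.1, fun e => q.2.2 (by simpa using e)⟩
    letI act : MulAction (cent h) α :=
      { smul := fun c q => ⟨_, hmem c q⟩
        one_smul := fun q => Subtype.ext (show ((1 : cent h) : H) * q.1 * ((1 : cent h) : H)⁻¹ = q.1 by simp)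
        mul_smul := fun c d q => Subtype.ext (show ((c * d : cent h) : H) * q.1 * ((c * d : cent h) : H)⁻¹ =
          (c : H) * ((d : H) * q.1 * (d : H)⁻¹) * (c : H)⁻¹ by push_cast; group) }
    have hstab : ∀ q : α, MulAction.stabilizer (cent h) q = Z.subgroupOf (cent h) := by
      intro q
      ext c
      rw [MulAction.mem_stabilizer_iff, Subgroup.mem_subgroupOf]
      constructor
      · intro hc
        have h1 : (c : H) * q.1 * (c : H)⁻¹ = q.1 := congrArg Subtype.val hc
        exact ax.no_mixed q.1 (ppow_of_mem q.2.1) q.2.2 c (mul_inv_eq_iff_eq_mul.1 h1)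
          (ax.regular_of_mem_cent hmZ hm (mem_cent.1 c.2))
      · intro hc
        refine Subtype.ext ?_
        show (c : H) * q.1 * (c : H)⁻¹ = q.1
        rw [(ax.commute_z hc q.1).eq, mul_inv_cancel_right]
    have hd := index_dvd_of_free hstab
    refine hd.trans (dvd_of_eq ?_)
    have h1 : Nat.card α + 1 = Nat.card (Q : Subgroup H) := by
      have e2 : ((Q : Subgroup H) : Set H) = {q | q ∈ (Q : Subgroup H) ∧ q ≠ 1} ∪ {1} := by
        ext y
        show y ∈ (Q : Subgroup H) ↔ (y ∈ (Q : Subgroup H) ∧ y ≠ 1) ∨ y = 1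
        by_cases hy : y = 1
        · simp [hy]
        · tauto
      have e3 : Disjoint {q | q ∈ (Q : Subgroup H) ∧ q ≠ 1} ({1} : Set H) := by simp
      have e4 := Set.ncard_union_eq e3 (Set.toFinite _) (Set.toFinite _)
      rw [← e2, Set.ncard_singleton, ← Nat.card_coe_set_eq, ← Nat.card_coe_set_eq] at e4
      exact e4.symm
    omega

theorem Axioms.sylow_eq_of_commute {Q R : Sylow p H} {x y : H} (hx : x ∈ (Q : Subgroup H))
    (hx1 : x ≠ 1) (hy : y ∈ (R : Subgroup H)) (hy1 : y ≠ 1) (hc : Commute y x) : Q = R := by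
  have h1 : ∀ d ∈ (R : Subgroup H), d ∈ (Q : Subgroup H) := fun d hd =>
    ax.mem_sylow_of_commute Q hx hx1 (ppow_of_mem hd)
      (ax.abel y (ax.not_mem_of_ppow (ppow_of_mem hy) hy1) d x (ax.sylow_comm R hd hy) hc.symm)
  exact Sylow.ext (R.3 Q.2 h1)

theorem Axioms.sylow_count_mod (Q : Sylow p H) :
    Nat.card (Q : Subgroup H) ∣ Nat.card (Sylow p H) - 1 ∧
      (Nat.card (Sylow p H) = Nat.card (Q : Subgroup H) + 1 → ∀ R R' : Sylow p H, R ≠ Q → R' ≠ Q →
        ∃ q ∈ (Q : Subgroup H), q • R = R') := by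
  have hfix : ∀ q : (Q : Subgroup H), (q : H) • Q = Q := fun q =>
    Sylow.smul_eq_iff_mem_normalizer.2 (Subgroup.le_normalizer q.2)
  let α := {R : Sylow p H // R ≠ Q}
  letI act : MulAction (Q : Subgroup H) α :=
    { smul := fun q R => ⟨(q : H) • R.1, fun e => R.2 (by
        have := congrArg (fun S => (q : H)⁻¹ • S) e
        simp only [inv_smul_smul] at this
        rw [this]
        exact inv_smul_eq_iff.2 (hfix q).symm)⟩
      one_smul := fun R => Subtype.ext (one_smul H R.1)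
      mul_smul := fun c d R => Subtype.ext (mul_smul (c : H) (d : H) R.1) }
  have hstab : ∀ R : α, MulAction.stabilizer (Q : Subgroup H) R = ⊥ := by
    intro R
    refine eq_bot_iff.2 fun q hq => Subgroup.mem_bot.2 ?_
    by_contra hq1
    have h1 : (q : H) • R.1 = R.1 := congrArg Subtype.val (MulAction.mem_stabilizer_iff.1 hq)
    have hqR : (q : H) ∈ (R.1 : Subgroup H) :=
      mem_sylow_of_ppow (Sylow.smul_eq_iff_mem_normalizer.1 h1) (ppow_of_mem q.2)
    have hq1' : (q : H) ≠ 1 := fun e => hq1 (Subtype.ext e)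
    exact R.2 (ax.sylow_eq_of_commute q.2 hq1' hqR hq1' (Commute.refl _)).symm
  haveI : Fintype (Sylow p H) := Fintype.ofFinite _
  have hα : Nat.card α = Nat.card (Sylow p H) - 1 := by
    rw [Nat.card_eq_fintype_card, Nat.card_eq_fintype_card, Fintype.card_subtype_compl,
      Fintype.card_subtype_eq]
  refine ⟨?_, fun hN R R' hR hR' => ?_⟩
  · have h1 := index_dvd_of_free (C := (Q : Subgroup H)) hstab
    rwa [Subgroup.index_bot, hα] at h1
  · have h2 : Nat.card (MulAction.orbit (Q : Subgroup H) (⟨R, hR⟩ : α)) = Nat.card α := by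
      rw [Nat.card_coe_set_eq, ← MulAction.index_stabilizer (Q : Subgroup H) (⟨R, hR⟩ : α), hstab,
        Subgroup.index_bot, hα]
      omega
    have h3 : (⟨R', hR'⟩ : α) ∈ MulAction.orbit (Q : Subgroup H) (⟨R, hR⟩ : α) := by
      have h4 : MulAction.orbit (Q : Subgroup H) (⟨R, hR⟩ : α) = Set.univ :=
        Set.eq_of_subset_of_ncard_le (Set.subset_univ _) (by
          rw [Set.ncard_univ, ← Nat.card_coe_set_eq, h2]) (Set.toFinite _)
      rw [h4]; trivial
    obtain ⟨q, hq⟩ := h3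
    exact ⟨q, q.2, congrArg Subtype.val hq⟩

end CfsgLib.Dickson
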