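import Cfsg.Agent.Lib.DicksonList
import Cfsg.Agent.Lib.ClassicalProjLine

/-!
# Tori of `SL₂(q)` and the dihedral subgroups of `PSL₂(q)`
-/

set_option autoImplicit false
set_option linter.style.haveILetI false

universe u

namespace CfsgLib.Dickson

open Matrix

attribute [local instance] _root_.Classical.propDecidable

variable {F : Type u} [Field F]

/-- The group `PSL₂ F`. -/
abbrev PSL (F : Type u) [Field F] : Type u := ProjectiveSpecialLinearGroup (Fin 2) F

/-- The projection. -/
abbrev mkP : SL F →* PSL F := QuotientGroup.mk' (Subgroup.center (SL F))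

theorem mkP_surjective : Function.Surjective (mkP : SL F → PSL F) := QuotientGroup.mk'_surjective _

theorem mkP_eq_one {g : SL F} : mkP g = 1 ↔ IsScal g := by
  rw [QuotientGroup.mk'_apply, QuotientGroup.eq_one_iff, mem_center_iff_isScal]

theorem isScal_one : IsScal (1 : SL F) := ⟨by simp, by simp, by simp⟩

theorem isScal_neg_iff {g : SL F} : IsScal (-g) ↔ IsScal g := by
  simp [IsScal]

theorem mkP_neg (g : SL F) : mkP (-g) = mkP g := by
  rw [show -g = g * -1 from Subtype.ext (by simp), map_mul, mkP_eq_one.2 neg_one_isScal, mul_one]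

theorem mkP_eq_iff {g h : SL F} : mkP g = mkP h ↔ g = h ∨ g = -h := by
  refine ⟨fun e => ?_, ?_⟩
  · have h1 : IsScal (h⁻¹ * g) := mkP_eq_one.1 (by rw [map_mul, map_inv, e, inv_mul_cancel])
    rcases CfsgLib.Classical.eq_one_or_neg_one_of_isScal h1 with e | e
    · exact Or.inl (inv_mul_eq_one.1 e).symm
    · right
      rw [inv_mul_eq_iff_eq_mul] at e
      rw [e]
      exact Subtype.ext (by simp)
  · rintro (rfl | rfl)
    · rfl
    · exact mkP_neg h

/-- The linear span of `1` and `M`. -/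
theorem exists_span_pow (M : Matrix (Fin 2) (Fin 2) F) :
    ∀ n : ℕ, ∃ a b : F, M ^ n = a • (1 : Matrix (Fin 2) (Fin 2) F) + b • M
  | 0 => ⟨1, 0, by simp⟩
  | n + 1 => by
    obtain ⟨a, b, h⟩ := exists_span_pow M n
    refine ⟨-b * M.det, a + b * (M 0 0 + M 1 1), ?_⟩
    rw [pow_succ, h, add_mul, smul_mul_assoc, smul_mul_assoc, one_mul]
    ext i j
    fin_cases i <;> fin_cases j <;> simp [Matrix.mul_apply, Fin.sum_univ_two, Matrix.det_fin_two] <;> ring

/-- Finite fields: the three kinds of invertible two by two matrices. -/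
theorem pow_cases [Fintype F] {q : ℕ} (hF : Fintype.card F = q) {p : ℕ} [hp : Fact p.Prime] [CharP F p]
    (M : Matrix (Fin 2) (Fin 2) F) (hM : M.det ≠ 0) :
    M ^ (q - 1) = 1 ∨ M ^ (q + 1) = M.det • (1 : Matrix (Fin 2) (Fin 2) F) ∨
      ((M 0 0 + M 1 1) ^ 2 = 4 * M.det ∧ ∃ c : F, M ^ p = c • (1 : Matrix (Fin 2) (Fin 2) F)) := by
  set t := M 0 0 + M 1 1 with ht
  set D := M.det with hD
  have hd : M 0 0 * M 1 1 - M 0 1 * M 1 0 = D := (Matrix.det_fin_two M).symm
  by_cases hdisc : t ^ 2 = 4 * D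
  · refine Or.inr (Or.inr ⟨hdisc, ?_⟩)
    by_cases hp2 : p = 2
    · subst hp2
      have h2 : (2 : F) = 0 := by exact_mod_cast CharP.cast_eq_zero F 2
      have ht0 : t = 0 := (pow_eq_zero_iff two_ne_zero).1 (show t ^ 2 = 0 by
        rw [hdisc]; linear_combination 2 * D * h2)
      refine ⟨-D, ?_⟩
      rw [pow_two]
      ext i j
      fin_cases i <;> fin_cases j <;> simp [Matrix.mul_apply, Fin.sum_univ_two]
      · linear_combination M 0 0 * ht0 - M 0 0 * ht - hd
      · linear_combination M 0 1 * ht0 - M 0 1 * ht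
      · linear_combination M 1 0 * ht0 - M 1 0 * ht
      · linear_combination M 1 1 * ht0 - M 1 1 * ht - hd
    · have h2 := two_ne_zero_of_char (F := F) hp2
      obtain ⟨s, hs⟩ : ∃ s : F, t = 2 * s := ⟨t / 2, by field_simp⟩
      refine ⟨s ^ p, ?_⟩
      have hD' : D = s * s := mul_left_cancel₀ (show (4 : F) ≠ 0 by
        rw [show (4 : F) = 2 * 2 by norm_num]; exact mul_ne_zero h2 h2) (by rw [← hdisc, hs]; ring)
      have h0 : (M - s • (1 : Matrix (Fin 2) (Fin 2) F)) * (M - s • 1) = 0 := by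
        ext i j
        fin_cases i <;> fin_cases j <;> simp [Matrix.mul_apply, Fin.sum_univ_two]
        · linear_combination M 0 0 * hs - M 0 0 * ht - hd - hD'
        · linear_combination M 0 1 * hs - M 0 1 * ht
        · linear_combination M 1 0 * hs - M 1 0 * ht
        · linear_combination M 1 1 * hs - M 1 1 * ht - hd - hD'
      haveI : CharP (Matrix (Fin 2) (Fin 2) F) p := inferInstance
      have h1 := sub_pow_char_of_commute p ((Commute.one_right M).smul_right s)
      obtain ⟨k, hk⟩ := Nat.exists_eq_add_of_le hp.out.two_le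
      rw [hk, pow_add, pow_two, h0, zero_mul, smul_pow, one_pow, ← hk] at h1
      exact sub_eq_zero.1 h1.symm
  obtain ⟨n, -, hc⟩ := FiniteField.card F p
  have hq1 : 1 < q := hF ▸ Fintype.one_lt_card
  -- elements of the span of determinant one with a fixed vector are trivial
  have hkey : ∀ (h : Matrix (Fin 2) (Fin 2) F) (a b : F), h = a • (1 : Matrix (Fin 2) (Fin 2) F) + b • M →
      h.det = 1 → (h - 1).det = 0 → h = 1 := by
    intro h a b hab h1 h0
    subst hab
    rw [Matrix.det_fin_two] at h1 h0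
    simp at h1 h0
    have htr : 2 * a + b * t = 2 := by linear_combination h1 - h0 - (b * (ht : t = _))
    have hb : b = 0 := by
      by_contra hb
      apply hdisc
      apply mul_left_cancel₀ (mul_ne_zero hb hb)
      linear_combination (2 * a + b * t + 2) * htr - 4 * h1 + 4 * b ^ 2 * hd + 4 * a * b * (ht : t = _)
    subst hb
    have ha : a = 1 := sub_eq_zero.1 ((pow_eq_zero_iff two_ne_zero).1
      (show (a - 1) ^ 2 = 0 by linear_combination h1 - htr))
    simp [ha]
  set A := M.adjugate with hA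
  have hA' : A = t • (1 : Matrix (Fin 2) (Fin 2) F) - M := by
    rw [hA, Matrix.adjugate_fin_two]
    ext i j
    fin_cases i <;> fin_cases j <;> simp [ht]
  have hMA : M * A = D • (1 : Matrix (Fin 2) (Fin 2) F) := Matrix.mul_adjugate M
  have hcomm : Commute M A := by
    rw [hA']; exact ((Commute.one_right M).smul_right t).sub_right (Commute.refl M)
  haveI : CharP (Matrix (Fin 2) (Fin 2) F) p := inferInstance
  have hsum : M ^ q + A ^ q = t • (1 : Matrix (Fin 2) (Fin 2) F) := by
    rw [← hF, hc, ← add_pow_char_pow_of_commute p _ hcomm, hA', add_sub_cancel, smul_pow, one_pow, ← hc,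
      FiniteField.pow_card]
  have hprodq : M ^ q * A ^ q = D • (1 : Matrix (Fin 2) (Fin 2) F) := by
    rw [← hcomm.mul_pow, hMA, smul_pow, one_pow, ← hF, FiniteField.pow_card]
  set X := M ^ q with hX
  have hprod : (X - M) * (X - A) = 0 := by
    have hAq : A ^ q = t • (1 : Matrix (Fin 2) (Fin 2) F) - X := eq_sub_of_add_eq' hsum
    calc (X - M) * (X - A) = X * X - (M * X + X * A) + M * A := by noncomm_ring
      _ = X * X - X * (M + A) + D • (1 : Matrix (Fin 2) (Fin 2) F) := by
          rw [(Commute.self_pow M q).eq, hMA, mul_add]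
      _ = D • (1 : Matrix (Fin 2) (Fin 2) F) - X * (A ^ q) := by
          rw [hAq, hA', add_sub_cancel, mul_sub]; abel
      _ = 0 := by rw [hprodq, sub_self]
  have hdet := congrArg Matrix.det hprod
  rw [Matrix.det_mul, Matrix.det_zero] at hdet
  rcases mul_eq_zero.1 hdet with e | e
  · left
    obtain ⟨a, b, hab⟩ := exists_span_pow M (q - 1)
    refine hkey _ a b hab (by rw [Matrix.det_pow, ← hF, FiniteField.pow_card_sub_one_eq_one _ hM]) ?_
    rw [show X - M = M * (M ^ (q - 1) - 1) by
      rw [mul_sub, mul_one, ← pow_succ', Nat.sub_add_cancel hq1.le], Matrix.det_mul] at e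
    exact (mul_eq_zero.1 e).resolve_left hM
  · right; left
    obtain ⟨a, b, hab⟩ := exists_span_pow M (q + 1)
    have h1 := hkey (D⁻¹ • M ^ (q + 1)) (D⁻¹ * a) (D⁻¹ * b) (by rw [hab, smul_add, smul_smul, smul_smul]) ?_ ?_
    · rw [← one_smul F (M ^ (q + 1)), ← mul_inv_cancel₀ hM, ← smul_smul, h1]
    · rw [Matrix.det_smul, Matrix.det_pow, Fintype.card_fin, ← hD, pow_succ D, ← hF, FiniteField.pow_card]
      field_simp
    · rw [show D⁻¹ • M ^ (q + 1) - 1 = D⁻¹ • (M * (X - A)) by
        rw [mul_sub, hMA, smul_sub, smul_smul, inv_mul_cancel₀ hM, one_smul, ← pow_succ'],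
        Matrix.det_smul, Matrix.det_mul, e, mul_zero, mul_zero]

variable [Fintype F]

theorem card_psl {q : ℕ} (hF : Fintype.card F = q) {p : ℕ} [Fact p.Prime] [CharP F p] :
    Nat.card (PSL F) * Nat.gcd 2 (q - 1) = q * (q - 1) * (q + 1) := by
  rw [← card_center hF (p := p), ← hF, ← CfsgLib.Classical.Two.card_sl_two, ← Subgroup.index_eq_card,
    Subgroup.index_mul_card]

theorem gcd_dvd {q : ℕ} (hF : Fintype.card F = q) : Nat.gcd 2 (q - 1) ∣ q - 1 ∧ Nat.gcd 2 (q - 1) ∣ q + 1 := by
  refine ⟨Nat.gcd_dvd_right _ _, ?_⟩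
  have : 1 < q := hF ▸ Fintype.one_lt_card
  have h := Nat.dvd_add (Nat.gcd_dvd_right 2 (q - 1)) (Nat.gcd_dvd_left 2 (q - 1))
  rwa [show q - 1 + 2 = q + 1 by omega] at h

/-- Elements of `PSL₂(q)` have order dividing `p` or `(q ± 1) / d`. -/
theorem psl_pow_cases {q : ℕ} (hF : Fintype.card F = q) {p : ℕ} [Fact p.Prime] [CharP F p] (x : PSL F) :
    x ^ p = 1 ∨ x ^ ((q - 1) / Nat.gcd 2 (q - 1)) = 1 ∨ x ^ ((q + 1) / Nat.gcd 2 (q - 1)) = 1 := by
  obtain ⟨g, rfl⟩ := mkP_surjective x
  simp only [← map_pow, mkP_eq_one]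
  have hone : ∀ m, g.1 ^ m = 1 → g ^ m = 1 := fun m h =>
    Subtype.ext ((Matrix.SpecialLinearGroup.coe_pow g m).trans h)
  have hdiv : ∀ m, Nat.gcd 2 (q - 1) ∣ m → g ^ m = 1 → IsScal (g ^ (m / Nat.gcd 2 (q - 1))) := by
    intro m hm h
    rcases (Nat.dvd_prime Nat.prime_two).1 (Nat.gcd_dvd_left 2 (q - 1)) with e | e
    · rw [e, Nat.div_one, h]; exact isScal_one
    · rw [e] at hm ⊢
      obtain ⟨k, rfl⟩ := hm
      rw [Nat.mul_div_cancel_left k two_pos]
      set y := g ^ k with hy
      have hyy : y * y = 1 := by rw [hy, ← pow_add, ← two_mul, h]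
      have h2 : (2 : F) ≠ 0 := by
        intro h2
        have hp2 : p = 2 := by
          have h' : ((2 : ℕ) : F) = 0 := by exact_mod_cast h2
          rw [CharP.cast_eq_zero_iff F p] at h'
          exact (Nat.prime_dvd_prime_iff_eq Fact.out Nat.prime_two).1 h'
        subst hp2
        obtain ⟨n, -, hn⟩ := FiniteField.card F 2
        have hq1 : 1 < q := hF ▸ Fintype.one_lt_card
        have : q % 2 = 0 := by rw [← hF, hn, Nat.pow_mod]; simp
        have := Nat.gcd_dvd_right 2 (q - 1)
        rw [e] at this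
        omega
      have hinv : y⁻¹ = y := inv_eq_of_mul_eq_one_right hyy
      have hv := congrArg Subtype.val hinv
      rw [Matrix.SpecialLinearGroup.coe_inv, Matrix.adjugate_fin_two] at hv
      have e01 := congrFun (congrFun hv 0) 1
      have e10 := congrFun (congrFun hv 1) 0
      have e00 := congrFun (congrFun hv 0) 0
      simp at e01 e10 e00
      exact ⟨mul_left_cancel₀ h2 (by linear_combination -e01), mul_left_cancel₀ h2 (by linear_combination -e10),
        e00.symm⟩
  rcases pow_cases hF (p := p) g.1 (by rw [g.2]; exact one_ne_zero) with h | h | ⟨-, c, hc⟩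
  · exact Or.inr (Or.inl (hdiv _ (gcd_dvd hF).1 (hone _ h)))
  · exact Or.inr (Or.inr (hdiv _ (gcd_dvd hF).2 (hone _ (by rw [h, g.2, one_smul]))))
  · left
    have e : (g ^ p).1 = c • (1 : Matrix (Fin 2) (Fin 2) F) := (Matrix.SpecialLinearGroup.coe_pow g p).trans hc
    refine ⟨?_, ?_, ?_⟩ <;> simp [e]

/-! ## A torus -/

/-- Number of units in the algebra spanned by an element, bounded below. -/
theorem card_form_ne_zero (t : F) :
    (Fintype.card F - 1) * (Fintype.card F - 1) ≤
        (Finset.univ.filter fun x : F × F => x.1 ^ 2 + x.1 * x.2 * t + x.2 ^ 2 ≠ 0).card ∧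
      ((∀ r : F, r ^ 2 + r * t + 1 ≠ 0) →
        Fintype.card F * Fintype.card F - 1 ≤
          (Finset.univ.filter fun x : F × F => x.1 ^ 2 + x.1 * x.2 * t + x.2 ^ 2 ≠ 0).card) := by
  set Q := Fintype.card F with hQ
  set Zs := Finset.univ.filter fun x : F × F => x.1 ^ 2 + x.1 * x.2 * t + x.2 ^ 2 = 0
  set R := Finset.univ.filter fun r : F => r ^ 2 + r * t + 1 = 0
  have htot : Zs.card + (Finset.univ.filter fun x : F × F => x.1 ^ 2 + x.1 * x.2 * t + x.2 ^ 2 ≠ 0).card = Q * Q := by
    rw [Finset.card_filter_add_card_filter_not, Finset.card_univ, Fintype.card_prod]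
  have hR : R.card ≤ 2 := by
    rcases R.eq_empty_or_nonempty with h | ⟨r₁, hr₁⟩
    · rw [h]; simp
    · refine le_trans (Finset.card_le_card (t := {r₁, -t - r₁}) fun r hr => ?_) Finset.card_le_two
      simp [R] at hr hr₁
      rcases mul_eq_zero.1 (show (r - r₁) * (r + r₁ + t) = 0 by linear_combination hr - hr₁) with e | e
      · simp [sub_eq_zero.1 e]
      · simp [show r = -t - r₁ by linear_combination e]
  have hsub : Zs ⊆ insert (0, 0) ((R ×ˢ (Finset.univ.erase (0 : F))).image fun x => (x.1 * x.2, x.2)) := by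
    rintro ⟨a, b⟩ hx
    simp [Zs] at hx
    rcases eq_or_ne b 0 with rfl | hb
    · have : a = 0 := (pow_eq_zero_iff two_ne_zero).1 (by linear_combination hx)
      simp [this]
    · refine Finset.mem_insert_of_mem (Finset.mem_image.2 ⟨(a / b, b), ?_, ?_⟩)
      · simp [R, hb]
        field_simp
        linear_combination hx
      · simp only [Prod.mk.injEq, and_true]
        field_simp
  have hZ : Zs.card ≤ R.card * (Q - 1) + 1 := by
    refine (Finset.card_le_card hsub).trans ((Finset.card_insert_le _ _).trans ?_)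
    refine Nat.add_le_add_right (Finset.card_image_le.trans ?_) 1
    rw [Finset.card_product, Finset.card_erase_of_mem (Finset.mem_univ _), Finset.card_univ]
  have hQ1 : 1 < Q := Fintype.one_lt_card
  refine ⟨?_, fun h => ?_⟩
  · obtain ⟨m, hm⟩ : ∃ m, Q = m + 1 := ⟨Q - 1, by omega⟩
    rw [hm] at htot hZ ⊢
    simp only [Nat.add_sub_cancel] at *
    nlinarith
  · have : R = ∅ := Finset.filter_eq_empty_iff.2 fun r _ => h r
    rw [this, Finset.card_empty, zero_mul, zero_add] at hZ
    omega

variable {p : ℕ} [hp : Fact p.Prime] [CharP F p]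

/-- `a + b C`. -/
abbrev spanMat (C : SL F) (a b : F) : Matrix (Fin 2) (Fin 2) F :=
  a • (1 : Matrix (Fin 2) (Fin 2) F) + b • C.1

omit [Fintype F] in
theorem det_spanMat (C : SL F) (a b : F) :
    (spanMat C a b).det = a ^ 2 + a * b * (C.1 0 0 + C.1 1 1) + b ^ 2 := by
  rw [Matrix.det_fin_two]
  simp
  linear_combination b ^ 2 * det_eq C

omit hp [CharP F p] in
theorem torus_fiber {C : SL F} (hC : ¬ IsScal C) (c : F) (hc : c ≠ 0) :
    (Finset.univ.filter fun x : F × F => x.1 ^ 2 + x.1 * x.2 * (C.1 0 0 + C.1 1 1) + x.2 ^ 2 = c).card ≤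
      Nat.card (Subgroup.centralizer ({C} : Set (SL F))) := by
  set s := Finset.univ.filter fun x : F × F => x.1 ^ 2 + x.1 * x.2 * (C.1 0 0 + C.1 1 1) + x.2 ^ 2 = c
  rcases s.eq_empty_or_nonempty with h | ⟨x₀, hx₀⟩
  · rw [h]; simp
  have hdet : ∀ x ∈ s, (spanMat C x.1 x.2).det = c := fun x hx => by
    rw [det_spanMat]; exact (Finset.mem_filter.1 hx).2
  set N := (spanMat C x₀.1 x₀.2)⁻¹ with hN
  have hu : IsUnit (spanMat C x₀.1 x₀.2).det := by rw [hdet x₀ hx₀]; exact hc.isUnit
  have hcomm : ∀ a b : F, spanMat C a b * C.1 = C.1 * spanMat C a b := fun a b => by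
    simp [spanMat, add_mul, mul_add]
  have hNC : N * C.1 = C.1 * N := by
    calc N * C.1 = N * (C.1 * spanMat C x₀.1 x₀.2) * N := by
          rw [mul_assoc, mul_assoc, hN, Matrix.mul_nonsing_inv _ hu, mul_one]
      _ = C.1 * N := by rw [← hcomm, ← mul_assoc, hN, Matrix.nonsing_inv_mul _ hu, one_mul]
  let f : s → Subgroup.centralizer ({C} : Set (SL F)) := fun x =>
    ⟨⟨spanMat C x.1.1 x.1.2 * N, by
        rw [Matrix.det_mul, hdet x x.2, hN, Matrix.det_nonsing_inv, Ring.inverse_eq_inv', hdet x₀ hx₀,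
          mul_inv_cancel₀ hc]⟩,
      Subgroup.mem_centralizer_singleton_iff.2 (Subtype.ext (by
        show spanMat C x.1.1 x.1.2 * N * C.1 = C.1 * (spanMat C x.1.1 x.1.2 * N)
        rw [mul_assoc, hNC, ← mul_assoc, hcomm, mul_assoc]))⟩
  have hf : Function.Injective f := by
    intro x y e
    have e1 : spanMat C x.1.1 x.1.2 * N = spanMat C y.1.1 y.1.2 * N := congrArg (fun z => z.1.1) e
    have e2 := congrArg (fun z => z * spanMat C x₀.1 x₀.2) e1
    simp only [mul_assoc, hN, Matrix.nonsing_inv_mul _ hu, mul_one] at e2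
    have e00 := congrFun (congrFun e2 0) 0
    have e01 := congrFun (congrFun e2 0) 1
    have e10 := congrFun (congrFun e2 1) 0
    have e11 := congrFun (congrFun e2 1) 1
    simp at e00 e01 e10 e11
    have hb : x.1.2 = y.1.2 := by
      by_contra hb
      have hb' := sub_ne_zero.2 hb
      exact hC ⟨(e01.resolve_left hb), (e10.resolve_left hb),
        mul_left_cancel₀ hb' (by linear_combination e00 - e11)⟩
    exact Subtype.ext (Prod.ext (by linear_combination e00 - C.1 0 0 * hb) hb)
  have h := Nat.card_le_card_of_injective f hf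
  rwa [Nat.card_eq_finsetCard] at h

omit hp [CharP F p] in
theorem isSquare_of_card_le {S : Finset F} (hsq : ∀ x ∈ S, IsSquare x) (h0 : (0 : F) ∉ S) (h2 : (2 : F) ≠ 0) :
    2 * S.card ≤ Fintype.card F - 1 := by
  set T := Finset.univ.filter fun a : F => a * a ∈ S
  have hmap : ∀ x ∈ S, 2 ≤ (T.filter fun a => a * a = x).card := by
    intro x hx
    obtain ⟨a, rfl⟩ := hsq x hx
    have ha : a ≠ 0 := fun e => h0 (by simpa [e] using hx)
    refine le_trans ?_ (Finset.card_le_card (s := {a, -a}) fun b hb => ?_)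
    · rw [Finset.card_pair fun e => ha (mul_left_cancel₀ h2 (by linear_combination e))]
    · simp at hb
      rcases hb with rfl | rfl <;> simp [T, hx]
  have h1 : S.card • 2 ≤ ∑ x ∈ S, (T.filter fun a => a * a = x).card := Finset.card_nsmul_le_sum _ _ _ hmap
  rw [← Finset.card_eq_sum_card_fiberwise (s := T) (t := S) (f := fun a => a * a)
    (fun a ha => (Finset.mem_filter.1 (Finset.mem_coe.1 ha)).2), smul_eq_mul] at h1
  have h3 : T.card ≤ (Finset.univ.erase (0 : F)).card := Finset.card_le_card fun a ha => by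
    simp [T] at ha ⊢
    rintro rfl
    simp at ha
    exact h0 ha
  rw [Finset.card_erase_of_mem (Finset.mem_univ _), Finset.card_univ] at h3
  omega

/-- The centraliser of a regular element, and its norm form. -/
theorem torus_data {q : ℕ} (hF : Fintype.card F = q) (h4 : 4 ≤ q) {C : SL F} (hC : ¬ IsScal C)
    (hord : ¬ p ∣ orderOf C) :
    IsCyclic (Subgroup.centralizer ({C} : Set (SL F))) ∧
    (Nat.card (Subgroup.centralizer ({C} : Set (SL F))) = q - 1 ∨
      Nat.card (Subgroup.centralizer ({C} : Set (SL F))) = q + 1) ∧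
    ((∀ r : F, r ^ 2 + r * (C.1 0 0 + C.1 1 1) + 1 ≠ 0) →
      Nat.card (Subgroup.centralizer ({C} : Set (SL F))) = q + 1) ∧
    ∀ c : F, c ≠ 0 → ∃ a b : F, a ^ 2 + a * b * (C.1 0 0 + C.1 1 1) + b ^ 2 = c := by
  subst hF
  have hcore := core_scalPart (p := p) (L := SL F) (ι := MonoidHom.id (SL F)) Function.injective_id
  have hCZ : C ∉ scalPart (MonoidHom.id (SL F)) := fun e => hC (mem_scalPart.1 e)
  have hco := hcore.not_dvd_card_cent hCZ hord
  set T := Subgroup.centralizer ({C} : Set (SL F))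
  have hcyc : IsCyclic T := CfsgLib.Classical.isCyclic_of_comm_coprime (p := p) T
    (fun a ha b hb => (commute_of_commute hC (Subgroup.mem_centralizer_singleton_iff.1 ha)
      (Subgroup.mem_centralizer_singleton_iff.1 hb)).eq) hco
  haveI := hcyc
  have hdvd : Nat.card T ∣ Fintype.card F - 1 ∨ Nat.card T ∣ Fintype.card F + 1 := by
    obtain ⟨c, hc⟩ := IsCyclic.exists_ofOrder_eq_natCard (α := T)
    have hc' : orderOf (c : SL F) = Nat.card T := by rw [Subgroup.orderOf_coe, hc]
    rcases pow_eq_one_of_regular rfl (p := p) (g := (c : SL F)) (by rw [hc']; exact hco) with e | e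
    · exact Or.inl (hc' ▸ orderOf_dvd_of_pow_eq_one e)
    · exact Or.inr (hc' ▸ orderOf_dvd_of_pow_eq_one e)
  set t := C.1 0 0 + C.1 1 1 with ht
  set Dm := Finset.univ.filter fun x : F × F => x.1 ^ 2 + x.1 * x.2 * t + x.2 ^ 2 ≠ 0 with hDm
  set I := Dm.image fun x : F × F => x.1 ^ 2 + x.1 * x.2 * t + x.2 ^ 2 with hI
  have hle : Dm.card ≤ Nat.card T * I.card := by
    refine Finset.card_le_mul_card_image Dm _ fun c hc => ?_
    obtain ⟨x, hx, rfl⟩ := Finset.mem_image.1 hc
    refine le_trans (Finset.card_le_card fun y hy => ?_) (torus_fiber hC _ (Finset.mem_filter.1 hx).2)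
    simp [Dm] at hy ⊢
    exact hy.2
  have hI0 : (0 : F) ∉ I := by simp [I, Dm]
  have hIle : I.card ≤ Fintype.card F - 1 := by
    refine le_trans (Finset.card_le_card (t := Finset.univ.erase (0 : F)) fun c hc =>
      Finset.mem_erase.2 ⟨fun e => hI0 (e ▸ hc), Finset.mem_univ _⟩) ?_
    rw [Finset.card_erase_of_mem (Finset.mem_univ _), Finset.card_univ]
  obtain ⟨hD1, hD2⟩ := card_form_ne_zero t
  rw [← hDm] at hD1 hD2
  set Q := Fintype.card F
  have hTge : Q - 1 ≤ Nat.card T := by
    refine Nat.le_of_mul_le_mul_right ?_ (show 0 < Q - 1 by omega)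
    calc (Q - 1) * (Q - 1) ≤ Dm.card := hD1
      _ ≤ Nat.card T * I.card := hle
      _ ≤ Nat.card T * (Q - 1) := Nat.mul_le_mul_left _ hIle
  have hcases : Nat.card T = Q - 1 ∨ Nat.card T = Q + 1 := by
    rcases hdvd with h | h
    · exact Or.inl (le_antisymm (Nat.le_of_dvd (by omega) h) hTge)
    · right
      obtain ⟨k, hk⟩ := h
      rcases k with _ | _ | k
      · simp at hk
      · omega
      · exfalso
        have := Nat.mul_le_mul hTge (show 2 ≤ k + 1 + 1 by omega)
        omega
  refine ⟨hcyc, hcases, fun hirr => hcases.resolve_left fun e => ?_, fun c hc => ?_⟩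
  · have h1 := (hD2 hirr).trans (hle.trans (Nat.mul_le_mul_left _ hIle))
    rw [e] at h1
    obtain ⟨m, hm⟩ : ∃ m, Q = m + 1 := ⟨Q - 1, by omega⟩
    rw [hm, Nat.add_sub_cancel] at h1
    have : (m + 1) * (m + 1) - 1 = m * m + 2 * m := by
      rw [show (m + 1) * (m + 1) = m * m + 2 * m + 1 by ring]; omega
    omega
  · have hscale : ∀ s, s ≠ 0 → ∀ x ∈ I, s * s * x ∈ I := by
      intro s hs x hx
      obtain ⟨y, hy, rfl⟩ := Finset.mem_image.1 hx
      refine Finset.mem_image.2 ⟨(s * y.1, s * y.2), ?_, by ring⟩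
      simp [Dm] at hy ⊢
      intro h0
      exact hy (mul_left_cancel₀ (mul_ne_zero hs hs) (by linear_combination h0))
    have hsq : ∀ s, s ≠ 0 → s * s ∈ I := fun s hs => Finset.mem_image.2 ⟨(s, 0), by simp [Dm, hs], by ring⟩
    suffices h : c ∈ I by
      obtain ⟨x, -, hx⟩ := Finset.mem_image.1 h
      exact ⟨x.1, x.2, hx⟩
    by_cases hc2 : IsSquare c
    · obtain ⟨s, rfl⟩ := hc2
      exact hsq s (fun e => hc (by rw [e, zero_mul]))
    · have h2 : (2 : F) ≠ 0 := fun h2 => hc2 (FiniteField.isSquare_of_char_two (by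
        haveI : CharP F 2 := CharTwo.of_one_ne_zero_of_two_eq_zero one_ne_zero h2
        exact ringChar.eq F 2) c)
      obtain ⟨ν, hν, hνs⟩ : ∃ ν ∈ I, ¬ IsSquare ν := by
        by_contra! hall
        have h1 := isSquare_of_card_le hall hI0 h2
        have h3 : Nat.card T ≤ Q + 1 := by omega
        have h5 := hle.trans (Nat.mul_le_mul_right I.card h3)
        obtain ⟨m, hm⟩ : ∃ m, Q = m + 1 := ⟨Q - 1, by omega⟩
        rw [hm, Nat.add_sub_cancel] at hD1
        rw [hm] at h5
        have h6 : 2 * I.card ≤ m := by omega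
        have h7 := Nat.mul_le_mul_left (m + 1 + 1) h6
        nlinarith [Nat.mul_le_mul_left m (show 3 ≤ m by omega)]
      obtain ⟨s, hs⟩ := isSquare_mul_of_not hc2 hνs
      have hν0 : ν ≠ 0 := fun e => hI0 (e ▸ hν)
      have hs0 : s ≠ 0 := fun e => by rw [e, zero_mul] at hs; exact mul_ne_zero hc hν0 hs
      have := hscale (s / ν) (div_ne_zero hs0 hν0) ν hν
      rwa [show s / ν * (s / ν) * ν = c by field_simp; linear_combination -hs] at this

omit hp [CharP F p] in
theorem exists_anti (C : SL F) : ∃ G : Matrix (Fin 2) (Fin 2) F,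
    G.det ≠ 0 ∧ G 0 0 + G 1 1 = 0 ∧ (G * C.1) 0 0 + (G * C.1) 1 1 = 0 := by
  by_cases hc : C.1 1 0 = 0
  · by_cases hb : C.1 0 1 = 0
    · exact ⟨!![0, 1; -1, 0], by simp [Matrix.det_fin_two], by simp, by simp [Matrix.mul_apply, Fin.sum_univ_two, hb, hc]⟩
    · exact ⟨!![1, 0; -(C.1 0 0 - C.1 1 1) / C.1 0 1, -1], by simp [Matrix.det_fin_two], by simp, by
        simp [Matrix.mul_apply, Fin.sum_univ_two]; field_simp; ring⟩
  · exact ⟨!![1, -(C.1 0 0 - C.1 1 1) / C.1 1 0; 0, -1], by simp [Matrix.det_fin_two], by simp, by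
      simp [Matrix.mul_apply, Fin.sum_univ_two]; field_simp; ring⟩

/-- An element inverting a regular element. -/
theorem exists_inverter {q : ℕ} (hF : Fintype.card F = q) (h4 : 4 ≤ q) {C : SL F} (hC : ¬ IsScal C)
    (hord : ¬ p ∣ orderOf C) : ∃ g : SL F, g * C = C⁻¹ * g ∧ g * g = -1 := by
  obtain ⟨G, hG, hG0, hG1⟩ := exists_anti C
  obtain ⟨a, b, hab⟩ := (torus_data hF h4 hC hord).2.2.2 G.det⁻¹ (inv_ne_zero hG)
  have hd : (G * spanMat C a b).det = 1 := by
    rw [Matrix.det_mul, det_spanMat, hab, mul_inv_cancel₀ hG]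
  have hGC : G * C.1 = (C⁻¹).1 * G := by
    rw [Matrix.SpecialLinearGroup.coe_inv, Matrix.adjugate_fin_two]
    simp [Matrix.mul_apply, Fin.sum_univ_two] at hG1
    have h11 : G 1 1 = -G 0 0 := by linear_combination hG0
    rw [h11] at hG1
    ext i j
    fin_cases i <;> fin_cases j <;> simp [Matrix.mul_apply, Fin.sum_univ_two, h11]
    · linear_combination hG1
    · ring
    · ring
    · linear_combination hG1
  refine ⟨⟨G * spanMat C a b, hd⟩, Subtype.ext ?_, ?_⟩
  · show G * spanMat C a b * C.1 = (C⁻¹).1 * (G * spanMat C a b)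
    rw [← mul_assoc, ← hGC, mul_assoc, mul_assoc]
    congr 1
    simp [spanMat, add_mul, mul_add]
  · apply Subtype.ext
    have htr : (G * spanMat C a b) 0 0 + (G * spanMat C a b) 1 1 = 0 := by
      simp [Matrix.mul_apply, Fin.sum_univ_two] at hG1 ⊢
      linear_combination a * hG0 + b * hG1
    generalize hH : G * spanMat C a b = H at hd htr ⊢
    show H * H = _
    rw [Matrix.SpecialLinearGroup.coe_neg, Matrix.SpecialLinearGroup.coe_one]
    rw [Matrix.det_fin_two] at hd
    ext i j
    fin_cases i <;> fin_cases j <;> simp [Matrix.mul_apply, Fin.sum_univ_two]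
    · linear_combination H 0 0 * htr - hd
    · linear_combination H 0 1 * htr
    · linear_combination H 1 0 * htr
    · linear_combination H 1 1 * htr - hd

/-- Every regular element of `PSL₂(q)` lies in a dihedral group of order `2(q ± 1) / d` containing
the normaliser of the group it generates. -/
theorem exists_dihedral {q : ℕ} (hF : Fintype.card F = q) (h4 : 4 ≤ q) {C : SL F} (hC : ¬ IsScal C)
    (hord : ¬ p ∣ orderOf C) :
    ∃ (n : ℕ) (D : Subgroup (PSL F)), Nat.gcd 2 (q - 1) * n = Nat.card (Subgroup.centralizer ({C} : Set (SL F))) ∧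
      Nonempty (D ≃* DihedralGroup n) ∧ orderOf (mkP C) ∣ n ∧ mkP C ∈ D ∧
      (∀ x : PSL F, x * mkP C * x⁻¹ ∈ Subgroup.zpowers (mkP C) → x ∈ D) ∧
      ∃ c : PSL F, c ∈ D ∧ orderOf c = n := by
  have hcore := core_scalPart (p := p) (L := SL F) (ι := MonoidHom.id (SL F)) Function.injective_id
  have hmemZ : ∀ {x : SL F}, x ∈ scalPart (MonoidHom.id (SL F)) ↔ IsScal x := fun {x} => mem_scalPart
  have hCZ : C ∉ scalPart (MonoidHom.id (SL F)) := fun e => hC (hmemZ.1 e)
  obtain ⟨hcyc, hcard, -, -⟩ := torus_data hF h4 hC hord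
  haveI := hcyc
  obtain ⟨g, hg, hgg⟩ := exists_inverter hF h4 hC hord
  set T := Subgroup.centralizer ({C} : Set (SL F))
  have hgT : g ∉ T := by
    intro h
    have h1 : C * g = C⁻¹ * g := by rw [← hg]; exact (Subgroup.mem_centralizer_singleton_iff.1 h).symm
    have h2 : C * C = 1 := by
      have := mul_right_cancel h1
      rw [mul_eq_one_iff_eq_inv]
      exact this
    apply hC
    have hinv : C⁻¹ = C := inv_eq_of_mul_eq_one_right h2
    by_cases hp2 : p = 2
    · subst hp2
      have ho : orderOf C ∣ 2 := orderOf_dvd_of_pow_eq_one (by rw [pow_two]; exact h2)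
      rcases (Nat.dvd_prime Nat.prime_two).1 ho with e | e
      · rw [orderOf_eq_one_iff.1 e]; exact isScal_one
      · exact absurd e.symm.dvd hord
    · have h2' := two_ne_zero_of_char (F := F) hp2
      have hv := congrArg Subtype.val hinv
      rw [Matrix.SpecialLinearGroup.coe_inv, Matrix.adjugate_fin_two] at hv
      have e01 := congrFun (congrFun hv 0) 1
      have e10 := congrFun (congrFun hv 1) 0
      have e00 := congrFun (congrFun hv 0) 0
      simp at e01 e10 e00
      exact ⟨mul_left_cancel₀ h2' (by linear_combination -e01), mul_left_cancel₀ h2' (by linear_combination -e10),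
        e00.symm⟩
  set N := Subgroup.normalizer (T : Set (SL F)) with hNdef
  have hTN : T ≤ N := Subgroup.le_normalizer
  have hgN : g ∈ N := by
    rw [hNdef]
    refine (hcore.mem_normalizer_cent_iff hCZ).2 ?_
    rw [hg, mul_inv_cancel_right]
    exact inv_mem (Subgroup.mem_centralizer_singleton_iff.2 rfl)
  have hN : Nat.card N = 2 * Nat.card T := by
    rcases hcore.card_normalizer_cent hCZ hord with e | e
    · exact absurd ((Subgroup.eq_of_le_of_card_ge hTN e.le) ▸ hgN) hgT
    · exact e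
  obtain ⟨G, hG⟩ := IsCyclic.exists_ofOrder_eq_natCard (α := T)
  have hGT : Subgroup.zpowers (G : SL F) = T := Subgroup.eq_of_le_of_card_ge (Subgroup.zpowers_le.2 G.2)
    (by rw [Nat.card_zpowers, Subgroup.orderOf_coe, hG])
  have hcenT : Subgroup.center (SL F) ≤ T := fun z hz =>
    Subgroup.mem_centralizer_singleton_iff.2 (Subgroup.mem_center_iff.1 hz C).symm
  have hker : (mkP : SL F →* PSL F).ker = Subgroup.center (SL F) := QuotientGroup.ker_mk' _
  have hmap : ∀ S : Subgroup (SL F), Subgroup.center (SL F) ≤ S →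
      Nat.gcd 2 (q - 1) * Nat.card (S.map mkP) = Nat.card S := by
    intro S hS
    have h := (Subgroup.center (SL F)).card_mul_index
    have h1 := Subgroup.index_map_eq (H := S) (f := mkP) mkP_surjective (by rw [hker]; exact hS)
    have h2 := (S.map mkP).card_mul_index
    have h3 := S.card_mul_index
    rw [h1] at h2
    rw [← h, card_center hF (p := p), Subgroup.index_eq_card] at h3
    change _ = _ * Nat.card (PSL F) at h3
    rw [← h2, ← mul_assoc] at h3
    exact (Nat.eq_of_mul_eq_mul_right (Nat.pos_of_ne_zero Subgroup.index_ne_zero_of_finite) h3).symm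
  have hTm : T.map mkP = Subgroup.zpowers (mkP (G : SL F)) :=
    (congrArg (Subgroup.map mkP) hGT).symm.trans (MonoidHom.map_zpowers _ _)
  refine ⟨orderOf (mkP (G : SL F)), N.map mkP, ?_, ?_, ?_, Subgroup.mem_map_of_mem _ (hTN (Subgroup.mem_centralizer_singleton_iff.2 rfl)), ?_, ?_⟩
  · rw [← Nat.card_zpowers, ← hTm, hmap T hcenT]
  · haveI : Finite (N.map mkP) := inferInstance
    refine equiv_dihedral (c := ⟨mkP (G : SL F), Subgroup.mem_map_of_mem _ (hTN G.2)⟩)
      (g := ⟨mkP g, Subgroup.mem_map_of_mem _ hgN⟩) (by rw [Subgroup.orderOf_mk]) ?_ ?_ ?_ ?_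
    · refine Nat.eq_of_mul_eq_mul_left (Nat.gcd_pos_of_pos_left (q - 1) two_pos) ?_
      rw [hmap N (hcenT.trans hTN), hN, ← hmap T hcenT, hTm, Nat.card_zpowers]
      ring
    · refine Subtype.ext ?_
      show mkP g * mkP g = 1
      rw [← map_mul, hgg]
      exact mkP_eq_one.2 neg_one_isScal
    · rintro ⟨i, hi⟩
      have hi' : mkP ((G : SL F) ^ i) = mkP g := by rw [map_zpow]; exact congrArg Subtype.val hi
      rcases mkP_eq_iff.1 hi' with e | e
      · exact hgT (e ▸ zpow_mem G.2 i)
      · refine hgT ?_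
        rw [show g = (G : SL F) ^ i * -1 by rw [e]; exact Subtype.ext (by simp)]
        exact mul_mem (zpow_mem G.2 i) (hcenT (mem_center_iff_isScal.2 neg_one_isScal))
    · refine Subtype.ext ?_
      show mkP g * mkP (G : SL F) * (mkP g)⁻¹ = (mkP (G : SL F))⁻¹
      rw [← map_inv, ← map_mul, ← map_mul, ← map_inv]
      have hGns : (G : SL F) ∉ scalPart (MonoidHom.id (SL F)) := by
        intro e
        apply hCZ
        have hle : T ≤ scalPart (MonoidHom.id (SL F)) := hGT ▸ Subgroup.zpowers_le.2 e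
        exact hle (Subgroup.mem_centralizer_singleton_iff.2 rfl)
      have hGr : ¬ p ∣ orderOf (G : SL F) := fun h =>
        hcore.not_dvd_card_cent hCZ hord (h.trans (Subgroup.orderOf_dvd_natCard T G.2))
      have hc1 : Commute (g * (G : SL F) * g⁻¹) (G : SL F) :=
        commute_of_commute hC (Subgroup.mem_centralizer_singleton_iff.1
          ((Subgroup.mem_normalizer_iff.1 hgN _).1 G.2)) (Subgroup.mem_centralizer_singleton_iff.1 G.2)
      rw [(hcore.conj_inv _ hGns hGr g hc1).resolve_left fun e => hgT ?_]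
      exact Subgroup.mem_centralizer_singleton_iff.2 (commute_of_commute (fun h => hGns (hmemZ.2 h))
        (mul_inv_eq_iff_eq_mul.1 e) (Subgroup.mem_centralizer_singleton_iff.1 G.2).symm)
  · rw [← Nat.card_zpowers (mkP (G : SL F)), ← hTm]
    exact Subgroup.orderOf_dvd_natCard _ (Subgroup.mem_map_of_mem _ (Subgroup.mem_centralizer_singleton_iff.2 rfl))
  · intro x hx
    obtain ⟨y, rfl⟩ := mkP_surjective x
    obtain ⟨i, hi⟩ := hx
    refine Subgroup.mem_map_of_mem _ ?_
    rw [hNdef]
    refine (hcore.mem_normalizer_cent_iff hCZ).2 ?_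
    have hCT : C ∈ T := Subgroup.mem_centralizer_singleton_iff.2 rfl
    have hi' : mkP (C ^ i) = mkP (y * C * y⁻¹) := by
      rw [map_zpow, map_mul, map_mul, map_inv]; exact hi
    rcases mkP_eq_iff.1 hi' with e | e
    · exact e ▸ zpow_mem hCT i
    · show y * C * y⁻¹ ∈ T
      rw [show y * C * y⁻¹ = C ^ i * -1 by rw [e]; exact Subtype.ext (by simp)]
      exact mul_mem (zpow_mem hCT i) (hcenT (mem_center_iff_isScal.2 neg_one_isScal))
  · exact ⟨_, Subgroup.mem_map_of_mem _ (hTN G.2), rfl⟩

/-- There are regular elements in both kinds of torus. -/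
theorem exists_torus {q : ℕ} (hF : Fintype.card F = q) (h4 : 4 ≤ q) (e : ℕ) (he : e = q - 1 ∨ e = q + 1) :
    ∃ C : SL F, ¬ IsScal C ∧ ¬ p ∣ orderOf C ∧ Nat.card (Subgroup.centralizer ({C} : Set (SL F))) = e := by
  subst hF
  have hcard : ∀ m, (m = Fintype.card F - 1 ∨ m = Fintype.card F + 1) → ¬ p ∣ m := by
    intro m hm hd
    obtain ⟨n, hn, hc⟩ := FiniteField.card F p
    have hpq : p ∣ Fintype.card F := hc ▸ dvd_pow_self p n.ne_zero
    rcases hm with rfl | rfl
    · have := Nat.dvd_sub hpq hd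
      rw [Nat.sub_sub_self (by omega)] at this
      exact hn.ne_one (Nat.dvd_one.1 this)
    · have := Nat.dvd_sub hd hpq
      rw [Nat.add_sub_cancel_left] at this
      exact hn.ne_one (Nat.dvd_one.1 this)
  rcases he with rfl | rfl
  · obtain ⟨z, hz⟩ := IsCyclic.exists_ofOrder_eq_natCard (α := Fˣ)
    rw [Nat.card_units, Nat.card_eq_fintype_card] at hz
    let C : SL F := ⟨!![(z : F), 0; 0, (z : F)⁻¹], by simp [Matrix.det_fin_two]⟩
    have hCv : C.1 = !![(z : F), 0; 0, (z : F)⁻¹] := rfl
    have hpow : ∀ m : ℕ, (C ^ m).1 0 0 = (z : F) ^ m ∧ (C ^ m).1 0 1 = 0 ∧ (C ^ m).1 1 0 = 0 ∧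
        (C ^ m).1 1 1 = ((z : F) ^ m)⁻¹ := by
      intro m
      induction m with
      | zero => simp
      | succ m ih =>
        obtain ⟨h1, h2, h3, h4⟩ := ih
        rw [pow_succ, pow_succ]
        generalize C ^ m = P at h1 h2 h3 h4 ⊢
        refine ⟨?_, ?_, ?_, ?_⟩ <;>
          simp [Matrix.SpecialLinearGroup.coe_mul, Matrix.mul_apply, Fin.sum_univ_two, hCv, h1, h2, h3, h4,
            mul_comm]
    have ho : orderOf C = Fintype.card F - 1 := by
      rw [← hz, orderOf_eq_orderOf_iff]
      intro m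
      obtain ⟨h1, h2, h3, h4⟩ := hpow m
      refine ⟨fun h => Units.ext ?_, fun h => ?_⟩
      · rw [h] at h1; simpa using h1.symm
      · have hm : (z : F) ^ m = 1 := by rw [← Units.val_pow_eq_pow_val, h, Units.val_one]
        exact sl_ext (by simpa [hm] using h1) (by simpa using h2) (by simpa using h3) (by simpa [hm] using h4)
    have hns : ¬ IsScal C := fun h => by
      have h1 : C * C = 1 := by
        obtain ⟨s1, s2, s3⟩ := h
        have hd := det_eq C
        rw [s1, s2, ← s3] at hd
        refine sl_ext ?_ ?_ ?_ ?_ <;> simp [Matrix.mul_apply, Fin.sum_univ_two, s1, s2, ← s3]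
        all_goals linear_combination hd
      have := orderOf_dvd_of_pow_eq_one (show C ^ 2 = 1 by rw [pow_two, h1])
      rw [ho] at this
      have := Nat.le_of_dvd two_pos this
      omega
    have hr : ¬ p ∣ orderOf C := ho ▸ hcard _ (Or.inl rfl)
    refine ⟨C, hns, hr, ?_⟩
    rcases (torus_data rfl h4 hns hr).2.1 with h | h
    · exact h
    · exfalso
      have hd := Subgroup.orderOf_dvd_natCard _
        (Subgroup.mem_centralizer_singleton_iff.2 rfl : C ∈ Subgroup.centralizer ({C} : Set (SL F)))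
      rw [ho, h] at hd
      have := Nat.dvd_sub hd (dvd_refl (Fintype.card F - 1))
      rw [show Fintype.card F + 1 - (Fintype.card F - 1) = 2 by omega] at this
      have := Nat.le_of_dvd two_pos this
      omega
  · obtain ⟨t, ht⟩ : ∃ t : F, ∀ r : F, r ^ 2 + r * t + 1 ≠ 0 := by
      by_contra! hall
      -- the values `-r - 1/r`
      have hsurj : Function.Surjective fun r : {r : F // r ≠ 0} => -(r.1 + r.1⁻¹) := fun t => by
        obtain ⟨r, hr⟩ := hall t
        have hr0 : r ≠ 0 := fun e => by simp [e] at hr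
        exact ⟨⟨r, hr0⟩, by field_simp; linear_combination -hr⟩
      have := Fintype.card_le_of_surjective _ hsurj
      rw [Fintype.card_subtype_compl, Fintype.card_subtype_eq] at this
      omega
    let C : SL F := ⟨!![0, -1; 1, t], by simp [Matrix.det_fin_two]⟩
    have hns : ¬ IsScal C := fun h => one_ne_zero (α := F) h.2.1
    have hr : ¬ p ∣ orderOf C := by
      intro hd
      rcases pow_cases rfl (p := p) C.1 (by rw [C.2]; exact one_ne_zero) with h | h | ⟨h, -⟩
      · exact hcard _ (Or.inl rfl) (hd.trans (orderOf_dvd_of_pow_eq_one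
          (Subtype.ext ((Matrix.SpecialLinearGroup.coe_pow C _).trans h))))
      · exact hcard _ (Or.inr rfl) (hd.trans (orderOf_dvd_of_pow_eq_one
          (Subtype.ext ((Matrix.SpecialLinearGroup.coe_pow C _).trans (by rw [h, C.2, one_smul]; rfl)))))
      · rw [C.2, mul_one] at h
        simp [C] at h
        by_cases hp2 : p = 2
        · subst hp2
          have h2 : (2 : F) = 0 := by exact_mod_cast CharP.cast_eq_zero F 2
          have ht0 : t = 0 := (pow_eq_zero_iff two_ne_zero).1 (by rw [h]; linear_combination 2 * h2)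
          exact ht 1 (by rw [ht0]; linear_combination h2)
        · have h2 := two_ne_zero_of_char (F := F) hp2
          exact ht (-t / 2) (by field_simp; linear_combination -h)
    refine ⟨C, hns, hr, (torus_data rfl h4 hns hr).2.2.1 fun r => ?_⟩
    simpa [C] using ht r

end CfsgLib.Dickson
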