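import Mathlib
import Cfsg.Agent.Lib.CorePGroup

/-!
Orders of automorphism groups of `p`-groups: free actions on generating tuples.
-/

set_option autoImplicit false

namespace CfsgLib.FgsAutFrattini

open Subgroup

theorem card_dvd_of_free {A X : Type*} [Group A] [Finite A] [Finite X] [MulAction A X]
    (h : ∀ (a : A) (x : X), a • x = x → a = 1) : Nat.card A ∣ Nat.card X := by
  rw [Nat.card_congr (MulAction.selfEquivSigmaOrbits A X)]
  haveI := Fintype.ofFinite (MulAction.orbitRel.Quotient A X)
  rw [Nat.card_sigma]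
  refine Finset.dvd_sum fun ω _ => ?_
  rw [Nat.card_congr (MulAction.orbitEquivQuotientStabilizer A ω.out)]
  have hs : MulAction.stabilizer A ω.out = ⊥ :=
    (Subgroup.eq_bot_iff_forall _).2 fun a ha => h a _ ha
  rw [← Subgroup.index_eq_card, hs, Subgroup.index_bot]

variable {G : Type*} [Group G] [Finite G] {p n r : ℕ} [hp : Fact p.Prime]

/-- The subgroup generated by the Frattini subgroup and a tuple. -/
def span {k : ℕ} (t : Fin k → G) : Subgroup G := frattini G ⊔ closure (Set.range t)

theorem card_frattini (hP : Nat.card G = p ^ n) (hr : (frattini G).index = p ^ r) :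
    r ≤ n ∧ Nat.card (frattini G) = p ^ (n - r) := by
  have h := (frattini G).card_mul_index
  rw [hP, hr] at h
  have hrn : r ≤ n := (Nat.pow_dvd_pow_iff_le_right hp.out.one_lt).1 (Dvd.intro_left _ h)
  refine ⟨hrn, Nat.eq_of_mul_eq_mul_right (pow_pos hp.out.pos r) ?_⟩
  rw [h, ← pow_add, Nat.sub_add_cancel hrn]

theorem span_snoc {k : ℕ} (t : Fin k → G) (x : G) :
    span (Fin.snoc t x) = span t ⊔ zpowers x := by
  rw [span, span, Fin.range_snoc, Set.insert_eq, Subgroup.closure_union, zpowers_eq_closure, sup_assoc,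
    sup_comm (closure {x})]

theorem span_normal (hG : IsPGroup p G) {k : ℕ} (t : Fin k → G) : (span t).Normal :=
  CfsgLib.Core.normal_of_commutator_le
    ((CfsgLib.Core.pgroup_commutator_le_frattini hG).trans le_sup_left)

theorem card_span_le (hG : IsPGroup p G) :
    ∀ (k : ℕ) (t : Fin k → G), Nat.card (span t) ≤ Nat.card (frattini G) * p ^ k := by
  intro k
  induction k with
  | zero => intro t; simp [span, Set.range_eq_empty]
  | succ k ih =>
    intro t
    rw [← Fin.snoc_init_self t, span_snoc, pow_succ, ← mul_assoc]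
    exact (CfsgLib.Core.card_sup_zpowers_mod (span_normal hG _)
      ((le_sup_left : _ ≤ span (Fin.init t)) (CfsgLib.Core.pgroup_pow_mem_frattini hG _))).1.trans
      (Nat.mul_le_mul_right p (ih _))

/-- Independent tuples. -/
abbrev Indep (p : ℕ) (G : Type*) [Group G] (k : ℕ) : Type _ :=
  {t : Fin k → G // Nat.card (span t) = Nat.card (frattini G) * p ^ k}

theorem indep_init_iff (hG : IsPGroup p G) {k : ℕ} (t : Fin k → G) (x : G) :
    Nat.card (span (Fin.snoc t x)) = Nat.card (frattini G) * p ^ (k + 1) ↔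
      Nat.card (span t) = Nat.card (frattini G) * p ^ k ∧ x ∉ span t := by
  have hmod := CfsgLib.Core.card_sup_zpowers_mod (span_normal hG t)
    ((le_sup_left : _ ≤ span t) (CfsgLib.Core.pgroup_pow_mem_frattini hG x))
  have hle := card_span_le hG k t
  rw [span_snoc, pow_succ, ← mul_assoc]
  constructor
  · intro h
    have hx : x ∉ span t := fun hx => by
      rw [sup_eq_left.2 (zpowers_le.2 hx)] at h
      have : 0 < Nat.card (frattini G) * p ^ k := Nat.mul_pos Nat.card_pos (pow_pos hp.out.pos k)
      have := hp.out.one_lt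
      nlinarith
    rw [hmod.2 hx] at h
    exact ⟨Nat.eq_of_mul_eq_mul_right hp.out.pos h, hx⟩
  · rintro ⟨h, hx⟩
    rw [hmod.2 hx, h]

theorem card_indep (hG : IsPGroup p G) : ∀ k : ℕ, Nat.card (Indep p G k) =
    ∏ i ∈ Finset.range k, (Nat.card G - Nat.card (frattini G) * p ^ i) := by
  intro k
  induction k with
  | zero =>
    rw [Finset.prod_range_zero, Nat.card_eq_one_iff_unique]
    exact ⟨⟨fun a b => Subtype.ext (Subsingleton.elim _ _)⟩,
      ⟨⟨Fin.elim0, by simp [span, Set.range_eq_empty]⟩⟩⟩
  | succ k ih =>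
    let e : Indep p G (k + 1) ≃ Σ t : Indep p G k, {x : G // x ∉ span t.1} :=
      { toFun := fun t =>
          have h := (indep_init_iff hG (Fin.init t.1) (t.1 (Fin.last k))).1
            (by rw [Fin.snoc_init_self]; exact t.2)
          ⟨⟨Fin.init t.1, h.1⟩, t.1 (Fin.last k), h.2⟩
        invFun := fun s => ⟨Fin.snoc s.1.1 s.2.1, (indep_init_iff hG _ _).2 ⟨s.1.2, s.2.2⟩⟩
        left_inv := fun t => Subtype.ext (Fin.snoc_init_self t.1)
        right_inv := fun s => by
          obtain ⟨⟨t, ht⟩, x, hx⟩ := s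
          refine Sigma.subtype_ext (Subtype.ext ?_) ?_ <;> simp }
    haveI := Fintype.ofFinite (Indep p G k)
    rw [Nat.card_congr e, Nat.card_sigma, Finset.prod_range_succ, ← ih]
    have hfib : ∀ t : Indep p G k, Nat.card {x : G // x ∉ span t.1} =
        Nat.card G - Nat.card (frattini G) * p ^ k := by
      intro t
      classical
      letI := Fintype.ofFinite G
      rw [Nat.card_eq_fintype_card, Fintype.card_subtype_compl, ← Nat.card_eq_fintype_card,
        ← Nat.card_eq_fintype_card]
      exact congrArg (Nat.card G - ·) t.2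
    rw [Finset.sum_congr rfl (fun t _ => hfib t), Finset.sum_const, Finset.card_univ, smul_eq_mul,
      Nat.card_eq_fintype_card (α := Indep p G k)]

theorem card_indep_top (hP : Nat.card G = p ^ n) (hr : (frattini G).index = p ^ r) :
    Nat.card (Indep p G r) = p ^ (r * (n - r)) * ∏ i ∈ Finset.range r, (p ^ r - p ^ i) := by
  obtain ⟨hrn, hF⟩ := card_frattini hP hr
  rw [card_indep (IsPGroup.of_card hP) r, hP, hF, mul_comm r (n - r), pow_mul]
  have : ∀ i : ℕ, p ^ n - p ^ (n - r) * p ^ i = p ^ (n - r) * (p ^ r - p ^ i) := fun i => by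
    rw [Nat.mul_sub, ← pow_add, ← pow_add, Nat.sub_add_cancel hrn]
  rw [Finset.prod_congr rfl (fun i _ => this i), Finset.prod_mul_distrib, Finset.prod_const,
    Finset.card_range]

theorem closure_eq_top (hP : Nat.card G = p ^ n) (hr : (frattini G).index = p ^ r)
    (t : Indep p G r) : closure (Set.range t.1) = ⊤ := by
  apply CfsgLib.Core.eq_top_of_sup_frattini
  rw [sup_comm]
  refine Subgroup.eq_top_of_card_eq _ ?_
  change Nat.card (span t.1) = _
  rw [t.2, ← hr, (frattini G).card_mul_index]

theorem map_span (α : MulAut G) {k : ℕ} (t : Fin k → G) :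
    (span t).map α.toMonoidHom = span (fun i => α (t i)) := by
  have hF : (frattini G).map α.toMonoidHom = frattini G :=
    Subgroup.characteristic_iff_map_eq.1 frattini_characteristic α
  rw [span, span, Subgroup.map_sup, hF, MonoidHom.map_closure, ← Set.range_comp]
  rfl

theorem card_aut_dvd (hP : Nat.card G = p ^ n) (hr : (frattini G).index = p ^ r) :
    Nat.card (MulAut G) ∣ p ^ (r * (n - r)) * ∏ i ∈ Finset.range r, (p ^ r - p ^ i) := by
  rw [← card_indep_top hP hr]
  letI : MulAction (MulAut G) (Indep p G r) :=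
    { smul := fun α t => ⟨fun i => α (t.1 i), by
        rw [← map_span, Subgroup.card_map_of_injective α.injective]; exact t.2⟩
      one_smul := fun t => Subtype.ext rfl
      mul_smul := fun α β t => Subtype.ext rfl }
  refine card_dvd_of_free fun α t h => ?_
  have hfix : ∀ i, α (t.1 i) = t.1 i := fun i => congrFun (congrArg Subtype.val h) i
  apply MulEquiv.toMonoidHom_injective
  refine MonoidHom.eq_of_eqOn_dense (closure_eq_top hP hr t) ?_
  rintro _ ⟨i, rfl⟩
  exact hfix i

theorem card_kernel_dvd (hP : Nat.card G = p ^ n) (hr : (frattini G).index = p ^ r)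
    (A : Subgroup (MulAut G)) (hA : ∀ α ∈ A, ∀ x : G, α x * x⁻¹ ∈ frattini G) :
    Nat.card A ∣ p ^ (r * (n - r)) := by
  obtain ⟨hrn, hF⟩ := card_frattini hP hr
  have hpos : 0 < Nat.card (Indep p G r) := by
    rw [card_indep_top hP hr]
    refine Nat.mul_pos (pow_pos hp.out.pos _) (Finset.prod_pos fun i hi => ?_)
    exact Nat.sub_pos_of_lt (Nat.pow_lt_pow_right hp.out.one_lt (Finset.mem_range.1 hi))
  obtain ⟨⟨t₀⟩, -⟩ := Nat.card_pos_iff.1 hpos
  let X := Fin r → frattini G
  letI : MulAction A X :=
    { smul := fun α f i => ⟨(α : MulAut G) ((f i : G) * t₀.1 i) * (t₀.1 i)⁻¹, by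
        have := mul_mem (hA α α.2 ((f i : G) * t₀.1 i)) (f i).2
        have e : (α : MulAut G) ((f i : G) * t₀.1 i) * ((f i : G) * t₀.1 i)⁻¹ * (f i : G) =
            (α : MulAut G) ((f i : G) * t₀.1 i) * (t₀.1 i)⁻¹ := by group
        rwa [e] at this⟩
      one_smul := fun f => funext fun i => Subtype.ext (by
        change (f i : G) * t₀.1 i * (t₀.1 i)⁻¹ = f i
        group)
      mul_smul := fun α β f => funext fun i => Subtype.ext (by
        change (α : MulAut G) ((β : MulAut G) ((f i : G) * t₀.1 i)) * (t₀.1 i)⁻¹ =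
          (α : MulAut G) ((β : MulAut G) ((f i : G) * t₀.1 i) * (t₀.1 i)⁻¹ * t₀.1 i) * (t₀.1 i)⁻¹
        rw [inv_mul_cancel_right]) }
  have hX : Nat.card X = p ^ (r * (n - r)) := by
    rw [Nat.card_fun, hF, Nat.card_fin, ← pow_mul, mul_comm]
  rw [← hX]
  refine card_dvd_of_free fun α f h => ?_
  have hfix : ∀ i, (α : MulAut G) ((f i : G) * t₀.1 i) = (f i : G) * t₀.1 i := fun i =>
    mul_right_cancel (b := (t₀.1 i)⁻¹) (by
      rw [mul_inv_cancel_right]
      exact congrArg Subtype.val (congrFun h i))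
  have htop : closure (Set.range fun i => (f i : G) * t₀.1 i) = ⊤ := by
    apply CfsgLib.Core.eq_top_of_sup_frattini
    rw [eq_top_iff, ← closure_eq_top hP hr t₀, closure_le]
    rintro _ ⟨i, rfl⟩
    have := mul_mem (mem_sup_right (S := closure (Set.range fun i => (f i : G) * t₀.1 i))
      (inv_mem (f i).2))
      (mem_sup_left (T := frattini G) (subset_closure (Set.mem_range_self (f := fun i => (f i : G) * t₀.1 i) i)))
    rwa [inv_mul_cancel_left] at this
  apply Subtype.ext
  apply MulEquiv.toMonoidHom_injective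
  refine MonoidHom.eq_of_eqOn_dense htop ?_
  rintro _ ⟨i, rfl⟩
  exact hfix i

end CfsgLib.FgsAutFrattini
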