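import Cfsg.Agent.Lib.CoreBasic
import Cfsg.Agent.Lib.CorePGroup
import Cfsg.Agent.Lib.CoreCoprime2
import Cfsg.Agent.Lib.CoreOmega
import Cfsg.Agent.Lib.CoreTransfer

/-!
# `p`-nilpotency from classes of `p`-power size
-/

set_option autoImplicit false

universe u

namespace CfsgLib.PClassNilp

open scoped commutatorElement

variable {G : Type u} [Group G]

theorem pow_mul_of_central {s c z : G} (hz : ∀ w : G, w = s ∨ w = c → z * w = w * z)
    (h : c * s = s * c * z) (n : ℕ) :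
    c ^ n * s = s * c ^ n * z ^ n ∧ (s * c) ^ n = s ^ n * c ^ n * z ^ n.choose 2 := by
  have hzc : Commute z c := hz c (Or.inr rfl)
  have hzs : Commute z s := hz s (Or.inl rfl)
  induction n with
  | zero => simp
  | succ n ih =>
    obtain ⟨h1, h2⟩ := ih
    refine ⟨?_, ?_⟩
    · rw [pow_succ, pow_succ' z]
      calc c ^ n * c * s = c ^ n * (c * s) := by group
        _ = (c ^ n * s) * c * z := by rw [h]; group
        _ = s * c ^ n * (z ^ n * c) * z := by rw [h1]; group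
        _ = s * c ^ n * (c * z ^ n) * z := by rw [(hzc.pow_left n).eq]
        _ = s * (c ^ n * c) * (z ^ n * z) := by group
        _ = _ := by rw [← pow_succ', pow_succ z]
    · rw [pow_succ, h2, Nat.choose_succ_succ, Nat.choose_one_right, pow_add z n]
      calc s ^ n * c ^ n * z ^ n.choose 2 * (s * c)
          = s ^ n * c ^ n * (z ^ n.choose 2 * (s * c)) := by group
        _ = s ^ n * (c ^ n * s) * c * z ^ n.choose 2 := by
          rw [((hzs.mul_right hzc).pow_left _).eq]; group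
        _ = s ^ n * s * c ^ n * (z ^ n * c) * z ^ n.choose 2 := by rw [h1]; group
        _ = s ^ n * s * c ^ n * (c * z ^ n) * z ^ n.choose 2 := by rw [(hzc.pow_left n).eq]
        _ = _ := by rw [pow_succ s, pow_succ c]; group

variable [Finite G] {p : ℕ} [hp : Fact p.Prime]

theorem conj_eq_conj_of_mem {x : G} {a : ℕ}
    (hx : (Subgroup.centralizer ({x} : Set G)).index = p ^ a) (P : Sylow p G) (g : G) :
    ∃ u ∈ (P : Subgroup G), g * x * g⁻¹ = u * x * u⁻¹ := by
  obtain ⟨u, hu, c, hc, rfl⟩ := CfsgLib.Core.index_inf_of_coprime_index' (P : Subgroup G)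
    (Subgroup.centralizer ({x} : Set G)) (by
      rw [hx]
      exact ((hp.out.coprime_iff_not_dvd.2 P.not_dvd_index).symm).pow_right a) g
  refine ⟨u, hu, ?_⟩
  have hcx : c * x = x * c := (Subgroup.mem_centralizer_singleton_iff.1 hc)
  rw [mul_inv_rev, show u * c * x * (c⁻¹ * u⁻¹) = u * (c * x) * c⁻¹ * u⁻¹ by group, hcx]
  group

theorem mem_pCore {x : G} {a : ℕ} (hx : (Subgroup.centralizer ({x} : Set G)).index = p ^ a)
    (hxp : ∃ k, x ^ p ^ k = 1) : x ∈ Cfsg.pCore p G := by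
  obtain ⟨P, hP⟩ := (show IsPGroup p (Subgroup.zpowers x) by
    rintro ⟨_, i, rfl⟩
    obtain ⟨k, hk⟩ := hxp
    refine ⟨k, Subtype.ext ?_⟩
    rw [SubgroupClass.coe_pow, OneMemClass.coe_one, ← zpow_natCast, ← zpow_mul, mul_comm, zpow_mul,
      zpow_natCast, hk, one_zpow]).exists_le_sylow
  rw [CfsgLib.Core.pCore_eq_iInf_sylow, Subgroup.mem_iInf]
  intro Q
  obtain ⟨g, rfl⟩ := MulAction.exists_smul_eq G P Q
  obtain ⟨u, hu, he⟩ := conj_eq_conj_of_mem hx P g⁻¹
  rw [Sylow.coe_subgroup_smul]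
  refine ⟨g⁻¹ * x * g⁻¹⁻¹, ?_, by simp [mul_assoc]⟩
  rw [he]
  exact mul_mem (mul_mem hu (hP (Subgroup.mem_zpowers x))) (inv_mem hu)

variable (h : ∀ x : G, (x ^ p = 1 ∨ (p = 2 ∧ x ^ 4 = 1)) →
  ∃ a : ℕ, (Subgroup.centralizer ({x} : Set G)).index = p ^ a)
include h

theorem centralizes_pCore (S : Subgroup G) (hSn : S.Normal) (hSp : IsPGroup p S) (y : G)
    (hy : (orderOf y).Coprime p) (s : G) (hs : s ∈ S) : y * s = s * y := by
  induction hn : Nat.card S using Nat.strong_induction_on generalizing S y s with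
  | _ n ih =>
  subst hn
  by_contra hcon
  have hlt : ∀ T : Subgroup G, T.Normal → T ≤ S → T ≠ S → ∀ z : G, (orderOf z).Coprime p →
      ∀ t ∈ T, z * t = t * z := fun T hT hle hne z hz t ht =>
    ih _ (lt_of_le_of_ne (Subgroup.card_le_of_le hle)
      fun e => hne (CfsgLib.Core.eq_of_le_of_card_le hle e.ge)) T hT (hSp.to_le hle) z hz t ht rfl
  have hS1 : S ≠ ⊥ := by
    rintro rfl
    rw [Subgroup.mem_bot.1 hs] at hcon
    simp at hcon
  -- the Frattini subgroup of `S`
  haveI : Nontrivial S := (Subgroup.nontrivial_iff_ne_bot S).2 hS1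
  set Φ := (frattini S).map S.subtype with hΦ
  have hΦn : Φ.Normal := CfsgLib.Core.map_subtype_normal_of_characteristic hSn inferInstance
  have hΦS : Φ ≤ S := Subgroup.map_subtype_le _
  have hΦne : Φ ≠ S := by
    intro e
    have h1 : frattini S = ⊤ := Subgroup.map_injective S.subtype_injective (by
      rw [← hΦ, e, ← MonoidHom.range_eq_map, Subgroup.range_subtype])
    exact bot_ne_top (CfsgLib.Core.eq_top_of_sup_frattini (K := (⊥ : Subgroup S)) (by rw [bot_sup_eq, h1]))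
  have hΦy := hlt Φ hΦn hΦS hΦne
  -- the subgroup generated by the commutators with `p'`-elements
  set C : Set G := {c : G | ∃ t ∈ S, ∃ z : G, (orderOf z).Coprime p ∧ z * t * z⁻¹ = t * c} with hC
  have hCS : C ⊆ S := by
    rintro c ⟨t, ht, z, -, e⟩
    have : c = t⁻¹ * (z * t * z⁻¹) := by rw [e, inv_mul_cancel_left]
    rw [this]
    exact mul_mem (inv_mem ht) (hSn.conj_mem t ht z)
  set D := Subgroup.closure C with hD
  have hDn : D.Normal := by
    have key : ∀ g : G, D.map (MulAut.conj g).toMonoidHom ≤ D := fun g => by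
      rw [hD, MonoidHom.map_closure, Subgroup.closure_le]
      rintro _ ⟨c, ⟨t, ht, z, hz, e⟩, rfl⟩
      refine Subgroup.subset_closure ⟨g * t * g⁻¹, hSn.conj_mem t ht g, g * z * g⁻¹, ?_, ?_⟩
      · rwa [show orderOf (g * z * g⁻¹) = orderOf z from (MulAut.conj g).orderOf_eq z]
      · show g * z * g⁻¹ * (g * t * g⁻¹) * (g * z * g⁻¹)⁻¹ = g * t * g⁻¹ * (g * c * g⁻¹)
        calc _ = g * (z * t * z⁻¹) * g⁻¹ := by group
          _ = _ := by rw [e]; group
    exact ⟨fun x hx g => key g ⟨x, hx, rfl⟩⟩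
  have hDS : D = S := by
    by_contra hne
    have hDy := hlt D hDn ((Subgroup.closure_le S).2 hCS) hne
    set d := s⁻¹ * (y * s * y⁻¹) with hd
    have hdD : d ∈ D := Subgroup.subset_closure ⟨s, hs, y, hy, by rw [hd, mul_inv_cancel_left]⟩
    have hyd : y * d = d * y := hDy y hy d hdD
    have hys : y * s * y⁻¹ = s * d := by rw [hd, mul_inv_cancel_left]
    have hpow : ∀ j : ℕ, y ^ j * s * (y ^ j)⁻¹ = s * d ^ j := by
      intro j
      induction j with
      | zero => simp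
      | succ j ihj =>
        rw [pow_succ', mul_inv_rev, show y * y ^ j * s * ((y ^ j)⁻¹ * y⁻¹) =
          y * (y ^ j * s * (y ^ j)⁻¹) * y⁻¹ by group, ihj, pow_succ']
        have hydj : y * d ^ j * y⁻¹ = d ^ j := by
          rw [((show Commute y d from hyd).pow_right j).eq, mul_inv_cancel_right]
        calc y * (s * d ^ j) * y⁻¹ = (y * s * y⁻¹) * (y * d ^ j * y⁻¹) := by group
          _ = _ := by rw [hys, hydj]; group
    have hdn : d ^ orderOf y = 1 := by
      have h1 := hpow (orderOf y)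
      rw [pow_orderOf_eq_one] at h1
      simpa using h1
    obtain ⟨k, hk⟩ := IsPGroup.iff_orderOf.1 hSp ⟨d, (Subgroup.closure_le S).2 hCS hdD⟩
    rw [Subgroup.orderOf_mk] at hk
    have hd1 : d = 1 := orderOf_eq_one_iff.1 (Nat.dvd_one.1 ((hy.pow_right k) ▸
      Nat.dvd_gcd (orderOf_dvd_of_pow_eq_one hdn) hk.dvd))
    apply hcon
    rw [hd1, mul_one, mul_inv_eq_iff_eq_mul] at hys
    exact hys
  -- `S` centralizes `Φ`
  haveI := hΦn
  have hcomm : ∀ a ∈ Φ, ∀ b ∈ S, a * b = b * a := by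
    have hle : D ≤ Subgroup.centralizer (Φ : Set G) := by
      rw [hD, Subgroup.closure_le]
      rintro c ⟨t, -, z, hz, e⟩
      have hzC : z ∈ Subgroup.centralizer (Φ : Set G) :=
        Subgroup.mem_centralizer_iff.2 fun a ha => (hΦy z hz a ha).symm
      have : c = t⁻¹ * z * t * z⁻¹ := by
        rw [show t⁻¹ * z * t * z⁻¹ = t⁻¹ * (z * t * z⁻¹) by group, e, inv_mul_cancel_left]
      rw [this]
      exact mul_mem (by
        simpa using (inferInstance : (Subgroup.centralizer (Φ : Set G)).Normal).conj_mem z hzC t⁻¹)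
        (inv_mem hzC)
    exact fun a ha b hb => Subgroup.mem_centralizer_iff.1 (hle (hDS ▸ hb)) a ha
  have hSpow : ∀ a ∈ S, a ^ p ∈ Φ := fun a ha =>
    ⟨⟨a, ha⟩ ^ p, CfsgLib.Core.pgroup_pow_mem_frattini hSp _, rfl⟩
  have hScomm : ∀ a ∈ S, ∀ b ∈ S, a⁻¹ * b⁻¹ * a * b ∈ Φ := fun a ha b hb =>
    ⟨⁅(⟨a, ha⟩ : S)⁻¹, (⟨b, hb⟩ : S)⁻¹⁆, CfsgLib.Core.pgroup_commutator_le_frattini hSp
      (Subgroup.commutator_mem_commutator (Subgroup.mem_top _) (Subgroup.mem_top _)), by
      simp [commutatorElement_def]⟩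
  -- the generators have order dividing `p`, or four
  obtain ⟨q, hqp, hq2, hq⟩ : ∃ q : ℕ, p ∣ q ∧ p ∣ q.choose 2 ∧
      ∀ w : G, w ^ q = 1 → w ^ p = 1 ∨ (p = 2 ∧ w ^ 4 = 1) := by
    by_cases h2 : p = 2
    · subst h2
      exact ⟨4, by norm_num, by decide, fun w hw => Or.inr ⟨rfl, hw⟩⟩
    · exact ⟨p, dvd_rfl, hp.out.dvd_choose_self (by norm_num)
        (lt_of_le_of_ne hp.out.two_le (Ne.symm h2)), fun w hw => Or.inl hw⟩
  have hCq : ∀ c ∈ C, c ^ q = 1 := by
    rintro c ⟨t, ht, z, hz, e⟩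
    have hc : c ∈ S := hCS ⟨t, ht, z, hz, e⟩
    set w := c⁻¹ * t⁻¹ * c * t with hw
    have hwΦ : w ∈ Φ := hScomm c hc t ht
    have hwc : c * t = t * c * w := by rw [hw]; group
    obtain ⟨hp1, -⟩ := pow_mul_of_central (s := t) (c := c) (z := w)
      (by rintro v (rfl | rfl) <;> [exact hcomm w hwΦ v ht; exact hcomm w hwΦ v hc]) hwc p
    have hwp : w ^ p = 1 := by
      rw [hcomm _ (hSpow c hc) t ht] at hp1
      simpa using hp1.symm
    obtain ⟨-, hq1⟩ := pow_mul_of_central (s := t) (c := c) (z := w)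
      (by rintro v (rfl | rfl) <;> [exact hcomm w hwΦ v ht; exact hcomm w hwΦ v hc]) hwc q
    obtain ⟨i, hi⟩ := hq2
    rw [hi, pow_mul, hwp, one_pow, mul_one, ← e, conj_pow] at hq1
    obtain ⟨j, rfl⟩ := hqp
    have htΦ : t ^ (p * j) ∈ Φ := by rw [pow_mul]; exact pow_mem (hSpow t ht) j
    rw [hΦy z hz _ htΦ, mul_inv_cancel_right] at hq1
    exact mul_left_cancel (hq1.symm.trans (mul_one _).symm)
  -- so `[S, G] = [S, P]` is proper
  obtain ⟨P⟩ := (inferInstance : Nonempty (Sylow p G))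
  haveI := hSn
  set W := ⁅S, (P : Subgroup G)⁆ with hW
  have hPS : (P : Subgroup G) ≤ Subgroup.normalizer (S : Set G) :=
    le_top.trans (Subgroup.normalizer_eq_top (H := S)).ge
  have hWne : W ≠ S := CfsgLib.Core.commutator_lt_of_isPGroup hSp P.2 hPS hS1
  have hWS : W ≤ S := CfsgLib.Core.commutator_le_of_le_normalizer hPS
  have hSW : S ≤ Subgroup.normalizer (W : Set G) := CfsgLib.Core.le_normalizer_commutator_left S _
  have hall : ∀ a ∈ S, ∀ g : G, g * a * g⁻¹ * a⁻¹ ∈ W := by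
    intro a ha g
    rw [← hDS, hD] at ha
    induction ha using Subgroup.closure_induction with
    | mem c hc =>
      obtain ⟨k, hk⟩ := h c (hq c (hCq c hc))
      obtain ⟨u, hu, he⟩ := conj_eq_conj_of_mem hk P g
      rw [he]
      have := inv_mem (Subgroup.commutator_mem_commutator (hCS hc) hu : ⁅c, u⁆ ∈ W)
      simpa [commutatorElement_def, mul_assoc] using this
    | one => simp
    | mul a b ha hb iha ihb =>
      have haS : a ∈ S := (Subgroup.closure_le S).2 hCS ha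
      have : g * (a * b) * g⁻¹ * (a * b)⁻¹ =
          (g * a * g⁻¹ * a⁻¹) * (a * (g * b * g⁻¹ * b⁻¹) * a⁻¹) := by group
      rw [this]
      exact mul_mem iha ((Subgroup.mem_normalizer_iff.1 (hSW haS) _).1 ihb)
    | inv a ha iha =>
      have haS : a ∈ S := (Subgroup.closure_le S).2 hCS ha
      have : g * a⁻¹ * g⁻¹ * a⁻¹⁻¹ = a⁻¹ * (g * a * g⁻¹ * a⁻¹)⁻¹ * a⁻¹⁻¹ := by group
      rw [this]
      exact (Subgroup.mem_normalizer_iff.1 (hSW (inv_mem haS)) _).1 (inv_mem iha)
  refine hWne (le_antisymm hWS ?_)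
  calc S = D := hDS.symm
    _ ≤ W := by
      rw [hD, Subgroup.closure_le]
      rintro c ⟨t, ht, z, -, e⟩
      have h1 := hall t ht z
      have : c = t⁻¹ * (z * t * z⁻¹ * t⁻¹) * t⁻¹⁻¹ := by
        rw [e]; group
      rw [this]
      exact (Subgroup.mem_normalizer_iff.1 (hSW (inv_mem ht)) _).1 h1

theorem hasNormalPComplement : Cfsg.HasNormalPComplement p G := by
  refine CfsgLib.Core.hasNormalPComplement_of_local fun Q hQ g hg hgc => ?_
  refine CfsgLib.Core.mem_centralizer_of_fixes_omega hQ hg hgc fun x _ hx => ?_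
  obtain ⟨a, ha⟩ := h x hx
  have hxp : ∃ k, x ^ p ^ k = 1 := by
    rcases hx with hx | ⟨rfl, hx⟩
    · exact ⟨1, by rwa [pow_one]⟩
    · exact ⟨2, hx⟩
  rw [centralizes_pCore h _ (CfsgLib.Core.normal_pCore p) (CfsgLib.Core.isPGroup_pCore p) g hgc x
    (mem_pCore ha hxp), mul_inv_cancel_right]

end CfsgLib.PClassNilp
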