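import Cfsg.Agent.Lib.FgsConjCover
import Cfsg.Agent.Lib.FgsPClassNilp

/-!
# An element of `p`-power order in a class whose size is the largest `p`-part
-/

set_option autoImplicit false

universe u

namespace CfsgLib.ClassMaxP

variable {X : Type u} [Group X] [Finite X] {p : ℕ} [hp : Fact p.Prime]

theorem exists_decomp (g : X) : ∃ i j : ℤ, g = g ^ i * g ^ j ∧
    (∃ k : ℕ, (g ^ i) ^ p ^ k = 1) ∧ (orderOf (g ^ j)).Coprime p := by
  obtain ⟨k, m, hm, he⟩ := Nat.exists_eq_pow_mul_and_not_dvd (orderOf_pos g).ne' p hp.out.ne_one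
  have hcop : Nat.Coprime (p ^ k) m := ((hp.out.coprime_iff_not_dvd.2 hm).pow_left k)
  obtain ⟨a, b, hab⟩ := Int.isCoprime_iff_nat_coprime.2
    (show Int.natAbs ((p ^ k : ℕ) : ℤ) |>.Coprime (Int.natAbs (m : ℤ)) by simpa using hcop)
  refine ⟨b * m, a * (p ^ k : ℕ), ?_, ⟨k, ?_⟩, ?_⟩
  · rw [← zpow_add, add_comm, hab, zpow_one]
  · rw [← zpow_natCast, ← zpow_mul, show b * (m : ℤ) * ((p ^ k : ℕ) : ℤ) = ((orderOf g : ℕ) : ℤ) * b by
      rw [he]; push_cast; ring, zpow_mul, zpow_natCast, pow_orderOf_eq_one, one_zpow]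
  · refine Nat.Coprime.coprime_dvd_left (orderOf_dvd_of_pow_eq_one (n := m) ?_)
      (hp.out.coprime_iff_not_dvd.2 hm).symm
    rw [← zpow_natCast, ← zpow_mul, show a * ((p ^ k : ℕ) : ℤ) * (m : ℤ) = ((orderOf g : ℕ) : ℤ) * a by
      rw [he]; push_cast; ring, zpow_mul, zpow_natCast, pow_orderOf_eq_one, one_zpow]

variable (h : ∀ y : X, (orderOf y).Coprime p → ¬ p ∣ (Subgroup.centralizer ({y} : Set X)).index)
include h

theorem sup_centralizer_eq_top (P : Sylow p X) :
    (P : Subgroup X) ⊔ Subgroup.centralizer ((P : Subgroup X) : Set X) = ⊤ := by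
  by_contra hne
  obtain ⟨g, hg⟩ := CfsgLib.Fgs.exists_not_mem_conj hne
  obtain ⟨i, j, he, ⟨k, hk⟩, hj⟩ := exists_decomp (p := p) g
  set Y := Subgroup.centralizer ({g ^ j} : Set X) with hY
  have hiY : g ^ i ∈ Y := Subgroup.mem_centralizer_singleton_iff.2 (by
    rw [← zpow_add, ← zpow_add, add_comm])
  obtain ⟨R, hR⟩ := (show IsPGroup p (Subgroup.zpowers (⟨g ^ i, hiY⟩ : Y)) from
    IsPGroup.of_card (p := p) (n := ((Nat.dvd_prime_pow hp.out).1
      (show orderOf (⟨g ^ i, hiY⟩ : Y) ∣ p ^ k from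
        orderOf_dvd_of_pow_eq_one (Subtype.ext hk))).choose)
      (by rw [Nat.card_zpowers]; exact ((Nat.dvd_prime_pow hp.out).1
      (show orderOf (⟨g ^ i, hiY⟩ : Y) ∣ p ^ k from
        orderOf_dvd_of_pow_eq_one (Subtype.ext hk))).choose_spec.2)).exists_le_sylow
  set Rm := (R : Subgroup Y).map Y.subtype with hRm
  have hndvd : ¬ p ∣ Rm.index := by
    rw [hRm, Subgroup.index_map_of_injective _ Y.subtype_injective, Subgroup.range_subtype]
    exact hp.out.not_dvd_mul R.not_dvd_index (h _ hj)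
  obtain ⟨w, hw⟩ := MulAction.exists_smul_eq X P ((R.2.map Y.subtype).toSylow hndvd)
  have hsub : ∀ z, z ∈ Rm → w⁻¹ * z * w ∈ (P : Subgroup X) := by
    intro z hz
    have : z ∈ ((w • P : Sylow p X) : Subgroup X) := by rw [hw]; exact hz
    rw [Sylow.coe_subgroup_smul] at this
    obtain ⟨v, hv, rfl⟩ := this
    have e : w⁻¹ * (MulAut.conj w • v) * w = v := by simp [MulAut.smul_def, mul_assoc]
    show w⁻¹ * (MulAut.conj w • v) * w ∈ (P : Subgroup X)
    rw [e]
    exact hv
  refine hg w ?_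
  rw [Subgroup.mem_pointwise_smul_iff_inv_smul_mem]
  have h1 : w⁻¹ * g ^ j * w ∈ Subgroup.centralizer ((P : Subgroup X) : Set X) := by
    rw [Subgroup.mem_centralizer_iff]
    intro v hv
    have : w * v * w⁻¹ ∈ Rm := by
      show w * v * w⁻¹ ∈ (((R.2.map Y.subtype).toSylow hndvd : Sylow p X) : Subgroup X)
      rw [← hw, Sylow.coe_subgroup_smul]
      exact ⟨v, hv, by simp [mul_assoc]⟩
    have hcomm := Subgroup.mem_centralizer_singleton_iff.1 (Subgroup.map_subtype_le _ this)
    calc v * (w⁻¹ * g ^ j * w) = w⁻¹ * ((w * v * w⁻¹) * g ^ j) * w := by group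
      _ = w⁻¹ * (g ^ j * (w * v * w⁻¹)) * w := by rw [hcomm]
      _ = _ := by group
  have h2 := hsub (g ^ i) ⟨⟨g ^ i, hiY⟩, hR (Subgroup.mem_zpowers _), rfl⟩
  have : (MulAut.conj w)⁻¹ • g = (w⁻¹ * g ^ i * w) * (w⁻¹ * g ^ j * w) := by
    conv_lhs => rw [he]
    simp [mul_assoc]
  rw [this]
  exact mul_mem (Subgroup.mem_sup_left h2) (Subgroup.mem_sup_right h1)

theorem mem_centralizer (P : Sylow p X) {y : X} (hy : (orderOf y).Coprime p) :
    y ∈ Subgroup.centralizer ((P : Subgroup X) : Set X) := by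
  set C := Subgroup.centralizer ((P : Subgroup X) : Set X) with hC
  have htop := sup_centralizer_eq_top h P
  have hN : (C : Subgroup X).Normal := by
    refine Subgroup.normalizer_eq_top_iff.1 (top_le_iff.1 (htop ▸ sup_le ?_ Subgroup.le_normalizer))
    intro u hu
    rw [Subgroup.mem_normalizer_iff]
    intro c
    have key : ∀ u ∈ (P : Subgroup X), ∀ c ∈ C, u * c * u⁻¹ = c := fun u hu c hc => by
      rw [Subgroup.mem_centralizer_iff.1 hc u hu, mul_inv_cancel_right]
    refine ⟨fun hc => by rwa [key u hu c hc], fun hc => ?_⟩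
    have := key u⁻¹ (inv_mem hu) _ hc
    have e : u⁻¹ * (u * c * u⁻¹) * u⁻¹⁻¹ = c := by group
    rw [e] at this
    rwa [this]
  obtain ⟨k, hk⟩ : ∃ k : ℕ, C.index = p ^ k := by
    obtain ⟨n, hn⟩ := IsPGroup.iff_card.1 P.2
    have h1 : C.index ∣ p ^ n := by
      rw [← hn, ← Subgroup.relIndex_top_right, ← htop,
        CfsgLib.Core.relIndex_sup_eq_of_le_normalizer ((Subgroup.normalizer_eq_top (H := C)).ge.trans' le_top)]
      exact Dvd.intro_left _ (CfsgLib.Core.card_inf_mul_relIndex _ _)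
    obtain ⟨j, -, hj⟩ := (Nat.dvd_prime_pow hp.out).1 h1
    exact ⟨j, hj⟩
  exact CfsgLib.Core.mem_of_coprime_of_index_pow hk hy

omit h in
theorem main {G : Type u} [Group G] [Finite G] {a : ℕ}
    (hmax : ∀ y : G, ¬ p ^ (a + 1) ∣ (Subgroup.centralizer ({y} : Set G)).index)
    {x : G} (hxp : ∃ k, x ^ p ^ k = 1) (hx : (Subgroup.centralizer ({x} : Set G)).index = p ^ a) :
    Cfsg.HasNormalPComplement p G := by
  set C := Subgroup.centralizer ({x} : Set G) with hC
  obtain ⟨k, hk⟩ := hxp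
  have hyC : ∀ y : C, (orderOf y).Coprime p → ¬ p ∣ (Subgroup.centralizer ({y} : Set C)).index := by
    intro y hy hd
    have hxy : Commute (y : G) x := Subgroup.mem_centralizer_singleton_iff.1 y.2
    obtain ⟨b, hb⟩ : ∃ b : ℕ, orderOf x = p ^ b := by
      obtain ⟨b, -, hb⟩ := (Nat.dvd_prime_pow hp.out).1 (orderOf_dvd_of_pow_eq_one hk)
      exact ⟨b, hb⟩
    have hcop : (orderOf (y : G)).Coprime (orderOf x) := by
      rw [hb, Subgroup.orderOf_coe]; exact hy.pow_right b
    have hle : Subgroup.centralizer ({(y : G) * x} : Set G) ≤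
        (Subgroup.centralizer ({y} : Set C)).map C.subtype := by
      intro g hg
      have hg' : Commute g ((y : G) * x) := Subgroup.mem_centralizer_singleton_iff.1 hg
      have hgx : Commute g x := by
        obtain ⟨c, hc⟩ : ∃ c : ℤ, x = ((y : G) * x) ^ c := by
          obtain ⟨u, v, huv⟩ := Int.isCoprime_iff_nat_coprime.2
            (show Int.natAbs ((orderOf (y : G) : ℕ) : ℤ) |>.Coprime (Int.natAbs (orderOf x : ℤ)) by
              simpa using hcop)
          refine ⟨u * (orderOf (y : G) : ℤ), ?_⟩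
          rw [hxy.mul_zpow, mul_comm u, zpow_mul, zpow_natCast, pow_orderOf_eq_one, one_zpow, one_mul]
          have : x ^ (u * (orderOf (y : G) : ℤ) + v * (orderOf x : ℤ)) = x := by rw [huv, zpow_one]
          rw [zpow_add, mul_comm v, zpow_mul x (orderOf x : ℤ), zpow_natCast, pow_orderOf_eq_one,
            one_zpow, mul_one] at this
          rw [mul_comm ((orderOf (y : G) : ℤ)) u, this]
        rw [hc]
        exact hg'.zpow_right c
      have hgy : Commute g (y : G) := by
        have := hg'.mul_right hgx.inv_right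
        rwa [mul_inv_cancel_right] at this
      exact ⟨⟨g, Subgroup.mem_centralizer_singleton_iff.2 hgx⟩,
        Subgroup.mem_centralizer_singleton_iff.2 (Subtype.ext hgy), rfl⟩
    refine hmax ((y : G) * x) (dvd_trans ?_ (Subgroup.index_dvd_of_le hle))
    rw [Subgroup.index_map_of_injective _ C.subtype_injective, Subgroup.range_subtype, hx, pow_succ,
      mul_comm ((Subgroup.centralizer ({y} : Set C)).index)]
    exact mul_dvd_mul_left _ hd
  obtain ⟨P⟩ := (inferInstance : Nonempty (Sylow p C))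
  have hnpc : Cfsg.HasNormalPComplement p C := CfsgLib.Core.hasNormalPComplement_of_local_le P
    fun Q hQ g _ hg => Subgroup.centralizer_le hQ (mem_centralizer hyC P hg)
  obtain ⟨N, hN, hNc, l, hl⟩ := CfsgLib.Core.hasNormalPComplement_iff.1 hnpc
  set Nm := N.map C.subtype with hNm
  have hNmC : Nm ≤ C := Subgroup.map_subtype_le N
  have hNmc : (Nat.card Nm).Coprime p := by
    rwa [hNm, Subgroup.card_map_of_injective C.subtype_injective]
  have hxM : x ∈ Cfsg.pCore p G := CfsgLib.PClassNilp.mem_pCore hx ⟨k, hk⟩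
  haveI := CfsgLib.Core.normal_pCore (G := G) p
  set M := Cfsg.pCore p G with hMdef
  have hnorm : ∀ A : Subgroup G, A ≤ Subgroup.normalizer (M : Set G) := fun A =>
    le_top.trans (Subgroup.normalizer_eq_top (H := M)).ge
  have hcen : Nm ≤ Subgroup.centralizer (M : Set G) := by
    refine CfsgLib.Core.thompson_pxq (P := Subgroup.zpowers x) (p := p)
      ((CfsgLib.Core.isPGroup_pCore p).to_le (Subgroup.zpowers_le.2 hxM)) hNmc
      (CfsgLib.Core.isPGroup_pCore p) ?_ (hnorm _) (hnorm _) ?_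
    · rw [Subgroup.zpowers_le, Subgroup.mem_centralizer_iff]
      exact fun n hn => Subgroup.mem_centralizer_singleton_iff.1 (hNmC hn)
    · rintro m ⟨hm, hmx⟩
      have hmC : m ∈ C := Subgroup.mem_centralizer_singleton_iff.2
        (Subgroup.mem_centralizer_iff.1 hmx x (Subgroup.mem_zpowers x)).symm
      have hmP : (⟨m, hmC⟩ : C) ∈ (P : Subgroup C) := by
        haveI : (M.subgroupOf C).Normal := inferInstance
        exact CfsgLib.Core.pCore_le_sylow P (CfsgLib.Core.le_pCore this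
          ((CfsgLib.Core.isPGroup_pCore p).comap_of_injective C.subtype C.subtype_injective)
          (show (⟨m, hmC⟩ : C) ∈ M.subgroupOf C from hm))
      rw [Subgroup.mem_centralizer_iff]
      rintro _ ⟨n, hn, rfl⟩
      have := Subgroup.mem_centralizer_iff.1
        (mem_centralizer hyC P (hNc.coprime_dvd_left (Subgroup.orderOf_dvd_natCard N hn))) _ hmP
      exact (congrArg Subtype.val this).symm
  have hNn : Nm.Normal := by
    constructor
    intro n hn g
    have hgC : g * n * g⁻¹ ∈ C := by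
      refine Subgroup.mem_centralizer_singleton_iff.2 ?_
      have h1 := Subgroup.mem_centralizer_iff.1 (hcen hn) _
        ((inferInstance : M.Normal).conj_mem x hxM g⁻¹)
      calc g * n * g⁻¹ * x = g * (n * (g⁻¹ * x * g⁻¹⁻¹)) * g⁻¹ := by group
        _ = g * ((g⁻¹ * x * g⁻¹⁻¹) * n) * g⁻¹ := by rw [h1]
        _ = x * (g * n * g⁻¹) := by group
    refine ⟨⟨_, hgC⟩, CfsgLib.Core.mem_of_coprime_of_index_pow hl ?_, rfl⟩
    rw [← Subgroup.orderOf_coe]
    show (orderOf (g * n * g⁻¹)).Coprime p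
    rw [show orderOf (g * n * g⁻¹) = orderOf n from (MulAut.conj g).orderOf_eq n]
    exact hNmc.coprime_dvd_left (Subgroup.orderOf_dvd_natCard Nm hn)
  refine CfsgLib.Core.hasNormalPComplement_iff.2 ⟨Nm, hNn, hNmc, l + a, ?_⟩
  rw [hNm, Subgroup.index_map_of_injective _ C.subtype_injective, Subgroup.range_subtype, hx, hl, pow_add]

end CfsgLib.ClassMaxP
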