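import Mathlib

/-!
# The conjugates of a proper subgroup do not cover a finite group
-/

set_option autoImplicit false

namespace CfsgLib.Fgs

open scoped Pointwise

theorem exists_not_mem_conj {G : Type*} [Group G] [Finite G] {H : Subgroup G} (hH : H ≠ ⊤) :
    ∃ x : G, ∀ g : G, x ∉ MulAut.conj g • H := by
  classical
  by_contra hcon
  push Not at hcon
  let f : (G ⧸ H) × {h : H // h ≠ 1} → {x : G // x ≠ 1} := fun p =>
    ⟨p.1.out * (p.2.1 : G) * p.1.out⁻¹, fun e => p.2.2 (Subtype.ext (conj_eq_one_iff.mp e))⟩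
  have hf : Function.Surjective f := by
    rintro ⟨x, hx⟩
    obtain ⟨g, hg⟩ := hcon x
    rw [Subgroup.mem_pointwise_smul_iff_inv_smul_mem] at hg
    simp [mul_assoc] at hg
    set q : G ⧸ H := (g : G ⧸ H) with hq
    obtain ⟨k, hk⟩ := QuotientGroup.mk_out_eq_mul H g
    let h : H := k⁻¹ * ⟨_, hg⟩ * k
    refine ⟨(q, ⟨h, fun e => hx ?_⟩), Subtype.ext ?_⟩
    · have e2 : (⟨_, hg⟩ : H) = 1 := by
        calc (⟨_, hg⟩ : H) = k * h * k⁻¹ := by simp only [h]; group
          _ = 1 := by rw [e]; group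
      have e' : g⁻¹ * (x * g) = 1 := congrArg Subtype.val e2
      calc x = g * (g⁻¹ * (x * g)) * g⁻¹ := by group
        _ = 1 := by rw [e']; group
    · show q.out * (h : G) * q.out⁻¹ = x
      rw [hq, hk]
      simp only [h, Subgroup.coe_mul, Subgroup.coe_inv]
      group
  have h1 := Nat.card_le_card_of_surjective f hf
  rw [Nat.card_prod] at h1
  letI := Fintype.ofFinite G
  have hG : Nat.card {x : G // x ≠ 1} = Nat.card G - 1 := by
    rw [Nat.card_eq_fintype_card, Fintype.card_subtype_compl, Fintype.card_subtype_eq,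
      Nat.card_eq_fintype_card]
  have hH' : Nat.card {h : H // h ≠ 1} = Nat.card H - 1 := by
    rw [Nat.card_eq_fintype_card, Fintype.card_subtype_compl, Fintype.card_subtype_eq,
      Nat.card_eq_fintype_card]
  rw [hG, hH', ← Subgroup.index_eq_card] at h1
  have hm := H.index_mul_card
  have h2 := H.one_lt_index_of_ne_top hH
  have h3 := Nat.card_pos (α := H)
  obtain ⟨c, hc⟩ : ∃ c, Nat.card H = c + 1 := ⟨Nat.card H - 1, by omega⟩
  rw [hc] at h1 hm
  rw [Nat.add_sub_cancel] at h1
  rw [← hm, Nat.mul_add, mul_one] at h1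
  omega

end CfsgLib.Fgs
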