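import Mathlib

/-!
# Subgroups of finite cyclic groups
-/

set_option autoImplicit false

namespace CfsgLib.Fgs

theorem cyclic_le_of_card_dvd {C : Type*} [Group C] [Finite C] [IsCyclic C] {H K : Subgroup C}
    (h : Nat.card H ∣ Nat.card K) : H ≤ K := by
  classical
  letI := Fintype.ofFinite C
  intro x hx
  have hx' : x ^ Nat.card K = 1 := orderOf_dvd_iff_pow_eq_one.mp ((orderOf_dvd_of_mem_zpowers
    (Subgroup.mem_zpowers x)).trans (by
      refine dvd_trans ?_ h
      have := orderOf_dvd_natCard (⟨x, hx⟩ : H)
      rwa [← Subgroup.orderOf_coe] at this))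
  set s : Finset C := Finset.univ.filter fun a => a ^ Nat.card K = 1 with hs
  set t : Finset C := Finset.univ.filter fun a => a ∈ K with ht
  have hts : t ⊆ s := by
    intro a ha
    simp only [ht, hs, Finset.mem_filter, Finset.mem_univ, true_and] at ha ⊢
    exact congrArg Subtype.val (pow_card_eq_one' (x := (⟨a, ha⟩ : K)))
  have hcard : s.card ≤ t.card := by
    refine (IsCyclic.card_pow_eq_one_le Nat.card_pos).trans (le_of_eq ?_)
    rw [ht, Nat.card_eq_fintype_card, Fintype.card_subtype]
  have := (Finset.eq_of_subset_of_card_le hts hcard).ge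
    (Finset.mem_filter.mpr ⟨Finset.mem_univ x, hx'⟩)
  simpa [ht] using this

end CfsgLib.Fgs
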