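import Mathlib
import Cfsg.Agent.Lib.CoreFrobenius

/-!
# Frobenius groups from subgroups of two by two special linear groups
-/

set_option autoImplicit false

namespace CfsgLib.Fgs.FrobConstruct

open Subgroup

/-- A finite group acting freely on a non-trivial finite group is a Frobenius complement. -/
theorem exists_of_action_card {H A : Type} [Group H] [Finite H] [Nontrivial H] [Group A] [Finite A]
    [Nontrivial A] (ψ : H →* MulAut A) (hfpf : ∀ h : H, h ≠ 1 → ∀ a : A, ψ h a = a → a = 1) :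
    ∃ (L : Type) (_ : Group L) (_ : Finite L) (C : Subgroup L),
      Cfsg.IsFrobeniusComplement C ∧ Nonempty (H ≃* C) ∧
        Nat.card (Cfsg.frobeniusKernel C) = Nat.card A := by
  classical
  haveI : Finite (A ⋊[ψ] H) := Finite.of_equiv (A × H) SemidirectProduct.equivProd.symm
  let L := A ⋊[ψ] H
  let K : Subgroup L := (SemidirectProduct.inl : A →* L).range
  let C : Subgroup L := (SemidirectProduct.inr : H →* L).range
  haveI hKn : K.Normal := by
    change (SemidirectProduct.inl : A →* L).range.Normal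
    rw [SemidirectProduct.range_inl_eq_ker_rightHom]
    exact MonoidHom.normal_ker _
  have hc : IsComplement' K C := by
    refine isComplement'_of_disjoint_and_mul_eq_univ ?_ ?_
    · rw [disjoint_iff, eq_bot_iff]
      rintro x ⟨⟨a, rfl⟩, ⟨h, hh⟩⟩
      have h1 := congrArg SemidirectProduct.left hh
      simp only [SemidirectProduct.left_inr, SemidirectProduct.left_inl] at h1
      rw [Subgroup.mem_bot, ← h1, map_one]
    · rw [Set.eq_univ_iff_forall]
      intro x
      exact ⟨_, ⟨x.left, rfl⟩, _, ⟨x.right, rfl⟩, SemidirectProduct.inl_left_mul_inr_right x⟩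
  have hK0 : K ≠ ⊥ := by
    obtain ⟨a, ha⟩ := exists_ne (1 : A)
    intro e
    have hm : SemidirectProduct.inl a ∈ K := ⟨a, rfl⟩
    rw [e, mem_bot] at hm
    exact ha (SemidirectProduct.inl_injective (hm.trans (map_one _).symm))
  have hC0 : C ≠ ⊥ := by
    obtain ⟨h, hh⟩ := exists_ne (1 : H)
    intro e
    have hm : SemidirectProduct.inr h ∈ C := ⟨h, rfl⟩
    rw [e, mem_bot] at hm
    exact hh (SemidirectProduct.inr_injective (hm.trans (map_one _).symm))
  suffices hF : ∀ h ∈ C, h ≠ 1 → ∀ k ∈ K, h * k = k * h → k = 1 by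
    have hFC := CfsgLib.Core.isFrobeniusComplement_of_fpf hc hK0 hC0 hF
    refine ⟨L, inferInstance, inferInstance, C, hFC,
      ⟨MonoidHom.ofInjective SemidirectProduct.inr_injective⟩, ?_⟩
    obtain ⟨K', -, hK'set, -, -, hK'card⟩ := CfsgLib.Core.exists_kernel hFC
    rw [← hK'set]
    change Nat.card K' = _
    rw [hK'card, hc.index_eq_card, Nat.card_congr (MonoidHom.ofInjective (SemidirectProduct.inl_injective (φ := ψ))).toEquiv]
  rintro _ ⟨h, rfl⟩ hne _ ⟨a, rfl⟩ hcomm
  have h1 := congrArg SemidirectProduct.left hcomm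
  change (1 : A) * ψ h a = a * ψ 1 1 at h1
  rw [one_mul, map_one, mul_one] at h1
  rw [hfpf h (fun e => hne (by rw [e, map_one])) a h1, map_one]

/-- A finite group acting freely on a non-trivial finite group is a Frobenius complement. -/
theorem exists_of_action {H A : Type} [Group H] [Finite H] [Nontrivial H] [Group A] [Finite A]
    [Nontrivial A] (ψ : H →* MulAut A) (hfpf : ∀ h : H, h ≠ 1 → ∀ a : A, ψ h a = a → a = 1) :
    ∃ (L : Type) (_ : Group L) (_ : Finite L) (C : Subgroup L),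
      Cfsg.IsFrobeniusComplement C ∧ Nonempty (H ≃* C) := by
  obtain ⟨L, i1, i2, C, hC, hiso, -⟩ := exists_of_action_card ψ hfpf
  exact ⟨L, i1, i2, C, hC, hiso⟩

theorem exists_of_mulEquiv {H : Type*} [Group H] [Finite H]
    (h : ∀ (H₀ : Type) [Group H₀] [Finite H₀], (H ≃* H₀) → ∃ (L : Type) (_ : Group L) (_ : Finite L)
      (C : Subgroup L), Cfsg.IsFrobeniusComplement C ∧ Nonempty (H₀ ≃* C)) :
    ∃ (L : Type) (_ : Group L) (_ : Finite L) (C : Subgroup L),
      Cfsg.IsFrobeniusComplement C ∧ Nonempty (H ≃* C) := by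
  let φ : H →* Equiv.Perm (Fin (Nat.card H)) :=
    (Finite.equivFin H).permCongrHom.toMonoidHom.comp (MulAction.toPermHom H H)
  have hφ : Function.Injective φ :=
    (Finite.equivFin H).permCongrHom.injective.comp MulAction.toPerm_injective
  obtain ⟨L, i1, i2, C, hC, ⟨f⟩⟩ := h φ.range (MonoidHom.ofInjective hφ)
  exact ⟨L, i1, i2, C, hC, ⟨(MonoidHom.ofInjective hφ).trans f⟩⟩

/-- A non-trivial group of order prime to `q` embedded in `SL(2, q)` is a Frobenius complement. -/
theorem exists_of_sl2 {H : Type*} [Group H] [Finite H] [Nontrivial H] {q : ℕ} [Fact q.Prime]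
    (f : H →* Matrix.SpecialLinearGroup (Fin 2) (ZMod q)) (hf : Function.Injective f)
    (hcop : (Nat.card H).Coprime q) :
    ∃ (L : Type) (_ : Group L) (_ : Finite L) (C : Subgroup L),
      Cfsg.IsFrobeniusComplement C ∧ Nonempty (H ≃* C) := by
  classical
  refine exists_of_mulEquiv fun H₀ _ _ e => ?_
  haveI : Nontrivial H₀ := e.symm.toEquiv.nontrivial
  set g : H₀ →* Matrix.SpecialLinearGroup (Fin 2) (ZMod q) := f.comp e.symm.toMonoidHom with hg
  let A := Multiplicative (Fin 2 → ZMod q)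
  let ψ : H₀ →* MulAut A :=
    { toFun := fun h =>
        { toFun := fun v => Multiplicative.ofAdd ((g h : Matrix (Fin 2) (Fin 2) (ZMod q)).mulVec v.toAdd)
          invFun := fun v => Multiplicative.ofAdd ((g h⁻¹ : Matrix (Fin 2) (Fin 2) (ZMod q)).mulVec v.toAdd)
          left_inv := fun v => by
            simp only [toAdd_ofAdd, Matrix.mulVec_mulVec, ← Matrix.SpecialLinearGroup.coe_mul,
              ← map_mul, inv_mul_cancel, map_one, Matrix.SpecialLinearGroup.coe_one, Matrix.one_mulVec, ofAdd_toAdd]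
          right_inv := fun v => by
            simp only [toAdd_ofAdd, Matrix.mulVec_mulVec, ← Matrix.SpecialLinearGroup.coe_mul,
              ← map_mul, mul_inv_cancel, map_one, Matrix.SpecialLinearGroup.coe_one, Matrix.one_mulVec, ofAdd_toAdd]
          map_mul' := fun v w => by
            rw [← ofAdd_add, ← Matrix.mulVec_add]; rfl }
      map_one' := MulEquiv.ext fun v => by simp
      map_mul' := fun a b => MulEquiv.ext fun v => by
        simp only [map_mul, Matrix.SpecialLinearGroup.coe_mul, ← Matrix.mulVec_mulVec]; rfl }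
  haveI : Finite A := inferInstanceAs (Finite (Fin 2 → ZMod q))
  haveI : Nontrivial A := inferInstanceAs (Nontrivial (Fin 2 → ZMod q))
  refine exists_of_action ψ fun h hh a ha => ?_
  by_contra hne
  apply hh
  set M : Matrix (Fin 2) (Fin 2) (ZMod q) := (g h : Matrix (Fin 2) (Fin 2) (ZMod q)) with hM
  have hv : (M - 1).mulVec a.toAdd = 0 := by
    rw [Matrix.sub_mulVec, Matrix.one_mulVec, sub_eq_zero]
    exact congrArg Multiplicative.toAdd ha
  have hdet0 : (M - 1).det = 0 :=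
    Matrix.exists_mulVec_eq_zero_iff.mp ⟨a.toAdd, fun e => hne (toAdd_eq_zero.mp e), hv⟩
  have hdet1 : M.det = 1 := (g h).2
  rw [Matrix.det_fin_two] at hdet0 hdet1
  simp only [Matrix.sub_apply, Matrix.one_apply_eq, Matrix.one_apply_ne (show (0 : Fin 2) ≠ 1 by decide),
    Matrix.one_apply_ne (show (1 : Fin 2) ≠ 0 by decide), sub_zero] at hdet0
  have htr : M 0 0 + M 1 1 = 2 := by linear_combination hdet1 - hdet0
  have hN : (M - 1) * (M - 1) = 0 := by
    ext i j
    fin_cases i <;> fin_cases j <;>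
      simp [Matrix.mul_apply, Fin.sum_univ_two, Matrix.sub_apply, Matrix.one_apply] <;>
      first
        | linear_combination (M 0 0) * htr - hdet1
        | linear_combination (M 0 1) * htr
        | linear_combination (M 1 0) * htr
        | linear_combination (M 1 1) * htr - hdet1
  have hpow : ∀ k : ℕ, M ^ k = 1 + (k : ZMod q) • (M - 1) := by
    intro k
    induction k with
    | zero => simp
    | succ k ih =>
      rw [pow_succ, ih]
      nth_rw 2 [show M = 1 + (M - 1) by abel]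
      rw [add_mul, one_mul, smul_mul_assoc, mul_add, mul_one, hN, add_zero, Nat.cast_succ, add_smul, one_smul]
      abel
  have hq1 : g h ^ q = 1 := by
    apply Subtype.ext
    rw [Matrix.SpecialLinearGroup.coe_pow, ← hM, hpow q, ZMod.natCast_self, zero_smul, add_zero,
      Matrix.SpecialLinearGroup.coe_one]
  have hgi : Function.Injective g := hf.comp e.symm.injective
  have h1 : h ^ q = 1 := hgi (by rw [map_pow, hq1, map_one])
  have h2 : orderOf h ∣ Nat.card H := Nat.card_congr e.toEquiv ▸ orderOf_dvd_natCard h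
  exact orderOf_eq_one_iff.mp (Nat.eq_one_of_dvd_coprimes hcop h2 (orderOf_dvd_of_pow_eq_one h1))

theorem exists_prime_root (n : ℕ) (hn : 0 < n) :
    ∃ q : ℕ, q.Prime ∧ n < q ∧ ∃ ζ : ZMod q, orderOf ζ = n := by
  obtain ⟨q, hq, hlt, hmod⟩ := Nat.exists_prime_gt_modEq_one (k := n) n hn.ne'
  haveI := Fact.mk hq
  refine ⟨q, hq, hlt, ?_⟩
  have hdvd : n ∣ q - 1 := (Nat.modEq_iff_dvd' hq.one_le).mp hmod.symm
  obtain ⟨u, hu⟩ := IsCyclic.exists_ofOrder_eq_natCard (α := (ZMod q)ˣ)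
  rw [Nat.card_units, Nat.card_zmod] at hu
  refine ⟨((u ^ ((q - 1) / n) : (ZMod q)ˣ) : ZMod q), ?_⟩
  have h0 : q - 1 ≠ 0 := by have := hq.two_le; omega
  rw [orderOf_units, orderOf_pow_of_dvd (Nat.div_pos (Nat.le_of_dvd (Nat.pos_of_ne_zero h0) hdvd) hn).ne'
    (by rw [hu]; exact Nat.div_dvd_of_dvd hdvd), hu, Nat.div_div_self hdvd h0]

theorem exists_of_cyclic {C : Type*} [Group C] [Finite C] [IsCyclic C] [Nontrivial C] :
    ∃ (L : Type) (_ : Group L) (_ : Finite L) (D : Subgroup L),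
      Cfsg.IsFrobeniusComplement D ∧ Nonempty (C ≃* D) := by
  obtain ⟨q, hq, hlt, ζ, hζ⟩ := exists_prime_root (Nat.card C) Nat.card_pos
  haveI := Fact.mk hq
  have hζ0 : ζ ≠ 0 := by
    rintro rfl
    have h0 : orderOf (0 : ZMod q) = 0 := orderOf_eq_zero_iff'.mpr fun n hn => by simp [zero_pow hn.ne']
    rw [h0] at hζ
    exact Nat.card_pos.ne hζ
  let M : Matrix.SpecialLinearGroup (Fin 2) (ZMod q) :=
    ⟨!![ζ, 0; 0, ζ⁻¹], by rw [Matrix.det_fin_two_of]; simp [mul_inv_cancel₀ hζ0]⟩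
  have hpow : ∀ k : ℕ, ((M ^ k : Matrix.SpecialLinearGroup (Fin 2) (ZMod q)) : Matrix (Fin 2) (Fin 2) (ZMod q)) =
      !![ζ ^ k, 0; 0, (ζ ^ k)⁻¹] := by
    intro k
    induction k with
    | zero => simp [Matrix.one_fin_two]
    | succ k ih =>
      rw [pow_succ, Matrix.SpecialLinearGroup.coe_mul, ih]
      show _ * !![ζ, 0; 0, ζ⁻¹] = _
      rw [Matrix.mul_fin_two]
      simp [pow_succ, mul_inv_rev, mul_comm]
  have hord : orderOf M = Nat.card C := by
    rw [← hζ]
    refine orderOf_eq_orderOf_iff.mpr fun k => ⟨fun h => ?_, fun h => ?_⟩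
    · have h' := congrArg (fun A : Matrix.SpecialLinearGroup (Fin 2) (ZMod q) =>
        (A : Matrix (Fin 2) (Fin 2) (ZMod q)) 0 0) h
      simp only [hpow] at h'
      simpa using h'
    · apply Subtype.ext
      rw [hpow, h]
      simp [Matrix.one_fin_two]
  let e : C ≃* zpowers M := mulEquivOfCyclicCardEq (by rw [Nat.card_zpowers, hord])
  exact exists_of_sl2 ((zpowers M).subtype.comp e.toMonoidHom)
    ((zpowers M).subtype_injective.comp e.injective)
    (Nat.coprime_of_lt_prime Nat.card_pos.ne' hlt hq).symm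

theorem exists_of_dicyclic (n : ℕ) (hn : 2 ≤ n) :
    ∃ (L : Type) (_ : Group L) (_ : Finite L) (D : Subgroup L),
      Cfsg.IsFrobeniusComplement D ∧ Nonempty (QuaternionGroup n ≃* D) := by
  haveI : NeZero n := ⟨by omega⟩
  obtain ⟨q, hq, hlt, ζ, hζ⟩ := exists_prime_root (4 * n) (by omega)
  haveI := Fact.mk hq
  set η := ζ ^ 2 with hη'
  have hη : orderOf η = 2 * n := by
    rw [hη', orderOf_pow_of_dvd two_ne_zero (hζ ▸ ⟨2 * n, by ring⟩), hζ]
    omega
  haveI : NeZero (2 * n) := ⟨by omega⟩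
  let g : ZMod (2 * n) → ZMod q := fun i => η ^ i.val
  have hadd : ∀ i j, g (i + j) = g i * g j := fun i j => by
    simp only [g, ← pow_add, ZMod.val_add]
    rw [← pow_mod_orderOf η (i.val + j.val), hη]
  have hg0 : g 0 = 1 := by simp [g]
  have hneg : ∀ i, g i * g (-i) = 1 := fun i => by rw [← hadd, add_neg_cancel, hg0]
  have hginj : Function.Injective g := fun i j h => ZMod.val_injective _ (pow_injOn_Iio_orderOf
    (show i.val < orderOf η by rw [hη]; exact ZMod.val_lt i)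
    (show j.val < orderOf η by rw [hη]; exact ZMod.val_lt j) h)
  have hgn : g (n : ZMod (2 * n)) = -1 := by
    have h1 : g (n : ZMod (2 * n)) * g (n : ZMod (2 * n)) = 1 := by
      rw [← hadd]
      have : (n : ZMod (2 * n)) + n = 0 := by
        rw [← two_mul]; exact_mod_cast ZMod.natCast_self (2 * n)
      rw [this, hg0]
    rcases mul_self_eq_one_iff.mp h1 with h | h
    · exfalso
      have h2 : (n : ZMod (2 * n)) = 0 := hginj (h.trans hg0.symm)
      rw [ZMod.natCast_eq_zero_iff] at h2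
      have := Nat.le_of_dvd (by omega) h2
      omega
    · exact h
  let f : QuaternionGroup n → Matrix.SpecialLinearGroup (Fin 2) (ZMod q) := fun x => match x with
    | .a i => ⟨!![g i, 0; 0, g (-i)], by rw [Matrix.det_fin_two_of]; simp [hneg]⟩
    | .xa i => ⟨!![0, -g (-i); g i, 0], by rw [Matrix.det_fin_two_of]; simp [mul_comm (g (-i)), hneg]⟩
  have hgn' : g (-(n : ZMod (2 * n))) = -1 := by
    have h := hneg (n : ZMod (2 * n))
    rw [hgn, neg_one_mul, neg_eq_iff_eq_neg] at h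
    exact h
  have hmul : ∀ x y, f (x * y) = f x * f y := by
    rintro (i | i) (j | j) <;> apply Subtype.ext <;>
      show _ = ((_ : Matrix.SpecialLinearGroup (Fin 2) (ZMod q)) : Matrix (Fin 2) (Fin 2) (ZMod q)) * _ <;>
      simp only [f, QuaternionGroup.a_mul_a, QuaternionGroup.a_mul_xa, QuaternionGroup.xa_mul_a,
        QuaternionGroup.xa_mul_xa, Matrix.mul_fin_two]
    · simp [hadd, neg_add, mul_comm]
    · rw [sub_eq_add_neg, neg_add, neg_neg, hadd, hadd]; simp [mul_comm]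
    · simp [hadd, neg_add, mul_comm]
    · rw [show (n : ZMod (2 * n)) + j - i = (n : ZMod (2 * n)) + (j + -i) by ring, neg_add, neg_add, neg_neg,
        hadd, hadd, hadd, hadd, hgn, hgn']
      simp [mul_comm]
  have hinj : Function.Injective (MonoidHom.mk' f hmul) := by
    rintro (i | i) (j | j) h <;> simp only [MonoidHom.mk'_apply, f] at h <;>
      have h00 := congrFun (congrFun (congrArg Subtype.val h) 0) 0 <;>
      have h10 := congrFun (congrFun (congrArg Subtype.val h) 1) 0 <;> simp at h00 h10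
    · rw [hginj h00]
    · have := hneg i
      rw [h00, zero_mul] at this
      exact absurd this zero_ne_one
    · have := hneg j
      rw [← h00, zero_mul] at this
      exact absurd this zero_ne_one
    · rw [hginj h10]
  refine exists_of_sl2 (MonoidHom.mk' f hmul) hinj ?_
  rw [Nat.card_eq_fintype_card, QuaternionGroup.card]
  exact (Nat.coprime_of_lt_prime (by omega) hlt hq).symm

/-- The table of an embedding of `SL(2,3)` in `SL(2,5)`. -/
def table : List (ℕ × ℕ × ℕ × ℕ) := [(0, 0, 0, 0), (0, 0, 0, 0), (0, 0, 0, 0), (0, 0, 0, 0), (0, 0, 0, 0), (0, 0, 0, 0), (0, 0, 0, 0), (0, 0, 0, 0), (0, 0, 0, 0), (0, 0, 0, 0), (0, 0, 0, 0), (0, 0, 0, 0), (0, 0, 0, 0), (0, 0, 0, 0), (0, 0, 0, 0), (0, 4, 1, 0), (2, 4, 3, 4), (3, 2, 1, 1), (0, 0, 0, 0), (0, 0, 0, 0), (0, 0, 0, 0), (0, 1, 4, 0), (2, 3, 4, 4), (3, 1, 2, 1), (0, 0, 0, 0), (0, 0, 0, 0), (0, 0, 0, 0), (0, 0, 0, 0), (1, 0, 0, 1), (0, 0, 0, 0), (0, 0, 0, 0), (1, 2, 1, 3), (0, 0, 0, 0), (0, 0, 0, 0), (3,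 3, 4, 1), (0, 0, 0, 0), (0, 0, 0, 0), (1, 1, 2, 3), (0, 0, 0, 0), (0, 0, 0, 0), (0, 0, 0, 0), (0, 2, 2, 0), (4, 2, 1, 2), (0, 0, 0, 0), (0, 0, 0, 0), (0, 0, 0, 0), (3, 4, 3, 1), (0, 0, 0, 0), (4, 1, 2, 2), (0, 0, 0, 0), (0, 0, 0, 0), (0, 0, 0, 0), (0, 0, 0, 0), (3, 0, 0, 2), (0, 0, 0, 0), (0, 0, 0, 0), (4, 0, 0, 4), (0, 0, 0, 0), (0, 0, 0, 0), (2, 2, 1, 4), (0, 0, 0, 0), (0, 0, 0, 0), (4, 3, 4, 2), (0, 0, 0, 0), (0, 0, 0, 0), (2, 1, 2, 4), (0, 0, 0, 0), (2, 0, 0, 3), (0, 0, 0, 0), (1, 4, 3, 3), (0, 0, 0, 0), (0, 0, 0, 0), (0, 0, 0, 0), (0, 0, 0, 0), (4, 4, 3, 2), (1, 3, 4, 3), (0, 0, 0, 0), (0, 0, 0, 0), (0, 0, 0, 0), (0, 3, 3, 0), (0, 0, 0, 0)]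

/-- The entries of the image of a matrix with the given entries. -/
def img (a b c d : ZMod 3) : ℕ × ℕ × ℕ × ℕ :=
  table.getD (((a.val * 3 + b.val) * 3 + c.val) * 3 + d.val) (0, 0, 0, 0)

set_option maxRecDepth 4000 in
set_option maxHeartbeats 2000000 in
theorem img_spec : ∀ a b c d : ZMod 3, a * d - b * c = 1 →
    ((((img a b c d).1 : ℕ) : ZMod 5) * ((img a b c d).2.2.2 : ℕ) -
      ((img a b c d).2.1 : ℕ) * ((img a b c d).2.2.1 : ℕ) = 1 ∧
    (img a b c d = img 1 0 0 1 → a = 1 ∧ b = 0 ∧ c = 0 ∧ d = 1)) ∧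
    ∀ e f g h : ZMod 3, e * h - f * g = 1 →
      img (a * e + b * g) (a * f + b * h) (c * e + d * g) (c * f + d * h) =
        (((img a b c d).1 * (img e f g h).1 + (img a b c d).2.1 * (img e f g h).2.2.1) % 5,
         ((img a b c d).1 * (img e f g h).2.1 + (img a b c d).2.1 * (img e f g h).2.2.2) % 5,
         ((img a b c d).2.2.1 * (img e f g h).1 + (img a b c d).2.2.2 * (img e f g h).2.2.1) % 5,
         ((img a b c d).2.2.1 * (img e f g h).2.1 + (img a b c d).2.2.2 * (img e f g h).2.2.2) % 5) := by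
  decide

set_option maxRecDepth 4000 in
theorem img_lt : ∀ a b c d : ZMod 3, (img a b c d).1 < 5 ∧ (img a b c d).2.1 < 5 ∧
    (img a b c d).2.2.1 < 5 ∧ (img a b c d).2.2.2 < 5 := by
  decide

theorem exists_of_sl23 :
    ∃ (L : Type) (_ : Group L) (_ : Finite L) (D : Subgroup L),
      Cfsg.IsFrobeniusComplement D ∧ Nonempty (Matrix.SpecialLinearGroup (Fin 2) (ZMod 3) ≃* D) := by
  haveI : Fact (Nat.Prime 5) := ⟨by norm_num⟩
  have hdet : ∀ M : Matrix.SpecialLinearGroup (Fin 2) (ZMod 3),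
      (M : Matrix (Fin 2) (Fin 2) (ZMod 3)) 0 0 * (M : Matrix (Fin 2) (Fin 2) (ZMod 3)) 1 1 -
        (M : Matrix (Fin 2) (Fin 2) (ZMod 3)) 0 1 * (M : Matrix (Fin 2) (Fin 2) (ZMod 3)) 1 0 = 1 := fun M => by
    rw [← Matrix.det_fin_two]; exact M.2
  let im : Matrix.SpecialLinearGroup (Fin 2) (ZMod 3) → ℕ × ℕ × ℕ × ℕ := fun M =>
    img ((M : Matrix (Fin 2) (Fin 2) (ZMod 3)) 0 0) ((M : Matrix (Fin 2) (Fin 2) (ZMod 3)) 0 1)
      ((M : Matrix (Fin 2) (Fin 2) (ZMod 3)) 1 0) ((M : Matrix (Fin 2) (Fin 2) (ZMod 3)) 1 1)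
  let f : Matrix.SpecialLinearGroup (Fin 2) (ZMod 3) → Matrix.SpecialLinearGroup (Fin 2) (ZMod 5) := fun M =>
    ⟨!![((im M).1 : ZMod 5), ((im M).2.1 : ZMod 5); ((im M).2.2.1 : ZMod 5), ((im M).2.2.2 : ZMod 5)], by
      rw [Matrix.det_fin_two_of]; exact ((img_spec _ _ _ _ (hdet M)).1).1⟩
  have him : ∀ M N, im (M * N) = (((im M).1 * (im N).1 + (im M).2.1 * (im N).2.2.1) % 5,
         ((im M).1 * (im N).2.1 + (im M).2.1 * (im N).2.2.2) % 5,
         ((im M).2.2.1 * (im N).1 + (im M).2.2.2 * (im N).2.2.1) % 5,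
         ((im M).2.2.1 * (im N).2.1 + (im M).2.2.2 * (im N).2.2.2) % 5) := fun M N => by
    have h := (img_spec _ _ _ _ (hdet M)).2 _ _ _ _ (hdet N)
    simpa [im, Matrix.SpecialLinearGroup.coe_mul, Matrix.mul_apply, Fin.sum_univ_two] using h
  have hmul : ∀ M N, f (M * N) = f M * f N := fun M N => by
    apply Subtype.ext
    show _ = ((f M : Matrix.SpecialLinearGroup (Fin 2) (ZMod 5)) : Matrix (Fin 2) (Fin 2) (ZMod 5)) * _
    simp only [f, Matrix.mul_fin_two, him, ZMod.natCast_mod, Nat.cast_add, Nat.cast_mul]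
  have hinj : Function.Injective (MonoidHom.mk' f hmul) := by
    rw [injective_iff_map_eq_one]
    intro M hM
    have hone : (MonoidHom.mk' f hmul) 1 = 1 := map_one _
    rw [← hone] at hM
    have hv : ∀ (a b : ℕ), a < 5 → b < 5 → (a : ZMod 5) = b → a = b := fun a b ha hb h => by
      rwa [ZMod.natCast_eq_natCast_iff', Nat.mod_eq_of_lt ha, Nat.mod_eq_of_lt hb] at h
    have e : ∀ i j, (f M : Matrix (Fin 2) (Fin 2) (ZMod 5)) i j = (f 1 : Matrix (Fin 2) (Fin 2) (ZMod 5)) i j :=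
      fun i j => congrFun (congrFun (congrArg Subtype.val hM) i) j
    have h1 := img_lt ((M : Matrix (Fin 2) (Fin 2) (ZMod 3)) 0 0) ((M : Matrix (Fin 2) (Fin 2) (ZMod 3)) 0 1)
      ((M : Matrix (Fin 2) (Fin 2) (ZMod 3)) 1 0) ((M : Matrix (Fin 2) (Fin 2) (ZMod 3)) 1 1)
    have h2 := img_lt (1 : ZMod 3) 0 0 1
    have hi : im M = img 1 0 0 1 :=
      Prod.ext (hv _ _ h1.1 h2.1 (e 0 0)) (Prod.ext (hv _ _ h1.2.1 h2.2.1 (e 0 1))
        (Prod.ext (hv _ _ h1.2.2.1 h2.2.2.1 (e 1 0)) (hv _ _ h1.2.2.2 h2.2.2.2 (e 1 1))))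
    obtain ⟨a, b, c, d⟩ := (img_spec _ _ _ _ (hdet M)).1.2 hi
    ext i j
    fin_cases i <;> fin_cases j <;> simp [a, b, c, d]
  haveI : Nontrivial (Matrix.SpecialLinearGroup (Fin 2) (ZMod 3)) :=
    ⟨⟨1, ⟨!![1, 1; 0, 1], by simp [Matrix.det_fin_two_of]⟩, fun e => by
      have := congrFun (congrFun (congrArg Subtype.val e) 0) 1
      simp at this⟩⟩
  refine exists_of_sl2 (MonoidHom.mk' f hmul) hinj ?_
  refine (Nat.Prime.coprime_iff_not_dvd (by norm_num)).mpr ?_ |>.symm
  intro h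
  obtain ⟨x, hx⟩ := exists_prime_orderOf_dvd_card' (G := Matrix.SpecialLinearGroup (Fin 2) (ZMod 3)) 5 h
  have h24 : Nat.card (Matrix.SpecialLinearGroup (Fin 2) (ZMod 3)) = 24 := by
    rw [Nat.card_eq_fintype_card]; decide
  rw [h24] at h
  norm_num at h

theorem exists_two_squares_neg_one (k : ℕ) [NeZero k] (hk : Odd k) :
    ∃ a b : ZMod k, a ^ 2 + b ^ 2 = -1 := by
  have hcop : Nat.Coprime 4 k := (Nat.coprime_two_left.mpr hk).pow_left 2
  obtain ⟨c, hc4, hck⟩ := Nat.chineseRemainder hcop 1 (k - 1)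
  have hk1 : 1 ≤ k := NeZero.one_le
  have hcu : Nat.Coprime c (4 * k) := by
    refine Nat.Coprime.mul_right ?_ ?_
    · rw [Nat.coprime_iff_gcd_eq_one, Nat.gcd_comm, Nat.gcd_rec, hc4]; decide
    · rw [Nat.coprime_iff_gcd_eq_one, Nat.gcd_comm, Nat.gcd_rec, hck, ← Nat.gcd_rec, Nat.gcd_comm]
      exact Nat.coprime_self_sub_left hk1 |>.mpr (Nat.coprime_one_left k)
  haveI : NeZero (4 * k) := ⟨by omega⟩
  obtain ⟨p, -, hp, hpa⟩ := Nat.forall_exists_prime_gt_and_eq_mod
    (a := ((c : ℕ) : ZMod (4 * k))) ((ZMod.isUnit_iff_coprime c (4 * k)).mpr hcu) 0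
  rw [ZMod.natCast_eq_natCast_iff] at hpa
  haveI := Fact.mk hp
  have hp4 : p % 4 = 1 := (Nat.ModEq.of_mul_right k hpa).trans hc4
  obtain ⟨a, b, hab⟩ := Nat.Prime.sq_add_sq (p := p) (by omega)
  refine ⟨(a : ZMod k), (b : ZMod k), ?_⟩
  rw [← Nat.cast_pow, ← Nat.cast_pow, ← Nat.cast_add, hab,
    (ZMod.natCast_eq_natCast_iff _ _ _).mpr ((Nat.ModEq.of_mul_left 4 hpa).trans hck),
    Nat.cast_sub hk1, ZMod.natCast_self, Nat.cast_one, zero_sub]

/-- The quaternion group acts freely on the plane over `ℤ/k`, `k` odd. -/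
theorem exists_of_q8 (k : ℕ) (hk : Odd k) (hk1 : 1 < k) :
    ∃ (L : Type) (_ : Group L) (_ : Finite L) (C : Subgroup L),
      Cfsg.IsFrobeniusComplement C ∧ Nonempty (QuaternionGroup 2 ≃* C) ∧
        Nat.card (Cfsg.frobeniusKernel C) = k ^ 2 := by
  classical
  haveI : NeZero k := ⟨by omega⟩
  haveI : Fact (1 < k) := ⟨hk1⟩
  obtain ⟨a, b, hab⟩ := exists_two_squares_neg_one k hk
  let I : Matrix (Fin 2) (Fin 2) (ZMod k) := !![0, -1; 1, 0]
  let J : Matrix (Fin 2) (Fin 2) (ZMod k) := !![a, b; b, -a]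
  have hI2 : I * I = -1 := by
    ext i j; fin_cases i <;> fin_cases j <;> simp [I, Matrix.mul_apply, Fin.sum_univ_two]
  have hJ2 : J * J = -1 := by
    ext i j
    fin_cases i <;> fin_cases j <;> simp [J, Matrix.mul_apply, Fin.sum_univ_two] <;>
      first | linear_combination hab | ring
  have hJI : J * I = -(I * J) := by
    ext i j; fin_cases i <;> fin_cases j <;> simp [I, J, Matrix.mul_apply, Fin.sum_univ_two]
  have hI4 : I ^ 4 = 1 := by
    rw [show (4 : ℕ) = 2 * 2 from rfl, pow_mul, pow_two I, hI2, neg_one_sq]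
  let g : ZMod (2 * 2) → Matrix (Fin 2) (Fin 2) (ZMod k) := fun i => I ^ i.val
  have hadd : ∀ i j, g (i + j) = g i * g j := fun i j => by
    simp only [g, ← pow_add, ZMod.val_add]
    exact (pow_eq_pow_mod _ hI4).symm
  have hg2 : g 2 = -1 := by
    show I ^ 2 = -1
    rw [pow_two, hI2]
  have hswap : ∀ i, g i * J = J * g (-i) := by
    intro i
    have h1 : J * g 1 = g 3 * J := by
      show J * I ^ 1 = I ^ 3 * J
      rw [pow_one, pow_succ, pow_two, hI2, hJI, neg_one_mul, neg_mul]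
    have h2 : ∀ n : ℕ, J * g (n : ZMod (2 * 2)) = g (-(n : ZMod (2 * 2))) * J := by
      intro n
      induction n with
      | zero => simp [g]
      | succ n ih =>
        rw [Nat.cast_succ, hadd, ← mul_assoc, ih, mul_assoc, h1, ← mul_assoc, ← hadd]
        congr 2
        rw [show (3 : ZMod (2 * 2)) = -1 from rfl]
        ring
    have h := h2 (-i).val
    rw [ZMod.natCast_val, ZMod.cast_id, neg_neg] at h
    exact h.symm
  let f : QuaternionGroup 2 → Matrix (Fin 2) (Fin 2) (ZMod k) := fun x => match x with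
    | .a i => g i
    | .xa i => J * g i
  have hg0 : g 0 = 1 := pow_zero _
  have hmul : ∀ x y, f (x * y) = f x * f y := by
    rintro (i | i) (j | j)
    · exact hadd i j
    · show J * g (j - i) = g i * (J * g j)
      rw [← mul_assoc, hswap, mul_assoc, ← hadd, sub_eq_neg_add]
    · show J * g (i + j) = J * g i * g j
      rw [hadd, mul_assoc]
    · show g ((2 : ℕ) + j - i) = J * g i * (J * g j)
      rw [mul_assoc, ← mul_assoc (g i), hswap, mul_assoc J, ← mul_assoc J J, hJ2, ← hadd, ← hg2, ← hadd]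
      congr 1
      push_cast
      ring
  let F : QuaternionGroup 2 →* Matrix (Fin 2) (Fin 2) (ZMod k) :=
    { toFun := f, map_one' := hg0, map_mul' := hmul }
  let A := Multiplicative (Fin 2 → ZMod k)
  let ψ : QuaternionGroup 2 →* MulAut A :=
    { toFun := fun h =>
        { toFun := fun v => Multiplicative.ofAdd ((F h).mulVec v.toAdd)
          invFun := fun v => Multiplicative.ofAdd ((F h⁻¹).mulVec v.toAdd)
          left_inv := fun v => by
            simp only [toAdd_ofAdd, Matrix.mulVec_mulVec, ← map_mul, inv_mul_cancel, map_one,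
              Matrix.one_mulVec, ofAdd_toAdd]
          right_inv := fun v => by
            simp only [toAdd_ofAdd, Matrix.mulVec_mulVec, ← map_mul, mul_inv_cancel, map_one,
              Matrix.one_mulVec, ofAdd_toAdd]
          map_mul' := fun v w => by
            rw [← ofAdd_add, ← Matrix.mulVec_add]; rfl }
      map_one' := MulEquiv.ext fun v => by simp
      map_mul' := fun x y => MulEquiv.ext fun v => by
        simp only [map_mul, ← Matrix.mulVec_mulVec]; rfl }
  haveI : Finite A := inferInstanceAs (Finite (Fin 2 → ZMod k))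
  haveI : Nontrivial A := inferInstanceAs (Nontrivial (Fin 2 → ZMod k))
  have hneg : ∀ v : A, ψ (QuaternionGroup.a 2) v = v → v = 1 := by
    intro v hv
    have h : (g 2).mulVec v.toAdd = v.toAdd := congrArg Multiplicative.toAdd hv
    rw [hg2, Matrix.neg_mulVec, Matrix.one_mulVec] at h
    have hu : IsUnit ((2 : ℕ) : ZMod k) := (ZMod.isUnit_iff_coprime 2 k).mpr (Nat.coprime_two_left.mpr hk)
    apply toAdd_eq_zero.mp
    funext i
    have h2 : ((2 : ℕ) : ZMod k) * v.toAdd i = 0 := by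
      have := congrFun h i
      rw [Pi.neg_apply] at this
      push_cast
      linear_combination -this
    exact (IsUnit.mul_right_eq_zero hu).mp h2
  obtain ⟨L, i1, i2, C, hC, hiso, hcard⟩ := exists_of_action_card ψ fun h hh v hv => by
    have hdec : ∀ x : QuaternionGroup 2, x ≠ 1 → x = QuaternionGroup.a 2 ∨ x * x = QuaternionGroup.a 2 := by decide
    rcases hdec h hh with e | e
    · exact hneg v (e ▸ hv)
    · refine hneg v ?_
      rw [← e, map_mul, MulAut.mul_apply, hv, hv]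
  refine ⟨L, i1, i2, C, hC, hiso, ?_⟩
  rw [hcard, show Nat.card A = Nat.card (Fin 2 → ZMod k) from rfl, Nat.card_fun, Nat.card_zmod, Nat.card_fin]

end CfsgLib.Fgs.FrobConstruct
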