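import Mathlib

/-!
Automizers of homocyclic Sylow 2-subgroups of rank two.
-/

set_option autoImplicit false

namespace CfsgLib.HomocyclicTwo

open Subgroup

theorem two_torsion {m : ℕ} (hm : 1 ≤ m) (z : ZMod (2 ^ m)) (h : z + z = 0) : z.val = 0 ∨ z.val = 2 ^ (m - 1) := by
  haveI : NeZero (2 ^ m) := ⟨by positivity⟩
  have h1 : ((z.val + z.val : ℕ) : ZMod (2 ^ m)) = 0 := by
    rw [Nat.cast_add, ZMod.natCast_zmod_val, h]
  rw [ZMod.natCast_eq_zero_iff] at h1
  obtain ⟨c, hc⟩ := h1
  have hlt := ZMod.val_lt z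
  have hm' : 2 ^ m = 2 * 2 ^ (m - 1) := by rw [← pow_succ']; congr 1; omega
  have hc2 : c < 2 := by
    by_contra hcc
    have := Nat.mul_le_mul_left (2 ^ m) (not_lt.mp hcc)
    omega
  interval_cases c <;> omega

/-- At most four elements square to one. -/
theorem card_sq_le {A : Type*} [Group A] [Finite A] {m : ℕ} (hm : 1 ≤ m)
    (e : A ≃* Multiplicative (ZMod (2 ^ m) × ZMod (2 ^ m))) : Nat.card {x : A // x ^ 2 = 1} ≤ 4 := by
  haveI : NeZero (2 ^ m) := ⟨by positivity⟩
  have h4 : Nat.card (Bool × Bool) = 4 := by simp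
  rw [← h4]
  refine Nat.card_le_card_of_injective
    (fun x => (decide ((Multiplicative.toAdd (e x.1)).1.val = 0), decide ((Multiplicative.toAdd (e x.1)).2.val = 0))) ?_
  intro x y hxy
  have key : ∀ x : {x : A // x ^ 2 = 1}, (Multiplicative.toAdd (e x.1)).1 + (Multiplicative.toAdd (e x.1)).1 = 0 ∧
      (Multiplicative.toAdd (e x.1)).2 + (Multiplicative.toAdd (e x.1)).2 = 0 := by
    intro x
    have h1 : Multiplicative.toAdd (e x.1) + Multiplicative.toAdd (e x.1) = 0 := by
      rw [← toAdd_mul, ← map_mul, ← pow_two, x.2, map_one, toAdd_one]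
    exact ⟨congrArg Prod.fst h1, congrArg Prod.snd h1⟩
  simp only [Prod.mk.injEq, decide_eq_decide] at hxy
  have h1 := two_torsion hm _ (key x).1
  have h2 := two_torsion hm _ (key x).2
  have h3 := two_torsion hm _ (key y).1
  have h5 := two_torsion hm _ (key y).2
  have hp : 0 < 2 ^ (m - 1) := by positivity
  refine Subtype.ext (e.injective (Multiplicative.toAdd.injective (Prod.ext (ZMod.val_injective _ ?_) (ZMod.val_injective _ ?_))))
  · omega
  · omega

variable {G : Type*} [Group G] [Finite G]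

/-- The automizer of an abelian Sylow 2-subgroup has odd order. -/
theorem odd_index (P : Sylow 2 G) (hcomm : ∀ x ∈ (P : Subgroup G), ∀ y ∈ (P : Subgroup G), x * y = y * x) :
    ¬ 2 ∣ ((centralizer ((P : Subgroup G) : Set G)).subgroupOf (normalizer ((P : Subgroup G) : Set G))).index := by
  haveI : Fact (Nat.Prime 2) := ⟨Nat.prime_two⟩
  intro h2
  refine P.not_dvd_index (h2.trans (dvd_trans (Subgroup.index_dvd_of_le
    (?_ : (P : Subgroup G).subgroupOf (normalizer ((P : Subgroup G) : Set G)) ≤ _))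
    ⟨_, (Subgroup.relIndex_mul_index Subgroup.le_normalizer).symm⟩))
  intro x hx y hy
  exact hcomm y hy (x : G) hx

/-- A normalizing element fixing every involution centralizes. -/
theorem fix_all (P : Sylow 2 G) (hcomm : ∀ x ∈ (P : Subgroup G), ∀ y ∈ (P : Subgroup G), x * y = y * x)
    {g : G} (hgN : g ∈ normalizer ((P : Subgroup G) : Set G))
    (hc : ∀ a ∈ (P : Subgroup G), a ^ 2 = 1 → g * a * g⁻¹ = a) : g ∈ centralizer ((P : Subgroup G) : Set G) := by
  haveI : Fact (Nat.Prime 2) := ⟨Nat.prime_two⟩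
  set N := normalizer ((P : Subgroup G) : Set G) with hN
  set Cn := (centralizer ((P : Subgroup G) : Set G)).subgroupOf N with hCn
  haveI : Cn.Normal := by rw [hCn, ← Subgroup.normalizerMonoidHom_ker]; infer_instance
  have hodd : ¬ 2 ∣ Cn.index := odd_index P hcomm
  have hgr : g ^ Cn.index ∈ centralizer ((P : Subgroup G) : Set G) := Cn.pow_index_mem ⟨g, hgN⟩
  have hconjP : ∀ x ∈ (P : Subgroup G), g * x * g⁻¹ ∈ (P : Subgroup G) := fun x hx => (mem_normalizer_iff.mp hgN x).mp hx
  have key : ∀ k : ℕ, ∀ x ∈ (P : Subgroup G), x ^ 2 ^ k = 1 → g * x * g⁻¹ = x := by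
    intro k
    induction k with
    | zero => intro x _ hx; rw [pow_zero, pow_one] at hx; rw [hx]; simp
    | succ k ih =>
      intro x hx hxk
      set t := x⁻¹ * (g * x * g⁻¹) with ht
      have htP : t ∈ (P : Subgroup G) := mul_mem ((P : Subgroup G).inv_mem hx) (hconjP x hx)
      have hx2 : g * x ^ 2 * g⁻¹ = x ^ 2 := ih _ ((P : Subgroup G).pow_mem hx 2) (by rw [← pow_mul, ← pow_succ']; exact hxk)
      have ht2 : t ^ 2 = 1 := by
        have hcm : Commute x⁻¹ (g * x * g⁻¹) := hcomm _ ((P : Subgroup G).inv_mem hx) _ (hconjP x hx)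
        rw [ht, hcm.mul_pow, inv_pow, conj_pow, hx2, inv_mul_cancel]
      have htfix := hc t htP ht2
      have hj : ∀ j : ℕ, g ^ j * x * (g ^ j)⁻¹ = x * t ^ j := by
        intro j
        induction j with
        | zero => simp
        | succ j ihj =>
          calc g ^ (j + 1) * x * (g ^ (j + 1))⁻¹ = g * (g ^ j * x * (g ^ j)⁻¹) * g⁻¹ := by
                simp [pow_succ', mul_assoc]
            _ = g * (x * t ^ j) * g⁻¹ := by rw [ihj]
            _ = (g * x * g⁻¹) * (g * t ^ j * g⁻¹) := by simp [mul_assoc]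
            _ = (x * t) * t ^ j := by rw [← conj_pow, htfix, ht, mul_inv_cancel_left]
            _ = x * t ^ (j + 1) := by rw [pow_succ', mul_assoc]
      have h1 := hj Cn.index
      rw [← hgr x hx, mul_inv_cancel_right] at h1
      have h2 : t ^ Cn.index = 1 := by
        have h3 := h1.symm
        rwa [mul_eq_left] at h3
      obtain ⟨j, hj'⟩ : ∃ j, Cn.index = 2 * j + 1 := ⟨Cn.index / 2, by omega⟩
      rw [hj', pow_succ, pow_mul, ht2, one_pow, one_mul] at h2
      rw [ht, inv_mul_eq_one] at h2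
      exact h2.symm
  obtain ⟨k, hk⟩ := P.2.exists_card_eq
  refine mem_centralizer_iff.mpr fun x hx => ?_
  have := key k x hx (hk ▸ orderOf_dvd_iff_pow_eq_one.mp (Subgroup.orderOf_dvd_natCard _ hx))
  exact (mul_inv_eq_iff_eq_mul.mp this).symm

end CfsgLib.HomocyclicTwo
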