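import Cfsg.Agent.Lib.CoreThompsonFpf
/-!
Splitting automorphisms of prime order: the theorem of Kegel and the index theorem of Hughes and Thompson.
-/

set_option autoImplicit false

namespace CfsgLib.Kegel

open Subgroup CfsgLib.Core
open scoped Pointwise commutatorElement IsMulCommutative

universe u

theorem eq_of_pow_eq {P : Type*} [Group P] {a b : P} {p i : ℕ} (hp : p.Prime) (ha : a ^ p = 1) (hb : b ^ p = 1)
    (hi0 : i ≠ 0) (hi : i < p) (h : a ^ i = b ^ i) : a = b := by
  have hcop : Nat.gcd i p = 1 :=
    ((hp.coprime_iff_not_dvd).mpr (Nat.not_dvd_of_pos_of_lt (Nat.pos_of_ne_zero hi0) hi)).symm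
  obtain ⟨c, hc⟩ := Nat.exists_mul_mod_eq_one_of_coprime hcop hp.one_lt
  have key : ∀ g : P, g ^ p = 1 → (g ^ i) ^ c = g := fun g hg => by
    rw [← pow_mul, pow_eq_pow_mod _ hg, hc.2, pow_one]
  rw [← key a ha, ← key b hb, h]

section sums

variable {P V : Type*} [Group P] [CommGroup V] (φ : P →* MulAut V) (D : Subgroup P) [Fintype D]
  (x : P) {p : ℕ}

/-- The sum over a coset of `D`. -/
def cosum (i : ℕ) (v : V) : V := ∏ d : D, φ ((d : P) * x ^ i) v

theorem apply_cosum_mem {d : P} (hd : d ∈ D) (i : ℕ) (v : V) : φ d (cosum φ D x i v) = cosum φ D x i v := by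
  rw [cosum, map_prod]
  refine Fintype.prod_equiv (Equiv.mulLeft ⟨d, hd⟩) _ _ fun y => ?_
  show φ d (φ ((y : P) * x ^ i) v) = φ ((d * (y : P)) * x ^ i) v
  rw [← MulAut.mul_apply, ← map_mul, mul_assoc]

theorem apply_cosum_self (hx : x ∈ normalizer (D : Set P)) (i : ℕ) (v : V) :
    φ x (cosum φ D x i v) = cosum φ D x (i + 1) v := by
  let e : D ≃ D :=
    { toFun := fun d => ⟨x * d * x⁻¹, (mem_normalizer_iff.mp hx _).mp d.2⟩
      invFun := fun d => ⟨x⁻¹ * d * x, by
        have := (mem_normalizer_iff.mp (inv_mem hx) _).mp d.2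
        rwa [inv_inv] at this⟩
      left_inv := fun d => Subtype.ext (by group)
      right_inv := fun d => Subtype.ext (by group) }
  rw [cosum, map_prod]
  refine Fintype.prod_equiv e _ _ fun y => ?_
  show φ x (φ ((y : P) * x ^ i) v) = φ ((x * y * x⁻¹) * x ^ (i + 1)) v
  rw [← MulAut.mul_apply, ← map_mul, pow_succ']
  congr 2
  group

theorem apply_total_mem {d : P} (hd : d ∈ D) (v : V) :
    φ d (∏ i ∈ Finset.range p, cosum φ D x i v) = ∏ i ∈ Finset.range p, cosum φ D x i v := by
  rw [map_prod]
  exact Finset.prod_congr rfl fun i _ => apply_cosum_mem φ D x hd i v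

theorem apply_total_self (hx : x ∈ normalizer (D : Set P)) (hxp : x ^ p = 1) (v : V) :
    φ x (∏ i ∈ Finset.range p, cosum φ D x i v) = ∏ i ∈ Finset.range p, cosum φ D x i v := by
  rw [map_prod]
  simp only [apply_cosum_self φ D x hx]
  have h := Finset.prod_range_succ' (fun i => cosum φ D x i v) p
  rw [Finset.prod_range_succ] at h
  have h0 : cosum φ D x p v = cosum φ D x 0 v := by simp only [cosum, hxp, pow_zero]
  rw [h0] at h
  exact (mul_right_cancel h).symm

theorem pow_card_mul_total (hx : x ∈ normalizer (D : Set P)) (hp : p.Prime)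
    (hord : ∀ d ∈ D, (d * x) ^ p = 1)
    (hnorm : ∀ d ∈ D, ∀ v : V, ∏ i ∈ Finset.range p, φ ((d * x) ^ i) v = 1) (v : V) :
    v ^ Fintype.card D * ∏ i ∈ Finset.range p, cosum φ D x i v = cosum φ D x 0 v := by
  obtain ⟨n, rfl⟩ : ∃ n, p = n + 1 := ⟨p - 1, by have := hp.one_lt; omega⟩
  have hcoset : ∀ (i : ℕ) (d : D), ((d : P) * x) ^ i * (x ^ i)⁻¹ ∈ D := by
    intro i d
    induction i with
    | zero => simpa using D.one_mem
    | succ k ih =>
      have h1 : x ^ k * (d : P) * (x ^ k)⁻¹ ∈ D := (mem_normalizer_iff.mp (pow_mem hx k) _).mp d.2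
      have := D.mul_mem ih h1
      convert this using 1
      rw [pow_succ, pow_succ]
      group
  have hstep : ∀ i < n, ∏ d : D, φ (((d : P) * x) ^ (i + 1)) v = cosum φ D x (i + 1) v := by
    intro i hi
    have hb : Function.Bijective fun d : D => (⟨((d : P) * x) ^ (i + 1) * (x ^ (i + 1))⁻¹, hcoset _ d⟩ : D) := by
      refine Finite.injective_iff_bijective.mp fun a b h => ?_
      have h' := mul_right_cancel (congrArg Subtype.val h)
      exact Subtype.ext (mul_right_cancel
        (eq_of_pow_eq hp (hord _ a.2) (hord _ b.2) (Nat.succ_ne_zero i) (by omega) h'))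
    refine Eq.trans ?_ (hb.prod_comp fun d : D => φ ((d : P) * x ^ (i + 1)) v)
    refine Fintype.prod_congr _ _ fun d => ?_
    show _ = φ (((d : P) * x) ^ (i + 1) * (x ^ (i + 1))⁻¹ * x ^ (i + 1)) v
    rw [inv_mul_cancel_right]
  have hall : ∏ d : D, ∏ i ∈ Finset.range (n + 1), φ (((d : P) * x) ^ i) v = 1 :=
    Finset.prod_eq_one fun d _ => hnorm _ d.2 v
  rw [Finset.prod_comm, Finset.prod_range_succ', Finset.prod_congr rfl fun i hi => hstep i (Finset.mem_range.mp hi)] at hall
  simp only [pow_zero, map_one, MulAut.one_apply, Finset.prod_const, Finset.card_univ] at hall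
  rw [Finset.prod_range_succ', ← mul_assoc, mul_comm (v ^ Fintype.card D), hall, one_mul]

end sums

variable {G : Type u} [Group G]

theorem coe_pow_mul (M : Subgroup G) [M.Normal] [IsMulCommutative M] (a : G) (m : M) : ∀ n : ℕ,
    ((m : G) * a) ^ n = ((∏ i ∈ Finset.range n, MulAut.conjNormal (a ^ i) m : M) : G) * a ^ n
  | 0 => by simp
  | n + 1 => by
    rw [pow_succ, coe_pow_mul M a m n, Finset.prod_range_succ, Subgroup.coe_mul, MulAut.conjNormal_apply, pow_succ]
    group

theorem prod_conjNormal_eq_one (M : Subgroup G) [M.Normal] [IsMulCommutative M] {a : G} {p : ℕ} (m : M)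
    (h1 : a ^ p = 1) (h2 : ((m : G) * a) ^ p = 1) :
    ∏ i ∈ Finset.range p, MulAut.conjNormal (a ^ i) m = 1 := by
  rw [coe_pow_mul M a m p, h1, mul_one] at h2
  exact OneMemClass.coe_eq_one.mp h2

theorem isNilpotent_of_le [Finite G] {A B : Subgroup G} (h : A ≤ B) (hB : Group.IsNilpotent B) :
    Group.IsNilpotent A :=
  Group.nilpotent_of_mulEquiv (subgroupOfEquivOfLe h)

/-- Kegel: a group with a splitting automorphism of prime order is nilpotent. -/
theorem isNilpotent_of_splitting {p : ℕ} (hp : p.Prime) : ∀ (n : ℕ) (G : Type u) [Group G] [Finite G]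
    (H : Subgroup G) (x : G), Nat.card H ≤ n → x ∈ normalizer (H : Set G) → x ∉ H →
      (∀ h ∈ H, (h * x) ^ p = 1) → Group.IsNilpotent H := by
  intro n
  induction n with
  | zero => intro G _ _ H x h; exact absurd h (by simp [Nat.card_pos.ne'])
  | succ n ih =>
    intro G₀ _ _ H₀ x₀ hn hxN hxH hsplit
    classical
    set K := H₀ ⊔ zpowers x₀ with hK
    have hHK : H₀ ≤ K := le_sup_left
    have hKN : K ≤ normalizer (H₀ : Set G₀) := sup_le le_normalizer ((zpowers_le).mpr hxN)
    suffices Group.IsNilpotent (H₀.subgroupOf K) from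
      Group.nilpotent_of_mulEquiv (subgroupOfEquivOfLe hHK)
    have hgen0 : H₀.subgroupOf K ⊔ zpowers (⟨x₀, mem_sup_right (mem_zpowers x₀)⟩ : K) = ⊤ := by
      apply map_injective K.subtype_injective
      rw [Subgroup.map_sup, map_subgroupOf_eq_of_le hHK, MonoidHom.map_zpowers, ← MonoidHom.range_eq_map,
        range_subtype]
      rfl
    have hHn : (H₀.subgroupOf K).Normal := normal_subgroupOf_of_le_normalizer hKN
    have hn' : Nat.card (H₀.subgroupOf K) ≤ n + 1 := by
      rwa [Nat.card_congr (subgroupOfEquivOfLe hHK).toEquiv]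
    have hxH' : (⟨x₀, mem_sup_right (mem_zpowers x₀)⟩ : K) ∉ H₀.subgroupOf K := hxH
    have hsplit' : ∀ h ∈ H₀.subgroupOf K, (h * (⟨x₀, mem_sup_right (mem_zpowers x₀)⟩ : K)) ^ p = 1 :=
      fun h hh => Subtype.ext (hsplit _ hh)
    clear hn hxN hxH hsplit hKN
    revert hgen0 hHn hn' hxH' hsplit'
    generalize H₀.subgroupOf K = H
    generalize (⟨x₀, mem_sup_right (mem_zpowers x₀)⟩ : K) = x
    intro hgen hHn hn hxH hsplit
    haveI := hHn
    haveI : Fact p.Prime := ⟨hp⟩
    by_contra hnil
    -- invariant proper subgroups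
    have hsub : ∀ (U : Subgroup K) (h : K), U ≤ H → U ≠ H → h ∈ H → h * x ∈ normalizer (U : Set K) →
        Group.IsNilpotent U := by
      intro U h hU hne hh hy
      have hlt : Nat.card U < Nat.card H := by
        refine lt_of_le_of_ne (card_le_of_le hU) fun e => hne (eq_of_le_of_card_ge hU e.ge)
      refine ih K U (h * x) (by omega) hy (fun hmem => hxH ?_) fun u hu => ?_
      · simpa using H.mul_mem (H.inv_mem hh) (hU hmem)
      · rw [← mul_assoc]; exact hsplit _ (H.mul_mem (hU hu) hh)
    have hnormal : ∀ U : Subgroup K, H ≤ normalizer (U : Set K) → ∀ h ∈ H, h * x ∈ normalizer (U : Set K) →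
        U.Normal := by
      intro U h1 h hh h2
      rw [← normalizer_eq_top_iff, eq_top_iff, ← hgen]
      refine sup_le h1 (zpowers_le.mpr ?_)
      simpa using mul_mem (inv_mem (h1 hh)) h2
    have hquot : ∀ N : Subgroup K, ∀ [N.Normal], N ≤ H → N ≠ ⊥ →
        Group.IsNilpotent (H.map (QuotientGroup.mk' N)) := by
      intro N _ hN hne
      refine ih (K ⧸ N) _ (x : K ⧸ N) ?_ ?_ ?_ ?_
      · have h1 := Subgroup.card_map_dvd (H := H) (f := QuotientGroup.mk' N)
        have h2 : Nat.card (H.map (QuotientGroup.mk' N)) ≠ Nat.card H := by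
          intro e
          apply hne
          rw [eq_bot_iff]
          intro y hy
          have hinj : Function.Injective ((QuotientGroup.mk' N).subgroupMap H) :=
            ((Nat.bijective_iff_surjective_and_card _).mpr
              ⟨(QuotientGroup.mk' N).subgroupMap_surjective H, e.symm⟩).1
          have : (⟨y, hN hy⟩ : H) = 1 := hinj (Subtype.ext (by
            show (QuotientGroup.mk' N) y = (QuotientGroup.mk' N) 1
            rw [map_one]; exact (QuotientGroup.eq_one_iff y).mpr hy))
          exact mem_bot.mpr (congrArg Subtype.val this)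
        have := Nat.le_of_dvd Nat.card_pos h1
        omega
      · rw [normalizer_eq_top_iff.mpr (hHn.map _ (QuotientGroup.mk'_surjective N))]; exact mem_top _
      · rintro ⟨y, hy, hyx⟩
        have h1 : y⁻¹ * x ∈ N := QuotientGroup.eq.mp hyx
        exact hxH (by simpa using H.mul_mem hy (hN h1))
      · rintro _ ⟨y, hy, rfl⟩
        rw [show (QuotientGroup.mk' N) y * (x : K ⧸ N) = ((y * x : K) : K ⧸ N) from rfl, ← QuotientGroup.mk_pow,
          hsplit y hy, QuotientGroup.mk_one]
    have hHp : ∀ q : ℕ, q.Prime → ∃ s, s.Prime ∧ s ≠ q ∧ s ∣ Nat.card H := by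
      intro q hq
      haveI := Fact.mk hq
      by_contra h
      push Not at h
      apply hnil
      refine isNilpotent_of_isPGroup (p := q) (IsPGroup.of_card (n := (Nat.card H).factorization q) ?_)
      refine Nat.eq_of_factorization_eq Nat.card_pos.ne' (pow_ne_zero _ hq.ne_zero) fun s => ?_
      rw [hq.factorization_pow]
      rcases eq_or_ne s q with rfl | hs
      · simp
      rw [Finsupp.single_eq_of_ne hs]
      by_cases hs' : s.Prime
      · exact Nat.factorization_eq_zero_of_not_dvd (h s hs' hs)
      · exact Nat.factorization_eq_zero_of_not_prime _ hs'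
    -- Frattini: every Sylow subgroup of `H` is normalised by an element of `H x`
    have hfrat : ∀ (q : ℕ) [Fact q.Prime] (Q : Sylow q H), ∃ h ∈ H,
        h * x ∈ normalizer ((Q : Subgroup H).map H.subtype : Set K) := by
      intro q _ Q
      have htop := Sylow.normalizer_sup_eq_top Q
      have hx : x ∈ normalizer ((Q : Subgroup H).map H.subtype : Set K) ⊔ H := htop.symm ▸ mem_top x
      obtain ⟨y, hy, z, hz, rfl⟩ := mem_sup_of_normal_right.mp hx
      refine ⟨y * z⁻¹ * y⁻¹, hHn.conj_mem _ (H.inv_mem hz) _, ?_⟩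
      convert hy using 1
      group
    -- solubility
    haveI hsol : Group.IsSolvable H := by
      by_cases hex : ∃ N : Subgroup K, N.Normal ∧ N ≤ H ∧ N ≠ ⊥ ∧ N ≠ H
      · obtain ⟨N, hN, hNH, hN0, hN1⟩ := hex
        haveI := hN
        haveI := hquot N hNH hN0
        haveI := hsub N 1 hNH hN1 H.one_mem (by rw [normalizer_eq_top_iff.mpr hN]; exact mem_top _)
        exact Group.isSolvable_of_ker_le_range (inclusion hNH) ((QuotientGroup.mk' N).subgroupMap H)
          (fun y hy => ⟨⟨(y : K), (QuotientGroup.eq_one_iff (y : K)).mp (congrArg Subtype.val hy)⟩, rfl⟩)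
      push Not at hex
      by_cases hpq : ∃ q, q.Prime ∧ q ∣ Nat.card H ∧ q ≠ 2 ∧ q ≠ p
      · exfalso
        obtain ⟨q, hq, hqd, hq2, hqp⟩ := hpq
        haveI := Fact.mk hq
        obtain ⟨Q⟩ : Nonempty (Sylow q H) := inferInstance
        obtain ⟨h, hh, hy⟩ := hfrat q Q
        set Z := CfsgLib.Stable.Zsub 0 ((Q : Subgroup H).map H.subtype) with hZ
        have hQp : IsPGroup q ((Q : Subgroup H).map H.subtype) := Q.2.map _
        have hZH : Z ≤ H := (CfsgLib.Stable.Zsub_le 0 _).trans (map_subtype_le _)
        have hZy : h * x ∈ normalizer (Z : Set K) := by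
          have e := CfsgLib.Stable.map_Zsub 0 ((Q : Subgroup H).map H.subtype) (↑(MulAut.conj (h * x)) : K →* K)
            (Set.injOn_of_injective (MulAut.conj (h * x)).injective)
          rw [mem_normalizer_iff_map_conj_eq] at hy ⊢
          rw [← hZ] at e
          rwa [hy, ← hZ] at e
        have hZ0 : Z ≠ ⊥ := CfsgLib.Stable.Zsub_ne_bot (p := q) (Or.inl rfl) hQp (by
          rw [Ne, map_eq_bot_iff_of_injective _ H.subtype_injective]
          exact Q.ne_bot_of_dvd_card hqd)
        set U := H ⊓ normalizer (Z : Set K) with hU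
        have hUne : U ≠ H := by
          intro e
          have hle : H ≤ normalizer (Z : Set K) := e ▸ inf_le_right
          have := hex Z (hnormal Z hle h hh hZy) hZH hZ0
          obtain ⟨s, hs, hsq, hsd⟩ := hHp q hq
          obtain ⟨k, hk⟩ := (hQp.to_le (CfsgLib.Stable.Zsub_le 0 _)).exists_card_eq
          rw [← hZ, this] at hk
          rw [hk] at hsd
          exact hsq ((Nat.prime_dvd_prime_iff_eq hs hq).mp (hs.dvd_of_dvd_pow hsd))
        have hUn : Group.IsNilpotent U := hsub U h inf_le_left hUne hh (le_normalizer_inf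
          (A := zpowers (h * x)) (zpowers_le.mpr (by rw [normalizer_eq_top_iff.mpr hHn]; exact mem_top _))
          (zpowers_le.mpr (le_normalizer hZy)) (mem_zpowers _))
        have e := CfsgLib.Stable.map_Zsub 0 (Q : Subgroup H) H.subtype (Set.injOn_of_injective H.subtype_injective)
        haveI : Group.IsNilpotent (normalizer (CfsgLib.Stable.Zsub 0 (Q : Subgroup H) : Set H)) := by
          have hle : (normalizer (CfsgLib.Stable.Zsub 0 (Q : Subgroup H) : Set H)).map H.subtype ≤ U := by
            rintro _ ⟨y, hy', rfl⟩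
            refine ⟨y.2, ?_⟩
            show (y : K) ∈ normalizer (Z : Set K)
            rw [hZ, ← e]
            exact le_normalizer_map _ ⟨y, hy', rfl⟩
          haveI := isNilpotent_of_le hle hUn
          exact Group.nilpotent_of_mulEquiv (equivMapOfInjective _ _ H.subtype_injective).symm
        obtain ⟨N, hN, hNcop, k, hk⟩ := hasNormalPComplement_iff.mp
          (CfsgLib.Stable.npc_of_Zsub hq2 (Or.inl rfl) Q hasNormalPComplement_of_isNilpotent)
        haveI := characteristic_pPrimeCore (G := H) q
        have hO0 : Cfsg.pPrimeCore q H ≠ ⊥ := by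
          intro e0
          have hNb : N = ⊥ := le_bot_iff.mp (e0 ▸ le_pPrimeCore hN hNcop)
          obtain ⟨s, hs, hsq, hsd⟩ := hHp q hq
          rw [hNb, index_bot] at hk
          rw [hk] at hsd
          exact hsq ((Nat.prime_dvd_prime_iff_eq hs hq).mp (hs.dvd_of_dvd_pow hsd))
        have hOH := hex ((Cfsg.pPrimeCore q H).map H.subtype) inferInstance (map_subtype_le _)
          (by rwa [Ne, map_eq_bot_iff_of_injective _ H.subtype_injective])
        apply not_dvd_card_pPrimeCore (G := H) q
        rw [show Nat.card (Cfsg.pPrimeCore q H) = Nat.card ((Cfsg.pPrimeCore q H).map H.subtype) from (Nat.card_congr (equivMapOfInjective _ _ H.subtype_injective).toEquiv), hOH]; exact hqd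
      · push Not at hpq
        have hp2 : p ≠ 2 := by
          intro e
          obtain ⟨r, hr, hr2, hrd⟩ := hHp 2 Nat.prime_two
          exact hr2 ((hpq r hr hrd hr2).trans e)
        refine CfsgLib.Char.burnside_pq hp Nat.prime_two _ H ((Nat.card H).factorization p)
          ((Nat.card H).factorization 2) rfl ?_
        refine Nat.eq_of_factorization_eq Nat.card_pos.ne'
          (Nat.mul_ne_zero (pow_ne_zero _ hp.ne_zero) (pow_ne_zero _ two_ne_zero)) fun s => ?_
        rw [Nat.factorization_mul (pow_ne_zero _ hp.ne_zero) (pow_ne_zero _ two_ne_zero), Finsupp.add_apply,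
          hp.factorization_pow, Nat.prime_two.factorization_pow]
        by_cases h1 : s = p
        · subst h1; simp [Finsupp.single_eq_of_ne, hp2]
        by_cases h2 : s = 2
        · subst h2; simp [Finsupp.single_eq_of_ne, Ne.symm hp2]
        rw [Finsupp.single_eq_of_ne h1, Finsupp.single_eq_of_ne h2, add_zero]
        by_cases hs : s.Prime
        · exact Nat.factorization_eq_zero_of_not_dvd fun hd => h1 (hpq s hs hd h2)
        · exact Nat.factorization_eq_zero_of_not_prime _ hs
    haveI : Nontrivial H := by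
      by_contra h
      rw [not_nontrivial_iff_subsingleton] at h
      exact hnil inferInstance
    -- a minimal invariant normal subgroup
    obtain ⟨M, ⟨hM, hMH, hM0⟩, hMmin'⟩ := (Set.toFinite {L : Subgroup K | L.Normal ∧
      L ≤ H ∧ L ≠ ⊥}).exists_minimal ⟨H, hHn, le_rfl, (nontrivial_iff_ne_bot H).mp inferInstance⟩
    haveI := hM
    have hMmin : ∀ L : Subgroup K, L.Normal → L ≤ M → L ≠ ⊥ → M ≤ L :=
      fun L h1 h3 h4 => hMmin' (y := L) ⟨h1, h3.trans hMH, h4⟩ h3
    haveI : Group.IsSolvable M := Group.isSolvable_of_isSolvable_injective (inclusion_injective hMH)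
    haveI hMc : IsMulCommutative M := by
      rw [isMulCommutative_iff_commutator_eq_bot]
      by_contra h
      have hle := hMmin ⁅M, M⁆ inferInstance (commutator_le_self M) h
      haveI : Nontrivial M := (nontrivial_iff_ne_bot M).mpr hM0
      have hlt := Group.IsSolvable.commutator_lt_top_of_nontrivial M
      apply hlt.ne
      apply map_injective M.subtype_injective
      rw [map_subtype_commutator, ← MonoidHom.range_eq_map, range_subtype]
      exact le_antisymm (commutator_le_self M) hle
    obtain ⟨q, hq, hqd⟩ := Nat.exists_prime_and_dvd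
      (fun e => hM0 (eq_bot_of_card_eq _ e) : Nat.card M ≠ 1)
    haveI := Fact.mk hq
    have hMq : IsPGroup q M := by
      obtain ⟨R⟩ : Nonempty (Sylow q M) := inferInstance
      haveI : Group.IsNilpotent M := inferInstance
      haveI hRn := isNilpotent_iff_sylow_normal.mp (inferInstance : Group.IsNilpotent M) q inferInstance R
      haveI := R.characteristic_of_normal hRn
      have hle := hMmin ((R : Subgroup M).map M.subtype) inferInstance (map_subtype_le _) (by
        rw [Ne, map_eq_bot_iff_of_injective _ M.subtype_injective]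
        exact R.ne_bot_of_dvd_card hqd)
      exact (R.2.map M.subtype).to_le hle
    haveI hHM := hquot M hMH hM0
    -- `O_{q'}(H) = 1`
    have hOq : Cfsg.pPrimeCore q H = ⊥ := by
      by_contra h
      haveI := characteristic_pPrimeCore (G := H) q
      set L := (Cfsg.pPrimeCore q H).map H.subtype with hL
      haveI := hquot L (map_subtype_le _) (by rwa [Ne, hL, map_eq_bot_iff_of_injective _ H.subtype_injective])
      apply hnil
      let f := ((QuotientGroup.mk' M).subgroupMap H).prod ((QuotientGroup.mk' L).subgroupMap H)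
      have hinj : Function.Injective f := by
        rw [injective_iff_map_eq_one]
        intro y hy
        have h1 : (y : K) ∈ M := (QuotientGroup.eq_one_iff _).mp (congrArg Subtype.val (congrArg Prod.fst hy))
        have h2 : (y : K) ∈ L := (QuotientGroup.eq_one_iff _).mp (congrArg Subtype.val (congrArg Prod.snd hy))
        have hb : M ⊓ L = ⊥ := by
          apply CfsgLib.Core.inf_eq_bot_of_coprime
          obtain ⟨k, hk⟩ := hMq.exists_card_eq
          rw [hk, hL, card_map_of_injective H.subtype_injective]
          exact ((coprime_card_pPrimeCore (G := H) q).symm).pow_left k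
        exact Subtype.ext (mem_bot.mp (hb ▸ ⟨h1, h2⟩))
      exact Group.nilpotent_of_mulEquiv (MonoidHom.ofInjective hinj).symm
    obtain ⟨s, hs, hsq, hsd⟩ := hHp q hq
    haveI := Fact.mk hs
    obtain ⟨S⟩ : Nonempty (Sylow s H) := inferInstance
    obtain ⟨h, hh, hy⟩ := hfrat s S
    set SK := (S : Subgroup H).map H.subtype with hSK
    set MH := M.subgroupOf H with hMHdef
    haveI : MH.Normal := inferInstance
    have hMHp : IsPGroup q MH := hMq.of_equiv (subgroupOfEquivOfLe hMH).symm
    obtain ⟨Q⟩ : Nonempty (Sylow q H) := inferInstance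
    have hMQ : MH ≤ (Q : Subgroup H) := (le_pCore inferInstance hMHp).trans (pCore_le_sylow Q)
    haveI hQn : (Q : Subgroup H).Normal := by
      have h1 := isNilpotent_iff_sylow_normal.mp hHM q inferInstance
        (Q.mapSurjective ((QuotientGroup.mk' M).subgroupMap_surjective H))
      have h2 := h1.comap ((QuotientGroup.mk' M).subgroupMap H)
      rw [Sylow.coe_mapSurjective, comap_map_eq] at h2
      have hker : ((QuotientGroup.mk' M).subgroupMap H).ker ≤ (Q : Subgroup H) := fun y hy =>
        hMQ ((QuotientGroup.eq_one_iff (y : K)).mp (congrArg Subtype.val hy))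
      rwa [sup_eq_left.mpr hker] at h2
    -- `S` does not centralise `M`
    have hSM : ¬ (S : Subgroup H) ≤ centralizer (MH : Set H) := by
      intro hle
      have hSQ : ¬ (S : Subgroup H) ≤ centralizer ((Q : Subgroup H) : Set H) := by
        intro hle
        haveI := normal_fittingSubgroup (G := H)
        have hF : Cfsg.fittingSubgroup H ≤ Q := by
          refine (le_of_eq ?_).trans (pCore_le_sylow Q)
          rw [fittingSubgroup_eq_iSup_pCore]
          refine le_antisymm (iSup_le fun t => ?_) (le_iSup_of_le ⟨q, hq⟩ le_rfl)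
          rcases eq_or_ne (t : ℕ) q with h | h
          · rw [h]
          · refine le_trans ?_ (bot_le)
            rw [← hOq]
            refine le_pPrimeCore (normal_pCore _) ?_
            haveI := Fact.mk t.2
            obtain ⟨k, hk⟩ := (isPGroup_pCore (G := H) (t : ℕ)).exists_card_eq
            rw [hk]
            exact ((Nat.coprime_primes t.2 hq).mpr h).pow_left k
        have h1 : (S : Subgroup H) ≤ Cfsg.fittingSubgroup H :=
          (hle.trans (centralizer_le hF)).trans centralizer_fitting_le
        have h2 := IsPGroup.disjoint_of_ne s q hsq _ _ S.2 Q.2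
        exact S.ne_bot_of_dvd_card hsd (le_bot_iff.mp (h2 le_rfl (h1.trans hF)))
      apply hSQ
      have hle' : (S : Subgroup H) ≤ normalizer ((Q : Subgroup H) : Set H) := by
        rw [normalizer_eq_top (H := (Q : Subgroup H))]; exact le_top
      refine le_centralizer_of_stabilizes hle' ?_ (Or.inr inferInstance) ?_
      · rw [S.card_eq_multiplicity, Q.card_eq_multiplicity]
        exact ((Nat.coprime_primes hs hq).mpr hsq).pow _ _
      rw [eq_bot_iff]
      refine (commutator_mono (?_ : ⁅(Q : Subgroup H), (S : Subgroup H)⁆ ≤ MH) le_rfl).trans ?_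
      · rw [commutator_le]
        intro a ha b hb
        set f := (QuotientGroup.mk' M).subgroupMap H with hf
        have hc := mem_centralizer_iff.mp (le_centralizer_of_isNilpotent (H := (⊤ : Subgroup (H.map (QuotientGroup.mk' M))))
          inferInstance hsq le_top le_top (S.2.map f) (Q.2.map f) (mem_map_of_mem _ hb)) _ (mem_map_of_mem _ ha)
        have : f ⁅a, b⁆ = 1 := by
          rw [map_commutatorElement, commutatorElement_eq_one_iff_mul_comm]
          exact hc
        exact (QuotientGroup.eq_one_iff ((⁅a, b⁆ : H) : K)).mp (congrArg Subtype.val this)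
      · rw [le_bot_iff, commutator_eq_bot_iff_le_centralizer, le_centralizer_iff]
        exact hle
    have hSM' : ¬ SK ≤ centralizer (M : Set K) := fun hle => hSM fun a ha =>
      mem_centralizer_iff.mpr fun b hb => Subtype.ext
        (mem_centralizer_iff.mp (hle (mem_map_of_mem H.subtype ha)) (b : K) hb)
    have hMN : ∀ A : Subgroup K, A ≤ normalizer (M : Set K) := fun A => by
      rw [normalizer_eq_top (H := M)]; exact le_top
    have hyS : zpowers (h * x) ≤ normalizer (SK : Set K) := zpowers_le.mpr hy
    have htop : M ⊔ SK = H := by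
      by_contra hne
      have hnil' := hsub (M ⊔ SK) h (sup_le hMH (map_subtype_le _)) hne hh
        (le_normalizer_sup (hMN _) hyS (mem_zpowers _))
      exact hSM' (le_centralizer_of_isNilpotent hnil' hsq le_sup_right le_sup_left (S.2.map _) hMq)
    have hfix : M ⊓ centralizer (SK : Set K) = ⊥ := by
      by_contra hne
      apply hSM'
      have h1 : H ≤ normalizer ((M ⊓ centralizer (SK : Set K) : Subgroup K) : Set K) := by
        conv_lhs => rw [← htop]
        refine sup_le ?_ (le_normalizer_inf (hMN _) (le_normalizer_centralizer le_normalizer))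
        refine le_trans ?_ (centralizer_le_normalizer (M ⊓ centralizer (SK : Set K)))
        intro a ha
        exact mem_centralizer_iff.mpr fun b hb => congrArg Subtype.val (mul_comm' (⟨b, hb.1⟩ : M) ⟨a, ha⟩)
      have hle := hMmin _ (hnormal _ h1 h hh
        (le_normalizer_inf (hMN _) (le_normalizer_centralizer hyS) (mem_zpowers _))) inf_le_left hne
      rw [le_centralizer_iff]
      exact hle.trans inf_le_right
    -- the norm argument
    letI := Fintype.ofFinite SK
    let φ : K →* MulAut M := MulAut.conjNormal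
    have hord : ∀ m ∈ H, (m * (h * x)) ^ p = 1 := fun m hm => by
      rw [← mul_assoc]; exact hsplit _ (H.mul_mem hm hh)
    have hfix1 : ∀ w : M, (∀ d ∈ SK, φ d w = w) → w = 1 := by
      intro w hw
      refine Subtype.ext (mem_bot.mp (hfix ▸ ⟨w.2, mem_centralizer_iff.mpr fun d hd => ?_⟩))
      have := congrArg Subtype.val (hw d hd)
      rw [MulAut.conjNormal_apply] at this
      exact mul_inv_eq_iff_eq_mul.mp this
    apply hM0
    rw [eq_bot_iff]
    intro m hm
    have key := pow_card_mul_total φ SK (h * x) hy hp (fun d hd => hord d (map_subtype_le _ hd))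
      (fun d hd v => prod_conjNormal_eq_one M v (hord d (map_subtype_le _ hd))
        (by rw [← mul_assoc]; exact hord _ (H.mul_mem (hMH v.2) (map_subtype_le _ hd)))) ⟨m, hm⟩
    rw [hfix1 _ fun d hd => apply_total_mem φ SK (h * x) hd ⟨m, hm⟩,
      hfix1 _ fun d hd => apply_cosum_mem φ SK (h * x) hd 0 ⟨m, hm⟩, mul_one] at key
    have h3 := pow_gcd_eq_one.mpr ⟨key, (pow_card_eq_one' : (⟨m, hm⟩ : M) ^ Nat.card M = 1)⟩
    have hc : (Fintype.card SK).Coprime (Nat.card M) := by
      obtain ⟨k, hk⟩ := hMq.exists_card_eq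
      obtain ⟨l, hl⟩ := (S.2.map H.subtype).exists_card_eq
      rw [← Nat.card_eq_fintype_card, hSK, hl, hk]
      exact ((Nat.coprime_primes hs hq).mpr hsq).pow _ _
    rw [hc.gcd_eq_one, pow_one] at h3
    exact mem_bot.mpr (congrArg Subtype.val h3)

end CfsgLib.Kegel
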