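import Mathlib
import Cfsg.Agent.Lib.TransferApps
import Cfsg.Agent.Lib.CoreBasic

/-!
Kulakoff–Miller congruences for cyclic subgroups and elements of a given order.
-/

set_option autoImplicit false

namespace CfsgLib.Kulakoff

open Subgroup

universe u

variable {p : ℕ} [hp : Fact p.Prime]

theorem dvd_choose_two {n : ℕ} (hodd : p ≠ 2) (h : p ∣ n ∨ n % p = 1) : p ∣ n.choose 2 := by
  have h2 : p ∣ n * (n - 1) := by
    rcases h with h | h
    · exact h.mul_right _
    · exact Dvd.dvd.mul_left (Nat.dvd_of_mod_eq_zero (Nat.sub_mod_eq_zero_of_mod_eq (by rw [h, Nat.one_mod_eq_one.mpr hp.out.ne_one]))) _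
  have h3 : n * (n - 1) = 2 * n.choose 2 := by
    rw [Nat.choose_two_right, Nat.mul_div_cancel']
    exact (Nat.even_mul_pred_self n).two_dvd
  rw [h3] at h2
  exact (((Nat.coprime_primes hp.out Nat.prime_two).mpr hodd).dvd_of_dvd_mul_left h2)

/-- The number of elements of order `n` is a multiple of `φ n`. -/
theorem totient_dvd {H : Type*} [Group H] [Finite H] (n : ℕ) (hn : 0 < n) :
    n.totient ∣ Nat.card {x : H // orderOf x = n} := by
  classical
  haveI := Fintype.ofFinite H
  rw [Nat.card_eq_fintype_card, Fintype.card_subtype, Finset.card_eq_sum_card_image (fun x : H => Subgroup.zpowers x)]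
  refine Finset.dvd_sum fun K hK => dvd_of_eq ?_
  obtain ⟨x, hx, rfl⟩ := Finset.mem_image.mp hK
  rw [Finset.mem_filter] at hx
  haveI := Fintype.ofFinite (Subgroup.zpowers x)
  rw [← IsCyclic.card_orderOf_eq_totient (α := Subgroup.zpowers x) (d := n)
    (by rw [← Nat.card_eq_fintype_card, Nat.card_zpowers, hx.2])]
  refine Finset.card_bij' (fun y _ => (y : H)) (fun y hy => ⟨y, ?_⟩) ?_ ?_ ?_ ?_
  · rw [Finset.mem_filter] at hy
    exact hy.2 ▸ Subgroup.mem_zpowers y
  · intro y hy
    rw [Finset.mem_filter] at hy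
    rw [Finset.mem_filter, Finset.mem_filter]
    refine ⟨⟨Finset.mem_univ _, by rw [Subgroup.orderOf_coe, hy.2]⟩, ?_⟩
    refine Subgroup.eq_of_le_of_card_ge (Subgroup.zpowers_le.mpr y.2) ?_
    rw [Nat.card_zpowers, Nat.card_zpowers, hx.2, Subgroup.orderOf_coe, hy.2]
  · intro y hy
    rw [Finset.mem_filter, Finset.mem_filter] at hy
    rw [Finset.mem_filter]
    exact ⟨Finset.mem_univ _, by rw [Subgroup.orderOf_mk, hy.1.2]⟩
  · intro y hy; rfl
  · intro y hy; rfl

section PGroup

variable {P : Type u} [Group P] [Finite P]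

/-- A normal subgroup of order `p ^ 2` and exponent `p` moved only inside every normal cyclic subgroup. -/
theorem exists_twist (hodd : p ≠ 2) (hP : IsPGroup p P) (hnc : ¬ IsCyclic P) :
    ∃ E : Subgroup P, E.Normal ∧ Nat.card E = p ^ 2 ∧ (∀ e ∈ E, e ^ p = 1) ∧
      ∀ g : P, ∀ e ∈ E, g * e * g⁻¹ * e⁻¹ ∈ Subgroup.center P ∧ (g * e * g⁻¹ * e⁻¹) ^ p = 1 ∧
        ∀ x : P, x ≠ 1 → (Subgroup.zpowers x).Normal → g * e * g⁻¹ * e⁻¹ ∈ Subgroup.zpowers x := by
  classical
  by_cases hZ : IsCyclic (Subgroup.center P)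
  swap
  · obtain ⟨A, -, hA, hAc⟩ := CfsgLib.Transfer.exists_normal_rank_two hodd (hP.to_subgroup (Subgroup.center P)) hZ
    have hle : A.map (Subgroup.center P).subtype ≤ Subgroup.center P := Subgroup.map_subtype_le _
    have hw : ∀ g : P, ∀ e ∈ A.map (Subgroup.center P).subtype, g * e * g⁻¹ * e⁻¹ = 1 := fun g e he => by
      rw [Subgroup.mem_center_iff.mp (hle he) g, mul_inv_cancel_right, mul_inv_cancel]
    refine ⟨A.map (Subgroup.center P).subtype, ⟨fun e he g => ?_⟩, ?_, ?_, fun g e he => ?_⟩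
    · have h1 := hw g e he
      rw [mul_inv_eq_one] at h1
      rwa [h1]
    · rw [Subgroup.card_map_of_injective (Subgroup.center P).subtype_injective, hAc]
    · rintro _ ⟨e, he, rfl⟩
      rw [← map_pow, hA.2 e he, map_one]
    · rw [hw g e he]
      exact ⟨one_mem _, one_pow _, fun x _ _ => one_mem _⟩
  obtain ⟨A, hAn, hA, hAc⟩ := CfsgLib.Transfer.exists_normal_rank_two hodd hP hnc
  haveI := hAn
  have hexp : ∀ e ∈ A, e ^ p = 1 := hA.2
  set Z₀ := A ⊓ Subgroup.center P with hZ₀
  haveI : Z₀.Normal := inferInstance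
  set T := {z : Subgroup.center P // z ^ p = 1} with hT
  have hTle : Nat.card T ≤ p := by
    haveI := Fintype.ofFinite (Subgroup.center P)
    rw [hT, Nat.card_eq_fintype_card, Fintype.card_subtype]
    exact IsCyclic.card_pow_eq_one_le hp.out.pos
  have huniq : ∀ K L : Subgroup P, K ≤ Subgroup.center P → L ≤ Subgroup.center P → (∀ z ∈ K, z ^ p = 1) →
      (∀ z ∈ L, z ^ p = 1) → p ≤ Nat.card L → K ≤ L := by
    intro K L hK hL hKp hLp hLc k hk
    let i : L → T := fun z => ⟨⟨z.1, hL z.2⟩, Subtype.ext (hLp z z.2)⟩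
    have hinj : Function.Injective i := fun a b h => Subtype.ext (congrArg (fun t : T => ((t.1 : Subgroup.center P) : P)) h)
    obtain ⟨z, hz⟩ := (hinj.bijective_of_nat_card_le (hTle.trans hLc)).2 ⟨⟨k, hK hk⟩, Subtype.ext (hKp k hk)⟩
    have : (z : P) = k := congrArg (fun t : T => ((t.1 : Subgroup.center P) : P)) hz
    exact this ▸ z.2
  have hmeet : ∀ N : Subgroup P, N.Normal → N ≠ ⊥ → ∃ z : P, z ∈ N ∧ z ∈ Subgroup.center P ∧ orderOf z = p := by
    intro N hN hne
    have h1 : N ⊓ Subgroup.center P ≠ ⊥ := by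
      intro h0
      haveI := hN
      haveI : Nontrivial N := (Subgroup.nontrivial_iff_ne_bot N).mpr hne
      have hd : p ∣ Nat.card N := ((hP.to_subgroup N).card_eq_or_dvd).resolve_left (Finite.one_lt_card).ne'
      have h1' : Nat.card (MulAction.fixedPoints (ConjAct P) N) ≡ Nat.card N [MOD p] :=
        ((hP.of_equiv ConjAct.toConjAct).card_modEq_card_fixedPoints N).symm
      have hsub : Subsingleton (MulAction.fixedPoints (ConjAct P) N) := by
        refine ⟨fun a b => Subtype.ext (Subtype.ext ?_)⟩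
        have key : ∀ c : MulAction.fixedPoints (ConjAct P) N, ((c.1 : N) : P) = 1 := by
          intro c
          have hc : ((c.1 : N) : P) ∈ N ⊓ Subgroup.center P := ⟨c.1.2, Subgroup.mem_center_iff.mpr fun g => by
            have := congrArg Subtype.val (c.2 (ConjAct.toConjAct g))
            exact mul_inv_eq_iff_eq_mul.mp this⟩
          rw [h0] at hc; exact hc
        rw [key a, key b]
      haveI : Nonempty (MulAction.fixedPoints (ConjAct P) N) := ⟨⟨1, fun g => Subtype.ext (smul_one g)⟩⟩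
      rw [Nat.card_unique] at h1'
      have h2 := h1'.dvd_iff dvd_rfl
      exact hp.out.ne_one (Nat.dvd_one.mp (h2.mpr hd))
    haveI : Nontrivial ↥(N ⊓ Subgroup.center P) := (Subgroup.nontrivial_iff_ne_bot _).mpr h1
    obtain ⟨z, hz⟩ := exists_prime_orderOf_dvd_card' (G := ↥(N ⊓ Subgroup.center P)) p
      (((hP.to_subgroup _).card_eq_or_dvd).resolve_left (Finite.one_lt_card).ne')
    exact ⟨z, z.2.1, z.2.2, by rw [Subgroup.orderOf_coe, hz]⟩
  have hA1 : A ≠ ⊥ := fun e => by
    rw [e, Subgroup.card_bot] at hAc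
    exact absurd hAc.symm (Nat.one_lt_pow two_ne_zero hp.out.one_lt).ne'
  obtain ⟨z, hzA, hzZ, hzo⟩ := hmeet A hAn hA1
  have hZ₀c : p ≤ Nat.card Z₀ := by
    rw [← hzo, ← Nat.card_zpowers]
    exact Nat.le_of_dvd Nat.card_pos (Subgroup.card_dvd_of_le (Subgroup.zpowers_le.mpr ⟨hzA, hzZ⟩))
  have hw : ∀ g : P, ∀ e ∈ A, g * e * g⁻¹ * e⁻¹ ∈ Z₀ := by
    intro g e he
    haveI : Fact p.Prime := hp
    set π := QuotientGroup.mk' Z₀ with hπ
    have himg : (A.map π).Normal := hAn.map π (QuotientGroup.mk'_surjective Z₀)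
    have hcard : Nat.card (A.map π) ≤ p := by
      have h1 : Nat.card (π.comp A.subtype).range * Nat.card (π.comp A.subtype).ker = Nat.card A := by
        rw [← Subgroup.index_ker, mul_comm, Subgroup.card_mul_index]
      have h2 : Nat.card (π.comp A.subtype).ker = Nat.card Z₀ := by
        rw [← MonoidHom.comap_ker, hπ, QuotientGroup.ker_mk']
        exact Nat.card_congr (Subgroup.subgroupOfEquivOfLe inf_le_left).toEquiv
      rw [h2, hAc, MonoidHom.range_comp, Subgroup.range_subtype] at h1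
      have h3 := Nat.mul_le_mul_left (Nat.card (A.map π)) hZ₀c
      rw [h1, sq] at h3
      exact Nat.le_of_mul_le_mul_right h3 hp.out.pos
    have hPq : IsPGroup p (P ⧸ Z₀) := hP.to_quotient Z₀
    have hcen : A.map π ≤ Subgroup.center (P ⧸ Z₀) := by
      intro y hy
      by_cases h1 : y = 1
      · rw [h1]; exact one_mem _
      haveI : Nontrivial (A.map π) := ⟨⟨y, hy⟩, 1, fun h => h1 (congrArg Subtype.val h)⟩
      have hd : p ∣ Nat.card (A.map π) := ((hPq.to_subgroup _).card_eq_or_dvd).resolve_left (Finite.one_lt_card).ne'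
      haveI := himg
      have hmod := (hPq.of_equiv ConjAct.toConjAct).card_modEq_card_fixedPoints (A.map π)
      have hdf : p ∣ Nat.card (MulAction.fixedPoints (ConjAct (P ⧸ Z₀)) (A.map π)) := (hmod.dvd_iff dvd_rfl).mp hd
      haveI : Nonempty (MulAction.fixedPoints (ConjAct (P ⧸ Z₀)) (A.map π)) := ⟨⟨1, fun g => Subtype.ext (smul_one g)⟩⟩
      have hle : Nat.card (A.map π) ≤ Nat.card (MulAction.fixedPoints (ConjAct (P ⧸ Z₀)) (A.map π)) :=
        hcard.trans (Nat.le_of_dvd Nat.card_pos hdf)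
      obtain ⟨c, hc⟩ := ((Subtype.val_injective : Function.Injective
        (fun c : MulAction.fixedPoints (ConjAct (P ⧸ Z₀)) (A.map π) => c.1)).bijective_of_nat_card_le hle).2 ⟨y, hy⟩
      rw [Subgroup.mem_center_iff]
      intro g'
      have hcf := congrArg Subtype.val (c.2 (ConjAct.toConjAct g'))
      rw [show c.1 = (⟨y, hy⟩ : A.map π) from hc] at hcf
      exact mul_inv_eq_iff_eq_mul.mp hcf
    rw [← QuotientGroup.eq_one_iff]
    show π (g * e * g⁻¹ * e⁻¹) = 1
    rw [map_mul, map_mul, map_mul, map_inv, map_inv, Subgroup.mem_center_iff.mp (hcen ⟨e, he, rfl⟩) (π g),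
      mul_inv_cancel_right, mul_inv_cancel]
  refine ⟨A, hAn, hAc, hexp, fun g e he => ⟨(hw g e he).2, hexp _ (hw g e he).1, fun x hx hxn => ?_⟩⟩
  obtain ⟨c, hcx, hcZ, hco⟩ := hmeet _ hxn (fun e => hx (Subgroup.zpowers_eq_bot.mp e))
  have hcp : ∀ t ∈ Subgroup.zpowers c, t ^ p = 1 := fun t ht => by
    have := Subgroup.orderOf_dvd_natCard (Subgroup.zpowers c) ht
    rw [Nat.card_zpowers, hco] at this
    exact orderOf_dvd_iff_pow_eq_one.mp this
  have hle := huniq Z₀ (Subgroup.zpowers c) inf_le_right (Subgroup.zpowers_le.mpr hcZ) (fun t ht => hexp t ht.1) hcp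
    (by rw [Nat.card_zpowers, hco])
  exact Subgroup.zpowers_le.mpr hcx (hle (hw g e he))

theorem twist_pow {a e w : P} (hw : a * e * a⁻¹ * e⁻¹ = w) (hwz : w ∈ Subgroup.center P) (n : ℕ) :
    (a * e) ^ n = a ^ n * e ^ n * (w ^ n.choose 2)⁻¹ := by
  have hwc : ∀ b : P, Commute b w := fun b => Subgroup.mem_center_iff.mp hwz b
  have h1 : ∀ k : ℕ, e ^ k * a = a * e ^ k * (w ^ k)⁻¹ := by
    intro k
    induction k with
    | zero => simp
    | succ k ih =>
      have hea : e * a = a * e * w⁻¹ := by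
        rw [eq_mul_inv_iff_mul_eq, (hwc (e * a)).eq, ← hw]; simp [mul_assoc]
      calc e ^ (k + 1) * a = e * (e ^ k * a) := by rw [pow_succ', mul_assoc]
        _ = (e * a) * e ^ k * (w ^ k)⁻¹ := by rw [ih]; simp [mul_assoc]
        _ = a * e * (w⁻¹ * e ^ k) * (w ^ k)⁻¹ := by rw [hea]; simp [mul_assoc]
        _ = a * e * (e ^ k * w⁻¹) * (w ^ k)⁻¹ := by rw [((hwc (e ^ k)).inv_right).eq]
        _ = a * e ^ (k + 1) * (w ^ (k + 1))⁻¹ := by rw [pow_succ' e, pow_succ w]; simp [mul_assoc, mul_inv_rev]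
  induction n with
  | zero => simp
  | succ n ih =>
    have hc : ∀ j : ℕ, ∀ b : P, (w ^ j)⁻¹ * b = b * (w ^ j)⁻¹ := fun j b => (((hwc b).pow_right j).inv_right).eq.symm
    calc (a * e) ^ (n + 1) = a ^ n * e ^ n * (w ^ n.choose 2)⁻¹ * (a * e) := by rw [pow_succ, ih]
      _ = a ^ n * (e ^ n * a) * e * (w ^ n.choose 2)⁻¹ := by
        rw [mul_assoc (a ^ n * e ^ n), hc]; simp [mul_assoc]
      _ = a ^ n * (a * e ^ n * (w ^ n)⁻¹) * e * (w ^ n.choose 2)⁻¹ := by rw [h1]
      _ = a ^ (n + 1) * e ^ n * ((w ^ n)⁻¹ * e) * (w ^ n.choose 2)⁻¹ := by simp [pow_succ, mul_assoc]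
      _ = a ^ (n + 1) * e ^ (n + 1) * (w ^ (n + 1).choose 2)⁻¹ := by
        rw [hc, Nat.choose_succ_succ' n 1, Nat.choose_one_right, pow_succ e, pow_add w, mul_inv_rev, hc]
        simp [mul_assoc]

/-- The elements generating normal cyclic subgroups of order `p ^ s`, `s ≥ 2`. -/
theorem dvd_normal_cyclic (hodd : p ≠ 2) (hP : IsPGroup p P) (hnc : ¬ IsCyclic P) (s : ℕ) (hs : 1 < s) :
    p ^ s ∣ Nat.card {x : P // orderOf x = p ^ s ∧ (Subgroup.zpowers x).Normal} := by
  classical
  haveI := Fintype.ofFinite P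
  obtain ⟨E, hE, hEc, hEp, hEw⟩ := exists_twist hodd hP hnc
  haveI := hE
  have hnormE : ∀ H : Subgroup P, H ≤ normalizer (E : Set P) := fun H => le_top.trans (Subgroup.normalizer_eq_top (H := E)).ge
  rw [Nat.card_eq_fintype_card, Fintype.card_subtype, Finset.card_eq_sum_card_image (fun x : P => Subgroup.zpowers x ⊔ E)]
  refine Finset.dvd_sum fun M hM => ?_
  obtain ⟨x₀, hx₀, rfl⟩ := Finset.mem_image.mp hM
  rw [Finset.mem_filter] at hx₀
  obtain ⟨-, ho, hn⟩ := hx₀
  set C := Subgroup.zpowers x₀ with hC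
  set D := Subgroup.zpowers (x₀ ^ p) with hD
  set M := C ⊔ E with hM'
  set K := D ⊔ E with hK
  have hDC : D ≤ C := Subgroup.zpowers_le.mpr (Subgroup.pow_mem _ (Subgroup.mem_zpowers x₀) p)
  have hinf : D ⊓ E = C ⊓ E := by
    refine le_antisymm (inf_le_inf_right _ hDC) fun z hz => ⟨?_, hz.2⟩
    obtain ⟨i, hi⟩ := (isOfFinOrder_of_finite x₀).mem_powers_iff_mem_zpowers.mpr hz.1
    have hi' : x₀ ^ i = z := hi
    have h1 : (x₀ ^ i) ^ p = 1 := hi'.symm ▸ hEp z hz.2
    rw [← pow_mul, ← orderOf_dvd_iff_pow_eq_one, ho] at h1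
    obtain ⟨s', rfl⟩ : ∃ s', s = s' + 1 := ⟨s - 1, by omega⟩
    rw [pow_succ] at h1
    obtain ⟨q, hq⟩ := (dvd_pow_self p (show s' ≠ 0 by omega)).trans ((Nat.mul_dvd_mul_iff_right hp.out.pos).mp h1)
    rw [← hi', hq, pow_mul]
    exact Subgroup.pow_mem _ (Subgroup.mem_zpowers _) q
  have hcM : Nat.card M * Nat.card ↥(C ⊓ E) = p ^ s * p ^ 2 := by
    rw [hM', CfsgLib.Core.card_sup_mul_card_inf (hnormE C), hC, Nat.card_zpowers, ho, hEc]
  have hcK : Nat.card K * Nat.card ↥(C ⊓ E) = p ^ (s - 1) * p ^ 2 := by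
    rw [← hinf, hK, CfsgLib.Core.card_sup_mul_card_inf (hnormE D), hD, Nat.card_zpowers, hEc,
      orderOf_pow_of_dvd hp.out.ne_zero (ho ▸ dvd_pow_self p (by omega)), ho]
    congr 1
    conv_lhs => rw [show s = s - 1 + 1 by omega, pow_succ]
    rw [Nat.mul_div_cancel _ hp.out.pos]
  have hMK : Nat.card M = p * Nat.card K := by
    refine Nat.eq_of_mul_eq_mul_right (Nat.card_pos (α := ↥(C ⊓ E))) ?_
    rw [hcM, mul_assoc, hcK, ← mul_assoc, ← pow_succ', show s - 1 + 1 = s by omega]
  have hKs : p ^ s ∣ Nat.card K := by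
    have hce : Nat.card ↥(C ⊓ E) ∣ p := by
      haveI : IsCyclic ↥(C ⊓ E) :=
        isCyclic_of_injective (Subgroup.inclusion (inf_le_left : C ⊓ E ≤ C)) (Subgroup.inclusion_injective _)
      obtain ⟨t, ht⟩ := IsCyclic.exists_ofOrder_eq_natCard (α := ↥(C ⊓ E))
      rw [← ht]
      exact orderOf_dvd_of_pow_eq_one (Subtype.ext (hEp t t.2.2))
    obtain ⟨j, hj⟩ := hce
    have h1 : p ^ s * p = p ^ (s - 1) * p ^ 2 := by
      rw [← pow_succ, ← pow_add]; congr 1; omega
    rw [← hcK] at h1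
    conv_lhs at h1 => arg 2; rw [hj]
    refine ⟨j, Nat.eq_of_mul_eq_mul_right (Nat.card_pos (α := ↥(C ⊓ E))) ?_⟩
    rw [← h1]; ring
  have hfib : (Finset.univ.filter fun x : P => orderOf x = p ^ s ∧ (Subgroup.zpowers x).Normal).filter
      (fun x => Subgroup.zpowers x ⊔ E = M) = (Finset.univ.filter fun y => y ∈ M) \ (Finset.univ.filter fun y => y ∈ K) := by
    ext y
    simp only [Finset.mem_filter, Finset.mem_sdiff, Finset.mem_univ, true_and]
    constructor
    · rintro ⟨-, he⟩
      refine ⟨he ▸ Subgroup.mem_sup_left (Subgroup.mem_zpowers y), fun hyK => ?_⟩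
      have hle : M ≤ K := he ▸ sup_le (Subgroup.zpowers_le.mpr hyK) le_sup_right
      have h1 := Nat.le_of_dvd Nat.card_pos (Subgroup.card_dvd_of_le hle)
      rw [hMK] at h1
      have := Nat.mul_le_mul_right (Nat.card K) hp.out.two_le
      have := Nat.card_pos (α := K)
      omega
    · rintro ⟨hyM, hyK⟩
      obtain ⟨a, haC, e, he, rfl⟩ := (CfsgLib.Core.mem_sup_iff_of_le_normalizer (hnormE C)).mp hyM
      obtain ⟨i, hi⟩ := (isOfFinOrder_of_finite x₀).mem_powers_iff_mem_zpowers.mpr haC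
      have hi' : x₀ ^ i = a := hi
      have hpi : ¬ p ∣ i := by
        rintro ⟨q, rfl⟩
        refine hyK (Subgroup.mul_mem_sup ?_ he)
        rw [← hi', pow_mul]
        exact Subgroup.pow_mem _ (Subgroup.mem_zpowers _) q
      have hao : orderOf a = p ^ s := by
        rw [← hi', orderOf_pow, ho, ((hp.out.coprime_iff_not_dvd.mpr hpi).pow_left s).gcd_eq_one, Nat.div_one]
      have hCa : Subgroup.zpowers a = C :=
        Subgroup.eq_of_le_of_card_ge (Subgroup.zpowers_le.mpr haC) (by rw [hC, Nat.card_zpowers, Nat.card_zpowers, ho, hao])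
      have ha1 : a ≠ 1 := fun h => by
        rw [h, orderOf_one] at hao
        exact absurd hao.symm (Nat.one_lt_pow (by omega) hp.out.one_lt).ne'
      set w := a * e * a⁻¹ * e⁻¹ with hwd
      obtain ⟨hwz, hwp, -⟩ := hEw a e he
      have hpow := twist_pow hwd.symm hwz
      have hwk : ∀ k : ℕ, p ∣ k → w ^ k = 1 := fun k ⟨q, hq⟩ => by rw [hq, pow_mul, hwp, one_pow]
      have hyp : (a * e) ^ p = a ^ p := by
        rw [hpow, hEp e he, hwk _ (dvd_choose_two hodd (Or.inl dvd_rfl))]; simp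
      have hyo : orderOf (a * e) = p ^ s := by
        obtain ⟨s', rfl⟩ : ∃ s', s = s' + 1 := ⟨s - 1, by omega⟩
        refine orderOf_eq_prime_pow ?_ ?_
        · obtain ⟨q, rfl⟩ : ∃ q, s' = q + 1 := ⟨s' - 1, by omega⟩
          rw [pow_succ', pow_mul, hyp, ← pow_mul, ← pow_succ', ← orderOf_dvd_iff_pow_eq_one, hao]
          intro h
          have := Nat.le_of_dvd (pow_pos hp.out.pos _) h
          have := Nat.pow_lt_pow_right hp.out.one_lt (show q + 1 < q + 1 + 1 by omega)
          omega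
        · rw [pow_succ', pow_mul, hyp, ← pow_mul, ← pow_succ', ← hao, pow_orderOf_eq_one]
      have hnorm : (Subgroup.zpowers (a * e)).Normal := by
        have key : ∀ g : P, g * (a * e) * g⁻¹ ∈ Subgroup.zpowers (a * e) := by
          intro g
          obtain ⟨b, hb⟩ := (isOfFinOrder_of_finite a).mem_powers_iff_mem_zpowers.mpr
            (hCa.symm ▸ hn.conj_mem a (hCa ▸ Subgroup.mem_zpowers a) g : g * a * g⁻¹ ∈ Subgroup.zpowers a)
          have hb' : a ^ b = g * a * g⁻¹ := hb
          obtain ⟨hgz, hgp, hgx⟩ := hEw g e he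
          obtain ⟨t, ht⟩ := (isOfFinOrder_of_finite a).mem_powers_iff_mem_zpowers.mpr (hgx a ha1 (hCa.symm ▸ hn))
          have ht' : a ^ t = g * e * g⁻¹ * e⁻¹ := ht
          have hpt : p ∣ t := by
            have h1 : (a ^ t) ^ p = 1 := ht'.symm ▸ hgp
            rw [← pow_mul, ← orderOf_dvd_iff_pow_eq_one, hao] at h1
            obtain ⟨s', rfl⟩ : ∃ s', s = s' + 1 := ⟨s - 1, by omega⟩
            rw [pow_succ] at h1
            exact (dvd_pow_self p (show s' ≠ 0 by omega)).trans ((Nat.mul_dvd_mul_iff_right hp.out.pos).mp h1)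
          have hb1 : b % p = 1 := by
            obtain ⟨s', rfl⟩ : ∃ s', s = s' + 1 := ⟨s - 1, by omega⟩
            set z := a ^ p ^ s' with hz
            have hzo : orderOf z = p := by
              rw [hz, orderOf_pow_of_dvd (pow_pos hp.out.pos _).ne' (hao ▸ pow_dvd_pow p (Nat.le_succ s')), hao, pow_succ,
                Nat.mul_div_cancel_left _ (pow_pos hp.out.pos _)]
            have hfix : ∀ k : ℕ, g ^ k * z * (g ^ k)⁻¹ = z ^ b ^ k := by
              intro k
              induction k with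
              | zero => simp
              | succ k ih =>
                calc g ^ (k + 1) * z * (g ^ (k + 1))⁻¹ = g * (g ^ k * z * (g ^ k)⁻¹) * g⁻¹ := by simp [pow_succ', mul_assoc]
                  _ = g * z ^ b ^ k * g⁻¹ := by rw [ih]
                  _ = z ^ b ^ (k + 1) := by
                    rw [← conj_pow, hz, ← conj_pow, ← hb', ← pow_mul, ← pow_mul, ← pow_mul]
                    congr 1; ring
            obtain ⟨k, hk⟩ := hP g
            have h1 := hfix (p ^ k)
            rw [hk, one_mul, inv_one, mul_one] at h1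
            have h2 : z ^ b ^ p ^ k = z ^ 1 := by rw [pow_one]; exact h1.symm
            rw [pow_eq_pow_iff_modEq, hzo] at h2
            have h3 : b ^ p ^ k ≡ b [MOD p] := by
              clear h1 h2 hfix hk
              induction k with
              | zero => simp; rfl
              | succ k ih =>
                rw [pow_succ, pow_mul]
                exact (Nat.ModEq.pow p ih).trans ((ZMod.natCast_eq_natCast_iff _ _ _).mp (by push_cast; exact ZMod.pow_card _))
            have h4 := h3.symm.trans h2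
            rw [Nat.ModEq, Nat.one_mod_eq_one.mpr hp.out.ne_one] at h4
            exact h4
          have hn1 : (b + t) % p = 1 := by
            obtain ⟨q, rfl⟩ := hpt
            rw [Nat.add_mul_mod_self_left, hb1]
          refine ⟨((b + t : ℕ) : ℤ), ?_⟩
          show (a * e) ^ ((b + t : ℕ) : ℤ) = _
          rw [zpow_natCast, hpow, hwk _ (dvd_choose_two hodd (Or.inr hn1)), inv_one, mul_one]
          have he1 : e ^ (b + t) = e := by
            rw [← Nat.div_add_mod (b + t) p, hn1, pow_succ, pow_mul, hEp e he, one_pow, one_mul]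
          rw [he1, pow_add, hb', ht']
          simp [mul_assoc]
        refine ⟨fun z hz g => ?_⟩
        obtain ⟨k, rfl⟩ := hz
        show g * (a * e) ^ k * g⁻¹ ∈ _
        rw [← conj_zpow]
        exact Subgroup.zpow_mem _ (key g) k
      refine ⟨⟨hyo, hnorm⟩, le_antisymm (sup_le (Subgroup.zpowers_le.mpr hyM) le_sup_right) (sup_le ?_ le_sup_right)⟩
      rw [← hCa, Subgroup.zpowers_le]
      have := mul_mem (Subgroup.mem_sup_left (T := E) (Subgroup.mem_zpowers (a * e)))
        (Subgroup.mem_sup_right (S := Subgroup.zpowers (a * e)) (E.inv_mem he))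
      rwa [mul_inv_cancel_right] at this
  rw [hfib, Finset.card_sdiff_of_subset (fun y hy => by
    simp only [Finset.mem_filter] at hy ⊢
    exact ⟨hy.1, sup_le_sup_right hDC E hy.2⟩)]
  have hc : ∀ H : Subgroup P, (Finset.univ.filter fun y => y ∈ H).card = Nat.card H := fun H => by
    rw [Nat.card_eq_fintype_card, Fintype.card_subtype]
  rw [hc, hc, hMK]
  exact Nat.dvd_sub (hKs.mul_left p) hKs

end PGroup

/-- Elements of order `p ^ s` in a group whose Sylow subgroup is not cyclic. -/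
theorem dvd_order_count {H : Type*} [Group H] [Finite H] (hodd : p ≠ 2) (Q : Sylow p H)
    (hQ : ¬ IsCyclic (Q : Subgroup H)) (s : ℕ) (hs : 1 < s) : p ^ s ∣ Nat.card {x : H // orderOf x = p ^ s} := by
  classical
  haveI := Fintype.ofFinite H
  let Cy := {K : Subgroup H // ∃ x : H, orderOf x = p ^ s ∧ K = Subgroup.zpowers x}
  letI : MulAction (Q : Subgroup H) Cy :=
    { smul := fun g K => ⟨K.1.map (MulAut.conj (g : H)).toMonoidHom, by
        obtain ⟨x, hx, hK⟩ := K.2
        refine ⟨(g : H) * x * (g : H)⁻¹, ?_, ?_⟩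
        · rw [← hx]; exact MulEquiv.orderOf_eq (MulAut.conj (g : H)) x
        · rw [hK, MonoidHom.map_zpowers]; rfl⟩
      one_smul := fun K => Subtype.ext (by
        show K.1.map (MulAut.conj ((1 : (Q : Subgroup H)) : H)).toMonoidHom = K.1
        rw [OneMemClass.coe_one, map_one]; exact Subgroup.map_id _)
      mul_smul := fun a b K => Subtype.ext (by
        show K.1.map (MulAut.conj ((a * b : (Q : Subgroup H)) : H)).toMonoidHom = (K.1.map _).map _
        rw [Subgroup.map_map, Subgroup.coe_mul, map_mul]; rfl) }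
  have hmod := Q.2.card_modEq_card_fixedPoints Cy
  have hfix : ∀ K : MulAction.fixedPoints (Q : Subgroup H) Cy, K.1.1 ≤ (Q : Subgroup H) := by
    intro K
    obtain ⟨x, hx, hK⟩ := K.1.2
    have hn : (Q : Subgroup H) ≤ normalizer (K.1.1 : Set H) := fun g hg =>
      Subgroup.mem_normalizer_iff_map_conj_eq.mpr (congrArg Subtype.val (K.2 ⟨g, hg⟩))
    have hKp : IsPGroup p K.1.1 := IsPGroup.of_card (n := s) (by rw [hK, Nat.card_zpowers, hx])
    exact le_sup_right.trans (Q.3 (Q.2.to_sup_of_normal_right' hKp hn) le_sup_left).le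
  set X := {x : (Q : Subgroup H) // orderOf x = p ^ s ∧ (Subgroup.zpowers x).Normal} with hX
  have hXF : Nat.card X = (p ^ s).totient * Nat.card (MulAction.fixedPoints (Q : Subgroup H) Cy) := by
    have hmem : ∀ x : X, (⟨Subgroup.zpowers ((x.1 : (Q : Subgroup H)) : H), _, (Subgroup.orderOf_coe x.1).trans x.2.1, rfl⟩ : Cy)
        ∈ MulAction.fixedPoints (Q : Subgroup H) Cy := by
      intro x g
      refine Subtype.ext ?_
      show (Subgroup.zpowers ((x.1 : (Q : Subgroup H)) : H)).map (MulAut.conj (g : H)).toMonoidHom = _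
      rw [MonoidHom.map_zpowers]
      refine Subgroup.eq_of_le_of_card_ge ?_ ?_
      · rw [Subgroup.zpowers_le]
        obtain ⟨k, hk⟩ := x.2.2.conj_mem x.1 (Subgroup.mem_zpowers x.1) g
        exact ⟨k, congrArg Subtype.val hk⟩
      · rw [Nat.card_zpowers, Nat.card_zpowers]
        exact (MulEquiv.orderOf_eq (MulAut.conj (g : H)) _).ge
    haveI := Fintype.ofFinite X
    haveI := Fintype.ofFinite (MulAction.fixedPoints (Q : Subgroup H) Cy)
    rw [Nat.card_eq_fintype_card, Nat.card_eq_fintype_card, ← Finset.card_univ, ← Finset.card_univ,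
      Finset.card_eq_sum_card_fiberwise (t := (Finset.univ : Finset (MulAction.fixedPoints (Q : Subgroup H) Cy)))
        (f := fun x : X => ⟨_, hmem x⟩) (fun x _ => Finset.mem_univ _)]
    rw [Finset.sum_congr rfl (g := fun _ => (p ^ s).totient) fun K _ => ?_, Finset.sum_const, smul_eq_mul, mul_comm]
    haveI := Fintype.ofFinite K.1.1
    obtain ⟨x₀, hx₀, hK⟩ := K.1.2
    haveI : IsCyclic K.1.1 := by rw [hK]; infer_instance
    rw [← IsCyclic.card_orderOf_eq_totient (α := K.1.1) (d := p ^ s)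
      (by rw [← Nat.card_eq_fintype_card, hK, Nat.card_zpowers, hx₀])]
    refine Finset.card_bij' (fun y hy => ⟨((y.1 : (Q : Subgroup H)) : H), ?_⟩)
      (fun z hz => ⟨⟨(z : H), hfix K z.2⟩, ?_, ?_⟩) ?_ ?_ ?_ ?_
    · rw [Finset.mem_filter] at hy
      have he : Subgroup.zpowers ((y.1 : (Q : Subgroup H)) : H) = K.1.1 := congrArg (fun k => k.1.1) hy.2
      exact he ▸ Subgroup.mem_zpowers _
    · rw [Finset.mem_filter] at hz
      exact (Subgroup.orderOf_coe _).symm.trans ((Subgroup.orderOf_coe z).trans hz.2)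
    · rw [Finset.mem_filter] at hz
      have hKc : Nat.card K.1.1 = p ^ s := by rw [hK, Nat.card_zpowers, hx₀]
      have hKe : Subgroup.zpowers (z : H) = K.1.1 := Subgroup.eq_of_le_of_card_ge (Subgroup.zpowers_le.mpr z.2)
        (hKc.trans (hz.2.symm.trans ((Subgroup.orderOf_coe z).symm.trans (Nat.card_zpowers _).symm))).le
      have key : (Subgroup.zpowers (⟨(z : H), hfix K z.2⟩ : (Q : Subgroup H))) = K.1.1.subgroupOf Q := by
        apply Subgroup.map_injective (Q : Subgroup H).subtype_injective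
        rw [MonoidHom.map_zpowers, Subgroup.subgroupOf_map_subtype, inf_eq_left.mpr (hfix K)]
        exact hKe
      rw [key]
      exact normal_subgroupOf_iff_le_normalizer (hfix K) |>.mpr fun g hg =>
        Subgroup.mem_normalizer_iff_map_conj_eq.mpr (congrArg Subtype.val (K.2 ⟨g, hg⟩))
    · intro y hy
      rw [Finset.mem_filter]
      refine ⟨Finset.mem_univ _, ?_⟩
      rw [← Subgroup.orderOf_coe, Subgroup.orderOf_coe y.1, y.2.1]
    · intro z hz
      rw [Finset.mem_filter] at hz ⊢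
      refine ⟨Finset.mem_univ _, Subtype.ext (Subtype.ext ?_)⟩
      have hKc : Nat.card K.1.1 = p ^ s := by rw [hK, Nat.card_zpowers, hx₀]
      exact Subgroup.eq_of_le_of_card_ge (Subgroup.zpowers_le.mpr z.2)
        (hKc.trans (hz.2.symm.trans ((Subgroup.orderOf_coe z).symm.trans (Nat.card_zpowers _).symm))).le
    · intro y hy; rfl
    · intro z hz; rfl
  have hdvd := dvd_normal_cyclic (P := (Q : Subgroup H)) hodd Q.2 hQ s hs
  rw [← hX, hXF, Nat.totient_prime_pow hp.out (by omega)] at hdvd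
  have hpF : p ∣ Nat.card (MulAction.fixedPoints (Q : Subgroup H) Cy) := by
    obtain ⟨s', rfl⟩ : ∃ s', s = s' + 1 := ⟨s - 1, by omega⟩
    rw [Nat.add_sub_cancel, pow_succ, mul_assoc, Nat.mul_dvd_mul_iff_left (pow_pos hp.out.pos _)] at hdvd
    refine (hp.out.dvd_mul.mp hdvd).resolve_left fun h => ?_
    have h2 := hp.out.two_le
    have := Nat.le_of_dvd (by omega) h
    omega
  have hpCy : p ∣ Nat.card Cy := (hmod.dvd_iff dvd_rfl).mpr hpF
  have hall : Nat.card {x : H // orderOf x = p ^ s} = (p ^ s).totient * Nat.card Cy := by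
    haveI := Fintype.ofFinite Cy
    rw [Nat.card_eq_fintype_card, Fintype.card_subtype, Nat.card_eq_fintype_card, ← Finset.card_univ (α := Cy),
      Finset.card_eq_sum_card_fiberwise (t := (Finset.univ.image fun K : Cy => K.1))
        (f := fun x : H => Subgroup.zpowers x) (fun x hx => Finset.mem_image.mpr
          ⟨⟨_, x, (Finset.mem_filter.mp hx).2, rfl⟩, Finset.mem_univ _, rfl⟩),
      Finset.sum_congr rfl (g := fun _ => (p ^ s).totient) fun K hK => ?_, Finset.sum_const, smul_eq_mul,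
      Finset.card_image_of_injective _ Subtype.val_injective, mul_comm]
    obtain ⟨⟨K', x, hx, rfl⟩, -, rfl⟩ := Finset.mem_image.mp hK
    haveI := Fintype.ofFinite (Subgroup.zpowers x)
    rw [← IsCyclic.card_orderOf_eq_totient (α := Subgroup.zpowers x) (d := p ^ s)
      (by rw [← Nat.card_eq_fintype_card, Nat.card_zpowers, hx])]
    refine Finset.card_bij' (fun y hy => ⟨y, ?_⟩) (fun z _ => (z : H)) ?_ ?_ ?_ ?_
    · exact (show Subgroup.zpowers y = Subgroup.zpowers x from (Finset.mem_filter.mp hy).2) ▸ Subgroup.mem_zpowers y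
    · intro y hy
      rw [Finset.mem_filter, Finset.mem_filter] at hy
      rw [Finset.mem_filter, Subgroup.orderOf_mk]
      exact ⟨Finset.mem_univ _, hy.1.2⟩
    · intro z hz
      rw [Finset.mem_filter] at hz
      rw [Finset.mem_filter, Finset.mem_filter, Subgroup.orderOf_coe]
      refine ⟨⟨Finset.mem_univ _, hz.2⟩, Subgroup.eq_of_le_of_card_ge (Subgroup.zpowers_le.mpr z.2) ?_⟩
      rw [Nat.card_zpowers, Nat.card_zpowers, hx, Subgroup.orderOf_coe, hz.2]
    · intro y hy; rfl
    · intro y hy; rfl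
  rw [hall, Nat.totient_prime_pow hp.out (by omega), show p ^ s = p ^ (s - 1) * p by
    rw [← pow_succ]; congr 1; omega, mul_assoc]
  exact Nat.mul_dvd_mul_left _ (hpCy.mul_left _)

open Classical in
/-- Elements of order `p ^ s * m`. -/
theorem main {G : Type*} [Group G] [Finite G] (hodd : p ≠ 2) (P : Sylow p G) (hP : ¬ IsCyclic (P : Subgroup G))
    (s m : ℕ) (hs : 1 < s) (hm : Nat.Coprime p m) : p ^ s ∣ Nat.card {g : G // orderOf g = p ^ s * m} := by
  haveI := Fintype.ofFinite G
  by_cases hm0 : m = 0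
  · haveI : IsEmpty {g : G // orderOf g = p ^ s * m} := ⟨fun g => absurd (g.2.trans (by rw [hm0, mul_zero])) (orderOf_pos g.1).ne'⟩
    rw [Nat.card_of_isEmpty]
    exact dvd_zero _
  have hps : (p ^ s).Coprime m := hm.pow_left s
  obtain ⟨u, hu1, hu0⟩ := Nat.chineseRemainder hps 1 0
  obtain ⟨v, hv0, hv1⟩ := Nat.chineseRemainder hps 0 1
  have hsplit : ∀ g : G, orderOf g = p ^ s * m →
      orderOf (g ^ u) = p ^ s ∧ orderOf (g ^ v) = m ∧ g ^ u * g ^ v = g := by
    intro g hg
    have h1 : g ^ (u + v) = g := by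
      conv_rhs => rw [← pow_one g]
      rw [pow_eq_pow_iff_modEq, hg, ← Nat.modEq_and_modEq_iff_modEq_mul hps]
      exact ⟨(hu1.add hv0).trans (by rw [add_zero]), (hu0.add hv1).trans (by rw [zero_add])⟩
    refine ⟨?_, ?_, by rw [← pow_add]; exact h1⟩
    · obtain ⟨c, hc⟩ := Nat.modEq_zero_iff_dvd.mp hu0
      have hcc : (p ^ s).Coprime c := by
        have : (p ^ s).Coprime u := by
          rw [Nat.Coprime, Nat.gcd_comm, hu1.gcd_eq, Nat.gcd_one_left]
        exact this.coprime_dvd_right ⟨m, by rw [hc, mul_comm]⟩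
      rw [hc, pow_mul, orderOf_pow, orderOf_pow_of_dvd hm0 (hg ▸ Dvd.intro_left _ rfl), hg,
        Nat.mul_div_cancel _ (Nat.pos_of_ne_zero hm0), hcc.gcd_eq_one, Nat.div_one]
    · obtain ⟨c, hc⟩ := Nat.modEq_zero_iff_dvd.mp hv0
      have hcc : m.Coprime c := by
        have : m.Coprime v := by
          rw [Nat.Coprime, Nat.gcd_comm, hv1.gcd_eq, Nat.gcd_one_left]
        exact this.coprime_dvd_right ⟨p ^ s, by rw [hc, mul_comm]⟩
      rw [hc, pow_mul, orderOf_pow, orderOf_pow_of_dvd (pow_pos hp.out.pos s).ne' (hg ▸ Dvd.intro _ rfl), hg,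
        Nat.mul_div_cancel_left _ (pow_pos hp.out.pos s), hcc.gcd_eq_one, Nat.div_one]
  let c : G → ℕ := fun y => Nat.card {x : G // orderOf x = p ^ s ∧ x * y = y * x}
  let e : {g : G // orderOf g = p ^ s * m} ≃ (Σ y : {y : G // orderOf y = m}, {x : G // orderOf x = p ^ s ∧ x * y.1 = y.1 * x}) :=
    { toFun := fun g => ⟨⟨g.1 ^ v, (hsplit g.1 g.2).2.1⟩, ⟨g.1 ^ u, (hsplit g.1 g.2).1, (Commute.pow_pow_self g.1 u v).eq⟩⟩
      invFun := fun p' => ⟨p'.2.1 * p'.1.1, by
        rw [(show Commute p'.2.1 p'.1.1 from p'.2.2.2).orderOf_mul_eq_mul_orderOf_of_coprime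
          (by rw [p'.2.2.1, p'.1.2]; exact hps), p'.2.2.1, p'.1.2]⟩
      left_inv := fun g => Subtype.ext (hsplit g.1 g.2).2.2
      right_inv := by
        rintro ⟨⟨y, hy⟩, x, hx, hxy⟩
        have hc' : Commute x y := hxy
        have e2 : (x * y) ^ v = y := by
          rw [hc'.mul_pow, (orderOf_dvd_iff_pow_eq_one.mp (hx.symm ▸ Nat.modEq_zero_iff_dvd.mp hv0) : x ^ v = 1), one_mul]
          conv_rhs => rw [← pow_one y]
          rw [pow_eq_pow_iff_modEq, hy]
          exact hv1
        have e1 : (x * y) ^ u = x := by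
          rw [hc'.mul_pow, (orderOf_dvd_iff_pow_eq_one.mp (hy.symm ▸ Nat.modEq_zero_iff_dvd.mp hu0) : y ^ u = 1), mul_one]
          conv_rhs => rw [← pow_one x]
          rw [pow_eq_pow_iff_modEq, hx]
          exact hu1
        exact Sigma.subtype_ext (Subtype.ext e2) e1 }
  have hcount : Nat.card {g : G // orderOf g = p ^ s * m} = ∑ y ∈ Finset.univ.filter (fun y : G => orderOf y = m), c y := by
    rw [Nat.card_congr e, Nat.card_sigma]
    exact Finset.sum_subtype (Finset.univ.filter fun y : G => orderOf y = m) (fun y => by simp) c |>.symm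
  rw [hcount, ← Finset.sum_fiberwise_of_maps_to (g := ConjClasses.mk) (fun y _ => Finset.mem_univ _)]
  refine Finset.dvd_sum fun K _ => ?_
  by_cases hK : ∃ y : G, orderOf y = m ∧ ConjClasses.mk y = K
  swap
  · rw [Finset.sum_eq_zero]
    · exact dvd_zero _
    · intro y hy
      simp only [Finset.mem_filter] at hy
      exact absurd ⟨y, hy.1.2, hy.2⟩ hK
  obtain ⟨y, hy, rfl⟩ := hK
  have hconst : ∀ z : G, IsConj y z → c z = c y := by
    intro z hz
    obtain ⟨g, rfl⟩ := isConj_iff.mp hz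
    refine (Nat.card_congr ((MulAut.conj g).toEquiv.subtypeEquiv fun x => ?_)).symm
    show orderOf x = p ^ s ∧ x * y = y * x ↔
      orderOf (MulAut.conj g x) = p ^ s ∧ MulAut.conj g x * MulAut.conj g y = MulAut.conj g y * MulAut.conj g x
    rw [MulEquiv.orderOf_eq, ← map_mul, ← map_mul, (MulAut.conj g).injective.eq_iff]
  rw [Finset.sum_congr rfl (g := fun _ => c y) fun z hz => hconst z (by
    simp only [Finset.mem_filter] at hz
    exact ConjClasses.mk_eq_mk_iff_isConj.mp hz.2.symm), Finset.sum_const, smul_eq_mul]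
  have hcls : ((Finset.univ.filter fun z : G => orderOf z = m).filter fun z => ConjClasses.mk z = ConjClasses.mk y).card =
      (centralizer ({y} : Set G)).index := by
    have h1 : (centralizer ({y} : Set G)).index = Nat.card (MulAction.orbit (ConjAct G) y) := by
      rw [Nat.card_coe_set_eq, ← MulAction.index_stabilizer, ConjAct.stabilizer_eq_centralizer]
      rfl
    rw [h1, Nat.card_eq_fintype_card, ← Set.toFinset_card]
    congr 1
    ext z
    simp only [Finset.mem_filter, Finset.mem_univ, true_and, Set.mem_toFinset, ConjAct.mem_orbit_conjAct,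
      ConjClasses.mk_eq_mk_iff_isConj]
    refine ⟨fun hz => hz.2, fun hz => ⟨?_, hz⟩⟩
    obtain ⟨g, hg⟩ := isConj_iff.mp hz
    rw [← hy, ← hg]
    exact (MulEquiv.orderOf_eq (MulAut.conj g) z).symm
  rw [hcls]
  set C := centralizer ({y} : Set G) with hC
  have hcC : c y = Nat.card {x : C // orderOf x = p ^ s} := by
    refine Nat.card_congr
      { toFun := fun x => ⟨⟨x.1, mem_centralizer_singleton_iff.mpr x.2.2⟩, (Subgroup.orderOf_mk x.1 _).trans x.2.1⟩
        invFun := fun x => ⟨x.1.1, (Subgroup.orderOf_coe x.1).trans x.2, mem_centralizer_singleton_iff.mp x.1.2⟩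
        left_inv := fun x => rfl
        right_inv := fun x => rfl }
  rw [hcC]
  obtain ⟨Q⟩ : Nonempty (Sylow p C) := inferInstance
  by_cases hQ : IsCyclic (Q : Subgroup C)
  swap
  · exact (dvd_order_count hodd Q hQ s hs).mul_left _
  have hpi : p ∣ C.index := by
    by_contra hpi
    refine hP ?_
    have hcard : Nat.card ((Q : Subgroup C).map C.subtype) = p ^ (Nat.card G).factorization p := by
      rw [Subgroup.card_map_of_injective C.subtype_injective, Q.card_eq_multiplicity, ← C.card_mul_index,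
        Nat.factorization_mul Nat.card_pos.ne' Subgroup.index_ne_zero_of_finite, Finsupp.add_apply,
        Nat.factorization_eq_zero_of_not_dvd hpi, add_zero]
    haveI := hQ
    haveI : IsCyclic (Sylow.ofCard ((Q : Subgroup C).map C.subtype) hcard : Subgroup G) :=
      ((Q : Subgroup C).equivMapOfInjective C.subtype C.subtype_injective).isCyclic.mp hQ
    exact (Sylow.equiv (Sylow.ofCard ((Q : Subgroup C).map C.subtype) hcard) P).isCyclic.mp ‹_›
  have h2 := totient_dvd (H := C) (p ^ s) (pow_pos hp.out.pos s)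
  rw [Nat.totient_prime_pow hp.out (by omega)] at h2
  rw [show p ^ s = p * p ^ (s - 1) by rw [← pow_succ']; congr 1; omega]
  exact Nat.mul_dvd_mul hpi (dvd_trans (Dvd.intro _ rfl) (show p ^ (s - 1) * (p - 1) ∣ _ from by
    simpa [pow_succ, show (p * p ^ (s - 1)) = p ^ s by rw [← pow_succ']; congr 1; omega] using h2))

end CfsgLib.Kulakoff
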