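import Cfsg.Agent.Lib.FgsClassMaxP
import Cfsg.Agent.Lib.CoreCoprime2
import Cfsg.Prelude.Def_OddOrderLocal
import Cfsg.Prelude.Def_Local

/-!
# Normal complements for metacyclic Sylow subgroups
-/

set_option autoImplicit false

universe u

namespace CfsgLib.MetacyclicNilp

open scoped commutatorElement

theorem two_generated {R : Type*} [Group R] [Finite R] (hR : Cfsg.IsMetacyclic R) {U : Type*} [Group U]
    (ι : U →* R) (hι : Function.Injective ι) :
    ∃ a b : U, Subgroup.closure ({a, b} : Set U) = ⊤ := by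
  obtain ⟨A, hA, hAc, hQc⟩ := hR
  haveI := hA
  haveI := hAc
  haveI := hQc
  haveI : IsCyclic (A.comap ι) := isCyclic_of_injective (ι.subgroupComap A) fun x y h =>
    Subtype.ext (hι (congrArg Subtype.val h))
  obtain ⟨a, ha⟩ := IsCyclic.exists_generator (α := A.comap ι)
  obtain ⟨w, hw⟩ := IsCyclic.exists_generator (α := ((QuotientGroup.mk' A).comp ι).range)
  obtain ⟨b, hb⟩ := w.2
  refine ⟨(a : U), b, top_le_iff.1 fun x _ => ?_⟩
  obtain ⟨i, hi⟩ := Subgroup.mem_zpowers_iff.1 (hw ⟨_, x, rfl⟩)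
  have hi' : ((QuotientGroup.mk' A).comp ι) (b ^ i) = ((QuotientGroup.mk' A).comp ι) x := by
    rw [map_zpow, hb]
    exact congrArg Subtype.val hi
  have hmem : (b ^ i)⁻¹ * x ∈ A.comap ι := by
    have := QuotientGroup.eq.1 hi'
    rw [Subgroup.mem_comap, map_mul, map_inv]
    exact this
  obtain ⟨j, hj⟩ := Subgroup.mem_zpowers_iff.1 (ha ⟨_, hmem⟩)
  rw [show x = b ^ i * ((b ^ i)⁻¹ * x) by group]
  refine mul_mem (zpow_mem (Subgroup.subset_closure (by simp)) i) ?_
  have := congrArg Subtype.val hj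
  rw [Subgroup.coe_zpow] at this
  have e : ((a : U)) ^ j = (b ^ i)⁻¹ * x := this
  rw [← e]
  exact zpow_mem (Subgroup.subset_closure (by simp)) j

theorem index_frattini_le {p : ℕ} [hp : Fact p.Prime] {U : Type*} [Group U] [Finite U] (hU : IsPGroup p U)
    {a b : U} (h : Subgroup.closure ({a, b} : Set U) = ⊤) : (frattini U).index ≤ p ^ 2 := by
  set π := QuotientGroup.mk' (frattini U) with hπ
  have hcomm : ∀ x y : U, π x * π y = π y * π x := fun x y => by
    rw [← map_mul, ← map_mul, hπ, QuotientGroup.mk'_apply, QuotientGroup.mk'_apply, QuotientGroup.eq]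
    have := CfsgLib.Core.pgroup_commutator_le_frattini hU
      (Subgroup.commutator_mem_commutator (Subgroup.mem_top y⁻¹) (Subgroup.mem_top x⁻¹))
    simpa [commutatorElement_def, mul_assoc] using this
  have hpow : ∀ x : U, Nat.card (Subgroup.zpowers (π x)) ≤ p := fun x => by
    rw [Nat.card_zpowers]
    refine Nat.le_of_dvd hp.out.pos (orderOf_dvd_of_pow_eq_one ?_)
    rw [← map_pow]
    exact (QuotientGroup.eq_one_iff _).2 (CfsgLib.Core.pgroup_pow_mem_frattini hU x)
  have htop : Subgroup.zpowers (π a) ⊔ Subgroup.zpowers (π b) = ⊤ := by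
    rw [Subgroup.zpowers_eq_closure, Subgroup.zpowers_eq_closure, ← Subgroup.closure_union,
      Set.singleton_union, ← Set.image_pair, ← MonoidHom.map_closure, h,
      Subgroup.map_top_of_surjective _ (QuotientGroup.mk'_surjective _)]
  have hnorm : Subgroup.zpowers (π a) ≤ Subgroup.normalizer (Subgroup.zpowers (π b) : Set (U ⧸ frattini U)) := by
    refine (Subgroup.zpowers_le.2 ?_).trans (Subgroup.centralizer_le_normalizer _)
    rw [Subgroup.mem_centralizer_iff]
    intro w hw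
    obtain ⟨i, rfl⟩ := Subgroup.mem_zpowers_iff.1 hw
    exact ((show Commute (π b) (π a) from hcomm b a).zpow_left i).eq
  have h1 := Nat.le_of_dvd (Nat.mul_pos Nat.card_pos Nat.card_pos) (CfsgLib.Core.card_sup_dvd_mul hnorm)
  rw [htop, Subgroup.card_top, ← Subgroup.index_eq_card] at h1
  rw [pow_two]
  exact h1.trans (Nat.mul_le_mul (hpow a) (hpow b))

variable {G : Type u} [Group G] [Finite G] {p : ℕ} [hp : Fact p.Prime]

theorem centralizes_of_not_dvd (r : ℕ) [hr : Fact r.Prime] (hrp : r ≠ p) (hdvd : ¬ r ∣ p ^ 2 - 1)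
    {U : Subgroup G} (hU : IsPGroup p U) (hidx : (frattini U).index ≤ p ^ 2) {g : G}
    (hg : g ∈ Subgroup.normalizer (U : Set G)) (hgr : ∃ k : ℕ, orderOf g = r ^ k) :
    g ∈ Subgroup.centralizer (U : Set G) := by
  set A := Subgroup.zpowers g with hA
  obtain ⟨k, hk⟩ := hgr
  have hAr : IsPGroup r A := IsPGroup.of_card (n := k) (by rw [hA, Nat.card_zpowers, hk])
  have hAU : A ≤ Subgroup.normalizer (U : Set G) := Subgroup.zpowers_le.2 hg
  let act : A →* MulAut U :=
    { toFun := fun a =>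
        { toFun := fun x => ⟨(a : G) * x * (a : G)⁻¹, (Subgroup.mem_normalizer_iff.1 (hAU a.2) x).1 x.2⟩
          invFun := fun x => ⟨(a : G)⁻¹ * x * a, by
            have := (Subgroup.mem_normalizer_iff.1 (inv_mem (hAU a.2)) (x : G)).1 x.2
            simpa using this⟩
          left_inv := fun x => Subtype.ext (by group)
          right_inv := fun x => Subtype.ext (by group)
          map_mul' := fun x y => Subtype.ext (by
            show (a : G) * (↑x * ↑y) * (a : G)⁻¹ = (a : G) * x * (a : G)⁻¹ * ((a : G) * y * (a : G)⁻¹)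
            group) }
      map_one' := MulEquiv.ext fun x => Subtype.ext (by simp)
      map_mul' := fun a b => MulEquiv.ext fun x => Subtype.ext (by
        show ((a * b : A) : G) * x * ((a * b : A) : G)⁻¹ = (a : G) * ((b : G) * x * (b : G)⁻¹) * (a : G)⁻¹
        rw [Subgroup.coe_mul]; group) }
  have hchar : ∀ a : A, (frattini U).map (act a).toMonoidHom = frattini U := fun a =>
    Subgroup.characteristic_iff_map_eq.1 inferInstance (act a)
  let qact : A →* Equiv.Perm (U ⧸ frattini U) :=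
    { toFun := fun a => (QuotientGroup.congr (frattini U) (frattini U) (act a) (hchar a)).toEquiv
      map_one' := Equiv.ext fun x => by
        induction x using QuotientGroup.induction_on with
        | _ y => show (((act 1) y : U) : U ⧸ frattini U) = (y : U ⧸ frattini U); rw [map_one]; rfl
      map_mul' := fun a b => Equiv.ext fun x => by
        induction x using QuotientGroup.induction_on with
        | _ y => show (((act (a * b)) y : U) : U ⧸ frattini U) = ((act a (act b y) : U) : U ⧸ frattini U)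
                 rw [map_mul]; rfl }
  letI : MulAction A (U ⧸ frattini U) := MulAction.compHom _ qact
  have hmod := hAr.card_modEq_card_fixedPoints (α := U ⧸ frattini U)
  -- the fixed points form a subgroup
  let D : Subgroup (U ⧸ frattini U) :=
    { carrier := MulAction.fixedPoints A (U ⧸ frattini U)
      one_mem' := fun a => map_one (QuotientGroup.congr (frattini U) (frattini U) (act a) (hchar a))
      mul_mem' := fun {x y} hx hy a => by
        show QuotientGroup.congr (frattini U) (frattini U) (act a) (hchar a) (x * y) = x * y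
        rw [map_mul]
        exact congrArg₂ (· * ·) (hx a) (hy a)
      inv_mem' := fun {x} hx a => by
        show QuotientGroup.congr (frattini U) (frattini U) (act a) (hchar a) x⁻¹ = x⁻¹
        rw [map_inv]
        exact congrArg (·⁻¹) (hx a) }
  have hDtop : D = ⊤ := by
    obtain ⟨d, hd⟩ := IsPGroup.iff_card.1 (hU.to_quotient (frattini U))
    obtain ⟨c, hcd, hc⟩ := (Nat.dvd_prime_pow hp.out).1 (hd ▸ Subgroup.card_subgroup_dvd_card D)
    have hd2 : d ≤ 2 := by
      rw [Subgroup.index_eq_card, hd] at hidx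
      exact (Nat.pow_le_pow_iff_right hp.out.one_lt).1 hidx
    rcases eq_or_lt_of_le hcd with rfl | hlt
    · exact Subgroup.eq_top_of_card_eq D (hc.trans hd.symm)
    exfalso
    have hfix : Nat.card (MulAction.fixedPoints A (U ⧸ frattini U)) = p ^ c := hc
    rw [hfix, hd] at hmod
    have h1 : r ∣ p ^ d - p ^ c := (Nat.modEq_iff_dvd' (Nat.pow_le_pow_right hp.out.pos hlt.le)).1 hmod.symm
    have h2 : p ^ d - p ^ c = p ^ c * (p ^ (d - c) - 1) := by
      rw [Nat.mul_sub, mul_one, ← pow_add, Nat.add_sub_cancel' hlt.le]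
    rw [h2] at h1
    rcases (Nat.Prime.dvd_mul hr.out).1 h1 with h | h
    · exact hrp ((Nat.prime_dvd_prime_iff_eq hr.out hp.out).1 (hr.out.dvd_of_dvd_pow h))
    · apply hdvd
      have hdc : d - c = 1 ∨ d - c = 2 := by omega
      rcases hdc with e | e <;> rw [e] at h
      · exact h.trans (by simpa using Nat.sub_dvd_pow_sub_pow p 1 2 |>.trans dvd_rfl)
      · exact h
  have key := CfsgLib.Core.le_centralizer_of_trivial_mod_frattini hAU
    (by
      obtain ⟨m, hm⟩ := IsPGroup.iff_card.1 (hU.to_subgroup (frattini U))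
      rw [hm, hA, Nat.card_zpowers, hk]
      exact Nat.Coprime.pow k m ((Nat.coprime_primes hr.out hp.out).2 hrp))
    (fun a ha x hx => by
      have h1 : ((⟨x, hx⟩ : U) : U ⧸ frattini U) ∈ D := hDtop ▸ Subgroup.mem_top _
      have h2 : ((act ⟨a, ha⟩ ⟨x, hx⟩ : U) : U ⧸ frattini U) = ((⟨x, hx⟩ : U) : U ⧸ frattini U) := h1 ⟨a, ha⟩
      refine ⟨act ⟨a, ha⟩ ⟨x, hx⟩ * (⟨x, hx⟩ : U)⁻¹, ?_, rfl⟩
      show act ⟨a, ha⟩ ⟨x, hx⟩ * (⟨x, hx⟩ : U)⁻¹ ∈ frattini U
      rw [← QuotientGroup.eq_one_iff, QuotientGroup.mk_mul, QuotientGroup.mk_inv, h2, mul_inv_cancel])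
  exact key (Subgroup.mem_zpowers g)

theorem centralizes_of_mem_core {U : Subgroup G} (hU : IsPGroup p U) {g : G}
    (hg : g ∈ Subgroup.normalizer (U : Set G)) (hgO : g ∈ Cfsg.pPrimeCore p G) :
    g ∈ Subgroup.centralizer (U : Set G) := by
  rw [Subgroup.mem_centralizer_iff]
  intro x hx
  have h1 : g * x * g⁻¹ * x⁻¹ ∈ U := mul_mem ((Subgroup.mem_normalizer_iff.1 hg x).1 hx) (inv_mem hx)
  have h2 : g * x * g⁻¹ * x⁻¹ ∈ Cfsg.pPrimeCore p G := by
    have := mul_mem hgO ((CfsgLib.Core.normal_pPrimeCore (G := G) p).conj_mem g⁻¹ (inv_mem hgO) x)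
    simpa [mul_assoc] using this
  have h3 : g * x * g⁻¹ * x⁻¹ ∈ Cfsg.pPrimeCore p G ⊓ U := Subgroup.mem_inf.2 ⟨h2, h1⟩
  rw [CfsgLib.Core.sylow_inf_bot_of_coprime hU (CfsgLib.Core.coprime_card_pPrimeCore p), Subgroup.mem_bot,
    mul_inv_eq_one] at h3
  exact (mul_inv_eq_iff_eq_mul.1 h3).symm

theorem mem_core_of_prime_power {r : ℕ} [hr : Fact r.Prime] (hrp : r ≠ p) {g : G}
    (hgr : ∃ k : ℕ, orderOf g = r ^ k)
    (hidx : ¬ r ∣ Nat.card (G ⧸ Cfsg.pPrimePCore p G)) : g ∈ Cfsg.pPrimeCore p G := by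
  haveI := CfsgLib.Core.normal_pPrimeCore (G := G) p
  haveI := CfsgLib.Core.normal_pCore (G := G ⧸ Cfsg.pPrimeCore p G) p
  haveI : (Cfsg.pPrimePCore p G).Normal := Subgroup.Normal.comap ‹_› _
  obtain ⟨k, hk⟩ := hgr
  have hM : g ∈ Cfsg.pPrimePCore p G := by
    rw [← QuotientGroup.eq_one_iff, ← orderOf_eq_one_iff]
    refine Nat.eq_one_of_dvd_coprimes ((hr.out.coprime_iff_not_dvd.2 hidx).pow_left k) ?_
      (orderOf_dvd_natCard _)
    exact hk ▸ orderOf_map_dvd (QuotientGroup.mk' _) g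
  set q := QuotientGroup.mk' (Cfsg.pPrimeCore p G) g with hq
  have hqM : q ∈ Cfsg.pCore p (G ⧸ Cfsg.pPrimeCore p G) := hM
  obtain ⟨m, hm⟩ := IsPGroup.iff_orderOf.1 (CfsgLib.Core.isPGroup_pCore p) ⟨q, hqM⟩
  rw [Subgroup.orderOf_mk] at hm
  rw [← QuotientGroup.eq_one_iff, ← orderOf_eq_one_iff]
  exact Nat.eq_one_of_dvd_coprimes (Nat.Coprime.pow k m ((Nat.coprime_primes hr.out hp.out).2 hrp))
    (hk ▸ orderOf_map_dvd (QuotientGroup.mk' _) g) hm.dvd

theorem hasNormalPComplement (S : Sylow p G) (hS : Cfsg.IsMetacyclic ↥(S : Subgroup G))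
    (hcop : Nat.Coprime (Nat.card (G ⧸ Cfsg.pPrimePCore p G)) (p ^ 2 - 1)) :
    Cfsg.HasNormalPComplement p G := by
  refine CfsgLib.Core.hasNormalPComplement_of_local fun U hU => ?_
  have hidx : (frattini U).index ≤ p ^ 2 := by
    obtain ⟨P, hP⟩ := hU.exists_le_sylow
    obtain ⟨c, hc⟩ := MulAction.exists_smul_eq G P S
    have hin : ∀ x : U, c * (x : G) * c⁻¹ ∈ (S : Subgroup G) := fun x => by
      rw [← hc, Sylow.coe_subgroup_smul]
      exact ⟨x, hP x.2, rfl⟩
    let ι : U →* (S : Subgroup G) := ((MulAut.conj c).toMonoidHom.comp U.subtype).codRestrict _ hin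
    have hι : Function.Injective ι := fun x y h =>
      Subtype.ext ((MulAut.conj c).injective (congrArg Subtype.val h))
    obtain ⟨a, b, hab⟩ := two_generated hS ι hι
    exact index_frattini_le hU hab
  intro g hg hgc
  induction hn : orderOf g using Nat.strong_induction_on generalizing g with
  | h n ih =>
  subst hn
  by_cases h1 : orderOf g = 1
  · rw [orderOf_eq_one_iff.1 h1]; exact one_mem _
  set r := (orderOf g).minFac with hr
  haveI : Fact r.Prime := ⟨Nat.minFac_prime h1⟩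
  have hrg : r ∣ orderOf g := Nat.minFac_dvd _
  have hrp : r ≠ p := fun e =>
    hp.out.ne_one (Nat.eq_one_of_dvd_coprimes hgc (e ▸ hrg) dvd_rfl)
  obtain ⟨i, j, he, ⟨k, hk⟩, hj⟩ := CfsgLib.ClassMaxP.exists_decomp (p := r) g
  have hdj : orderOf (g ^ j) ∣ orderOf g := by
    rw [← Nat.card_zpowers, ← Nat.card_zpowers]
    exact Subgroup.card_dvd_of_le (Subgroup.zpowers_le.2 (zpow_mem (Subgroup.mem_zpowers g) j))
  have hlt : orderOf (g ^ j) < orderOf g := by
    refine lt_of_le_of_ne (Nat.le_of_dvd (orderOf_pos g) hdj) fun e => ?_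
    rw [e] at hj
    exact (Fact.out : r.Prime).ne_one (Nat.eq_one_of_dvd_coprimes hj hrg dvd_rfl)
  have hgi : g ^ i ∈ Subgroup.centralizer (U : Set G) := by
    obtain ⟨l, -, hl⟩ := (Nat.dvd_prime_pow (Fact.out : r.Prime)).1 (orderOf_dvd_of_pow_eq_one hk)
    by_cases hd : r ∣ p ^ 2 - 1
    · exact centralizes_of_mem_core hU (zpow_mem hg i) (mem_core_of_prime_power hrp ⟨l, hl⟩ fun h =>
        (Fact.out : r.Prime).ne_one (Nat.eq_one_of_dvd_coprimes hcop h hd))
    · exact centralizes_of_not_dvd r hrp hd hU hidx (zpow_mem hg i) ⟨l, hl⟩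
  rw [he]
  exact mul_mem hgi (ih _ hlt _ (zpow_mem hg j) (hgc.coprime_dvd_left hdj) rfl)

theorem coprime_of_npc (h : Cfsg.HasNormalPComplement p G) (m : ℕ) :
    Nat.Coprime (Nat.card (G ⧸ Cfsg.pPrimePCore p G)) m := by
  obtain ⟨N, hN, hNc, k, hk⟩ := CfsgLib.Core.hasNormalPComplement_iff.1 h
  haveI := hN
  haveI := CfsgLib.Core.normal_pPrimeCore (G := G) p
  have hle : N ≤ Cfsg.pPrimeCore p G := CfsgLib.Core.le_pPrimeCore hN hNc
  obtain ⟨j, -, hj⟩ := (Nat.dvd_prime_pow hp.out).1 (hk ▸ Subgroup.index_dvd_of_le hle)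
  have htop : Cfsg.pPrimePCore p G = ⊤ := by
    rw [Cfsg.pPrimePCore, eq_top_iff]
    intro x _
    exact CfsgLib.Core.le_pCore (N := (⊤ : Subgroup (G ⧸ Cfsg.pPrimeCore p G))) inferInstance
      (IsPGroup.of_card (n := j) (by rw [Subgroup.card_top, ← Subgroup.index_eq_card, hj])) (Subgroup.mem_top _)
  rw [← Subgroup.index_eq_card, htop, Subgroup.index_top]
  exact Nat.coprime_one_left m

end CfsgLib.MetacyclicNilp
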