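import Mathlib.GroupTheory.GroupAction.ConjAct
import Cfsg.Agent.Lib.CoreFitting
import Cfsg.Agent.Lib.CoreLayer
import Cfsg.Agent.S4037

/-!
Conjugates of an element with prime-power class size commute modulo `O_p`.
-/

set_option autoImplicit false

namespace CfsgLib.PrimeClassComm

open Subgroup

universe u
variable {G : Type u} [Group G] [Finite G]

omit [Finite G] in
theorem ncard_carrier (x : G) : (ConjClasses.mk x).carrier.ncard = (centralizer ({x} : Set G)).index := by
  have h : (MulAction.stabilizer (ConjAct G) x).index = (centralizer ({x} : Set G)).index := by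
    rw [ConjAct.stabilizer_eq_centralizer]
    rfl
  rw [← h, MulAction.index_stabilizer, ConjAct.orbit_eq_carrier_conjClasses]

theorem centralizes {p q a : ℕ} (hp : p.Prime) [hq : Fact q.Prime] (hqp : q ≠ p) {x : G}
    (hx : (centralizer ({x} : Set G)).index = p ^ a) {N : Subgroup G} [N.Normal] (hN : IsPGroup q N) :
    N ≤ centralizer ({x} : Set G) := by
  set C := centralizer ({x} : Set G)
  rw [← relIndex_eq_one]
  obtain ⟨m, hm⟩ := IsPGroup.iff_card.mp hN
  have h1 : C.relIndex N ∣ q ^ m := hm ▸ Subgroup.relIndex_dvd_card _ _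
  have h2 : C.relIndex N ∣ p ^ a := by
    rw [← hx]
    have e1 := relIndex_mul_index (inf_le_left : N ⊓ C ≤ N)
    have e2 := relIndex_mul_index (inf_le_right : N ⊓ C ≤ C)
    rw [show (N ⊓ C).relIndex N = C.relIndex N by rw [inf_comm, inf_relIndex_right]] at e1
    rw [inf_relIndex_right] at e2
    obtain ⟨t, ht⟩ := N.relIndex_dvd_index_of_normal C
    refine Dvd.intro t (Nat.eq_of_mul_eq_mul_left (Nat.pos_of_ne_zero (Subgroup.index_ne_zero_of_finite (H := N.subgroupOf C))) ?_)
    show N.relIndex C * (C.relIndex N * t) = N.relIndex C * C.index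
    rw [e2, ← e1, ht]
    ring
  exact Nat.eq_one_of_dvd_coprimes (Nat.Coprime.pow m a ((Nat.coprime_primes hq.out hp).2 hqp)) h1 h2

theorem comm_of_bot {p a : ℕ} [hp : Fact p.Prime] (hO : Cfsg.pCore p G = ⊥) {x : G}
    (hx : (centralizer ({x} : Set G)).index = p ^ a) :
    ∀ u ∈ normalClosure ({x} : Set G), ∀ v ∈ normalClosure ({x} : Set G), u * v = v * u := by
  set R := normalClosure ({x} : Set G) with hR
  haveI hRn : R.Normal := normalClosure_normal
  haveI hRs : Group.IsSolvable R := Cfsg.Agent.S4037.result x hp.out a (by rw [ncard_carrier, hx])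
  have hxR : x ∈ R := subset_normalClosure rfl
  have hF : Cfsg.fittingSubgroup R ≤ centralizer ({⟨x, hxR⟩} : Set R) := by
    rw [CfsgLib.Core.fittingSubgroup_eq_iSup_pCore]
    refine iSup_le fun q => ?_
    haveI := Fact.mk q.2
    haveI hn : ((Cfsg.pCore (q : ℕ) R).map R.subtype).Normal :=
      CfsgLib.Core.map_subtype_normal_of_characteristic hRn (CfsgLib.Core.characteristic_pCore _)
    have hqg : IsPGroup (q : ℕ) ((Cfsg.pCore (q : ℕ) R).map R.subtype) :=
      (CfsgLib.Core.isPGroup_pCore _).map _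
    intro y hy
    rw [mem_centralizer_singleton_iff]
    refine Subtype.ext ?_
    rcases eq_or_ne (q : ℕ) p with e | e
    · have : (y : G) ∈ Cfsg.pCore p G := CfsgLib.Core.le_pCore hn (e ▸ hqg) ⟨y, hy, rfl⟩
      rw [hO, mem_bot] at this
      show (y : G) * x = x * y
      rw [this]; simp
    · exact mem_centralizer_singleton_iff.1 (centralizes hp.out e hx hqg ⟨y, hy, rfl⟩)
  have hxc : (⟨x, hxR⟩ : R) ∈ centralizer (Cfsg.fittingSubgroup R : Set R) :=
    mem_centralizer_iff.2 fun y hy => mem_centralizer_singleton_iff.1 (hF hy)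
  have hxF := CfsgLib.Core.centralizer_fitting_le hxc
  set F := (Cfsg.fittingSubgroup R).map R.subtype with hFd
  haveI : F.Normal :=
    CfsgLib.Core.map_subtype_normal_of_characteristic hRn CfsgLib.Core.characteristic_fittingSubgroup
  have hle : R ≤ F ⊓ centralizer (F : Set G) := by
    refine normalClosure_le_normal (Set.singleton_subset_iff.2 ⟨⟨_, hxF, rfl⟩, mem_centralizer_iff.2 ?_⟩)
    rintro _ ⟨y, hy, rfl⟩
    exact congrArg Subtype.val (mem_centralizer_iff.1 hxc y hy)
  intro u hu v hv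
  exact ((mem_centralizer_iff.1 (hle hv).2) u (hle hu).1)

omit [Finite G] in
theorem map_comm {H : Type*} [Group H] (f : G →* H) (x g h : G)
    (key : ∀ u ∈ normalClosure ({f x} : Set H), ∀ v ∈ normalClosure ({f x} : Set H), u * v = v * u) :
    f ((g * x * g⁻¹) * (h * x * h⁻¹) * (g * x * g⁻¹)⁻¹ * (h * x * h⁻¹)⁻¹) = 1 := by
  have hm : ∀ y, f (y * x * y⁻¹) ∈ normalClosure ({f x} : Set H) := fun y => by
    rw [map_mul, map_mul, map_inv]
    exact (normalClosure_normal (s := ({f x} : Set H))).conj_mem (f x) (subset_normalClosure rfl) (f y)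
  rw [map_mul, map_mul, map_mul, map_inv, map_inv, key _ (hm g) _ (hm h)]
  group

theorem main {p : ℕ} [hp : Fact p.Prime] (x : G) (hx : ∃ a : ℕ, (centralizer ({x} : Set G)).index = p ^ a)
    (g h : G) :
    (g * x * g⁻¹) * (h * x * h⁻¹) * (g * x * g⁻¹)⁻¹ * (h * x * h⁻¹)⁻¹ ∈ Cfsg.pCore p G := by
  obtain ⟨a, ha⟩ := hx
  haveI := CfsgLib.Core.normal_pCore (G := G) p
  set π := QuotientGroup.mk' (Cfsg.pCore p G) with hπ
  have hdvd : (centralizer ({π x} : Set (G ⧸ Cfsg.pCore p G))).index ∣ p ^ a := by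
    rw [← ha]
    refine (Subgroup.index_dvd_of_le (H := (centralizer ({x} : Set G)).map π) ?_).trans
      (Subgroup.index_map_dvd _ (QuotientGroup.mk'_surjective _))
    rintro _ ⟨c, hc, rfl⟩
    rw [mem_centralizer_singleton_iff, ← map_mul, ← map_mul, mem_centralizer_singleton_iff.1 hc]
  obtain ⟨b, -, hb⟩ := (Nat.dvd_prime_pow hp.out).1 hdvd
  have key := comm_of_bot (CfsgLib.Core.pCore_quotient_pCore p) hb
  rw [← QuotientGroup.eq_one_iff]
  exact map_comm π x g h key

end CfsgLib.PrimeClassComm
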