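import Cfsg.Agent.Lib.CoreGen
import Cfsg.Agent.Lib.CoreCoprime2
import Cfsg.Agent.S0016
import Cfsg.Prelude.Def_OddOrderLocal
import Mathlib.GroupTheory.SpecificGroups.ZGroup

/-!
# Trivial intersection Hall subgroups of separable groups
-/

set_option autoImplicit false

open scoped Classical commutatorElement
open CfsgLib.Core

namespace CfsgLib.TIHall

variable {G : Type*} [Group G] [Finite G]

theorem cyclic_eq_of_card {P : Type*} [Group P] [Finite P] [IsCyclic P] {H K : Subgroup P}
    (h : Nat.card H = Nat.card K) : H = K := by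
  letI := Fintype.ofFinite P
  suffices key : ∀ H : Subgroup P,
      (H : Set P).toFinset = Finset.univ.filter fun x : P => x ^ Nat.card H = 1 by
    have h2 : (H : Set P).toFinset = (K : Set P).toFinset := by rw [key H, key K, h]
    exact SetLike.coe_injective (Set.toFinset_inj.1 h2)
  intro H
  refine Finset.eq_of_subset_of_card_le (fun x hx => Finset.mem_filter.2 ⟨Finset.mem_univ _,
    congrArg Subtype.val (pow_card_eq_one' (G := H) (x := ⟨x, Set.mem_toFinset.1 hx⟩))⟩) ?_
  refine le_trans (IsCyclic.card_pow_eq_one_le Nat.card_pos) (le_of_eq ?_)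
  rw [Set.toFinset_card, ← Nat.card_eq_fintype_card]
  rfl

/-- A `p`-group with cyclic abelian subgroups, abelian if `p = 2`, is cyclic. -/
theorem isCyclic_of_abelian_cyclic {P : Type*} [Group P] [Finite P] {p : ℕ} [hp : Fact p.Prime]
    (hP : IsPGroup p P) (h2 : p = 2 → IsMulCommutative P)
    (habel : ∀ E : Subgroup P, IsMulCommutative E → IsCyclic E) : IsCyclic P := by
  rcases subsingleton_or_nontrivial P with hs | hn
  · infer_instance
  haveI := hP.center_nontrivial
  have hdvd : p ∣ Nat.card (Subgroup.center P) := by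
    obtain ⟨n, hn'⟩ := (hP.to_subgroup (Subgroup.center P)).exists_card_eq
    have : n ≠ 0 := fun h0 => by
      rw [h0, pow_zero] at hn'
      exact not_subsingleton (Subgroup.center P) (Nat.card_eq_one_iff_unique.1 hn').1
    rw [hn']
    exact dvd_pow_self p this
  obtain ⟨⟨z, hzc⟩, hz⟩ := exists_prime_orderOf_dvd_card' (G := Subgroup.center P) p hdvd
  replace hz : orderOf z = p := (Subgroup.orderOf_coe ⟨z, hzc⟩).trans hz
  have key : ∀ X : Subgroup P, Nat.card X = p → X = Subgroup.zpowers z := by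
    intro X hX
    haveI : IsCyclic X := isCyclic_of_prime_card hX
    haveI : IsMulCommutative X := inferInstance
    set B := Subgroup.closure ((X : Set P) ∪ {z}) with hB
    haveI : IsMulCommutative B := Subgroup.isMulCommutative_closure (by
      rintro u (hu | rfl) w (hw | rfl)
      · exact congrArg Subtype.val (mul_comm' (⟨u, hu⟩ : X) ⟨w, hw⟩)
      · exact Subgroup.mem_center_iff.1 hzc u
      · exact (Subgroup.mem_center_iff.1 hzc w).symm
      · rfl)
    haveI := habel B inferInstance
    have hXB : X ≤ B := fun x hx => Subgroup.subset_closure (Or.inl hx)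
    have hzB : Subgroup.zpowers z ≤ B :=
      Subgroup.zpowers_le.2 (Subgroup.subset_closure (Or.inr rfl))
    have e : X.subgroupOf B = (Subgroup.zpowers z).subgroupOf B := cyclic_eq_of_card (by
      rw [Nat.card_congr (Subgroup.subgroupOfEquivOfLe hXB).toEquiv,
        Nat.card_congr (Subgroup.subgroupOfEquivOfLe hzB).toEquiv, hX, Nat.card_zpowers, hz])
    rw [← Subgroup.map_subgroupOf_eq_of_le hXB, e, Subgroup.map_subgroupOf_eq_of_le hzB]
  rcases Cfsg.Agent.S0016.result p hP (fun H K hH hK => (key H hH).trans (key K hK).symm) with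
    h | ⟨hp2, n, ⟨e⟩⟩
  · exact h
  haveI := h2 hp2
  rcases Nat.eq_zero_or_pos n with rfl | hpos
  · haveI : IsCyclic (QuaternionGroup (2 ^ 0)) := by
      rw [pow_zero]; exact QuaternionGroup.quaternionGroup_one_isCyclic
    exact e.isCyclic.2 inferInstance
  · exfalso
    have hc : (QuaternionGroup.a 1 : QuaternionGroup (2 ^ n)) * QuaternionGroup.xa 0 =
        QuaternionGroup.xa 0 * QuaternionGroup.a 1 :=
      e.symm.injective (by rw [map_mul, map_mul]; exact mul_comm' _ _)
    rw [QuaternionGroup.a_mul_xa, QuaternionGroup.xa_mul_a, QuaternionGroup.xa.injEq, zero_sub,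
      zero_add] at hc
    have h2' : ((2 : ℕ) : ZMod (2 * 2 ^ n)) = 0 := by
      push_cast
      linear_combination -hc
    rw [ZMod.natCast_eq_zero_iff] at h2'
    have h4 : 2 * 2 ≤ 2 * 2 ^ n := by
      have : 2 ^ 1 ≤ 2 ^ n := Nat.pow_le_pow_right (by norm_num) hpos
      omega
    have := Nat.le_of_dvd (by norm_num) h2'
    omega

variable (H : Subgroup G)

/-- a Hall trivial intersection subgroup of its normaliser is a Hall subgroup -/
theorem normalizer_le_of_le (hTI : Cfsg.IsTISubset (H : Set G)) {P : Subgroup G} (hPH : P ≤ H)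
    (hP : P ≠ ⊥) :
    Subgroup.normalizer (P : Set G) ≤ Subgroup.normalizer (H : Set G) := by
  intro g hg
  by_contra hgN
  obtain ⟨x, hx, hx1⟩ := (Subgroup.bot_or_exists_ne_one P).resolve_left hP
  exact hx1 (hTI g hgN x (hPH hx) (hPH ((Subgroup.mem_normalizer_iff.1 hg x).1 hx)))

theorem hall_of_TI (hTI : Cfsg.IsTISubset (H : Set G))
    (hHall : (Nat.card H).Coprime (H.subgroupOf (Subgroup.normalizer (H : Set G))).index) :
    (Nat.card H).Coprime H.index := by
  refine Nat.coprime_of_dvd fun p hp hpH hpi => ?_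
  haveI := Fact.mk hp
  obtain ⟨P⟩ := (inferInstance : Nonempty (Sylow p H))
  set P' := (P : Subgroup H).map H.subtype with hP'
  have hP'H : P' ≤ H := Subgroup.map_subtype_le _
  obtain ⟨n, hn⟩ := IsPGroup.iff_card.1 P.isPGroup'
  have hcard : Nat.card P' = p ^ n := by
    rw [hP', Subgroup.card_map_of_injective H.subtype_injective, hn]
  have hne : P' ≠ ⊥ := fun e => P.ne_bot_of_dvd_card hpH
    ((Subgroup.map_eq_bot_iff_of_injective _ H.subtype_injective).1 e)
  have hd : p ^ (n + 1) ∣ Nat.card G := by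
    rw [← H.card_mul_index, pow_succ, ← hn]
    exact mul_dvd_mul (P : Subgroup H).card_subgroup_dvd_card hpi
  have h1 := Sylow.prime_dvd_card_quotient_normalizer hd hcard
  rw [← Subgroup.index_eq_card] at h1
  set N := Subgroup.normalizer (H : Set G)
  have hle : Subgroup.normalizer (P' : Set G) ≤ N := normalizer_le_of_le H hTI hP'H hne
  have h2 : p ∣ P'.relIndex H * H.relIndex N := by
    rw [Subgroup.relIndex_mul_relIndex _ _ _ hP'H Subgroup.le_normalizer]
    refine (show p ∣ P'.relIndex (Subgroup.normalizer (P' : Set G)) from h1).trans ?_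
    rw [← Subgroup.relIndex_mul_relIndex _ _ _ Subgroup.le_normalizer hle]
    exact dvd_mul_right _ _
  rcases (Nat.Prime.dvd_mul hp).1 h2 with h | h
  · refine P.not_dvd_index ?_
    rwa [hP', Subgroup.relIndex, ← Subgroup.comap_subtype,
      Subgroup.comap_map_eq_self_of_injective H.subtype_injective] at h
  · exact hp.ne_one (Nat.eq_one_of_dvd_coprimes hHall hpH h)

theorem sup_normalizer_eq_top (hTI : Cfsg.IsTISubset (H : Set G)) (hnn : ¬ H.Normal)
    (hcoH : (Nat.card H).Coprime H.index)
    (hsep : ∃ (n : ℕ) (M : Fin (n + 1) → Subgroup G), M 0 = ⊥ ∧ M (Fin.last n) = ⊤ ∧ Monotone M ∧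
      (∀ i, (M i).Normal) ∧
      ∀ i : Fin n, (∀ q : ℕ, q.Prime → q ∣ (M i.castSucc).relIndex (M i.succ) → q ∣ Nat.card H) ∨
        ((M i.castSucc).relIndex (M i.succ)).Coprime (Nat.card H))
    (O : Subgroup G) [O.Normal] (hO : (Nat.card O).Coprime (Nat.card H))
    (hmax : ∀ K : Subgroup G, K.Normal → (Nat.card K).Coprime (Nat.card H) → K ≤ O) :
    O ⊔ Subgroup.normalizer (H : Set G) = ⊤ := by
  obtain ⟨n, M, hM0, hMtop, -, hMn, hstep⟩ := hsep
  have hOtop : O ≠ ⊤ := fun h => hnn (by
    rw [h, Subgroup.card_top] at hO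
    have h1 : Nat.card H = 1 := Nat.eq_one_of_dvd_coprimes hO H.card_subgroup_dvd_card dvd_rfl
    rw [Subgroup.eq_bot_of_card_eq H h1]
    infer_instance)
  obtain ⟨i, hi, hi'⟩ : ∃ i : Fin n, M i.castSucc ≤ O ∧ ¬ M i.succ ≤ O := by
    by_contra hc
    push Not at hc
    have : ∀ i : Fin (n + 1), M i ≤ O := fun i => by
      induction i using Fin.induction with
      | zero => rw [hM0]; exact bot_le
      | succ i ih => exact hc i ih
    exact hOtop (eq_top_iff.2 (hMtop ▸ this (Fin.last n)))
  haveI := hMn i.succ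
  haveI := hMn i.castSucc
  set L := O ⊔ M i.succ with hL
  haveI : L.Normal := inferInstanceAs (O ⊔ M i.succ).Normal
  have hOL : O ≤ L := le_sup_left
  have hd : O.relIndex L ∣ (M i.castSucc).relIndex (M i.succ) := by
    rw [hL, sup_comm, Subgroup.relIndex_sup_right]
    exact Subgroup.relIndex_dvd_of_le_left _ hi
  have hπ : ∀ q : ℕ, q.Prime → q ∣ O.relIndex L → q ∣ Nat.card H := by
    rcases hstep i with h | h
    · exact fun q hq hd' => h q hq (hd'.trans hd)
    · refine absurd (le_sup_right.trans (hmax L inferInstance ?_)) hi'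
      rw [← card_mul_relIndex hOL]
      exact Nat.Coprime.mul_left hO (h.coprime_dvd_left hd)
  have hdis : H ⊓ O = ⊥ := inf_eq_bot_of_coprime hO.symm
  -- `L` is covered by `O` and `H`
  have hLH : L ≤ O ⊔ H := by
    set K := L ⊔ H with hK
    have h1 : O.relIndex K = O.relIndex L * L.relIndex K :=
      (Subgroup.relIndex_mul_relIndex _ _ _ hOL le_sup_left).symm
    have h2 : L.relIndex K ∣ Nat.card H := by
      rw [hK, sup_comm, Subgroup.relIndex_sup_right, ← card_inf_mul_relIndex L H]
      exact dvd_mul_left _ _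
    have h3 : (O.relIndex K).Coprime H.index := by
      refine Nat.coprime_of_dvd fun q hq hq1 hq2 => ?_
      have hqH : q ∣ Nat.card H := by
        rw [h1] at hq1
        rcases (Nat.Prime.dvd_mul hq).1 hq1 with h | h
        · exact hπ q hq h
        · exact h.trans h2
      exact hq.ne_one (Nat.eq_one_of_dvd_coprimes hcoH hqH hq2)
    have h4 : O.relIndex K ∣ Nat.card H := by
      refine h3.dvd_of_dvd_mul_right ?_
      rw [H.card_mul_index]
      refine dvd_trans ?_ K.card_subgroup_dvd_card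
      rw [← card_mul_relIndex (hOL.trans (le_sup_left : L ≤ K))]
      exact dvd_mul_left _ _
    have hle : O ⊔ H ≤ K := sup_le (hOL.trans le_sup_left) le_sup_right
    have hOH : Nat.card H = O.relIndex (O ⊔ H) := by
      rw [sup_comm, Subgroup.relIndex_sup_right, ← card_inf_mul_relIndex O H, inf_comm, hdis,
        Subgroup.card_bot, one_mul]
    have heq : O ⊔ H = K := by
      refine eq_of_le_of_card_le hle ?_
      rw [← card_mul_relIndex (le_sup_left : O ≤ O ⊔ H),
        ← card_mul_relIndex (le_sup_left.trans hle : O ≤ K), ← hOH]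
      exact Nat.mul_le_mul_left _ (Nat.le_of_dvd Nat.card_pos h4)
    exact le_sup_left.trans heq.ge
  -- a Sylow subgroup of `L` lies in `H`
  have hne : O.relIndex L ≠ 1 := fun h => hi' (le_sup_right.trans (Subgroup.relIndex_eq_one.1 h))
  obtain ⟨p, hp, hpd⟩ := Nat.exists_prime_and_dvd hne
  haveI := Fact.mk hp
  have hpH : p ∣ Nat.card H := hπ p hp hpd
  set H₀ := H.subgroupOf L with hH₀
  have hidx : ¬ p ∣ H₀.index := by
    intro h
    have h' : p ∣ H.relIndex L := h
    have h5 : H.relIndex L ∣ Nat.card O := by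
      have e : L = O ⊔ (H ⊓ L) := by
        refine le_antisymm (fun x hx => ?_) (sup_le hOL inf_le_right)
        obtain ⟨o, ho, h', hh', rfl⟩ := Subgroup.mem_sup_of_normal_left.1 (hLH hx)
        exact Subgroup.mul_mem_sup ho ⟨hh', by
          simpa using mul_mem (inv_mem (hOL ho)) hx⟩
      have h6 := card_mul_relIndex (inf_le_right : H ⊓ L ≤ L)
      rw [Subgroup.inf_relIndex_right] at h6
      refine Nat.dvd_of_mul_dvd_mul_left (Nat.card_pos (α := (H ⊓ L : Subgroup G))) ?_
      rw [h6]
      conv_lhs => rw [e, sup_comm]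
      exact card_sup_dvd_mul (le_top.trans (Subgroup.normalizer_eq_top O).ge)
    exact hp.ne_one (Nat.eq_one_of_dvd_coprimes hO (h'.trans h5) hpH)
  obtain ⟨P₁⟩ := (inferInstance : Nonempty (Sylow p H₀))
  have hP : ∃ P : Sylow p L, (P : Subgroup L) ≤ H₀ := by
    refine ⟨((P₁.isPGroup'.map H₀.subtype)).toSylow ?_, ?_⟩
    · rw [Subgroup.index_map_subtype]
      exact hp.not_dvd_mul P₁.not_dvd_index hidx
    · rw [IsPGroup.toSylow_coe]
      exact Subgroup.map_subtype_le _
  obtain ⟨P, hPH⟩ := hP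
  have hPne : (P : Subgroup L).map L.subtype ≠ ⊥ := fun h => by
    refine P.ne_bot_of_dvd_card ?_ ((Subgroup.map_eq_bot_iff_of_injective _ L.subtype_injective).1 h)
    rw [← card_mul_relIndex hOL]
    exact hpd.mul_left _
  have hPH' : (P : Subgroup L).map L.subtype ≤ H := by
    rintro _ ⟨x, hx, rfl⟩
    exact hPH hx
  have hfr := Sylow.normalizer_sup_eq_top P
  rw [eq_top_iff, ← hfr]
  refine sup_le ((normalizer_le_of_le H hTI hPH' hPne).trans le_sup_right) ?_
  exact hLH.trans (sup_le_sup_left Subgroup.le_normalizer O)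

/-- the Sylow subgroups of `H` are cyclic -/
theorem isZGroup_of_TI (hTI : Cfsg.IsTISubset (H : Set G)) (hnn : ¬ H.Normal)
    (h2 : ∀ P : Sylow 2 H, IsMulCommutative (P : Subgroup H))
    (O : Subgroup G) [O.Normal] (hO : (Nat.card O).Coprime (Nat.card H))
    (hON : O ⊔ Subgroup.normalizer (H : Set G) = ⊤) : IsZGroup H := by
  have hdis : H ⊓ O = ⊥ := inf_eq_bot_of_coprime hO.symm
  have hcent : ∀ h ∈ H, h ≠ 1 → O ⊓ Subgroup.centralizer {h} ≤ Subgroup.centralizer (H : Set G) := by
    intro h hh h1 c hc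
    have hcN : c ∈ Subgroup.normalizer (H : Set G) := by
      by_contra hcN
      refine h1 (hTI c hcN h hh ?_)
      rw [show c * h = h * c from (Subgroup.mem_centralizer_singleton_iff.1 hc.2),
        mul_inv_cancel_right]
      exact hh
    refine Subgroup.mem_centralizer_iff.2 fun y hy => ?_
    have hm : c * y * c⁻¹ * y⁻¹ ∈ H ⊓ O := Subgroup.mem_inf.2 ⟨mul_mem ((Subgroup.mem_normalizer_iff.1 hcN y).1 hy)
      (inv_mem hy), by
      rw [mul_assoc c y, mul_assoc]
      exact mul_mem hc.1 ((inferInstance : O.Normal).conj_mem _ (inv_mem hc.1) y)⟩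
    rw [hdis, Subgroup.mem_bot] at hm
    exact (mul_inv_eq_iff_eq_mul.1 (mul_inv_eq_one.1 hm)).symm
  refine ⟨fun p hp P => ?_⟩
  haveI := Fact.mk hp
  refine isCyclic_of_abelian_cyclic P.isPGroup' (fun e => by subst e; exact h2 P) fun E hE => ?_
  by_contra hnc
  haveI := hE
  set A := (E.map (P : Subgroup H).subtype).map H.subtype with hA
  let eA : E ≃* A := (E.equivMapOfInjective _ (P : Subgroup H).subtype_injective).trans
    ((E.map (P : Subgroup H).subtype).equivMapOfInjective _ H.subtype_injective)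
  haveI : IsMulCommutative A := ⟨⟨fun x y => eA.symm.injective (by
    rw [map_mul, map_mul]; exact mul_comm' _ _)⟩⟩
  have hAH : A ≤ H := Subgroup.map_subtype_le _
  have hAc : ¬ IsCyclic A := fun h => hnc (eA.isCyclic.2 h)
  have hgen := generated_by_centralizers (K := O) hAc
    (le_top.trans (Subgroup.normalizer_eq_top O).ge)
    (hO.symm.coprime_dvd_left (Subgroup.card_dvd_of_le hAH))
  have hle : O ≤ Subgroup.normalizer (H : Set G) := by
    refine le_trans ?_ (centralizer_le_normalizer H)
    rw [← hgen]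
    exact iSup₂_le fun a ha => hcent a (hAH ha.1) ha.2
  exact hnn (Subgroup.normalizer_eq_top_iff.1 (eq_top_iff.2 (hON ▸ sup_le hle le_rfl)))

/-- Coprime action on a group with cyclic Sylow subgroups: the commutator avoids the primes of
the fixed points. -/
theorem coprime_fixed_commutator [IsZGroup H] (Q : Subgroup G)
    (hQ : Q ≤ Subgroup.normalizer (H : Set G)) (hcop : (Nat.card Q).Coprime (Nat.card H)) :
    (Nat.card (H ⊓ Subgroup.centralizer (Q : Set G) : Subgroup G)).Coprime
      (Nat.card (⁅H, Q⁆ : Subgroup G)) := by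
  have hsol : Group.IsSolvable H := inferInstance
  set C := H ⊓ Subgroup.centralizer (Q : Set G) with hC
  refine Nat.coprime_of_dvd fun p hp hpC hpM => ?_
  haveI := Fact.mk hp
  obtain ⟨x, hx⟩ := exists_prime_orderOf_dvd_card' p hpC
  have hxp : orderOf (x : G) = p := (Subgroup.orderOf_coe x).trans hx
  set X := Subgroup.zpowers (x : G) with hX
  have hXp : IsPGroup p X := IsPGroup.of_card (n := 1) (by rw [hX, Nat.card_zpowers, hxp, pow_one])
  have hXC : X ≤ C := Subgroup.zpowers_le.2 x.2
  have hQX : Q ≤ Subgroup.normalizer (X : Set G) := by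
    refine le_trans ?_ (centralizer_le_normalizer X)
    intro q hq
    refine Subgroup.mem_centralizer_iff.2 fun y hy => ?_
    exact (Subgroup.mem_centralizer_iff.1 (hXC hy).2 q hq).symm
  obtain ⟨P₀, hXP, hQP⟩ := exists_invariant_sylow_ge p hQ hcop (Or.inr hsol) (hXC.trans inf_le_left)
    hXp hQX
  set P := (P₀ : Subgroup H).map H.subtype with hP
  have hPH : P ≤ H := Subgroup.map_subtype_le _
  let eP : (P₀ : Subgroup H) ≃* P := (P₀ : Subgroup H).equivMapOfInjective _ H.subtype_injective
  haveI hPc : IsCyclic P := eP.isCyclic.1 inferInstance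
  haveI : IsMulCommutative P := inferInstance
  have hcopP : (Nat.card Q).Coprime (Nat.card P) :=
    hcop.coprime_dvd_right (Subgroup.card_dvd_of_le hPH)
  -- the Sylow subgroup is fixed
  have hPfix : P ≤ Subgroup.centralizer (Q : Set G) := by
    have hint := abelian_centralizer_inf_commutator hQP hcopP
    have hbot : ⁅P, Q⁆ = ⊥ := by
      by_contra hne
      have hle : ⁅P, Q⁆ ≤ P := commutator_le_of_le_normalizer hQP
      have hpg : IsPGroup p (⁅P, Q⁆ : Subgroup G) :=
        (P₀.isPGroup'.of_equiv eP).to_le hle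
      obtain ⟨m, hm⟩ := IsPGroup.iff_card.1 hpg
      have hm0 : m ≠ 0 := fun h0 => hne (Subgroup.eq_bot_of_card_eq _ (by rw [hm, h0, pow_zero]))
      obtain ⟨y, hy⟩ := exists_prime_orderOf_dvd_card' (G := (⁅P, Q⁆ : Subgroup G)) p
        (hm ▸ dvd_pow_self p hm0)
      have hyp : orderOf (y : G) = p := (Subgroup.orderOf_coe y).trans hy
      have e : X.subgroupOf P = (Subgroup.zpowers (y : G)).subgroupOf P := cyclic_eq_of_card (by
        rw [Nat.card_congr (Subgroup.subgroupOfEquivOfLe hXP).toEquiv,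
          Nat.card_congr (Subgroup.subgroupOfEquivOfLe (Subgroup.zpowers_le.2 (hle y.2))).toEquiv,
          hX, Nat.card_zpowers, Nat.card_zpowers, hxp, hyp])
      have e' : X = Subgroup.zpowers (y : G) := by
        rw [← Subgroup.map_subgroupOf_eq_of_le hXP, e,
          Subgroup.map_subgroupOf_eq_of_le (Subgroup.zpowers_le.2 (hle y.2))]
      have hmem : (x : G) ∈ (P ⊓ Subgroup.centralizer (Q : Set G)) ⊓ ⁅P, Q⁆ :=
        ⟨⟨hXP (Subgroup.mem_zpowers _), x.2.2⟩,
          (Subgroup.zpowers_le.2 y.2) (e' ▸ Subgroup.mem_zpowers (x : G) :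
            (x : G) ∈ Subgroup.zpowers (y : G))⟩
      rw [hint, Subgroup.mem_bot] at hmem
      rw [hmem, orderOf_one] at hxp
      exact hp.ne_one hxp.symm
    intro y hy
    exact Subgroup.mem_centralizer_iff.2 fun q hq => (Subgroup.mem_centralizer_iff.1
      (centralizes_of_commutator_eq_bot hbot hq) y hy).symm
  -- an invariant complement
  obtain ⟨⟨R, hR, hQR⟩, -⟩ := exists_invariant_isHallIn ({p}ᶜ : Set ℕ) hQ hcop hsol
  have hRH : R ≤ H := hR.1
  have hpR : ¬ p ∣ Nat.card R := fun h => hR.2.1 p hp h rfl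
  obtain ⟨j, hj⟩ : ∃ j, R.relIndex H = p ^ j := by
    have h2 := hR.2.2
    rw [compl_compl] at h2
    refine ⟨(R.relIndex H).primeFactorsList.length, ?_⟩
    refine Nat.eq_prime_pow_of_unique_prime_dvd ?_ fun {d} hd hdd => h2 d hd hdd
    intro h0
    have h1 := card_mul_relIndex hRH
    rw [h0, mul_zero] at h1
    exact Nat.card_pos.ne h1
  have hPR : ∀ h ∈ H, ∃ a ∈ P, ∃ b ∈ R, h = a * b := by
    obtain ⟨n, hn⟩ := IsPGroup.iff_card.1 P₀.isPGroup'
    have hPcard : Nat.card P = p ^ n := by rw [← Nat.card_congr eP.toEquiv, hn]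
    have hco : (Nat.card P).Coprime (Nat.card R) := by
      rw [hPcard]; exact ((hp.coprime_iff_not_dvd).2 hpR).pow_left n
    have hbij : Function.Bijective fun ab : P × R => (⟨(ab.1 : G) * ab.2,
        mul_mem (hPH ab.1.2) (hRH ab.2.2)⟩ : H) := by
      refine (Nat.bijective_iff_injective_and_card _).2 ⟨?_, ?_⟩
      · rintro ⟨a, b⟩ ⟨a', b'⟩ e
        have e' : (a : G) * b = a' * b' := congrArg Subtype.val e
        have hm : (a' : G)⁻¹ * a ∈ P ⊓ R := Subgroup.mem_inf.2 ⟨mul_mem (inv_mem a'.2) a.2, by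
          rw [show (a' : G)⁻¹ * a = b' * (b : G)⁻¹ by
            rw [eq_mul_inv_iff_mul_eq, mul_assoc, e', inv_mul_cancel_left]]
          exact mul_mem b'.2 (inv_mem b.2)⟩
        rw [inf_eq_bot_of_coprime hco, Subgroup.mem_bot, inv_mul_eq_one] at hm
        have ha : a = a' := Subtype.ext hm.symm
        subst ha
        exact Prod.ext rfl (Subtype.ext (mul_left_cancel e'))
      · rw [Nat.card_prod]
        have h1 := card_mul_relIndex hRH
        rw [hj] at h1
        have h3 : Nat.card P = Nat.card (P₀ : Subgroup H) := (Nat.card_congr eP.toEquiv).symm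
        rw [h3, Sylow.card_eq_multiplicity, ← h1,
          Nat.factorization_mul Nat.card_pos.ne' (pow_ne_zero _ hp.ne_zero), Finsupp.add_apply,
          Nat.factorization_eq_zero_of_not_dvd hpR, zero_add, hp.factorization_pow,
          Finsupp.single_eq_same, mul_comm]
    intro h hh
    obtain ⟨⟨a, b⟩, e⟩ := hbij.2 ⟨h, hh⟩
    exact ⟨a, a.2, b, b.2, (congrArg Subtype.val e).symm⟩
  -- the commutator lies in the complement
  have hM : ⁅H, Q⁆ ≤ R := by
    have hconj : ∀ a ∈ P, ∀ b ∈ R, ∀ q ∈ Q, a * ⁅b, q⁆ * a⁻¹ ∈ R := by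
      intro a ha b hb q hq
      have hbq : ⁅b, q⁆ ∈ R := by
        rw [commutatorElement_def, mul_assoc b q, mul_assoc]
        exact mul_mem hb ((Subgroup.mem_normalizer_iff.1 (hQR hq) _).1 (inv_mem hb))
      set Hd := commutator H with hHd
      haveI := IsZGroup.isCyclic_commutator (G := H)
      by_cases hpd : p ∣ Nat.card Hd
      · -- the Sylow subgroup is normal
        have hPd : (P₀ : Subgroup H) ≤ Hd := by
          have hidx : ¬ p ∣ Hd.index := fun h =>
            hp.ne_one (Nat.eq_one_of_dvd_coprimes (IsZGroup.coprime_commutator_index _) hpd h)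
          obtain ⟨n, hn⟩ := IsPGroup.iff_card.1 P₀.isPGroup'
          have hmap : ((P₀ : Subgroup H).map (QuotientGroup.mk' Hd)) = ⊥ := by
            refine Subgroup.eq_bot_of_card_eq _ ?_
            obtain ⟨m, hm⟩ := IsPGroup.iff_card.1 (P₀.isPGroup'.map (QuotientGroup.mk' Hd))
            rcases Nat.eq_zero_or_pos m with rfl | hm0
            · rw [hm, pow_zero]
            · refine absurd ?_ hidx
              rw [Subgroup.index_eq_card]
              exact (dvd_pow_self p hm0.ne').trans (hm ▸ Subgroup.card_subgroup_dvd_card _)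
          rwa [Subgroup.map_eq_bot_iff, QuotientGroup.ker_mk'] at hmap
        have hPn : ∀ h ∈ H, ∀ y ∈ P, h * y * h⁻¹ ∈ P := by
          rintro h hh _ ⟨y, hy, rfl⟩
          haveI := P₀
          have hc : (⟨h, hh⟩ : H) * y * (⟨h, hh⟩ : H)⁻¹ ∈ (P₀ : Subgroup H) := by
            have hconjd : (⟨h, hh⟩ : H) * y * (⟨h, hh⟩ : H)⁻¹ ∈ Hd :=
              (inferInstance : Hd.Normal).conj_mem y (hPd hy) _
            have e : ((P₀ : Subgroup H).map (MulAut.conj (⟨h, hh⟩ : H)).toMonoidHom).subgroupOf Hd =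
                (P₀ : Subgroup H).subgroupOf Hd := by
              refine cyclic_eq_of_card ?_
              have hle : (P₀ : Subgroup H).map (MulAut.conj (⟨h, hh⟩ : H)).toMonoidHom ≤ Hd := by
                rintro _ ⟨z, hz, rfl⟩
                exact (inferInstance : Hd.Normal).conj_mem z (hPd hz) _
              rw [Nat.card_congr (Subgroup.subgroupOfEquivOfLe hle).toEquiv,
                Nat.card_congr (Subgroup.subgroupOfEquivOfLe hPd).toEquiv,
                Subgroup.card_map_of_injective (MulEquiv.injective _)]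
            have hm : (⟨_, hconjd⟩ : Hd) ∈ (P₀ : Subgroup H).subgroupOf Hd :=
              e ▸ (⟨y, hy, rfl⟩ : (⟨h, hh⟩ : H) * y * (⟨h, hh⟩ : H)⁻¹ ∈
                (P₀ : Subgroup H).map (MulAut.conj (⟨h, hh⟩ : H)).toMonoidHom)
            exact hm
          exact ⟨_, hc, rfl⟩
        have hfix : ∀ y ∈ P, ∀ z ∈ Q, z * y * z⁻¹ = y := fun y hy z hz => by
          rw [Subgroup.mem_centralizer_iff.1 (hPfix hy) z hz, mul_inv_cancel_right]
        have h1 : ⁅b, q⁆ * a * ⁅b, q⁆⁻¹ = a := by
          have h3 := hfix _ (hPn _ (inv_mem (hRH hb)) a ha) q⁻¹ (inv_mem hq)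
          have h4 : ⁅b, q⁆ * a * ⁅b, q⁆⁻¹ =
              b * (q * (b⁻¹ * (q⁻¹ * a * q) * b) * q⁻¹) * b⁻¹ := by
            rw [commutatorElement_def]; group
          rw [h4, show q⁻¹ * a * q = a by simpa using hfix a ha q⁻¹ (inv_mem hq),
            show b⁻¹ * a * b = b⁻¹ * a * b⁻¹⁻¹ by rw [inv_inv],
            hfix _ (hPn _ (inv_mem (hRH hb)) a ha) q hq]
          group
        rw [show a * ⁅b, q⁆ = ⁅b, q⁆ * a from (mul_inv_eq_iff_eq_mul.1 h1).symm,
          mul_inv_cancel_right]
        exact hbq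
      · -- the complement contains the derived subgroup
        have hdR : Hd.map H.subtype ≤ R := by
          have hle : R.subgroupOf H ⊔ Hd ≤ R.subgroupOf H := by
            refine (eq_of_le_of_card_le le_sup_left ?_).ge
            have h1 : Nat.card (R.subgroupOf H ⊔ Hd : Subgroup H) ∣
                Nat.card (R.subgroupOf H) * Nat.card Hd :=
              card_sup_dvd_mul (le_top.trans (Subgroup.normalizer_eq_top Hd).ge)
            have h2 : ¬ p ∣ Nat.card (R.subgroupOf H ⊔ Hd : Subgroup H) := fun h => by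
              rcases (Nat.Prime.dvd_mul hp).1 (h.trans h1) with h | h
              · rw [Nat.card_congr (Subgroup.subgroupOfEquivOfLe hRH).toEquiv] at h
                exact hpR h
              · exact hpd h
            have h3 : Nat.card H ∣ p ^ j * Nat.card (R.subgroupOf H) := by
              rw [Nat.card_congr (Subgroup.subgroupOfEquivOfLe hRH).toEquiv, ← hj,
                ← card_mul_relIndex hRH, mul_comm]
            exact Nat.le_of_dvd Nat.card_pos (Nat.Coprime.dvd_of_dvd_mul_left
              (((hp.coprime_iff_not_dvd).2 h2).symm.pow_right j)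
              ((Subgroup.card_subgroup_dvd_card _).trans h3))
          rintro _ ⟨y, hy, rfl⟩
          exact hle (Subgroup.mem_sup_right hy)
        have hm : ⁅(⟨a, hPH ha⟩ : H), (⟨⁅b, q⁆, hRH hbq⟩ : H)⁆ ∈ Hd :=
          Subgroup.commutator_mem_commutator (Subgroup.mem_top _) (Subgroup.mem_top _)
        have := mul_mem (hdR ⟨_, hm, rfl⟩) hbq
        simpa [commutatorElement_def, mul_assoc] using this
    rw [Subgroup.commutator_le]
    intro h hh q hq
    obtain ⟨a, ha, b, hb, rfl⟩ := hPR h hh
    have haq : a * q * a⁻¹ = q := by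
      rw [← Subgroup.mem_centralizer_iff.1 (hPfix ha) q hq, mul_inv_cancel_right]
    have e : ⁅a * b, q⁆ = a * ⁅b, q⁆ * a⁻¹ := by
      calc ⁅a * b, q⁆ = a * ⁅b, q⁆ * a⁻¹ * (a * q * a⁻¹ * q⁻¹) := by
            rw [commutatorElement_def, commutatorElement_def]; group
        _ = _ := by rw [haq, mul_inv_cancel, mul_one]
    rw [e]
    exact hconj a ha b hb q hq
  exact hpR (hpM.trans (Subgroup.card_dvd_of_le hM))

/-- Coprime action on a group with cyclic Sylow subgroups: the commutator is cyclic. -/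
theorem isCyclic_commutator_of_coprime [IsZGroup H] (Q : Subgroup G)
    (hQ : Q ≤ Subgroup.normalizer (H : Set G)) : IsCyclic (⁅H, Q⁆ : Subgroup G) := by
  set D := ⁅H, H⁆ with hD
  set M := ⁅H, Q⁆ with hM
  haveI hDc : IsCyclic D := by
    haveI := IsZGroup.isCyclic_commutator (G := H)
    have e : (commutator H).map H.subtype = D := by
      rw [commutator_def, Subgroup.map_commutator, ← MonoidHom.range_eq_map, Subgroup.range_subtype]
    exact ((((commutator H).equivMapOfInjective _ H.subtype_injective).trans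
      (MulEquiv.subgroupCongr e)).isCyclic).1 inferInstance
  obtain ⟨⟨g, hgD⟩, hg⟩ := IsCyclic.exists_zpow_surjective (G := D)
  have hgen : ∀ y ∈ D, ∃ n : ℤ, g ^ n = y := fun y hy => by
    obtain ⟨n, hn⟩ := hg ⟨y, hy⟩
    exact ⟨n, congrArg Subtype.val hn⟩
  have hHD : H ≤ Subgroup.normalizer (D : Set G) :=
    le_normalizer_commutator Subgroup.le_normalizer Subgroup.le_normalizer
  have hQD : Q ≤ Subgroup.normalizer (D : Set G) := le_normalizer_commutator hQ hQ
  have hcom : ∀ h ∈ H, ∀ q ∈ Q, ∀ y ∈ D, h * (q * y * q⁻¹) * h⁻¹ = q * (h * y * h⁻¹) * q⁻¹ := by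
    intro h hh q hq y hy
    obtain ⟨i, hi⟩ := hgen _ ((Subgroup.mem_normalizer_iff.1 (hHD hh) g).1 hgD)
    obtain ⟨j, hj⟩ := hgen _ ((Subgroup.mem_normalizer_iff.1 (hQD hq) g).1 hgD)
    obtain ⟨n, rfl⟩ := hgen y hy
    have A : ∀ n : ℤ, h * g ^ n * h⁻¹ = g ^ (i * n) := fun n => by
      rw [← conj_zpow, ← hi, ← zpow_mul]
    have B : ∀ n : ℤ, q * g ^ n * q⁻¹ = g ^ (j * n) := fun n => by
      rw [← conj_zpow, ← hj, ← zpow_mul]
    rw [B, A, A, B]
    congr 1
    ring
  have hMD : M ≤ Subgroup.centralizer (D : Set G) := by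
    rw [hM, Subgroup.commutator_le]
    intro h hh q hq
    refine Subgroup.mem_centralizer_iff.2 fun y hy => ?_
    set z := h⁻¹ * y * h with hz
    have hzD : q⁻¹ * z * q ∈ D :=
      (Subgroup.mem_normalizer_iff''.1 (hQD hq) z).1 ((Subgroup.mem_normalizer_iff''.1 (hHD hh) y).1 hy)
    have e := hcom h hh q hq _ hzD
    have e1 : ⁅h, q⁆ * y * ⁅h, q⁆⁻¹ = h * (q * (h⁻¹ * (q⁻¹ * y * q) * h) * q⁻¹) * h⁻¹ := by
      rw [commutatorElement_def]; group
    have hy2 : q⁻¹ * y * q ∈ D := (Subgroup.mem_normalizer_iff''.1 (hQD hq) y).1 hy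
    have hy3 : h⁻¹ * (q⁻¹ * y * q) * h ∈ D := (Subgroup.mem_normalizer_iff''.1 (hHD hh) _).1 hy2
    rw [hcom h hh q hq _ hy3, show h * (h⁻¹ * (q⁻¹ * y * q) * h) * h⁻¹ = q⁻¹ * y * q by group,
      show q * (q⁻¹ * y * q) * q⁻¹ = y by group] at e1
    exact (mul_inv_eq_iff_eq_mul.1 e1).symm
  have hMH : M ≤ H := commutator_le_of_le_normalizer hQ
  haveI : IsZGroup M := IsZGroup.of_injective (f := Subgroup.inclusion hMH) (Subgroup.inclusion_injective hMH)
  haveI : Group.IsNilpotent M := by
    refine Subgroup.isNilpotent_of_ker_le_center (Abelianization.of (G := M)) ?_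
    rw [Abelianization.ker_of]
    intro x hx
    have hxD : (x : G) ∈ D := by
      have h1 : (x : G) ∈ (commutator M).map M.subtype := ⟨x, hx, rfl⟩
      rw [commutator_def, Subgroup.map_commutator, ← MonoidHom.range_eq_map,
        Subgroup.range_subtype] at h1
      exact Subgroup.commutator_mono hMH hMH h1
    exact Subgroup.mem_center_iff.2 fun y =>
      Subtype.ext (Subgroup.mem_centralizer_iff.1 (hMD y.2) _ hxD).symm
  infer_instance

end CfsgLib.TIHall
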