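import Cfsg.Agent.Lib.FgsClassMaxP
import Cfsg.Agent.Lib.CoreOmega
import Cfsg.Agent.Lib.FgsTIHall
import Mathlib.GroupTheory.SpecificGroups.Dihedral
import Mathlib.GroupTheory.IndexNormal

/-!
# Groups with restricted `p`-by-cyclic subgroups
-/

set_option autoImplicit false

universe u

namespace CfsgLib.Restricted

open scoped Pointwise

variable {G : Type u} [Group G] [Finite G] {p : ℕ} [hp : Fact p.Prime]

/-- The hypothesis on the subgroups. -/
def Cond (p : ℕ) (H : Subgroup G) : Prop :=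
  (∀ S : Sylow p ↥H, (S : Subgroup ↥H).Normal) →
    (∀ (S : Sylow p ↥H) [(S : Subgroup ↥H).Normal], IsCyclic (↥H ⧸ (S : Subgroup ↥H))) →
    IsCyclic H ∨ (∃ n : ℕ, Nonempty (H ≃* DihedralGroup (p ^ n)))

theorem sylow_facts {H T : Subgroup G} (hTH : T ≤ H) (hT : IsPGroup p T)
    (hn : H ≤ Subgroup.normalizer (T : Set G)) (hidx : ¬ p ∣ T.relIndex H) (S : Sylow p ↥H) :
    (S : Subgroup ↥H) = T.subgroupOf H := by
  haveI : (T.subgroupOf H).Normal := (Subgroup.normal_subgroupOf_iff_le_normalizer hTH).2 hn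
  have hTp : IsPGroup p (T.subgroupOf H) := hT.comap_of_injective H.subtype H.subtype_injective
  obtain ⟨S', hS'⟩ : ∃ S' : Sylow p ↥H, (S' : Subgroup ↥H) = T.subgroupOf H :=
    ⟨hTp.toSylow hidx, rfl⟩
  haveI : Unique (Sylow p ↥H) := Sylow.unique_of_normal S' (hS' ▸ ‹(T.subgroupOf H).Normal›)
  rw [Subsingleton.elim S S', hS']

/-- Applying the hypothesis to a `p`-group extended by a cyclic group. -/
theorem apply_cond (h : ∀ H : Subgroup G, Cond p H) {T : Subgroup G} (hT : IsPGroup p T) {w : G}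
    (hw : w ∈ Subgroup.normalizer (T : Set G)) (hidx : ¬ p ∣ T.relIndex (Subgroup.zpowers w ⊔ T)) :
    IsCyclic ↥(Subgroup.zpowers w ⊔ T) ∨
      ∃ n : ℕ, Nonempty (↥(Subgroup.zpowers w ⊔ T) ≃* DihedralGroup (p ^ n)) := by
  set H := Subgroup.zpowers w ⊔ T with hH
  have hn : H ≤ Subgroup.normalizer (T : Set G) :=
    sup_le (Subgroup.zpowers_le.2 hw) Subgroup.le_normalizer
  have hS := sylow_facts (le_sup_right : T ≤ H) hT hn hidx
  haveI : (T.subgroupOf H).Normal := (Subgroup.normal_subgroupOf_iff_le_normalizer le_sup_right).2 hn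
  refine h H (fun S => by rw [hS S]; infer_instance) fun S _ => ?_
  refine ⟨⟨QuotientGroup.mk' _ ⟨w, Subgroup.mem_sup_left (Subgroup.mem_zpowers w)⟩, fun c => ?_⟩⟩
  obtain ⟨⟨x, hx⟩, rfl⟩ := QuotientGroup.mk'_surjective (S : Subgroup ↥H) c
  obtain ⟨_, ⟨i, rfl⟩, b, hb, rfl⟩ :=
    (CfsgLib.Core.mem_sup_iff_of_le_normalizer (Subgroup.zpowers_le.2 hw)).1 (show x ∈ Subgroup.zpowers w ⊔ T from hx)
  refine ⟨i, ?_⟩
  show (QuotientGroup.mk' _ _) ^ i = _
  rw [← map_zpow]
  refine QuotientGroup.eq.2 ?_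
  rw [hS S, Subgroup.mem_subgroupOf]
  simpa using hb

omit hp in
theorem dihedral_iso {H : Subgroup G} {a v : G} {m : ℕ} [NeZero m] (ha : orderOf a = m) (hv : v * v = 1)
    (hinv : v * a * v⁻¹ = a⁻¹) (haH : a ∈ H) (hvH : v ∈ H) (hcard : Nat.card H = 2 * m)
    (hgen : H ≤ Subgroup.zpowers v ⊔ Subgroup.zpowers a) : Nonempty (H ≃* DihedralGroup m) := by
  let g : ZMod m → G := fun i => a ^ i.val
  have hg : ∀ i j, g (i + j) = g i * g j := fun i j => by
    show a ^ (i + j).val = a ^ i.val * a ^ j.val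
    rw [← pow_add, ZMod.val_add, ← pow_mod_orderOf a (i.val + j.val), ha]
  have hg0 : g 0 = 1 := by simp [g]
  have hgn : ∀ i, g (-i) = (g i)⁻¹ := fun i => by
    rw [eq_inv_iff_mul_eq_one, ← hg, neg_add_cancel, hg0]
  have hgs : ∀ i j, g (j - i) = (g i)⁻¹ * g j := fun i j => by rw [sub_eq_neg_add, hg, hgn]
  have hvi : v⁻¹ = v := inv_eq_of_mul_eq_one_right hv
  have hvg : ∀ i, v * g i = (g i)⁻¹ * v := fun i => by
    have h1 : v * g i * v⁻¹ = (g i)⁻¹ := by
      show v * a ^ i.val * v⁻¹ = (a ^ i.val)⁻¹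
      rw [← conj_pow, hinv, inv_pow]
    rw [← h1, inv_mul_cancel_right]
  have hgv : ∀ i, g i * v = v * (g i)⁻¹ := fun i => by
    rw [← hgn i, hvg, hgn, inv_inv]
  let f : DihedralGroup m → G := fun x => match x with
    | .r i => g i
    | .sr i => v * g i
  let φ : DihedralGroup m →* G := MonoidHom.mk' f (by
    rintro (i | i) (j | j)
    · rw [DihedralGroup.r_mul_r]; exact hg i j
    · rw [DihedralGroup.r_mul_sr]
      show v * g (j - i) = g i * (v * g j)
      rw [hgs, ← mul_assoc, ← mul_assoc, hgv]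
    · rw [DihedralGroup.sr_mul_r]
      show v * g (i + j) = v * g i * g j
      rw [hg, mul_assoc]
    · rw [DihedralGroup.sr_mul_sr]
      show g (j - i) = v * g i * (v * g j)
      rw [hgs, hvg]
      simp only [mul_assoc]
      rw [← mul_assoc v v, hv, one_mul])
  have hle : φ.range ≤ H := by
    rintro _ ⟨(i | i), rfl⟩
    · exact pow_mem haH _
    · exact mul_mem hvH (pow_mem haH _)
  have hge : H ≤ φ.range := by
    refine hgen.trans (sup_le (Subgroup.zpowers_le.2 ⟨.sr 0, ?_⟩) (Subgroup.zpowers_le.2 ⟨.r 1, ?_⟩))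
    · show v * g 0 = v
      rw [hg0, mul_one]
    · show a ^ (1 : ZMod m).val = a
      rcases eq_or_ne m 1 with hm | hm
      · rw [orderOf_eq_one_iff.1 (ha.trans hm)]; simp
      · haveI : Fact (1 < m) := ⟨by have := NeZero.ne m; omega⟩
        rw [ZMod.val_one, pow_one]
  let ψ : DihedralGroup m →* H := φ.codRestrict H fun x => hle ⟨x, rfl⟩
  have hsurj : Function.Surjective ψ := fun ⟨x, hx⟩ => by
    obtain ⟨y, hy⟩ := hge hx
    exact ⟨y, Subtype.ext hy⟩
  exact ⟨(MulEquiv.ofBijective ψ (hsurj.bijective_of_nat_card_le (by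
    rw [DihedralGroup.nat_card, hcard]))).symm⟩

theorem isCyclic_sylow (h : ∀ H : Subgroup G, Cond p H) (hp2 : p ≠ 2) (P : Sylow p G) : IsCyclic P := by
  rcases apply_cond h P.2 (w := 1) (one_mem _) (by
      rw [Subgroup.zpowers_one_eq_bot, bot_sup_eq, Subgroup.relIndex_self]
      exact hp.out.not_dvd_one) with hc | ⟨n, ⟨e⟩⟩
  · have he : Subgroup.zpowers (1 : G) ⊔ (P : Subgroup G) = P := by simp
    exact (MulEquiv.subgroupCongr he).isCyclic.1 hc
  · exfalso
    obtain ⟨k, hk⟩ := IsPGroup.iff_card.1 P.2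
    have h1 := Nat.card_congr e.toEquiv
    rw [Subgroup.zpowers_one_eq_bot, bot_sup_eq, hk, DihedralGroup.nat_card] at h1
    exact hp2 ((Nat.prime_dvd_prime_iff_eq Nat.prime_two hp.out).1
      (Nat.prime_two.dvd_of_dvd_pow (h1 ▸ Dvd.intro _ rfl))).symm

omit hp in
theorem eq_of_card {A Q R : Subgroup G} [IsCyclic A] (hQ : Q ≤ A) (hR : R ≤ A)
    (h : Nat.card Q = Nat.card R) : Q = R := by
  have h1 : Q.subgroupOf A = R.subgroupOf A := CfsgLib.TIHall.cyclic_eq_of_card (by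
    rw [Nat.card_congr (Subgroup.subgroupOfEquivOfLe hQ).toEquiv,
      Nat.card_congr (Subgroup.subgroupOfEquivOfLe hR).toEquiv, h])
  rw [← Subgroup.map_subgroupOf_eq_of_le hQ, h1, Subgroup.map_subgroupOf_eq_of_le hR]

theorem centralizes {A Q : Subgroup G} [IsCyclic A] (hA : IsPGroup p A) (hp2 : p ≠ 2) (hQA : Q ≤ A)
    (hQ : Nat.card Q = p) {y : G} (hy : y ∈ Subgroup.normalizer (A : Set G))
    (hyo : (orderOf y).Coprime p) (hyQ : y ∈ Subgroup.centralizer (Q : Set G)) :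
    y ∈ Subgroup.centralizer (A : Set G) := by
  refine CfsgLib.Core.mem_centralizer_of_fixes_omega hA hy hyo fun x hx hxp => ?_
  rcases hxp with hxp | ⟨h2, -⟩
  swap; · exact absurd h2 hp2
  by_cases hx1 : x = 1
  · rw [hx1, mul_one, mul_inv_cancel]
  have hxQ : x ∈ Q := eq_of_card (Subgroup.zpowers_le.2 hx) hQA
    (by rw [Nat.card_zpowers, orderOf_eq_prime hxp hx1, hQ]) ▸ Subgroup.mem_zpowers x
  rw [← Subgroup.mem_centralizer_iff.1 hyQ x hxQ, mul_inv_cancel_right]

theorem mem_sylow_of_normalizes (P : Sylow p G) {u : G} {k : ℕ} (hk : u ^ p ^ k = 1)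
    (hu : u ∈ Subgroup.normalizer ((P : Subgroup G) : Set G)) : u ∈ (P : Subgroup G) := by
  have hup : IsPGroup p (Subgroup.zpowers u) := by
    rintro ⟨_, i, rfl⟩
    refine ⟨k, Subtype.ext ?_⟩
    rw [SubgroupClass.coe_pow, OneMemClass.coe_one, ← zpow_natCast, ← zpow_mul, mul_comm, zpow_mul,
      zpow_natCast, hk, one_zpow]
  have h := P.3 (hup.to_sup_of_normal_right' P.2 (Subgroup.zpowers_le.2 hu)) le_sup_right
  exact h.le (Subgroup.mem_sup_left (Subgroup.mem_zpowers u))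

theorem centralizes_sylow (hp2 : p ≠ 2) (P : Sylow p G) [IsCyclic (P : Subgroup G)] {Q : Subgroup G}
    (hQP : Q ≤ (P : Subgroup G)) (hQ : Nat.card Q = p) {z : G}
    (hz : z ∈ Subgroup.normalizer ((P : Subgroup G) : Set G)) (hzQ : z ∈ Subgroup.centralizer (Q : Set G)) :
    z ∈ Subgroup.centralizer ((P : Subgroup G) : Set G) := by
  obtain ⟨i, j, he, ⟨k, hk⟩, hj⟩ := CfsgLib.ClassMaxP.exists_decomp (p := p) z
  have hu : z ^ i ∈ Subgroup.centralizer ((P : Subgroup G) : Set G) := by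
    letI : CommGroup (P : Subgroup G) := IsCyclic.commGroup
    rw [Subgroup.mem_centralizer_iff]
    intro w hw
    exact congrArg Subtype.val (mul_comm (⟨w, hw⟩ : (P : Subgroup G))
      ⟨z ^ i, mem_sylow_of_normalizes P hk (zpow_mem hz i)⟩)
  rw [he]
  exact mul_mem hu (centralizes P.2 hp2 hQP hQ (zpow_mem hz j) hj (zpow_mem hzQ j))

omit hp in
theorem le_centralizer_of_cyclic {A Q : Subgroup G} [IsCyclic A] (hQA : Q ≤ A) :
    A ≤ Subgroup.centralizer (Q : Set G) := by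
  letI : CommGroup A := IsCyclic.commGroup
  exact fun a ha => Subgroup.mem_centralizer_iff.2 fun q hq =>
    congrArg Subtype.val (mul_comm (⟨q, hQA hq⟩ : A) ⟨a, ha⟩)

theorem mem_normalizer_of_cyclic {A Q : Subgroup G} [IsCyclic A] (hQA : Q ≤ A) {y : G}
    (hy : y ∈ Subgroup.normalizer (A : Set G)) : y ∈ Subgroup.normalizer (Q : Set G) := by
  have h1 : Q.map (MulAut.conj y).toMonoidHom ≤ A := by
    rintro _ ⟨q, hq, rfl⟩
    exact (Subgroup.mem_normalizer_iff.1 hy q).1 (hQA hq)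
  have h2 : MulAut.conj y • Q = Q := by
    rw [CfsgLib.Core.conj_smul_eq_map]
    exact eq_of_card h1 hQA (Subgroup.card_map_of_injective (MulAut.conj y).injective)
  exact CfsgLib.Core.conj_smul_eq_self_iff.1 h2

theorem involution_inverts (h : ∀ H : Subgroup G, Cond p H) (hp2 : p ≠ 2) {Q : Subgroup G}
    (hQ : Nat.card Q = p) {x : G} (hx : x ∈ Subgroup.normalizer (Q : Set G))
    (hxC : x ∉ Subgroup.centralizer (Q : Set G)) :
    orderOf x = 2 ∧ ∀ c ∈ Subgroup.centralizer (Q : Set G), x * c * x⁻¹ = c⁻¹ := by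
  haveI : IsCyclic Q := isCyclic_of_prime_card hQ
  have key : ∀ x ∈ Subgroup.normalizer (Q : Set G), x ∉ Subgroup.centralizer (Q : Set G) → orderOf x = 2 := by
    intro x hx hxC
    obtain ⟨i, j, he, ⟨k, hk⟩, hj⟩ := CfsgLib.ClassMaxP.exists_decomp (p := p) x
    set T := Subgroup.zpowers (x ^ i) ⊔ Q with hT
    have hTp : IsPGroup p T := by
      refine IsPGroup.to_sup_of_normal_right' ?_ (IsPGroup.of_card (n := 1) (by rw [hQ, pow_one]))
        (Subgroup.zpowers_le.2 (zpow_mem hx i))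
      rintro ⟨_, l, rfl⟩
      refine ⟨k, Subtype.ext ?_⟩
      rw [SubgroupClass.coe_pow, OneMemClass.coe_one, ← zpow_natCast, ← zpow_mul, mul_comm l, zpow_mul,
        zpow_natCast, hk, one_zpow]
    have hiT : x ^ i ∈ T := Subgroup.mem_sup_left (Subgroup.mem_zpowers _)
    have hxT : x ∈ Subgroup.normalizer (T : Set G) := by
      have h1 : MulAut.conj x • T = T := by
        rw [CfsgLib.Core.conj_smul_eq_map, hT, Subgroup.map_sup, ← CfsgLib.Core.conj_smul_eq_map x Q,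
          CfsgLib.Core.conj_smul_of_mem_normalizer hx, MonoidHom.map_zpowers]
        congr 2
        show x * x ^ i * x⁻¹ = x ^ i
        group
      exact CfsgLib.Core.conj_smul_eq_self_iff.1 h1
    have hidx : ¬ p ∣ T.relIndex (Subgroup.zpowers x ⊔ T) := by
      have h1 : Subgroup.zpowers x ⊔ T = Subgroup.zpowers (x ^ j) ⊔ T := by
        refine le_antisymm (sup_le (Subgroup.zpowers_le.2 ?_) le_sup_right)
          (sup_le ((Subgroup.zpowers_le.2 (zpow_mem (Subgroup.mem_zpowers x) j)).trans le_sup_left) le_sup_right)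
        have h2 : x ^ i * x ^ j ∈ Subgroup.zpowers (x ^ j) ⊔ T :=
          mul_mem (Subgroup.mem_sup_right hiT) (Subgroup.mem_sup_left (Subgroup.mem_zpowers _))
        rwa [← he] at h2
      rw [h1, CfsgLib.Core.relIndex_sup_eq_of_le_normalizer (Subgroup.zpowers_le.2 (zpow_mem hxT j))]
      intro hd
      refine hp.out.ne_one (Nat.eq_one_of_dvd_coprimes hj (hd.trans ?_) dvd_rfl)
      rw [← Nat.card_zpowers]
      exact Dvd.intro_left _ (CfsgLib.Core.card_inf_mul_relIndex _ _)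
    obtain ⟨⟨q, hq⟩, hq1⟩ := exists_prime_orderOf_dvd_card' (G := Q) p (by rw [hQ])
    have hqgen : Subgroup.zpowers q = Q := Subgroup.eq_of_le_of_card_ge (Subgroup.zpowers_le.2 hq)
      (by rw [Nat.card_zpowers, ← Subgroup.orderOf_mk q hq, hq1, hQ])
    have hxq : x * q ≠ q * x := fun e => hxC (Subgroup.mem_centralizer_iff.2 fun c hc => by
      rw [← hqgen] at hc
      obtain ⟨l, rfl⟩ := Subgroup.mem_zpowers_iff.1 hc
      exact ((show Commute q x from e.symm).zpow_left l).eq)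
    have hxH : x ∈ Subgroup.zpowers x ⊔ T := Subgroup.mem_sup_left (Subgroup.mem_zpowers x)
    have hqH : q ∈ Subgroup.zpowers x ⊔ T := Subgroup.mem_sup_right (Subgroup.mem_sup_right hq)
    rcases apply_cond h hTp hxT hidx with hc | ⟨n, ⟨e⟩⟩
    · letI : CommGroup ↥(Subgroup.zpowers x ⊔ T) := IsCyclic.commGroup
      exact absurd (congrArg Subtype.val (mul_comm (⟨x, hxH⟩ : ↥(Subgroup.zpowers x ⊔ T)) ⟨q, hqH⟩)) hxq
    · have hqo : orderOf (e ⟨q, hqH⟩) = p := by
        rw [e.orderOf_eq, Subgroup.orderOf_mk, ← Subgroup.orderOf_mk q hq, hq1]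
      cases hxe : e ⟨x, hxH⟩ with
      | r a =>
        exfalso
        cases hqe : e ⟨q, hqH⟩ with
        | r b =>
          apply hxq
          have : e (⟨x, hxH⟩ * ⟨q, hqH⟩) = e (⟨q, hqH⟩ * ⟨x, hxH⟩) := by
            rw [map_mul, map_mul, hxe, hqe, DihedralGroup.r_mul_r, DihedralGroup.r_mul_r, add_comm]
          exact congrArg Subtype.val (e.injective this)
        | sr b => rw [hqe, DihedralGroup.orderOf_sr] at hqo; exact hp2 hqo.symm
      | sr a =>
        rw [← Subgroup.orderOf_mk x hxH, ← e.orderOf_eq, hxe, DihedralGroup.orderOf_sr]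
  refine ⟨key x hx hxC, fun c hc => ?_⟩
  have h1 : x * c ∈ Subgroup.normalizer (Q : Set G) := mul_mem hx (Subgroup.centralizer_le_normalizer _ hc)
  have h2 : x * c ∉ Subgroup.centralizer (Q : Set G) := fun h => hxC (by
    have := mul_mem h (inv_mem hc)
    rwa [mul_inv_cancel_right] at this)
  have h3 := pow_orderOf_eq_one (x * c)
  have h4 := pow_orderOf_eq_one x
  rw [key _ h1 h2, pow_two] at h3
  rw [key _ hx hxC, pow_two] at h4
  rw [inv_eq_of_mul_eq_one_right h4, eq_inv_iff_mul_eq_one]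
  rw [show x * c * x * c = x * c * (x * c) by group, h3]

theorem forward (h : ∀ H : Subgroup G, Cond p H) (hp2 : p ≠ 2) (P : Sylow p G)
    (hne : Subgroup.normalizer ((P : Subgroup G) : Set G) ≠ Subgroup.centralizer ((P : Subgroup G) : Set G)) :
    (Subgroup.centralizer ((P : Subgroup G) : Set G)).relIndex (Subgroup.normalizer ((P : Subgroup G) : Set G)) = 2 ∧
      ∀ Q : Subgroup G, Q ≤ P → Nat.card Q = p →
        IsMulCommutative ↥(Subgroup.centralizer (Q : Set G)) ∧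
        ∀ x : G, x ∈ Subgroup.normalizer (Q : Set G) → x ∉ Subgroup.centralizer (Q : Set G) →
          orderOf x = 2 ∧ ∀ c : G, c ∈ Subgroup.centralizer (Q : Set G) → x * c * x⁻¹ = c⁻¹ := by
  haveI := isCyclic_sylow h hp2 P
  set N := Subgroup.normalizer ((P : Subgroup G) : Set G) with hN
  set C := Subgroup.centralizer ((P : Subgroup G) : Set G) with hC
  obtain ⟨y, hyN, hyC⟩ : ∃ y ∈ N, y ∉ C := SetLike.exists_of_lt
    (lt_of_le_of_ne (Subgroup.centralizer_le_normalizer _) hne.symm)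
  have hP1 : (P : Subgroup G) ≠ ⊥ := fun e => hyC (by
    rw [hC, Subgroup.mem_centralizer_iff]
    intro z hz
    rw [e] at hz
    rw [Subgroup.mem_bot.1 hz, one_mul, mul_one])
  obtain ⟨k, hk⟩ := IsPGroup.iff_card.1 P.2
  have hk0 : k ≠ 0 := fun e => hP1 (Subgroup.card_eq_one.1 (by rw [hk, e, pow_zero]))
  obtain ⟨⟨q, hq⟩, hqo⟩ := exists_prime_orderOf_dvd_card' (G := (P : Subgroup G)) p (hk ▸ dvd_pow_self p hk0)
  set Q₀ := Subgroup.zpowers q with hQ₀
  have hQ₀P : Q₀ ≤ (P : Subgroup G) := Subgroup.zpowers_le.2 hq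
  have hQ₀c : Nat.card Q₀ = p := by rw [hQ₀, Nat.card_zpowers, ← Subgroup.orderOf_mk q hq, hqo]
  have hyQ : y ∉ Subgroup.centralizer (Q₀ : Set G) := fun e => hyC (centralizes_sylow hp2 P hQ₀P hQ₀c hyN e)
  refine ⟨?_, fun Q hQP hQ => ?_⟩
  · rw [Subgroup.relIndex, Subgroup.index_eq_two_iff]
    refine ⟨⟨y, hyN⟩, fun b => ?_⟩
    simp only [Subgroup.mem_subgroupOf, Subgroup.coe_mul]
    by_cases hb : (b : G) ∈ C
    · refine Or.inr ⟨hb, fun e => hyC ?_⟩
      have := mul_mem (inv_mem hb) e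
      rwa [inv_mul_cancel_left] at this
    · refine Or.inl ⟨?_, hb⟩
      refine centralizes_sylow hp2 P hQ₀P hQ₀c (mul_mem b.2 hyN) (Subgroup.mem_centralizer_iff.2 fun c hc => ?_)
      have hcC : c ∈ Subgroup.centralizer (Q₀ : Set G) := by
        haveI : IsCyclic Q₀ := isCyclic_of_prime_card hQ₀c
        exact le_centralizer_of_cyclic le_rfl hc
      have hbQ : (b : G) ∉ Subgroup.centralizer (Q₀ : Set G) := fun e =>
        hb (centralizes_sylow hp2 P hQ₀P hQ₀c b.2 e)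
      have e1 := (involution_inverts h hp2 hQ₀c (mem_normalizer_of_cyclic hQ₀P b.2) hbQ).2 c⁻¹ (inv_mem hcC)
      have e2 := (involution_inverts h hp2 hQ₀c (mem_normalizer_of_cyclic hQ₀P hyN) hyQ).2 c hcC
      rw [inv_inv] at e1
      have e3 : (b : G) * y * c * ((b : G) * y)⁻¹ = c := by
        rw [show (b : G) * y * c * ((b : G) * y)⁻¹ = (b : G) * (y * c * y⁻¹) * (b : G)⁻¹ by group, e2, e1]
      exact (mul_inv_eq_iff_eq_mul.1 e3).symm
  · have hQe : Q = Q₀ := eq_of_card hQP hQ₀P (hQ.trans hQ₀c.symm)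
    subst hQe
    refine ⟨⟨⟨fun a b => Subtype.ext ?_⟩⟩, fun x hx hxC => involution_inverts h hp2 hQ hx hxC⟩
    have hinv := (involution_inverts h hp2 hQ (mem_normalizer_of_cyclic hQP hyN) hyQ).2
    have h1 := hinv _ (mul_mem a.2 b.2)
    rw [show y * ((a : G) * b) * y⁻¹ = (y * a * y⁻¹) * (y * b * y⁻¹) by group, hinv _ a.2, hinv _ b.2,
      mul_inv_rev] at h1
    show (a : G) * b = b * a
    have h2 := congrArg Inv.inv h1
    simpa using h2.symm

theorem backward (hp2 : p ≠ 2) (P : Sylow p G) [IsCyclic (P : Subgroup G)]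
    (hcase : Subgroup.normalizer ((P : Subgroup G) : Set G) = Subgroup.centralizer ((P : Subgroup G) : Set G) ∨
      ∀ Q : Subgroup G, Q ≤ P → Nat.card Q = p →
          ∀ x : G, x ∈ Subgroup.normalizer (Q : Set G) → x ∉ Subgroup.centralizer (Q : Set G) →
            orderOf x = 2 ∧ ∀ c : G, c ∈ Subgroup.centralizer (Q : Set G) → x * c * x⁻¹ = c⁻¹)
    {T : Subgroup G} (hTP : T ≤ (P : Subgroup G)) (hT1 : T ≠ ⊥) {v : G}
    (hv : v ∈ Subgroup.normalizer (T : Set G)) (hvo : (orderOf v).Coprime p) :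
    IsCyclic ↥(Subgroup.zpowers v ⊔ T) ∨
      ∃ n : ℕ, Nonempty (↥(Subgroup.zpowers v ⊔ T) ≃* DihedralGroup (p ^ n)) := by
  have hTp : IsPGroup p T := P.2.to_le hTP
  haveI : IsCyclic T := (Subgroup.subgroupOfEquivOfLe hTP).isCyclic.1 inferInstance
  obtain ⟨n, hn⟩ := IsPGroup.iff_card.1 hTp
  have hn0 : n ≠ 0 := fun e => hT1 (Subgroup.card_eq_one.1 (by rw [hn, e, pow_zero]))
  obtain ⟨⟨q, hq⟩, hqo⟩ := exists_prime_orderOf_dvd_card' (G := T) p (hn ▸ dvd_pow_self p hn0)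
  set Q := Subgroup.zpowers q with hQ
  have hQT : Q ≤ T := Subgroup.zpowers_le.2 hq
  have hQc : Nat.card Q = p := by rw [hQ, Nat.card_zpowers, ← Subgroup.orderOf_mk q hq, hqo]
  obtain ⟨⟨a, haT⟩, hagen⟩ := IsCyclic.exists_generator (α := T)
  have haT' : T = Subgroup.zpowers a := le_antisymm (fun t ht => by
    obtain ⟨i, hi⟩ := Subgroup.mem_zpowers_iff.1 (hagen ⟨t, ht⟩)
    exact ⟨i, congrArg Subtype.val hi⟩) (Subgroup.zpowers_le.2 haT)
  have hao : orderOf a = p ^ n := by rw [← Nat.card_zpowers, ← haT', hn]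
  have hdisj : Subgroup.zpowers v ⊓ T = ⊥ :=
    CfsgLib.Core.inf_eq_bot_of_coprime (by rw [Nat.card_zpowers, hn]; exact hvo.pow_right n)
  have hcard : Nat.card ↥(Subgroup.zpowers v ⊔ T) = orderOf v * p ^ n := by
    rw [CfsgLib.Core.card_sup_of_disjoint (Subgroup.zpowers_le.2 hv) hdisj, Nat.card_zpowers, hn]
  by_cases hvQ : v ∈ Subgroup.centralizer (Q : Set G)
  · refine Or.inl ?_
    have hva : Commute v a := (Subgroup.mem_centralizer_iff.1
      (centralizes hTp hp2 hQT hQc hv hvo hvQ) a haT).symm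
    have hmem : v * a ∈ Subgroup.zpowers v ⊔ T :=
      mul_mem (Subgroup.mem_sup_left (Subgroup.mem_zpowers v)) (Subgroup.mem_sup_right haT)
    refine isCyclic_of_orderOf_eq_card ⟨v * a, hmem⟩ ?_
    rw [Subgroup.orderOf_mk, hva.orderOf_mul_eq_mul_orderOf_of_coprime (by rw [hao]; exact hvo.pow_right n),
      hao, hcard]
  · refine Or.inr ⟨n, ?_⟩
    rcases hcase with h1 | h2
    · exfalso
      apply hvQ
      set D := Subgroup.centralizer (Q : Set G) with hD
      have hvN := mem_normalizer_of_cyclic hQT hv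
      have hPD : (P : Subgroup G) ≤ D := le_centralizer_of_cyclic (hQT.trans hTP)
      have hvD : ∀ z ∈ D, v * z * v⁻¹ ∈ D := by
        intro z hz
        rw [hD, Subgroup.mem_centralizer_iff]
        intro c hc
        have hc' := (Subgroup.mem_normalizer_iff.1 (inv_mem hvN) c).1 hc
        have h := Subgroup.mem_centralizer_iff.1 hz _ hc'
        calc c * (v * z * v⁻¹) = v * ((v⁻¹ * c * v⁻¹⁻¹) * z) * v⁻¹ := by group
          _ = v * (z * (v⁻¹ * c * v⁻¹⁻¹)) * v⁻¹ := by rw [h]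
          _ = _ := by group
      have hPD' : ((v • P : Sylow p G) : Subgroup G) ≤ D := by
        rw [Sylow.coe_subgroup_smul]
        rintro _ ⟨z, hz, rfl⟩
        exact hvD z (hPD hz)
      obtain ⟨c, hc⟩ := MulAction.exists_smul_eq D (P.subtype hPD) ((v • P).subtype hPD')
      rw [Sylow.smul_subtype hPD c] at hc
      have hcv : (c : G) • P = v • P := Sylow.subtype_injective hc
      have hmem : (c : G)⁻¹ * v ∈ Subgroup.normalizer ((P : Subgroup G) : Set G) := by
        refine Sylow.smul_eq_iff_mem_normalizer.1 ?_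
        rw [mul_smul, ← hcv, inv_smul_smul]
      rw [h1] at hmem
      have := mul_mem c.2 (Subgroup.centralizer_le (hQT.trans hTP) hmem)
      rwa [mul_inv_cancel_left] at this
    · obtain ⟨hv2, hinv⟩ := h2 Q (hQT.trans hTP) hQc v (mem_normalizer_of_cyclic hQT hv) hvQ
      haveI : NeZero (p ^ n) := ⟨(pow_pos hp.out.pos n).ne'⟩
      refine dihedral_iso hao ?_ (hinv a (le_centralizer_of_cyclic hQT haT)) (Subgroup.mem_sup_right haT)
        (Subgroup.mem_sup_left (Subgroup.mem_zpowers v)) (by rw [hcard, hv2]) (by rw [← haT'])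
      have := pow_orderOf_eq_one v
      rwa [hv2, pow_two] at this

theorem backward' (hp2 : p ≠ 2) (P : Sylow p G) [IsCyclic (P : Subgroup G)]
    (hcase : Subgroup.normalizer ((P : Subgroup G) : Set G) = Subgroup.centralizer ((P : Subgroup G) : Set G) ∨
      ∀ Q : Subgroup G, Q ≤ P → Nat.card Q = p →
          ∀ x : G, x ∈ Subgroup.normalizer (Q : Set G) → x ∉ Subgroup.centralizer (Q : Set G) →
            orderOf x = 2 ∧ ∀ c : G, c ∈ Subgroup.centralizer (Q : Set G) → x * c * x⁻¹ = c⁻¹)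
    (H : Subgroup G) : Cond p H := by
  intro hnorm hcyc
  obtain ⟨S⟩ := (inferInstance : Nonempty (Sylow p ↥H))
  haveI := hnorm S
  haveI := hcyc S
  by_cases hS1 : (S : Subgroup ↥H) = ⊥
  · refine Or.inl ?_
    have hinj : Function.Injective (QuotientGroup.mk' (S : Subgroup ↥H)) := by
      rw [← MonoidHom.ker_eq_bot_iff, QuotientGroup.ker_mk', hS1]
    exact isCyclic_of_injective _ hinj
  obtain ⟨w₀, hw₀⟩ := IsCyclic.exists_generator (α := ↥H ⧸ (S : Subgroup ↥H))
  obtain ⟨w, rfl⟩ := QuotientGroup.mk'_surjective _ w₀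
  obtain ⟨i, j, he, ⟨k, hk⟩, hj⟩ := CfsgLib.ClassMaxP.exists_decomp (p := p) w
  have hwS : w ^ i ∈ (S : Subgroup ↥H) := mem_sylow_of_normalizes S hk
    ((Subgroup.normalizer_eq_top (H := (S : Subgroup ↥H))).ge (Subgroup.mem_top _))
  set v := w ^ j with hv
  set T := (S : Subgroup ↥H).map H.subtype with hT
  have hHeq : H = Subgroup.zpowers (v : G) ⊔ T := by
    refine le_antisymm (fun x hx => ?_) (sup_le (Subgroup.zpowers_le.2 v.2) (Subgroup.map_subtype_le _))
    obtain ⟨l, hl⟩ := Subgroup.mem_zpowers_iff.1 (hw₀ (QuotientGroup.mk' _ ⟨x, hx⟩))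
    rw [he, map_mul, show QuotientGroup.mk' (S : Subgroup ↥H) (w ^ i) = 1 from
      (QuotientGroup.eq_one_iff _).2 hwS, one_mul, ← map_zpow] at hl
    have h1 : (v ^ l)⁻¹ * ⟨x, hx⟩ ∈ (S : Subgroup ↥H) := QuotientGroup.eq.1 hl
    have h2 : x = ((v ^ l : H) : G) * (((v ^ l)⁻¹ * ⟨x, hx⟩ : H) : G) := by
      rw [← Subgroup.coe_mul, mul_inv_cancel_left]
    rw [h2]
    refine mul_mem (Subgroup.mem_sup_left ?_) (Subgroup.mem_sup_right ⟨_, h1, rfl⟩)
    rw [Subgroup.coe_zpow]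
    exact zpow_mem (Subgroup.mem_zpowers _) l
  have hvN : (v : G) ∈ Subgroup.normalizer (T : Set G) := Subgroup.le_normalizer_map H.subtype
    ⟨v, (Subgroup.normalizer_eq_top (H := (S : Subgroup ↥H))).ge (Subgroup.mem_top _), rfl⟩
  obtain ⟨P', hP'⟩ := (S.2.map H.subtype).exists_le_sylow
  obtain ⟨g, hg⟩ := MulAction.exists_smul_eq G P' P
  set φ := (MulAut.conj g).toMonoidHom with hφ
  have hφi : Function.Injective φ := (MulAut.conj g).injective
  have hTP : T.map φ ≤ (P : Subgroup G) := by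
    rw [← hg, Sylow.coe_subgroup_smul]
    rintro _ ⟨t, ht, rfl⟩
    exact ⟨t, hP' ht, rfl⟩
  have hT1 : T.map φ ≠ ⊥ := by
    rw [ne_eq, Subgroup.map_eq_bot_iff_of_injective _ hφi, hT,
      Subgroup.map_eq_bot_iff_of_injective _ H.subtype_injective]
    exact hS1
  have hres := backward hp2 P hcase hTP hT1 (v := φ (v : G))
    (Subgroup.le_normalizer_map φ ⟨_, hvN, rfl⟩)
    (by rw [orderOf_injective φ hφi, Subgroup.orderOf_coe]; exact hj)
  have hmap : Subgroup.zpowers (φ (v : G)) ⊔ T.map φ = H.map φ := by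
    conv_rhs => rw [hHeq]
    rw [Subgroup.map_sup, MonoidHom.map_zpowers]
  rw [hmap] at hres
  have e : H ≃* H.map φ := H.equivMapOfInjective φ hφi
  rcases hres with hc | ⟨n, ⟨f⟩⟩
  · exact Or.inl (e.isCyclic.2 hc)
  · exact Or.inr ⟨n, ⟨e.trans f⟩⟩

end CfsgLib.Restricted
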