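import Cfsg.Agent.Lib.FgsFrobConstruct

/-!
# An embedding of `SL(2, 5)` in `SL(2, 11)`
-/

set_option autoImplicit false
set_option maxRecDepth 20000

namespace CfsgLib.Fgs.SlFiveEleven

open Matrix

abbrev S5 := SpecialLinearGroup (Fin 2) (ZMod 5)
abbrev S11 := SpecialLinearGroup (Fin 2) (ZMod 11)

/-- Codes of the images and word lengths. -/
def tab : List ℕ := [0, 0, 0, 0, 0, 0, 0, 0, 0, 0, 0, 0, 0, 0, 0, 0, 0, 0, 0, 0, 0, 0, 0, 0, 0, 0, 0, 0, 0, 0, 0, 0, 0, 0, 0, 0, 0, 0, 0, 0, 0, 0, 0, 0, 0, 44154, 98718, 90817, 85898, 62916, 0, 0, 0, 0, 0, 0, 0, 0, 0, 0, 158381, 123922, 154123, 142424, 112203, 0, 0, 0, 0, 0, 0, 0, 0, 0, 0, 0, 0, 0, 0, 0, 0, 0, 0, 0, 0, 0, 0, 0, 0, 0, 135902, 138157, 121125, 154801, 111797, 0, 0, 0, 0, 0, 0, 0, 0, 0, 0, 15862, 41034, 47334, 71697, 63796, 0, 0, 0, 0, 0, 0, 0, 0, 0, 0, 0, 0, 0, 0, 0, 0, 1332, 0, 0, 0, 0, 45663, 0, 0, 0, 0, 91613, 0,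 0, 0, 0, 94855, 0, 0, 0, 0, 76913, 0, 0, 0, 0, 16491, 0, 0, 0, 0, 0, 73203, 0, 0, 0, 0, 0, 112346, 0, 0, 0, 0, 0, 102784, 93530, 0, 0, 0, 0, 0, 32169, 0, 0, 0, 0, 0, 0, 83174, 0, 128176, 0, 0, 0, 0, 0, 0, 125662, 0, 0, 0, 0, 0, 0, 116898, 0, 51812, 0, 0, 0, 0, 0, 0, 0, 73832, 0, 0, 125772, 0, 0, 142411, 0, 0, 0, 0, 0, 0, 0, 122865, 0, 0, 62162, 0, 0, 0, 35846, 0, 0, 0, 0, 0, 0, 0, 0, 86736, 0, 0, 0, 122975, 0, 0, 0, 119796, 0, 0, 0, 0, 0, 160117, 0, 0, 0, 0, 89990, 0, 0, 0, 0, 143168, 0, 0, 0, 0, 132209, 0, 0, 0, 0, 121646, 0, 0, 0, 0, 119382, 0, 0, 66552, 0, 0, 0, 0, 0, 0, 0, 113678, 0, 0, 111225, 0, 0, 89883, 0, 0, 0, 0, 0, 0, 0, 157369, 0, 0, 0, 0, 0, 99147, 151737, 0, 0, 0, 0, 0, 129916, 0, 0, 0, 0, 0, 138243, 0, 0, 0, 0, 0, 132649, 0, 0, 0, 81503, 0, 0, 0, 130026, 0, 0, 0, 120191, 0, 0, 0, 0, 0, 0, 0, 0, 109556, 0, 0, 0, 136177, 0, 46400, 0, 0, 0, 0, 0, 0, 137803,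 0, 0, 0, 0, 0, 0, 95025, 0, 129249, 0, 0, 0, 0, 0, 148807, 0, 0, 0, 0, 99432, 0, 0, 0, 0, 132781, 0, 0, 0, 0, 136474, 0, 0, 0, 0, 131088, 0, 0, 0, 0, 128824, 0, 0, 0, 0, 0, 0, 91829, 0, 111412, 0, 0, 0, 0, 0, 0, 112557, 0, 86832, 0, 0, 0, 0, 0, 0, 146982, 0, 0, 0, 82240, 0, 0, 0, 144810, 0, 0, 0, 0, 0, 0, 0, 0, 120334, 0, 0, 0, 110293, 0, 0, 0, 136914, 0, 0, 0, 0, 0, 112117, 0, 0, 0, 0, 0, 91162, 155735, 0, 0, 0, 0, 0, 121931, 0, 0, 0, 0, 0, 145619, 0, 0, 72631, 0, 0, 0, 0, 0, 0, 0, 124494, 0, 0, 122041, 0, 0, 0, 0, 0, 0, 0, 94510, 0, 0, 0, 0, 42602, 0, 0, 0, 0, 56319, 0, 0, 0, 0, 67659, 0, 0, 0, 0, 85542, 0, 0, 0, 0, 87569, 0, 0, 0, 0, 85711, 0, 0, 0, 99830, 0, 0, 0, 112744, 0, 0, 0, 105060, 0, 0, 0, 68104, 0, 0, 0, 0, 0, 0, 0, 0, 81420, 0, 0, 98213, 0, 0, 107949, 0, 0, 0, 0, 0, 0, 0, 124588, 0, 0, 103312, 0, 0, 0, 0, 0, 0, 0, 71781, 0, 74898, 0, 0, 0, 0, 0, 0, 95416,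 0, 107543, 0, 0, 0, 0, 0, 0, 108622, 0, 0, 0, 0, 0, 0, 58177, 68984, 0, 0, 0, 0, 0, 74360, 0, 0, 0, 0, 0, 94091, 0, 0, 0, 0, 0, 89311, 0]

/-- The code of a quadruple. -/
def code (a b c d : ZMod 5) : ℕ := tab.getD (((a.val * 5 + b.val) * 5 + c.val) * 5 + d.val) 0

/-- The image of a quadruple. -/
def im (a b c d : ZMod 5) : ZMod 11 × ZMod 11 × ZMod 11 × ZMod 11 :=
  ((code a b c d / 1331 % 11 : ℕ), (code a b c d / 121 % 11 : ℕ), (code a b c d / 11 % 11 : ℕ), (code a b c d % 11 : ℕ))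

theorem im_spec : ∀ a b c d : ZMod 5, a * d - b * c = 1 →
    (im a b c d).1 * (im a b c d).2.2.2 - (im a b c d).2.1 * (im a b c d).2.2.1 = 1 ∧
    (im a b c d = (1, 0, 0, 1) → a = 1 ∧ b = 0 ∧ c = 0 ∧ d = 1) ∧
    im b (-a) d (-c) = ((im a b c d).2.1, -(im a b c d).1, (im a b c d).2.2.2, -(im a b c d).2.2.1) ∧
    im a (a + b) c (c + d) = ((im a b c d).1 + (im a b c d).2.1 * 3, (im a b c d).1 * 4 + (im a b c d).2.1 * 2, (im a b c d).2.2.1 + (im a b c d).2.2.2 * 3, (im a b c d).2.2.1 * 4 + (im a b c d).2.2.2 * 2) := by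
  decide +kernel

theorem descent : ∀ a b c d : ZMod 5, a * d - b * c = 1 → (a = 1 ∧ b = 0 ∧ c = 0 ∧ d = 1) ∨
    code (-b) a (-d) c / 14641 < code a b c d / 14641 ∨ code a (b - a) c (d - c) / 14641 < code a b c d / 14641 := by
  decide +kernel

theorem im_one : im 1 0 0 1 = (1, 0, 0, 1) := by decide +kernel

theorem det_eq (M : S5) : M.1 0 0 * M.1 1 1 - M.1 0 1 * M.1 1 0 = 1 := by
  rw [← Matrix.det_fin_two]; exact M.2

/-- The map. -/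
def toEleven (M : S5) : S11 :=
  ⟨!![(im (M.1 0 0) (M.1 0 1) (M.1 1 0) (M.1 1 1)).1, (im (M.1 0 0) (M.1 0 1) (M.1 1 0) (M.1 1 1)).2.1;
      (im (M.1 0 0) (M.1 0 1) (M.1 1 0) (M.1 1 1)).2.2.1, (im (M.1 0 0) (M.1 0 1) (M.1 1 0) (M.1 1 1)).2.2.2], by
    rw [Matrix.det_fin_two_of]; exact (im_spec _ _ _ _ (det_eq M)).1⟩

/-- The generators. -/
def genS : S5 := ⟨!![0, -1; 1, 0], by decide +kernel⟩

def genT : S5 := ⟨!![1, 1; 0, 1], by decide +kernel⟩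

def imgS : S11 := ⟨!![0, -1; 1, 0], by decide +kernel⟩

def imgT : S11 := ⟨!![1, 4; 3, 2], by decide +kernel⟩

theorem genS_val : genS.1 = !![0, -1; 1, 0] := rfl

theorem genT_val : genT.1 = !![1, 1; 0, 1] := rfl

theorem mul_genS (M : S5) : (M * genS).1 = !![M.1 0 1, -M.1 0 0; M.1 1 1, -M.1 1 0] := by
  show M.1 * !![0, -1; 1, 0] = _
  ext i j
  fin_cases i <;> fin_cases j <;> simp [Matrix.mul_apply, Fin.sum_univ_two]

theorem mul_genT (M : S5) : (M * genT).1 = !![M.1 0 0, M.1 0 0 + M.1 0 1; M.1 1 0, M.1 1 0 + M.1 1 1] := by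
  show M.1 * !![1, 1; 0, 1] = _
  ext i j
  fin_cases i <;> fin_cases j <;> simp [Matrix.mul_apply, Fin.sum_univ_two]

theorem step (M : S5) : toEleven (M * genS) = toEleven M * imgS ∧ toEleven (M * genT) = toEleven M * imgT := by
  obtain ⟨-, -, h1, h2⟩ := im_spec _ _ _ _ (det_eq M)
  constructor
  · apply Subtype.ext
    show (toEleven (M * genS)).1 = (toEleven M).1 * !![0, -1; 1, 0]
    ext i j
    fin_cases i <;> fin_cases j <;> simp [toEleven, genS_val, Matrix.mul_apply, Fin.sum_univ_two, h1]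
  · apply Subtype.ext
    show (toEleven (M * genT)).1 = (toEleven M).1 * !![1, 4; 3, 2]
    ext i j
    fin_cases i <;> fin_cases j <;> simp [toEleven, genT_val, Matrix.mul_apply, Fin.sum_univ_two, h2]

theorem map_mul : ∀ (n : ℕ) (N : S5), code (N.1 0 0) (N.1 0 1) (N.1 1 0) (N.1 1 1) / 14641 = n →
    ∀ M : S5, toEleven (M * N) = toEleven M * toEleven N := by
  intro n
  induction n using Nat.strong_induction_on with
  | _ n ih =>
    intro N hn M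
    have hone : toEleven 1 = 1 := by
      apply Subtype.ext
      simp [toEleven, im_one, Matrix.one_fin_two]
    rcases descent _ _ _ _ (det_eq N) with ⟨ha, hb, hc, hd⟩ | h | h
    · have : N = 1 := by
        apply Subtype.ext
        rw [Matrix.eta_fin_two N.1, ha, hb, hc, hd]; simp [Matrix.one_fin_two]
      rw [this, mul_one, hone, mul_one]
    · let N' : S5 := ⟨!![-N.1 0 1, N.1 0 0; -N.1 1 1, N.1 1 0], by
        rw [Matrix.det_fin_two_of]; linear_combination det_eq N⟩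
      have hN : N = N' * genS := by
        apply Subtype.ext
        rw [mul_genS]
        conv_lhs => rw [Matrix.eta_fin_two N.1]
        simp [N']
      have hlt : code (N'.1 0 0) (N'.1 0 1) (N'.1 1 0) (N'.1 1 1) / 14641 < n := by
        rw [← hn]; simpa [N'] using h
      rw [hN, ← mul_assoc, (step _).1, (step _).1, ih _ hlt N' rfl M, mul_assoc]
    · let N' : S5 := ⟨!![N.1 0 0, N.1 0 1 - N.1 0 0; N.1 1 0, N.1 1 1 - N.1 1 0], by
        rw [Matrix.det_fin_two_of]; linear_combination det_eq N⟩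
      have hN : N = N' * genT := by
        apply Subtype.ext
        rw [mul_genT]
        conv_lhs => rw [Matrix.eta_fin_two N.1]
        simp [N']
      have hlt : code (N'.1 0 0) (N'.1 0 1) (N'.1 1 0) (N'.1 1 1) / 14641 < n := by
        rw [← hn]; simpa [N'] using h
      rw [hN, ← mul_assoc, (step _).2, (step _).2, ih _ hlt N' rfl M, mul_assoc]

/-- The embedding. -/
def hom : S5 →* S11 := MonoidHom.mk' toEleven fun M N => map_mul _ N rfl M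

theorem hom_injective : Function.Injective hom := by
  rw [injective_iff_map_eq_one]
  intro M hM
  have h : ∀ i j, (toEleven M).1 i j = (1 : Matrix (Fin 2) (Fin 2) (ZMod 11)) i j := fun i j =>
    congrFun (congrFun (congrArg Subtype.val hM) i) j
  have e : im (M.1 0 0) (M.1 0 1) (M.1 1 0) (M.1 1 1) = (1, 0, 0, 1) :=
    Prod.ext (by simpa [toEleven] using h 0 0) (Prod.ext (by simpa [toEleven] using h 0 1)
      (Prod.ext (by simpa [toEleven] using h 1 0) (by simpa [toEleven] using h 1 1)))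
  obtain ⟨a, b, c, d⟩ := (im_spec _ _ _ _ (det_eq M)).2.1 e
  apply Subtype.ext
  rw [Matrix.eta_fin_two M.1, a, b, c, d]
  simp [Matrix.one_fin_two]

end CfsgLib.Fgs.SlFiveEleven
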