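import Mathlib
import Cfsg.Agent.Lib.SmallSimple
import Cfsg.Agent.Lib.CoreCoprime

/-!
At most p ^ 2 Sylow p-subgroups: the intersection of two distinct Sylow subgroups has index p and is normal.
-/

set_option autoImplicit false

namespace CfsgLib.FewSylow

open Subgroup
open scoped Pointwise

universe u
variable {G : Type u} [Group G] [Finite G] {p : ℕ} [hp : Fact p.Prime]


theorem card_eq (P R : Sylow p G) : Nat.card (P : Subgroup G) = Nat.card (R : Subgroup G) := by
  rw [P.card_eq_multiplicity, R.card_eq_multiplicity]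

variable (h : Nat.card (Sylow p G) ≤ p * p)

omit [Finite G] in
theorem stabilizer_eq (P R : Sylow p G) :
    MulAction.stabilizer (P : Subgroup G) R = ((R : Subgroup G)).subgroupOf P := by
  ext x
  rw [MulAction.mem_stabilizer_iff, Subgroup.mem_subgroupOf]
  show ((x : G) • R = R) ↔ _
  rw [Sylow.smul_eq_iff_mem_normalizer]
  refine ⟨fun hx => ?_, fun hx => Subgroup.le_normalizer hx⟩
  have : (x : G) ∈ (P : Subgroup G) ⊓ normalizer ((R : Subgroup G) : Set G) := ⟨x.2, hx⟩
  exact ((P.2.inf_normalizer_sylow R).le this).2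

include h in
theorem orbit_card (P R : Sylow p G) (hne : R ≠ P) :
    Nat.card (MulAction.orbit (P : Subgroup G) R) = p ∧ (R : Subgroup G).relIndex P = p ∧
      P ∉ MulAction.orbit (P : Subgroup G) R := by
  have hfix : ∀ x : (P : Subgroup G), x • P = P := fun x => by
    show (x : G) • P = P
    rw [Sylow.smul_eq_iff_mem_normalizer]
    exact Subgroup.le_normalizer x.2
  have hP : P ∉ MulAction.orbit (P : Subgroup G) R := fun ⟨x, hx⟩ => by
    refine hne ?_
    have := congrArg (fun S => x⁻¹ • S) hx
    simp only [inv_smul_smul] at this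
    rw [this, hfix]
  obtain ⟨a, ha⟩ := (P.2).card_orbit R
  have hlt : Nat.card (MulAction.orbit (P : Subgroup G) R) < p * p := by
    refine lt_of_lt_of_le ?_ h
    exact Set.ncard_lt_card (fun e => hP (e ▸ Set.mem_univ P))
  have hrel : (R : Subgroup G).relIndex P = Nat.card (MulAction.orbit (P : Subgroup G) R) := by
    rw [Subgroup.relIndex, ← stabilizer_eq, MulAction.index_stabilizer]
    rfl
  rw [ha] at hlt
  rcases a with _ | _ | a
  · exfalso
    rw [ha, pow_zero, Subgroup.relIndex_eq_one] at hrel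
    exact hne (Sylow.ext (Subgroup.eq_of_le_of_card_ge hrel (card_eq P R).ge).symm)
  · exact ⟨by rw [ha, zero_add, pow_one], by rw [hrel, ha, zero_add, pow_one], hP⟩
  · exfalso
    have : p ^ 2 ≤ p ^ (a + 1 + 1) := Nat.pow_le_pow_right hp.out.pos (by omega)
    rw [sq] at this
    omega

include h in
theorem inter_card (P R : Sylow p G) (hne : R ≠ P) :
    Nat.card ↥((P : Subgroup G) ⊓ R) * p = Nat.card (P : Subgroup G) := by
  have h1 : (R : Subgroup G).relIndex P = p := (orbit_card h P R hne).2.1
  have h2 : Nat.card ↥((P : Subgroup G) ⊓ R) * ((P : Subgroup G) ⊓ R).relIndex P = Nat.card (P : Subgroup G) := by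
    rw [Subgroup.relIndex, ← Nat.card_congr (Subgroup.subgroupOfEquivOfLe (inf_le_left :
      (P : Subgroup G) ⊓ R ≤ P)).toEquiv, Subgroup.card_mul_index]
  rw [Subgroup.inf_relIndex_left, h1] at h2
  exact h2

include h in
theorem inter_normal (P R : Sylow p G) (hne : R ≠ P) :
    (P : Subgroup G) ≤ normalizer (((P : Subgroup G) ⊓ R : Subgroup G) : Set G) := by
  rw [← normal_subgroupOf_iff_le_normalizer inf_le_left]
  refine Subgroup.normal_of_index_eq_minFac_card ?_
  have h5 : ((P : Subgroup G) ⊓ R).relIndex P = p := by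
    rw [Subgroup.inf_relIndex_left]; exact (orbit_card h P R hne).2.1
  rw [Subgroup.relIndex] at h5
  rw [h5]
  obtain ⟨k, hk⟩ := P.2.exists_card_eq
  have hk0 : k ≠ 0 := fun e => by
    have := inter_card h P R hne
    rw [hk, e, pow_zero] at this
    have h2 := hp.out.two_le
    have := Nat.le_mul_of_pos_left p (Nat.card_pos (α := ↥((P : Subgroup G) ⊓ R)))
    omega
  rw [hk, Nat.pow_minFac hk0, Nat.Prime.minFac_eq hp.out]

omit [Finite G] in
theorem le_of_le_normalizer {D : Subgroup G} (hD : IsPGroup p D) (R : Sylow p G)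
    (hR : (R : Subgroup G) ≤ normalizer (D : Set G)) : D ≤ (R : Subgroup G) := by
  have := R.3 (R.2.to_sup_of_normal_right' hD hR) le_sup_left
  exact le_sup_right.trans this.le

include h in
/-- Two distinct Sylow subgroups meet in a normal subgroup of the whole group. -/
theorem inter_normal_top (P₀ R₀ : Sylow p G) (hne : R₀ ≠ P₀) :
    ((P₀ : Subgroup G) ⊓ R₀).Normal := by
  classical
  haveI := Fintype.ofFinite (Sylow p G)
  set D := (P₀ : Subgroup G) ⊓ R₀ with hD
  have hDp : IsPGroup p D := P₀.2.to_le inf_le_left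
  have hR₀N : (R₀ : Subgroup G) ≤ normalizer (D : Set G) := by
    rw [hD, inf_comm]; exact inter_normal h R₀ P₀ hne.symm
  have hP₀N := inter_normal h P₀ R₀ hne
  by_cases hall : ∀ P : Sylow p G, (P : Subgroup G) ≤ normalizer (D : Set G)
  · refine ⟨fun d hd g => ?_⟩
    have hne' : g • R₀ ≠ g • P₀ := fun e => hne (smul_left_cancel g e)
    have hle : D ≤ ((g • P₀ : Sylow p G) : Subgroup G) ⊓ (g • R₀ : Sylow p G) :=
      le_inf (le_of_le_normalizer hDp _ (hall _)) (le_of_le_normalizer hDp _ (hall _))
    have heq := Subgroup.eq_of_le_of_card_ge hle (by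
      have h1 := inter_card h _ _ hne'
      have h2 := inter_card h P₀ R₀ hne
      have h3 := card_eq P₀ (g • P₀)
      rw [hD]
      exact Nat.le_of_mul_le_mul_right (h1.trans (h3.symm.trans h2.symm)).le hp.out.pos)
    rw [heq]
    exact ⟨Subgroup.mem_smul_pointwise_iff_exists _ _ _ |>.mpr ⟨d, hd.1, rfl⟩,
      Subgroup.mem_smul_pointwise_iff_exists _ _ _ |>.mpr ⟨d, hd.2, rfl⟩⟩
  · exfalso
    push Not at hall
    obtain ⟨P, hP⟩ := hall
    let B : Finset (Sylow p G) := Finset.univ.filter fun γ => (γ : Subgroup G) ≤ normalizer (D : Set G)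
    have hB : p + 1 ≤ B.card := by
      let O := (MulAction.orbit (P₀ : Subgroup G) R₀).toFinset
      obtain ⟨hO, -, hP₀O⟩ := orbit_card h P₀ R₀ hne
      have hsub : insert P₀ O ⊆ B := by
        intro γ hγ
        rw [Finset.mem_filter]
        refine ⟨Finset.mem_univ _, ?_⟩
        rw [Finset.mem_insert, Set.mem_toFinset] at hγ
        rcases hγ with rfl | ⟨x, rfl⟩
        · exact hP₀N
        · intro y hy
          obtain ⟨z, hz, rfl⟩ := (Subgroup.mem_smul_pointwise_iff_exists _ _ _).mp hy
          exact mul_mem (mul_mem (hP₀N x.2) (hR₀N hz)) ((normalizer (D : Set G)).inv_mem (hP₀N x.2))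
      refine le_trans ?_ (Finset.card_le_card hsub)
      rw [Finset.card_insert_of_notMem (by rwa [Set.mem_toFinset]), Set.toFinset_card,
        ← Nat.card_eq_fintype_card, hO]
    let S : Finset (Sylow p G) := Finset.univ.erase P
    let f : Sylow p G → Subgroup G := fun R => (P : Subgroup G) ⊓ R
    have hS : S.card + 1 ≤ p * p := by
      rw [Finset.card_erase_add_one (Finset.mem_univ P), Finset.card_univ, ← Nat.card_eq_fintype_card]
      exact h
    have hfib : ∀ D' ∈ S.image f, p ≤ (S.filter fun R => f R = D').card := by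
      intro D' hD'
      obtain ⟨R, hR, rfl⟩ := Finset.mem_image.mp hD'
      have hRP : R ≠ P := (Finset.mem_erase.mp hR).1
      obtain ⟨hO, -, hPO⟩ := orbit_card h P R hRP
      refine le_trans ?_ (Finset.card_le_card (s := (MulAction.orbit (P : Subgroup G) R).toFinset) ?_)
      · rw [Set.toFinset_card, ← Nat.card_eq_fintype_card, hO]
      · intro γ hγ
        rw [Set.mem_toFinset] at hγ
        rw [Finset.mem_filter, Finset.mem_erase]
        refine ⟨⟨fun e => hPO (e ▸ hγ), Finset.mem_univ _⟩, ?_⟩
        obtain ⟨x, rfl⟩ := hγ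
        have e1 : MulAut.conj (x : G) • (P : Subgroup G) = (P : Subgroup G) :=
          Subgroup.conj_smul_eq_self_of_mem x.2
        have e2 : MulAut.conj (x : G) • ((P : Subgroup G) ⊓ R) = (P : Subgroup G) ⊓ R :=
          (CfsgLib.Core.conj_smul_eq_self_iff).mpr (inter_normal h P R hRP x.2)
        show (P : Subgroup G) ⊓ MulAut.conj (x : G) • (R : Subgroup G) = _
        conv_lhs => arg 1; rw [← e1]
        rw [← Subgroup.smul_inf, e2]
    have himg : (S.image f).card * p ≤ S.card := by
      rw [Finset.card_eq_sum_card_image f S, ← smul_eq_mul, ← Finset.sum_const]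
      exact Finset.sum_le_sum hfib
    have hBS : B ⊆ S := fun γ hγ => Finset.mem_erase.mpr
      ⟨fun e => hP (e ▸ (Finset.mem_filter.mp hγ).2), Finset.mem_univ _⟩
    have hinj : Set.InjOn f B := by
      intro γ hγ γ' hγ' he
      by_contra hne'
      have hγB := (Finset.mem_filter.mp hγ).2
      have hγ'B := (Finset.mem_filter.mp hγ').2
      have hγP : γ ≠ P := (Finset.mem_erase.mp (hBS hγ)).1
      have hi := inter_card h γ γ' (Ne.symm hne')
      have h1 : D ≤ (γ : Subgroup G) ⊓ γ' :=
        le_inf (le_of_le_normalizer hDp _ hγB) (le_of_le_normalizer hDp _ hγ'B)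
      have h2 : f γ ≤ (γ : Subgroup G) ⊓ γ' := le_inf inf_le_right (he.le.trans inf_le_right)
      have c0 := inter_card h P₀ R₀ hne
      have c1 := inter_card h P γ hγP
      have c2 := card_eq P₀ γ
      have c3 := card_eq P γ
      have e1 : D = (γ : Subgroup G) ⊓ γ' := Subgroup.eq_of_le_of_card_ge h1 (by
        rw [hD]; exact Nat.le_of_mul_le_mul_right (hi.trans (c2.symm.trans c0.symm)).le hp.out.pos)
      have e2 : f γ = (γ : Subgroup G) ⊓ γ' := Subgroup.eq_of_le_of_card_ge h2 (by
        show _ ≤ Nat.card ↥((P : Subgroup G) ⊓ γ)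
        exact Nat.le_of_mul_le_mul_right (hi.trans (c3.symm.trans c1.symm)).le hp.out.pos)
      apply hP
      rw [e1, ← e2]
      exact inter_normal h P γ hγP
    have := Finset.card_le_card (Finset.image_subset_image (f := f) hBS)
    rw [Finset.card_image_of_injOn hinj] at this
    have h3 := Nat.mul_le_mul_right p (hB.trans this)
    rw [Nat.add_mul, one_mul] at h3
    omega

end CfsgLib.FewSylow
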