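import Mathlib
import Cfsg.Agent.Lib.SmallSimple
import Cfsg.Agent.Lib.FgsSylowTwentyOne

/-!
No simple group has 21 Sylow 5-subgroups of order 5.
-/

set_option autoImplicit false

namespace CfsgLib.TwentyOne

open Subgroup
open scoped Pointwise

universe u

local instance : Fact (Nat.Prime 5) := ⟨by norm_num⟩
local instance : Fact (Nat.Prime 7) := ⟨by norm_num⟩
local instance : Fact (Nat.Prime 2) := ⟨Nat.prime_two⟩

variable {G : Type u} [Group G] [Finite G]

/-- The sign of an involution moving `2k` points. -/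
theorem sign_involution {α : Type*} [Fintype α] [DecidableEq α] {g : Equiv.Perm α} (hg : g ^ 2 = 1) (hg1 : g ≠ 1)
    {k : ℕ} (hk : g.support.card = 2 * k) (hodd : Odd k) : Equiv.Perm.sign g = -1 := by
  obtain ⟨n, hn⟩ := Equiv.Perm.cycleType_prime_order (σ := g) (by rw [orderOf_eq_prime hg hg1]; exact Nat.prime_two)
  rw [orderOf_eq_prime hg hg1] at hn
  have hs := g.sum_cycleType
  rw [hn, Multiset.sum_replicate, hk, smul_eq_mul] at hs
  rw [Equiv.Perm.sign_of_cycleType, hn, Multiset.sum_replicate, Multiset.card_replicate, smul_eq_mul]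
  have h3 : n + 1 = k := by omega
  rw [h3]
  obtain ⟨j, rfl⟩ := hodd
  rw [show (2 * j + 1) * 2 + (2 * j + 1) = 2 * (3 * j + 1) + 1 by ring, pow_succ, pow_mul]
  norm_num

theorem support_add_fixed {α : Type*} [Fintype α] [DecidableEq α] (g : Equiv.Perm α) :
    g.support.card + Nat.card {x : α // g x = x} = Fintype.card α := by
  rw [Nat.card_eq_fintype_card, Fintype.card_subtype]
  have : g.support = Finset.univ.filter fun x => ¬ g x = x := by
    ext x; simp [Equiv.Perm.mem_support]
  rw [this, add_comm]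
  exact Finset.card_filter_add_card_filter_not _

section Setup

variable [IsSimpleGroup G] (h : Nat.card (Sylow 5 G) = 21) (P : Sylow 5 G) (hP : Nat.card (P : Subgroup G) = 5)

include h in
theorem noncomm' : ¬ IsMulCommutative G := by
  intro hc
  letI : CommGroup G := { ‹Group G› with mul_comm := hc.is_comm.comm }
  haveI : Unique (Sylow 5 G) := Sylow.unique_of_normal default inferInstance
  rw [Nat.card_unique] at h
  exact absurd h (by norm_num)

include h in
theorem smul_injective {g : G} (hg : ∀ R : Sylow 5 G, g • R = R) : g = 1 := by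
  have hk : g ∈ (MulAction.toPermHom G (Sylow 5 G)).ker := Equiv.ext hg
  rcases (inferInstance : (MulAction.toPermHom G (Sylow 5 G)).ker.Normal).eq_bot_or_eq_top with e | e
  · rw [e] at hk; exact hk
  · exfalso
    haveI : Subsingleton (Sylow 5 G) := ⟨fun a b => by
      obtain ⟨x, hx⟩ := MulAction.exists_smul_eq G a b
      rw [← hx]
      exact (Equiv.Perm.ext_iff.mp (MonoidHom.mem_ker.mp (e.symm ▸ Subgroup.mem_top x)) a).symm⟩
    have := Finite.card_le_one_iff_subsingleton.mpr ‹Subsingleton (Sylow 5 G)›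
    omega

include h in
theorem sign_one [Fintype (Sylow 5 G)] [DecidableEq (Sylow 5 G)] (g : G) :
    Equiv.Perm.sign (MulAction.toPermHom G (Sylow 5 G) g) = 1 :=
  DFunLike.congr_fun (CfsgLib.Perm.sign_comp_eq_one (noncomm' h) (Equiv.Perm.sign.comp (MulAction.toPermHom G (Sylow 5 G)))) g

omit [Finite G] [IsSimpleGroup G] in
include hP in
theorem pow_five {x : G} (hx : x ∈ (P : Subgroup G)) : x ^ 5 = 1 :=
  orderOf_dvd_iff_pow_eq_one.mp (hP ▸ Subgroup.orderOf_dvd_natCard _ hx)

/-- The orbits of `P` on the Sylow subgroups. -/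
abbrev Orb : Type u := MulAction.orbitRel.Quotient (P : Subgroup G) (Sylow 5 G)

local notation "N" => normalizer ((P : Subgroup G) : Set G)

instance orbAction : MulAction N (Orb P) where
  smul n := Quotient.map ((n : G) • ·) (fun a b hab => by
    obtain ⟨⟨x, hx⟩, rfl⟩ := hab
    refine ⟨⟨(n : G) * x * (n : G)⁻¹, (mem_normalizer_iff.mp n.2 x).mp hx⟩, ?_⟩
    show ((n : G) * x * (n : G)⁻¹) • (n : G) • b = (n : G) • x • b
    rw [smul_smul, smul_smul, inv_mul_cancel_right])
  one_smul := by
    rintro ⟨a⟩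
    exact congrArg Quotient.mk'' (one_smul G a)
  mul_smul a b := by
    rintro ⟨c⟩
    exact congrArg Quotient.mk'' (mul_smul (a : G) (b : G) c)

omit [Finite G] [IsSimpleGroup G] in
theorem smul_mk_eq (n : N) (β : Sylow 5 G) :
    n • (Quotient.mk'' β : Orb P) = Quotient.mk'' β ↔ ∃ x ∈ (P : Subgroup G), x • β = (n : G) • β := by
  show (Quotient.mk'' ((n : G) • β) : Orb P) = Quotient.mk'' β ↔ _
  rw [Quotient.eq'', MulAction.orbitRel_apply]
  exact ⟨fun ⟨x, hx⟩ => ⟨x, x.2, hx⟩, fun ⟨x, hx, e⟩ => ⟨⟨x, hx⟩, e⟩⟩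

omit [IsSimpleGroup G] in
theorem smul_self (x : G) (hx : x ∈ N) : x • P = P := Sylow.smul_eq_iff_mem_normalizer.mpr hx

include h in
theorem card_orb : Nat.card (Orb P) = 5 := by
  classical
  haveI := Fintype.ofFinite (Orb P)
  have e := Nat.card_congr (MulAction.selfEquivSigmaOrbits (P : Subgroup G) (Sylow 5 G))
  rw [h, Nat.card_sigma] at e
  have hone : ∀ ω : Orb P, ω ≠ Quotient.mk'' P →
      Nat.card (MulAction.orbit (P : Subgroup G) ω.out) = 5 := fun ω hω =>
    (orbit_card h P ω.out (fun he => hω ((Quotient.out_eq' ω).symm.trans (congrArg Quotient.mk'' he)))).1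
  have hP1 : Nat.card (MulAction.orbit (P : Subgroup G) (Quotient.mk'' P : Orb P).out) = 1 := by
    obtain ⟨x, hx⟩ : (Quotient.mk'' P : Orb P).out ∈ MulAction.orbit (P : Subgroup G) P :=
      MulAction.orbitRel_apply.mp (Quotient.eq''.mp (Quotient.out_eq' (Quotient.mk'' P : Orb P)))
    have hxP : (Quotient.mk'' P : Orb P).out = P := hx ▸ smul_self P x (Subgroup.le_normalizer x.2)
    rw [hxP, Nat.card_eq_one_iff_unique]
    refine ⟨⟨fun a b => Subtype.ext ?_⟩, ⟨⟨P, MulAction.mem_orbit_self P⟩⟩⟩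
    obtain ⟨x, hx⟩ := a.2
    obtain ⟨y, hy⟩ := b.2
    rw [← hx, ← hy]
    exact (smul_self P x (Subgroup.le_normalizer x.2)).trans (smul_self P y (Subgroup.le_normalizer y.2)).symm
  rw [← Finset.sum_erase_add _ _ (Finset.mem_univ (Quotient.mk'' P : Orb P)), hP1,
    Finset.sum_congr rfl fun ω hω => hone ω (Finset.mem_erase.mp hω).1, Finset.sum_const,
    Finset.card_erase_of_mem (Finset.mem_univ _), Finset.card_univ, ← Nat.card_eq_fintype_card, smul_eq_mul] at e
  omega

include h hP in
/-- Elements centralizing `P` and fixing every orbit lie in `P`. -/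
theorem mem_of_fix {c : N} (hc : ∀ x ∈ (P : Subgroup G), x * (c : G) = (c : G) * x)
    (hfix : ∀ ω : Orb P, c • ω = ω) : (c : G) ∈ (P : Subgroup G) := by
  have h5 : (c : G) ^ 5 = 1 := smul_injective h fun β => by
    obtain ⟨x, hx, hxe⟩ := (smul_mk_eq P c β).mp (hfix _)
    have key : ∀ k : ℕ, (c : G) ^ k • β = x ^ k • β := by
      intro k
      induction k with
      | zero => simp
      | succ k ih =>
        rw [pow_succ', mul_smul, ih, ← mul_smul, ← hc _ (pow_mem hx k), mul_smul, ← hxe, ← mul_smul, ← pow_succ]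
    rw [key, pow_five P hP hx, one_smul]
  have hz : IsPGroup 5 (Subgroup.zpowers (c : G)) := by
    rcases (Nat.dvd_prime (by norm_num : Nat.Prime 5)).mp (orderOf_dvd_of_pow_eq_one h5) with e | e
    · exact IsPGroup.of_card (n := 0) (by rw [Nat.card_zpowers, e, pow_zero])
    · exact IsPGroup.of_card (n := 1) (by rw [Nat.card_zpowers, e, pow_one])
  have := (hz.inf_normalizer_sylow P).le ⟨Subgroup.mem_zpowers _, c.2⟩
  exact this.2

omit [IsSimpleGroup G] in
include hP in
/-- Fixed points of an element inverting `P` correspond to the orbits it fixes. -/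
theorem fixed_equiv {u : N} (hu : ∀ x ∈ (P : Subgroup G), (u : G) * x * (u : G)⁻¹ = x⁻¹) :
    Nat.card {γ : Sylow 5 G // (u : G) • γ = γ} = Nat.card {ω : Orb P // u • ω = ω} := by
  refine Nat.card_eq_of_bijective (fun γ => ⟨Quotient.mk'' γ.1, congrArg Quotient.mk'' γ.2⟩) ⟨?_, ?_⟩
  · rintro ⟨γ, hγ⟩ ⟨γ', hγ'⟩ he
    obtain ⟨⟨x, hx⟩, hxe⟩ := MulAction.orbitRel_apply.mp (Quotient.eq''.mp (congrArg Subtype.val he))
    have hxe' : x • γ' = γ := hxe
    have e1 : x⁻¹ • γ' = x • γ' := by
      rw [← hu x hx, mul_smul, mul_smul, inv_smul_eq_iff.mpr hγ'.symm, hxe', hγ]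
    have e2 : (x * x) • γ' = γ' := by rw [mul_smul, ← e1, smul_inv_smul]
    have e3 : x • γ' = γ' := by
      have : x = (x * x) ^ 3 := by
        rw [show (x * x) ^ 3 = x ^ 5 * x by rw [← pow_two, ← pow_mul, ← pow_succ], pow_five P hP hx, one_mul]
      rw [this, pow_succ, pow_two, mul_smul, mul_smul, e2, e2, e2]
    exact Subtype.ext (hxe'.symm.trans e3)
  · rintro ⟨ω, hω⟩
    induction ω using Quotient.inductionOn' with
    | h β =>
      obtain ⟨x, hx, hxe⟩ := (smul_mk_eq P u β).mp hω
      refine ⟨⟨x ^ 3 • β, ?_⟩, Subtype.ext (Quotient.eq''.mpr ⟨⟨x ^ 3, pow_mem hx 3⟩, rfl⟩)⟩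
      calc (u : G) • x ^ 3 • β = ((u : G) * x ^ 3 * (u : G)⁻¹) • (u : G) • β := by
            rw [smul_smul, smul_smul, inv_mul_cancel_right]
        _ = ((x ^ 3)⁻¹ * x) • β := by rw [hu _ (pow_mem hx 3), ← hxe, smul_smul]
        _ = x ^ 3 • β := by
          rw [show (x ^ 3)⁻¹ * x = (x ^ 5)⁻¹ * x ^ 3 by group, pow_five P hP hx, inv_one, one_mul]

omit [IsSimpleGroup G] in
include hP in
/-- An element of the normalizer of a group of order 5 outside the centralizer has an inverting power. -/
theorem inverts_of_not_comm {n : G} (hn : n ∈ N) (hnc : ¬ ∀ x ∈ (P : Subgroup G), x * n = n * x) :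
    (∀ x ∈ (P : Subgroup G), n * x * n⁻¹ = x⁻¹) ∨ (∀ x ∈ (P : Subgroup G), n ^ 2 * x * (n ^ 2)⁻¹ = x⁻¹) := by
  haveI : IsCyclic (P : Subgroup G) := isCyclic_of_prime_card hP
  obtain ⟨⟨t, ht⟩, hgen⟩ := IsCyclic.exists_generator (α := (P : Subgroup G))
  have hall : ∀ x ∈ (P : Subgroup G), ∃ k : ℤ, t ^ k = x := fun x hx => by
    obtain ⟨k, hk⟩ := hgen ⟨x, hx⟩
    exact ⟨k, congrArg Subtype.val hk⟩
  obtain ⟨i, hi⟩ := hall _ ((mem_normalizer_iff.mp hn t).mp ht)
  have hconj : ∀ x ∈ (P : Subgroup G), n * x * n⁻¹ = x ^ i := fun x hx => by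
    obtain ⟨k, rfl⟩ := hall x hx
    rw [← conj_zpow, ← hi, ← zpow_mul, ← zpow_mul, mul_comm]
  have hper : ∀ x ∈ (P : Subgroup G), ∀ a : ℤ, x ^ a = x ^ (a % 5) := fun x hx a => by
    conv_lhs => rw [← Int.emod_add_mul_ediv a 5, zpow_add, zpow_mul, show x ^ (5 : ℤ) = 1 from mod_cast pow_five P hP hx,
      one_zpow, mul_one]
  have hsq : ∀ x ∈ (P : Subgroup G), n ^ 2 * x * (n ^ 2)⁻¹ = x ^ (i * i) := fun x hx => by
    rw [show n ^ 2 * x * (n ^ 2)⁻¹ = n * (n * x * n⁻¹) * n⁻¹ by simp [pow_two, mul_assoc], hconj x hx, ← conj_zpow, hconj x hx,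
      ← zpow_mul]
  have h4 : ∀ x ∈ (P : Subgroup G), x ^ (4 : ℤ) = x⁻¹ := fun x hx => by
    rw [eq_inv_iff_mul_eq_one, ← zpow_add_one]
    exact_mod_cast pow_five P hP hx
  have hi5 : i % 5 = 0 ∨ i % 5 = 1 ∨ i % 5 = 2 ∨ i % 5 = 3 ∨ i % 5 = 4 := by omega
  rcases hi5 with e | e | e | e | e
  · exfalso
    refine hnc fun x hx => ?_
    have := hconj x hx
    rw [hper x hx i, e, zpow_zero] at this
    have hx1 : x = 1 := by
      calc x = n⁻¹ * (n * x * n⁻¹) * n := by group
        _ = 1 := by rw [this]; group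
    rw [hx1]; simp
  · exfalso
    refine hnc fun x hx => ?_
    have := hconj x hx
    rw [hper x hx i, e, zpow_one, mul_inv_eq_iff_eq_mul] at this
    exact this.symm
  · right; intro x hx
    rw [hsq x hx, hper x hx, Int.mul_emod, e]; exact h4 x hx
  · right; intro x hx
    rw [hsq x hx, hper x hx, Int.mul_emod, e]; exact h4 x hx
  · left; intro x hx
    rw [hconj x hx, hper x hx, e]; exact h4 x hx

omit [IsSimpleGroup G] in
include hP in
theorem not_comm_of_inverts {u : G} (hu : ∀ x ∈ (P : Subgroup G), u * x * u⁻¹ = x⁻¹)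
    (hc : ∀ x ∈ (P : Subgroup G), x * u = u * x) : False := by
  obtain ⟨⟨x, hx⟩, hx1⟩ := Subgroup.ne_bot_iff_exists_ne_one.mp (show (P : Subgroup G) ≠ ⊥ from fun e => by
    rw [e, Subgroup.card_bot] at hP; omega)
  have h1 := hu x hx
  rw [← hc x hx, mul_inv_cancel_right] at h1
  refine hx1 (Subtype.ext ?_)
  have h2 : x ^ 2 = 1 := by rw [pow_two]; exact mul_eq_one_iff_eq_inv.mpr h1
  calc x = (x ^ 2) ^ 3 * (x ^ 5)⁻¹ := by group
    _ = 1 := by rw [h2, pow_five P hP hx]; simp

omit [IsSimpleGroup G] in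
include hP in
theorem pow_odd_inverts {u : G} (hu : ∀ x ∈ (P : Subgroup G), u * x * u⁻¹ = x⁻¹) :
    ∀ x ∈ (P : Subgroup G), u ^ 5 * x * (u ^ 5)⁻¹ = x⁻¹ := fun x hx => by
  have h1 := hu x hx
  have h2 : u * x⁻¹ * u⁻¹ = x := by rw [← conj_inv, h1, inv_inv]
  calc u ^ 5 * x * (u ^ 5)⁻¹ = u * (u * (u * (u * (u * x * u⁻¹) * u⁻¹) * u⁻¹) * u⁻¹) * u⁻¹ := by
        simp [pow_succ, mul_assoc]
    _ = x⁻¹ := by rw [h1, h2, h1, h2, h1]

include h hP in
/-- Only the centralizer of `P` fixes every orbit. -/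
theorem comm_of_fix {n : N} (hfix : ∀ ω : Orb P, n • ω = ω) :
    ∀ x ∈ (P : Subgroup G), x * (n : G) = (n : G) * x := by
  classical
  by_contra hnc
  have hpow : ∀ (m : N), (∀ ω : Orb P, m • ω = ω) → ∀ k : ℕ, ∀ ω : Orb P, (m ^ k) • ω = ω := fun m hm k => by
    induction k with
    | zero => simp
    | succ k ih => intro ω; rw [pow_succ, mul_smul, hm, ih]
  obtain ⟨m, hm, hmfix⟩ : ∃ m : N, (∀ x ∈ (P : Subgroup G), (m : G) * x * (m : G)⁻¹ = x⁻¹) ∧ ∀ ω : Orb P, m • ω = ω := by
    rcases inverts_of_not_comm P hP n.2 hnc with e | e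
    · exact ⟨n, e, hfix⟩
    · exact ⟨n ^ 2, by simpa using e, hpow n hfix 2⟩
  have hm2 : ((m ^ 2 : N) : G) ∈ (P : Subgroup G) := mem_of_fix h P hP (fun x hx => by
    have h1 := hm x hx
    have h2 : (m : G) * x⁻¹ * (m : G)⁻¹ = x := by rw [← conj_inv, h1, inv_inv]
    rw [← h1] at h2
    rw [SubgroupClass.coe_pow, eq_comm, ← mul_inv_eq_iff_eq_mul]
    calc (m : G) ^ 2 * x * ((m : G) ^ 2)⁻¹ = (m : G) * ((m : G) * x * (m : G)⁻¹) * (m : G)⁻¹ := by
          simp [pow_two, mul_assoc]
      _ = x := h2) (hpow m hmfix 2)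
  set u : N := m ^ 5 with hu
  have huinv : ∀ x ∈ (P : Subgroup G), (u : G) * x * (u : G)⁻¹ = x⁻¹ := by
    rw [hu, SubgroupClass.coe_pow]; exact pow_odd_inverts P hP hm
  have hufix := hpow m hmfix 5
  have hu2 : (u : G) ^ 2 = 1 := by
    rw [SubgroupClass.coe_pow] at hm2
    rw [hu, SubgroupClass.coe_pow, ← pow_mul, mul_comm, pow_mul, pow_five P hP hm2]
  have hfixcard : Nat.card {γ : Sylow 5 G // (u : G) • γ = γ} = 5 := by
    rw [fixed_equiv P hP huinv]
    exact (Nat.card_congr (Equiv.subtypeUnivEquiv fun ω => hufix ω)).trans (card_orb h P)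
  let K : Set G := {v | IsConj (u : G) v}
  have hKfix : ∀ v : K, Nat.card {γ : Sylow 5 G // (v : G) • γ = γ} = 5 := by
    rintro ⟨v, hv⟩
    obtain ⟨g, hg⟩ := isConj_iff.mp hv
    refine Eq.trans (Nat.card_congr ((MulAction.toPerm g : Equiv.Perm (Sylow 5 G)).subtypeEquiv
      (p := fun γ => (u : G) • γ = γ) (q := fun γ => v • γ = γ) fun γ => ?_)).symm hfixcard
    show _ ↔ v • g • γ = g • γ
    rw [← hg, smul_smul, inv_mul_cancel_right, mul_smul, smul_left_cancel_iff]
  have hKN : ∀ v : K, (v : G) • P = P → ∃ x ∈ (P : Subgroup G), x * (u : G) = v := by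
    rintro ⟨v, hv⟩ hvP
    have hvN : v ∈ N := Sylow.smul_eq_iff_mem_normalizer.mp hvP
    have hv2 : v ^ 2 = 1 := by
      obtain ⟨g, hg⟩ := isConj_iff.mp hv
      rw [← hg, conj_pow, hu2, mul_one, mul_inv_cancel]
    have hvinv : ∀ x ∈ (P : Subgroup G), v * x * v⁻¹ = x⁻¹ := by
      refine (inverts_of_not_comm P hP hvN fun hc => ?_).resolve_right fun e => ?_
      · have hstab : ∀ x : (P : Subgroup G), ∀ γ : Sylow 5 G, v • γ = γ → v • (x : G) • γ = (x : G) • γ :=
          fun x γ hγ => by rw [smul_smul, ← hc x x.2, mul_smul, hγ]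
        letI : MulAction (P : Subgroup G) {γ : Sylow 5 G // v • γ = γ} :=
          { smul := fun x γ => ⟨(x : G) • γ.1, hstab x γ.1 γ.2⟩
            one_smul := fun γ => Subtype.ext (one_smul G γ.1)
            mul_smul := fun x y γ => Subtype.ext (mul_smul (x : G) (y : G) γ.1) }
        have hmod := P.2.card_modEq_card_fixedPoints {γ : Sylow 5 G // v • γ = γ}
        have h1 : Nat.card (MulAction.fixedPoints (P : Subgroup G) {γ : Sylow 5 G // v • γ = γ}) = 1 := by
          rw [Nat.card_eq_one_iff_unique]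
          refine ⟨⟨fun a b => Subtype.ext (Subtype.ext ?_)⟩, ⟨⟨⟨P, hvP⟩, fun x => Subtype.ext (smul_self P x (Subgroup.le_normalizer x.2))⟩⟩⟩
          have key : ∀ c : MulAction.fixedPoints (P : Subgroup G) {γ : Sylow 5 G // v • γ = γ}, c.1.1 = P := by
            intro c
            by_contra hne
            have h5 := (orbit_card h P c.1.1 hne).1
            have : MulAction.orbit (P : Subgroup G) c.1.1 = {c.1.1} := by
              refine Set.eq_singleton_iff_unique_mem.mpr ⟨MulAction.mem_orbit_self _, ?_⟩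
              rintro _ ⟨x, rfl⟩
              exact congrArg Subtype.val (c.2 x)
            rw [this] at h5
            simp at h5
          rw [key a, key b]
        rw [hKfix ⟨v, hv⟩, h1] at hmod
        exact absurd hmod (by decide)
      · rw [hv2] at e
        exact not_comm_of_inverts P hP (u := 1) (fun x hx => by simpa using e x hx) (by simp)
    have hvfix : ∀ ω : Orb P, (⟨v, hvN⟩ : N) • ω = ω := by
      have e1 := fixed_equiv P hP (u := ⟨v, hvN⟩) hvinv
      rw [hKfix ⟨v, hv⟩] at e1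
      have hcard := card_orb h P
      intro ω
      by_contra hω
      haveI := Fintype.ofFinite (Orb P)
      have := Fintype.card_subtype_lt (p := fun ω => (⟨v, hvN⟩ : N) • ω = ω) hω
      rw [← Nat.card_eq_fintype_card, ← Nat.card_eq_fintype_card] at this
      omega
    refine ⟨v * (u : G), ?_, by rw [mul_assoc, ← pow_two, hu2, mul_one]⟩
    refine mem_of_fix h P hP (c := ⟨v, hvN⟩ * u) (fun x hx => ?_) fun ω => by rw [mul_smul, hufix, hvfix]
    show x * (v * (u : G)) = v * (u : G) * x
    have e1 := huinv x hx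
    have e2 := hvinv _ ((P : Subgroup G).inv_mem hx)
    rw [mul_inv_eq_iff_eq_mul] at e1 e2
    rw [inv_inv] at e2
    rw [mul_assoc v, e1, ← mul_assoc v, e2, mul_assoc]
  haveI := Fintype.ofFinite K
  haveI := Fintype.ofFinite (Sylow 5 G)
  have hfib : ∀ γ : Sylow 5 G, Nat.card {v : K // (v : G) • γ = γ} = 5 := by
    intro γ
    obtain ⟨g, hg⟩ := MulAction.exists_smul_eq G P γ
    let e : K ≃ K := (MulAut.conj g).toEquiv.subtypeEquiv fun v => by
      show IsConj (u : G) v ↔ IsConj (u : G) (g * v * g⁻¹)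
      exact ⟨fun hv => hv.trans (isConj_iff.mpr ⟨g, rfl⟩), fun hv => hv.trans (isConj_iff.mpr ⟨g⁻¹, by group⟩)⟩
    rw [← hg]
    refine Eq.trans (Nat.card_congr (e.subtypeEquiv fun v => ?_)).symm ?_ (b := Nat.card {v : K // (v : G) • P = P})
    · show (v : G) • P = P ↔ (g * (v : G) * g⁻¹) • g • P = g • P
      rw [smul_smul, inv_mul_cancel_right, mul_smul, smul_left_cancel_iff]
    · refine Eq.trans ?_ hP
      have hmem : ∀ x ∈ (P : Subgroup G), x * (u : G) ∈ K := fun x hx => isConj_iff.mpr ⟨x ^ 3, by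
        have e1 := huinv _ ((P : Subgroup G).pow_mem hx 3)
        rw [mul_inv_eq_iff_eq_mul] at e1
        have e2 : (u : G) * (x ^ 3)⁻¹ = x ^ 3 * (u : G) := by
          have := huinv _ ((P : Subgroup G).inv_mem ((P : Subgroup G).pow_mem hx 3))
          rw [inv_inv, mul_inv_eq_iff_eq_mul] at this
          exact this
        rw [mul_assoc, e2, ← mul_assoc, show x ^ 3 * x ^ 3 = x ^ 5 * x by group, pow_five P hP hx, one_mul]⟩
      refine (Nat.card_eq_of_bijective (fun x : (P : Subgroup G) => (⟨⟨(x : G) * (u : G), hmem x x.2⟩, by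
        show ((x : G) * (u : G)) • P = P
        rw [mul_smul, smul_self P _ u.2, smul_self P _ (Subgroup.le_normalizer x.2)]⟩ : {v : K // (v : G) • P = P}))
        ⟨fun a b hab => Subtype.ext (mul_right_cancel (congrArg (fun w => (w.1 : G)) hab)), ?_⟩).symm
      rintro ⟨v, hv⟩
      obtain ⟨x, hx, hxe⟩ := hKN v hv
      exact ⟨⟨x, hx⟩, Subtype.ext (Subtype.ext hxe)⟩
  have hK : Nat.card K = 21 := by
    have e := Nat.card_congr (Equiv.subtypeProdEquivSigmaSubtype (fun (v : K) (γ : Sylow 5 G) => (v : G) • γ = γ))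
    have e' := Nat.card_congr ((Equiv.prodComm K (Sylow 5 G)).subtypeEquiv
      (p := fun z => (z.1 : G) • z.2 = z.2) (q := fun z => (z.2 : G) • z.1 = z.1) fun z => Iff.rfl)
    have e'' := Nat.card_congr (Equiv.subtypeProdEquivSigmaSubtype (fun (γ : Sylow 5 G) (v : K) => (v : G) • γ = γ))
    rw [Nat.card_sigma, Finset.sum_congr rfl fun v _ => hKfix v, Finset.sum_const, Finset.card_univ,
      ← Nat.card_eq_fintype_card, smul_eq_mul] at e
    rw [Nat.card_sigma, Finset.sum_congr rfl fun γ _ => hfib γ, Finset.sum_const, Finset.card_univ,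
      ← Nat.card_eq_fintype_card, h, smul_eq_mul] at e''
    omega
  letI : MulAction (P : Subgroup G) K :=
    { smul := fun x v => ⟨(x : G) * v * (x : G)⁻¹, v.2.trans (isConj_iff.mpr ⟨x, rfl⟩)⟩
      one_smul := fun v => Subtype.ext (by show ((1 : (P : Subgroup G)) : G) * v * ((1 : (P : Subgroup G)) : G)⁻¹ = v; simp)
      mul_smul := fun x y v => Subtype.ext (by
        show ((x * y : (P : Subgroup G)) : G) * v * ((x * y : (P : Subgroup G)) : G)⁻¹ = (x : G) * ((y : G) * v * (y : G)⁻¹) * (x : G)⁻¹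
        simp [mul_assoc]) }
  have hmod := P.2.card_modEq_card_fixedPoints K
  have h0 : IsEmpty (MulAction.fixedPoints (P : Subgroup G) K) := ⟨fun ⟨v, hv⟩ => by
    have hcomm : ∀ x ∈ (P : Subgroup G), x * (v : G) = (v : G) * x := fun x hx => by
      have e : x * (v : G) * x⁻¹ = v := congrArg Subtype.val (hv ⟨x, hx⟩)
      exact mul_inv_eq_iff_eq_mul.mp e
    have hvN : (v : G) ∈ N := mem_normalizer_iff.mpr fun y => ⟨fun hy => by
        rw [← hcomm y hy, mul_inv_cancel_right]; exact hy,
      fun hy => by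
        have e := hcomm _ hy
        rw [inv_mul_cancel_right] at e
        rwa [← mul_left_cancel e] at hy⟩
    obtain ⟨x, hx, hxe⟩ := hKN v (smul_self P _ hvN)
    refine not_comm_of_inverts P hP (u := (u : G)) huinv fun y hy => ?_
    have e := hcomm y hy
    rw [← hxe] at e
    haveI : IsCyclic (P : Subgroup G) := isCyclic_of_prime_card hP
    have hyx : y * x = x * y := congrArg Subtype.val ((IsCyclic.commGroup (α := (P : Subgroup G))).mul_comm ⟨y, hy⟩ ⟨x, hx⟩)
    rw [← mul_assoc, hyx, mul_assoc, mul_assoc] at e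
    exact mul_left_cancel e⟩
  rw [hK, Nat.card_of_isEmpty] at hmod
  exact absurd hmod (by decide)

/-- The action on the four non-trivial orbits. -/
noncomputable def quad : N →* Equiv.Perm {ω : Orb P // ω ≠ Quotient.mk'' P} where
  toFun n := (MulAction.toPerm n).subtypeEquiv fun ω => by
    show ω ≠ _ ↔ n • ω ≠ _
    have : n • (Quotient.mk'' P : Orb P) = Quotient.mk'' P := congrArg Quotient.mk'' (smul_self P n n.2)
    conv_rhs => rw [← this, Ne, smul_left_cancel_iff]
  map_one' := Equiv.ext fun ω => Subtype.ext (one_smul _ ω.1)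
  map_mul' a b := Equiv.ext fun ω => Subtype.ext (mul_smul a b ω.1)

include h hP in
/-- No simple group has 21 Sylow 5-subgroups of order 5. -/
theorem not_simple : False := by
  classical
  haveI := Fintype.ofFinite G
  haveI := Fintype.ofFinite (Sylow 5 G)
  haveI := Fintype.ofFinite (Orb P)
  set f := quad P with hf
  have hna := noncomm' h
  have hquad : ∀ n : N, f n = 1 ↔ ∀ ω : Orb P, n • ω = ω := fun n => by
    refine ⟨fun e ω => ?_, fun e => Equiv.ext fun ω => Subtype.ext (e ω.1)⟩
    by_cases hω : ω = Quotient.mk'' P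
    · rw [hω]; exact congrArg Quotient.mk'' (smul_self P n n.2)
    · exact congrArg Subtype.val (Equiv.Perm.ext_iff.mp e ⟨ω, hω⟩)
  set C := (centralizer ((P : Subgroup G) : Set G)).subgroupOf N with hC
  have hmemC : ∀ n : N, n ∈ C ↔ ∀ x ∈ (P : Subgroup G), x * (n : G) = (n : G) * x := fun n => Iff.rfl
  have hker : f.ker = (P : Subgroup G).subgroupOf N := by
    ext n
    rw [MonoidHom.mem_ker, hquad, Subgroup.mem_subgroupOf]
    refine ⟨fun e => mem_of_fix h P hP (comm_of_fix h P hP e) e, fun hn ω => ?_⟩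
    induction ω using Quotient.inductionOn' with
    | h β => exact (smul_mk_eq P n β).mpr ⟨n, hn, rfl⟩
  have hkerC : f.ker ≤ C := fun n hn => (hmemC n).mpr (comm_of_fix h P hP ((hquad n).mp hn))
  have h4 : Nat.card {ω : Orb P // ω ≠ Quotient.mk'' P} = 4 := by
    rw [Nat.card_eq_fintype_card, Fintype.card_subtype_compl, Fintype.card_subtype_eq,
      ← Nat.card_eq_fintype_card, card_orb h P]
  set d := Nat.card f.range with hd
  have hd24 : d ∣ 24 := by
    have := Subgroup.card_subgroup_dvd_card f.range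
    rw [Nat.card_perm, h4] at this
    exact this
  have hcardN : Nat.card N = 5 * d := by
    rw [← Subgroup.card_mul_index f.ker, Subgroup.index_ker, hker,
      Nat.card_congr (Subgroup.subgroupOfEquivOfLe Subgroup.le_normalizer).toEquiv, hP]
  have hcardG : Nat.card G = 105 * d := by
    have h1 := (normalizer ((P : Subgroup G) : Set G)).card_mul_index
    rw [CfsgLib.SmallSimple.index_normalizer P, h, hcardN] at h1
    omega
  haveI : IsCyclic (P : Subgroup G) := isCyclic_of_prime_card hP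
  haveI : C.Normal := by
    rw [hC, ← Subgroup.normalizerMonoidHom_ker]; infer_instance
  have hidx : C.index ∣ 4 := by
    rw [hC, ← Subgroup.normalizerMonoidHom_ker, Subgroup.index_ker]
    refine (Subgroup.card_subgroup_dvd_card _).trans (dvd_of_eq ?_)
    rw [IsCyclic.card_mulAut, hP]; decide
  have hCne : C ≠ ⊤ := by
    intro e
    have hle : N ≤ centralizer ((P : Subgroup G) : Set G) := fun n hn =>
      ((e.symm ▸ Subgroup.mem_top (⟨n, hn⟩ : N)) : (⟨n, hn⟩ : N) ∈ C)
    rcases (inferInstance : (MonoidHom.transferSylow P hle).ker.Normal).eq_bot_or_eq_top with e2 | e2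
    · have h1 := (MonoidHom.ker_transferSylow_isComplement' P hle).card_mul
      rw [e2, Subgroup.card_bot, one_mul, hP] at h1
      omega
    · have h1 := MonoidHom.not_dvd_card_ker_transferSylow P hle
      rw [e2, Subgroup.card_top, hcardG] at h1
      exact h1 ⟨21 * d, by ring⟩
  have hd2 : 2 ∣ d := by
    have h1 : C.index ∣ f.ker.index := Subgroup.index_dvd_of_le hkerC
    rw [Subgroup.index_ker, ← hd] at h1
    refine Nat.dvd_trans ?_ h1
    have h2 : C.index ≠ 1 := fun e => hCne (Subgroup.index_eq_one.mp e)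
    obtain ⟨j, hj, hje⟩ := (Nat.dvd_prime_pow Nat.prime_two).mp (show C.index ∣ 2 ^ 2 from hidx)
    rw [hje]
    exact dvd_pow_self 2 (fun e => h2 (by rw [hje, e, pow_zero]))
  -- the image is not the whole symmetric group of degree four
  have hd24' : d ≠ 24 := by
    intro e
    have hsurj : Function.Surjective f := by
      rw [← MonoidHom.range_eq_top]
      exact Subgroup.eq_top_of_card_eq _ (by rw [← hd, e, Nat.card_perm, h4]; decide)
    have hCmap : C.map f ≠ ⊤ := fun e2 => hCne (by
      rw [← Subgroup.comap_map_eq_self hkerC, e2, Subgroup.comap_top])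
    have halt : alternatingGroup {ω : Orb P // ω ≠ Quotient.mk'' P} ≤ C.map f := by
      rw [← Equiv.Perm.closure_three_cycles_eq_alternating, Subgroup.closure_le]
      intro c hc
      obtain ⟨n, rfl⟩ := hsurj c
      have hn4 : n ^ 4 ∈ C := by
        obtain ⟨j, hj⟩ := hidx
        rw [hj, pow_mul]
        exact C.pow_mem (C.pow_index_mem n) j
      refine ⟨n ^ 4, hn4, ?_⟩
      rw [map_pow, show (4 : ℕ) = 3 + 1 from rfl, pow_succ, ← Equiv.Perm.IsThreeCycle.orderOf hc, pow_orderOf_eq_one,
        one_mul]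
    obtain ⟨a, b, hab⟩ : ∃ a b : {ω : Orb P // ω ≠ Quotient.mk'' P}, a ≠ b := by
      haveI : Nontrivial {ω : Orb P // ω ≠ Quotient.mk'' P} := Finite.one_lt_card_iff_nontrivial.mp (by omega)
      exact exists_pair_ne _
    obtain ⟨n, hn⟩ := hsurj (Equiv.swap a b)
    have hnC : n ∉ C := fun hn' => hCmap (by
      refine (Subgroup.eq_top_iff' _).mpr fun c => ?_
      rcases Int.units_eq_one_or (Equiv.Perm.sign c) with hs | hs
      · exact halt hs
      · have hsw : Equiv.swap a b ∈ C.map f := ⟨n, hn', hn⟩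
        have := mul_mem hsw (halt (show Equiv.Perm.sign (Equiv.swap a b * c) = 1 by
          rw [map_mul, Equiv.Perm.sign_swap hab, hs]; rfl))
        rwa [← mul_assoc, Equiv.swap_mul_self, one_mul] at this)
    have hn2 : n ^ 2 ∈ f.ker := by
      rw [MonoidHom.mem_ker, map_pow, hn, pow_two, Equiv.swap_mul_self]
    have hn2P : (n : G) ^ 2 ∈ (P : Subgroup G) := by
      rw [hker] at hn2; exact hn2
    have hninv : ∀ x ∈ (P : Subgroup G), (n : G) * x * (n : G)⁻¹ = x⁻¹ :=
      (inverts_of_not_comm P hP n.2 fun hc => hnC ((hmemC n).mpr hc)).resolve_right fun e2 =>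
        not_comm_of_inverts P hP e2 fun x hx =>
          congrArg Subtype.val ((IsCyclic.commGroup (α := (P : Subgroup G))).mul_comm ⟨x, hx⟩ ⟨_, hn2P⟩)
    have huinv := pow_odd_inverts P hP hninv
    have hu2 : ((n : G) ^ 5) ^ 2 = 1 := by
      rw [← pow_mul, mul_comm, pow_mul]; exact pow_five P hP hn2P
    have hu1 : (n : G) ^ 5 ≠ 1 := fun e2 => not_comm_of_inverts P hP huinv fun x hx => by rw [e2]; simp
    have hfu : f (n ^ 5) = Equiv.swap a b := by
      rw [map_pow, hn, pow_succ, show (4 : ℕ) = 2 * 2 from rfl, pow_mul, pow_two (Equiv.swap a b),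
        Equiv.swap_mul_self, one_pow, one_mul]
    have hfix3 : Nat.card {γ : Sylow 5 G // (n : G) ^ 5 • γ = γ} = 3 := by
      have e1 := fixed_equiv P hP (u := n ^ 5) (by rw [SubgroupClass.coe_pow]; exact huinv)
      rw [SubgroupClass.coe_pow] at e1
      rw [e1, Nat.card_eq_fintype_card]
      have e2 : ∀ ω : Orb P, (n ^ 5) • ω = ω ↔ ω ≠ a.1 ∧ ω ≠ b.1 := by
        intro ω
        by_cases hω : ω = Quotient.mk'' P
        · subst hω
          exact iff_of_true (congrArg Quotient.mk'' (smul_self P _ (n ^ 5).2))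
            ⟨fun e => a.2 e.symm, fun e => b.2 e.symm⟩
        · have e3 : ((f (n ^ 5) ⟨ω, hω⟩ : {ω : Orb P // ω ≠ Quotient.mk'' P}) : Orb P) = (n ^ 5) • ω := rfl
          rw [← e3, hfu]
          constructor
          · intro e4
            have e5 : Equiv.swap a b ⟨ω, hω⟩ = ⟨ω, hω⟩ := Subtype.ext e4
            constructor
            · intro e
              have e6 : (⟨ω, hω⟩ : {ω : Orb P // ω ≠ Quotient.mk'' P}) = a := Subtype.ext e
              rw [e6, Equiv.swap_apply_left] at e5
              exact hab e5.symm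
            · intro e
              have e6 : (⟨ω, hω⟩ : {ω : Orb P // ω ≠ Quotient.mk'' P}) = b := Subtype.ext e
              rw [e6, Equiv.swap_apply_right] at e5
              exact hab e5
          · intro e4
            rw [Equiv.swap_apply_of_ne_of_ne (fun e => e4.1 (congrArg Subtype.val e))
              (fun e => e4.2 (congrArg Subtype.val e))]
      rw [Fintype.card_subtype, show (Finset.univ.filter fun ω : Orb P => (n ^ 5) • ω = ω) = ({a.1, b.1} : Finset (Orb P))ᶜ by
        ext ω; simp [e2], Finset.card_compl, Finset.card_pair (fun e => hab (Subtype.ext e)), ← Nat.card_eq_fintype_card,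
        card_orb h P]
    have hsupp := support_add_fixed (MulAction.toPermHom G (Sylow 5 G) ((n : G) ^ 5))
    rw [← Nat.card_eq_fintype_card, h] at hsupp
    have hne : MulAction.toPermHom G (Sylow 5 G) ((n : G) ^ 5) ≠ 1 := fun e2 =>
      hu1 (smul_injective h fun R => Equiv.Perm.ext_iff.mp e2 R)
    have hs := sign_involution (by rw [← map_pow, hu2, map_one]) hne (k := 9) (by
      have : Nat.card {x : Sylow 5 G // MulAction.toPermHom G (Sylow 5 G) ((n : G) ^ 5) x = x} = 3 := hfix3
      omega) ⟨4, rfl⟩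
    rw [sign_one h] at hs
    exact absurd hs (by decide)
  -- arithmetic with the prime seven
  have hdpos : 0 < d := Nat.card_pos
  have hd4 : 4 ∣ d := by
    by_contra h4d
    have hcard2 : Nat.card G = 2 ^ 1 * (105 * (d / 2)) := by
      rw [hcardG]; obtain ⟨j, hj⟩ := hd2; rw [hj, Nat.mul_div_cancel_left _ (by norm_num)]; ring
    have hodd2 : ¬ 2 ∣ 105 * (d / 2) := by
      intro e
      rcases (Nat.prime_two.dvd_mul).mp e with e | e
      · omega
      · exact h4d (by omega)
    obtain ⟨S⟩ : Nonempty (Sylow 2 G) := inferInstance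
    have hS : Nat.card (S : Subgroup G) = 2 := by
      rw [CfsgLib.Perm.sylow_card S hcard2 hodd2, pow_one]
    haveI : IsCyclic (S : Subgroup G) := isCyclic_of_prime_card hS
    have hmin : (Nat.card G).minFac = 2 := by
      rw [Nat.minFac_eq_two_iff, hcard2]; exact Dvd.intro _ rfl
    have hle := IsCyclic.normalizer_le_centralizer (P := S) hmin inferInstance
    rcases (inferInstance : (MonoidHom.transferSylow S hle).ker.Normal).eq_bot_or_eq_top with e2 | e2
    · have h1 := (MonoidHom.ker_transferSylow_isComplement' S hle).card_mul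
      rw [e2, Subgroup.card_bot, one_mul, hS] at h1
      omega
    · have h1 := MonoidHom.not_dvd_card_ker_transferSylow S hle
      rw [e2, Subgroup.card_top, hcard2] at h1
      exact h1 ⟨105 * (d / 2), by ring⟩
  have hcases : d = 4 ∨ d = 8 ∨ d = 12 := by
    have : d ∈ Nat.divisors 24 := Nat.mem_divisors.mpr ⟨hd24, by norm_num⟩
    rw [show Nat.divisors 24 = {1, 2, 3, 4, 6, 8, 12, 24} by decide] at this
    simp only [Finset.mem_insert, Finset.mem_singleton] at this
    omega
  obtain ⟨Q⟩ : Nonempty (Sylow 7 G) := inferInstance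
  have h7 : Nat.card G = 7 ^ 1 * (15 * d) := by rw [hcardG]; ring
  have h7' : ¬ 7 ∣ 15 * d := by rcases hcases with e | e | e <;> rw [e] <;> norm_num
  have hQ : Nat.card (Q : Subgroup G) = 7 := by rw [CfsgLib.Perm.sylow_card Q h7 h7', pow_one]
  obtain ⟨hn7, hn7m, hn71⟩ := CfsgLib.SmallSimple.sylow_number h7 h7' (by omega) one_ne_zero
  set w := Nat.card (normalizer ((Q : Subgroup G) : Set G)) with hw
  have hwn : w * Nat.card (Sylow 7 G) = 105 * d := by
    rw [hw, ← CfsgLib.SmallSimple.index_normalizer Q, Subgroup.card_mul_index, hcardG]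
  have hw5 : ¬ 5 ∣ w := by
    intro h5
    obtain ⟨⟨s, hsN⟩, hs⟩ := exists_prime_orderOf_dvd_card' 5 h5
    rw [Subgroup.orderOf_mk] at hs
    haveI : IsCyclic (Q : Subgroup G) := isCyclic_of_prime_card hQ
    have hsC : ∀ q ∈ (Q : Subgroup G), q * s = s * q := by
      have h1 : (Q : Subgroup G).normalizerMonoidHom ⟨s, hsN⟩ = 1 := by
        rw [← orderOf_eq_one_iff]
        refine Nat.eq_one_of_dvd_coprimes (show Nat.Coprime 5 6 by norm_num) ?_ ?_
        · exact (orderOf_map_dvd _ _).trans (dvd_of_eq (by rw [Subgroup.orderOf_mk, hs]))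
        · refine (_root_.orderOf_dvd_natCard _).trans (dvd_of_eq ?_)
          rw [IsCyclic.card_mulAut, hQ, Nat.totient_prime (by norm_num)]
      have h2 : (⟨s, hsN⟩ : normalizer ((Q : Subgroup G) : Set G)) ∈ (Q : Subgroup G).normalizerMonoidHom.ker := h1
      rw [Subgroup.normalizerMonoidHom_ker] at h2
      exact fun q hq => h2 q hq
    obtain ⟨S, hS⟩ := (IsPGroup.of_card (p := 5) (G := Subgroup.zpowers s) (n := 1)
      (by rw [Nat.card_zpowers, hs, pow_one])).exists_le_sylow
    have hSc : Nat.card (S : Subgroup G) = 5 := (card_eq S P).trans hP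
    have hSz : (S : Subgroup G) = Subgroup.zpowers s :=
      (Subgroup.eq_of_le_of_card_ge hS (by rw [Nat.card_zpowers, hs, hSc])).symm
    have hQN : (Q : Subgroup G) ≤ normalizer ((S : Subgroup G) : Set G) := fun q hq => by
      rw [hSz, mem_normalizer_iff]
      intro b
      have hz : ∀ b ∈ Subgroup.zpowers s, q * b = b * q := by
        rintro _ ⟨k, rfl⟩
        exact (Commute.zpow_right (show Commute q s from hsC q hq) k).eq
      refine ⟨fun hb => by rw [hz b hb, mul_inv_cancel_right]; exact hb, fun hb => ?_⟩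
      have e := hz _ hb
      rw [inv_mul_cancel_right] at e
      rwa [mul_left_cancel e] at hb
    have h3 := Subgroup.card_dvd_of_le hQN
    have hSN : Nat.card (normalizer ((S : Subgroup G) : Set G)) = 5 * d := by
      have h1 := (normalizer ((S : Subgroup G) : Set G)).card_mul_index
      rw [CfsgLib.SmallSimple.index_normalizer S, h, hcardG] at h1
      omega
    rw [hQ, hSN] at h3
    rcases hcases with e | e | e <;> rw [e] at h3 <;> omega
  have hw4 : ¬ 4 ∣ w := by
    intro h4w
    haveI : IsCyclic (Q : Subgroup G) := isCyclic_of_prime_card hQ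
    set g := (Q : Subgroup G).normalizerMonoidHom
    have h1 : Nat.card g.ker * Nat.card g.range = w := by
      rw [← Subgroup.index_ker, Subgroup.card_mul_index]
    have h2 : Nat.card g.range ∣ 6 := by
      refine (Subgroup.card_subgroup_dvd_card _).trans (dvd_of_eq ?_)
      rw [IsCyclic.card_mulAut, hQ, Nat.totient_prime (by norm_num)]
    have h3 : ¬ 2 ∣ Nat.card g.ker := by
      intro h2k
      obtain ⟨⟨⟨y, hyN⟩, hyk⟩, hy⟩ := exists_prime_orderOf_dvd_card' 2 h2k
      rw [Subgroup.orderOf_mk, Subgroup.orderOf_mk] at hy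
      rw [MonoidHom.mem_ker, ← MonoidHom.mem_ker, Subgroup.normalizerMonoidHom_ker] at hyk
      have hyc : ∀ q ∈ (Q : Subgroup G), q * y = y * q := fun q hq => hyk q hq
      letI : MulAction (Q : Subgroup G) {γ : Sylow 5 G // y • γ = γ} :=
        { smul := fun x γ => ⟨(x : G) • γ.1, by rw [smul_smul, ← hyc x x.2, mul_smul, γ.2]⟩
          one_smul := fun γ => Subtype.ext (one_smul G γ.1)
          mul_smul := fun a b γ => Subtype.ext (mul_smul (a : G) (b : G) γ.1) }
      have hmod := Q.2.card_modEq_card_fixedPoints {γ : Sylow 5 G // y • γ = γ}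
      have h0 : IsEmpty (MulAction.fixedPoints (Q : Subgroup G) {γ : Sylow 5 G // y • γ = γ}) := by
        refine ⟨fun ⟨γ, hγ⟩ => ?_⟩
        have hle : (Q : Subgroup G) ≤ normalizer ((γ.1 : Subgroup G) : Set G) := fun q hq =>
          Sylow.smul_eq_iff_mem_normalizer.mp (congrArg Subtype.val (hγ ⟨q, hq⟩))
        have h6 := Subgroup.card_dvd_of_le hle
        have h7N : Nat.card (normalizer ((γ.1 : Subgroup G) : Set G)) = 5 * d := by
          have h1 := (normalizer ((γ.1 : Subgroup G) : Set G)).card_mul_index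
          rw [CfsgLib.SmallSimple.index_normalizer γ.1, h, hcardG] at h1
          omega
        rw [hQ, h7N] at h6
        rcases hcases with e | e | e <;> rw [e] at h6 <;> omega
      rw [Nat.card_of_isEmpty (α := MulAction.fixedPoints (Q : Subgroup G) {γ : Sylow 5 G // y • γ = γ})] at hmod
      have hdvd : 7 ∣ Nat.card {γ : Sylow 5 G // y • γ = γ} := Nat.modEq_zero_iff_dvd.mp hmod
      have hsupp := support_add_fixed (MulAction.toPermHom G (Sylow 5 G) y)
      rw [← Nat.card_eq_fintype_card, h] at hsupp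
      have hy2 : y ^ 2 = 1 := hy ▸ pow_orderOf_eq_one y
      have hne : MulAction.toPermHom G (Sylow 5 G) y ≠ 1 := fun e2 => by
        rw [smul_injective h (g := y) fun R => Equiv.Perm.ext_iff.mp e2 R, orderOf_one] at hy
        omega
      have hg2 : (MulAction.toPermHom G (Sylow 5 G) y) ^ 2 = 1 := by rw [← map_pow, hy2, map_one]
      have heven : 2 ∣ (MulAction.toPermHom G (Sylow 5 G) y).support.card := by
        obtain ⟨k, hk⟩ := Equiv.Perm.cycleType_prime_order (σ := MulAction.toPermHom G (Sylow 5 G) y)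
          (by rw [orderOf_eq_prime hg2 hne]; exact Nat.prime_two)
        rw [← Equiv.Perm.sum_cycleType, hk, orderOf_eq_prime hg2 hne, Multiset.sum_replicate, smul_eq_mul]
        exact Dvd.intro_left _ rfl
      have hpos : 0 < (MulAction.toPermHom G (Sylow 5 G) y).support.card :=
        Nat.pos_of_ne_zero fun e => hne (Finset.card_eq_zero.mp e |> Equiv.Perm.support_eq_empty_iff.mp)
      have hfix : Nat.card {x : Sylow 5 G // MulAction.toPermHom G (Sylow 5 G) y x = x} =
          Nat.card {γ : Sylow 5 G // y • γ = γ} := rfl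
      have hs := sign_involution hg2 hne (k := 7) (by omega) ⟨3, rfl⟩
      rw [sign_one h] at hs
      exact absurd hs (by decide)
    rw [← h1] at h4w
    have : Nat.Coprime 4 (Nat.card g.ker) :=
      (Nat.Coprime.pow_left 2 (Nat.prime_two.coprime_iff_not_dvd.mpr h3) : Nat.Coprime (2 ^ 2) _)
    have h46 := (this.dvd_of_dvd_mul_left h4w).trans h2
    omega
  have hw7 : w ≠ 7 := by
    intro e
    have hle : normalizer ((Q : Subgroup G) : Set G) ≤ centralizer ((Q : Subgroup G) : Set G) := by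
      haveI : IsCyclic (Q : Subgroup G) := isCyclic_of_prime_card hQ
      have hQN : (Q : Subgroup G) = normalizer ((Q : Subgroup G) : Set G) :=
        Subgroup.eq_of_le_of_card_ge Subgroup.le_normalizer (by rw [hQ, ← hw, e])
      rw [← hQN]
      exact Subgroup.le_centralizer (Q : Subgroup G)
    rcases (inferInstance : (MonoidHom.transferSylow Q hle).ker.Normal).eq_bot_or_eq_top with e2 | e2
    · have h1 := (MonoidHom.ker_transferSylow_isComplement' Q hle).card_mul
      rw [e2, Subgroup.card_bot, one_mul, hQ] at h1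
      omega
    · have h1 := MonoidHom.not_dvd_card_ker_transferSylow Q hle
      rw [e2, Subgroup.card_top, h7] at h1
      exact h1 ⟨15 * d, by ring⟩
  rcases hcases with e | e | e <;> rw [e] at hn7 hwn <;>
    revert hn7 hn7m hn71 hwn <;>
    generalize Nat.card (Sylow 7 G) = n7 <;> intro hn7 hn7m hn71 hwn <;>
    fin_cases hn7 <;> omega

end Setup

end CfsgLib.TwentyOne
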