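import Cfsg.Agent.Lib.FusionCenterControl

/-!
# Functors controlling weak closure of elements, in section-free systems or for `p`-th powers
-/

set_option autoImplicit false

namespace CfsgLib.Fusion.CenterGen

open Cfsg Cfsg.FusionSystem CfsgLib.Fusion

set_option linter.unusedSectionVars false

universe u v

variable {Ω : Type u} [Group Ω] {S : Subgroup Ω} [Finite S] {p : ℕ} [Fact p.Prime]
  {F : FusionSystem S} {P Q R Z T U V : Subgroup Ω} {W : ∀ (Q : Type u) [Group Q], Subgroup Q}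
  {c : Ω} {f : Ω → Ω} {H : Type v} [Group H] {pw : Prop}

/-- The local center condition for `H`-free groups; with `pw`, only for `p`-th powers of central elements. -/
def CLoc (p : ℕ) (W : ∀ (Q : Type u) [Group Q], Subgroup Q) (H : Type v) [Group H] (pw : Prop) : Prop :=
  ∀ (G : Type u) [Group G] [Finite G] (P : Sylow p G) (x : G), ¬ Involves H G → x ∈ Cfsg.pCore p G →
    x ∈ (Subgroup.center ↥(Subgroup.normalizer
      (((W ↥(P : Subgroup G)).map (P : Subgroup G).subtype : Subgroup G) : Set G))).map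
      (Subgroup.normalizer
        (((W ↥(P : Subgroup G)).map (P : Subgroup G).subtype : Subgroup G) : Set G)).subtype →
    (pw → ∃ z ∈ (P : Subgroup G), (∀ s ∈ (P : Subgroup G), s * z = z * s) ∧ z ^ p = x) →
    x ∈ Subgroup.center G

/-- The centric case. -/
theorem centric_cfix (hW : IsPFunctor p W) (hWZ : ∀ (Q : Type u) [Group Q] [Finite Q],
    IsPGroup p Q → Subgroup.center Q ≤ W Q) (hloc : CLoc p W H pw)
    (hS : IsPGroup p S) (hF : F.IsSaturated p) (hfree : F.IsSectionFree p H)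
    (hpw : pw → ∃ z ∈ S, (∀ s ∈ S, z⁻¹ * (s * z * s⁻¹) ∈ Z) ∧ z ^ p = c) (hZ : F.IsNormal Z)
    (hZp : IsPGroup p (F.autGroup Z)) (hc : c ∈ modCenter F hZ)
    (hAt : CAt F Z c (relW W Z S)) {D : Subgroup Ω} (hDc : F.IsCentric D)
    (hD : normalizerIn S D = S) {k : Ω → Ω} (hk : Map F (P ⊔ D) k) (hkD : img k D = D) :
    ∀ x ∈ P, c⁻¹ * x ∈ Z → c⁻¹ * k x ∈ Z := by
  have hDn : F.IsFullyNormalized D :=
    ⟨hDc.1, fun R _ => by rw [hD]; exact Subgroup.card_le_of_le (normalizerIn_le S R)⟩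
  set T := normalizerIn S D with hT
  obtain ⟨E, hE, -, L, _, ι, hL⟩ := exists_localModel hS hF hDn hDc
  have hTS : T ≤ S := normalizerIn_le S D
  have := finite_of_le hTS
  have hTp := hS.to_le hTS
  obtain ⟨hfin, hreal, ⟨Tl, hTl⟩, hcen⟩ := id hL
  have hrel := relSys_normalizer hS hF hDn hE
  have hDT : D ≤ T := le_normalizerIn hDc.1
  have hZT : Z ≤ T := hD.symm ▸ hZ.1
  have hST : S ≤ T := hD.symm.le
  have hZE := hrel.isNormal_of_normal hZ hZT
  have hZEp := hZp.to_le (hrel.autGroup_le hZT)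
  have hTn : T ≤ Subgroup.normalizer (Z : Set Ω) :=
    stronglyClosed_normalized (isNormal_stronglyClosed hZE)
  have := normal_subgroupOf_of_le hZT hTn
  have hVeq : relW W Z S = relW W Z T := by rw [hD]
  set N₀ := push ι Z with hN₀
  have hN₀n : N₀.Normal := push_normal_of_model hL hZE
  set q := QuotientGroup.mk' N₀ with hq
  have hq_surj : Function.Surjective q := QuotientGroup.mk'_surjective N₀
  set P' : Sylow p (L ⧸ N₀) := Tl.mapSurjective hq_surj
  set j : T →* L ⧸ N₀ := q.comp ι with hj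
  have hjr : j.range = (P' : Subgroup (L ⧸ N₀)) := by
    rw [hj, MonoidHom.range_comp, ← hTl]
    rfl
  have hjk : Z.subgroupOf T = j.ker := by
    ext x
    rw [MonoidHom.mem_ker, hj, MonoidHom.comp_apply, hq, QuotientGroup.mk'_apply,
      QuotientGroup.eq_one_iff, hN₀, push, Subgroup.mem_map_iff_mem hreal.1]
  let φ : ↥T ⧸ Z.subgroupOf T ≃* ↥(P' : Subgroup (L ⧸ N₀)) :=
    ((QuotientGroup.quotientMulEquivOfEq hjk).trans (QuotientGroup.quotientKerEquivRange j)).trans
      (MulEquiv.subgroupCongr hjr)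
  have hφ : ∀ x : T, ((φ x : ↥(P' : Subgroup (L ⧸ N₀))) : L ⧸ N₀) = j x := fun x => rfl
  have hWφ := hW.map_eq _ _ (hTp.to_quotient (Z.subgroupOf T)) φ
  have hpre : ∀ y : L, y ∈ push ι (relW W Z T) ↔
      q y ∈ (W ↥(P' : Subgroup (L ⧸ N₀))).map (P' : Subgroup (L ⧸ N₀)).subtype := by
    intro y
    constructor
    · intro hy
      obtain ⟨x, hx, hxT, rfl⟩ := mem_push.mp hy
      refine ⟨φ (⟨x, hxT⟩ : T), ?_, ?_⟩
      · rw [← hWφ]
        exact ⟨_, (mem_relW (x := ⟨x, hxT⟩)).mp hx, rfl⟩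
      · show ((φ _ : ↥(P' : Subgroup (L ⧸ N₀))) : L ⧸ N₀) = _
        rw [hφ, ext_apply ι hxT]
        rfl
    · rintro ⟨w, hw, hwy⟩
      rw [← hWφ] at hw
      obtain ⟨v, hv, rfl⟩ := hw
      obtain ⟨x, rfl⟩ := QuotientGroup.mk_surjective v
      have h1 : q (ι x) = q y := hwy
      obtain ⟨z, hz, hzT, hze⟩ := mem_push.mp (QuotientGroup.eq.mp h1 : (ι x)⁻¹ * y ∈ N₀)
      refine mem_push.mpr ⟨x * z, mul_mem (mem_relW.mpr hv) (le_relW hZT hTn hz),
        mul_mem x.2 hzT, ?_⟩
      rw [extι_mul ι x.2 hzT, hze, ext_coe, mul_inv_cancel_left]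
  have hcT : c ∈ T := hST hc.1
  set cb : L ⧸ N₀ := j ⟨c, hcT⟩ with hcb
  have heqc : ∀ x (hx : x ∈ T), c⁻¹ * x ∈ Z ↔ q (ext ι x) = cb := by
    intro x hx
    rw [ext_apply ι hx, hcb]
    show _ ↔ j ⟨x, hx⟩ = j ⟨c, hcT⟩
    rw [MonoidHom.eq_iff, ← hjk, Subgroup.mem_subgroupOf]
    rfl
  have hcP : ∀ y ∈ (P' : Subgroup (L ⧸ N₀)), y * cb = cb * y := by
    intro y hy
    rw [← hjr] at hy
    obtain ⟨s, rfl⟩ := hy
    have h1 : j ⟨c, hcT⟩ = j (s * ⟨c, hcT⟩ * s⁻¹) := by
      rw [MonoidHom.eq_iff, ← hjk, Subgroup.mem_subgroupOf]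
      have := Z.inv_mem (hc.2 s (hTS s.2))
      simpa [mul_assoc] using this
    rw [map_mul, map_mul, map_inv] at h1
    rw [hcb]
    conv_rhs => rw [h1]
    rw [inv_mul_cancel_right]
  have hcen' : Subgroup.centralizer ((pCore p (L ⧸ N₀) : Subgroup (L ⧸ N₀)) : Set (L ⧸ N₀)) ≤
      pCore p (L ⧸ N₀) := centric_pInnerAt.centralizer_quotient_le.{u, 0, 0} hTp hL hZE hZEp
  have hcO : cb ∈ pCore p (L ⧸ N₀) :=
    hcen' fun o ho => hcP o (pCore_le_sylow P' ho)
  have hcV : c ∈ relW W Z T :=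
    mem_relW_of_central hWZ hTp hZT hTn hcT fun s hs => hc.2 s (hTS hs)
  set N := Subgroup.normalizer
    (((W ↥(P' : Subgroup (L ⧸ N₀))).map (P' : Subgroup (L ⧸ N₀)).subtype : Subgroup (L ⧸ N₀)) :
      Set (L ⧸ N₀)) with hN
  have hcN : cb ∈ N := by
    refine Subgroup.le_normalizer ?_
    rw [hcb, hj, MonoidHom.comp_apply, ← hpre]
    exact mem_push.mpr ⟨c, hcV, hcT, ext_apply ι hcT⟩
  have hZN : (⟨cb, hcN⟩ : N) ∈ Subgroup.center N := by
    rw [Subgroup.mem_center_iff]
    rintro ⟨gb, hgb⟩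
    obtain ⟨g, rfl⟩ := hq_surj gb
    have hgn : ∀ y ∈ push ι (relW W Z T), g * y * g⁻¹ ∈ push ι (relW W Z T) := by
      intro y hy
      rw [hpre, map_mul, map_mul, map_inv]
      exact (Subgroup.mem_normalizer_iff.mp hgb _).mp ((hpre y).mp hy)
    obtain ⟨f, hf, hfg, hfV⟩ := exists_aut_of_normalizes hreal relW_le hgn
    have h1 := hAt f (hVeq.symm ▸ map_F_of_normalizerSystem hE hf) (by rw [hVeq]; exact hfV) c
      (hVeq.symm ▸ hcV) (by rw [inv_mul_cancel]; exact Z.one_mem)
    rw [heqc _ (hf.apply_mem hcV), hfg c hcV, map_mul, map_mul, map_inv,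
      (heqc c hcT).mp (by rw [inv_mul_cancel]; exact Z.one_mem)] at h1
    exact Subtype.ext (mul_inv_eq_iff_eq_mul.mp h1)
  have hcC : cb ∈ Subgroup.center (L ⧸ N₀) := by
    refine hloc (L ⧸ N₀) P' cb (fun h => hfree D hDn hDc E hE L ι hL (involves_of_surjective hq_surj h))
      hcO ⟨⟨cb, hcN⟩, hZN, rfl⟩ fun hw => ?_
    obtain ⟨z, hzS, hzc, hzp⟩ := hpw hw
    refine ⟨j ⟨z, hST hzS⟩, hjr.le ⟨_, rfl⟩, fun y hy => ?_, ?_⟩
    · rw [← hjr] at hy
      obtain ⟨s, rfl⟩ := hy
      have h1 : j ⟨z, hST hzS⟩ = j (s * ⟨z, hST hzS⟩ * s⁻¹) := by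
        rw [MonoidHom.eq_iff, ← hjk, Subgroup.mem_subgroupOf]
        have := Z.inv_mem (hzc s (hTS s.2))
        simpa [mul_assoc] using this
      rw [map_mul, map_mul, map_inv] at h1
      conv_rhs => rw [h1]
      rw [inv_mul_cancel_right]
    · rw [hcb, ← map_pow]
      exact congrArg j (Subtype.ext (by simpa using hzp))
  intro x hx hxc
  have hxD : x ∈ P ⊔ D := Subgroup.mem_sup_left hx
  have hPT : P ⊔ D ≤ T := hk.le.trans hST
  obtain ⟨-, -, g, hg⟩ := (realized_map_iff hreal).mp ((map_of_isNormalizerSystem hE).mpr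
    ⟨hk, hPT, fun y hy => hST (hk.apply_mem hy), k, hk.restrict (sup_le le_rfl le_sup_right),
      fun _ _ => rfl, hkD⟩)
  have hkx : k x ∈ T := hST (hk.apply_mem hxD)
  rw [heqc _ hkx, hg x hxD, map_mul, map_mul, map_inv, (heqc x (hPT hxD)).mp hxc,
    Subgroup.mem_center_iff.mp hcC, mul_inv_cancel_right]

/-- **Control of weak closure of elements by a functor**, relative to `Z`. -/
theorem cfix_of_at (hW : IsPFunctor p W) (hWZ : ∀ (Q : Type u) [Group Q] [Finite Q],
    IsPGroup p Q → Subgroup.center Q ≤ W Q) (hloc : CLoc p W H pw) :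
    ∀ (a b d : ℕ) (S : Subgroup Ω), Finite S → IsPGroup p S → ∀ F : FusionSystem S,
      F.IsSaturated p → F.IsSectionFree p H → ∀ Z : Subgroup Ω, F.IsNormal Z → IsPGroup p (F.autGroup Z) → Z < S →
        ∀ c ∈ S, (∀ s ∈ S, c⁻¹ * (s * c * s⁻¹) ∈ Z) →
          (pw → ∃ z ∈ S, (∀ s ∈ S, z⁻¹ * (s * z * s⁻¹) ∈ Z) ∧ z ^ p = c) → CAt F Z c (relW W Z S) →
          Nat.card S = a → mapsCard F = b → Nat.card S - Nat.card Z = d → CFix F Z c := by
  intro a
  induction a using Nat.strong_induction_on with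
  | _ a ihS =>
  intro b
  induction b using Nat.strong_induction_on with
  | _ b ihM =>
  intro d
  induction d using Nat.strong_induction_on with
  | _ d ihZ =>
  intro S hfinS hS F hF hfree Z hZ hZp hlt c hcS hcZ hpw hAt ha hb hd
  have hc : c ∈ modCenter F hZ := ⟨hcS, hcZ⟩
  have hSn : S ≤ Subgroup.normalizer (Z : Set Ω) :=
    stronglyClosed_normalized (isNormal_stronglyClosed hZ)
  set V := relW W Z S with hVdef
  set Q := F.core
  have hQ : F.IsNormal Q := isNormal_core F
  have hleQ : ∀ {U : Subgroup Ω}, F.IsNormal U → U ≤ Q := fun hU => le_sSup hU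
  have hZQ : Z ≤ Q := hleQ hZ
  have hQS := hQ.1
  have := finite_of_le hQS
  have hQsc := isNormal_stronglyClosed hQ
  have hQn : S ≤ Subgroup.normalizer (Q : Set Ω) := stronglyClosed_normalized hQsc
  by_cases hQc : F.IsCentric Q
  · intro P f hf x hx hxc
    obtain ⟨k, hk, hkf, hkQ⟩ := (isNormal_iff.mp hQ).2 P f hf
    rw [← hkf x hx]
    exact centric_cfix hW hWZ hloc hS hF hfree hpw hZ hZp hc hAt hQc (inf_eq_left.mpr hQn) hk hkQ x hx hxc
  rcases eq_or_lt_of_le hZQ with hQZ | hQZ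
  swap
  · by_cases hQp : IsPGroup p (F.autGroup Q)
    · -- descend to the next layer
      have hAutQ : ∀ {g : Ω → Ω}, Map F Q g → ∃ s ∈ S, ∀ x ∈ Q, g x = s * x * s⁻¹ := fun {g} hg => by
        obtain ⟨α, hα, hαg⟩ := hg.exists_aut (img_eq_of_stronglyClosed hQsc le_rfl hg)
        obtain ⟨s, hs, -, hse⟩ := mem_autInducedBy_iff.mp
          (autGroup_le_autInducedBy_of_pGroup hS hF (normal_isFullyNormalized hQ) hQp hα)
        exact ⟨s, hs, fun x hx => (hαg x hx).symm.trans (hse x hx)⟩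
      set Z' := Q ⊓ modCenter F hZ with hZ'def
      have hZZ' : Z ≤ Z' := le_inf hZQ (le_modCenter hZ)
      have hZ'S : Z' ≤ S := inf_le_left.trans hQS
      have hconjZ' : ∀ {s x : Ω}, s ∈ S → x ∈ Z' → s * x * s⁻¹ ∈ Z' := fun {s x} hs hx =>
        ⟨conj_mem_of_mem_normalizer (hQn hs) hx.1, by
          have := (modCenter F hZ).mul_mem hx.2 (le_modCenter hZ (hx.2.2 s hs))
          rwa [mul_inv_cancel_left] at this⟩
      have hZ' : F.IsNormal Z' := by
        refine isNormal_iff.mpr ⟨hZ'S, fun P f hf => ?_⟩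
        obtain ⟨k, hk, hkf, -⟩ := (isNormal_iff.mp hQ).2 P f hf
        have hle : P ⊔ Z' ≤ P ⊔ Q := sup_le_sup_left inf_le_left P
        refine ⟨k, hk.restrict hle, hkf, ?_⟩
        obtain ⟨s, hs, hks⟩ := hAutQ (hk.restrict le_sup_right)
        have := finite_of_le hZ'S
        refine eq_of_le_of_card_le hZ'S (img_le_iff.mpr fun x hx => ?_)
          ((hk.restrict hle).restrict le_sup_right).card_img.ge
        rw [hks x hx.1]
        exact hconjZ' hs hx
      have hZ'sc := isNormal_stronglyClosed hZ'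
      have hZ'p : IsPGroup p (F.autGroup Z') := by
        have := finite_of_le hZ'S
        refine (isPGroup_autInducedBy hS).to_le fun α hα => ?_
        obtain ⟨k, hk, hkα, -⟩ := (isNormal_iff.mp hQ).2 _ _ ((mem_autGroup_iff hZ'S).mp hα)
        obtain ⟨s, hs, hks⟩ := hAutQ (hk.restrict le_sup_right)
        exact mem_autInducedBy_iff.mpr
          ⟨s, hs, mem_normalizer_of_conj_mem fun x hx => hconjZ' hs hx,
            fun x hx => (hkα x hx).symm.trans (hks x hx.1)⟩
      have hQlt : Q < S := lt_of_le_of_ne hQS fun h => hQc ⟨hQS, fun R hR => by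
        obtain ⟨g, hg, rfl⟩ := isConj_iff.mp hR
        rw [img_eq_of_stronglyClosed hQsc le_rfl hg, h]
        exact centralizerIn_le S S⟩
      have hZlt : Z < Z' := by
        refine lt_of_le_of_ne hZZ' fun he => ?_
        have := normal_subgroupOf_of_le hZ.1 hSn
        have := normal_subgroupOf_of_le hQS hQn
        have hSq : IsPGroup p (↥S ⧸ Z.subgroupOf S) := hS.to_quotient _
        have := hSq.isNilpotent
        set π := QuotientGroup.mk' (Z.subgroupOf S)
        have hπ : Function.Surjective π := QuotientGroup.mk'_surjective _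
        have := (inferInstance : (Q.subgroupOf S).Normal).map π hπ
        have hNne : (Q.subgroupOf S).map π ≠ ⊥ := fun hb => by
          obtain ⟨x, hxQ, hxZ⟩ := SetLike.exists_of_lt hQZ
          have h1 : π ⟨x, hQS hxQ⟩ ∈ (Q.subgroupOf S).map π :=
            Subgroup.mem_map_of_mem π (show (⟨x, hQS hxQ⟩ : S) ∈ Q.subgroupOf S from hxQ)
          rw [hb, Subgroup.mem_bot] at h1
          exact hxZ (Subgroup.mem_subgroupOf.mp ((QuotientGroup.eq_one_iff _).mp h1))
        obtain ⟨y, hy, hy1⟩ := (Subgroup.bot_or_exists_ne_one _).resolve_left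
          (CfsgLib.Core.nilpotent_inf_center_ne_bot hNne)
        obtain ⟨q, hq, rfl⟩ := hy.1
        refine hy1 ((QuotientGroup.eq_one_iff q).mpr (Subgroup.mem_subgroupOf.mpr
          (he.ge ⟨hq, q.2, fun s hs => ?_⟩)))
        have h1 : π q = π (⟨s, hs⟩ * q * ⟨s, hs⟩⁻¹) := by
          rw [map_mul, map_mul, map_inv, Subgroup.mem_center_iff.mp hy.2 (π ⟨s, hs⟩),
            mul_inv_cancel_right]
        exact Subgroup.mem_subgroupOf.mp (QuotientGroup.eq.mp h1)
      have hcase : ∀ {P : Subgroup Ω} {f : Ω → Ω}, Map F P f → ∀ x ∈ P, c⁻¹ * x ∈ Z →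
          c ∈ Q → c⁻¹ * f x ∈ Z := by
        intro P f hf x hx hxc hcQ
        obtain ⟨k, hk, hkf, -⟩ := (isNormal_iff.mp hQ).2 P f hf
        obtain ⟨s, hs, hks⟩ := hAutQ (hk.restrict le_sup_right)
        have hxM := eq_conj_mul_mem hxc (le_modCenter hZ) hc
        rw [← hkf x hx, hks x (eq_conj_mul_mem hxc hZQ hcQ)]
        have h2 := Z.mul_mem hxc (hxM.2 s hs)
        simpa [mul_assoc] using h2
      set V' := relW W Z' S with hV'def
      have hV'S : V' ≤ S := relW_le
      have hS'n : S ≤ Subgroup.normalizer (Z' : Set Ω) := stronglyClosed_normalized hZ'sc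
      have hcV' : c ∈ V' :=
        mem_relW_of_central hWZ hS hZ'S hS'n hcS fun s hs => hZZ' (hcZ s hs)
      intro P f hf x hx hxc
      by_cases hV'Q : V' ≤ Q
      · exact hcase hf x hx hxc (hV'Q hcV')
      have hNV' : normalizerIn S V' = S := normalizerIn_relW hW hS hZ'
      have hV'n : F.IsFullyNormalized V' :=
        ⟨hV'S, fun R _ => by rw [hNV']; exact Subgroup.card_le_of_le (normalizerIn_le S R)⟩
      obtain ⟨E, hE⟩ := exists_normalizerSystem F hV'S
      have hrel := relSys_normalizer hS hF hV'n hE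
      have := finite_of_le hrel.le
      have hZT : Z ≤ normalizerIn S V' := hNV'.symm ▸ hZ.1
      have hne : ¬ ∀ P f, Map F P f → Map E P f := fun hall => hV'Q
        (hleQ (isNormal_iff.mpr ⟨hV'S, fun P g hg => by
          obtain ⟨w, hw, hwg, hwU⟩ :=
            (isNormal_iff.mp (normal_in_normalizerSystem hV'S hE)).2 P g (hall P g hg)
          exact ⟨w, map_F_of_normalizerSystem hE hw, hwg, hwU⟩⟩))
      have hEfix : CFix E Z c := by
        refine ihM _ (hb ▸ mapsCard_lt (fun P g => map_F_of_normalizerSystem hE) hne) _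
          (normalizerIn S V') inferInstance (hS.to_le hrel.le) E (hrel.saturated hS hF)
          (hrel.sectionFree hS hF (le_normalizerIn hV'S) hfree) Z
          (hrel.isNormal_of_normal hZ hZT) (hZp.to_le (hrel.autGroup_le hZT)) (hNV'.symm ▸ hlt) c
          (hNV'.symm ▸ hcS) (fun s hs => hcZ s (normalizerIn_le _ _ hs))
          (fun hw => by
            obtain ⟨z, hzS, hzc, hzp⟩ := hpw hw
            exact ⟨z, hNV'.symm ▸ hzS, fun s hs => hzc s (normalizerIn_le _ _ hs), hzp⟩) ?_ (by rw [hNV']; exact ha)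
          rfl rfl
        have heq : relW W Z (normalizerIn S V') = relW W Z S := by rw [hNV']
        rw [heq]
        exact hAt.of_le fun P f => map_F_of_normalizerSystem hE
      have hAt' : CAt F Z' c V' := by
        intro k hk hkV y hy hyc
        have hkE : Map E V' k := (map_of_isNormalizerSystem hE).mpr
          ⟨hk, hNV'.symm ▸ hV'S, fun z hz => hNV'.symm ▸ hk.apply_mem hz, k,
            hk.restrict (sup_le le_rfl le_rfl), fun _ _ => rfl, hkV⟩
        have h1 : c⁻¹ * k c ∈ Z' :=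
          hZZ' (hEfix V' k hkE c hcV' (by rw [inv_mul_cancel]; exact Z.one_mem))
        have hm : c⁻¹ * y ∈ V' := V'.mul_mem (V'.inv_mem hcV') hy
        have h2 : k (c⁻¹ * y) ∈ Z' := stronglyClosed_apply hZ'sc hk hm hyc
        rw [hk.map_mul (V'.inv_mem hcV') hy, hk.map_inv hcV'] at h2
        have h3 := Z'.mul_mem h1 h2
        simpa [mul_assoc] using h3
      have hfix' : CFix F Z' c := by
        have h1 : Nat.card Z < Nat.card Z' := card_lt_of_lt hZ'S hZlt
        have h2 := Subgroup.card_le_of_le hZ'S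
        exact ihZ _ (by omega) S hfinS hS F hF hfree Z' hZ' hZ'p (lt_of_le_of_lt inf_le_left hQlt) c hcS
          (fun s hs => hZZ' (hcZ s hs)) (fun hw => by
            obtain ⟨z, hzS, hzc, hzp⟩ := hpw hw
            exact ⟨z, hzS, fun s hs => hZZ' (hzc s hs), hzp⟩) hAt' ha hb rfl
      exact burnside_mod hW hWZ hS hF hZ hAt hf hx hxc
        (eq_conj_mul_mem hxc (le_modCenter hZ) hc)
        (eq_conj_mul_mem (hfix' P f hf x hx (hZZ' hxc)) inf_le_right hc)
    · -- the system inducing `Aut_S(Q)` on `Q` and `N_F(QC_S(Q))`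
      obtain ⟨E, hE⟩ := exists_innerSystem hS hF hQ
      have hEF : ∀ P f, Map E P f → Map F P f := fun P f h => (hE.map_iff.mp h).1
      have hne : ¬ ∀ P f, Map F P f → Map E P f := fun hall => hQp (by
        refine (isPGroup_autInducedBy hS).to_le fun α hα => ?_
        obtain ⟨-, -, -, k, -, hkα, s, hs, hks⟩ :=
          hE.map_iff.mp (hall _ _ ((mem_autGroup_iff hQS).mp hα))
        exact mem_autInducedBy_iff.mpr
          ⟨s, hs, hQn hs, fun x hx => (hkα x hx).symm.trans (hks x hx)⟩)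
      have hEfix : CFix E Z c := ihM _ (hb ▸ mapsCard_lt hEF hne) _ S hfinS hS E
        (hE.saturated hS hF) (hE.sectionFree hS hF hQS hfree) Z (hE.isNormal_of_normal hZ hZ.1)
        (hZp.to_le (hE.autGroup_le hZ.1)) hlt c hcS hcZ hpw (hAt.of_le hEF) ha rfl rfl
      intro P f hf x hx hxc
      obtain ⟨D, j, i, k, hDc, hND, hj, hjD, hij, -, hkf, huE⟩ := exists_factor hS hF hQ hE hf
      have hxPQ : x ∈ P ⊔ Q := Subgroup.mem_sup_left hx
      have h1 := centric_cfix hW hWZ hloc hS hF hfree hpw hZ hZp hc hAt hDc hND hj hjD x hxPQ hxc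
      have h2 := hEfix _ _ huE (j x) (mem_img_of_mem j hxPQ) h1
      rwa [show k (i (j x)) = f x by rw [hij x hxPQ, hkf x hx]] at h2
  · -- the maximal normal subgroup is `Z`
    suffices ∀ (n : ℕ) (P : Subgroup Ω) (f : Ω → Ω), Map F P f → Nat.card S - Nat.card P = n →
        ∀ x ∈ P, c⁻¹ * x ∈ Z → c⁻¹ * f x ∈ Z from
      fun P f hf => this _ P f hf rfl
    intro n
    induction n using Nat.strong_induction_on with
    | _ n ihn =>
    intro P₀ f₀ hf₀ hn
    have larger : ∀ (R : Subgroup Ω) (g : Ω → Ω), Map F R g → Nat.card P₀ < Nat.card R →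
        ∀ x ∈ R, c⁻¹ * x ∈ Z → c⁻¹ * g x ∈ Z := fun R g hg hlt' => by
      have := Subgroup.card_le_of_le hg.le
      exact ihn _ (by omega) R g hg rfl
    have hstep : ∀ (m : ℕ) (U P : Subgroup Ω) (k : Ω → Ω),
        Nat.card S - Nat.card (normalizerIn S U) = m → Z < U → U ≤ S → P ≤ normalizerIn S U →
        (Nat.card P₀ < Nat.card (normalizerIn S U) ∨ normalizerIn S U = S) →
        Map F (P ⊔ U) k → img k U = U → ∀ x ∈ P, c⁻¹ * x ∈ Z → c⁻¹ * k x ∈ Z := by
      intro m
      induction m using Nat.strong_induction_on with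
      | _ m ihm =>
      intro U P k hm hZU hUS hPN hbig hk hkU x hx hxc
      obtain ⟨U', k₀, hU', hk₀, hk₀U, hk₀c⟩ : ∃ U' k₀, F.IsFullyNormalized U' ∧
          Map F (normalizerIn S U) k₀ ∧ img k₀ U = U' ∧
          ∀ x ∈ normalizerIn S U, c⁻¹ * x ∈ Z → c⁻¹ * k₀ x ∈ Z := by
        rcases hbig with hb' | hb'
        · obtain ⟨U', k₀, hU', hk₀, hk₀U⟩ := exists_fullyNormalized_map hS hF hUS
          exact ⟨U', k₀, hU', hk₀, hk₀U, larger _ _ hk₀ hb'⟩
        · exact ⟨U, fun x => x, ⟨hUS, fun R _ => by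
            rw [hb']; exact Subgroup.card_le_of_le (normalizerIn_le S R)⟩,
            map_id (normalizerIn_le S U), img_id U, fun _ _ h => h⟩
      have hUN : U ≤ normalizerIn S U := le_normalizerIn hUS
      have hcnorm : ∀ {A : Subgroup Ω}, Z ≤ A → A ≤ S → c ∈ normalizerIn S A := fun {A} hZA hAS => by
        have := finite_of_le hAS
        refine ⟨hcS, mem_normalizer_of_conj_mem fun r hr => ?_⟩
        have h1 := conj_mem_of_mem_normalizer (hSn hcS) (hcZ r (hAS hr))
        have h2 := A.mul_mem (A.inv_mem (hZA h1)) hr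
        simpa [mul_assoc] using h2
      have hxU : x ∈ normalizerIn S U := hPN hx
      have hPU : P ⊔ U ≤ normalizerIn S U := sup_le hPN hUN
      obtain ⟨i, hi, hik, himem, -⟩ := hk₀.exists_inv
      have hkP : ∀ x ∈ P ⊔ U, k x ∈ normalizerIn S U := fun x hx => by
        have := hk.apply_mem_normalizerIn le_sup_right hx (hPU hx).2
        rwa [hkU] at this
      set D₀ := img k₀ (P ⊔ U) with hD₀
      have hk₀' := hk₀.restrict hPU
      have hD₀mem : ∀ y ∈ D₀, i y ∈ P ⊔ U ∧ k₀ (i y) = y := fun y hy => by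
        obtain ⟨x, hx, rfl⟩ := hk₀'.mem_img.mp hy
        rw [hik x (hPU hx)]
        exact ⟨hx, rfl⟩
      have hf' : Map F D₀ fun y => k₀ (k (i y)) :=
        ((hi.restrict (img_mono k₀ hPU)).comp hk fun y hy => (hD₀mem y hy).1).comp hk₀
          fun y hy => hkP _ (hD₀mem y hy).1
      have hU'D : U' ≤ D₀ := hk₀U ▸ img_mono k₀ le_sup_right
      have hk₀N : ∀ x ∈ normalizerIn S U, k₀ x ∈ normalizerIn S U' := fun x hx => by
        have := hk₀.apply_mem_normalizerIn hUN hx hx.2
        rwa [hk₀U] at this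
      set T' := normalizerIn S U' with hT'
      have hT'S : T' ≤ S := normalizerIn_le S U'
      have := finite_of_le hT'S
      have hT'p := hS.to_le hT'S
      obtain ⟨E', hE'⟩ := exists_normalizerSystem F hU'.1
      have hrel := relSys_normalizer hS hF hU' hE'
      have hE's := hrel.saturated hS hF
      have hZU' : Z < U' := by
        refine lt_of_le_of_ne ?_ fun h => ?_
        · rw [← hk₀U, ← img_eq_of_stronglyClosed (isNormal_stronglyClosed hZ) le_rfl
            (hk₀.restrict (hZU.le.trans hUN))]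
          exact img_mono k₀ hZU.le
        · have h1 := card_lt_of_lt hUS hZU
          rw [← (hk₀.restrict hUN).card_img, hk₀U, ← h] at h1
          exact lt_irrefl _ h1
      have hZT' : Z < T' := lt_of_lt_of_le hZU' (le_normalizerIn hU'.1)
      have hT'card : Nat.card (normalizerIn S U) ≤ Nat.card T' :=
        hk₀.card_img ▸ Subgroup.card_le_of_le (img_le_iff.mpr hk₀N)
      have hcT' : c ∈ T' := hcnorm hZU'.le hU'.1
      have hEfix : CFix E' Z c := by
        have hZn' := hrel.isNormal_of_normal hZ hZT'.le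
        have hZp' := hZp.to_le (hrel.autGroup_le hZT'.le)
        have hfree' := hrel.sectionFree hS hF (le_normalizerIn hU'.1) hfree
        have hpw' : pw → ∃ z ∈ T', (∀ s ∈ T', z⁻¹ * (s * z * s⁻¹) ∈ Z) ∧ z ^ p = c := fun hw => by
          obtain ⟨z, hzS, hzc, hzp⟩ := hpw hw
          refine ⟨z, ⟨hzS, ?_⟩, fun s hs => hzc s (hT'S hs), hzp⟩
          have := finite_of_le hU'.1
          refine mem_normalizer_of_conj_mem fun r hr => ?_
          have h1 := conj_mem_of_mem_normalizer (hSn hzS) (hzc r (hU'.1 hr))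
          have h2 := U'.mul_mem (U'.inv_mem (hZU'.le h1)) hr
          simpa [mul_assoc] using h2
        have hcZ' : ∀ s ∈ T', c⁻¹ * (s * c * s⁻¹) ∈ Z := fun s hs => hcZ s (hT'S hs)
        rcases eq_or_lt_of_le hT'S with heq | hlt'
        · have hne : ¬ ∀ P f, Map F P f → Map E' P f := fun hall => not_le_of_gt hZU' (by
            rw [hQZ]
            refine hleQ (isNormal_iff.mpr ⟨hU'.1, fun P g hg => ?_⟩)
            obtain ⟨w, hw, hwg, hwU⟩ :=
              (isNormal_iff.mp (normal_in_normalizerSystem hU'.1 hE')).2 P g (hall P g hg)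
            exact ⟨w, map_F_of_normalizerSystem hE' hw, hwg, hwU⟩)
          refine ihM _ (hb ▸ mapsCard_lt (fun P g => map_F_of_normalizerSystem hE') hne) _ T'
            inferInstance hT'p E' hE's hfree' Z hZn' hZp' hZT' c hcT' hcZ' hpw' ?_ (heq ▸ ha) rfl rfl
          have heq' : relW W Z T' = relW W Z S := by rw [heq]
          rw [heq']
          exact hAt.of_le fun P f => map_F_of_normalizerSystem hE'
        · refine ihS _ (ha ▸ card_lt_of_lt le_rfl hlt') _ _ T' inferInstance hT'p E' hE's hfree' Z hZn'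
            hZp' hZT' c hcT' hcZ' hpw' ?_ rfl rfl rfl
          set V' := relW W Z T'
          have hT'n : T' ≤ Subgroup.normalizer (Z : Set Ω) := hT'S.trans hSn
          have hV'lt := lt_relW hW hT'p hZT' hT'n
          have hV'S : V' ≤ S := relW_le.trans hT'S
          have hgrow : normalizerIn S T' ≤ normalizerIn S V' := fun s hs =>
            ⟨hs.1, img_relW_conj hW hT'p hT'S hZ hZT'.le hs.1 hs.2⟩
          have h1 : Nat.card T' < Nat.card (normalizerIn S T') :=
            card_lt_of_lt (normalizerIn_le S T') (lt_normalizerIn hS hlt')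
          have := finite_of_le (normalizerIn_le S V')
          have h2 := Subgroup.card_le_of_le hgrow
          have h3 : Nat.card P₀ < Nat.card (normalizerIn S V') := by
            rcases hbig with hb' | hb'
            · omega
            · exfalso
              rw [hb'] at hT'card
              exact absurd (card_lt_of_lt le_rfl hlt') (not_lt.mpr hT'card)
          have h4 := Subgroup.card_le_of_le (normalizerIn_le S V')
          intro w hw hwV y hy hyc
          exact ihm _ (by omega) V' V' w rfl hV'lt hV'S (le_normalizerIn hV'S) (Or.inl h3)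
            ((map_F_of_normalizerSystem hE' hw).restrict (sup_le le_rfl le_rfl)) hwV y hy hyc
      have hEf' : Map E' D₀ fun y => k₀ (k (i y)) := by
        refine (map_of_isNormalizerSystem hE').mpr ⟨hf', fun y hy => ?_,
          fun y hy => hk₀N _ (hkP _ (hD₀mem y hy).1), _,
          hf'.restrict (sup_le le_rfl hU'D), fun _ _ => rfl, ?_⟩
        · obtain ⟨x, hx, rfl⟩ := hk₀'.mem_img.mp hy
          exact hk₀N x (hPU hx)
        · refine eq_of_le_of_card_le hU'.1 (img_le_iff.mpr fun y hy => ?_)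
            (hf'.restrict hU'D).card_img.ge
          obtain ⟨x, hx, rfl⟩ := (hk₀.restrict hUN).mem_img.mp (hk₀U.ge hy)
          rw [hik x (hUN hx), ← hk₀U]
          exact mem_img_of_mem k₀ (hkU.le (mem_img_of_mem k hx))
      have h1 := hEfix _ _ hEf' (k₀ x) (mem_img_of_mem k₀ (Subgroup.mem_sup_left hx))
        (hk₀c x hxU hxc)
      rw [hik x hxU] at h1
      -- pull back along `k₀`
      have hcU : c ∈ normalizerIn S U := hcnorm hZU.le hUS
      have hkx := hkP x (Subgroup.mem_sup_left hx)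
      have hkc : c⁻¹ * k₀ c ∈ Z := hk₀c c hcU (by rw [inv_mul_cancel]; exact Z.one_mem)
      have h2 := Z.mul_mem (Z.inv_mem hkc) h1
      have h3 : k₀ (c⁻¹ * k x) ∈ Z := by
        rw [hk₀.map_mul (Subgroup.inv_mem _ hcU) hkx, hk₀.map_inv hcU]
        simpa [mul_assoc] using h2
      have hmem := Subgroup.mul_mem _ (Subgroup.inv_mem _ hcU) hkx
      have h4 := stronglyClosed_apply (isNormal_stronglyClosed hZ) hi (mem_img_of_mem k₀ hmem) h3
      rwa [hik _ hmem] at h4
    let Pr : Subgroup Ω → (Ω → Ω) → Prop := fun R g =>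
      Nat.card P₀ ≤ Nat.card R → ∀ x ∈ R, (c⁻¹ * x ∈ Z ↔ c⁻¹ * g x ∈ Z)
    have hPr : Propagates F Pr := {
      congr := fun h he hd x hx => by rw [← he x hx]; exact h hd x hx
      comp := fun {P R g g'} hg hg' h h' hmem hd x hx => by
        have hle : Nat.card P ≤ Nat.card R := by
          rw [← hg.card_img]
          have := finite_of_le hg'.le
          exact Subgroup.card_le_of_le (img_le_iff.mpr hmem)
        exact (h hd x hx).trans (h' (hd.trans hle) (g x) (hmem x hx))
      inv := fun {P g g'} hg hg' hgg h hd y hy => by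
        obtain ⟨x, hx, rfl⟩ := hg.mem_img.mp hy
        rw [hgg x hx]
        exact (h (hg.card_img ▸ hd) x hx).symm
      id := fun hR hd x hx => Iff.rfl }
    suffices hgen : ∀ R : Subgroup Ω, (R = S ∨ F.IsEssential p R) → ∀ α ∈ F.autGroup R,
        Nat.card P₀ ≤ Nat.card R → ∀ x ∈ R, c⁻¹ * x ∈ Z → c⁻¹ * autFun α x ∈ Z from
      fun x hx hxc => (alperin hS hF hPr (fun R hR α hα hd y hy => ⟨hgen R hR α hα hd y hy,
        fun h => by
          have := hgen R hR α⁻¹ (inv_mem hα) hd _ (autFun_mem α hy) h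
          rwa [autFun_inv_apply α hy] at this⟩) hf₀ le_rfl x hx).mp hxc
    intro R hR α hα hd
    rcases hR with rfl | hR
    · intro x hx hxc
      have hα' := (mem_autGroup_iff le_rfl).mp hα
      have hxV : x ∈ V := mem_relW_of_central hWZ hS hZ.1 hSn hx
        (eq_conj_mul_mem hxc (le_modCenter hZ) hc).2
      exact hAt (autFun α) (hα'.restrict relW_le)
        (img_relW hW hS hZ.1 hSn hα' le_rfl (img_autFun α)
          (img_eq_of_stronglyClosed (isNormal_stronglyClosed hZ) le_rfl (hα'.restrict hZ.1)))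
        x hxV hxc
    · have hRS := hR.1.1
      have hRr := isRadical_of_isEssential hS hF hR
      have hZR : Z < R := lt_of_le_of_ne (isNormal_le_centric_radical hS hZ hR.1 hRr)
        fun h => hQc (by rw [← hQZ, h]; exact hR.1)
      have hα' := (mem_autGroup_iff hRS).mp hα
      rcases eq_or_lt_of_le hRS with hRS' | hRS'
      · exact hstep _ R R _ rfl hZR hRS (le_normalizerIn hRS)
          (Or.inr (by rw [hRS']; exact normalizerIn_self S))
          (hα'.restrict (sup_le le_rfl le_rfl)) (img_autFun α)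
      · exact hstep _ R R _ rfl hZR hRS (le_normalizerIn hRS)
          (Or.inl (lt_of_le_of_lt hd (card_lt_of_lt (normalizerIn_le S R) (lt_normalizerIn hS hRS'))))
          (hα'.restrict (sup_le le_rfl le_rfl)) (img_autFun α)

/-- An element of the centre of `N_F(W(S))` meeting the local condition is central in `F`. -/
theorem mem_center_of_local (hW : IsPFunctor p W) (hWZ : ∀ (Q : Type u) [Group Q] [Finite Q],
    IsPGroup p Q → Subgroup.center Q ≤ W Q) (hloc : CLoc p W H pw) (hS : IsPGroup p S)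
    (hF : F.IsSaturated p) (hfree : F.IsSectionFree p H) (hV : V = (W ↥S).map S.subtype)
    {N : FusionSystem (normalizerIn S V)} (hN : F.IsNormalizerSystem V N) {x : Ω} (hx : x ∈ N.center)
    (hpw : pw → ∃ z ∈ S, (∀ s ∈ S, s * z = z * s) ∧ z ^ p = x) : x ∈ F.center := by
  have hVS : V ≤ S := hV ▸ Subgroup.map_subtype_le _
  have hVrel : relW W ⊥ S = V := (relW_bot hW hS).trans hV.symm
  have hNS : normalizerIn S V = S := hVrel ▸ normalizerIn_relW hW hS (isNormal_bot F)
  have := finite_of_le (normalizerIn_le S V)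
  have hVN : V ≤ normalizerIn S V := le_normalizerIn hVS
  have hNmap : ∀ {k : Ω → Ω}, Map F V k → img k V = V → Map N V k := fun {k} hk hkV =>
    (map_of_isNormalizerSystem hN).mpr ⟨hk, hVN, fun z hz => hNS.symm ▸ hk.apply_mem hz, k,
      hk.restrict (sup_le le_rfl le_rfl), fun _ _ => rfl, hkV⟩
  have hxS : x ∈ S := hNS.le ((isCentral_center N).1 hx)
  rcases eq_or_ne S ⊥ with hS1 | hS1
  · rw [show x = 1 from Subgroup.mem_bot.1 (hS1 ▸ hxS)]
    exact F.center.one_mem
  refine (le_sSup (s := {Q | F.IsCentral Q}) (isCentral_of_fixed hS hF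
    (Subgroup.zpowers_le.mpr hxS) fun a ha y hy => ?_) : Subgroup.zpowers x ≤ F.center)
    (Subgroup.mem_zpowers _)
  obtain ⟨i, rfl⟩ := Subgroup.mem_zpowers_iff.mp ha
  replace hpw : pw → ∃ z ∈ S, (∀ s ∈ S, s * z = z * s) ∧ z ^ p = x ^ i := fun hw => by
    obtain ⟨z, hzS, hzc, hzp⟩ := hpw hw
    exact ⟨z ^ i, S.zpow_mem hzS i, fun s hs => ((show Commute s z from hzc s hs).zpow_right i).eq,
      by rw [← zpow_natCast, ← zpow_mul, mul_comm, zpow_mul, zpow_natCast, hzp]⟩
  replace hx : x ^ i ∈ N.center := N.center.zpow_mem hx i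
  replace hxS : x ^ i ∈ S := S.zpow_mem hxS i
  clear ha
  generalize x ^ i = a at hy hpw hx hxS ⊢
  clear! x
  have hxc : ∀ s ∈ S, a⁻¹ * (s * a * s⁻¹) ∈ (⊥ : Subgroup Ω) := fun s hs => by
    have h1 := map_fixed_of_central (isCentral_center N)
      (map_conj (F := N) (P := normalizerIn S V) le_rfl (hNS.ge hs)) (hNS.ge hxS) hx
    rw [Subgroup.mem_bot, h1, inv_mul_cancel]
  have hpw' : pw → ∃ z ∈ S, (∀ s ∈ S, z⁻¹ * (s * z * s⁻¹) ∈ (⊥ : Subgroup Ω)) ∧ z ^ p = a :=
    fun hw => by
    obtain ⟨z, hzS, hzc, hzp⟩ := hpw hw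
    refine ⟨z, hzS, fun s hs => ?_, hzp⟩
    rw [Subgroup.mem_bot, hzc s hs, mul_inv_cancel_right, inv_mul_cancel]
  have hAutbot : IsPGroup p (F.autGroup ⊥) := fun α => ⟨0, Subsingleton.elim _ _⟩
  have hAt : CAt F ⊥ a (relW W ⊥ S) := by
    rw [hVrel]
    intro k hk hkV z hz hzx
    rw [Subgroup.mem_bot, inv_mul_eq_one] at hzx ⊢
    subst hzx
    exact (map_fixed_of_central (isCentral_center N) (hNmap hk hkV) hz hx).symm
  have hfix := cfix_of_at hW hWZ hloc _ _ _ S inferInstance hS F hF hfree ⊥ (isNormal_bot F) hAutbot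
    (bot_lt_iff_ne_bot.mpr hS1) a hxS hxc hpw' hAt rfl rfl rfl
  obtain ⟨f, hf, rfl⟩ := isConjElt_iff.mp hy
  have := hfix _ f hf a (Subgroup.mem_zpowers a) (by simp)
  rw [Subgroup.mem_bot, inv_mul_eq_one] at this
  exact this.symm

end CfsgLib.Fusion.CenterGen
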