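import Cfsg.Agent.Lib.FusionControl
import Cfsg.Agent.Lib.FusionModel

/-!
# The centre of a system is a direct factor of the centre of its group
-/

set_option autoImplicit false

namespace CfsgLib.Fusion

open Cfsg Cfsg.FusionSystem

set_option linter.unusedSectionVars false

universe u

variable {Ω : Type u} [Group Ω] {S : Subgroup Ω} [Finite S] {F : FusionSystem S}
  {Q : Subgroup Ω} {p : ℕ} [Fact p.Prime]

open scoped Classical in
/-- If `Z(S)` lies in a normal subgroup of the system, `Z(F)` has a complement in `Z(S)`. -/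
theorem exists_center_complement (hS : IsPGroup p S) (hF : F.IsSaturated p) (hQ : F.IsNormal Q)
    (hZ : S ⊓ Subgroup.centralizer (S : Set Ω) ≤ Q) :
    ∃ K : Subgroup Ω, K ≤ S ⊓ Subgroup.centralizer (S : Set Ω) ∧ F.center ⊓ K = ⊥ ∧
      F.center ⊔ K = S ⊓ Subgroup.centralizer (S : Set Ω) := by
  set Z := S ⊓ Subgroup.centralizer (S : Set Ω) with hZdef
  have hQS : Q ≤ S := (isNormal_iff.mp hQ).1
  have := finite_of_le hQS
  have := finite_mulAut Q
  set A := F.autGroup Q with hA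
  set B := (autInducedBy S Q).subgroupOf A with hB
  have hBi : ¬ p ∣ B.index := ((isFullyAutomized_iff hS).mp
    (isFullyAutomized_of_fullyNormalized hS hF (normal_isFullyNormalized hQ))).2
  have hcZ : F.center ≤ Z := fun z hz =>
    ⟨(isCentral_center F).1 hz, fun s hs => (center_commute hz hs).eq⟩
  set V := Q ⊓ Subgroup.centralizer (Q : Set Ω) with hV
  have hZV : Z ≤ V := fun z hz => ⟨hZ hz, fun q hq => hz.2 q (hQS hq)⟩
  letI : CommGroup V := { (inferInstance : Group V) with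
    mul_comm := fun a b => Subtype.ext ((Subgroup.mem_centralizer_iff.mp b.2.2 a a.2.1)) }
  have hAm : ∀ a : A, Map F Q (autFun (a : MulAut Q)) := fun a => (mem_autGroup_iff hQS).mp a.2
  have hV' : ∀ (a : A), ∀ v ∈ V, autFun (a : MulAut Q) v ∈ V := fun a v hv => by
    refine ⟨autFun_mem _ hv.1, fun q hq => ?_⟩
    obtain ⟨q', hq', rfl⟩ := (hAm a).mem_img.mp ((img_autFun (a : MulAut Q)).ge hq)
    rw [← (hAm a).map_mul hq' hv.1, ← (hAm a).map_mul hv.1 hq',
      Subgroup.mem_centralizer_iff.mp hv.2 q' hq']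
  have hBfix : ∀ b ∈ B, ∀ z ∈ Z, autFun ((b : A) : MulAut Q) z = z := fun b hb z hz => by
    obtain ⟨s, hs, -, he⟩ := mem_autInducedBy_iff.mp (Subgroup.mem_subgroupOf.mp hb)
    rw [he z (hZ hz), hz.2 s hs, mul_inv_cancel_right]
  have : Finite (A ⧸ B) := inferInstance
  letI := Fintype.ofFinite (A ⧸ B)
  let act : A → ↥Z →* V := fun a =>
    { toFun := fun z => ⟨autFun (a : MulAut Q) z, hV' a z (hZV z.2)⟩
      map_one' := Subtype.ext (hAm a).map_one
      map_mul' := fun x y => Subtype.ext ((hAm a).map_mul (hZ x.2) (hZ y.2)) }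
  let tr : ↥Z →* V := ∏ q : A ⧸ B, act q.out
  have htr : ∀ z, tr z = ∏ q : A ⧸ B, act q.out z := fun z => MonoidHom.finsetProd_apply _ _ _
  have hact : ∀ (a : A) (b : A), b ∈ B → act (a * b) = act a := fun a b hb => by
    refine MonoidHom.ext fun z => Subtype.ext ?_
    show autFun ((a * b : A) : MulAut Q) z = autFun (a : MulAut Q) z
    rw [Subgroup.coe_mul, autFun_mul _ _ (hZ z.2), hBfix b hb z z.2]
  have hfix : ∀ (a : A) (z : ↥Z), autFun (a : MulAut Q) (tr z : Ω) = tr z := by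
    intro a z
    let φ : V →* V :=
      { toFun := fun v => ⟨autFun (a : MulAut Q) v, hV' a v v.2⟩
        map_one' := Subtype.ext (hAm a).map_one
        map_mul' := fun x y => Subtype.ext ((hAm a).map_mul x.2.1 y.2.1) }
    have h1 : φ (tr z) = tr z := by
      rw [htr, map_prod]
      refine Fintype.prod_equiv (MulAction.toPerm a) _ _ fun q => ?_
      obtain ⟨b, hb, he⟩ : ∃ b ∈ B, (a • q : A ⧸ B).out = a * q.out * b := by
        refine ⟨(a * q.out)⁻¹ * (a • q : A ⧸ B).out, QuotientGroup.eq.mp ?_, by group⟩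
        rw [QuotientGroup.out_eq']
        conv_rhs => rw [← QuotientGroup.out_eq' q]
        rfl
      rw [MulAction.toPerm_apply, he, hact _ _ hb]
      refine Subtype.ext ?_
      show autFun (a : MulAut Q) (autFun (q.out : MulAut Q) z) = autFun ((a * q.out : A) : MulAut Q) z
      rw [Subgroup.coe_mul, autFun_mul _ _ (hZ z.2)]
    exact congrArg Subtype.val h1
  have hcenter : ∀ z : ↥Z, (tr z : Ω) ∈ F.center := by
    intro z
    have hzQ : (tr z : Ω) ∈ Q := (tr z).2.1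
    refine (le_sSup (s := {Q | F.IsCentral Q}) ?_ : Subgroup.zpowers (tr z : Ω) ≤ F.center)
      (Subgroup.mem_zpowers _)
    refine isCentral_of_fixed hS hF (Subgroup.zpowers_le.mpr (hQS hzQ)) fun x hx y hy => ?_
    obtain ⟨f, hf, rfl⟩ := isConjElt_iff.mp hy
    obtain ⟨k, hk, hkf, hkQ⟩ := (isNormal_iff.mp hQ).2 _ f hf
    obtain ⟨α, hα, hαk⟩ := (hk.restrict le_sup_right).exists_aut hkQ
    obtain ⟨i, rfl⟩ := Subgroup.mem_zpowers_iff.mp hx
    have hiQ := Subgroup.zpow_mem Q hzQ i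
    rw [← hkf _ (Subgroup.mem_zpowers _), ← hαk _ hiQ, autFun_apply α hiQ]
    have h2 : α ⟨(tr z : Ω), hzQ⟩ = ⟨(tr z : Ω), hzQ⟩ :=
      Subtype.ext ((autFun_apply α hzQ).symm.trans (hfix ⟨α, hα⟩ z))
    have h3 : (⟨(tr z : Ω) ^ i, hiQ⟩ : Q) = ⟨(tr z : Ω), hzQ⟩ ^ i := Subtype.ext (by simp)
    rw [h3, map_zpow, h2]
    simp
  set n := Nat.card (A ⧸ B) with hn
  have hpow : ∀ z : ↥Z, (z : Ω) ∈ F.center → (tr z : Ω) = (z : Ω) ^ n := by
    intro z hz
    have h1 : ∀ q : A ⧸ B, act q.out z = ⟨z, hZV z.2⟩ := fun q => Subtype.ext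
      (map_fixed_of_central (isCentral_center F) (hAm _) (hZ z.2) hz)
    rw [htr, Finset.prod_congr rfl fun q _ => h1 q, Finset.prod_const, Finset.card_univ,
      Subgroup.coe_pow, hn, Nat.card_eq_fintype_card]
  have hcop : ∀ x ∈ S, Nat.Coprime n (orderOf x) := fun x hx => by
    obtain ⟨k, hk⟩ := hS ⟨x, hx⟩
    obtain ⟨j, -, hj⟩ := (Nat.dvd_prime_pow (Fact.out : p.Prime)).mp
      (orderOf_dvd_of_pow_eq_one (congrArg Subtype.val hk))
    rw [hj]
    exact Nat.Coprime.pow_right j ((Fact.out : p.Prime).coprime_iff_not_dvd.mpr hBi).symm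
  refine ⟨tr.ker.map Z.subtype, Subgroup.map_subtype_le _, ?_, ?_⟩
  · rw [eq_bot_iff]
    rintro _ ⟨hc, z, hz, rfl⟩
    have h1 := hpow z hc
    rw [show tr z = 1 from hz, OneMemClass.coe_one] at h1
    rw [Subgroup.mem_bot, ← orderOf_eq_one_iff]
    exact Nat.dvd_one.mp ((hcop _ z.2.1) ▸ Nat.dvd_gcd (orderOf_dvd_of_pow_eq_one h1.symm) dvd_rfl)
  · refine le_antisymm (sup_le hcZ (Subgroup.map_subtype_le _)) fun w hw => ?_
    obtain ⟨j, hj⟩ := exists_pow_eq_self_of_coprime (hcop _ ((isCentral_center F).1 (hcenter ⟨w, hw⟩)))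
    set c := (tr ⟨w, hw⟩ : Ω) ^ j with hc
    have hcc : c ∈ F.center := Subgroup.pow_mem _ (hcenter ⟨w, hw⟩) j
    have htc : tr ⟨c, hcZ hcc⟩ = tr ⟨w, hw⟩ := Subtype.ext <| by
      rw [hpow _ hcc]
      show ((tr ⟨w, hw⟩ : Ω) ^ j) ^ n = _
      rw [← pow_mul, mul_comm, pow_mul]
      exact hj
    rw [← mul_inv_cancel_left c w]
    refine Subgroup.mul_mem_sup hcc ⟨⟨c, hcZ hcc⟩⁻¹ * ⟨w, hw⟩, ?_, rfl⟩
    rw [SetLike.mem_coe, MonoidHom.mem_ker, map_mul, map_inv, htc, inv_mul_cancel]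

end CfsgLib.Fusion
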