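import Cfsg.Agent.Lib.FusionTransvectionPair
import Cfsg.Agent.Lib.FusionHyperfocal
import Cfsg.Agent.Lib.FusionGeneration

/-!
# Saturated systems over groups with centre of index `p ^ 2`

With trivial core and full hyperfocal subgroup the group is extraspecial of order `p ^ 3`.
-/

set_option autoImplicit false

open Cfsg Cfsg.FusionSystem Subgroup CfsgLib.Fusion CfsgLib.TransvectionPair
open scoped commutatorElement

namespace CfsgLib.CentreIndexSq

open CfsgLib.GenExtraspecial (natexp)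

variable {Ω : Type*} [Group Ω] {S : Subgroup Ω} [Finite S] {p : ℕ} [hp : Fact p.Prime]
  {F : FusionSystem S} {E : Subgroup Ω} {z w : Ω}

/-- Standing facts about `S`. -/
structure Ctx (F : FusionSystem S) (p : ℕ) (z : Ω) : Prop where
  hS : IsPGroup p S
  hF : F.IsSaturated p
  core : F.core = ⊥
  zS : z ∈ S
  z1 : z ≠ 1
  zp : z ^ p = 1
  zc : ∀ s ∈ S, Commute z s
  comm : ∀ s ∈ S, ∀ s' ∈ S, s * s' * s⁻¹ * s'⁻¹ ∈ zpowers z
  pow : ∀ s ∈ S, ∀ s' ∈ S, Commute (s ^ p) s'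
  ab : ∃ a ∈ S, ∃ b ∈ S, a * b * a⁻¹ * b⁻¹ = z
  span : ∀ a ∈ S, ∀ b ∈ S, ¬ Commute a b → ∀ s ∈ S, ∃ c ∈ S, (∀ v ∈ S, Commute c v) ∧
    ∃ i j : ℕ, s = c * a ^ i * b ^ j
  maxab : ∀ R : Subgroup Ω, R ≤ S → (∀ c ∈ S, (∀ v ∈ S, Commute c v) → c ∈ R) →
    (∃ x ∈ R, ∃ v ∈ S, ¬ Commute x v) → R ≠ S → (R.subgroupOf S).index = p ∧
      (∀ x ∈ R, ∀ y ∈ R, Commute x y)

namespace Ctx

variable (C : Ctx F p z)
include C

theorem normal_bot {Q : Subgroup Ω} (hQ : F.IsNormal Q) : Q = ⊥ :=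
  le_bot_iff.1 (C.core ▸ le_sSup hQ)

/-- A subgroup inside all generators that they keep invariant is trivial. -/
theorem eq_bot_of_invariant {Q : Subgroup Ω} (hQS : Q ≤ S)
    (h : ∀ R : Subgroup Ω, (R = S ∨ F.IsEssential p R) → Q ≤ R ∧
      ∀ α ∈ F.autGroup R, ∀ x ∈ Q, autFun α x ∈ Q) : Q = ⊥ := by
  refine C.normal_bot (isNormal_of_essential_invariant C.hS C.hF fun R hR => ?_)
  obtain ⟨hQR, hinv⟩ := h R hR
  refine ⟨hQR, fun α hα => eq_of_le_of_card_le hQS (img_le_iff.2 (hinv α hα)) ?_⟩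
  have hRS : R ≤ S := hR.elim (fun e => e.le) fun e => e.1.1
  exact (((mem_autGroup_iff hRS).1 hα).restrict hQR).card_img.ge

/-- Automorphisms of `S` preserve its centre. -/
theorem aut_centre {δ : MulAut S} (hδ : δ ∈ F.autGroup S) {c : Ω} (hcS : c ∈ S)
    (hc : ∀ v ∈ S, Commute c v) : ∀ v ∈ S, Commute (autFun δ c) v := by
  intro v hv
  have hm := (mem_autGroup_iff le_rfl).1 hδ
  obtain ⟨v', hv', rfl⟩ := hm.mem_img.1 ((img_autFun δ).ge hv)
  show autFun δ c * autFun δ v' = autFun δ v' * autFun δ c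
  rw [← hm.map_mul hcS hv', ← hm.map_mul hv' hcS, (hc v' hv').eq]

theorem aut_z {δ : MulAut S} (hδ : δ ∈ F.autGroup S) : autFun δ z ∈ zpowers z := by
  obtain ⟨a, ha, b, hb, he⟩ := C.ab
  have hm := (mem_autGroup_iff le_rfl).1 hδ
  rw [← he, hm.map_mul (mul_mem (mul_mem ha hb) (inv_mem ha)) (inv_mem hb),
    hm.map_mul (mul_mem ha hb) (inv_mem ha), hm.map_mul ha hb, hm.map_inv ha, hm.map_inv hb, he]
  exact C.comm _ (autFun_mem δ ha) _ (autFun_mem δ hb)

theorem inner_of_pPower {δ : MulAut S} (hδ : δ ∈ F.autGroup S) {k : ℕ} (hk : δ ^ p ^ k = 1) :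
    ∃ s ∈ S, ∀ x ∈ S, autFun δ x = s * x * s⁻¹ := by
  haveI := finite_autGroup F (le_refl S)
  set G := F.autGroup S with hG
  set d : G := ⟨δ, hδ⟩ with hd
  have hdk : d ^ p ^ k = 1 := Subtype.ext hk
  have hH : IsPGroup p (zpowers d) := by
    rintro ⟨e, he⟩
    obtain ⟨i, rfl⟩ := mem_zpowers_iff.1 he
    refine ⟨k, Subtype.ext ?_⟩
    simp only [SubgroupClass.coe_pow, OneMemClass.coe_one]
    rw [← zpow_natCast (d ^ i), ← zpow_mul, mul_comm, zpow_mul, zpow_natCast, hdk, one_zpow]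
  have hfa := (isFullyAutomized_iff C.hS).1
    (isFullyAutomized_of_fullyNormalized C.hS C.hF (isFullyNormalized_top F))
  obtain ⟨γ, hγ⟩ := exists_conj_mem_of_pGroup hH
    ((isPGroup_autInducedBy (P := S) C.hS).of_equiv
      (subgroupOfEquivOfLe (autInducedBy_le_autGroup (F := F) le_rfl)).symm) hfa.2
  obtain ⟨s, hs, -, hsa⟩ := mem_autInducedBy_iff.1 (mem_subgroupOf.1 (hγ d (mem_zpowers d)))
  refine ⟨autFun (γ : MulAut S)⁻¹ s, autFun_mem _ hs, fun x hx => ?_⟩
  have h1 := hsa _ (autFun_mem (γ : MulAut S) hx)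
  have hγx : autFun (γ : MulAut S) x = ((γ : MulAut S) ⟨x, hx⟩ : S) := autFun_apply _ hx
  rw [autFun_apply _ (autFun_mem (γ : MulAut S) hx)] at h1
  rw [autFun_apply δ hx, autFun_apply _ hs]
  have h2 : ((γ : MulAut S) * δ * (γ : MulAut S)⁻¹) ((γ : MulAut S) ⟨x, hx⟩) =
      ⟨s, hs⟩ * (γ : MulAut S) ⟨x, hx⟩ * ⟨s, hs⟩⁻¹ := Subtype.ext (by
    have e : (⟨autFun (γ : MulAut S) x, autFun_mem _ hx⟩ : S) = (γ : MulAut S) ⟨x, hx⟩ :=
      Subtype.ext hγx
    rw [e] at h1
    rw [hγx] at h1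
    exact h1)
  rw [MulAut.mul_apply, MulAut.mul_apply, MulAut.inv_apply_self] at h2
  have h3 := congrArg (fun q => ((γ : MulAut S)⁻¹ : MulAut S) q) h2
  simp only [MulAut.inv_apply_self, _root_.map_mul, _root_.map_inv] at h3
  exact congrArg Subtype.val h3

theorem exists_base {R : Subgroup Ω} (hR : F.IsEssential p R) :
    ∃ w, Base F p R z w ∧ w ∉ R ∧ (R.subgroupOf S).index = p ∧
      ∃ hb : Base F p R z w, ∃ g ∈ F.autGroup R, g * hb.t * g⁻¹ ∉ zpowers hb.t := by
  obtain ⟨hc, hfn, hn, X, hX⟩ := id hR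
  have hRS : R ≤ S := hc.1
  haveI := finite_of_le hRS
  haveI := finite_autGroup F hRS
  have hCR : centralizerIn S R ≤ R := hc.2 R (isConj_refl F hRS)
  have hZR : ∀ c ∈ S, (∀ v ∈ S, Commute c v) → c ∈ R := fun c hc hv =>
    hCR ⟨hc, fun v hvR => (hv v (hRS hvR)).eq.symm⟩
  have hlt : R < S := essential_lt C.hS C.hF hR
  have hnc : ∃ x ∈ R, ∃ v ∈ S, ¬ Commute x v := by
    by_contra h
    push Not at h
    obtain ⟨v, hv, hvR⟩ := SetLike.exists_of_lt hlt
    exact hvR (hCR ⟨hv, fun x hx => (h x hx v hv).eq⟩)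
  obtain ⟨hi, hab⟩ := C.maxab R hRS hZR hnc hlt.ne
  obtain ⟨w, hw, hwR⟩ := SetLike.exists_of_lt hlt
  have hzR : z ∈ R := hZR z C.zS C.zc
  have hwn : w ∈ normalizer (R : Set Ω) := mem_normalizer_of_conj_mem fun x hx => by
    have h1 : w * x * w⁻¹ = (w * x * w⁻¹ * x⁻¹) * x := by group
    rw [h1]
    exact mul_mem (zpowers_le.2 hzR (C.comm w hw x (hRS hx))) hx
  have hgen : ∀ s ∈ S, ∃ e ∈ R, ∃ j : ℕ, s = e * w ^ j := by
    intro s hs
    set R₀ := R.subgroupOf S with hR₀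
    haveI : R₀.Normal := by
      refine ⟨fun x hx g => ?_⟩
      have h1 : ((g * x * g⁻¹ : S) : Ω) = ((g : Ω) * x * (g : Ω)⁻¹ * (x : Ω)⁻¹) * x := by
        simp only [Subgroup.coe_mul, InvMemClass.coe_inv]
        group
      rw [mem_subgroupOf, h1]
      exact mul_mem (zpowers_le.2 hzR (C.comm _ g.2 _ x.2)) hx
    haveI : Fact (Nat.card (S ⧸ R₀)).Prime := ⟨by rw [← index_eq_card, hi]; exact hp.out⟩
    have hne : (QuotientGroup.mk ⟨w, hw⟩ : S ⧸ R₀) ≠ 1 := fun e =>
      hwR ((QuotientGroup.eq_one_iff (⟨w, hw⟩ : S)).1 e)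
    obtain ⟨j, hj⟩ := (Submonoid.mem_powers_iff _ _).1
      ((isOfFinOrder_of_finite _).mem_powers_iff_mem_zpowers.2
        ((zpowers_eq_top_of_prime_card rfl hne).ge (mem_top (QuotientGroup.mk ⟨s, hs⟩))))
    refine ⟨s * (w ^ j)⁻¹, ?_, j, by group⟩
    have h1 : (⟨s, hs⟩ * (⟨w, hw⟩ ^ j)⁻¹ : S) ∈ R₀ := by
      rw [← QuotientGroup.eq_one_iff, QuotientGroup.mk_mul, QuotientGroup.mk_inv,
        QuotientGroup.mk_pow, hj, mul_inv_cancel]
    simpa [hR₀, mem_subgroupOf] using h1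
  have hb : Base F p R z w :=
    { fn := hfn, ab := hab, zE := hzR, z1 := C.z1, zp := C.zp, zc := C.zc, wn := ⟨hw, hwn⟩
      comm := fun e he => C.comm w hw e (hRS he), gen := hgen, cen := hZR }
  refine ⟨w, hb, hwR, hi, hb, ?_⟩
  by_contra hcon
  push Not at hcon
  have hInn : (Inn R).subgroupOf (F.autGroup R) = ⊥ := by
    rw [Subgroup.eq_bot_iff_forall]
    rintro ⟨α, hα⟩ h
    obtain ⟨g, hg, he⟩ := mem_inn_iff.mp (mem_subgroupOf.1 h)
    refine Subtype.ext (autFun_inj fun y hy => ?_)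
    rw [he y hy, (hab g hg y hy).eq, mul_inv_cancel_right, Subgroup.coe_one, autFun_one hy]
  set T : Subgroup (F.autGroup R) := zpowers ⟨hb.t, hb.t_aut⟩ with hT
  have hTn : T.Normal := by
    refine ⟨fun x hx g => ?_⟩
    obtain ⟨i, rfl⟩ := mem_zpowers_iff.1 hx
    rw [← conj_zpow]
    refine zpow_mem ?_ i
    obtain ⟨q, hq⟩ := mem_zpowers_iff.1 (hcon _ g.2)
    exact mem_zpowers_iff.2 ⟨q, Subtype.ext hq⟩
  have hTp : IsPGroup p T := by
    rintro ⟨x, hx⟩
    obtain ⟨i, rfl⟩ := mem_zpowers_iff.1 hx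
    refine ⟨1, Subtype.ext (Subtype.ext ?_)⟩
    simp only [SubgroupClass.coe_pow, SubgroupClass.coe_zpow, OneMemClass.coe_one, pow_one]
    rw [← zpow_natCast (hb.t ^ i), ← zpow_mul, mul_comm, zpow_mul, zpow_natCast, hb.t_pow, one_zpow]
  haveI := hTn.map (QuotientGroup.mk' ((Inn R).subgroupOf (F.autGroup R)))
    (QuotientGroup.mk'_surjective _)
  have h := eq_bot_of_normal_pGroup hX
    (T.map (QuotientGroup.mk' ((Inn R).subgroupOf (F.autGroup R)))) (hTp.map _)
  rw [Subgroup.map_eq_bot_iff, QuotientGroup.ker_mk', hInn, le_bot_iff, hT, zpowers_eq_bot] at h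
  have ht : hb.t = 1 := congrArg Subtype.val h
  refine hwR (hCR ⟨hw, fun x hx => ?_⟩)
  have h1 := hb.t_val ⟨x, hx⟩
  rw [ht, MulAut.one_apply] at h1
  show x * w = w * x
  have h2 : w * x * w⁻¹ = x := h1.symm
  exact (mul_inv_eq_iff_eq_mul.1 h2).symm

theorem exists_essential : ∃ R, F.IsEssential p R := by
  by_contra h
  push Not at h
  have := C.eq_bot_of_invariant le_rfl fun R hR => by
    rcases hR with rfl | hR
    · exact ⟨le_rfl, fun α _ x hx => autFun_mem α hx⟩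
    · exact absurd hR (h R)
  exact C.z1 (by simpa [this] using C.zS)

/-- The essentials are not all one invariant subgroup. -/
theorem not_all_eq {R₀ : Subgroup Ω} (hR₀ : F.IsEssential p R₀)
    (hinv : ∀ δ ∈ F.autGroup S, ∀ x ∈ R₀, autFun δ x ∈ R₀)
    (hall : ∀ R, F.IsEssential p R → R = R₀) : False := by
  have hzR : z ∈ R₀ := hR₀.1.2 R₀ (isConj_refl F hR₀.1.1)
    ⟨C.zS, fun v hv => (C.zc v (hR₀.1.1 hv)).eq.symm⟩
  have := C.eq_bot_of_invariant hR₀.1.1 fun R hR => by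
    rcases hR with rfl | hR
    · exact ⟨hR₀.1.1, hinv⟩
    · obtain rfl := hall R hR
      exact ⟨le_rfl, fun α _ x hx => autFun_mem α hx⟩
  exact C.z1 (by simpa [this] using hzR)

end Ctx

section Pair

variable {hb : Base F p E z w} {g : MulAut E}

/-- A central element is a power of `z` times a common fixed point. -/
theorem central_decomp (hS : IsPGroup p S) (hF : F.IsSaturated p) (hb : Base F p E z w)
    (hg : g ∈ F.autGroup E) (hn : g * hb.t * g⁻¹ ∉ zpowers hb.t) {e : E}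
    (he : hb.t e = e) : ∃ (j : ℕ) (k : E), hb.t k = k ∧ (g * hb.t * g⁻¹) k = k ∧
      e = hb.zz ^ j * k := by
  obtain ⟨i, j, k, hk1, hk2, rfl⟩ := hb.decomp hS hF hg hn e
  refine ⟨j, k, hk1, hk2, ?_⟩
  set u := g hb.zz with hu
  have hfix : hb.t (u ^ i) = u ^ i := by
    rw [_root_.map_mul, _root_.map_mul, _root_.map_pow hb.t hb.zz, hb.t_zz, hk1] at he
    exact mul_right_cancel (mul_right_cancel he)
  have hup : u ^ p = 1 := by rw [hu, ← _root_.map_pow, hb.zz_pow, _root_.map_one]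
  have h1 : u ^ i = 1 := by
    by_contra h1
    refine hb.t_moves hS hF hg hn ?_
    rw [← hu]
    obtain ⟨n, hn'⟩ := natexp (z := u ^ i)
      (by rw [← pow_mul, mul_comm, pow_mul, hup, one_pow])
      (CfsgLib.GenExtraspecial.gen hup (pow_mem (mem_zpowers u) i) h1)
    rw [hn', _root_.map_pow, hfix]
  rw [h1, one_mul]

theorem central_of_fixed (hb : Base F p E z w) {e : E} (he : hb.t e = e) :
    ∀ v ∈ S, Commute (e : Ω) v := (hb.t_eq_self_iff e).1 he

theorem fixed_of_central (hb : Base F p E z w) {e : E} (he : ∀ v ∈ S, Commute (e : Ω) v) :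
    hb.t e = e := (hb.t_eq_self_iff e).2 he

/-- If `E` is elementary abelian of rank two the conclusions hold. -/
theorem finish (C : Ctx F p z) (hb : Base F p E z w) (hwE : w ∉ E) (hg : g ∈ F.autGroup E)
    (hn : g * hb.t * g⁻¹ ∉ zpowers hb.t)
    (hZ : ∀ c ∈ S, (∀ v ∈ S, Commute c v) → c ∈ zpowers z) :
    Cfsg.IsExtraspecial p S ∧ Nat.card S = p ^ 3 ∧ (p ≠ 2 → Monoid.exponent S = p) ∧
      (p = 2 → Nonempty (↥S ≃* DihedralGroup 4)) := by
  set u : E := g hb.zz with hu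
  obtain ⟨n₀, hn₀⟩ := hb.t_shift u
  have hn0 : z ^ n₀ ≠ 1 := fun e => hb.t_moves C.hS C.hF hg hn (by
    rw [← hu, hn₀, show hb.zz ^ n₀ = 1 from Subtype.ext (by simpa [Base.zz] using e), mul_one])
  have hEel : ∀ e ∈ E, ∃ i j : ℕ, e = (u : Ω) ^ i * z ^ j := by
    intro e he
    obtain ⟨i, j, k, hk1, hk2, hek⟩ := hb.decomp C.hS C.hF hg hn ⟨e, he⟩
    obtain ⟨m, hm⟩ := natexp C.zp (hZ k (hb.le k.2) (central_of_fixed hb hk1))
    refine ⟨i, j + m, ?_⟩
    have h1 : e = (u : Ω) ^ i * z ^ j * k := congrArg Subtype.val hek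
    rw [h1, hm, pow_add, mul_assoc]
  have hup : (u : Ω) ^ p = 1 := by
    rw [← SubgroupClass.coe_pow, hu, ← _root_.map_pow, hb.zz_pow, _root_.map_one]; rfl
  have hEp : ∀ e ∈ E, e ^ p = 1 := by
    intro e he
    obtain ⟨i, j, rfl⟩ := hEel e he
    rw [((C.zc _ (S.pow_mem (hb.le u.2) i)).pow_left j).symm.mul_pow, ← pow_mul, mul_comm i,
      pow_mul, hup, one_pow, ← pow_mul, mul_comm j, pow_mul, C.zp, one_pow, one_mul]
  have hwy : w * (u : Ω) * w⁻¹ = u * z ^ n₀ := by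
    rw [← hb.t_val, hn₀]; rfl
  have huz : (u : Ω) ∉ zpowers z := fun h => hb.t_moves C.hS C.hF hg hn (by
    obtain ⟨m, hm⟩ := natexp C.zp h
    rw [← hu, show u = hb.zz ^ m from Subtype.ext (by simpa [Base.zz] using hm), _root_.map_pow,
      hb.t_zz])
  have hCu : ∀ c ∈ S, Commute c (u : Ω) → c ∈ E := by
    intro c hc hcu
    obtain ⟨e, he, j, rfl⟩ := hb.gen c hc
    have hwu : Commute (w ^ j) (u : Ω) := by
      have := (hb.ab e he u u.2).inv_left.mul_left hcu
      rwa [inv_mul_cancel_left] at this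
    have hit : ∀ j : ℕ, w ^ j * (u : Ω) * (w ^ j)⁻¹ = u * (z ^ n₀) ^ j := by
      intro j
      induction j with
      | zero => simp
      | succ j ih =>
        rw [pow_succ' w, show w * w ^ j * (u : Ω) * (w * w ^ j)⁻¹ =
          w * (w ^ j * u * (w ^ j)⁻¹) * w⁻¹ by group, ih]
        calc w * ((u : Ω) * (z ^ n₀) ^ j) * w⁻¹
            = (w * u * w⁻¹) * (w * (z ^ n₀) ^ j * w⁻¹) := by group
          _ = u * z ^ n₀ * (z ^ n₀) ^ j := by
            rw [hwy, ← (((C.zc w hb.wS).pow_left n₀).pow_left j).eq, mul_inv_cancel_right]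
          _ = u * (z ^ n₀) ^ (j + 1) := by rw [pow_succ', mul_assoc]
    have h1 := hit j
    rw [hwu.eq, mul_inv_cancel_right] at h1
    have hoz : orderOf (z ^ n₀) = p := orderOf_eq_prime
      (by rw [← pow_mul, mul_comm, pow_mul, C.zp, one_pow]) hn0
    obtain ⟨q, hq⟩ : p ∣ j := by
      rw [← hoz]
      exact orderOf_dvd_of_pow_eq_one (mul_left_cancel (h1.symm.trans (mul_one _).symm))
    have hwp : w ^ p ∈ E := zpowers_le.2 hb.zE (hZ _ (S.pow_mem hb.wS p) (C.pow w hb.wS))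
    exact mul_mem he (hq ▸ by rw [pow_mul]; exact E.pow_mem hwp q)
  have hB : CfsgLib.GenExtraspecial.Bad p S z (u : Ω) w (z ^ n₀) :=
    { hz := C.zS, hy := hb.le u.2, hw := hb.wS, z1 := C.z1, zp := C.zp, zc := C.zc
      comm := C.comm
      pow := fun x hx => hZ _ (S.pow_mem hx p) (C.pow x hx)
      yp := hup, yz := huz, ha := pow_mem (mem_zpowers z) n₀, a1 := hn0, wy := hwy
      cc := fun c hc d hd h1 h2 => hb.ab c (hCu c hc h1) d (hCu d hd h2)
      cp := fun c hc h1 => hEp c (hCu c hc h1) }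
  have hcore : CfsgLib.GenExtraspecial.Bad.core z (u : Ω) w = S := by
    refine le_antisymm hB.core_le fun s hs => ?_
    obtain ⟨e, he, j, rfl⟩ := hb.gen s hs
    obtain ⟨i, m, rfl⟩ := hEel e he
    exact hB.mem_core.2 ⟨i, m, j, by simp⟩
  refine ⟨hcore ▸ hB.core_extraspecial C.hS, hcore ▸ hB.card_core, fun hp2 => ?_, fun h2 => ?_⟩
  · by_cases hw : w ^ p = 1
    · exact hcore ▸ hB.core_exponent hp2 hw
    exfalso
    have hchoose : p ∣ p.choose 2 := hp.out.dvd_choose_self two_ne_zero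
      (lt_of_le_of_ne hp.out.two_le (Ne.symm hp2))
    have hchar : ∀ x ∈ S, x ^ p = 1 → x ∈ E := by
      intro x hx hxp
      obtain ⟨e, he, j, rfl⟩ := hb.gen x hx
      have hm : w ^ j * e * (w ^ j)⁻¹ * e⁻¹ ∈ zpowers z :=
        C.comm _ (S.pow_mem hb.wS j) _ (hb.le he)
      rw [← commutatorElement_def] at hm
      obtain ⟨q, hq⟩ := natexp C.zp hm
      rw [CfsgLib.Core.mul_pow_of_central (by rw [hq]; exact ((C.zc e (hb.le he)).pow_left q).eq)
        (by rw [hq]; exact ((C.zc _ (S.pow_mem hb.wS j)).pow_left q).eq), hEp e he, one_mul, hq,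
        ← pow_mul z, mul_comm q] at hxp
      obtain ⟨c2, hc2⟩ := hchoose
      rw [hc2, mul_assoc, pow_mul z, C.zp, one_pow, mul_one, ← pow_mul, mul_comm, pow_mul] at hxp
      have hwp : w ^ p ∈ zpowers z := hZ _ (S.pow_mem hb.wS p) (C.pow w hb.wS)
      have hj : p ∣ j := by
        by_contra hj
        refine hw ?_
        obtain ⟨m, hm'⟩ := natexp C.zp hwp
        have h2 : (w ^ p) ^ p = 1 := by rw [hm', ← pow_mul, mul_comm, pow_mul, C.zp, one_pow]
        have h3 := pow_gcd_eq_one.2 ⟨h2, hxp⟩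
        rwa [(Nat.Prime.coprime_iff_not_dvd hp.out).2 hj, pow_one] at h3
      obtain ⟨q', rfl⟩ := hj
      rw [pow_mul]
      exact mul_mem he (E.pow_mem (zpowers_le.2 hb.zE hwp) q')
    have hsc : F.StronglyClosed E := stronglyClosed_iff.2 ⟨hb.le, fun R f hR hf x hx =>
      hchar _ (hf.apply_mem hx) (by
        rw [← CfsgLib.GenExtraspecial.map_pow hf hx, hEp x (hR hx), hf.map_one])⟩
    have := C.normal_bot (isNormal_of_abelian_stronglyClosed C.hS C.hF hsc
      ⟨⟨fun a b => Subtype.ext (hb.ab a a.2 b b.2).eq⟩⟩)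
    exact C.z1 (by simpa [this] using hb.zE)
  · subst h2
    exact hcore ▸ hB.core_dihedral

end Pair

/-- The odd case: the centre is the derived group. -/
theorem centre_odd (C : Ctx F p z) (hp2 : p ≠ 2) {c : Ω} (hcS : c ∈ S)
    (hc : ∀ v ∈ S, Commute c v) : c ∈ zpowers z := by
  classical
  -- automorphisms of `S` inverting `z` and acting on the centre modulo `⟨z⟩` as the identity
  let Refl : MulAut S → Prop := fun δ => δ ∈ F.autGroup S ∧ autFun δ z = z⁻¹ ∧
    ∀ c ∈ S, (∀ v ∈ S, Commute c v) → c⁻¹ * autFun δ c ∈ zpowers z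
  have uniq : ∀ δ₁ δ₂, Refl δ₁ → Refl δ₂ → ∀ c ∈ S, (∀ v ∈ S, Commute c v) →
      autFun δ₁ c = autFun δ₂ c := by
    intro δ₁ δ₂ h₁ h₂ c hcS hc
    set ε := δ₁⁻¹ * δ₂ with hε
    have hεF : ε ∈ F.autGroup S := mul_mem (inv_mem h₁.1) h₂.1
    have hεz : autFun ε z = z := by
      rw [hε, autFun_mul _ _ C.zS, h₂.2.1, ← h₁.2.1, autFun_inv_apply _ C.zS]
    -- the shift of `c` under `ε`
    obtain ⟨m₁, hm₁⟩ := natexp C.zp (h₁.2.2 c hcS hc)
    obtain ⟨m₂, hm₂⟩ := natexp C.zp (h₂.2.2 c hcS hc)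
    have hd₁ : autFun δ₁ c = c * z ^ m₁ := by rw [← hm₁, mul_inv_cancel_left]
    have hd₂ : autFun δ₂ c = c * z ^ m₂ := by rw [← hm₂, mul_inv_cancel_left]
    set cc : S := ⟨c, hcS⟩ with hcc
    set z' : S := ⟨z, C.zS⟩ with hz'
    have hεz' : ε z' = z' := Subtype.ext (by rw [← CfsgLib.Fusion.autFun_coe]; exact hεz)
    have hd₁' : δ₁ cc = cc * z' ^ m₁ := Subtype.ext (by
      rw [← CfsgLib.Fusion.autFun_coe]; simpa using hd₁)
    have hd₂' : δ₂ cc = cc * z' ^ m₂ := Subtype.ext (by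
      rw [← CfsgLib.Fusion.autFun_coe]; simpa using hd₂)
    have hz1' : δ₁ z' = z'⁻¹ := Subtype.ext (by
      rw [← CfsgLib.Fusion.autFun_coe]; simpa using h₁.2.1)
    have hshift : ε cc = cc * (z' ^ m₁ * (z' ^ m₂)⁻¹) := by
      apply δ₁.injective
      rw [hε, MulAut.mul_apply, MulAut.apply_inv_self, hd₂', _root_.map_mul, hd₁', _root_.map_mul,
        _root_.map_inv, _root_.map_pow, _root_.map_pow, hz1', inv_pow, inv_pow, inv_inv,
        mul_assoc cc, ← mul_assoc, ← mul_assoc, mul_inv_cancel_right]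
    have hfixd : ε (z' ^ m₁ * (z' ^ m₂)⁻¹) = z' ^ m₁ * (z' ^ m₂)⁻¹ := by
      rw [_root_.map_mul, _root_.map_inv, _root_.map_pow, _root_.map_pow, hεz']
    have hp1 : (ε ^ p) cc = cc := by
      rw [CfsgLib.GenExtraspecial.pow_apply_shift hshift hfixd]
      have : (z' ^ m₁ * (z' ^ m₂)⁻¹) ^ p = 1 := by
        rw [((Commute.refl z').pow_pow m₁ m₂).inv_right.mul_pow, inv_pow, ← pow_mul, ← pow_mul,
          mul_comm m₁, mul_comm m₂, pow_mul, pow_mul, show z' ^ p = 1 from Subtype.ext C.zp,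
          one_pow, one_pow, inv_one, one_mul]
      rw [this, mul_one]
    haveI := finite_mulAut S
    obtain ⟨a, m, hm, hord⟩ := Nat.exists_eq_pow_mul_and_not_dvd (orderOf_pos ε).ne' p
      (Fact.out : p.Prime).ne_one
    have hm1 : (ε ^ m) cc = cc := by
      obtain ⟨s, hs, hsi⟩ := C.inner_of_pPower (pow_mem hεF m) (k := a)
        (by rw [← pow_mul, mul_comm, ← hord, pow_orderOf_eq_one])
      apply Subtype.ext
      rw [← CfsgLib.Fusion.autFun_coe, hsi c hcS, ← (hc s hs).eq, mul_inv_cancel_right]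
    obtain ⟨b, hb⟩ := Nat.exists_mul_mod_eq_one_of_coprime
      ((Nat.Prime.coprime_iff_not_dvd hp.out).2 hm).symm hp.out.one_lt
    have hε1 : ε cc = cc := by
      have e : ε ^ (m * b) = ε * (ε ^ p) ^ (m * b / p) := by
        rw [← pow_mul, ← pow_succ', show p * (m * b / p) + 1 = m * b by
          have := Nat.div_add_mod (m * b) p
          omega]
      have h1 : (ε ^ (m * b)) cc = cc := by
        rw [pow_mul]
        exact CfsgLib.GenExtraspecial.pow_apply_fixed hm1 b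
      rw [e, MulAut.mul_apply, CfsgLib.GenExtraspecial.pow_apply_fixed hp1] at h1
      exact h1
    have h := congrArg δ₁ hε1
    rw [hε, MulAut.mul_apply, MulAut.apply_inv_self] at h
    rw [← show ((δ₂ cc : S) : Ω) = autFun δ₂ c from (autFun_apply δ₂ hcS).symm, h,
      autFun_apply δ₁ hcS]
  -- a reflection from every pair
  have hpair : ∀ {R : Subgroup Ω} {w : Ω} (hb : Base F p R z w) {g : MulAut R},
      g ∈ F.autGroup R → g * hb.t * g⁻¹ ∉ zpowers hb.t →
      (∀ c ∈ S, (∀ v ∈ S, Commute c v) → c ∈ R) →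
      ∃ δ, Refl δ ∧ (∀ k : R, hb.t k = k → (g * hb.t * g⁻¹) k = k → autFun δ k = k) ∧
        ∀ e : R, hb.t e = e → autFun δ e = e → (g * hb.t * g⁻¹) e = e := by
    intro R w hb g hg hn hZR
    obtain ⟨β, hβ, hβz, hβt, hβk⟩ := hb.exists_inverter C.hS C.hF hg hn
    obtain ⟨δ, hδ, hδe⟩ := hb.extend C.hS C.hF hβ (by
      rw [show β * hb.t * β⁻¹ = hb.t by
        refine MulEquiv.ext fun e => ?_
        rw [MulAut.mul_apply, MulAut.mul_apply, hβt, MulAut.apply_inv_self]]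
      exact mem_zpowers _)
    have hev : ∀ e : R, autFun δ e = (β e : R) := fun e => by
      rw [hδe e e.2, CfsgLib.Fusion.autFun_coe]
    refine ⟨δ, ⟨hδ, ?_, fun c hc hcv => ?_⟩, fun k h1 h2 => ?_, fun e he hfix => ?_⟩
    · rw [show z = ((hb.zz : R) : Ω) from rfl, hev, hβz]; rfl
    · obtain ⟨j, k, hk1, hk2, hjk⟩ := central_decomp C.hS C.hF hb hg hn
        (fixed_of_central hb (e := ⟨c, hZR c hc hcv⟩) hcv)
      have hz2 : ∀ q : ℕ, ((hb.zz ^ q : R) : Ω) = z ^ q := fun q => SubgroupClass.coe_pow _ _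
      have h1 : autFun δ c = (z ^ j)⁻¹ * k := by
        rw [show c = ((hb.zz ^ j * k : R) : Ω) from congrArg Subtype.val hjk, hev, _root_.map_mul,
          _root_.map_pow, hβz, inv_pow, hβk k hk1 hk2, Subgroup.coe_mul, InvMemClass.coe_inv, hz2]
      have h2 : c = z ^ j * k := by
        rw [show c = ((hb.zz ^ j * k : R) : Ω) from congrArg Subtype.val hjk, Subgroup.coe_mul,
          hz2]
      rw [h1, h2, mul_inv_rev, mul_assoc, ← mul_assoc (z ^ j)⁻¹, ← mul_inv_rev, ← pow_add,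
        ((C.zc k (hb.le k.2)).pow_left _).inv_left.eq, inv_mul_cancel_left]
      exact inv_mem (pow_mem (mem_zpowers z) _)
    · rw [hev, hβk k h1 h2]
    · obtain ⟨j, k, hk1, hk2, hjk⟩ := central_decomp C.hS C.hF hb hg hn he
      rw [hev] at hfix
      have h1 := Subtype.ext hfix
      rw [hjk, _root_.map_mul, _root_.map_pow, hβz, hβk k hk1 hk2] at h1
      have h3 : (hb.zz ^ j) ^ 2 = 1 := by
        rw [pow_two]
        nth_rw 1 [← mul_right_cancel h1]
        rw [inv_pow, inv_mul_cancel]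
      have h4 : (hb.zz ^ j) ^ p = 1 := by
        rw [← pow_mul, mul_comm, pow_mul, hb.zz_pow, one_pow]
      have h5 := pow_gcd_eq_one.2 ⟨h3, h4⟩
      rw [(Nat.coprime_primes Nat.prime_two hp.out).2 (Ne.symm hp2), pow_one] at h5
      rw [hjk, h5, one_mul]
      exact hk2
  obtain ⟨R₀, hR₀⟩ := C.exists_essential
  have hZess : ∀ {R : Subgroup Ω}, F.IsEssential p R → ∀ c ∈ S, (∀ v ∈ S, Commute c v) → c ∈ R :=
    fun hR c hc hv => hR.1.2 _ (isConj_refl F hR.1.1) ⟨hc, fun v hvR => (hv v (hR.1.1 hvR)).eq.symm⟩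
  obtain ⟨w₀, -, -, -, hb₀, g₀, hg₀, hn₀⟩ := C.exists_base hR₀
  obtain ⟨δ₀, hδ₀, -⟩ := hpair hb₀ hg₀ hn₀ (hZess hR₀)
  -- the centralizer of the reflection in the centre
  let C₀ : Subgroup Ω :=
    { carrier := {c | c ∈ S ∧ (∀ v ∈ S, Commute c v) ∧ autFun δ₀ c = c}
      one_mem' := ⟨S.one_mem, fun v _ => Commute.one_left v,
        ((mem_autGroup_iff le_rfl).1 hδ₀.1).map_one⟩
      mul_mem' := fun {a b} ha hb => ⟨S.mul_mem ha.1 hb.1,
        fun v hv => (ha.2.1 v hv).mul_left (hb.2.1 v hv),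
        by rw [((mem_autGroup_iff le_rfl).1 hδ₀.1).map_mul ha.1 hb.1, ha.2.2, hb.2.2]⟩
      inv_mem' := fun {a} ha => ⟨S.inv_mem ha.1, fun v hv => (ha.2.1 v hv).inv_left,
        by rw [((mem_autGroup_iff le_rfl).1 hδ₀.1).map_inv ha.1, ha.2.2]⟩ }
  have hC₀ : C₀ = ⊥ := by
    refine C.eq_bot_of_invariant (fun c hc => hc.1) fun R hR => ?_
    rcases hR with hRe | hR
    · rw [hRe]
      refine ⟨fun c hc => hc.1, fun γ hγ c hc => ?_⟩
      have hγm := (mem_autGroup_iff le_rfl).1 hγ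
      refine ⟨autFun_mem γ hc.1, C.aut_centre hγ hc.1 hc.2.1, ?_⟩
      have hconj : Refl (γ * δ₀ * γ⁻¹) := by
        refine ⟨mul_mem (mul_mem hγ hδ₀.1) (inv_mem hγ), ?_, fun d hd hdv => ?_⟩
        · obtain ⟨q, hq⟩ := natexp C.zp (C.aut_z (inv_mem hγ))
          have hd0m := (mem_autGroup_iff le_rfl).1 hδ₀.1
          rw [autFun_mul _ _ C.zS, autFun_mul _ _ (autFun_mem _ C.zS), hq,
            CfsgLib.GenExtraspecial.map_pow hd0m C.zS, hδ₀.2.1, inv_pow, ← hq,
            hγm.map_inv (autFun_mem _ C.zS), autFun_apply_inv _ C.zS]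
        · have hd' := C.aut_centre (inv_mem hγ) hd hdv
          have hmem := autFun_mem γ⁻¹ hd
          obtain ⟨q, hq⟩ := natexp C.zp (hδ₀.2.2 _ hmem hd')
          rw [autFun_mul _ _ hd, autFun_mul _ _ hmem,
            show autFun δ₀ (autFun γ⁻¹ d) = autFun γ⁻¹ d * z ^ q by rw [← hq, mul_inv_cancel_left],
            hγm.map_mul hmem (S.pow_mem C.zS q), autFun_apply_inv _ hd, inv_mul_cancel_left,
            CfsgLib.GenExtraspecial.map_pow hγm C.zS]
          exact pow_mem (C.aut_z hγ) q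
      have := uniq _ _ hconj hδ₀ (autFun γ c) (autFun_mem γ hc.1) (C.aut_centre hγ hc.1 hc.2.1)
      rw [← this, autFun_mul _ _ (autFun_mem γ hc.1), autFun_mul _ _ (autFun_mem _ (autFun_mem γ hc.1)),
        autFun_inv_apply _ hc.1, hc.2.2]
    · obtain ⟨w, -, -, -, hb, g, hg, hn⟩ := C.exists_base hR
      have hchar : ∀ x : R, (x : Ω) ∈ C₀ ↔
          ∀ a ∈ F.autGroup R, ∀ v ∈ S, Commute ((a x : R) : Ω) v := by
        intro x
        constructor
        · intro hx a ha v hv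
          have hZR := hZess hR
          by_cases hnorm : a⁻¹ * hb.t * a⁻¹⁻¹ ∈ zpowers hb.t
          · obtain ⟨δ, hδ, hδe⟩ := hb.extend C.hS C.hF (inv_mem ha) hnorm
            have h1 := C.aut_centre (inv_mem hδ) hx.1 hx.2.1 v hv
            have h2 : autFun δ⁻¹ x = (a x : R) := by
              have h3 := hδe (a x) (a x).2
              rw [CfsgLib.Fusion.autFun_coe, MulAut.inv_apply_self] at h3
              rw [← h3, autFun_inv_apply _ (hb.le (a x).2)]
            rwa [h2] at h1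
          · obtain ⟨δ, hδ, -, hδf⟩ := hpair hb (inv_mem ha) hnorm hZR
            have h1 := hδf x (fixed_of_central hb hx.2.1)
              (by rw [uniq δ δ₀ hδ hδ₀ x hx.1 hx.2.1, hx.2.2])
            rw [inv_inv, MulAut.mul_apply, MulAut.mul_apply] at h1
            refine central_of_fixed hb ?_ v hv
            apply a⁻¹.injective
            rw [h1, MulAut.inv_apply_self]
        · intro h
          have h0 : ∀ v ∈ S, Commute ((x : R) : Ω) v := by
            simpa using h 1 (one_mem _)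
          obtain ⟨δ, hδ, hδk, -⟩ := hpair hb hg hn (hZess hR)
          refine ⟨hb.le x.2, h0, ?_⟩
          rw [← uniq δ δ₀ hδ hδ₀ x (hb.le x.2) h0]
          refine hδk x (fixed_of_central hb h0) ?_
          rw [MulAut.mul_apply, MulAut.mul_apply, fixed_of_central hb (h g⁻¹ (inv_mem hg)),
            MulAut.apply_inv_self]
      refine ⟨fun c hc => hZess hR c hc.1 hc.2.1, fun a ha c hc => ?_⟩
      have hcR := hZess hR c hc.1 hc.2.1
      rw [autFun_apply a hcR]
      refine (hchar (a ⟨c, hcR⟩)).2 fun b hb' => ?_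
      rw [← MulAut.mul_apply]
      exact (hchar ⟨c, hcR⟩).1 hc (b * a) (mul_mem hb' ha)
  obtain ⟨j, k, hk1, hk2, hjk⟩ := central_decomp C.hS C.hF hb₀ hg₀ hn₀
    (fixed_of_central hb₀ (e := ⟨c, hZess hR₀ c hcS hc⟩) hc)
  obtain ⟨δ, hδ, hδk, -⟩ := hpair hb₀ hg₀ hn₀ (hZess hR₀)
  have hk : (k : Ω) ∈ C₀ := ⟨hb₀.le k.2, central_of_fixed hb₀ hk1, by
    rw [← uniq δ δ₀ hδ hδ₀ k (hb₀.le k.2) (central_of_fixed hb₀ hk1)]
    exact hδk k hk1 hk2⟩
  rw [hC₀, mem_bot] at hk
  have : c = z ^ j * k := by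
    rw [show c = ((hb₀.zz ^ j * k : R₀) : Ω) from congrArg Subtype.val hjk, Subgroup.coe_mul,
      SubgroupClass.coe_pow]; rfl
  rw [this, hk, mul_one]
  exact pow_mem (mem_zpowers z) j

/-- The case `p = 2`, where the hyperfocal subgroup enters. -/
theorem centre_two {F : FusionSystem S} {z : Ω} (C : Ctx F 2 z) [Fact (Nat.Prime 2)]
    (hhyp : F.hyperfocalSubgroup 2 = S) {c : Ω} (hcS : c ∈ S)
    (hc : ∀ v ∈ S, Commute c v) : c ∈ zpowers z := by
  classical
  have hz2 : z * z = 1 := by rw [← pow_two]; exact C.zp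
  have hzmem : ∀ e ∈ zpowers z, e ≠ 1 → e = z := fun e he h1 => by
    obtain ⟨n, rfl⟩ := natexp C.zp he
    rcases Nat.even_or_odd n with ⟨m, rfl⟩ | ⟨m, rfl⟩
    · exact absurd (by rw [← two_mul, pow_mul, C.zp, one_pow]) h1
    · rw [pow_add, pow_mul, C.zp, one_pow, one_mul, pow_one]
  have hδz : ∀ δ ∈ F.autGroup S, autFun δ z = z := fun δ hδ =>
    hzmem _ (C.aut_z hδ) fun e => C.z1
      (((mem_autGroup_iff le_rfl).1 hδ).injOn C.zS S.one_mem
        (e.trans ((mem_autGroup_iff le_rfl).1 hδ).map_one.symm))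
  have hZess : ∀ {R : Subgroup Ω}, F.IsEssential 2 R → ∀ c ∈ S, (∀ v ∈ S, Commute c v) → c ∈ R :=
    fun hR c hc hv => hR.1.2 _ (isConj_refl F hR.1.1) ⟨hc, fun v hvR => (hv v (hR.1.1 hvR)).eq.symm⟩
  -- centres of conjugates
  have hcent : ∀ {R : Subgroup Ω} {w : Ω} (hb : Base F 2 R z w) {g a : MulAut R},
      g ∈ F.autGroup R → g * hb.t * g⁻¹ ∉ zpowers hb.t → a ∈ F.autGroup R →
      a hb.zz = hb.zz ∨ a hb.zz = g hb.zz ∨ a hb.zz = hb.t (g hb.zz) := by
    intro R w hb g a hg hn ha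
    have key : ∀ b ∈ F.autGroup R, b * hb.t = hb.t * b → b hb.zz = hb.zz := fun b hb' he => by
      obtain ⟨δ, hδ, hδe⟩ := hb.extend C.hS C.hF hb' (by
        rw [he, mul_inv_cancel_right]; exact mem_zpowers _)
      have h1 := hδe z hb.zE
      rw [hδz δ hδ, autFun_apply b hb.zE] at h1
      exact Subtype.ext h1.symm
    have same : ∀ b ∈ F.autGroup R, a * hb.t * a⁻¹ = b * hb.t * b⁻¹ → a hb.zz = b hb.zz := by
      intro b hb' he
      have h2 : b⁻¹ * a * hb.t = hb.t * (b⁻¹ * a) := by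
        have := congrArg (fun x => b⁻¹ * x * a) he
        simpa [mul_assoc] using this
      have h1 := congrArg b (key (b⁻¹ * a) (mul_mem (inv_mem hb') ha) h2)
      rwa [MulAut.mul_apply, MulAut.apply_inv_self] at h1
    have ht2 : hb.t * hb.t = 1 := by rw [← pow_two]; exact hb.t_pow
    by_cases hnorm : a * hb.t * a⁻¹ ∈ zpowers hb.t
    · refine Or.inl (same 1 (one_mem _) ?_ |>.trans (by rw [MulAut.one_apply]))
      obtain ⟨n, hn'⟩ := natexp hb.t_pow hnorm
      rcases Nat.even_or_odd n with ⟨m, rfl⟩ | ⟨m, rfl⟩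
      · rw [← two_mul, pow_mul, hb.t_pow, one_pow, mul_inv_eq_one, mul_eq_left] at hn'
        exact absurd (by rw [hn', mul_one, mul_inv_cancel]; exact one_mem _) hn
      · rw [hn', pow_add, pow_mul, hb.t_pow, one_pow, one_mul, pow_one, one_mul, inv_one, mul_one]
    · rcases hb.three C.hS C.hF rfl hg hn ha hnorm with h | h
      · exact Or.inr (Or.inl (same g hg h))
      · refine Or.inr (Or.inr ?_)
        rw [← MulAut.mul_apply]
        refine same _ (mul_mem hb.t_aut hg) ?_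
        rw [h, mul_inv_rev, inv_eq_of_mul_eq_one_right ht2]
        group
  -- involutions outside the centre
  let Out : Ω → Prop := fun x => x ∈ S ∧ x * x = 1 ∧ ¬ ∀ v ∈ S, Commute x v
  have hsq : ∀ e ∈ S, (∀ v ∈ S, Commute e v) → e * e ≠ z := by
    intro e he hev h
    obtain ⟨R, hR⟩ := C.exists_essential
    obtain ⟨w, -, -, -, hb, g, hg, hn⟩ := C.exists_base hR
    obtain ⟨j, k, hk1, hk2, hjk⟩ := central_decomp C.hS C.hF hb hg hn
      (fixed_of_central hb (e := ⟨e, hZess hR e he hev⟩) hev)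
    refine hb.conj_moves C.hS C.hF hg hn ?_
    have : hb.zz = k * k := by
      apply Subtype.ext
      have h1 : e = z ^ j * k := by
        rw [show e = ((hb.zz ^ j * k : R) : Ω) from congrArg Subtype.val hjk, Subgroup.coe_mul,
          SubgroupClass.coe_pow]; rfl
      show z = k * k
      rw [← h, h1, ((C.zc k (hb.le k.2)).pow_left j).symm.mul_mul_mul_comm, ← pow_add, ← two_mul,
        pow_mul, C.zp, one_pow, one_mul]
    rw [this, _root_.map_mul, hk2]
  have hout : ∀ {R : Subgroup Ω} {w : Ω} (hb : Base F 2 R z w) {g : MulAut R},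
      g ∈ F.autGroup R → g * hb.t * g⁻¹ ∉ zpowers hb.t → Out (g hb.zz : R) ∧
      ∀ x ∈ S, (Commute x ((g hb.zz : R) : Ω) ↔ x ∈ R) := by
    intro R w hb g hg hn
    set u := g hb.zz with hu
    have hnc : ¬ ∀ v ∈ S, Commute (u : Ω) v := fun h =>
      hb.t_moves C.hS C.hF hg hn (fixed_of_central hb h)
    have hu2 : u * u = 1 := by rw [hu, ← _root_.map_mul, ← pow_two, hb.zz_pow, _root_.map_one]
    refine ⟨⟨hb.le u.2, congrArg Subtype.val hu2, hnc⟩, fun x hx => ⟨fun hxu => ?_,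
      fun hxR => hb.ab x hxR u u.2⟩⟩
    by_contra hxR
    refine hnc fun v hv => ?_
    obtain ⟨e, he, j, rfl⟩ := hb.gen v hv
    obtain ⟨e', he', j', rfl⟩ := hb.gen x hx
    have hwj : Commute (w ^ j') (u : Ω) := by
      have := (hb.ab e' he' u u.2).inv_left.mul_left hxu
      rwa [inv_mul_cancel_left] at this
    have hw2 : w * w ∈ R := hb.cen _ (by rw [← pow_two]; exact S.pow_mem hb.wS 2)
      (fun v hv => by rw [← pow_two]; exact C.pow w hb.wS v hv)
    rcases Nat.even_or_odd j' with ⟨m, rfl⟩ | ⟨m, rfl⟩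
    · exact absurd (mul_mem he' (by rw [← two_mul, pow_mul, pow_two]; exact R.pow_mem hw2 m)) hxR
    · have hw : Commute w (u : Ω) := by
        have h2 : Commute (w ^ (2 * m)) (u : Ω) :=
          hb.ab _ (by rw [pow_mul, pow_two]; exact R.pow_mem hw2 m) u u.2
        rw [pow_add, pow_one] at hwj
        have := h2.inv_left.mul_left hwj
        rwa [inv_mul_cancel_left] at this
      exact (hb.ab u u.2 e he).mul_right (hw.symm.pow_right j)
  -- two non-commuting such involutions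
  obtain ⟨R₁, hR₁⟩ := C.exists_essential
  obtain ⟨w₁, -, hw₁R, -, hb₁, g₁, hg₁, hn₁⟩ := C.exists_base hR₁
  obtain ⟨hu₁, hR₁c⟩ := hout hb₁ hg₁ hn₁
  set u₁ : Ω := ((g₁ hb₁.zz : R₁) : Ω) with hu₁def
  have houtδ : ∀ δ ∈ F.autGroup S, ∀ x, Out x → Out (autFun δ x) := by
    intro δ hδ x hx
    have hm := (mem_autGroup_iff le_rfl).1 hδ
    refine ⟨autFun_mem δ hx.1, by rw [← hm.map_mul hx.1 hx.1, hx.2.1, hm.map_one], fun h => hx.2.2 ?_⟩
    have := C.aut_centre (inv_mem hδ) (autFun_mem δ hx.1) h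
    rwa [autFun_inv_apply _ hx.1] at this
  have hnotall : ¬ ∀ x y, Out x → Out y → Commute x y := by
    intro hall
    refine C.not_all_eq hR₁ (fun δ hδ x hx => ?_) (fun R hR => ?_)
    · have hm := (mem_autGroup_iff le_rfl).1 hδ
      have hδu : Commute (autFun δ u₁) u₁ := hall _ _ (houtδ δ hδ u₁ hu₁) hu₁
      -- `R₁` is the centralizer of the image of `u₁`
      have hd : autFun δ u₁ ∈ R₁ := (hR₁c _ (autFun_mem δ hu₁.1)).1 hδu
      have hxd : Commute (autFun δ x) (autFun δ u₁) := by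
        show autFun δ x * autFun δ u₁ = autFun δ u₁ * autFun δ x
        rw [← hm.map_mul (hb₁.le hx) hu₁.1, ← hm.map_mul hu₁.1 (hb₁.le hx),
          ((hR₁c x (hb₁.le hx)).2 hx).eq]
      by_contra hcon
      refine (houtδ δ hδ u₁ hu₁).2.2 fun v hv => ?_
      obtain ⟨c', -, hc', i, j, rfl⟩ := C.span u₁ hu₁.1 _ (autFun_mem δ (hb₁.le hx))
        (fun h => hcon ((hR₁c _ (autFun_mem δ (hb₁.le hx))).1 h.symm)) v hv
      exact ((hc' _ (autFun_mem δ hu₁.1)).symm.mul_right (hδu.pow_right i)).mul_right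
        (hxd.symm.pow_right j)
    · obtain ⟨w, -, -, -, hb, g, hg, hn⟩ := C.exists_base hR
      obtain ⟨hu, hRc⟩ := hout hb hg hn
      have hcom := hall _ _ hu hu₁
      refine le_antisymm (fun x hx => (hR₁c x (hb.le hx)).1 ?_)
        (fun x hx => (hRc x (hb₁.le hx)).1 ?_)
      · exact hb.ab x hx u₁ ((hRc u₁ hu₁.1).1 hcom.symm)
      · exact hb₁.ab x hx _ ((hR₁c _ hu.1).1 hcom)
  push Not at hnotall
  obtain ⟨a, b, ha, hb', hab⟩ := hnotall
  -- every such involution lies in `Z a` or in `Z b`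
  have hcls : ∀ x, Out x → (∀ v, Commute v x → Commute v x) ∧
      (Commute x a ∨ Commute x b) := by
    intro x hx
    refine ⟨fun _ h => h, ?_⟩
    obtain ⟨e, heS, he, i, j, hxe⟩ := C.span a ha.1 b hb'.1 hab x hx.1
    have hpar : ∀ {q : Ω} (n : ℕ), q * q = 1 → q ^ n = 1 ∨ q ^ n = q := fun {q} n hq => by
      rcases Nat.even_or_odd n with ⟨m, rfl⟩ | ⟨m, rfl⟩
      · exact Or.inl (by rw [← two_mul, pow_mul, pow_two, hq, one_pow])
      · exact Or.inr (by rw [pow_add, pow_mul, pow_two, hq, one_pow, one_mul, pow_one])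
    rcases hpar i ha.2.1 with h1 | h1
    · right
      rw [hxe, h1, mul_one]
      exact (he b hb'.1).mul_left ((Commute.refl b).pow_left j)
    rcases hpar j hb'.2.1 with h2 | h2
    · left
      rw [hxe, h2, mul_one, h1]
      exact (he a ha.1).mul_left (Commute.refl a)
    exfalso
    refine hsq e heS he ?_
    have hainv : a⁻¹ = a := inv_eq_of_mul_eq_one_right ha.2.1
    have hbinv : b⁻¹ = b := inv_eq_of_mul_eq_one_right hb'.2.1
    have hz : a * b * (a * b) = z := by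
      have := hzmem _ (C.comm a ha.1 b hb'.1) (fun e => hab (by
        rw [mul_inv_eq_one, mul_inv_eq_iff_eq_mul] at e
        exact e))
      rw [hainv, hbinv] at this
      rw [← this]
      group
    have h3 := hx.2.1
    rw [hxe, h1, h2, mul_assoc e,
      (he _ (S.mul_mem ha.1 hb'.1)).symm.mul_mul_mul_comm, hz] at h3
    calc e * e = e * e * (z * z) := by rw [hz2, mul_one]
      _ = z := by rw [← mul_assoc, h3, one_mul]
  have hclass : ∀ x y, Out x → Out y → Commute x y →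
      ∀ v ∈ S, Commute v x → Commute v y := by
    intro x y hx hy hxy v hv hvx
    by_contra hvy
    refine hx.2.2 fun s hs => ?_
    obtain ⟨c', -, hc', i, j, rfl⟩ := C.span y hy.1 v hv (fun h => hvy h.symm) s hs
    exact ((hc' x hx.1).symm.mul_right (hxy.pow_right i)).mul_right (hvx.symm.pow_right j)
  have hfix : ∀ δ ∈ F.autGroup S, ∀ x, Out x → Commute (autFun δ x) x := by
    intro δ hδ x hx
    by_contra hcon
    -- an odd power of `δ` is a `2`-element, hence inner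
    haveI := finite_mulAut S
    obtain ⟨k, m, hm, hord⟩ := Nat.exists_eq_pow_mul_and_not_dvd (orderOf_pos δ).ne' 2 (by norm_num)
    obtain ⟨s, hs, hsi⟩ := C.inner_of_pPower (pow_mem hδ m) (k := k)
      (by rw [← pow_mul, mul_comm, ← hord, pow_orderOf_eq_one])
    have hit : ∀ n : ℕ, Out (autFun (δ ^ n) x) ∧
        ((Even n → Commute (autFun (δ ^ n) x) x) ∧
          (Odd n → ¬ Commute (autFun (δ ^ n) x) x)) := by
      intro n
      induction n with
      | zero =>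
        rw [pow_zero, autFun_one hx.1]
        exact ⟨hx, fun _ => Commute.refl x, fun h => absurd h (by simp)⟩
      | succ n ih =>
        set y := autFun (δ ^ n) x with hy
        have hδy : autFun (δ ^ (n + 1)) x = autFun δ y := by
          rw [pow_succ', autFun_mul _ _ hx.1]
        have hm' := (mem_autGroup_iff le_rfl).1 hδ
        have hmap : ∀ q r, q ∈ S → r ∈ S →
            (Commute (autFun δ q) (autFun δ r) ↔ Commute q r) := by
          intro q r hq hr
          constructor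
          · intro h
            refine hm'.injOn (S.mul_mem hq hr) (S.mul_mem hr hq) ?_
            rw [hm'.map_mul hq hr, hm'.map_mul hr hq, h.eq]
          · intro h
            show autFun δ q * autFun δ r = autFun δ r * autFun δ q
            rw [← hm'.map_mul hq hr, ← hm'.map_mul hr hq, h.eq]
        rw [hδy]
        refine ⟨houtδ δ hδ y ih.1, fun hev => ?_, fun hodd hcom => ?_⟩
        · have hno : ¬ Commute y x := ih.2.2 (by
            rcases Nat.even_or_odd n with h | h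
            · exact absurd hev (Nat.not_even_iff_odd.2 h.add_one)
            · exact h)
          have h1 : ¬ Commute (autFun δ y) (autFun δ x) := fun h =>
            hno ((hmap _ _ ih.1.1 hx.1).1 h)
          by_contra hdx
          -- three classes are impossible
          rcases hcls _ (houtδ δ hδ y ih.1) with ⟨-, hy1⟩
          rcases (hcls _ (houtδ δ hδ x hx)).2 with hx1 | hx1 <;> rcases (hcls x hx).2 with hx2 | hx2
            <;> rcases hy1 with hy2 | hy2
          all_goals first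
            | exact hcon (hclass _ _ ha hx hx2.symm _ (autFun_mem δ hx.1) hx1)
            | exact hcon (hclass _ _ hb' hx hx2.symm _ (autFun_mem δ hx.1) hx1)
            | exact hdx (hclass _ _ ha hx hx2.symm _ (autFun_mem δ ih.1.1) hy2)
            | exact hdx (hclass _ _ hb' hx hx2.symm _ (autFun_mem δ ih.1.1) hy2)
            | exact h1 (hclass _ _ ha (houtδ δ hδ x hx) hx1.symm _ (autFun_mem δ ih.1.1) hy2)
            | exact h1 (hclass _ _ hb' (houtδ δ hδ x hx) hx1.symm _ (autFun_mem δ ih.1.1) hy2)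
        · have hyes : Commute y x := ih.2.1 (by
            rcases Nat.even_or_odd n with h | h
            · exact h
            · exact absurd h.add_one (Nat.not_even_iff_odd.2 hodd))
          have h1 : Commute (autFun δ y) (autFun δ x) := (hmap _ _ ih.1.1 hx.1).2 hyes
          exact hcon (hclass _ _ (houtδ δ hδ y ih.1) hx hcom _ (autFun_mem δ hx.1) h1.symm)
    have hmo : Odd m := Nat.odd_iff.2 (by omega)
    refine (hit m).2.2 hmo ?_
    rw [hsi x hx.1]
    obtain ⟨q, hq⟩ := natexp C.zp (C.comm s hs x hx.1)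
    have h1 : s * x * s⁻¹ = z ^ q * x := by rw [← hq]; group
    rw [h1]
    exact ((C.zc x hx.1).pow_left q).mul_left (Commute.refl x)
  have hinvR : ∀ {R : Subgroup Ω} {w : Ω} (hb : Base F 2 R z w) {g : MulAut R},
      g ∈ F.autGroup R → g * hb.t * g⁻¹ ∉ zpowers hb.t →
      ∀ δ ∈ F.autGroup S, ∀ x ∈ R, autFun δ x ∈ R := by
    intro R w hb g hg hn δ hδ x hx
    obtain ⟨hu, hRc⟩ := hout hb hg hn
    have hm := (mem_autGroup_iff le_rfl).1 hδ
    refine (hRc _ (autFun_mem δ (hb.le hx))).1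
      (hclass _ _ (houtδ δ hδ _ hu) hu (hfix δ hδ _ hu) _ (autFun_mem δ (hb.le hx)) ?_)
    show autFun δ x * _ = _ * autFun δ x
    rw [← hm.map_mul (hb.le hx) hu.1, ← hm.map_mul hu.1 (hb.le hx),
      ((hRc x (hb.le hx)).2 hx).eq]
  -- a second essential subgroup
  obtain ⟨R₂, hR₂, hne⟩ : ∃ R₂, F.IsEssential 2 R₂ ∧ R₂ ≠ R₁ := by
    by_contra h
    push Not at h
    exact C.not_all_eq hR₁ (hinvR hb₁ hg₁ hn₁) h
  obtain ⟨w₂, -, -, -, hb₂, g₂, hg₂, hn₂⟩ := C.exists_base hR₂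
  obtain ⟨hu₂, hR₂c⟩ := hout hb₂ hg₂ hn₂
  set u₂ : Ω := ((g₂ hb₂.zz : R₂) : Ω) with hu₂def
  have hu12 : ¬ Commute u₁ u₂ := by
    intro h
    refine hne (le_antisymm (fun x hx => (hR₁c x (hb₂.le hx)).1 ?_)
      (fun x hx => (hR₂c x (hb₁.le hx)).1 ?_))
    · exact hb₂.ab x hx u₁ ((hR₂c u₁ hu₁.1).1 h)
    · exact hb₁.ab x hx u₂ ((hR₁c u₂ hu₂.1).1 h.symm)
  have hessR : ∀ R, F.IsEssential 2 R → R = R₁ ∨ R = R₂ := by
    intro R hR
    obtain ⟨w, -, -, -, hb, g, hg, hn⟩ := C.exists_base hR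
    obtain ⟨hu, hRc⟩ := hout hb hg hn
    by_cases h1 : Commute ((g hb.zz : R) : Ω) u₁
    · left
      refine le_antisymm (fun x hx => (hR₁c x (hb.le hx)).1 ?_)
        (fun x hx => (hRc x (hb₁.le hx)).1 ?_)
      · exact hb.ab x hx u₁ ((hRc u₁ hu₁.1).1 h1.symm)
      · exact hb₁.ab x hx _ ((hR₁c _ hu.1).1 h1)
    · have h2 : Commute ((g hb.zz : R) : Ω) u₂ := by
        by_contra h2
        rcases (hcls _ hu).2 with k0 | k0 <;> rcases (hcls _ hu₁).2 with k1 | k1
          <;> rcases (hcls _ hu₂).2 with k2 | k2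
        all_goals first
          | exact h1 (hclass _ _ ha hu₁ k1.symm _ hu.1 k0)
          | exact h1 (hclass _ _ hb' hu₁ k1.symm _ hu.1 k0)
          | exact h2 (hclass _ _ ha hu₂ k2.symm _ hu.1 k0)
          | exact h2 (hclass _ _ hb' hu₂ k2.symm _ hu.1 k0)
          | exact hu12 (hclass _ _ ha hu₂ k2.symm _ hu₁.1 k1)
          | exact hu12 (hclass _ _ hb' hu₂ k2.symm _ hu₁.1 k1)
      right
      refine le_antisymm (fun x hx => (hR₂c x (hb.le hx)).1 ?_)
        (fun x hx => (hRc x (hb₂.le hx)).1 ?_)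
      · exact hb.ab x hx u₂ ((hRc u₂ hu₂.1).1 h2.symm)
      · exact hb₂.ab x hx _ ((hR₂c _ hu.1).1 h2)
  -- the commutators of the centre with automorphisms of `S`
  set D : Subgroup Ω := closure {d | ∃ δ ∈ F.autGroup S, ∃ e ∈ S, (∀ v ∈ S, Commute e v) ∧
    d = e⁻¹ * autFun δ e} with hD
  have hDZ : ∀ d ∈ D, d ∈ S ∧ ∀ v ∈ S, Commute d v := by
    intro d hd
    induction hd using Subgroup.closure_induction with
    | mem x hx =>
      obtain ⟨δ, hδ, e, he, hev, rfl⟩ := hx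
      exact ⟨S.mul_mem (S.inv_mem he) (autFun_mem δ he),
        fun v hv => (hev v hv).inv_left.mul_left (C.aut_centre hδ he hev v hv)⟩
    | one => exact ⟨S.one_mem, fun v _ => Commute.one_left v⟩
    | mul x y _ _ hx hy =>
      exact ⟨S.mul_mem hx.1 hy.1, fun v hv => (hx.2 v hv).mul_left (hy.2 v hv)⟩
    | inv x _ hx => exact ⟨S.inv_mem hx.1, fun v hv => (hx.2 v hv).inv_left⟩
  have hKfix : ∀ {R : Subgroup Ω} {w : Ω} (hb : Base F 2 R z w) {g : MulAut R},
      g ∈ F.autGroup R → g * hb.t * g⁻¹ ∉ zpowers hb.t →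
      ∀ k : R, hb.t k = k → (g * hb.t * g⁻¹) k = k →
      ∀ a ∈ F.autGroup R, (a * hb.t * a⁻¹) k = k := by
    intro R w hb g hg hn k hk1 hk2 a ha
    by_cases hnorm : a * hb.t * a⁻¹ ∈ zpowers hb.t
    · obtain ⟨n, hn'⟩ := natexp hb.t_pow hnorm
      rw [hn']
      exact CfsgLib.GenExtraspecial.pow_apply_fixed hk1 n
    · rcases hb.three C.hS C.hF rfl hg hn ha hnorm with h | h
      · rw [h, hk2]
      · rw [h, MulAut.mul_apply, MulAut.mul_apply, hk1, hk2, hk1]
  have hDK : ∀ {R : Subgroup Ω} {w : Ω} (hb : Base F 2 R z w) {g : MulAut R},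
      g ∈ F.autGroup R → g * hb.t * g⁻¹ ∉ zpowers hb.t → F.IsEssential 2 R →
      ∀ d ∈ D, ∀ hd : d ∈ R, ∀ a ∈ F.autGroup R, (a * hb.t * a⁻¹) ⟨d, hd⟩ = ⟨d, hd⟩ := by
    intro R w hb g hg hn hR
    let K : Subgroup Ω :=
      { carrier := {d | ∃ hd : d ∈ R, ∀ a ∈ F.autGroup R, (a * hb.t * a⁻¹) ⟨d, hd⟩ = ⟨d, hd⟩}
        one_mem' := ⟨R.one_mem, fun a _ => _root_.map_one (a * hb.t * a⁻¹)⟩
        mul_mem' := fun {x y} hx hy => by
          obtain ⟨hx, hx'⟩ := hx
          obtain ⟨hy, hy'⟩ := hy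
          refine ⟨R.mul_mem hx hy, fun a ha => ?_⟩
          rw [show (⟨x * y, R.mul_mem hx hy⟩ : R) = ⟨x, hx⟩ * ⟨y, hy⟩ from rfl, _root_.map_mul,
            hx' a ha, hy' a ha]
        inv_mem' := fun {x} hx => by
          obtain ⟨hx, hx'⟩ := hx
          refine ⟨R.inv_mem hx, fun a ha => ?_⟩
          rw [show (⟨x⁻¹, R.inv_mem hx⟩ : R) = (⟨x, hx⟩ : R)⁻¹ from rfl, _root_.map_inv, hx' a ha] }
    suffices D ≤ K from fun d hd hdR a ha => by
      obtain ⟨h, h'⟩ := this hd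
      exact h' a ha
    rw [hD, closure_le]
    rintro _ ⟨δ, hδ, e, he, hev, rfl⟩
    obtain ⟨j, k, hk1, hk2, hjk⟩ := central_decomp C.hS C.hF hb hg hn
      (fixed_of_central hb (e := ⟨e, hZess hR e he hev⟩) hev)
    have he' : e = z ^ j * k := by
      rw [show e = ((hb.zz ^ j * k : R) : Ω) from congrArg Subtype.val hjk, Subgroup.coe_mul,
        SubgroupClass.coe_pow]; rfl
    have hkS := hb.le k.2
    have hm := (mem_autGroup_iff le_rfl).1 hδ
    have hd : e⁻¹ * autFun δ e = (k : Ω)⁻¹ * autFun δ k := by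
      rw [he', hm.map_mul (S.pow_mem C.zS j) hkS, CfsgLib.GenExtraspecial.map_pow hm C.zS,
        hδz δ hδ]
      group
    -- the restriction of `δ` to `R`
    have hinv := hinvR hb hg hn δ hδ
    obtain ⟨b, hbF, hbv⟩ := (hm.restrict hb.le).exists_aut (eq_of_le_of_card_le hb.le
      (img_le_iff.2 hinv) (hm.restrict hb.le).card_img.ge)
    have hbk : ∀ a ∈ F.autGroup R, (a * hb.t * a⁻¹) (b k) = b k := by
      intro a ha
      have h1 := congrArg b (hKfix hb hg hn k hk1 hk2 (b⁻¹ * a) (mul_mem (inv_mem hbF) ha))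
      rw [← MulAut.mul_apply, show b * (b⁻¹ * a * hb.t * (b⁻¹ * a)⁻¹) = a * hb.t * a⁻¹ * b by
        group, MulAut.mul_apply] at h1
      exact h1
    show e⁻¹ * autFun δ e ∈ K
    rw [hd]
    refine ⟨mul_mem (inv_mem k.2) (hinv k k.2), fun a ha => ?_⟩
    have e1 : (⟨(k : Ω)⁻¹ * autFun δ k, mul_mem (inv_mem k.2) (hinv k k.2)⟩ : R) = k⁻¹ * b k :=
      Subtype.ext (by
        rw [Subgroup.coe_mul, InvMemClass.coe_inv, ← CfsgLib.Fusion.autFun_coe b k, hbv k k.2])
    rw [e1, _root_.map_mul, _root_.map_inv, hbk a ha, hKfix hb hg hn k hk1 hk2 a ha]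
  have hDinvS : ∀ γ ∈ F.autGroup S, ∀ d ∈ D, autFun γ d ∈ D := by
    intro γ hγ d hd
    have hm := (mem_autGroup_iff le_rfl).1 hγ
    induction hd using Subgroup.closure_induction with
    | mem x hx =>
      obtain ⟨δ, hδ, e, he, hev, rfl⟩ := hx
      refine subset_closure ⟨γ * δ * γ⁻¹, mul_mem (mul_mem hγ hδ) (inv_mem hγ), autFun γ e,
        autFun_mem γ he, C.aut_centre hγ he hev, ?_⟩
      rw [hm.map_mul (S.inv_mem he) (autFun_mem δ he), hm.map_inv he,
        autFun_mul _ _ (autFun_mem γ he), autFun_mul _ _ (autFun_mem _ (autFun_mem γ he)),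
        autFun_inv_apply _ he]
    | one => rw [hm.map_one]; exact one_mem _
    | mul x y hx hy hx' hy' =>
      rw [hm.map_mul (hDZ x hx).1 (hDZ y hy).1]
      exact mul_mem hx' hy'
    | inv x hx hx' =>
      rw [hm.map_inv (hDZ x hx).1]
      exact inv_mem hx'
  have hD0 : D = ⊥ := by
    refine C.eq_bot_of_invariant (fun d hd => (hDZ d hd).1) fun R hR => ?_
    rcases hR with hRe | hR
    · rw [hRe]
      exact ⟨fun d hd => (hDZ d hd).1, hDinvS⟩
    obtain ⟨w, -, -, -, hb, g, hg, hn⟩ := C.exists_base hR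
    refine ⟨fun d hd => hZess hR d (hDZ d hd).1 (hDZ d hd).2, fun a ha d hd => ?_⟩
    have hdR := hZess hR d (hDZ d hd).1 (hDZ d hd).2
    have ht2 : hb.t * hb.t = 1 := by rw [← pow_two]; exact hb.t_pow
    by_cases hnorm : a * hb.t * a⁻¹ ∈ zpowers hb.t
    · obtain ⟨δ, hδ, hδe⟩ := hb.extend C.hS C.hF ha hnorm
      rw [← hδe d hdR]
      exact hDinvS δ hδ d hd
    · set t' := a * hb.t * a⁻¹ with ht'
      have ht'F : t' ∈ F.autGroup R := mul_mem (mul_mem ha hb.t_aut) (inv_mem ha)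
      have ht'2 : t' * t' = 1 := by
        rw [ht', show a * hb.t * a⁻¹ * (a * hb.t * a⁻¹) = a * (hb.t * hb.t) * a⁻¹ by group, ht2,
          mul_one, mul_inv_cancel]
      have ht'i : t'⁻¹ = t' := inv_eq_of_mul_eq_one_right ht'2
      have hti : hb.t⁻¹ = hb.t := inv_eq_of_mul_eq_one_right ht2
      have hnc : ¬ Commute hb.t t' := fun h => hnorm (hb.conj_commute C.hS C.hF ha h)
      have hn2 : t' * hb.t * t'⁻¹ ∉ zpowers hb.t := by
        intro hm
        obtain ⟨n, hn'⟩ := natexp hb.t_pow hm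
        rcases Nat.even_or_odd n with ⟨m, rfl⟩ | ⟨m, rfl⟩
        · rw [← two_mul, pow_mul, hb.t_pow, one_pow, mul_inv_eq_one, mul_eq_left] at hn'
          exact hnc (by rw [hn']; exact Commute.one_left _)
        · rw [pow_add, pow_mul, hb.t_pow, one_pow, one_mul, pow_one, mul_inv_eq_iff_eq_mul] at hn'
          exact hnc hn'.symm
      have hbraid : t' * hb.t * t' = hb.t * t' * hb.t := by
        rcases hb.three C.hS C.hF rfl ha hnorm ht'F hn2 with h | h
        · rw [← ht', ht'i] at h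
          refine absurd ?_ hnc
          have h2 : hb.t = t' := by
            rw [← ht'i]
            refine eq_inv_of_mul_eq_one_left ?_
            exact mul_left_cancel (a := t') (by rw [← mul_assoc, h, mul_one])
          rw [h2]
        · rwa [← ht', ht'i] at h
      -- `r` carries `t` to `t'`
      obtain ⟨r, hr⟩ : ∃ r, r = hb.t * t' := ⟨_, rfl⟩
      have hrt : r * hb.t * r⁻¹ = t' := by
        rw [hr, mul_inv_rev, ht'i, hti]
        calc hb.t * t' * hb.t * (t' * hb.t) = hb.t * (t' * hb.t * t') * hb.t := by group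
          _ = (hb.t * hb.t) * t' * (hb.t * hb.t) := by rw [hbraid]; simp only [mul_assoc]
          _ = t' := by rw [ht2, one_mul, mul_one]
      have hnF : r⁻¹ * a ∈ F.autGroup R := mul_mem (inv_mem (hr ▸ mul_mem hb.t_aut ht'F)) ha
      obtain ⟨δ, hδ, hδe⟩ := hb.extend C.hS C.hF hnF (by
        rw [show r⁻¹ * a * hb.t * (r⁻¹ * a)⁻¹ = r⁻¹ * t' * r by
            simp only [ht', mul_inv_rev, inv_inv, mul_assoc], ← hrt,
          show r⁻¹ * (r * hb.t * r⁻¹) * r = hb.t by group]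
        exact mem_zpowers _)
      have hd' : autFun (r⁻¹ * a) d ∈ D := by
        rw [← hδe d hdR]
        exact hDinvS δ hδ d hd
      have hd'R := autFun_mem (r⁻¹ * a) hdR
      have hfix' : ∀ (v : Ω) (hv : v ∈ R), v ∈ D → r ⟨v, hv⟩ = ⟨v, hv⟩ := by
        intro v hv hvD
        have h1 := hDK hb hg hn hR v hvD hv 1 (one_mem _)
        rw [one_mul, inv_one, mul_one] at h1
        have h2 := hDK hb hg hn hR v hvD hv a ha
        rw [← ht'] at h2
        rw [hr, MulAut.mul_apply, h2, h1]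
      have hfixr := hfix' _ hd'R hd'
      have : autFun a d = autFun r (autFun (r⁻¹ * a) d) := by
        rw [← autFun_mul _ _ hdR, mul_inv_cancel_left]
      rw [this, autFun_apply r hd'R, hfixr]
      exact hd'
  have hδZ : ∀ δ ∈ F.autGroup S, ∀ e ∈ S, (∀ v ∈ S, Commute e v) → autFun δ e = e := by
    intro δ hδ e he hev
    have hd : e⁻¹ * autFun δ e ∈ D := subset_closure ⟨δ, hδ, e, he, hev, rfl⟩
    rw [hD0, mem_bot, inv_mul_eq_one] at hd
    exact hd.symm
  -- all maps move elements inside `U`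
  set U : Subgroup Ω := (zpowers u₁ ⊔ zpowers z) ⊔ zpowers u₂ with hU
  have hzU : z ∈ U := mem_sup_left (mem_sup_right (mem_zpowers z))
  have hu₁U : u₁ ∈ U := mem_sup_left (mem_sup_left (mem_zpowers u₁))
  have hu₂U : u₂ ∈ U := mem_sup_right (mem_zpowers u₂)
  have hessU : ∀ {R : Subgroup Ω} {w : Ω} (hb : Base F 2 R z w) {g : MulAut R},
      g ∈ F.autGroup R → g * hb.t * g⁻¹ ∉ zpowers hb.t → ((g hb.zz : R) : Ω) ∈ U →
      F.IsEssential 2 R → ∀ a ∈ F.autGroup R, ∀ x ∈ R, x⁻¹ * autFun a x ∈ U := by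
    intro R w hb g hg hn hgU hR a ha x hx
    letI : CommGroup R := { (inferInstance : Group R) with
      mul_comm := fun q q' => Subtype.ext (hb.ab q q.2 q' q'.2).eq }
    have hzz : ((hb.zz : R) : Ω) ∈ U := hzU
    have hcU : ∀ b ∈ F.autGroup R, ((b hb.zz : R) : Ω) ∈ U := by
      intro b hb'
      rcases hcent hb hg hn hb' with h | h | h <;> rw [h]
      · exact hzz
      · exact hgU
      · obtain ⟨n, hn'⟩ := hb.t_shift (g hb.zz)
        rw [hn', Subgroup.coe_mul, SubgroupClass.coe_pow]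
        exact mul_mem hgU (pow_mem hzz n)
    obtain ⟨i, j, k, hk1, hk2, hxk⟩ := hb.decomp C.hS C.hF hg hn ⟨x, hx⟩
    -- `a` fixes the common fixed points
    have hak : a k = k := by
      have hkv := central_of_fixed hb hk1
      have h1 : hb.t (a k) = a k := by
        have h2 := congrArg a (hKfix hb hg hn k hk1 hk2 a⁻¹ (inv_mem ha))
        rwa [← MulAut.mul_apply, show a * (a⁻¹ * hb.t * a⁻¹⁻¹) = hb.t * a by group,
          MulAut.mul_apply] at h2
      by_cases hnorm : a * hb.t * a⁻¹ ∈ zpowers hb.t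
      · obtain ⟨δ, hδ, hδe⟩ := hb.extend C.hS C.hF ha hnorm
        apply Subtype.ext
        rw [← CfsgLib.Fusion.autFun_coe, ← hδe k k.2, hδZ δ hδ k (hb.le k.2) hkv]
      · set t' := a * hb.t * a⁻¹ with ht'
        have ht'F : t' ∈ F.autGroup R := mul_mem (mul_mem ha hb.t_aut) (inv_mem ha)
        -- `a` is `r` times an element commuting with `t`
        obtain ⟨r, hr⟩ : ∃ r, r = hb.t * t' := ⟨_, rfl⟩
        have ht2 : hb.t * hb.t = 1 := by rw [← pow_two]; exact hb.t_pow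
        have ht'2 : t' * t' = 1 := by
          rw [ht', show a * hb.t * a⁻¹ * (a * hb.t * a⁻¹) = a * (hb.t * hb.t) * a⁻¹ by group, ht2,
            mul_one, mul_inv_cancel]
        have ht'i : t'⁻¹ = t' := inv_eq_of_mul_eq_one_right ht'2
        have hti : hb.t⁻¹ = hb.t := inv_eq_of_mul_eq_one_right ht2
        have hnc : ¬ Commute hb.t t' := fun h => hnorm (hb.conj_commute C.hS C.hF ha h)
        have hn2 : t' * hb.t * t'⁻¹ ∉ zpowers hb.t := by
          intro hm
          obtain ⟨n, hn'⟩ := natexp hb.t_pow hm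
          rcases Nat.even_or_odd n with ⟨m, rfl⟩ | ⟨m, rfl⟩
          · rw [← two_mul, pow_mul, hb.t_pow, one_pow, mul_inv_eq_one, mul_eq_left] at hn'
            exact hnc (by rw [hn']; exact Commute.one_left _)
          · rw [pow_add, pow_mul, hb.t_pow, one_pow, one_mul, pow_one, mul_inv_eq_iff_eq_mul]
              at hn'
            exact hnc hn'.symm
        have hbraid : t' * hb.t * t' = hb.t * t' * hb.t := by
          rcases hb.three C.hS C.hF rfl ha hnorm ht'F hn2 with h | h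
          · rw [← ht', ht'i] at h
            refine absurd ?_ hnc
            have h2 : hb.t = t' := by
              rw [← ht'i]
              refine eq_inv_of_mul_eq_one_left ?_
              exact mul_left_cancel (a := t') (by rw [← mul_assoc, h, mul_one])
            rw [h2]
          · rwa [← ht', ht'i] at h
        have hrt : r * hb.t * r⁻¹ = t' := by
          rw [hr, mul_inv_rev, ht'i, hti]
          calc hb.t * t' * hb.t * (t' * hb.t) = hb.t * (t' * hb.t * t') * hb.t := by group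
            _ = (hb.t * hb.t) * t' * (hb.t * hb.t) := by rw [hbraid]; simp only [mul_assoc]
            _ = t' := by rw [ht2, one_mul, mul_one]
        obtain ⟨δ, hδ, hδe⟩ := hb.extend C.hS C.hF
          (mul_mem (inv_mem (hr ▸ mul_mem hb.t_aut ht'F)) ha : r⁻¹ * a ∈ F.autGroup R) (by
          rw [show r⁻¹ * a * hb.t * (r⁻¹ * a)⁻¹ = r⁻¹ * t' * r by
            simp only [ht', mul_inv_rev, inv_inv, mul_assoc], ← hrt,
            show r⁻¹ * (r * hb.t * r⁻¹) * r = hb.t by group]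
          exact mem_zpowers _)
        have hnk : (r⁻¹ * a) k = k := by
          apply Subtype.ext
          rw [← CfsgLib.Fusion.autFun_coe, ← hδe k k.2, hδZ δ hδ k (hb.le k.2) hkv]
        have : a k = r ((r⁻¹ * a) k) := by rw [← MulAut.mul_apply, mul_inv_cancel_left]
        rw [this, hnk, hr, MulAut.mul_apply, hKfix hb hg hn k hk1 hk2 a ha, hk1]
    rw [autFun_apply a hx, hxk, _root_.map_mul, _root_.map_mul, _root_.map_pow, _root_.map_pow,
      hak, show a (g hb.zz) = (a * g) hb.zz from rfl,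
      show x = ((g hb.zz ^ i * hb.zz ^ j * k : R) : Ω) from congrArg Subtype.val hxk,
      ← InvMemClass.coe_inv, ← Subgroup.coe_mul,
      show (g hb.zz ^ i * hb.zz ^ j * k)⁻¹ * ((a * g) hb.zz ^ i * a hb.zz ^ j * k) =
        (g hb.zz ^ i)⁻¹ * (hb.zz ^ j)⁻¹ * ((a * g) hb.zz ^ i * a hb.zz ^ j) by
          rw [mul_inv_rev, mul_inv_rev, mul_comm _ k, mul_comm k⁻¹, mul_assoc,
            inv_mul_cancel_left, mul_comm (hb.zz ^ j)⁻¹],
      Subgroup.coe_mul, Subgroup.coe_mul, InvMemClass.coe_inv, InvMemClass.coe_inv,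
      Subgroup.coe_mul, SubgroupClass.coe_pow, SubgroupClass.coe_pow, SubgroupClass.coe_pow,
      SubgroupClass.coe_pow]
    exact mul_mem (mul_mem (inv_mem (pow_mem hgU i)) (inv_mem (pow_mem hzz j)))
      (mul_mem (pow_mem (hcU _ (mul_mem ha hg)) i) (pow_mem (hcU a ha) j))
  have hSU : ∀ δ ∈ F.autGroup S, ∀ x ∈ S, x⁻¹ * autFun δ x ∈ U := by
    intro δ hδ
    have hm := (mem_autGroup_iff le_rfl).1 hδ
    have hbu : ∀ {R : Subgroup Ω} {w : Ω} (hb : Base F 2 R z w) {g : MulAut R},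
        g ∈ F.autGroup R → g * hb.t * g⁻¹ ∉ zpowers hb.t → ((g hb.zz : R) : Ω) ∈ U →
        autFun δ ((g hb.zz : R) : Ω) ∈ U := by
      intro R w hb g hg hn hgU
      obtain ⟨b, hbF, hbv⟩ := (hm.restrict hb.le).exists_aut (eq_of_le_of_card_le hb.le
        (img_le_iff.2 (hinvR hb hg hn δ hδ)) (hm.restrict hb.le).card_img.ge)
      rw [← hbv _ (g hb.zz).2, CfsgLib.Fusion.autFun_coe, ← MulAut.mul_apply]
      rcases hcent hb hg hn (mul_mem hbF hg) with h | h | h <;> rw [h]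
      · exact hzU
      · exact hgU
      · obtain ⟨n, hn'⟩ := hb.t_shift (g hb.zz)
        rw [hn', Subgroup.coe_mul, SubgroupClass.coe_pow]
        exact mul_mem hgU (pow_mem hzU n)
    have h1 := hbu hb₁ hg₁ hn₁ hu₁U
    have h2 := hbu hb₂ hg₂ hn₂ hu₂U
    intro x hx
    obtain ⟨e, he, hev, i, j, rfl⟩ := C.span u₁ hu₁.1 u₂ hu₂.1 hu12 x hx
    rw [hm.map_mul (S.mul_mem he (S.pow_mem hu₁.1 i)) (S.pow_mem hu₂.1 j),
      hm.map_mul he (S.pow_mem hu₁.1 i), hδZ δ hδ e he hev,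
      CfsgLib.GenExtraspecial.map_pow hm hu₁.1, CfsgLib.GenExtraspecial.map_pow hm hu₂.1]
    have heq : (e * u₁ ^ i * u₂ ^ j)⁻¹ * (e * autFun δ u₁ ^ i * autFun δ u₂ ^ j) =
        (u₁ ^ i * u₂ ^ j)⁻¹ * (autFun δ u₁ ^ i * autFun δ u₂ ^ j) := by group
    rw [heq]
    exact mul_mem (inv_mem (mul_mem (pow_mem hu₁U i) (pow_mem hu₂U j)))
      (mul_mem (pow_mem h1 i) (pow_mem h2 j))
  have hmove : ∀ {P : Subgroup Ω} {f : Ω → Ω}, Map F P f → ∀ x ∈ P, x⁻¹ * f x ∈ U := by
    intro P f hf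
    let Pr : Subgroup Ω → (Ω → Ω) → Prop := fun R g => ∀ x ∈ R, x⁻¹ * g x ∈ U
    have hPr : Propagates F Pr := {
      congr := fun h he x hx => by rw [← he x hx]; exact h x hx
      comp := fun {P R g g'} _ _ h h' hmem x hx => by
        simpa [mul_assoc] using U.mul_mem (h x hx) (h' (g x) (hmem x hx))
      inv := fun {P g g'} hg _ hgg h y hy => by
        obtain ⟨x, hx, rfl⟩ := hg.mem_img.mp hy
        rw [hgg x hx]
        simpa using U.inv_mem (h x hx)
      id := fun _ x _ => by rw [inv_mul_cancel]; exact U.one_mem }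
    refine alperin C.hS C.hF hPr (fun R hR a ha => ?_) hf
    rcases hR with rfl | hR
    · exact hSU a ha
    · rcases hessR R hR with rfl | rfl
      · exact hessU hb₁ hg₁ hn₁ hu₁U hR a ha
      · exact hessU hb₂ hg₂ hn₂ hu₂U hR a ha
  have hSleU : S ≤ U := by
    rw [← hhyp, FusionSystem.hyperfocalSubgroup, closure_le]
    rintro _ ⟨P, α, x, hP, -, rfl⟩
    have := hmove ((mem_autGroup_iff hP).1 α.2) x x.2
    rwa [CfsgLib.Fusion.autFun_coe] at this
  -- so `R₁` is generated by `u₁` and `z`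
  have hM : ∀ e ∈ R₁, e ∈ zpowers u₁ ⊔ zpowers z := by
    intro e he
    set M := zpowers u₁ ⊔ zpowers z with hM'
    have hMR : M ≤ R₁ := sup_le (zpowers_le.2 (g₁ hb₁.zz).2) (zpowers_le.2 hb₁.zE)
    haveI := finite_of_le (hMR.trans hb₁.le)
    have hn : zpowers u₂ ≤ normalizer (M : Set Ω) :=
      zpowers_le.2 (mem_normalizer_of_conj_mem fun q hq => by
        have h1 : u₂ * q * u₂⁻¹ = (u₂ * q * u₂⁻¹ * q⁻¹) * q := by group
        rw [h1]
        exact mul_mem (zpowers_le.2 (mem_sup_right (mem_zpowers z))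
          (C.comm u₂ hu₂.1 q (hb₁.le (hMR hq)))) hq)
    have heU := hSleU (hb₁.le he)
    rw [hU, ← SetLike.mem_coe, coe_mul_of_right_le_normalizer_left _ _ hn] at heU
    obtain ⟨q, hq, r, hr, rfl⟩ := Set.mem_mul.1 heU
    obtain ⟨n, rfl⟩ := natexp (show u₂ ^ 2 = 1 by rw [pow_two]; exact hu₂.2.1) hr
    rcases Nat.even_or_odd n with ⟨m, rfl⟩ | ⟨m, rfl⟩
    · rwa [← two_mul, pow_mul, pow_two, hu₂.2.1, one_pow, mul_one]
    · rw [pow_add, pow_mul, pow_two, hu₂.2.1, one_pow, one_mul, pow_one] at he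
      exact absurd ((hR₁c u₂ hu₂.1).2 (by
        simpa using mul_mem (inv_mem (hMR hq)) he)).symm hu12
  have hcR := hM c (hZess hR₁ c hcS hc)
  have hzy : zpowers z ≤ normalizer ((zpowers u₁ : Subgroup Ω) : Set Ω) :=
    zpowers_le.2 (centralizer_le_normalizer _ (fun e he => by
      obtain ⟨i, rfl⟩ := mem_zpowers_iff.1 he
      exact ((C.zc u₁ hu₁.1).zpow_right i).symm.eq))
  rw [← SetLike.mem_coe, coe_mul_of_right_le_normalizer_left _ _ hzy] at hcR
  obtain ⟨q, hq, r, hr, rfl⟩ := Set.mem_mul.1 hcR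
  obtain ⟨n, rfl⟩ := natexp (show u₁ ^ 2 = 1 by rw [pow_two]; exact hu₁.2.1) hq
  rcases Nat.even_or_odd n with ⟨m, rfl⟩ | ⟨m, rfl⟩
  · rwa [← two_mul, pow_mul, pow_two, hu₁.2.1, one_pow, one_mul]
  · exfalso
    refine hu₁.2.2 fun v hv => ?_
    obtain ⟨i, rfl⟩ := mem_zpowers_iff.1 hr
    have h1 := hc v hv
    rw [pow_add, pow_mul, pow_two, hu₁.2.1, one_pow, one_mul, pow_one] at h1
    have := h1.mul_left ((C.zc v hv).zpow_left i).inv_left
    rwa [mul_inv_cancel_right] at this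

theorem ctx_of_index (hS : IsPGroup p S) (hF : F.IsSaturated p) (hS1 : S ≠ ⊥)
    (hcore : F.core = ⊥) (hZ : (Subgroup.center ↥S).index ≤ p ^ 2) :
    ∃ z, Ctx F p z := by
  have hnab : ¬ ∀ a b : S, a * b = b * a := by
    intro h
    have hsc : F.StronglyClosed S :=
      stronglyClosed_iff.2 ⟨le_rfl, fun R f _ hf x hx => hf.apply_mem hx⟩
    have := isNormal_of_abelian_stronglyClosed hS hF hsc ⟨⟨h⟩⟩
    exact hS1 (le_bot_iff.1 (hcore ▸ le_sSup this))
  set Z := Subgroup.center ↥S with hZdef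
  have hSp : IsPGroup p (↥S ⧸ Z) := hS.to_quotient Z
  obtain ⟨n, hn⟩ := IsPGroup.iff_card.1 hSp
  have hidx : Z.index = p ^ n := by rw [index_eq_card]; exact hn
  have hncyc : ¬ IsCyclic (↥S ⧸ Z) := fun h => hnab
    (commutative_of_cyclic_center_quotient (QuotientGroup.mk' Z)
      (by rw [QuotientGroup.ker_mk']))
  have hn2 : n = 2 := by
    have h2 : n ≤ 2 := by
      rw [hidx] at hZ
      exact (Nat.pow_le_pow_iff_right hp.out.one_lt).1 hZ
    interval_cases n
    · exact absurd (by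
        haveI : Subsingleton (↥S ⧸ Z) := by
          rw [← Finite.card_le_one_iff_subsingleton, hn, pow_zero]
        infer_instance) hncyc
    · exact absurd (isCyclic_of_prime_card (p := p) (by rw [hn, pow_one])) hncyc
    · rfl
  subst hn2
  letI qc : CommGroup (↥S ⧸ Z) := IsPGroup.commGroupOfCardEqPrimeSq hn
  have hqp : ∀ q : ↥S ⧸ Z, q ^ p = 1 := by
    intro q
    have hd : orderOf q ∣ p ^ 2 := hn ▸ orderOf_dvd_natCard q
    obtain ⟨i, hi, hio⟩ := (Nat.dvd_prime_pow hp.out).1 hd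
    interval_cases i
    · rw [orderOf_eq_one_iff.1 (show orderOf q = 1 by simpa using hio), one_pow]
    · rw [← pow_one p, ← hio, pow_orderOf_eq_one]
    · exact absurd (isCyclic_of_orderOf_eq_card q (by rw [hio, hn])) hncyc
  have hpowc : ∀ x : S, x ^ p ∈ Z := fun x => by
    rw [← QuotientGroup.eq_one_iff, QuotientGroup.mk_pow]
    exact hqp _
  have hcen : ∀ {x : S}, x ∈ Z → ∀ v : S, Commute x v := fun {x} hx v =>
    (Subgroup.mem_center_iff.1 hx v).symm
  have hcc : ∀ a b : S, ⁅a, b⁆ ∈ Z := fun a b => by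
    rw [← QuotientGroup.eq_one_iff]
    have h : ((⁅a, b⁆ : S) : ↥S ⧸ Z) = ⁅(a : ↥S ⧸ Z), (b : ↥S ⧸ Z)⁆ :=
      map_commutatorElement (QuotientGroup.mk' Z) a b
    rw [h, commutatorElement_eq_one_iff_commute]
    exact Commute.all _ _
  have hgen : ∀ a b : S, a * b ≠ b * a → ∀ s : S, ∃ c ∈ Z, ∃ i j : ℕ, s = c * a ^ i * b ^ j := by
    intro a b hab s
    set H : Subgroup (↥S ⧸ Z) :=
      zpowers (a : ↥S ⧸ Z) ⊔ zpowers (b : ↥S ⧸ Z) with hH
    have ha1 : (a : ↥S ⧸ Z) ≠ 1 := fun h =>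
      hab (hcen ((QuotientGroup.eq_one_iff a).1 h) b).eq
    have hb : (b : ↥S ⧸ Z) ∉ zpowers (a : ↥S ⧸ Z) := by
      rintro h
      obtain ⟨i, hi⟩ := mem_zpowers_iff.1 h
      rw [← QuotientGroup.mk_zpow, QuotientGroup.eq] at hi
      refine hab ?_
      have h1 : Commute a ((a ^ i)⁻¹ * b) := (hcen hi a).symm
      have h2 := ((Commute.refl a).zpow_right i).mul_right h1
      rwa [mul_inv_cancel_left] at h2
    have hHtop : H = ⊤ := by
      have hd := Subgroup.card_subgroup_dvd_card H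
      rw [hn] at hd
      obtain ⟨i, hi, hic⟩ := (Nat.dvd_prime_pow hp.out).1 hd
      have hlt : zpowers (a : ↥S ⧸ Z) < H :=
        lt_of_le_of_ne le_sup_left fun e => hb (e ▸ mem_sup_right (mem_zpowers _))
      have hca : Nat.card (zpowers (a : ↥S ⧸ Z)) = p := by
        rw [Nat.card_zpowers]; exact orderOf_eq_prime (hqp _) ha1
      have h1 : p < Nat.card H := by
        refine lt_of_le_of_ne (hca ▸ Subgroup.card_le_of_le hlt.le) fun e => hlt.ne
          (Subgroup.eq_of_le_of_card_ge hlt.le (by rw [← e, hca]))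
      interval_cases i
      · rw [hic] at h1; simp only [pow_zero] at h1; have := hp.out.one_lt; omega
      · rw [hic, pow_one] at h1; exact absurd h1 (lt_irrefl _)
      · exact Subgroup.eq_top_of_card_eq H (hic.trans hn.symm)
    have hmem : (s : ↥S ⧸ Z) ∈ H := hHtop ▸ mem_top _
    obtain ⟨q, hq, r, hr, hqr⟩ := Subgroup.mem_sup.1 hmem
    obtain ⟨i, rfl⟩ := natexp (hqp _) hq
    obtain ⟨j, rfl⟩ := natexp (hqp _) hr
    refine ⟨s * (a ^ i * b ^ j)⁻¹, ?_, i, j, by group⟩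
    rw [← QuotientGroup.eq_one_iff, QuotientGroup.mk_mul, QuotientGroup.mk_inv,
      QuotientGroup.mk_mul, QuotientGroup.mk_pow, QuotientGroup.mk_pow, hqr, mul_inv_cancel]
  push Not at hnab
  obtain ⟨a₀, b₀, hab₀⟩ := hnab
  set z₀ : S := ⁅a₀, b₀⁆ with hz₀
  have hz₀1 : z₀ ≠ 1 := fun h =>
    hab₀ (commutatorElement_eq_one_iff_mul_comm.1 h)
  have hzc₀ : ∀ v : S, Commute z₀ v := hcen (hcc a₀ b₀)
  -- commutators are biadditive
  have hmulr : ∀ x y y' : S, ⁅x, y * y'⁆ = ⁅x, y⁆ * ⁅x, y'⁆ := fun x y y' => by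
    have h1 : ⁅x, y * y'⁆ = ⁅x, y⁆ * (y * ⁅x, y'⁆ * y⁻¹) := by
      simp only [commutatorElement_def]; group
    rw [h1, ← (hcen (hcc x y') y).eq, mul_inv_cancel_right]
  have hz₀p : z₀ ^ p = 1 := by
    have hpow : ∀ n : ℕ, ⁅a₀, b₀ ^ n⁆ = z₀ ^ n := by
      intro n
      induction n with
      | zero => simp
      | succ n ih => rw [pow_succ, hmulr, ih, pow_succ]
    rw [← hpow, commutatorElement_eq_one_iff_commute]
    exact (hcen (hpowc b₀) a₀).symm
  have hsub : ∀ x : S, ∀ M : Subgroup S, z₀ ∈ M → ⁅x, a₀⁆ ∈ M → ⁅x, b₀⁆ ∈ M → ∀ y, ⁅x, y⁆ ∈ M := by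
    intro x M _ h1 h2 y
    obtain ⟨c, hc, i, j, rfl⟩ := hgen a₀ b₀ hab₀ y
    let K : Subgroup S :=
      { carrier := {y | ⁅x, y⁆ ∈ M}
        one_mem' := by simp
        mul_mem' := fun {y y'} hy hy' => by
          show ⁅x, y * y'⁆ ∈ M
          rw [hmulr]; exact mul_mem hy hy'
        inv_mem' := fun {y} hy => by
          show ⁅x, y⁻¹⁆ ∈ M
          have h := hmulr x y y⁻¹
          rw [mul_inv_cancel, commutatorElement_one_right] at h
          rw [eq_inv_of_mul_eq_one_right h.symm]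
          exact inv_mem hy }
    have hcK : c ∈ K := by
      show ⁅x, c⁆ ∈ M
      rw [commutatorElement_eq_one_iff_commute.2 (hcen hc x).symm]
      exact one_mem _
    exact K.mul_mem (K.mul_mem hcK (K.pow_mem h1 i)) (K.pow_mem h2 j)
  have hall : ∀ x y : S, ⁅x, y⁆ ∈ zpowers z₀ := by
    have ha : ∀ y, ⁅a₀, y⁆ ∈ zpowers z₀ :=
      hsub a₀ _ (mem_zpowers _) (by simp) (mem_zpowers _)
    have hb : ∀ y, ⁅b₀, y⁆ ∈ zpowers z₀ := hsub b₀ _ (mem_zpowers _)
      (by rw [← commutatorElement_inv]; exact inv_mem (mem_zpowers _)) (by simp)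
    intro x y
    refine hsub x _ (mem_zpowers _) ?_ ?_ y
    · rw [← commutatorElement_inv]; exact inv_mem (ha x)
    · rw [← commutatorElement_inv]; exact inv_mem (hb x)
  have hzS : (z₀ : Ω) ∈ S := z₀.2
  have hcoe : ∀ x y : S, ((⁅x, y⁆ : S) : Ω) = (x : Ω) * y * (x : Ω)⁻¹ * (y : Ω)⁻¹ := fun x y => by
    simp [commutatorElement_def]
  refine ⟨z₀, { hS := hS, hF := hF, core := hcore, zS := hzS, z1 := fun h => hz₀1 (Subtype.ext h)
                zp := congrArg Subtype.val hz₀p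
                zc := fun v hv => congrArg Subtype.val (hzc₀ ⟨v, hv⟩).eq
                comm := fun x hx y hy => ?_
                pow := fun x hx v hv => congrArg Subtype.val (hcen (hpowc ⟨x, hx⟩) ⟨v, hv⟩).eq
                ab := ⟨a₀, a₀.2, b₀, b₀.2, (hcoe a₀ b₀).symm⟩
                span := fun x hx y hy hxy s hs => ?_
                maxab := fun R hR hZR hRn hne => ?_ }⟩
  · obtain ⟨i, hi⟩ := mem_zpowers_iff.1 (hall ⟨x, hx⟩ ⟨y, hy⟩)
    refine mem_zpowers_iff.2 ⟨i, ?_⟩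
    rw [← hcoe ⟨x, hx⟩ ⟨y, hy⟩, ← hi, SubgroupClass.coe_zpow]
  · obtain ⟨c, hc, i, j, hs'⟩ := hgen ⟨x, hx⟩ ⟨y, hy⟩
      (fun h => hxy (congrArg Subtype.val h)) ⟨s, hs⟩
    exact ⟨c, c.2, fun v hv => congrArg Subtype.val (hcen hc ⟨v, hv⟩).eq, i, j, by
      simpa using congrArg Subtype.val hs'⟩
  · obtain ⟨x, hx, v, hv, hxv⟩ := hRn
    set R₀ := R.subgroupOf S with hR₀
    have hZR₀ : Z ≤ R₀ := fun c hc => hZR c c.2 fun v hv => congrArg Subtype.val (hcen hc ⟨v, hv⟩).eq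
    have hne1 : R₀ ≠ ⊤ := fun h => hne (le_antisymm hR (subgroupOf_eq_top.1 h))
    have hd : R₀.index ∣ p ^ 2 := hidx ▸ Subgroup.index_dvd_of_le hZR₀
    obtain ⟨i, hi, hio⟩ := (Nat.dvd_prime_pow hp.out).1 hd
    have hlt : Z.index ≠ R₀.index := fun h => by
      have heq : R₀ = Z := by
        have h1 := Subgroup.relIndex_mul_index hZR₀
        rw [h] at h1
        have h2 : Z.relIndex R₀ = 1 := Nat.eq_of_mul_eq_mul_right
          (Nat.pos_of_ne_zero Subgroup.index_ne_zero_of_finite) (h1.trans (one_mul _).symm)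
        exact le_antisymm (Subgroup.relIndex_eq_one.1 h2) hZR₀
      have hxZ : (⟨x, hR hx⟩ : S) ∈ Z := heq ▸ (show (⟨x, hR hx⟩ : S) ∈ R₀ from hx)
      exact hxv (congrArg Subtype.val (hcen hxZ ⟨v, hv⟩).eq)
    have hi1 : R₀.index = p := by
      interval_cases i
      · exact absurd (Subgroup.index_eq_one.1 (by simpa using hio)) hne1
      · simpa using hio
      · exact absurd (hidx.trans hio.symm) hlt
    refine ⟨hi1, fun q hq r hr => ?_⟩
    by_contra hqr
    refine hne (le_antisymm hR fun s hs => ?_)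
    obtain ⟨c, hc, i', j', hs'⟩ := hgen ⟨q, hR hq⟩ ⟨r, hR hr⟩
      (fun h => hqr (congrArg Subtype.val h)) ⟨s, hs⟩
    have : s = (c : Ω) * q ^ i' * r ^ j' := by simpa using congrArg Subtype.val hs'
    rw [this]
    exact mul_mem (mul_mem (hZR c c.2 fun v hv => congrArg Subtype.val (hcen hc ⟨v, hv⟩).eq)
      (pow_mem hq _)) (pow_mem hr _)

theorem main (hS : IsPGroup p S) (hF : F.IsSaturated p) (hS1 : S ≠ ⊥) (hcore : F.core = ⊥)
    (hhyp : F.hyperfocalSubgroup p = S) (hZ : (Subgroup.center ↥S).index ≤ p ^ 2) :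
    Cfsg.IsExtraspecial p S ∧ Nat.card S = p ^ 3 ∧ (p ≠ 2 → Monoid.exponent S = p) ∧
      (p = 2 → Nonempty (↥S ≃* DihedralGroup 4)) := by
  obtain ⟨z, C⟩ := ctx_of_index hS hF hS1 hcore hZ
  obtain ⟨R, hR⟩ := C.exists_essential
  obtain ⟨w, -, hwR, -, hb, g, hg, hn⟩ := C.exists_base hR
  refine finish C hb hwR hg hn fun c hcS hc => ?_
  rcases eq_or_ne p 2 with rfl | hp2
  · exact centre_two C hhyp hcS hc
  · exact centre_odd C hp2 hcS hc

end CfsgLib.CentreIndexSq
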