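import Cfsg.Agent.Lib.FusionExtraspecialInside
import Cfsg.Agent.Lib.FusionCentreIndexSq

/-!
# An extraspecial subgroup of index `p` contains the centre
-/

set_option autoImplicit false
set_option linter.style.haveILetI false

namespace CfsgLib.ExtraspecialCentre

open Cfsg Cfsg.FusionSystem CfsgLib.Fusion
open scoped commutatorElement

universe u

variable {Ω : Type u} [Group Ω] {S : Subgroup Ω} [Finite S] {p : ℕ} [hpf : Fact p.Prime] {F : FusionSystem S}

theorem inv_derived (hS : IsPGroup p S) (Zq : Subgroup Ω) (hZc : Nat.card Zq = p)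
    (hZmem : ∀ z ∈ Zq, z ∈ S ∧ ∀ q ∈ S, q * z = z * q) (hcm : ∀ a ∈ S, ∀ b ∈ S, ⁅a, b⁆ ∈ Zq)
    {E : Subgroup Ω} (hES : E ≤ S) (hZE : Zq ≤ E) {a b : Ω} (ha : a ∈ E) (hb : b ∈ E) (hne : a * b ≠ b * a) :
    ∀ β ∈ F.autGroup E, ∀ x ∈ E, x ∈ Zq → autFun β x ∈ Zq := by
  have hp := (Fact.out : p.Prime)
  haveI := finite_of_le hES
  have hc : ⁅a, b⁆ ∈ Zq := hcm a (hES ha) b (hES hb)
  have hc1 : ⁅a, b⁆ ≠ 1 := fun e => hne (commutatorElement_eq_one_iff_mul_comm.1 e)
  have hgen : Subgroup.zpowers ⁅a, b⁆ = Zq := by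
    haveI : Finite Zq := finite_of_le (hZE.trans hES)
    refine Subgroup.eq_of_le_of_card_ge (Subgroup.zpowers_le.2 hc) ?_
    have h1 := Subgroup.card_dvd_of_le (Subgroup.zpowers_le.2 hc)
    rw [hZc] at h1 ⊢
    rcases (Nat.dvd_prime hp).1 h1 with e | e
    · rw [Nat.card_zpowers, orderOf_eq_one_iff] at e; exact absurd e hc1
    · exact e.ge
  intro β hβ x hx hxZ
  rw [← hgen] at hxZ
  obtain ⟨k, rfl⟩ := Subgroup.mem_zpowers_iff.1 hxZ
  have hcE : ⁅a, b⁆ ∈ E := hZE hc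
  rw [autFun_apply β hx, show (⟨⁅a, b⁆ ^ k, hx⟩ : E) = ⁅(⟨a, ha⟩ : E), (⟨b, hb⟩ : E)⁆ ^ k from rfl,
    _root_.map_zpow, map_commutatorElement, SubgroupClass.coe_zpow]
  exact zpow_mem (hcm _ (hES (β ⟨a, ha⟩).2) _ (hES (β ⟨b, hb⟩).2)) k

theorem inv_abelian (hS : IsPGroup p S) (hF : F.IsSaturated p) (h6 : p ^ 6 ≤ Nat.card S)
    (Zq : Subgroup Ω) (hZc : Nat.card Zq = p) (hcent : Nat.card (Subgroup.center S) ≤ p ^ 2)
    (hZmem : ∀ z ∈ Zq, z ∈ S ∧ ∀ q ∈ S, q * z = z * q) (hcm : ∀ a ∈ S, ∀ b ∈ S, ⁅a, b⁆ ∈ Zq)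
    {E : Subgroup Ω} (hE : F.IsEssential p E) (hab : ∀ a ∈ E, ∀ b ∈ E, a * b = b * a) :
    ∀ β ∈ F.autGroup E, ∀ x ∈ E, x ∈ Zq → autFun β x ∈ Zq := by
  classical
  have hp := (Fact.out : p.Prime)
  have hES := hE.1.1
  haveI := finite_of_le hES
  have hcen : centralizerIn S E ≤ E := hE.1.2 E (isConj_refl F hES)
  have hZE : Zq ≤ E := fun z hz => hcen ⟨(hZmem z hz).1,
    Subgroup.mem_centralizer_iff.2 fun e he => (hZmem z hz).2 e (hES he)⟩
  have hQE : ∀ q ∈ S, q ∈ Subgroup.normalizer (E : Set Ω) := fun q hq =>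
    mem_normalizer_of_conj_mem fun e he => by
      rw [show q * e * q⁻¹ = ⁅q, e⁆ * e by simp [commutatorElement_def]]
      exact E.mul_mem (hZE (hcm q hq e (hES he))) he
  haveI := finite_autGroup F hES
  -- the abelian case
  have hbig : Nat.card E * p < Nat.card S := by
    obtain ⟨i, hi⟩ := IsPGroup.iff_card.mp (hS.to_le hES)
    obtain ⟨m, hm⟩ := IsPGroup.iff_card.mp hS
    rw [hm, Nat.pow_le_pow_iff_right hp.one_lt] at h6
    have hle := Subgroup.card_le_of_le hES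
    rw [hi, hm, Nat.pow_le_pow_iff_right hp.one_lt] at hle
    rw [hi, hm, ← pow_succ, Nat.pow_lt_pow_iff_right hp.one_lt]
    by_contra hlt
    -- an abelian subgroup of index at most `p` is too big
    obtain ⟨q, hq, hqgen⟩ : ∃ q ∈ S, S ≤ E ⊔ Subgroup.zpowers q := by
      rcases eq_or_ne E S with e | e
      · exact ⟨1, S.one_mem, e.ge.trans le_sup_left⟩
      obtain ⟨q, hq, hqE⟩ := SetLike.exists_of_lt (lt_of_le_of_ne hES e)
      haveI := finite_of_le (sup_le hES (Subgroup.zpowers_le.2 hq))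
      obtain ⟨k, hk⟩ := IsPGroup.iff_card.mp (hS.to_le (sup_le hES (Subgroup.zpowers_le.2 hq)))
      have hlt2 : E < E ⊔ Subgroup.zpowers q := lt_of_le_of_ne le_sup_left fun e' =>
        hqE (e'.ge (Subgroup.mem_sup_right (Subgroup.mem_zpowers q)))
      have h1 := card_lt_of_lt (sup_le hES (Subgroup.zpowers_le.2 hq)) hlt2
      rw [hi, hk, Nat.pow_lt_pow_iff_right hp.one_lt] at h1
      refine ⟨q, hq, (Subgroup.eq_of_le_of_card_ge (sup_le hES (Subgroup.zpowers_le.2 hq)) ?_).ge⟩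
      rw [hm, hk]
      exact Nat.pow_le_pow_right hp.pos (by omega)
    let f : E →* Zq :=
      { toFun := fun e => ⟨⁅q, (e : Ω)⁆, hcm q hq _ (hES e.2)⟩
        map_one' := Subtype.ext (commutatorElement_one_right q)
        map_mul' := fun a b => Subtype.ext <| by
          show ⁅q, (a : Ω) * b⁆ = ⁅q, (a : Ω)⁆ * ⁅q, (b : Ω)⁆
          rw [show ⁅q, (a : Ω) * b⁆ = ⁅q, (a : Ω)⁆ * ((a : Ω) * ⁅q, (b : Ω)⁆ * (a : Ω)⁻¹) by
            simp only [commutatorElement_def, mul_inv_rev]; group]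
          rw [(hZmem _ (hcm q hq _ (hES b.2))).2 _ (hES a.2), mul_inv_cancel_right] }
    have hker : f.ker ≤ ((Subgroup.center S).map S.subtype).subgroupOf E := by
      intro e he
      have h1 : ⁅q, (e : Ω)⁆ = 1 := congrArg Subtype.val he
      have hle' : S ≤ Subgroup.centralizer ({(e : Ω)} : Set Ω) := by
        refine hqgen.trans (sup_le (fun x hx => ?_) (Subgroup.zpowers_le.2 ?_))
        · exact Subgroup.mem_centralizer_singleton_iff.2 (hab x hx e e.2)
        · exact Subgroup.mem_centralizer_singleton_iff.2 (commutatorElement_eq_one_iff_mul_comm.1 h1)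
      refine Subgroup.mem_subgroupOf.2 ⟨⟨e, hES e.2⟩, Subgroup.mem_center_iff.2 fun x => Subtype.ext ?_, rfl⟩
      exact Subgroup.mem_centralizer_singleton_iff.1 (hle' x.2)
    have h2 : Nat.card E ≤ p ^ 3 := by
      haveI : Finite Zq := finite_of_le (hZE.trans hES)
      have hCE : (Subgroup.center S).map S.subtype ≤ E := by
        rintro _ ⟨c, hc, rfl⟩
        exact hcen ⟨c.2, Subgroup.mem_centralizer_iff.2 fun e he =>
          congrArg Subtype.val (Subgroup.mem_center_iff.1 hc ⟨e, hES he⟩)⟩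
      rw [← f.ker.card_mul_index, Subgroup.index_ker, pow_succ]
      refine Nat.mul_le_mul ((Subgroup.card_le_of_le hker).trans ?_) ?_
      · rw [Nat.card_congr (Subgroup.subgroupOfEquivOfLe hCE).toEquiv,
          Subgroup.card_map_of_injective S.subtype_injective]
        exact hcent
      · exact (Nat.le_of_dvd Nat.card_pos (Subgroup.card_subgroup_dvd_card _)).trans_eq hZc
    rw [hi, Nat.pow_le_pow_iff_right hp.one_lt] at h2
    omega
  have hexq : ∀ w ∈ E, ∃ q ∈ S, q ∉ E ∧ q * w = w * q := by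
    intro w hw
    let f : S →* Zq :=
      { toFun := fun q => ⟨⁅(q : Ω), w⁆, hcm _ q.2 w (hES hw)⟩
        map_one' := Subtype.ext (commutatorElement_one_left w)
        map_mul' := fun a b => Subtype.ext <| by
          show ⁅(a : Ω) * b, w⁆ = ⁅(a : Ω), w⁆ * ⁅(b : Ω), w⁆
          rw [show ⁅(a : Ω) * b, w⁆ = (a : Ω) * ⁅(b : Ω), w⁆ * (a : Ω)⁻¹ * ⁅(a : Ω), w⁆ by
            simp only [commutatorElement_def, mul_inv_rev]; group,
            (hZmem _ (hcm _ b.2 w (hES hw))).2 _ a.2, mul_inv_cancel_right]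
          exact ((hZmem _ (hcm _ b.2 w (hES hw))).2 _ (hZmem _ (hcm _ a.2 w (hES hw))).1).symm }
    haveI : Finite Zq := finite_of_le (hZE.trans hES)
    by_contra hc
    push Not at hc
    have h1 : Nat.card f.ker ≤ Nat.card E := by
      rw [← Nat.card_congr (Subgroup.subgroupOfEquivOfLe hES).toEquiv]
      refine Subgroup.card_le_of_le fun q hq => Subgroup.mem_subgroupOf.2 ?_
      by_contra hqE
      exact hc q q.2 hqE (commutatorElement_eq_one_iff_mul_comm.1 (congrArg Subtype.val hq))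
    have h2 : Nat.card S ≤ Nat.card E * p := by
      rw [← f.ker.card_mul_index, Subgroup.index_ker]
      exact Nat.mul_le_mul h1 ((Nat.le_of_dvd Nat.card_pos (Subgroup.card_subgroup_dvd_card _)).trans_eq hZc)
    omega
  obtain ⟨-, -, hn, X, hX⟩ := id hE
  set π := QuotientGroup.mk' ((Inn E).subgroupOf (F.autGroup E))
  have hπ : ∀ γ, π γ = 1 → γ = 1 := fun γ hγ => by
    rw [QuotientGroup.mk'_apply, QuotientGroup.eq_one_iff, Subgroup.mem_subgroupOf] at hγ
    obtain ⟨g, hg, he⟩ := mem_inn_iff.1 hγ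
    refine Subtype.ext (autFun_inj fun x hx => ?_)
    rw [he x hx, Subgroup.coe_one, autFun_one hx, hab g hg x hx, mul_inv_cancel_right]
  obtain ⟨T0, hT0, -⟩ := sylow_le_of_stronglyPEmbedded hX
  have hBp : IsPGroup p (((autInducedBy S E).subgroupOf (F.autGroup E)).map π) :=
    ((isPGroup_autInducedBy hS).of_equiv
      (Subgroup.subgroupOfEquivOfLe (autInducedBy_le_autGroup hES)).symm).map π
  obtain ⟨g0, hg0⟩ := exists_conj_mem_of_pGroup hBp T0.2 T0.not_dvd_index
  let ψ := (MulAut.conj g0).toMonoidHom.comp π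
  have hψ1 : ∀ γ, ψ γ = 1 → γ = 1 := fun γ hγ => hπ γ (by
    have : g0 * π γ * g0⁻¹ = 1 := hγ
    rwa [conj_eq_one_iff] at this)
  have hcx : ∀ q (hq : q ∈ S), q ∉ E → ∃ t : F.autGroup E, ψ t ∈ X ∧ ψ t ≠ 1 ∧
      IsPGroup p (Subgroup.zpowers (ψ t)) ∧ ∀ x ∈ E, autFun (t : MulAut E) x = ⁅q, x⁆ * x := by
    intro q hq hqE
    have hm : normalizerInToAut S E ⟨q, hq, hQE q hq⟩ ∈ autInducedBy S E := by
      rw [← range_normalizerInToAut]; exact ⟨_, rfl⟩
    have hv : ∀ x ∈ E, autFun (normalizerInToAut S E ⟨q, hq, hQE q hq⟩) x = q * x * q⁻¹ :=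
      fun x hx => autFun_normalizerInToAut _ hx
    set t : F.autGroup E := ⟨_, autInducedBy_le_autGroup hES hm⟩
    have htX : π t ∈ ((autInducedBy S E).subgroupOf (F.autGroup E)).map π :=
      Subgroup.mem_map_of_mem π (Subgroup.mem_subgroupOf.2 hm)
    refine ⟨t, hT0 (hg0 _ htX), fun h1 => hqE (hcen ⟨hq, Subgroup.mem_centralizer_iff.2 fun x hx => ?_⟩),
      T0.2.to_le (Subgroup.zpowers_le.2 (hg0 _ htX)), fun x hx => ?_⟩
    · have h2 := hv x hx
      rw [show (normalizerInToAut S E ⟨q, hq, hQE q hq⟩) = 1 from congrArg Subtype.val (hψ1 t h1),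
        autFun_one hx] at h2
      exact (eq_mul_inv_iff_mul_eq.1 h2)
    · rw [show ((t : MulAut E)) = normalizerInToAut S E ⟨q, hq, hQE q hq⟩ from rfl, hv x hx]
      simp [commutatorElement_def]
  -- automorphisms moving the centre lie in the embedded subgroup
  have hmove : ∀ g : F.autGroup E, ∀ z ∈ Zq, autFun (g : MulAut E) z ∉ Zq → ψ g ∈ X := by
    intro g z hz hgz
    set u := autFun (g : MulAut E) z with hu
    have huE : u ∈ E := autFun_mem _ (hZE hz)
    have hz1 : z ≠ 1 := fun e => by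
      subst e
      apply hgz
      have h0 : u = 1 := by
        rw [hu, autFun_apply _ E.one_mem]
        exact congrArg Subtype.val ((g : MulAut E).map_one)
      rw [h0]; exact one_mem _
    haveI : Finite Zq := finite_of_le (hZE.trans hES)
    have hzgen : ∀ d ∈ Zq, ∃ k : ℤ, z ^ k = d := fun d hd => by
      have : Subgroup.zpowers z = Zq := by
        refine Subgroup.eq_of_le_of_card_ge (Subgroup.zpowers_le.2 hz) ?_
        rcases (Nat.dvd_prime hp).1 (hZc ▸ Subgroup.card_dvd_of_le (Subgroup.zpowers_le.2 hz)) with e | e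
        · rw [Nat.card_zpowers, orderOf_eq_one_iff] at e; exact absurd e hz1
        · rw [e, hZc]
      exact Subgroup.mem_zpowers_iff.1 (this.ge hd)
    have hv := autFun_mem ((g : MulAut E))⁻¹ (hZE hz)
    obtain ⟨q, hq, hqE, hqu⟩ := hexq u huE
    obtain ⟨r, hr, hrE, hrv⟩ := hexq _ hv
    obtain ⟨t, htX, ht1, htp, hte⟩ := hcx q hq hqE
    obtain ⟨s, hsX, hs1, hsp, hse⟩ := hcx r hr hrE
    have hmul : ∀ (γ : MulAut E) (x y : Ω), x ∈ E → y ∈ E → autFun γ (x * y) = autFun γ x * autFun γ y :=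
      fun γ x y hx hy => by
        rw [autFun_apply γ hx, autFun_apply γ hy, autFun_apply γ (mul_mem hx hy), ← Subgroup.coe_mul,
          ← _root_.map_mul]
        rfl
    have hpow : ∀ (γ : MulAut E) (x : Ω) (k : ℤ), x ∈ E → autFun γ (x ^ k) = autFun γ x ^ k :=
      fun γ x k hx => by
        rw [autFun_apply γ hx, autFun_apply γ (zpow_mem hx k), ← SubgroupClass.coe_zpow, ← _root_.map_zpow]
        rfl
    have hst : g * s * g⁻¹ * t = t * (g * s * g⁻¹) := by
      refine Subtype.ext (autFun_inj fun x hx => ?_)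
      set w : MulAut E := ((g * s * g⁻¹ : F.autGroup E) : MulAut E) with hw
      have hwx : ∀ y ∈ E, ∃ k : ℤ, autFun w y = u ^ k * y := by
        intro y hy
        have hy' := autFun_mem ((g : MulAut E))⁻¹ hy
        have hd := hcm r hr _ (hES hy')
        obtain ⟨k, hk⟩ := hzgen _ hd
        refine ⟨k, ?_⟩
        rw [hw, Subgroup.coe_mul, Subgroup.coe_mul, Subgroup.coe_inv, autFun_mul _ _ hy, autFun_mul _ _ hy',
          hse _ hy', ← hk, hmul _ _ _ (zpow_mem (hZE hz) k) hy', hpow _ _ _ (hZE hz), autFun_apply_inv _ hy]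
      have hwz : ∀ d ∈ Zq, autFun w d = d := by
        intro d hd
        obtain ⟨k, rfl⟩ := hzgen d hd
        rw [hpow _ _ _ (hZE hz)]
        congr 1
        rw [hw, Subgroup.coe_mul, Subgroup.coe_mul, Subgroup.coe_inv, autFun_mul _ _ (hZE hz),
          autFun_mul _ _ hv, hse _ hv, commutatorElement_eq_one_iff_mul_comm.2 hrv, one_mul,
          autFun_apply_inv _ (hZE hz)]
      have htu : autFun (t : MulAut E) u = u := by
        rw [hte u huE, commutatorElement_eq_one_iff_mul_comm.2 hqu, one_mul]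
      obtain ⟨k, hk⟩ := hwx x hx
      rw [Subgroup.coe_mul, Subgroup.coe_mul (F.autGroup E) t, ← hw, autFun_mul _ _ hx, autFun_mul _ _ hx,
        hk, hte x hx, hmul _ _ _ (hZE (hcm q hq x (hES hx))) hx, hwz _ (hcm q hq x (hES hx)), hk,
        hmul _ _ _ (zpow_mem huE k) hx, hpow _ _ _ huE, htu, hte x hx, ← mul_assoc, ← mul_assoc,
        hab _ (hZE (hcm q hq x (hES hx))) _ (zpow_mem huE k)]
    have h1 : ψ g * ψ s * (ψ g)⁻¹ ∈ X := by
      refine mem_of_conj_mem_stronglyPEmbedded hX htp (by rwa [Ne, Subgroup.zpowers_eq_bot])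
        (Subgroup.zpowers_le.2 htX) fun x hx => ?_
      obtain ⟨k, rfl⟩ := Subgroup.mem_zpowers_iff.1 hx
      have hc : Commute (ψ g * ψ s * (ψ g)⁻¹) (ψ t) := by
        have := congrArg ψ hst
        simp only [_root_.map_mul, _root_.map_inv] at this
        exact this
      rw [(hc.zpow_right k).eq, mul_inv_cancel_right]
      exact zpow_mem htX k
    refine mem_of_conj_mem_stronglyPEmbedded hX hsp (by rwa [Ne, Subgroup.zpowers_eq_bot])
      (Subgroup.zpowers_le.2 hsX) fun x hx => ?_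
    obtain ⟨k, rfl⟩ := Subgroup.mem_zpowers_iff.1 hx
    rw [← conj_zpow]
    exact zpow_mem h1 k
  obtain ⟨y, hy⟩ : ∃ y, y ∉ X := not_forall.1 fun hall => hX.2.1 (eq_top_iff.2 fun x _ => hall x)
  obtain ⟨h, hh⟩ : ∃ h, ψ h = y := by
    obtain ⟨h, hh⟩ := QuotientGroup.mk'_surjective ((Inn E).subgroupOf (F.autGroup E)) (g0⁻¹ * y * g0)
    exact ⟨h, show g0 * π h * g0⁻¹ = y by rw [show π h = _ from hh]; group⟩
  intro β hβ x hx hxZ
  by_contra hbx
  have hbX := hmove ⟨β, hβ⟩ x hxZ hbx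
  have hhX : ψ h⁻¹ ∉ X := fun hc => hy (by rw [_root_.map_inv] at hc; rw [← hh]; exact inv_mem_iff.1 hc)
  have hx' : autFun ((h : MulAut E))⁻¹ x ∈ Zq := by
    by_contra hc
    exact hhX (hmove h⁻¹ x hxZ (by rwa [Subgroup.coe_inv]))
  have hbad : ψ (⟨β, hβ⟩ * h) ∈ X := by
    refine hmove _ _ hx' ?_
    rw [Subgroup.coe_mul, autFun_mul _ _ (hZE hx'), autFun_apply_inv _ hx]
    exact hbx
  rw [_root_.map_mul, hh] at hbad
  exact hy (by simpa using mul_mem (inv_mem hbX) hbad)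

theorem card_le_center_quot (hS : IsPGroup p S) (hF : F.IsSaturated p) (hp2 : p ≠ 2) (hO : F.core = ⊥)
    (Q : Subgroup Ω) (hQS : Q ≤ S) (hQ : Cfsg.IsExtraspecial p Q) (hQi : (Q.subgroupOf S).index = p) :
    S ⊓ Subgroup.centralizer (S : Set Ω) = Q ⊓ Subgroup.centralizer (Q : Set Ω) := by
  classical
  have hp := (Fact.out : p.Prime)
  haveI := finite_of_le hQS
  obtain ⟨⟨hQp, -, hQcomm⟩, hQZ⟩ := id hQ
  set Zq := (Subgroup.center Q).map Q.subtype with hZq
  have hZc : Nat.card Zq = p := by rw [hZq, Subgroup.card_map_of_injective Q.subtype_injective, hQZ]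
  have hZQ : Zq = Q ⊓ Subgroup.centralizer (Q : Set Ω) := by
    ext z
    constructor
    · rintro ⟨z, hz, rfl⟩
      exact ⟨z.2, Subgroup.mem_centralizer_iff.2 fun q hq =>
        congrArg Subtype.val (Subgroup.mem_center_iff.1 hz ⟨q, hq⟩)⟩
    · rintro ⟨hz, hzc⟩
      exact ⟨⟨z, hz⟩, Subgroup.mem_center_iff.2 fun q => Subtype.ext (Subgroup.mem_centralizer_iff.1 hzc q q.2), rfl⟩
  rw [← hZQ]
  haveI hQn : (Q.subgroupOf S).Normal := by
    obtain ⟨k, hk⟩ := IsPGroup.iff_card.mp hS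
    refine Subgroup.normal_of_index_eq_minFac_card ?_
    rw [hQi, hk, Nat.Prime.pow_minFac hp]
    rintro rfl
    have := hQi ▸ Subgroup.index_dvd_card (Q.subgroupOf S)
    rw [hk, pow_zero, Nat.dvd_one] at this
    exact hp.one_lt.ne' this
  -- the centre of `Q` is central in `S`
  have hZS : Zq ≤ S ⊓ Subgroup.centralizer (S : Set Ω) := by
    have hle : Zq ≤ S := (Subgroup.map_subtype_le _).trans hQS
    haveI : (Zq.subgroupOf S).Normal := ⟨fun x hx g => by
      rw [Subgroup.mem_subgroupOf, hZQ] at hx ⊢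
      refine ⟨Subgroup.mem_subgroupOf.1 (hQn.conj_mem x (Subgroup.mem_subgroupOf.2 hx.1) g),
        Subgroup.mem_centralizer_iff.2 fun q hq => ?_⟩
      have hq' : (g : Ω)⁻¹ * q * g ∈ Q := by
        have := Subgroup.mem_subgroupOf.1 (hQn.conj_mem ⟨q, hQS hq⟩ (Subgroup.mem_subgroupOf.2 hq) g⁻¹)
        simpa using this
      have h := Subgroup.mem_centralizer_iff.1 hx.2 _ hq'
      show q * ((g : Ω) * x * (g : Ω)⁻¹) = (g : Ω) * x * (g : Ω)⁻¹ * q
      calc q * ((g : Ω) * x * (g : Ω)⁻¹) = (g : Ω) * ((g : Ω)⁻¹ * q * g * x) * (g : Ω)⁻¹ := by group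
        _ = (g : Ω) * ((x : Ω) * ((g : Ω)⁻¹ * q * g)) * (g : Ω)⁻¹ := by rw [h]
        _ = _ := by group⟩
    have := CfsgLib.Transfer.le_center_of_card_prime hS (Zq.subgroupOf S)
      (by rw [Nat.card_congr (Subgroup.subgroupOfEquivOfLe hle).toEquiv, hZc])
    exact fun z hz => ⟨hle hz, Subgroup.mem_centralizer_iff.2 fun s hs =>
      congrArg Subtype.val (Subgroup.mem_center_iff.1 (this (x := ⟨z, hle hz⟩) hz) ⟨s, hs⟩)⟩
  refine le_antisymm (fun c hc => ?_) hZS
  by_contra hcZ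
  have hcQ : c ∉ Q := fun h => hcZ (hZQ ▸ ⟨h, Subgroup.centralizer_le hQS hc.2⟩)
  -- `S = Q C`
  have hdec : ∀ s ∈ S, ∃ q ∈ Q, ∃ k : ℤ, s = q * c ^ k := by
    haveI : Fact (Nat.card (S ⧸ Q.subgroupOf S)).Prime := ⟨by rw [← Subgroup.index_eq_card, hQi]; exact hp⟩
    intro s hs
    have hne : (QuotientGroup.mk ⟨c, hc.1⟩ : S ⧸ Q.subgroupOf S) ≠ 1 := fun e =>
      hcQ (Subgroup.mem_subgroupOf.1 ((QuotientGroup.eq_one_iff (⟨c, hc.1⟩ : S)).1 e))
    obtain ⟨k, hk⟩ := Subgroup.mem_zpowers_iff.1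
      ((zpowers_eq_top_of_prime_card rfl hne).ge (Subgroup.mem_top (QuotientGroup.mk ⟨s, hs⟩)))
    refine ⟨s * (c ^ k)⁻¹, ?_, k, by group⟩
    have h1 : (⟨s, hs⟩ * (⟨c, hc.1⟩ ^ k)⁻¹ : S) ∈ Q.subgroupOf S := by
      rw [← QuotientGroup.eq_one_iff, QuotientGroup.mk_mul, QuotientGroup.mk_inv, QuotientGroup.mk_zpow, hk,
        mul_inv_cancel]
    simpa [Subgroup.mem_subgroupOf] using h1
  have hcc : ∀ (k : ℤ), ∀ v ∈ S, Commute (c ^ k) v := fun k v hv =>
    ((show Commute c v from (Subgroup.mem_centralizer_iff.1 hc.2 v hv).symm)).zpow_left k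
  have hcm : ∀ a ∈ S, ∀ b ∈ S, ⁅a, b⁆ ∈ Zq := by
    intro a ha b hb
    obtain ⟨q, hq, i, rfl⟩ := hdec a ha
    obtain ⟨r, hr, j, rfl⟩ := hdec b hb
    have e : ⁅q * c ^ i, r * c ^ j⁆ = ⁅q, r⁆ := by
      have h1 := hcc i (r * c ^ j) hb
      have h2 := hcc j q⁻¹ (S.inv_mem (hQS hq))
      calc ⁅q * c ^ i, r * c ^ j⁆ = q * (c ^ i * (r * c ^ j)) * (c ^ i)⁻¹ * q⁻¹ * (r * c ^ j)⁻¹ := by
            rw [commutatorElement_def]; group
        _ = q * r * (c ^ j * q⁻¹) * (c ^ j)⁻¹ * r⁻¹ := by rw [h1.eq]; group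
        _ = ⁅q, r⁆ := by rw [h2.eq, commutatorElement_def]; group
    rw [e]
    refine ⟨⁅(⟨q, hq⟩ : Q), (⟨r, hr⟩ : Q)⁆, ?_, rfl⟩
    rw [SetLike.mem_coe, ← hQcomm, commutator_def]
    exact Subgroup.commutator_mem_commutator (Subgroup.mem_top _) (Subgroup.mem_top _)
  have hcenle : Subgroup.center S ≤
      (Zq ⊔ Subgroup.zpowers c).subgroupOf S := fun s hs => by
    obtain ⟨q, hq, k, hk⟩ := hdec s s.2
    rw [Subgroup.mem_subgroupOf, hk]
    refine mul_mem (Subgroup.mem_sup_left (hZQ ▸ ⟨hq, Subgroup.mem_centralizer_iff.2 fun v hv => ?_⟩))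
      (Subgroup.mem_sup_right (zpow_mem (Subgroup.mem_zpowers c) k))
    have h1 : v * (q * c ^ k) = q * c ^ k * v := by
      rw [← hk]; exact congrArg Subtype.val (Subgroup.mem_center_iff.1 hs ⟨v, hQS hv⟩)
    rw [mul_assoc q, (hcc k v (hQS hv)).eq, ← mul_assoc, ← mul_assoc] at h1
    exact mul_right_cancel h1
  obtain ⟨m, hm1, hm⟩ := CfsgLib.Transfer.extraspecial_card hQ
  have hScard : Nat.card S = p ^ (2 * m + 2) := by
    have h := Subgroup.card_mul_index (Q.subgroupOf S)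
    rw [Nat.card_congr (Subgroup.subgroupOfEquivOfLe hQS).toEquiv, hQi, hm, ← pow_succ] at h
    exact h.symm
  have hZctr : Nat.card (Subgroup.center S) ≤ p ^ 2 := by
    obtain ⟨k, hk⟩ := IsPGroup.iff_card.mp (hS.to_subgroup (Subgroup.center S))
    rw [hk]
    refine Nat.pow_le_pow_right hp.pos ?_
    by_contra hlt
    -- its intersection with `Q` has order at least `p ^ 2`
    have h2 : Nat.card ↥(Subgroup.center S ⊓ Q.subgroupOf S) ≤ p := by
      rw [← hZc, ← Subgroup.card_map_of_injective S.subtype_injective]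
      haveI : Finite Zq := finite_of_le (hZS.trans inf_le_left)
      refine Subgroup.card_le_of_le ?_
      rintro _ ⟨s, ⟨hs1, hs2⟩, rfl⟩
      exact hZQ ▸ ⟨Subgroup.mem_subgroupOf.1 hs2, Subgroup.mem_centralizer_iff.2 fun v hv =>
        congrArg Subtype.val (Subgroup.mem_center_iff.1 hs1 ⟨v, hQS hv⟩)⟩
    have h3 : Nat.card (Subgroup.center S) ≤ Nat.card ↥(Subgroup.center S ⊓ Q.subgroupOf S) * p := by
      have h := Subgroup.card_mul_index ((Q.subgroupOf S).subgroupOf (Subgroup.center S))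
      have hd : (Q.subgroupOf S).relIndex (Subgroup.center S) ∣ p := hQi ▸ Subgroup.relIndex_dvd_index_of_normal _ _
      rw [← h, ← Subgroup.relIndex]
      refine Nat.mul_le_mul (le_of_eq ?_) (Nat.le_of_dvd hp.pos hd)
      rw [← Subgroup.card_map_of_injective (Subgroup.center S).subtype_injective,
        Subgroup.subgroupOf_map_subtype, inf_comm]
    rw [hk] at h3
    have h4 := h3.trans (Nat.mul_le_mul_right p h2)
    rw [← sq, Nat.pow_le_pow_iff_right hp.one_lt] at h4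
    omega
  rcases Nat.lt_or_ge m 2 with hm2 | hm2
  · -- order `p ^ 4`
    have hS1 : S ≠ ⊥ := fun e => by
      have : c = 1 := by simpa [e] using hc.1
      exact hcQ (this ▸ Q.one_mem)
    have hidx : (Subgroup.center S).index ≤ p ^ 2 := by
      have hge : p ^ 2 ≤ Nat.card (Subgroup.center S) := by
        obtain ⟨k, hk⟩ := IsPGroup.iff_card.mp (hS.to_subgroup (Subgroup.center S))
        rw [hk]
        refine Nat.pow_le_pow_right hp.pos ?_
        by_contra hlt
        have hle : Zq.subgroupOf S ≤ Subgroup.center S := fun z hz => Subgroup.mem_center_iff.2 fun s =>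
          Subtype.ext (Subgroup.mem_centralizer_iff.1 (hZS (Subgroup.mem_subgroupOf.1 hz)).2 s s.2)
        have e := CfsgLib.Core.eq_of_le_of_card_le hle (by
          rw [hk, Nat.card_congr (Subgroup.subgroupOfEquivOfLe (hZS.trans inf_le_left)).toEquiv, hZc]
          exact (Nat.pow_le_pow_right hp.pos (by omega : k ≤ 1)).trans_eq (pow_one p))
        exact hcZ (Subgroup.mem_subgroupOf.1 (e.ge (x := ⟨c, hc.1⟩) (Subgroup.mem_center_iff.2 fun s =>
          Subtype.ext (Subgroup.mem_centralizer_iff.1 hc.2 s s.2))))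
      have h := Subgroup.card_mul_index (Subgroup.center S)
      rw [hScard, show 2 * m + 2 = 2 + 2 by omega, pow_add] at h
      exact Nat.le_of_mul_le_mul_left ((Nat.mul_le_mul_right _ hge).trans_eq h) (pow_pos hp.pos 2)
    obtain ⟨z, C⟩ := CfsgLib.CentreIndexSq.ctx_of_index hS hF hS1 hO hidx
    have hcz := CfsgLib.CentreIndexSq.centre_odd C hp2 hc.1
      fun v hv => (Subgroup.mem_centralizer_iff.1 hc.2 v hv).symm
    obtain ⟨a, ha, b, hb, he⟩ := C.ab
    have hzq : z ∈ Zq := he ▸ hcm a ha b hb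
    exact hcZ (Subgroup.zpowers_le.2 hzq hcz)
  have h6 : p ^ 6 ≤ Nat.card S := hScard ▸ Nat.pow_le_pow_right hp.pos (by omega)
  have hZmem : ∀ z ∈ Zq, z ∈ S ∧ ∀ q ∈ S, q * z = z * q := fun z hz =>
    ⟨(hZS hz).1, fun q hq => Subgroup.mem_centralizer_iff.1 (hZS hz).2 q hq⟩
  have hnormal : F.IsNormal Zq := by
    refine isNormal_of_essential_invariant hS hF fun R hR => ?_
    have hRS : R ≤ S := hR.elim (fun e => e.le) fun e => e.1.1
    have hZR : Zq ≤ R := by
      rcases hR with e | e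
      · exact e ▸ hZS.trans inf_le_left
      · exact fun z hz => e.1.2 R (isConj_refl F hRS)
          ⟨(hZS hz).1, Subgroup.mem_centralizer_iff.2 fun r hr => (hZmem z hz).2 r (hRS hr)⟩
    refine ⟨hZR, fun α hα => CfsgLib.Fusion.eq_of_le_of_card_le (hZS.trans inf_le_left)
      (img_le_iff.2 fun x hx => ?_) (((mem_autGroup_iff hRS).1 hα).restrict hZR).card_img.ge⟩
    by_cases hab : ∀ a ∈ R, ∀ b ∈ R, a * b = b * a
    · rcases hR with e | e
      · -- `S` is not abelian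
        subst e
        exfalso
        have hle : Nat.card Q ≤ p := by
          rw [← hQZ, ← Subgroup.card_top (G := Q)]
          exact Subgroup.card_le_of_le fun q _ =>
            Subgroup.mem_center_iff.2 fun r => Subtype.ext (hab r (hQS r.2) q (hQS q.2))
        rw [hm] at hle
        exact absurd hle (not_le.2 (lt_self_pow₀ hp.one_lt (by omega)))
      · exact inv_abelian hS hF h6 Zq hZc hZctr hZmem hcm e hab α hα x (hZR hx) hx
    · push Not at hab
      obtain ⟨a, ha, b, hb, hne⟩ := hab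
      exact inv_derived hS Zq hZc hZmem hcm hRS hZR ha hb hne α hα x (hZR hx) hx
  have hle : Zq ≤ F.core := le_sSup hnormal
  rw [hO, le_bot_iff] at hle
  rw [hle, Subgroup.card_bot] at hZc
  exact hp.one_lt.ne hZc

end CfsgLib.ExtraspecialCentre
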