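import Cfsg.Agent.Lib.FusionCriteria
import Cfsg.Agent.Lib.FusionEssential
import Cfsg.Agent.Lib.CoreBasic
import Cfsg.Agent.Lib.TransferApps

/-!
# Essential subgroups inside an extraspecial subgroup of index `p`
-/

set_option autoImplicit false
set_option linter.style.haveILetI false

namespace CfsgLib.ExtraspecialInside

open Cfsg Cfsg.FusionSystem CfsgLib.Fusion
open scoped commutatorElement

universe u

variable {Ω : Type u} [Group Ω] {S T : Subgroup Ω} [Finite S] {p : ℕ} [Fact p.Prime] {F : FusionSystem S}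

theorem mem_core_of_invariant (hS : IsPGroup p S) {P : Subgroup Ω} (hP : P ≤ S)
    (hinv : ∀ β ∈ F.autGroup P, ∀ x ∈ P, x ∈ T → autFun β x ∈ T)
    {α : MulAut P} (hα : α ∈ F.autGroup P) (h1 : ∀ x ∈ P, x ∈ T → autFun α x = x)
    (h2 : ∀ x ∈ P, x⁻¹ * autFun α x ∈ P ⊓ T) :
    α ∈ (Cfsg.pCore p (F.autGroup P)).map (F.autGroup P).subtype := by
  haveI := finite_of_le hP
  haveI := finite_autGroup F hP
  have hmul : ∀ (β : MulAut P) (x y : Ω), x ∈ P → y ∈ P → autFun β (x * y) = autFun β x * autFun β y :=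
    fun β x y hx hy => by
      rw [autFun_apply β hx, autFun_apply β hy, autFun_apply β (mul_mem hx hy), ← Subgroup.coe_mul,
        ← map_mul]
      rfl
  have hinvm : ∀ (β : MulAut P) (x : Ω), x ∈ P → autFun β x⁻¹ = (autFun β x)⁻¹ := fun β x hx => by
    rw [autFun_apply β hx, autFun_apply β (inv_mem hx), ← Subgroup.coe_inv, ← map_inv]
    rfl
  let Y : Subgroup (F.autGroup P) :=
    { carrier := {β | (∀ x ∈ P, x ∈ T → autFun (β : MulAut P) x = x) ∧
        ∀ x ∈ P, x⁻¹ * autFun (β : MulAut P) x ∈ P ⊓ T}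
      one_mem' := ⟨fun x hx _ => by rw [OneMemClass.coe_one, autFun_one hx],
        fun x hx => by rw [OneMemClass.coe_one, autFun_one hx, inv_mul_cancel]; exact one_mem _⟩
      mul_mem' := by
        rintro β γ ⟨b1, b2⟩ ⟨c1, c2⟩
        refine ⟨fun x hx hxT => by rw [Subgroup.coe_mul, autFun_mul _ _ hx, c1 x hx hxT, b1 x hx hxT],
          fun x hx => ?_⟩
        have hy := autFun_mem (γ : MulAut P) hx
        rw [Subgroup.coe_mul, autFun_mul _ _ hx]
        have := mul_mem (c2 x hx) (b2 _ hy)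
        rwa [mul_assoc, mul_inv_cancel_left] at this
      inv_mem' := by
        rintro β ⟨b1, b2⟩
        refine ⟨fun x hx hxT => ?_, fun x hx => ?_⟩
        · rw [Subgroup.coe_inv]
          conv_lhs => rw [← b1 x hx hxT]
          rw [autFun_inv_apply _ hx]
        · rw [Subgroup.coe_inv]
          have hy := autFun_mem ((β : MulAut P))⁻¹ hx
          have h := b2 _ hy
          rw [autFun_apply_inv _ hx] at h
          have h' := inv_mem h
          rwa [mul_inv_rev, inv_inv] at h' }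
  haveI hY : Y.Normal := ⟨fun β hβ g => by
    obtain ⟨b1, b2⟩ := hβ
    have hg := g.2
    have hg' := inv_mem g.2
    refine ⟨fun x hx hxT => ?_, fun x hx => ?_⟩
    · have hy := autFun_mem ((g : MulAut P))⁻¹ hx
      rw [Subgroup.coe_mul, Subgroup.coe_mul, Subgroup.coe_inv, autFun_mul _ _ hx, autFun_mul _ _ hy,
        b1 _ hy (hinv _ hg' x hx hxT), autFun_apply_inv _ hx]
    · have hy := autFun_mem ((g : MulAut P))⁻¹ hx
      have hz := autFun_mem (β : MulAut P) hy
      have h := b2 _ hy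
      rw [Subgroup.coe_mul, Subgroup.coe_mul, Subgroup.coe_inv, autFun_mul _ _ hx, autFun_mul _ _ hy]
      have h3 : x⁻¹ * autFun (g : MulAut P) (autFun (β : MulAut P) (autFun ((g : MulAut P))⁻¹ x)) =
          autFun (g : MulAut P) ((autFun ((g : MulAut P))⁻¹ x)⁻¹ *
            autFun (β : MulAut P) (autFun ((g : MulAut P))⁻¹ x)) := by
        rw [hmul _ _ _ (inv_mem hy) hz, hinvm _ _ hy, autFun_apply_inv _ hx]
      rw [h3]
      exact ⟨autFun_mem _ h.1, hinv _ hg _ h.1 h.2⟩⟩
  have hYp : IsPGroup p Y := by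
    haveI := finite_of_le (inf_le_left.trans hP : P ⊓ T ≤ S)
    obtain ⟨a, ha⟩ := IsPGroup.iff_card.mp (hS.to_le (inf_le_left.trans hP : P ⊓ T ≤ S))
    rintro ⟨β, b1, b2⟩
    refine ⟨a, Subtype.ext (Subtype.ext (autFun_inj fun x hx => ?_))⟩
    have hit : ∀ m : ℕ, autFun ((β : MulAut P) ^ m) x = x * (x⁻¹ * autFun (β : MulAut P) x) ^ m := by
      intro m
      induction m with
      | zero => rw [pow_zero, pow_zero, autFun_one hx, mul_one]
      | succ m ih =>
        have hd := pow_mem (b2 x hx) m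
        rw [pow_succ', autFun_mul _ _ hx, ih, hmul _ _ _ hx hd.1, b1 _ hd.1 hd.2, pow_succ',
          ← mul_assoc x, mul_inv_cancel_left]
    simp only [SubgroupClass.coe_pow, OneMemClass.coe_one]
    rw [hit, autFun_one hx]
    have h3 : (⟨_, b2 x hx⟩ : ↥(P ⊓ T)) ^ p ^ a = 1 := by rw [← ha]; exact pow_card_eq_one'
    have h4 : (x⁻¹ * autFun (β : MulAut P) x) ^ p ^ a = 1 := by
      simpa using congrArg Subtype.val h3
    rw [h4, mul_one]
  exact ⟨⟨α, hα⟩, le_pCore_of_normal Y hYp ⟨h1, h2⟩, rfl⟩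

theorem main (hS : IsPGroup p S) (hF : F.IsSaturated p) (Q : Subgroup Ω) (hQS : Q ≤ S)
    (hQ : Cfsg.IsExtraspecial p Q) (h5 : p ^ 5 ≤ Nat.card Q)
    (E : Subgroup Ω) (hEQ : E ≤ Q) (hE : F.IsEssential p E) : E = Q := by
  classical
  have hp := (Fact.out : p.Prime)
  have hES := hE.1.1
  haveI := finite_of_le hES
  haveI := finite_of_le hQS
  obtain ⟨⟨hQp, -, hQcomm⟩, hQZ⟩ := hQ
  set Zq := (Subgroup.center Q).map Q.subtype with hZq
  have hZc : Nat.card Zq = p := by rw [hZq, Subgroup.card_map_of_injective Q.subtype_injective, hQZ]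
  have hZmem : ∀ z ∈ Zq, z ∈ Q ∧ ∀ q ∈ Q, q * z = z * q := by
    rintro _ ⟨z, hz, rfl⟩
    exact ⟨z.2, fun q hq => congrArg Subtype.val (Subgroup.mem_center_iff.1 hz ⟨q, hq⟩)⟩
  have hcm : ∀ a ∈ Q, ∀ b ∈ Q, ⁅a, b⁆ ∈ Zq := fun a ha b hb =>
    ⟨⁅(⟨a, ha⟩ : Q), (⟨b, hb⟩ : Q)⁆, by
      rw [SetLike.mem_coe, ← hQcomm, commutator_def]
      exact Subgroup.commutator_mem_commutator (Subgroup.mem_top _) (Subgroup.mem_top _), rfl⟩
  have hcen : centralizerIn S E ≤ E := hE.1.2 E (isConj_refl F hES)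
  have hZE : Zq ≤ E := fun z hz => hcen ⟨hQS (hZmem z hz).1,
    Subgroup.mem_centralizer_iff.2 fun e he => (hZmem z hz).2 e (hEQ he)⟩
  have hQE : ∀ q ∈ Q, q ∈ Subgroup.normalizer (E : Set Ω) := fun q hq =>
    mem_normalizer_of_conj_mem fun e he => by
      rw [show q * e * q⁻¹ = ⁅q, e⁆ * e by simp [commutatorElement_def]]
      exact E.mul_mem (hZE (hcm q hq e (hEQ he))) he
  haveI := finite_autGroup F hES
  have hinv : ∀ β ∈ F.autGroup E, ∀ x ∈ E, x ∈ Zq → autFun β x ∈ Zq := by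
    by_cases hab : ∀ a ∈ E, ∀ b ∈ E, a * b = b * a
    swap
    · push Not at hab
      obtain ⟨a, ha, b, hb, hne⟩ := hab
      have hc : ⁅a, b⁆ ∈ Zq := hcm a (hEQ ha) b (hEQ hb)
      have hc1 : ⁅a, b⁆ ≠ 1 := fun e => hne (commutatorElement_eq_one_iff_mul_comm.1 e)
      have hgen : Subgroup.zpowers ⁅a, b⁆ = Zq := by
        haveI : Finite Zq := finite_of_le ((Subgroup.map_subtype_le _).trans hQS)
        refine Subgroup.eq_of_le_of_card_ge (Subgroup.zpowers_le.2 hc) ?_
        have h1 := Subgroup.card_dvd_of_le (Subgroup.zpowers_le.2 hc)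
        rw [hZc] at h1 ⊢
        rcases (Nat.dvd_prime hp).1 h1 with e | e
        · rw [Nat.card_zpowers, orderOf_eq_one_iff] at e; exact absurd e hc1
        · exact e.ge
      intro β hβ x hx hxZ
      rw [← hgen] at hxZ
      obtain ⟨k, rfl⟩ := Subgroup.mem_zpowers_iff.1 hxZ
      have hcE : ⁅a, b⁆ ∈ E := hZE hc
      rw [autFun_apply β hx, show (⟨⁅a, b⁆ ^ k, hx⟩ : E) = ⁅(⟨a, ha⟩ : E), (⟨b, hb⟩ : E)⁆ ^ k from rfl,
        _root_.map_zpow, map_commutatorElement, SubgroupClass.coe_zpow]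
      exact zpow_mem (hcm _ (hEQ (β ⟨a, ha⟩).2) _ (hEQ (β ⟨b, hb⟩).2)) k
    -- the abelian case
    have hbig : Nat.card E * p < Nat.card Q := by
      obtain ⟨i, hi⟩ := IsPGroup.iff_card.mp (hS.to_le hES)
      obtain ⟨m, hm⟩ := IsPGroup.iff_card.mp hQp
      rw [hm, Nat.pow_le_pow_iff_right hp.one_lt] at h5
      have hle := Subgroup.card_le_of_le hEQ
      rw [hi, hm, Nat.pow_le_pow_iff_right hp.one_lt] at hle
      rw [hi, hm, ← pow_succ, Nat.pow_lt_pow_iff_right hp.one_lt]
      by_contra hlt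
      -- an abelian subgroup of index at most `p` is too big
      obtain ⟨q, hq, hqgen⟩ : ∃ q ∈ Q, Q ≤ E ⊔ Subgroup.zpowers q := by
        rcases eq_or_ne E Q with e | e
        · exact ⟨1, Q.one_mem, e.ge.trans le_sup_left⟩
        obtain ⟨q, hq, hqE⟩ := SetLike.exists_of_lt (lt_of_le_of_ne hEQ e)
        haveI := finite_of_le (sup_le hES (Subgroup.zpowers_le.2 (hQS hq)))
        obtain ⟨k, hk⟩ := IsPGroup.iff_card.mp (hS.to_le (sup_le hES (Subgroup.zpowers_le.2 (hQS hq))))
        have hlt2 : E < E ⊔ Subgroup.zpowers q := lt_of_le_of_ne le_sup_left fun e' =>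
          hqE (e'.ge (Subgroup.mem_sup_right (Subgroup.mem_zpowers q)))
        have h1 := card_lt_of_lt (sup_le hES (Subgroup.zpowers_le.2 (hQS hq))) hlt2
        rw [hi, hk, Nat.pow_lt_pow_iff_right hp.one_lt] at h1
        refine ⟨q, hq, (Subgroup.eq_of_le_of_card_ge (sup_le hEQ (Subgroup.zpowers_le.2 hq)) ?_).ge⟩
        rw [hm, hk]
        exact Nat.pow_le_pow_right hp.pos (by omega)
      let f : E →* Zq :=
        { toFun := fun e => ⟨⁅q, (e : Ω)⁆, hcm q hq _ (hEQ e.2)⟩
          map_one' := Subtype.ext (commutatorElement_one_right q)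
          map_mul' := fun a b => Subtype.ext <| by
            show ⁅q, (a : Ω) * b⁆ = ⁅q, (a : Ω)⁆ * ⁅q, (b : Ω)⁆
            rw [show ⁅q, (a : Ω) * b⁆ = ⁅q, (a : Ω)⁆ * ((a : Ω) * ⁅q, (b : Ω)⁆ * (a : Ω)⁻¹) by
              simp only [commutatorElement_def, mul_inv_rev]; group]
            rw [(hZmem _ (hcm q hq _ (hEQ b.2))).2 _ (hEQ a.2), mul_inv_cancel_right] }
      have hker : f.ker ≤ Zq.subgroupOf E := by
        intro e he
        have h1 : ⁅q, (e : Ω)⁆ = 1 := congrArg Subtype.val he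
        have hle' : Q ≤ Subgroup.centralizer ({(e : Ω)} : Set Ω) := by
          refine hqgen.trans (sup_le (fun x hx => ?_) (Subgroup.zpowers_le.2 ?_))
          · exact Subgroup.mem_centralizer_singleton_iff.2 (hab x hx e e.2)
          · exact Subgroup.mem_centralizer_singleton_iff.2 (commutatorElement_eq_one_iff_mul_comm.1 h1)
        refine Subgroup.mem_subgroupOf.2 ⟨⟨e, hEQ e.2⟩, Subgroup.mem_center_iff.2 fun x => Subtype.ext ?_, rfl⟩
        exact Subgroup.mem_centralizer_singleton_iff.1 (hle' x.2)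
      have h2 : Nat.card E ≤ p ^ 2 := by
        haveI : Finite Zq := finite_of_le (hZE.trans hES)
        rw [← f.ker.card_mul_index, Subgroup.index_ker, sq]
        refine Nat.mul_le_mul ((Subgroup.card_le_of_le hker).trans_eq ?_) ?_
        · rw [Nat.card_congr (Subgroup.subgroupOfEquivOfLe hZE).toEquiv, hZc]
        · exact (Nat.le_of_dvd Nat.card_pos (Subgroup.card_subgroup_dvd_card _)).trans_eq hZc
      rw [hi, Nat.pow_le_pow_iff_right hp.one_lt] at h2
      omega
    have hexq : ∀ w ∈ E, ∃ q ∈ Q, q ∉ E ∧ q * w = w * q := by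
      intro w hw
      let f : Q →* Zq :=
        { toFun := fun q => ⟨⁅(q : Ω), w⁆, hcm _ q.2 w (hEQ hw)⟩
          map_one' := Subtype.ext (commutatorElement_one_left w)
          map_mul' := fun a b => Subtype.ext <| by
            show ⁅(a : Ω) * b, w⁆ = ⁅(a : Ω), w⁆ * ⁅(b : Ω), w⁆
            rw [show ⁅(a : Ω) * b, w⁆ = (a : Ω) * ⁅(b : Ω), w⁆ * (a : Ω)⁻¹ * ⁅(a : Ω), w⁆ by
              simp only [commutatorElement_def, mul_inv_rev]; group,
              (hZmem _ (hcm _ b.2 w (hEQ hw))).2 _ a.2, mul_inv_cancel_right]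
            exact ((hZmem _ (hcm _ b.2 w (hEQ hw))).2 _ (hZmem _ (hcm _ a.2 w (hEQ hw))).1).symm }
      haveI : Finite Zq := finite_of_le (hZE.trans hES)
      by_contra hc
      push Not at hc
      have h1 : Nat.card f.ker ≤ Nat.card E := by
        rw [← Nat.card_congr (Subgroup.subgroupOfEquivOfLe hEQ).toEquiv]
        refine Subgroup.card_le_of_le fun q hq => Subgroup.mem_subgroupOf.2 ?_
        by_contra hqE
        exact hc q q.2 hqE (commutatorElement_eq_one_iff_mul_comm.1 (congrArg Subtype.val hq))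
      have h2 : Nat.card Q ≤ Nat.card E * p := by
        rw [← f.ker.card_mul_index, Subgroup.index_ker]
        exact Nat.mul_le_mul h1 ((Nat.le_of_dvd Nat.card_pos (Subgroup.card_subgroup_dvd_card _)).trans_eq hZc)
      omega
    obtain ⟨-, -, hn, X, hX⟩ := id hE
    set π := QuotientGroup.mk' ((Inn E).subgroupOf (F.autGroup E))
    have hπ : ∀ γ, π γ = 1 → γ = 1 := fun γ hγ => by
      rw [QuotientGroup.mk'_apply, QuotientGroup.eq_one_iff, Subgroup.mem_subgroupOf] at hγ
      obtain ⟨g, hg, he⟩ := mem_inn_iff.1 hγ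
      refine Subtype.ext (autFun_inj fun x hx => ?_)
      rw [he x hx, Subgroup.coe_one, autFun_one hx, hab g hg x hx, mul_inv_cancel_right]
    obtain ⟨T0, hT0, -⟩ := sylow_le_of_stronglyPEmbedded hX
    have hBp : IsPGroup p (((autInducedBy S E).subgroupOf (F.autGroup E)).map π) :=
      ((isPGroup_autInducedBy hS).of_equiv
        (Subgroup.subgroupOfEquivOfLe (autInducedBy_le_autGroup hES)).symm).map π
    obtain ⟨g0, hg0⟩ := exists_conj_mem_of_pGroup hBp T0.2 T0.not_dvd_index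
    let ψ := (MulAut.conj g0).toMonoidHom.comp π
    have hψ1 : ∀ γ, ψ γ = 1 → γ = 1 := fun γ hγ => hπ γ (by
      have : g0 * π γ * g0⁻¹ = 1 := hγ
      rwa [conj_eq_one_iff] at this)
    have hcx : ∀ q (hq : q ∈ Q), q ∉ E → ∃ t : F.autGroup E, ψ t ∈ X ∧ ψ t ≠ 1 ∧
        IsPGroup p (Subgroup.zpowers (ψ t)) ∧ ∀ x ∈ E, autFun (t : MulAut E) x = ⁅q, x⁆ * x := by
      intro q hq hqE
      have hm : normalizerInToAut S E ⟨q, hQS hq, hQE q hq⟩ ∈ autInducedBy S E := by
        rw [← range_normalizerInToAut]; exact ⟨_, rfl⟩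
      have hv : ∀ x ∈ E, autFun (normalizerInToAut S E ⟨q, hQS hq, hQE q hq⟩) x = q * x * q⁻¹ :=
        fun x hx => autFun_normalizerInToAut _ hx
      set t : F.autGroup E := ⟨_, autInducedBy_le_autGroup hES hm⟩
      have htX : π t ∈ ((autInducedBy S E).subgroupOf (F.autGroup E)).map π :=
        Subgroup.mem_map_of_mem π (Subgroup.mem_subgroupOf.2 hm)
      refine ⟨t, hT0 (hg0 _ htX), fun h1 => hqE (hcen ⟨hQS hq, Subgroup.mem_centralizer_iff.2 fun x hx => ?_⟩),
        T0.2.to_le (Subgroup.zpowers_le.2 (hg0 _ htX)), fun x hx => ?_⟩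
      · have h2 := hv x hx
        rw [show (normalizerInToAut S E ⟨q, hQS hq, hQE q hq⟩) = 1 from congrArg Subtype.val (hψ1 t h1),
          autFun_one hx] at h2
        exact (eq_mul_inv_iff_mul_eq.1 h2)
      · rw [show ((t : MulAut E)) = normalizerInToAut S E ⟨q, hQS hq, hQE q hq⟩ from rfl, hv x hx]
        simp [commutatorElement_def]
    -- automorphisms moving the centre lie in the embedded subgroup
    have hmove : ∀ g : F.autGroup E, ∀ z ∈ Zq, autFun (g : MulAut E) z ∉ Zq → ψ g ∈ X := by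
      intro g z hz hgz
      set u := autFun (g : MulAut E) z with hu
      have huE : u ∈ E := autFun_mem _ (hZE hz)
      have hz1 : z ≠ 1 := fun e => by
        subst e
        apply hgz
        have h0 : u = 1 := by
          rw [hu, autFun_apply _ E.one_mem]
          exact congrArg Subtype.val ((g : MulAut E).map_one)
        rw [h0]; exact one_mem _
      haveI : Finite Zq := finite_of_le (hZE.trans hES)
      have hzgen : ∀ d ∈ Zq, ∃ k : ℤ, z ^ k = d := fun d hd => by
        have : Subgroup.zpowers z = Zq := by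
          refine Subgroup.eq_of_le_of_card_ge (Subgroup.zpowers_le.2 hz) ?_
          rcases (Nat.dvd_prime hp).1 (hZc ▸ Subgroup.card_dvd_of_le (Subgroup.zpowers_le.2 hz)) with e | e
          · rw [Nat.card_zpowers, orderOf_eq_one_iff] at e; exact absurd e hz1
          · rw [e, hZc]
        exact Subgroup.mem_zpowers_iff.1 (this.ge hd)
      have hv := autFun_mem ((g : MulAut E))⁻¹ (hZE hz)
      obtain ⟨q, hq, hqE, hqu⟩ := hexq u huE
      obtain ⟨r, hr, hrE, hrv⟩ := hexq _ hv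
      obtain ⟨t, htX, ht1, htp, hte⟩ := hcx q hq hqE
      obtain ⟨s, hsX, hs1, hsp, hse⟩ := hcx r hr hrE
      have hmul : ∀ (γ : MulAut E) (x y : Ω), x ∈ E → y ∈ E → autFun γ (x * y) = autFun γ x * autFun γ y :=
        fun γ x y hx hy => by
          rw [autFun_apply γ hx, autFun_apply γ hy, autFun_apply γ (mul_mem hx hy), ← Subgroup.coe_mul,
            ← _root_.map_mul]
          rfl
      have hpow : ∀ (γ : MulAut E) (x : Ω) (k : ℤ), x ∈ E → autFun γ (x ^ k) = autFun γ x ^ k :=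
        fun γ x k hx => by
          rw [autFun_apply γ hx, autFun_apply γ (zpow_mem hx k), ← SubgroupClass.coe_zpow, ← _root_.map_zpow]
          rfl
      have hst : g * s * g⁻¹ * t = t * (g * s * g⁻¹) := by
        refine Subtype.ext (autFun_inj fun x hx => ?_)
        set w : MulAut E := ((g * s * g⁻¹ : F.autGroup E) : MulAut E) with hw
        have hwx : ∀ y ∈ E, ∃ k : ℤ, autFun w y = u ^ k * y := by
          intro y hy
          have hy' := autFun_mem ((g : MulAut E))⁻¹ hy
          have hd := hcm r hr _ (hEQ hy')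
          obtain ⟨k, hk⟩ := hzgen _ hd
          refine ⟨k, ?_⟩
          rw [hw, Subgroup.coe_mul, Subgroup.coe_mul, Subgroup.coe_inv, autFun_mul _ _ hy, autFun_mul _ _ hy',
            hse _ hy', ← hk, hmul _ _ _ (zpow_mem (hZE hz) k) hy', hpow _ _ _ (hZE hz), autFun_apply_inv _ hy]
        have hwz : ∀ d ∈ Zq, autFun w d = d := by
          intro d hd
          obtain ⟨k, rfl⟩ := hzgen d hd
          rw [hpow _ _ _ (hZE hz)]
          congr 1
          rw [hw, Subgroup.coe_mul, Subgroup.coe_mul, Subgroup.coe_inv, autFun_mul _ _ (hZE hz),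
            autFun_mul _ _ hv, hse _ hv, commutatorElement_eq_one_iff_mul_comm.2 hrv, one_mul,
            autFun_apply_inv _ (hZE hz)]
        have htu : autFun (t : MulAut E) u = u := by
          rw [hte u huE, commutatorElement_eq_one_iff_mul_comm.2 hqu, one_mul]
        obtain ⟨k, hk⟩ := hwx x hx
        rw [Subgroup.coe_mul, Subgroup.coe_mul (F.autGroup E) t, ← hw, autFun_mul _ _ hx, autFun_mul _ _ hx,
          hk, hte x hx, hmul _ _ _ (hZE (hcm q hq x (hEQ hx))) hx, hwz _ (hcm q hq x (hEQ hx)), hk,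
          hmul _ _ _ (zpow_mem huE k) hx, hpow _ _ _ huE, htu, hte x hx, ← mul_assoc, ← mul_assoc,
          hab _ (hZE (hcm q hq x (hEQ hx))) _ (zpow_mem huE k)]
      have h1 : ψ g * ψ s * (ψ g)⁻¹ ∈ X := by
        refine mem_of_conj_mem_stronglyPEmbedded hX htp (by rwa [Ne, Subgroup.zpowers_eq_bot])
          (Subgroup.zpowers_le.2 htX) fun x hx => ?_
        obtain ⟨k, rfl⟩ := Subgroup.mem_zpowers_iff.1 hx
        have hc : Commute (ψ g * ψ s * (ψ g)⁻¹) (ψ t) := by
          have := congrArg ψ hst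
          simp only [_root_.map_mul, _root_.map_inv] at this
          exact this
        rw [(hc.zpow_right k).eq, mul_inv_cancel_right]
        exact zpow_mem htX k
      refine mem_of_conj_mem_stronglyPEmbedded hX hsp (by rwa [Ne, Subgroup.zpowers_eq_bot])
        (Subgroup.zpowers_le.2 hsX) fun x hx => ?_
      obtain ⟨k, rfl⟩ := Subgroup.mem_zpowers_iff.1 hx
      rw [← conj_zpow]
      exact zpow_mem h1 k
    obtain ⟨y, hy⟩ : ∃ y, y ∉ X := not_forall.1 fun hall => hX.2.1 (eq_top_iff.2 fun x _ => hall x)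
    obtain ⟨h, hh⟩ : ∃ h, ψ h = y := by
      obtain ⟨h, hh⟩ := QuotientGroup.mk'_surjective ((Inn E).subgroupOf (F.autGroup E)) (g0⁻¹ * y * g0)
      exact ⟨h, show g0 * π h * g0⁻¹ = y by rw [show π h = _ from hh]; group⟩
    intro β hβ x hx hxZ
    by_contra hbx
    have hbX := hmove ⟨β, hβ⟩ x hxZ hbx
    have hhX : ψ h⁻¹ ∉ X := fun hc => hy (by rw [_root_.map_inv] at hc; rw [← hh]; exact inv_mem_iff.1 hc)
    have hx' : autFun ((h : MulAut E))⁻¹ x ∈ Zq := by
      by_contra hc
      exact hhX (hmove h⁻¹ x hxZ (by rwa [Subgroup.coe_inv]))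
    have hbad : ψ (⟨β, hβ⟩ * h) ∈ X := by
      refine hmove _ _ hx' ?_
      rw [Subgroup.coe_mul, autFun_mul _ _ (hZE hx'), autFun_apply_inv _ hx]
      exact hbx
    rw [_root_.map_mul, hh] at hbad
    exact hy (by simpa using mul_mem (inv_mem hbX) hbad)
  refine le_antisymm hEQ ?_
  haveI := CfsgLib.Core.normal_pCore (G := F.autGroup E) p
  refine le_of_centric_radical hE.1 (isRadical_of_isEssential hS hF hE) hQS (fun e he =>
    Subgroup.le_normalizer (hEQ he)) hS (Cfsg.pCore p (F.autGroup E)) (CfsgLib.Core.isPGroup_pCore p) ?_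
  intro α hα q hq hqn he
  have hmem : α ∈ (Cfsg.pCore p (F.autGroup E)).map (F.autGroup E).subtype :=
    mem_core_of_invariant (T := Zq) hS hES hinv hα (fun x hx hxT => by
      rw [he x hx, (hZmem x hxT).2 q hq, mul_inv_cancel_right]) fun x hx => by
      rw [he x hx]
      have : x⁻¹ * (q * x * q⁻¹) = ⁅x⁻¹, q⁆ := by simp [commutatorElement_def, mul_assoc]
      rw [this]
      exact ⟨hZE (hcm _ (Q.inv_mem (hEQ hx)) q hq), hcm _ (Q.inv_mem (hEQ hx)) q hq⟩
  obtain ⟨γ, hγ, hγe⟩ := hmem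
  have : (⟨α, hα⟩ : F.autGroup E) = γ := Subtype.ext hγe.symm
  rw [this]; exact hγ

end CfsgLib.ExtraspecialInside
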