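import Cfsg.Agent.Lib.GenExtraspecialShape
import Cfsg.Agent.Lib.FusionSeries
import Cfsg.Agent.Lib.FusionSat

/-!
# Strongly closed generalized extraspecial subgroups

If `P` is strongly closed with `P' = Φ(P)` of order `p` and `P` has no bad element, then `P'` is
strongly closed, so `P` is normal; a bad element forces `P ≅ E × A` with `E` of order `p ^ 3`,
and for `p` odd the exponent of `E` is then `p`.
-/

set_option autoImplicit false

open Cfsg Cfsg.FusionSystem Subgroup CfsgLib.Fusion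
open scoped commutatorElement

namespace CfsgLib.GenExtraspecial

variable {Ω : Type*} [Group Ω] {S : Subgroup Ω} [Finite S] {p : ℕ} [hp : Fact p.Prime]
  {F : FusionSystem S} {P : Subgroup Ω}

/-- A copy of `Fin n` without algebraic instances. -/
def Copy (n : ℕ) : Type := Fin n

theorem isExtraspecial_equiv {P R : Type*} [Group P] [Group R] {p : ℕ} (e : P ≃* R)
    (h : Cfsg.IsExtraspecial p P) : Cfsg.IsExtraspecial p R := by
  obtain ⟨⟨hp, hF, hC⟩, hZ⟩ := h
  have hc : (Subgroup.center P).map e.toMonoidHom = Subgroup.center R := by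
    ext r
    constructor
    · rintro ⟨z, hz, rfl⟩
      refine Subgroup.mem_center_iff.mpr fun y => ?_
      have := congrArg e (Subgroup.mem_center_iff.mp hz (e.symm y))
      simpa using this
    · intro hr
      refine ⟨e.symm r, Subgroup.mem_center_iff.mpr fun y => e.injective ?_, by simp⟩
      simpa using Subgroup.mem_center_iff.mp hr (e y)
  refine ⟨⟨hp.of_equiv e, ?_, ?_⟩, ?_⟩
  · rw [← hc, ← hF]
    refine le_antisymm (fun r hr => ?_) ?_
    · exact ⟨e.symm r, frattini_le_comap_frattini_of_surjective (φ := e.symm.toMonoidHom)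
        e.symm.surjective hr, by simp⟩
    · rintro _ ⟨z, hz, rfl⟩
      exact frattini_le_comap_frattini_of_surjective (φ := e.toMonoidHom) e.surjective hz
  · rw [← hc, ← hC, _root_.commutator_def, _root_.commutator_def, Subgroup.map_commutator,
      Subgroup.map_top_of_surjective _ e.surjective]
  · rw [← hZ]; exact (Nat.card_congr (Subgroup.centerCongr e).toEquiv).symm

theorem map_pow {R : Subgroup Ω} {f : Ω → Ω} (h : Map F R f) {x : Ω} (hx : x ∈ R) (n : ℕ) :
    f (x ^ n) = f x ^ n := by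
  induction n with
  | zero => rw [pow_zero, pow_zero, h.map_one]
  | succ n ih => rw [pow_succ, pow_succ, h.map_mul (R.pow_mem hx n) hx, ih]

theorem exists_bad (hS : IsPGroup p S) (hF : F.IsSaturated p) (hP : F.StronglyClosed P) {z : Ω}
    (hzp : z ^ p = 1) (hz1 : z ≠ 1) (hcomP : ⁅P, P⁆ = zpowers z)
    (hpow : ∀ x ∈ P, x ^ p ∈ zpowers z) (hnot : ¬ F.StronglyClosed (zpowers z)) :
    ∃ z' y w a : Ω, Bad p P z' y w a ∧
      ∃ k, Map F (P ⊓ centralizer {y}) k ∧ k y = z' := by
  haveI := finite_of_le hP.1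
  have hzP : zpowers z ≤ P := hcomP ▸ (commutator_le.2 fun u hu v hv => by
    rw [commutatorElement_def]
    exact mul_mem (mul_mem (mul_mem hu hv) (P.inv_mem hu)) (P.inv_mem hv))
  have hzS : zpowers z ≤ S := hzP.trans hP.1
  rw [stronglyClosed_iff] at hnot
  push Not at hnot
  obtain ⟨R, f, hR, hf, x, hxR, hfx⟩ := hnot hzS
  have hx1 : x ≠ 1 := fun h => hfx (by rw [h, hf.map_one]; exact one_mem _)
  obtain ⟨n₀, hn₀⟩ := natexp hzp (hR hxR)
  have hxp : x ^ p = 1 := by rw [hn₀, ← pow_mul, mul_comm, pow_mul, hzp, one_pow]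
  have hzx : zpowers x = zpowers z :=
    le_antisymm (zpowers_le.2 (hR hxR)) (zpowers_le.2 (gen hzp (hR hxR) hx1))
  have hxP : x ∈ P := hzP (hR hxR)
  have hxS : x ∈ S := hP.1 hxP
  have hcom : ∀ u ∈ P, ∀ v ∈ P, u * v * u⁻¹ * v⁻¹ ∈ zpowers x := fun u hu v hv => by
    rw [hzx, ← hcomP, ← commutatorElement_def]
    exact commutator_mem_commutator hu hv
  have hox : orderOf x = p := orderOf_eq_prime hxp hx1
  -- `x` is central in `S`
  have hcen : ∀ s ∈ S, s * x * s⁻¹ = x := by
    intro s hs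
    have hsn := stronglyClosed_normalized hP hs
    have hconj : s * x * s⁻¹ ∈ zpowers x := by
      have h1 : MulAut.conj s x ∈ (⁅P, P⁆).map (MulAut.conj s).toMonoidHom :=
        mem_map_of_mem _ (hcomP ▸ hR hxR)
      rw [map_commutator, show P.map (MulAut.conj s).toMonoidHom = P from
        mem_normalizer_iff_map_conj_eq.1 hsn, hcomP, ← hzx] at h1
      simpa using h1
    obtain ⟨n, hn⟩ := natexp hxp hconj
    obtain ⟨m, hm⟩ := hS ⟨s, hs⟩
    have hsm : s ^ p ^ m = 1 := congrArg Subtype.val hm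
    have hit : ∀ j : ℕ, s ^ j * x * (s ^ j)⁻¹ = x ^ n ^ j := by
      intro j
      induction j with
      | zero => simp
      | succ j ih =>
        rw [pow_succ s, show s ^ j * s * x * (s ^ j * s)⁻¹ = s ^ j * (s * x * s⁻¹) * (s ^ j)⁻¹ by
          group, hn, ← conj_pow, ih, ← pow_mul, ← pow_succ]
    have h2 := hit (p ^ m)
    rw [hsm, inv_one, one_mul, mul_one] at h2
    have h3 : ((n ^ p ^ m : ℕ) : ZMod p) = ((1 : ℕ) : ZMod p) := by
      rw [ZMod.natCast_eq_natCast_iff]
      have := pow_eq_pow_iff_modEq.1 (show x ^ n ^ p ^ m = x ^ 1 by rw [pow_one]; exact h2.symm)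
      rwa [hox] at this
    rw [Nat.cast_pow, ZMod.pow_card_pow] at h3
    rw [ZMod.natCast_eq_natCast_iff, ← hox] at h3
    rw [hn, pow_eq_pow_iff_modEq.2 h3, pow_one]
  have hxc : ∀ s ∈ S, Commute x s := fun s hs =>
    ((mul_inv_eq_iff_eq_mul.1 (hcen s hs)) : s * x = x * s).symm
  -- the inverse map, carrying `y` to `x`
  set y := f x with hy
  have hyP : y ∈ P := stronglyClosed_apply hP hf hxR hxP
  obtain ⟨g, hg, hgf, -, -⟩ := (hf.restrict (zpowers_le.2 hxR)).exists_inv
  have hyI : y ∈ img f (zpowers x) := mem_img_of_mem f (mem_zpowers x)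
  have hg' := hg.restrict (zpowers_le.2 hyI)
  have hyp : y ^ p = 1 := by
    rw [hy, ← map_pow hf hxR, hxp, hf.map_one]
  have hy1 : y ≠ 1 := fun h => hfx (by rw [h]; exact one_mem _)
  have hgy : g y = x := hgf x (mem_zpowers x)
  have himg : img g (zpowers y) = zpowers x := by
    refine eq_of_le_of_card_le (zpowers_le.2 hxS) (img_le_iff.2 fun e he => ?_) ?_
    · obtain ⟨i, rfl⟩ := natexp hyp he
      rw [map_pow hg' (mem_zpowers y), hgy]
      exact pow_mem (mem_zpowers x) i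
    · rw [hg'.card_img, Nat.card_zpowers, Nat.card_zpowers, hox, orderOf_eq_prime hyp hy1]
  have hfc : F.IsFullyCentralized (zpowers x) := by
    haveI := finite_of_le (centralizerIn_le S (zpowers x))
    refine ⟨zpowers_le.2 hxS, fun Q _ => Subgroup.card_le_of_le ?_⟩
    intro s hs
    refine ⟨(centralizerIn_le S Q) hs, fun e he => ?_⟩
    obtain ⟨i, rfl⟩ := mem_zpowers_iff.1 he
    exact ((hxc s (centralizerIn_le S Q hs)).zpow_left i).eq
  set C := P ⊓ centralizer {y} with hC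
  have hyC : zpowers y ≤ C := zpowers_le.2 ⟨hyP, fun e he => by rw [Set.mem_singleton_iff.1 he]⟩
  obtain ⟨k, hk, hkg⟩ := receptive_extend (isReceptive_of_fullyCentralized hS hF hfc) hg' himg hyC
    fun c hc => inExtender_of_centralizerIn g ⟨hP.1 hc.1, fun e he => by
      obtain ⟨i, rfl⟩ := mem_zpowers_iff.1 he
      exact (Commute.zpow_left (hc.2 y rfl : y * c = c * y) i).eq⟩
  have hky : k y = x := by rw [hkg y (mem_zpowers y), hgy]
  have hkP : ∀ c ∈ C, k c ∈ P := fun c hc => stronglyClosed_apply hP hk hc hc.1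
  have hyz : y ∉ zpowers x := hzx ▸ hfx
  have hyC' : y ∈ C := hyC (mem_zpowers y)
  have hkey : ∀ e ∈ C, e ∈ zpowers x → k e ∈ zpowers x → e = 1 := by
    intro e he hex hke
    by_contra h1
    have hk1 : k e ≠ 1 := fun h => h1 (hk.injOn he C.one_mem (h.trans hk.map_one.symm))
    obtain ⟨n, hn⟩ := natexp (by rw [← map_pow hk he, show e ^ p = 1 by
      obtain ⟨m, rfl⟩ := natexp hxp hex
      rw [← pow_mul, mul_comm, pow_mul, hxp, one_pow], hk.map_one]) (gen hxp hke hk1)
    have : y = e ^ n := hk.injOn hyC' (C.pow_mem he n) (by rw [hky, map_pow hk he, hn])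
    exact hyz (this ▸ pow_mem hex n)
  have hcomC : ∀ u ∈ C, ∀ v ∈ C, u * v * u⁻¹ * v⁻¹ = 1 := by
    intro u hu v hv
    have h1 : u * v * u⁻¹ ∈ C := mul_mem (mul_mem hu hv) (C.inv_mem hu)
    refine hkey _ (mul_mem h1 (C.inv_mem hv)) (hcom u hu.1 v hv.1) ?_
    rw [hk.map_mul h1 (C.inv_mem hv), hk.map_mul (mul_mem hu hv) (C.inv_mem hu),
      hk.map_mul hu hv, hk.map_inv hu, hk.map_inv hv]
    exact hcom _ (hkP u hu) _ (hkP v hv)
  obtain ⟨w, hw, hwy⟩ : ∃ w ∈ P, w * y * w⁻¹ ≠ y := by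
    by_contra h
    push Not at h
    have hPC : ∀ u ∈ P, u ∈ C := fun u hu => ⟨hu, fun e he => by
      rw [Set.mem_singleton_iff.1 he]
      exact ((mul_inv_eq_iff_eq_mul.1 (h u hu)) : u * y = y * u).symm⟩
    have hbot : ⁅P, P⁆ ≤ ⊥ := commutator_le.2 fun u hu v hv => by
      rw [mem_bot, commutatorElement_def]
      exact hcomC u (hPC u hu) v (hPC v hv)
    exact hz1 (mem_bot.1 (hbot (hcomP ▸ mem_zpowers z)))
  have ha : w * y * w⁻¹ * y⁻¹ ∈ zpowers x := hcom w hw y hyP
  refine ⟨x, y, w, w * y * w⁻¹ * y⁻¹,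
    { hz := hxP, hy := hyP, hw := hw, z1 := hx1, zp := hxp
      zc := fun v hv => hxc v (hP.1 hv)
      comm := hcom
      pow := hzx ▸ hpow
      yp := hyp, yz := hyz, ha := ha
      a1 := fun h => hwy (mul_inv_eq_one.1 h)
      wy := ?_, cc := fun c hc d hd hcy hdy => ?_, cp := fun c hc hcy => ?_ }, k, hk, hky⟩
  · obtain ⟨i, hi⟩ := mem_zpowers_iff.1 ha
    rw [← hi, ← ((hxc y (hP.1 hyP)).zpow_left i).eq, hi, inv_mul_cancel_right]
  · have := hcomC c ⟨hc, fun e he => by rw [Set.mem_singleton_iff.1 he]; exact hcy.symm.eq⟩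
      d ⟨hd, fun e he => by rw [Set.mem_singleton_iff.1 he]; exact hdy.symm.eq⟩
    rw [← commutatorElement_def] at this
    exact commutatorElement_eq_one_iff_commute.1 this
  · have hcC : c ∈ C := ⟨hc, fun e he => by rw [Set.mem_singleton_iff.1 he]; exact hcy.symm.eq⟩
    refine hkey _ (C.pow_mem hcC p) (hzx ▸ hpow c hc) ?_
    rw [map_pow hk hcC]
    exact hzx ▸ hpow _ (hkP c hcC)

theorem pow_apply_shift {C : Type*} [Group C] {t : MulAut C} {c e : C} (h : t c = c * e)
    (he : t e = e) (q : ℕ) : (t ^ q) c = c * e ^ q := by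
  induction q with
  | zero => simp
  | succ q ih => rw [pow_succ', MulAut.mul_apply, ih, _root_.map_mul, h, _root_.map_pow, he,
      pow_succ', mul_assoc]

theorem pow_apply_fixed {C : Type*} [Group C] {t : MulAut C} {e : C} (he : t e = e) (q : ℕ) :
    (t ^ q) e = e := by
  have := pow_apply_shift (t := t) (c := e) (e := 1) (by rw [mul_one, he]) (_root_.map_one t) q
  rwa [one_pow, mul_one] at this

theorem false_of_bad (hS : IsPGroup p S) (hF : F.IsSaturated p) (hP : F.StronglyClosed P)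
    {z y w a : Ω} (B : Bad p P z y w a) (hp2 : p ≠ 2) (hw : w ^ p ≠ 1)
    {k : Ω → Ω} (hk : Map F (P ⊓ centralizer {y}) k) (hky : k y = z) : False := by
  haveI := finite_of_le hP.1
  set C := P ⊓ centralizer {y} with hC
  have hmemC : ∀ {x : Ω}, x ∈ C ↔ x ∈ P ∧ Commute x y := fun {x} =>
    ⟨fun h => ⟨h.1, (h.2 y rfl : y * x = x * y).symm⟩, fun h => ⟨h.1, fun e he => by
      rw [Set.mem_singleton_iff.1 he]; exact h.2.symm.eq⟩⟩
  have hCS : C ≤ S := inf_le_left.trans hP.1
  haveI := finite_of_le hCS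
  have hyC : y ∈ C := hmemC.2 ⟨B.hy, Commute.refl y⟩
  have hzC : z ∈ C := hmemC.2 ⟨B.hz, B.zc y B.hy⟩
  have hCp : ∀ x ∈ C, x ^ p = 1 := fun x hx => B.cp x hx.1 (hmemC.1 hx).2
  have hchoose : p ∣ p.choose 2 := hp.out.dvd_choose_self two_ne_zero
    (lt_of_le_of_ne hp.out.two_le (Ne.symm hp2))
  have hzpow : ∀ e ∈ zpowers z, ∀ n : ℕ, p ∣ n → e ^ n = 1 := by
    rintro e he n ⟨m, rfl⟩
    obtain ⟨i, rfl⟩ := natexp B.zp he
    rw [← pow_mul, mul_left_comm, pow_mul, B.zp, one_pow]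
  have hpowmul : ∀ u ∈ P, ∀ v ∈ P, (u * v) ^ p = u ^ p * v ^ p := by
    intro u hu v hv
    have hm : ⁅v, u⁆ ∈ zpowers z := by rw [commutatorElement_def]; exact B.comm v hv u hu
    obtain ⟨n, hn⟩ := mem_zpowers_iff.1 hm
    rw [CfsgLib.Core.mul_pow_of_central (by rw [← hn]; exact ((B.zc u hu).zpow_left n).eq)
      (by rw [← hn]; exact ((B.zc v hv).zpow_left n).eq), hzpow _ hm _ hchoose, mul_one]
  have hPC : ∀ x ∈ P, ∃ c ∈ C, ∃ j : ℕ, x = c * w ^ j := fun x hx => by
    obtain ⟨c, hc, hcy, j, rfl⟩ := B.decomp hx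
    exact ⟨c, hmemC.2 ⟨hc, hcy⟩, j, rfl⟩
  -- the elements of order `p` of `P` form `C`
  have hOm : ∀ x ∈ P, x ^ p = 1 → x ∈ C := by
    intro x hx hxp
    obtain ⟨c, hc, j, rfl⟩ := hPC x hx
    rw [hpowmul c hc.1 _ (P.pow_mem B.hw j), hCp c hc, one_mul, ← pow_mul, mul_comm, pow_mul]
      at hxp
    have hj : p ∣ j := by
      by_contra h
      refine hw ?_
      have h2 : (w ^ p) ^ p = 1 := hzpow _ (B.pow w B.hw) p dvd_rfl
      have h3 := pow_gcd_eq_one.2 ⟨h2, hxp⟩
      rwa [(Nat.Prime.coprime_iff_not_dvd hp.out).2 h, pow_one] at h3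
    obtain ⟨m, rfl⟩ := hj
    refine C.mul_mem hc (hmemC.2 ⟨P.pow_mem B.hw _, ?_⟩)
    rw [pow_mul]
    obtain ⟨i, hi⟩ := mem_zpowers_iff.1 (B.pow w B.hw)
    rw [← hi]
    exact ((B.zc y B.hy).zpow_left i).pow_left m
  have hmapC : ∀ {f : Ω → Ω}, Map F C f → img f C = C := by
    intro f hf
    refine eq_of_le_of_card_le hCS (img_le_iff.2 fun x hx => ?_) hf.card_img.ge
    exact hOm _ (stronglyClosed_apply hP hf hx hx.1) (by
      rw [← map_pow hf hx, hCp x hx, hf.map_one])
  have hfn : F.IsFullyNormalized C := by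
    refine ⟨hCS, fun Q hQ => ?_⟩
    obtain ⟨f, hf, rfl⟩ := isConj_iff.1 hQ
    rw [hmapC hf]
  obtain ⟨α, hα, hαk⟩ := hk.exists_aut (hmapC hk)
  letI : CommGroup C := { (inferInstance : Group C) with
    mul_comm := fun u v => Subtype.ext
      (B.cc u u.2.1 v v.2.1 (hmemC.1 u.2).2 (hmemC.1 v.2).2).eq }
  set z' : C := ⟨z, hzC⟩ with hz'
  set y' : C := ⟨y, hyC⟩ with hy'
  have hαy : α y' = z' := Subtype.ext (by
    rw [← CfsgLib.Fusion.autFun_coe]; exact (hαk y hyC).trans hky)
  -- the automorphism induced by `w`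
  have hwC : w ∈ normalizerIn S C := ⟨hP.1 B.hw, mem_normalizer_of_conj_mem fun x hx => by
    refine hOm _ (mul_mem (mul_mem B.hw hx.1) (P.inv_mem B.hw)) ?_
    rw [conj_pow, hCp x hx, mul_one, mul_inv_cancel]⟩
  set t := normalizerInToAut S C ⟨w, hwC⟩ with ht
  have htv : ∀ c : C, ((t c : C) : Ω) = w * c * w⁻¹ := fun c => rfl
  have htA : t ∈ autInducedBy S C := range_normalizerInToAut (S := S) (P := C) ▸ ⟨_, rfl⟩
  have htF : t ∈ F.autGroup C := autInducedBy_le_autGroup hCS htA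
  have htn : ∀ c : C, ∃ n : ℕ, t c = c * z' ^ n := fun c => by
    obtain ⟨n, hn⟩ := B.conj_w c.2.1
    exact ⟨n, Subtype.ext (by simpa [htv, hz'] using hn)⟩
  have htz : t z' = z' := Subtype.ext (by
    rw [htv, hz', ← (B.zc w B.hw).eq, mul_inv_cancel_right])
  have hzfix : ∀ (γ : MulAut C) (n : ℕ), γ z' = z' → γ (z' ^ n) = z' ^ n := fun γ n h => by
    rw [_root_.map_pow, h]
  have htp : t ^ p = 1 := by
    refine MulEquiv.ext fun c => ?_
    obtain ⟨n, hn⟩ := htn c
    rw [pow_apply_shift hn (hzfix t n htz), MulAut.one_apply, ← pow_mul]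
    apply Subtype.ext
    rw [Subgroup.coe_mul, SubgroupClass.coe_pow,
      hzpow _ (mem_zpowers z) _ (dvd_mul_left p n), mul_one]
  have hwpC : w ^ p ∈ C := hOm _ (P.pow_mem B.hw p) (hzpow _ (B.pow w B.hw) p dvd_rfl)
  obtain ⟨n₁, hn₁⟩ := natexp B.zp (B.pow w B.hw)
  obtain ⟨r₁, hr₁⟩ := natexp (hzpow _ (B.pow w B.hw) p dvd_rfl) (gen B.zp (B.pow w B.hw) hw)
  -- extension to `P` of an automorphism of `C` that moves `t` into `Aut_S(C)`
  have ext_aux : ∀ γ : MulAut C, γ ∈ F.autGroup C → ∀ g ∈ S,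
      (∀ c : C, ((γ (t c) : C) : Ω) = g * (γ c : C) * g⁻¹) →
      ∃ k', Map F P k' ∧ ∀ x ∈ C, k' x = autFun γ x := by
    intro γ hγ g hg hc
    have hm := (mem_autGroup_iff hCS).1 hγ
    refine receptive_extend (isReceptive_of_fullyNormalized hS hF hfn) hm
      (img_autFun γ) inf_le_left fun x hx => ?_
    have hwE : InExtender S C (autFun γ) w := ⟨hwC.1, hwC.2, g, hg, fun c hc' => by
      rw [show w * c * w⁻¹ = ((t ⟨c, hc'⟩ : C) : Ω) from (htv ⟨c, hc'⟩).symm,
        CfsgLib.Fusion.autFun_coe, autFun_apply γ hc']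
      exact hc ⟨c, hc'⟩⟩
    obtain ⟨φ, -, he⟩ := id hm
    have hmx : x ∈ C ⊔ zpowers w := by
      obtain ⟨c, hc, j, rfl⟩ := hPC x hx
      exact mul_mem (mem_sup_left hc) (mem_sup_right (pow_mem (mem_zpowers w) j))
    refine inExtender_sup (fun g hg => inExtender_of_mem hm hg) (fun g hg => ?_) ⟨φ, he⟩ x hmx
    exact (mem_extender_iff he).1 (zpowers_le.2 ((mem_extender_iff he).2 hwE) hg)
  have hγz : ∀ γ : MulAut C, γ ∈ F.autGroup C → ∀ g ∈ S,
      (∀ c : C, ((γ (t c) : C) : Ω) = g * (γ c : C) * g⁻¹) →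
      ((γ z' : C) : Ω) ∈ zpowers z := by
    intro γ hγ g hg hc
    obtain ⟨k', hk', hkC⟩ := ext_aux γ hγ g hg hc
    have h1 : autFun γ (w ^ p) ∈ zpowers z := by
      rw [← hkC _ hwpC, map_pow hk' B.hw]
      exact B.pow _ (stronglyClosed_apply hP hk' B.hw B.hw)
    have h2 : ((γ z' : C) : Ω) = autFun γ (w ^ p) ^ r₁ := by
      rw [autFun_apply γ hwpC, ← SubgroupClass.coe_pow, ← _root_.map_pow]
      exact congrArg Subtype.val (congrArg γ (Subtype.ext hr₁ : z' = ⟨w ^ p, hwpC⟩ ^ r₁))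
    rw [h2]
    exact pow_mem h1 _
  -- the conjugate of `t` under `α`
  set t' := α * t * α⁻¹ with ht'
  set u := α z' with hu
  have hzp' : z' ^ p = 1 := Subtype.ext B.zp
  have hup : u ^ p = 1 := by rw [hu, ← _root_.map_pow, hzp', _root_.map_one]
  have hz1' : z' ≠ 1 := fun h => B.z1 (congrArg Subtype.val h)
  have hu1 : u ≠ 1 := fun h => hz1' (α.injective (by rw [_root_.map_one]; exact h))
  have huz : (u : Ω) ∉ zpowers z := by
    intro h
    obtain ⟨n, hn⟩ := natexp B.zp h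
    have h2 : α z' = α (y' ^ n) := by
      rw [_root_.map_pow, hαy]; exact Subtype.ext (hn.trans (SubgroupClass.coe_pow z' n).symm)
    have h3 : z = y ^ n := congrArg Subtype.val (α.injective h2)
    exact B.yz (gen B.yp (h3 ▸ pow_mem (mem_zpowers y) n) B.z1 |> fun h => h)
  have ht'n : ∀ c : C, ∃ n : ℕ, t' c = c * u ^ n := fun c => by
    obtain ⟨n, hn⟩ := htn (α⁻¹ c)
    exact ⟨n, by rw [ht', MulAut.mul_apply, MulAut.mul_apply, hn, _root_.map_mul, _root_.map_pow,
      MulAut.apply_inv_self]⟩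
  have ht'u : t' u = u := by
    rw [ht', hu, MulAut.mul_apply, MulAut.mul_apply, MulAut.inv_apply_self, htz]
  obtain ⟨m, hm⟩ := natexp B.zp B.ha
  have hty : t y' = y' * z' ^ m := Subtype.ext (by
    rw [htv, hy', hz', Subgroup.coe_mul, SubgroupClass.coe_pow, ← hm]; exact B.wy)
  have ht'z : t' z' = z' * u ^ m := by
    conv_lhs => rw [← hαy]
    rw [ht', MulAut.mul_apply, MulAut.mul_apply, MulAut.inv_apply_self, hty, _root_.map_mul,
      _root_.map_pow, hαy]
  have hum : u ^ m ≠ 1 := by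
    intro h
    rw [hu, ← _root_.map_pow, ← _root_.map_one α] at h
    exact B.a1 (by rw [hm]; exact congrArg Subtype.val (α.injective h))
  have hG : Finite (F.autGroup C) := finite_autGroup F hCS
  have ht'F : t' ∈ F.autGroup C := mul_mem (mul_mem hα htF) (inv_mem hα)
  by_cases hut : t u = u
  · -- `t` and its conjugate under `t'` commute
    set s := t' * t * t'⁻¹ with hs
    have hsz : s z' = z' := by
      have h1 : t'⁻¹ z' = z' * (u ^ m)⁻¹ := by
        apply t'.injective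
        rw [MulAut.apply_inv_self, _root_.map_mul, _root_.map_inv, _root_.map_pow, ht'u, ht'z,
          mul_inv_cancel_right]
      rw [hs, MulAut.mul_apply, MulAut.mul_apply, h1, _root_.map_mul, _root_.map_inv,
        _root_.map_pow, hut, htz, _root_.map_mul, _root_.map_inv, _root_.map_pow, ht'u, ht'z,
        mul_inv_cancel_right]
    have hcomm : Commute t s := by
      refine MulEquiv.ext fun c => ?_
      obtain ⟨i, hi⟩ := htn c
      obtain ⟨e, he⟩ := ht'n c
      have h1 : t'⁻¹ c = c * (u ^ e)⁻¹ := by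
        apply t'.injective
        rw [MulAut.apply_inv_self, _root_.map_mul, _root_.map_inv, _root_.map_pow, ht'u, he,
          mul_inv_cancel_right]
      have hsc : s c = c * (z' * u ^ m) ^ i := by
        rw [hs, MulAut.mul_apply, MulAut.mul_apply, h1, _root_.map_mul, _root_.map_inv,
          _root_.map_pow, hut, hi, _root_.map_mul, _root_.map_mul, _root_.map_inv,
          _root_.map_pow, _root_.map_pow, ht'u, he, ht'z]
        rw [mul_right_comm (c * u ^ e), mul_inv_cancel_right]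
      show t (s c) = s (t c)
      rw [hsc, hi, _root_.map_mul t, _root_.map_pow t, _root_.map_mul t, _root_.map_pow t, htz,
        hut, hi, _root_.map_mul s, _root_.map_pow s, hsz, hsc, mul_right_comm]
    have hsF : s ∈ F.autGroup C := mul_mem (mul_mem ht'F htF) (inv_mem ht'F)
    set tG : F.autGroup C := ⟨t, htF⟩ with htG
    set sG : F.autGroup C := ⟨s, hsF⟩ with hsG
    have hcG : Commute tG sG := Subtype.ext hcomm
    have hH : IsPGroup p (zpowers tG ⊔ zpowers sG : Subgroup (F.autGroup C)) := by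
      intro e
      refine ⟨1, Subtype.ext ?_⟩
      have hn : zpowers sG ≤ normalizer ((zpowers tG : Subgroup (F.autGroup C)) : Set _) :=
        zpowers_le.2 (centralizer_le_normalizer _ fun x hx => by
          obtain ⟨i, rfl⟩ := mem_zpowers_iff.1 hx
          exact (hcG.zpow_left i).eq)
      have he := e.2
      rw [← SetLike.mem_coe, coe_mul_of_right_le_normalizer_left _ _ hn] at he
      obtain ⟨a₁, ha₁, b₁, hb₁, heq⟩ := Set.mem_mul.1 he
      obtain ⟨i, rfl⟩ := mem_zpowers_iff.1 ha₁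
      obtain ⟨j, rfl⟩ := mem_zpowers_iff.1 hb₁
      have htG' : tG ^ p = 1 := Subtype.ext htp
      have hsG' : sG ^ p = 1 := Subtype.ext (show s ^ p = 1 by
        rw [hs, conj_pow, htp, mul_one, mul_inv_cancel])
      rw [pow_one, SubgroupClass.coe_pow, ← heq, (hcG.zpow_zpow i j).mul_pow,
        ← zpow_natCast (tG ^ i), ← zpow_mul, mul_comm i, zpow_mul, zpow_natCast, htG', one_zpow,
        ← zpow_natCast (sG ^ j), ← zpow_mul, mul_comm j, zpow_mul, zpow_natCast, hsG', one_zpow,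
        one_mul, OneMemClass.coe_one]
    have hfa := (isFullyAutomized_iff hS).1 (isFullyAutomized_of_fullyNormalized hS hF hfn)
    obtain ⟨γ, hγ⟩ := exists_conj_mem_of_pGroup hH
      ((isPGroup_autInducedBy (P := C) hS).of_equiv
        (subgroupOfEquivOfLe (autInducedBy_le_autGroup (F := F) hCS)).symm) hfa.2
    have key : ∀ (δ : MulAut C), δ ∈ F.autGroup C → δ * t * δ⁻¹ ∈ autInducedBy S C →
        ((δ z' : C) : Ω) ∈ zpowers z := by
      intro δ hδ hmem
      obtain ⟨g, hg, -, hgv⟩ := mem_autInducedBy_iff.1 hmem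
      refine hγz δ hδ g hg fun c => ?_
      rw [← hgv _ (δ c).2, CfsgLib.Fusion.autFun_coe, MulAut.mul_apply, MulAut.mul_apply,
        MulAut.inv_apply_self]
    have h1 := key γ γ.2 (hγ tG (mem_sup_left (mem_zpowers tG)))
    have h2 := key (γ * t') (mul_mem γ.2 ht'F) (by
      have := hγ sG (mem_sup_right (mem_zpowers sG))
      rw [Subgroup.mem_subgroupOf] at this
      rw [mul_inv_rev]
      simpa [hsG, hs, mul_assoc] using this)
    rw [MulAut.mul_apply, ht'z, _root_.map_mul, Subgroup.coe_mul] at h2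
    have h3 : ((((γ : MulAut C) (u ^ m)) : C) : Ω) ∈ zpowers z := by
      have := mul_mem (inv_mem h1) h2
      rwa [inv_mul_cancel_left] at this
    have hγ1 : (((γ : MulAut C) z' : C) : Ω) ≠ 1 := fun h => hz1' ((γ : MulAut C).injective
      (by rw [_root_.map_one]; exact Subtype.ext h))
    obtain ⟨q, hq⟩ := natexp (by rw [← SubgroupClass.coe_pow, ← _root_.map_pow, hzp',
        _root_.map_one, OneMemClass.coe_one])
      ((zpowers_le.2 (gen B.zp h1 hγ1)) h3)
    have h4 : u ^ m = z' ^ q := (γ : MulAut C).injective (by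
      rw [_root_.map_pow (γ : MulAut C) z' q]; exact Subtype.ext (by simpa using hq))
    have hump : ((u ^ m : C) : Ω) ∈ zpowers z := by
      rw [h4, SubgroupClass.coe_pow]; exact pow_mem (mem_zpowers z) q
    have hum' : ((u : C) : Ω) ∈ zpowers ((u ^ m : C) : Ω) :=
      gen (z := (u : Ω)) (by rw [← SubgroupClass.coe_pow, hup]; rfl)
        (by rw [SubgroupClass.coe_pow]; exact pow_mem (mem_zpowers _) m)
        (fun h => hum (Subtype.ext h))
    exact huz (zpowers_le.2 hump hum')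
  · -- `t` and `t'` generate an element inverting `z` and commuting with `t`
    obtain ⟨n₀, hn₀⟩ := htn u
    have hn0 : (z' ^ n₀ : C) ≠ 1 := fun h => hut (by rw [hn₀, h, mul_one])
    have hgen₀ : z ∈ zpowers ((z' ^ n₀ : C) : Ω) :=
      gen B.zp (by rw [SubgroupClass.coe_pow]; exact pow_mem (mem_zpowers z) n₀)
        fun h => hn0 (Subtype.ext h)
    have hn0p : ((z' ^ n₀ : C) : Ω) ^ p = 1 := hzpow _
      (by rw [SubgroupClass.coe_pow]; exact pow_mem (mem_zpowers z) n₀) p dvd_rfl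
    obtain ⟨q, hq⟩ := natexp hn0p hgen₀
    have hq' : z' = (z' ^ n₀) ^ q := Subtype.ext hq
    set T := t ^ q with hT
    have hTu : T u = u * z' := by
      rw [hT, pow_apply_shift hn₀ (hzfix t n₀ htz), ← hq']
    have hTz : T z' = z' := pow_apply_fixed htz q
    have hgenu : ((u⁻¹ : C) : Ω) ∈ zpowers ((u ^ m : C) : Ω) := by
      have hh : ((u : C) : Ω) ∈ zpowers ((u ^ m : C) : Ω) :=
        gen (z := (u : Ω)) (by rw [← SubgroupClass.coe_pow, hup]; rfl)
          (by rw [SubgroupClass.coe_pow]; exact pow_mem (mem_zpowers _) m)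
          (fun h => hum (Subtype.ext h))
      exact inv_mem hh
    obtain ⟨l, hl⟩ := natexp (hCp _ (u ^ m).2) hgenu
    have hl' : u⁻¹ = (u ^ m) ^ l := Subtype.ext hl
    set V := t' ^ l with hV
    have hVu : V u = u := pow_apply_fixed ht'u l
    have hVz : V z' = z' * u⁻¹ := by
      rw [hV, pow_apply_shift ht'z (by rw [_root_.map_pow, ht'u]), ← hl']
    set β := T * V * T * (T * V * T) with hβ
    have hTVTz : (T * V * T) z' = u⁻¹ := by
      rw [MulAut.mul_apply, MulAut.mul_apply, hTz, hVz, _root_.map_mul, _root_.map_inv, hTz, hTu,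
        mul_inv_rev, mul_inv_cancel_left]
    have hTVTu : (T * V * T) u = z' := by
      rw [MulAut.mul_apply, MulAut.mul_apply, hTu, _root_.map_mul V, hVu, hVz, mul_comm z',
        mul_inv_cancel_left, hTz]
    have hβz : β z' = z'⁻¹ := by
      rw [hβ, MulAut.mul_apply, hTVTz, _root_.map_inv, hTVTu]
    have hβu : β u = u⁻¹ := by
      rw [hβ, MulAut.mul_apply, hTVTu, hTVTz]
    have hdec : ∀ c : C, ∃ (i f : ℕ) (k₀ : C), t k₀ = k₀ ∧ V k₀ = k₀ ∧
        c = u ^ i * (z' ^ f)⁻¹ * k₀ := by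
      intro c
      obtain ⟨n, hn⟩ := htn c
      obtain ⟨i, hi⟩ := natexp hn0p (zpowers_le.2 hgen₀ (pow_mem (mem_zpowers z) n))
      have hi' : z' ^ n = (z' ^ n₀) ^ i := Subtype.ext hi
      set d := (u ^ i)⁻¹ * c with hd
      have htd : t d = d := by
        rw [hd, _root_.map_mul, _root_.map_inv, _root_.map_pow, hn₀, hn, hi', mul_pow, mul_inv_rev]
        rw [mul_comm ((z' ^ n₀) ^ i)⁻¹, mul_assoc, mul_comm c, inv_mul_cancel_left]
      obtain ⟨e, he⟩ := ht'n d
      obtain ⟨f, hf⟩ : ∃ f : ℕ, V d = d * u ^ f :=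
        ⟨e * l, by rw [hV, pow_apply_shift he (by rw [_root_.map_pow, ht'u]), ← pow_mul]⟩
      refine ⟨i, f, d * z' ^ f, ?_, ?_, ?_⟩
      · rw [_root_.map_mul, htd, _root_.map_pow, htz]
      · rw [_root_.map_mul, hf, _root_.map_pow, hVz, mul_pow, inv_pow, mul_assoc,
          mul_left_comm (u ^ f), mul_inv_cancel, mul_one]
      · rw [mul_assoc, mul_comm d, inv_mul_cancel_left, hd, mul_inv_cancel_left]
    have hβt : ∀ c : C, β (t c) = t (β c) := by
      intro c
      obtain ⟨i, f, k₀, hk₁, hk₂, rfl⟩ := hdec c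
      have hT0 : T k₀ = k₀ := pow_apply_fixed hk₁ q
      have hβk : β k₀ = k₀ := by
        simp only [hβ, MulAut.mul_apply, hT0, hk₂]
      simp only [_root_.map_mul, _root_.map_inv, _root_.map_pow, hn₀, htz, hβz, hβu, hβk, hk₁,
        mul_pow, mul_inv_rev, inv_inv, inv_pow]
      rw [mul_comm ((z' ^ n₀) ^ i)⁻¹]
    have hβF : β ∈ F.autGroup C := by
      have hTF : T ∈ F.autGroup C := pow_mem htF q
      have h := mul_mem (mul_mem hTF (pow_mem ht'F l : V ∈ F.autGroup C)) hTF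
      exact mul_mem h h
    have hcond : ∀ c : C, ((β (t c) : C) : Ω) = w * (β c : C) * w⁻¹ := fun c => by
      rw [hβt c, htv]
    obtain ⟨k', hk', hkC⟩ := ext_aux β hβF w (hP.1 B.hw) hcond
    have hkw : k' w ∈ P := stronglyClosed_apply hP hk' B.hw B.hw
    set d := w⁻¹ * k' w with hd
    have hdC : d ∈ C := by
      refine hmemC.2 ⟨mul_mem (P.inv_mem B.hw) hkw, ?_⟩
      have hb := (β⁻¹ y').2
      have h1 : k' (w * (β⁻¹ y' : C) * w⁻¹) = w * y * w⁻¹ := by
        rw [show w * ((β⁻¹ y' : C) : Ω) * w⁻¹ = ((t (β⁻¹ y') : C) : Ω) from (htv _).symm,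
          hkC _ (t (β⁻¹ y')).2, CfsgLib.Fusion.autFun_coe, hcond, MulAut.apply_inv_self]
      rw [hk'.map_conj B.hw hb.1, hkC _ hb, CfsgLib.Fusion.autFun_coe,
        MulAut.apply_inv_self] at h1
      show w⁻¹ * k' w * y = y * (w⁻¹ * k' w)
      have h2 : k' w * y * (k' w)⁻¹ = w * y * w⁻¹ := h1
      calc w⁻¹ * k' w * y = w⁻¹ * (k' w * y * (k' w)⁻¹) * k' w := by group
        _ = y * (w⁻¹ * k' w) := by rw [h2]; group
    have hkwp : k' w ^ p = w ^ p := by
      rw [show k' w = w * d by rw [hd, mul_inv_cancel_left], hpowmul w B.hw d hdC.1, hCp d hdC,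
        mul_one]
    have h5 : β ⟨w ^ p, hwpC⟩ = ⟨w ^ p, hwpC⟩ := Subtype.ext (by
      rw [← CfsgLib.Fusion.autFun_coe, ← hkC _ hwpC, map_pow hk' B.hw, hkwp])
    have h6 : (⟨w ^ p, hwpC⟩ : C) = z' ^ n₁ := Subtype.ext hn₁
    rw [h6, _root_.map_pow, hβz, inv_pow] at h5
    have h7 : (w ^ p) ^ 2 = 1 := by
      have := congrArg Subtype.val h5
      rw [InvMemClass.coe_inv, SubgroupClass.coe_pow, hz', ← hn₁] at this
      rw [pow_two]
      nth_rw 1 [← this]
      rw [inv_mul_cancel]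
    have h8 := pow_gcd_eq_one.2 ⟨h7, hzpow _ (B.pow w B.hw) p dvd_rfl⟩
    rw [(Nat.coprime_primes Nat.prime_two hp.out).2 (Ne.symm hp2), pow_one] at h8
    exact hw h8

theorem isNormal_of_generalizedExtraspecial (hS : IsPGroup p S) (hF : F.IsSaturated p)
    (hP : F.StronglyClosed P)
    (hge : frattini ↥P = commutator ↥P ∧ Nat.card ↥(commutator ↥P) = p)
    (h2 : p = 2 → ¬ ∃ (A : Type) (_ : CommGroup A), (∀ a : A, a ^ 2 = 1) ∧
      Nonempty (↥P ≃* DihedralGroup 4 × A))
    (hodd : p ≠ 2 → ¬ ∃ (E : Type) (_ : Group E) (A : Type) (_ : CommGroup A),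
      Cfsg.IsExtraspecial p E ∧ Nat.card E = p ^ 3 ∧ Monoid.exponent E = p ∧
        (∀ a : A, a ^ p = 1) ∧ Nonempty (↥P ≃* E × A)) : F.IsNormal P := by
  haveI := finite_of_le hP.1
  have hPp : IsPGroup p P := hS.to_le hP.1
  haveI : IsCyclic (commutator P) := isCyclic_of_prime_card hge.2
  obtain ⟨g₀, hg₀⟩ := IsCyclic.exists_generator (α := commutator P)
  set z : Ω := ((g₀ : P) : Ω) with hz
  have hzp : z ^ p = 1 := by
    have h : g₀ ^ p = 1 := by rw [← hge.2]; exact pow_card_eq_one'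
    simpa [hz] using congrArg (fun e : commutator P => ((e : P) : Ω)) h
  have hcommap : (commutator P).map P.subtype = zpowers z := by
    refine le_antisymm ?_ (zpowers_le.2 ⟨g₀, g₀.2, rfl⟩)
    rintro _ ⟨e, he, rfl⟩
    obtain ⟨i, hi⟩ := mem_zpowers_iff.1 (hg₀ ⟨e, he⟩)
    exact mem_zpowers_iff.2 ⟨i, by
      simpa [hz] using congrArg (fun e : commutator P => ((e : P) : Ω)) hi⟩
  have hcomP : ⁅P, P⁆ = zpowers z := by
    rw [← hcommap, _root_.commutator_def, map_commutator, ← MonoidHom.range_eq_map, range_subtype]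
  have hz1 : z ≠ 1 := fun h => by
    have hb := hcommap
    rw [h, zpowers_one_eq_bot, (map_eq_bot_iff_of_injective _ P.subtype_injective)] at hb
    have := hge.2
    rw [hb, Subgroup.card_bot] at this
    exact hp.out.ne_one this.symm
  have hpow : ∀ x ∈ P, x ^ p ∈ zpowers z := fun x hx => by
    rw [← hcommap, ← hge.1]
    exact ⟨⟨x, hx⟩ ^ p, CfsgLib.Core.pgroup_pow_mem_frattini hPp _, rfl⟩
  by_cases hsc : F.StronglyClosed (zpowers z)
  · have hzP : zpowers z ≤ P := hcommap ▸ map_subtype_le _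
    refine isNormal_of_series hS hF 2 ![⊥, zpowers z, P] rfl rfl ?_ ?_ ?_
    · refine Fin.monotone_iff_le_succ.mpr fun i => ?_
      fin_cases i
      · exact bot_le
      · exact hzP
    · intro i
      fin_cases i
      · exact isNormal_stronglyClosed (isNormal_bot F)
      · exact hsc
      · exact hP
    · intro i
      fin_cases i
      · show ⁅P, zpowers z⁆ ≤ ⊥
        have hab : IsMulCommutative (zpowers z) := inferInstance
        have hn := isNormal_of_abelian_stronglyClosed hS hF hsc hab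
        refine (commutator_eq_bot_iff_le_centralizer.mpr fun v hv e he => ?_).le
        have hcs : ∀ s ∈ S, s * z * s⁻¹ ∈ zpowers z := fun s hs =>
          stronglyClosed_apply hsc (map_conj le_rfl hs) (hsc.1 (mem_zpowers z)) (mem_zpowers z)
        obtain ⟨n, hn'⟩ := natexp hzp (hcs v (hP.1 hv))
        obtain ⟨m, hm⟩ := hS ⟨v, hP.1 hv⟩
        have hoz : orderOf z = p := orderOf_eq_prime hzp hz1
        have hit : ∀ j : ℕ, v ^ j * z * (v ^ j)⁻¹ = z ^ n ^ j := by
          intro j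
          induction j with
          | zero => simp
          | succ j ih =>
            rw [pow_succ v, show v ^ j * v * z * (v ^ j * v)⁻¹ =
              v ^ j * (v * z * v⁻¹) * (v ^ j)⁻¹ by group, hn', ← conj_pow, ih, ← pow_mul,
              ← pow_succ]
        have h3 := hit (p ^ m)
        rw [show v ^ p ^ m = 1 from congrArg Subtype.val hm, inv_one, one_mul, mul_one] at h3
        have h4 : ((n ^ p ^ m : ℕ) : ZMod p) = ((1 : ℕ) : ZMod p) := by
          rw [ZMod.natCast_eq_natCast_iff]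
          have := pow_eq_pow_iff_modEq.1 (show z ^ n ^ p ^ m = z ^ 1 by rw [pow_one]; exact h3.symm)
          rwa [hoz] at this
        rw [Nat.cast_pow, ZMod.pow_card_pow, ZMod.natCast_eq_natCast_iff, ← hoz] at h4
        rw [pow_eq_pow_iff_modEq.2 h4, pow_one] at hn'
        obtain ⟨i, rfl⟩ := mem_zpowers_iff.1 he
        exact ((mul_inv_eq_iff_eq_mul.1 hn' : v * z = z * v).symm |> fun h =>
          (Commute.zpow_left h i).eq)
      · show ⁅P, P⁆ ≤ zpowers z
        exact hcomP.le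
  exfalso
  obtain ⟨z', y, w, a, B, k, hk, hky⟩ := exists_bad hS hF hP hzp hz1 hcomP hpow hsc
  obtain ⟨A, hAp, hAc, ⟨e⟩⟩ := B.exists_split
  haveI : Finite A := Finite.of_injective (fun u => e.symm (1, u)) fun u v h => by
    simpa using congrArg (fun x => (e x).2) h
  -- copies in the smallest universe
  obtain ⟨nA, ⟨eA'⟩⟩ := Finite.exists_equiv_fin A
  let eA : A ≃ Copy nA := eA'
  letI : CommGroup A := { (inferInstance : Group A) with
    mul_comm := fun u v => Subtype.ext (hAc u u.2 v v.2).eq }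
  letI gA : CommGroup (Copy nA) := eA.symm.commGroup
  let mA : A ≃* Copy nA := eA.symm.mulEquiv.symm
  have hA' : ∀ u : Copy nA, u ^ p = 1 := fun u => by
    obtain ⟨v, rfl⟩ := mA.surjective u
    rw [← _root_.map_pow, show v ^ p = 1 from Subtype.ext (hAp v v.2), _root_.map_one]
  rcases eq_or_ne p 2 with rfl | hp2
  · obtain ⟨d⟩ := B.core_dihedral
    exact h2 rfl ⟨Copy nA, gA, hA', ⟨e.trans (MulEquiv.prodCongr d mA)⟩⟩
  by_cases hw : w ^ p = 1
  · haveI : Finite (Bad.core z' y w) :=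
      Finite.of_injective (inclusion B.core_le) (inclusion_injective _)
    obtain ⟨nE, ⟨eE'⟩⟩ := Finite.exists_equiv_fin (Bad.core z' y w)
    let eE : Bad.core z' y w ≃ Copy nE := eE'
    letI gE : Group (Copy nE) := eE.symm.group
    let mE : Bad.core z' y w ≃* Copy nE := eE.symm.mulEquiv.symm
    refine hodd hp2 ⟨Copy nE, gE, Copy nA, gA, ?_, ?_, ?_, hA',
      ⟨e.trans (MulEquiv.prodCongr mE mA)⟩⟩
    · exact CfsgLib.GenExtraspecial.isExtraspecial_equiv mE (B.core_extraspecial hPp)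
    · rw [← Nat.card_congr mE.toEquiv, B.card_core]
    · rw [← Monoid.exponent_eq_of_mulEquiv mE, B.core_exponent hp2 hw]
  · exact false_of_bad hS hF hP B hp2 hw hk hky

end CfsgLib.GenExtraspecial
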