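import Mathlib
import Cfsg.Agent.Lib.StableThompson
import Cfsg.Agent.Lib.StableBridge
import Cfsg.Agent.Lib.LocalSFour
import Cfsg.Agent.Lib.CoreOmega
import Cfsg.Agent.Lib.LocalPGVMain

/-!
# Thompson's normal complement theorem with abelian subgroups of maximal order
-/

set_option autoImplicit false

universe u

namespace CfsgLib.Local.ThompsonA

open scoped Pointwise
open CfsgLib.Core CfsgLib.Stable CfsgLib.Local.PGV

/-- An element of odd order centralising the involutions of an abelian 2-group centralises it. -/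
theorem centralizes_of_fixes_involutions {X : Type*} [Group X] [Finite X] {W : Subgroup X}
    (hWp : IsPGroup 2 ↥W) (hWc : ∀ a ∈ W, ∀ b ∈ W, a * b = b * a) {g : X}
    (hg : g ∈ Subgroup.normalizer (W : Set X)) (hgc : (orderOf g).Coprime 2)
    (hfix : ∀ x ∈ W, x * x = 1 → g * x * g⁻¹ = x) : g ∈ Subgroup.centralizer (W : Set X) := by
  haveI : Fact (Nat.Prime 2) := ⟨Nat.prime_two⟩
  refine mem_centralizer_of_fixes_omega hWp hg hgc fun x hx hor => ?_
  rcases hor with h2 | ⟨-, h4⟩
  · exact hfix x hx (by rw [← pow_two, h2])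
  set y := g * x * g⁻¹ * x⁻¹ with hy
  have hgx : g * x * g⁻¹ ∈ W := (Subgroup.mem_normalizer_iff.1 hg x).1 hx
  have hyW : y ∈ W := W.mul_mem hgx (W.inv_mem hx)
  have hx2 : g * x * g⁻¹ * (g * x * g⁻¹) = x * x := by
    rw [← hfix (x * x) (W.mul_mem hx hx) (by rw [← h4]; simp [pow_succ, mul_assoc])]
    group
  have hyy : y * y = 1 := by
    calc y * y = g * x * g⁻¹ * (x⁻¹ * (g * x * g⁻¹)) * x⁻¹ := by rw [hy]; group
      _ = g * x * g⁻¹ * (g * x * g⁻¹ * x⁻¹) * x⁻¹ := by rw [hWc _ (W.inv_mem hx) _ hgx]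
      _ = g * x * g⁻¹ * (g * x * g⁻¹) * (x⁻¹ * x⁻¹) := by group
      _ = 1 := by rw [hx2]; group
  have hgy : g * y * g⁻¹ = y := hfix y hyW hyy
  have hgx' : g * x * g⁻¹ = y * x := by rw [hy, inv_mul_cancel_right]
  have hpow : ∀ i : ℕ, g ^ i * x * (g ^ i)⁻¹ = y ^ i * x := by
    intro i
    induction i with
    | zero => simp
    | succ i ih =>
      calc g ^ (i + 1) * x * (g ^ (i + 1))⁻¹ = g * (g ^ i * x * (g ^ i)⁻¹) * g⁻¹ := by
            rw [pow_succ']; group
        _ = g * (y ^ i * x) * g⁻¹ := by rw [ih]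
        _ = (g * y * g⁻¹) ^ i * (g * x * g⁻¹) := by rw [conj_pow]; group
        _ = y ^ (i + 1) * x := by rw [hgy, hgx', ← mul_assoc, ← pow_succ]
  have h := hpow (orderOf g)
  rw [pow_orderOf_eq_one, one_mul, inv_one, mul_one] at h
  have hyo : orderOf y ∣ orderOf g := orderOf_dvd_of_pow_eq_one (mul_right_cancel
    (show y ^ orderOf g * x = 1 * x by rw [one_mul, ← h]))
  have h1 : orderOf y = 1 := Nat.eq_one_of_dvd_coprimes hgc hyo
    (orderOf_dvd_of_pow_eq_one (by rw [pow_two, hyy]))
  rw [hgx', orderOf_eq_one_iff.1 h1, one_mul]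

section Two

variable {X : Type u} [Group X] [Finite X]

/-- The reduced case at the prime 2 in a group without section `S₄`. -/
theorem final_two {G₀ : Type u} [Group G₀] (hS4 : ¬ Cfsg.Involves (Equiv.Perm (Fin 4)) G₀)
    (hsec : IsSec X G₀) (S : Sylow 2 X)
    (h1 : Cfsg.HasNormalPComplement 2 ↥(Subgroup.normalizer (Jsub 0 (S : Subgroup X) : Set X)))
    (h2 : Cfsg.HasNormalPComplement 2 ↥(Subgroup.centralizer
      (((S : Subgroup X) ⊓ Subgroup.centralizer ((S : Subgroup X) : Set X) : Subgroup X) : Set X)))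
    (hco : IsCoatom (S : Subgroup X))
    (hC : Subgroup.centralizer (Cfsg.pCore 2 X : Set X) ≤ Cfsg.pCore 2 X)
    (hQ : Cfsg.HasNormalPComplement 2 (X ⧸ Cfsg.pCore 2 X)) :
    Cfsg.HasNormalPComplement 2 X := by
  classical
  haveI : Fact (Nat.Prime 2) := ⟨Nat.prime_two⟩
  haveI := CfsgLib.Core.normal_pCore (G := X) 2
  set O := Cfsg.pCore 2 X with hO
  have hOp : IsPGroup 2 ↥O := CfsgLib.Core.isPGroup_pCore 2
  have hOS : O ≤ (S : Subgroup X) := CfsgLib.Core.pCore_le_sylow S
  set Zs := (S : Subgroup X) ⊓ Subgroup.centralizer ((S : Subgroup X) : Set X) with hZs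
  by_cases hCtop : Subgroup.centralizer (Zs : Set X) = ⊤
  · rw [hCtop] at h2; exact npc_top h2
  have hCZS : Subgroup.centralizer (Zs : Set X) = (S : Subgroup X) := by
    have hSC : (S : Subgroup X) ≤ Subgroup.centralizer (Zs : Set X) := fun s hs => by
      rw [Subgroup.mem_centralizer_iff]
      exact fun z hz => (Subgroup.mem_centralizer_iff.1 hz.2 s hs).symm
    rcases eq_or_lt_of_le hSC with h | h
    · exact h.symm
    · exact absurd (hco.2 _ h) hCtop
  -- the normal closure of the centre of `S`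
  set W := Subgroup.normalClosure (Zs : Set X) with hW
  have hWn : W.Normal := Subgroup.normalClosure_normal
  set ZO := O ⊓ Subgroup.centralizer (O : Set X) with hZO
  have hWZ : W ≤ ZO := by
    refine Subgroup.normalClosure_le_normal fun z hz => ?_
    have h : z ∈ Subgroup.centralizer (O : Set X) :=
      Subgroup.centralizer_le (fun o ho => hOS ho) hz.2
    exact ⟨hC h, h⟩
  have hWc : ∀ a ∈ W, ∀ b ∈ W, a * b = b * a := fun a ha b hb =>
    Subgroup.mem_centralizer_iff.1 (hWZ hb).2 a (hWZ ha).1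
  have hWp : IsPGroup 2 ↥W := hOp.to_le (hWZ.trans inf_le_left)
  have hWS : W ≤ (S : Subgroup X) := hWZ.trans (inf_le_left.trans hOS)
  have hCW : Subgroup.centralizer (W : Set X) = O := by
    refine le_antisymm ?_ ?_
    · refine CfsgLib.Core.le_pCore inferInstance (S.2.to_le ?_)
      exact (Subgroup.centralizer_le (Subgroup.subset_normalClosure)).trans hCZS.le
    · intro o ho
      rw [Subgroup.mem_centralizer_iff]
      exact fun w hw => (Subgroup.mem_centralizer_iff.1 (hWZ hw).2 o ho).symm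
  by_cases hJ : Jsub 0 (S : Subgroup X) ≤ O
  · -- `J(S) = J(O)` is normal
    have hJeq : Jsub 0 (S : Subgroup X) = Jsub 0 O := by
      obtain ⟨A₀, hA₀⟩ := exists_isMax 0 (S : Subgroup X)
      have hA₀O : A₀ ≤ O := (isMax_le_Jsub hA₀).trans hJ
      refine le_antisymm (sSup_le fun A hA => isMax_le_Jsub
        ⟨(isMax_le_Jsub hA).trans hJ, hA.2.1, fun B hB hB' => hA.2.2 B (hB.trans hOS) hB'⟩)
        (sSup_le fun A hA => isMax_le_Jsub ⟨hA.1.trans hOS, hA.2.1, fun B hB hB' => ?_⟩)
      exact (hA₀.2.2 B hB hB').trans (hA.2.2 A₀ hA₀O hA₀.2.1)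
    have hn : Subgroup.normalizer (Jsub 0 (S : Subgroup X) : Set X) = ⊤ := by
      rw [hJeq, eq_top_iff, ← Subgroup.normalizer_eq_top (H := O)]
      exact normalizer_le_Jsub 0 O
    rw [hn] at h1
    exact npc_top h1
  exfalso
  obtain ⟨A, hA, hAO⟩ : ∃ A, IsMax 0 (S : Subgroup X) A ∧ ¬ A ≤ O := by
    by_contra h
    push_neg at h
    exact hJ (sSup_le h)
  -- the quotient
  set f := QuotientGroup.mk' O with hf
  have hfs : Function.Surjective f := QuotientGroup.mk'_surjective O
  have hfk : f.ker = O := QuotientGroup.ker_mk' O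
  obtain ⟨Mb, hMb, hMbc, j, hj⟩ := CfsgLib.Core.hasNormalPComplement_iff.1 hQ
  haveI := hMb
  set Sb := (S.mapSurjective hfs : Sylow 2 (X ⧸ O)) with hSb
  have hsup : Mb ⊔ (Sb : Subgroup (X ⧸ O)) = ⊤ := by
    rw [← Subgroup.index_eq_one]
    refine Nat.eq_one_of_dvd_coprimes ((Nat.prime_two.coprime_iff_not_dvd.2 Sb.not_dvd_index).pow_left j)
      (hj ▸ Subgroup.index_dvd_of_le (le_sup_left : Mb ≤ Mb ⊔ (Sb : Subgroup (X ⧸ O))))
      (Subgroup.index_dvd_of_le le_sup_right)
  have hcore : ∀ N : Subgroup (X ⧸ O), N.Normal → IsPGroup 2 ↥N → N = ⊥ := by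
    intro N hN hNp
    have hle : N.comap f ≤ O := CfsgLib.Core.le_pCore (hN.comap f)
      (hNp.comap_of_ker_isPGroup f (hfk.symm ▸ hOp))
    rw [← Subgroup.map_comap_eq_self_of_surjective hfs N, eq_bot_iff]
    refine (Subgroup.map_mono hle).trans ?_
    rw [QuotientGroup.map_mk'_self]
  -- 2-elements centralising `Mb` are trivial
  have hZbot : (Sb : Subgroup (X ⧸ O)) ⊓ Subgroup.centralizer (Mb : Set (X ⧸ O)) = ⊥ := by
    refine hcore _ (Subgroup.normalizer_eq_top_iff.1 (eq_top_iff.2 ?_)) (Sb.2.to_le inf_le_left)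
    rw [← hsup]
    refine sup_le (fun m hm => ?_) (fun s hs => ?_)
    · refine Subgroup.centralizer_le_normalizer _ ?_
      rw [Subgroup.mem_centralizer_iff]
      exact fun z hz => (Subgroup.mem_centralizer_iff.1 hz.2 m hm).symm
    · refine mem_normalizer_of_map_eq fun z hz => ⟨Subgroup.mul_mem _ (Subgroup.mul_mem _ hs hz.1) (inv_mem hs), ?_⟩
      exact Subgroup.Normal.conj_mem (inferInstance : (Subgroup.centralizer (Mb : Set (X ⧸ O))).Normal) z hz.2 s
  -- the involutions of `W`
  let W₁ : Subgroup X :=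
    { carrier := {x | x ∈ W ∧ x * x = 1}
      mul_mem' := fun {a b} ha hb => ⟨W.mul_mem ha.1 hb.1, by
        rw [mul_assoc, ← mul_assoc b a b, hWc b hb.1 a ha.1, mul_assoc a b b, hb.2, mul_one, ha.2]⟩
      one_mem' := ⟨W.one_mem, one_mul 1⟩
      inv_mem' := fun {a} ha => ⟨W.inv_mem ha.1, by rw [← mul_inv_rev, ha.2, inv_one]⟩ }
  have hW₁W : W₁ ≤ W := fun x hx => hx.1
  haveI hW₁n : W₁.Normal := ⟨fun x hx g => ⟨hWn.conj_mem x hx.1 g, by
    rw [show g * x * g⁻¹ * (g * x * g⁻¹) = g * (x * x) * g⁻¹ by group, hx.2, mul_one, mul_inv_cancel]⟩⟩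
  letI : CommGroup ↥W₁ :=
    { (inferInstance : Group ↥W₁) with
      mul_comm := fun a b => Subtype.ext (hWc a a.2.1 b b.2.1) }
  letI : Module (ZMod 2) (Additive ↥W₁) := AddCommGroup.zmodModule (fun x => by
    rw [two_nsmul]; exact Subtype.ext (Additive.toMul x).2.2)
  let ρ₀ : Representation (ZMod 2) X (Additive ↥W₁) :=
    { toFun := fun g => AddMonoidHom.toZModLinearMap 2
        (MonoidHom.toAdditive (MulAut.conjNormal g : MulAut ↥W₁).toMonoidHom)
      map_one' := LinearMap.ext fun v => congrArg Additive.ofMul (Subtype.ext (by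
        show (1 : X) * ((Additive.toMul v : ↥W₁) : X) * 1⁻¹ = ((Additive.toMul v : ↥W₁) : X)
        group))
      map_mul' := fun g h => LinearMap.ext fun v => congrArg Additive.ofMul (Subtype.ext (by
        show g * h * ((Additive.toMul v : ↥W₁) : X) * (g * h)⁻¹ =
          g * (h * ((Additive.toMul v : ↥W₁) : X) * h⁻¹) * g⁻¹
        group)) }
  have hρ₀ : ∀ (g : X) (v : Additive ↥W₁),
      ((Additive.toMul (ρ₀ g v) : ↥W₁) : X) = g * ((Additive.toMul v : ↥W₁) : X) * g⁻¹ :=
    fun g v => MulAut.conjNormal_apply g (Additive.toMul v)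
  have hO₁ : O ≤ MonoidHom.ker ρ₀ := by
    intro o ho
    rw [MonoidHom.mem_ker]
    refine LinearMap.ext fun v => Additive.toMul.injective (Subtype.ext ?_)
    rw [hρ₀]
    have h : o ∈ Subgroup.centralizer (W : Set X) := hCW.ge ho
    rw [← Subgroup.mem_centralizer_iff.1 h _ (hW₁W (Additive.toMul v).2), mul_inv_cancel_right]
    rfl
  let ρ : Representation (ZMod 2) (X ⧸ O) (Additive ↥W₁) := QuotientGroup.lift O ρ₀ hO₁
  have hρ : ∀ (g : X) (v : Additive ↥W₁), ρ (f g) v = ρ₀ g v := fun g v => rfl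
  -- faithfulness
  have hinjρ : Function.Injective ρ := by
    set C₁ := Subgroup.centralizer (W₁ : Set X) with hC₁
    have hC₁M : C₁.map f ⊓ Mb = ⊥ := by
      rw [eq_bot_iff]
      rintro _ ⟨⟨x, hx, rfl⟩, hm⟩
      set a := orderOf x with ha
      obtain ⟨e, r, hr, hxr⟩ := Nat.exists_eq_pow_mul_and_not_dvd (orderOf_pos x).ne' 2 (by norm_num)
      have hy : orderOf (x ^ 2 ^ e) = r := by
        rw [orderOf_pow, hxr, Nat.gcd_mul_right_left, Nat.mul_div_cancel_left _ (by positivity)]
      have hyW : x ^ 2 ^ e ∈ Subgroup.centralizer (W : Set X) := by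
        refine centralizes_of_fixes_involutions hWp hWc
          (by rw [Subgroup.normalizer_eq_top]; exact Subgroup.mem_top _)
          (by rw [hy]; exact (Nat.prime_two.coprime_iff_not_dvd.2 hr).symm) fun w hw hw2 => ?_
        have h := Subgroup.mem_centralizer_iff.1 (C₁.pow_mem hx (2 ^ e)) w ⟨hw, hw2⟩
        rw [← h, mul_inv_cancel_right]
      rw [hCW, ← hfk, MonoidHom.mem_ker, map_pow] at hyW
      refine Subgroup.mem_bot.2 (orderOf_eq_one_iff.1 (Nat.eq_one_of_dvd_coprimes
        (hMbc.pow_right e) ?_ (orderOf_dvd_of_pow_eq_one hyW)))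
      have := orderOf_dvd_natCard (⟨f x, hm⟩ : Mb)
      rwa [← Subgroup.orderOf_coe] at this
    haveI hC₁n : (C₁.map f).Normal := (inferInstance : C₁.Normal).map f hfs
    have hC₁bot : C₁.map f = ⊥ := by
      refine hcore _ hC₁n ?_
      have hdvd : Nat.card ↥(C₁.map f) ∣ 2 ^ j := by
        have h := card_sup_of_disjoint (A := C₁.map f) (K := Mb)
          (by rw [Subgroup.normalizer_eq_top]; exact le_top) hC₁M
        have h' := Subgroup.card_subgroup_dvd_card (C₁.map f ⊔ Mb)
        rw [h, ← Subgroup.card_mul_index Mb, hj, mul_comm] at h'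
        exact Nat.dvd_of_mul_dvd_mul_left Nat.card_pos h'
      obtain ⟨i, -, hi⟩ := (Nat.dvd_prime_pow Nat.prime_two).1 hdvd
      exact IsPGroup.of_card hi
    refine (injective_iff_map_eq_one ρ).2 fun y hy => ?_
    obtain ⟨g, rfl⟩ := hfs y
    have hg : g ∈ C₁ := by
      rw [hC₁, Subgroup.mem_centralizer_iff]
      intro w hw
      have h : ρ₀ g (Additive.ofMul ⟨w, hw⟩) = Additive.ofMul ⟨w, hw⟩ := by
        rw [← hρ, hy]; rfl
      have h' := hρ₀ g (Additive.ofMul ⟨w, hw⟩)
      rw [h] at h'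
      have h'' : w = g * w * g⁻¹ := h'
      calc w * g = g * w * g⁻¹ * g := by rw [← h'']
        _ = g * w := inv_mul_cancel_right _ _
    have : f g ∈ C₁.map f := ⟨g, hg, rfl⟩
    rw [hC₁bot, Subgroup.mem_bot] at this
    exact this
  -- the offender
  set Ab := A.map f with hAb
  have hAb1 : Ab ≠ ⊥ := fun e => hAO (by rw [← hfk]; exact (Subgroup.map_eq_bot_iff A).1 e)
  have hAab : ∀ a ∈ Ab, ∀ b ∈ Ab, a * b = b * a := (isAb_map hA.2.1 f).1
  have hAbS : Ab ≤ (Sb : Subgroup (X ⧸ O)) := by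
    rw [hSb, Sylow.coe_mapSurjective]; exact Subgroup.map_mono hA.1
  have hcent : ∀ a ∈ Ab, (∀ m ∈ Mb, a * m = m * a) → a = 1 := fun a ha h => by
    have : a ∈ (Sb : Subgroup (X ⧸ O)) ⊓ Subgroup.centralizer (Mb : Set (X ⧸ O)) :=
      ⟨hAbS ha, Subgroup.mem_centralizer_iff.2 fun m hm => (h m hm).symm⟩
    rwa [hZbot, Subgroup.mem_bot] at this
  have hWA : Nat.card ↥W ≤ Nat.card ↥Ab * Nat.card ↥(W ⊓ Subgroup.centralizer (A : Set X)) := by
    set B := A ⊓ O with hB
    have hWB : ∀ w ∈ W, ∀ b ∈ B, w * b = b * w := fun w hw b hb =>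
      (Subgroup.mem_centralizer_iff.1 (hWZ hw).2 b hb.2).symm
    have hBW : B ≤ Subgroup.normalizer (W : Set X) := by
      rw [Subgroup.normalizer_eq_top]; exact le_top
    have hab : IsAb 0 (B ⊔ W) := by
      refine ⟨?_, fun a _ => pow_zero a⟩
      have hcl : B ⊔ W = Subgroup.closure ((B : Set X) ∪ W) := by
        rw [Subgroup.closure_union, Subgroup.closure_eq, Subgroup.closure_eq]
      have hcomm : ∀ a ∈ ((B : Set X) ∪ W), ∀ b ∈ ((B : Set X) ∪ W), a * b = b * a := by
        rintro a (ha | ha) b (hb | hb)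
        · exact hA.2.1.1 a ha.1 b hb.1
        · exact (hWB b hb a ha).symm
        · exact hWB a ha b hb
        · exact hWc a ha b hb
      intro a ha b hb
      rw [hcl] at ha hb
      exact (Subgroup.isMulCommutative_closure hcomm).is_comm.comm ⟨a, ha⟩ ⟨b, hb⟩ |> congrArg Subtype.val
    have hcard := hA.2.2 (B ⊔ W) (sup_le (inf_le_left.trans hA.1) hWS) hab
    have h3 := card_sup_mul_card_inf hBW
    have h4 : Nat.card ↥(B ⊓ W) ≤ Nat.card ↥(W ⊓ Subgroup.centralizer (A : Set X)) := by
      refine Subgroup.card_le_of_le fun x hx => ⟨hx.2, ?_⟩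
      show x ∈ Subgroup.centralizer (A : Set X)
      rw [Subgroup.mem_centralizer_iff]
      exact fun a ha => hA.2.1.1 a ha x hx.1.1
    have h5 : Nat.card ↥Ab * Nat.card ↥B = Nat.card ↥A := by
      have h := CfsgLib.Local.PGV.card_map_mul_card_inf f A
      rwa [hfk] at h
    refine Nat.le_of_mul_le_mul_left ?_ (Nat.card_pos (α := ↥B))
    calc Nat.card ↥B * Nat.card ↥W = Nat.card ↥(B ⊔ W) * Nat.card ↥(B ⊓ W) := h3.symm
      _ ≤ Nat.card ↥A * Nat.card ↥(W ⊓ Subgroup.centralizer (A : Set X)) := Nat.mul_le_mul hcard h4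
      _ = _ := by rw [← h5]; ring
  have hW₁A : Nat.card ↥W₁ ≤ Nat.card ↥Ab * Nat.card ↥(W₁ ⊓ Subgroup.centralizer (A : Set X)) := by
    set CA := W ⊓ Subgroup.centralizer (A : Set X) with hCA
    have h3 := card_sup_mul_card_inf (A := W₁) (K := CA) (by
      intro w hw
      refine Subgroup.centralizer_le_normalizer _ ?_
      rw [Subgroup.mem_centralizer_iff]
      exact fun c hc => hWc c hc.1 w hw.1)
    have h4 : Nat.card ↥(W₁ ⊔ CA) ≤ Nat.card ↥W :=
      Subgroup.card_le_of_le (sup_le hW₁W inf_le_left)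
    have h5 : W₁ ⊓ CA = W₁ ⊓ Subgroup.centralizer (A : Set X) := by
      rw [hCA, ← inf_assoc, inf_eq_left.2 hW₁W]
    rw [h5] at h3
    refine Nat.le_of_mul_le_mul_right ?_ (Nat.card_pos (α := ↥CA))
    calc Nat.card ↥W₁ * Nat.card ↥CA
        = Nat.card ↥(W₁ ⊔ CA) * Nat.card ↥(W₁ ⊓ Subgroup.centralizer (A : Set X)) := h3.symm
      _ ≤ Nat.card ↥W * Nat.card ↥(W₁ ⊓ Subgroup.centralizer (A : Set X)) := Nat.mul_le_mul_right _ h4
      _ ≤ (Nat.card ↥Ab * Nat.card ↥CA) * Nat.card ↥(W₁ ⊓ Subgroup.centralizer (A : Set X)) :=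
          Nat.mul_le_mul_right _ hWA
      _ = _ := by ring
  have hfix : Nat.card ↥(W₁ ⊓ Subgroup.centralizer (A : Set X)) ≤
      Nat.card ↥(fixSet ρ (Ab : Set (X ⧸ O))) := by
    refine Nat.card_le_card_of_injective (fun w => ⟨Additive.ofMul (⟨w.1, w.2.1⟩ : ↥W₁), (mem_fixSet ρ).2 ?_⟩) ?_
    · rintro _ ⟨a, ha, rfl⟩
      rw [hρ]
      refine Additive.toMul.injective (Subtype.ext ?_)
      rw [hρ₀]
      show a * (w : X) * a⁻¹ = (w : X)
      rw [Subgroup.mem_centralizer_iff.1 w.2.2 a ha, mul_inv_cancel_right]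
    · intro a b h
      exact Subtype.ext (congrArg (fun z : ↥(fixSet ρ (Ab : Set (X ⧸ O))) =>
        ((Additive.toMul (z : Additive ↥W₁) : ↥W₁) : X)) h)
  obtain ⟨t, k, ht, hk1, hk3, htk, hr⟩ := Offender.exists_sl_two ρ hinjρ Mb
    (Nat.coprime_two_right.1 hMbc) Ab hAab (Sb.2.to_le hAbS) hcent hAb1
    ((hW₁A.trans (Nat.mul_le_mul_left _ hfix)).trans' (le_of_eq (Nat.card_congr Additive.toMul)))
  -- the four group
  set R := (comm ρ k).range with hR
  set V₀ := (AddSubgroup.toSubgroup' R).map W₁.subtype with hV₀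
  have hV₀c : Nat.card ↥V₀ = 4 := by
    rw [hV₀, Subgroup.card_map_of_injective W₁.subtype_injective, ← hr]
    exact Nat.card_congr (Equiv.subtypeEquiv Additive.ofMul fun x => Iff.rfl)
  have hOV : O ≤ Subgroup.centralizer (V₀ : Set X) := by
    rw [← hCW]
    exact Subgroup.centralizer_le fun v hv => hW₁W (Subgroup.map_subtype_le _ hv)
  have hmem : ∀ x : X, (∀ u ∈ R, ρ₀ x u ∈ R) → x ∈ Subgroup.normalizer (V₀ : Set X) := by
    intro x hx
    refine mem_normalizer_of_map_eq ?_
    rintro _ ⟨v, hv, rfl⟩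
    exact ⟨Additive.toMul (ρ₀ x (Additive.ofMul v)), hx _ hv, hρ₀ x _⟩
  refine hS4 (SFour.involves_of_action hsec O hOp V₀ hV₀c hOV ht hk1 hk3 htk ?_ ?_)
  · intro x hx
    refine hmem x ?_
    rintro _ ⟨w, rfl⟩
    rw [← hρ]
    rcases hx with hx | hx
    · refine ⟨ρ k w, ?_⟩
      show ρ k (ρ k w) - ρ k w = ρ (f x) (ρ k w - w)
      rw [show f x = k from hx, map_sub]
    · refine ⟨-(ρ (k⁻¹ * t) w), ?_⟩
      show ρ k (-(ρ (k⁻¹ * t) w)) - -(ρ (k⁻¹ * t) w) = ρ (f x) (ρ k w - w)
      have htk2 : t * k = k⁻¹ * t := by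
        rw [← htk, mul_assoc (t * k) t t, ht, mul_one]
      rw [show f x = t from hx, map_sub, map_neg, sub_neg_eq_add, neg_add_eq_sub, ← rho_mul,
        mul_inv_cancel_left, ← rho_mul, ← htk2]
  · intro x hx v hv hxv
    obtain ⟨u, hu, rfl⟩ := hv
    obtain ⟨w, hw⟩ := hu
    have h1 : ρ k (Additive.ofMul u) = Additive.ofMul u := by
      rw [← show f x = k from hx, hρ]
      refine Additive.toMul.injective (Subtype.ext ?_)
      rw [hρ₀]
      show x * (u : X) * x⁻¹ = (u : X)
      rw [show x * (u : X) = (u : X) * x from hxv, mul_inv_cancel_right]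
    have hkc : (orderOf k).Coprime 2 := by
      rw [orderOf_eq_prime hk3 hk1]; norm_num
    have hw' : ρ k w - w = Additive.ofMul u := hw
    rw [← hw'] at h1
    rw [fixed_of_sub_fixed ρ hkc h1, sub_self] at hw'
    have : u = 1 := Additive.ofMul.injective hw'.symm
    rw [this]; rfl

end Two

section Thompson

variable {G : Type u} [Group G] [Finite G] {p : ℕ} [hp : Fact p.Prime]

theorem Jsub_ne_bot' {e : ℕ} (he : e = 0 ∨ e = p) {D : Subgroup G} (hD : IsPGroup p D)
    (h1 : D ≠ ⊥) : Jsub e D ≠ ⊥ := fun h =>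
  Zsub_ne_bot he hD h1 (le_bot_iff.1 (inf_le_left.trans h.le))

/-- Thompson's normal `p`-complement theorem. -/
theorem npc_of_thompsonA {e : ℕ} (he : e = 0 ∨ e = p)
    (hcase : p ≠ 2 ∨ (e = 0 ∧ ¬ Cfsg.Involves (Equiv.Perm (Fin 4)) G)) (S : Sylow p G)
    (h1 : Cfsg.HasNormalPComplement p ↥(Subgroup.normalizer (Jsub e (S : Subgroup G) : Set G)))
    (h2 : Cfsg.HasNormalPComplement p ↥(Subgroup.centralizer
      (((S : Subgroup G) ⊓ Subgroup.centralizer ((S : Subgroup G) : Set G) : Subgroup G) : Set G))) :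
    Cfsg.HasNormalPComplement p G := by
  refine complement_induction (G₀ := G) (fun X _ S =>
    Cfsg.HasNormalPComplement p ↥(Subgroup.normalizer (Jsub e S : Set X)) ∧
    Cfsg.HasNormalPComplement p ↥(Subgroup.centralizer
      ((S ⊓ Subgroup.centralizer (S : Set X) : Subgroup X) : Set X))) ?_ ?_ ?_ ?_ ?_ S ⟨h1, h2⟩
  · rintro X _ _ S K hSK ⟨h1, h2⟩
    have hinj := Set.injOn_of_injective (s := ((S : Subgroup X).subgroupOf K : Set K))
      K.subtype_injective
    refine ⟨npc_normalizer_of_injective K.subtype K.subtype_injective _ ?_,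
      npc_centralizer_of_injective K.subtype K.subtype_injective _ ?_⟩
    · rwa [map_Jsub e _ _ hinj, Subgroup.map_subgroupOf_eq_of_le hSK]
    · rwa [map_inf_centralizer _ _ hinj, Subgroup.map_subgroupOf_eq_of_le hSK]
  · rintro X _ _ S U T ⟨-, h2⟩ hUp hU1 hUT hTS hbig
    set T' := (T : Subgroup ↥(Subgroup.normalizer (U : Set X))).map
      (Subgroup.normalizer (U : Set X)).subtype with hT'
    have hinj := Set.injOn_of_injective
      (s := ((T : Subgroup ↥(Subgroup.normalizer (U : Set X))) : Set _))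
      (Subgroup.normalizer (U : Set X)).subtype_injective
    refine ⟨npc_normalizer_of_injective _ (Subgroup.subtype_injective _) _ ?_,
      npc_centralizer_of_injective _ (Subgroup.subtype_injective _) _ ?_⟩
    · rw [map_Jsub e _ _ hinj, ← hT']
      obtain ⟨R, hRp, hRT, -, hlt⟩ := exists_bigger hTS S.2
      have hT'p : IsPGroup p T' := S.2.to_le hTS.le
      refine hbig _ R (hT'p.to_le (Jsub_le e T'))
        (Jsub_ne_bot' he hT'p fun e => hU1 (le_bot_iff.1 (e ▸ hUT))) hRp
        (hRT.trans (normalizer_le_Jsub e T')) ?_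
      rwa [hT', Subgroup.card_map_of_injective (Subgroup.subtype_injective _)] at hlt
    · rw [map_inf_centralizer _ _ hinj, ← hT']
      refine npc_of_le (Subgroup.centralizer_le ?_) h2
      intro z hz
      have hzC : ∀ s ∈ (S : Subgroup X), s * z = z * s := Subgroup.mem_centralizer_iff.1 hz.2
      have hzN : z ∈ Subgroup.normalizer (U : Set X) := by
        refine mem_normalizer_of_map_eq fun u hu => ?_
        rw [← hzC u (hTS.le (hUT hu)), mul_inv_cancel_right]
        exact hu
      have hle : (T : Subgroup ↥(Subgroup.normalizer (U : Set X))) ≤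
          (S : Subgroup X).subgroupOf (Subgroup.normalizer (U : Set X)) :=
        fun y hy => hTS.le ⟨y, hy, rfl⟩
      have h5 := T.3 (S.2.comap_of_injective (Subgroup.normalizer (U : Set X)).subtype
        (Subgroup.subtype_injective _)) hle
      refine ⟨⟨⟨z, hzN⟩, ?_, rfl⟩, ?_⟩
      · rw [SetLike.mem_coe, ← h5]; exact hz.1
      · show z ∈ Subgroup.centralizer (T' : Set X)
        rw [Subgroup.mem_centralizer_iff]
        exact fun t ht => hzC t (hTS.le ht)
  · rintro X _ _ S N _ hN ⟨h1, h2⟩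
    have hker : (Nat.card (QuotientGroup.mk' N).ker).Coprime p := by
      rw [QuotientGroup.ker_mk']; exact hN
    have hinj := injOn_of_coprime_ker _ hker S.2
    refine ⟨?_, ?_⟩
    · rw [← map_Jsub e _ _ hinj, normalizer_map_eq _ (QuotientGroup.mk'_surjective N) hker
        (S.2.to_le (Jsub_le e _))]
      exact npc_map _ h1
    · rw [← map_inf_centralizer _ _ hinj]
      exact npc_of_le (centralizer_map_le _ (QuotientGroup.mk'_surjective N) hker
        (S.2.to_le inf_le_left)) (npc_map _ h2)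
  · intro X _ _ S U _ hU _ hS1 _ hproper
    have hp' : IsPGroup p ((S : Subgroup X).map (QuotientGroup.mk' U)) := S.2.map _
    refine ⟨npc_normalizer_quotient hU hproper (hp'.to_le (Jsub_le e _)) (Jsub_ne_bot' he hp' hS1)
      (Subgroup.le_normalizer.trans (normalizer_le_Jsub e _)), ?_⟩
    refine npc_of_le (Subgroup.centralizer_le_normalizer _)
      (npc_normalizer_quotient hU hproper (hp'.to_le inf_le_left)
        (inf_centralizer_ne_bot hp' hS1) ?_)
    intro s hs
    refine mem_normalizer_of_map_eq fun x hx => ?_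
    rw [Subgroup.mem_centralizer_iff.1 hx.2 s hs, mul_inv_cancel_right]
    exact hx
  · rintro X _ _ S hsec ⟨h1, h2⟩ hco - hC hQ
    by_cases hodd : p ≠ 2
    swap
    · rw [not_not] at hodd
      subst hodd
      obtain ⟨rfl, hS4⟩ := hcase.resolve_left (fun h => h rfl)
      exact final_two hS4 hsec S h1 h2 hco hC hQ
    have hst := stab_of_hasSeries hodd (hasSeries_of_reduced hQ S hco)
    have hZn : (Zsub e (S : Subgroup X)).Normal :=
      Zsub_normal hodd he hst hC S (sclosed_self _)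
    haveI := hZn
    haveI := CfsgLib.Core.normal_pCore (G := X) p
    set O := Cfsg.pCore p X with hO
    have hOS : O ≤ (S : Subgroup X) := CfsgLib.Core.pCore_le_sylow S
    set Zs := (S : Subgroup X) ⊓ Subgroup.centralizer ((S : Subgroup X) : Set X) with hZs
    by_cases hCtop : Subgroup.centralizer (Zs : Set X) = ⊤
    · rw [hCtop] at h2
      exact npc_top h2
    have hSC : (S : Subgroup X) ≤ Subgroup.centralizer (Zs : Set X) := fun s hs => by
      rw [Subgroup.mem_centralizer_iff]
      exact fun z hz => (Subgroup.mem_centralizer_iff.1 hz.2 s hs).symm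
    have hCZS : Subgroup.centralizer (Zs : Set X) = (S : Subgroup X) := by
      rcases eq_or_lt_of_le hSC with h | h
      · exact h.symm
      · exact absurd (hco.2 _ h) hCtop
    set C := Subgroup.centralizer (Zsub e (S : Subgroup X) : Set X) with hCdef
    rcases eq_or_lt_of_le (le_sup_right : (S : Subgroup X) ≤ C ⊔ (S : Subgroup X)) with hle | hlt
    · -- `J(S)` lies in the core
      have hCS : C ≤ (S : Subgroup X) := le_sup_left.trans hle.ge
      have hCO : C ≤ O := CfsgLib.Core.le_pCore inferInstance (S.2.to_le hCS)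
      have hJO : Jsub e (S : Subgroup X) ≤ O := fun a ha => hCO (by
        rw [hCdef, Subgroup.mem_centralizer_iff]
        exact fun z hz => Zsub_comm_Jsub hz ha |>.symm)
      have hJeq : Jsub e (S : Subgroup X) = Jsub e O := by
        obtain ⟨A₀, hA₀⟩ := exists_isMax e (S : Subgroup X)
        have hA₀O : A₀ ≤ O := (isMax_le_Jsub hA₀).trans hJO
        refine le_antisymm (sSup_le fun A hA => isMax_le_Jsub
          ⟨(isMax_le_Jsub hA).trans hJO, hA.2.1, fun B hB hB' => hA.2.2 B (hB.trans hOS) hB'⟩)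
          (sSup_le fun A hA => isMax_le_Jsub ⟨hA.1.trans hOS, hA.2.1, fun B hB hB' => ?_⟩)
        exact (hA₀.2.2 B hB hB').trans (hA.2.2 A₀ hA₀O hA₀.2.1)
      have hn : Subgroup.normalizer (Jsub e (S : Subgroup X) : Set X) = ⊤ := by
        rw [hJeq, eq_top_iff, ← Subgroup.normalizer_eq_top (H := O)]
        exact normalizer_le_Jsub e O
      rw [hn] at h1
      exact npc_top h1
    · exfalso
      have htop : C ⊔ (S : Subgroup X) = ⊤ := hco.2 _ hlt
      -- elements of order prime to `p` centralize `Z(J(S))`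
      have hCidx : ∃ i : ℕ, C.index = p ^ i := by
        have hsur : (S : Subgroup X).map (QuotientGroup.mk' C) = ⊤ := by
          rw [← Subgroup.map_top_of_surjective _ (QuotientGroup.mk'_surjective C), ← htop,
            Subgroup.map_sup, QuotientGroup.map_mk'_self, bot_sup_eq]
        have hp' : IsPGroup p (⊤ : Subgroup (X ⧸ C)) := hsur ▸ S.2.map _
        obtain ⟨i, hi⟩ := IsPGroup.iff_card.1 hp'
        exact ⟨i, by rw [Subgroup.index_eq_card, ← Subgroup.card_top, hi]⟩
      obtain ⟨i, hi⟩ := hCidx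
      obtain ⟨Mb, hMb, hMbc, k, hk⟩ := CfsgLib.Core.hasNormalPComplement_iff.1 hQ
      set f := QuotientGroup.mk' O with hf
      have hfs : Function.Surjective f := QuotientGroup.mk'_surjective O
      have hker : f.ker = O := QuotientGroup.ker_mk' O
      set K := Mb.comap f with hK
      haveI hKn : K.Normal := hMb.comap f
      have hOK : O ≤ K := hker.symm.le.trans (Subgroup.ker_le_comap f Mb)
      have hOp : IsPGroup p O := CfsgLib.Core.isPGroup_pCore p
      obtain ⟨j, hj⟩ := IsPGroup.iff_card.1 hOp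
      have hidx : (O.subgroupOf K).index = Nat.card Mb := by
        show O.relIndex K = _
        rw [← hker, ← MonoidHom.comap_bot, hK, Subgroup.relIndex_comap,
          Subgroup.map_comap_eq_self_of_surjective hfs, Subgroup.relIndex_bot_left]
      obtain ⟨H, hH⟩ := Subgroup.exists_right_complement'_of_coprime (N := O.subgroupOf K) (by
        rw [hidx, Nat.card_congr (Subgroup.subgroupOfEquivOfLe hOK).toEquiv, hj]
        exact (hMbc.pow_right j).symm)
      set A := H.map K.subtype with hA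
      have hAc : (Nat.card A).Coprime p := by
        have h3 := hH.card_mul
        rw [← Subgroup.card_mul_index (O.subgroupOf K)] at h3
        rw [hA, Subgroup.card_map_of_injective K.subtype_injective,
          mul_left_cancel₀ Nat.card_pos.ne' h3, hidx]
        exact hMbc
      have hKOA : ∀ x ∈ K, ∃ o ∈ O, ∃ a ∈ A, x = o * a := by
        intro x hx
        have h3 : (⟨x, hx⟩ : ↥K) ∈ O.subgroupOf K ⊔ H := by
          rw [hH.sup_eq_top]; exact Subgroup.mem_top _
        rw [Subgroup.mem_sup_of_normal_left] at h3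
        obtain ⟨o, ho, a, ha, he⟩ := h3
        exact ⟨o.1, ho, a.1, ⟨a, ha, rfl⟩, (congrArg Subtype.val he).symm⟩
      have hAK : A ≤ K := Subgroup.map_subtype_le _
      have hAC : A ≤ C := fun a ha => CfsgLib.Core.mem_of_coprime_of_index_pow hi
        (hAc.coprime_dvd_left (by simpa using orderOf_dvd_natCard (⟨a, ha⟩ : A)))
      set V := O ⊓ Subgroup.centralizer (O : Set X) with hV
      have hVc : ∀ o ∈ O, ∀ v ∈ V, o * v = v * o := fun o ho v hv =>
        Subgroup.mem_centralizer_iff.1 hv.2 o ho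
      haveI : IsMulCommutative V := ⟨⟨fun a b => Subtype.ext (hVc a a.2.1 b b.2)⟩⟩
      have hAV : A ≤ Subgroup.normalizer (V : Set X) := by
        rw [Subgroup.normalizer_eq_top]; exact le_top
      have hcop : (Nat.card A).Coprime (Nat.card V) := by
        obtain ⟨l, hl⟩ := IsPGroup.iff_card.1 (hOp.to_le (inf_le_left : V ≤ O))
        rw [hl]; exact hAc.pow_right l
      have hVA : ⁅V, K⁆ ≤ ⁅V, A⁆ := by
        rw [Subgroup.commutator_le]
        intro v hv x hx
        obtain ⟨o, ho, a, ha, rfl⟩ := hKOA x hx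
        have h3 := Subgroup.commutator_mem_commutator hv ha
        have hVn : V.Normal := by rw [hV]; infer_instance
        have h4 : v * a * v⁻¹ * a⁻¹ ∈ V := by
          have := V.mul_mem hv (hVn.conj_mem _ (V.inv_mem hv) a)
          simpa [mul_assoc] using this
        rw [commutatorElement_def] at h3 ⊢
        have e : v * (o * a) * v⁻¹ * (o * a)⁻¹ = o * (v * a * v⁻¹ * a⁻¹) * o⁻¹ := by
          calc v * (o * a) * v⁻¹ * (o * a)⁻¹ = (v * o) * a * v⁻¹ * a⁻¹ * o⁻¹ := by group
            _ = (o * v) * a * v⁻¹ * a⁻¹ * o⁻¹ := by rw [hVc o ho v hv]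
            _ = _ := by group
        rw [e, hVc o ho _ h4, mul_inv_cancel_right]
        exact h3
      have hW : ⁅V, K⁆ = ⊥ := by
        by_contra hne
        have hWS : ⁅V, K⁆ ≤ (S : Subgroup X) :=
          (Subgroup.commutator_le_left V K).trans (inf_le_left.trans hOS)
        have hWne : (⁅V, K⁆).subgroupOf (S : Subgroup X) ≠ ⊥ := by
          rw [Ne, Subgroup.subgroupOf_eq_bot, disjoint_iff, inf_eq_left.2 hWS]
          exact hne
        haveI := S.2.isNilpotent
        obtain ⟨⟨z, hz⟩, hz1⟩ := Subgroup.ne_bot_iff_exists_ne_one.1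
          (CfsgLib.Core.nilpotent_inf_center_ne_bot hWne)
        haveI : Nontrivial ↥(((⁅V, K⁆).subgroupOf (S : Subgroup X)) ⊓
            Subgroup.center ↥(S : Subgroup X) : Subgroup ↥(S : Subgroup X)) :=
          ⟨⟨⟨z, hz⟩, 1, hz1⟩⟩
        have hp'' : IsPGroup p ↥(((⁅V, K⁆).subgroupOf (S : Subgroup X)) ⊓
            Subgroup.center ↥(S : Subgroup X) : Subgroup ↥(S : Subgroup X)) := S.2.to_subgroup _
        obtain ⟨l, hl0, hl⟩ := hp''.nontrivial_iff_card.1 inferInstance
        obtain ⟨y, hy⟩ := exists_prime_orderOf_dvd_card' p (hl ▸ dvd_pow_self p hl0.ne' :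
          p ∣ Nat.card ↥(((⁅V, K⁆).subgroupOf (S : Subgroup X)) ⊓
            Subgroup.center ↥(S : Subgroup X) : Subgroup ↥(S : Subgroup X)))
        set w := ((y : ↥(S : Subgroup X)) : X) with hw
        have hwo : orderOf w = p := by rw [hw, Subgroup.orderOf_coe, Subgroup.orderOf_coe, hy]
        have hwS : w ∈ (S : Subgroup X) := (y : ↥(S : Subgroup X)).2
        have hwc : ∀ s ∈ (S : Subgroup X), s * w = w * s := fun s hs =>
          congrArg Subtype.val (Subgroup.mem_center_iff.1 y.2.2 ⟨s, hs⟩)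
        have hwZ : w ∈ Zsub e (S : Subgroup X) := by
          obtain ⟨A₀, hA₀⟩ := exists_isMax e (S : Subgroup X)
          refine ⟨isMax_le_Jsub hA₀ (mem_of_isMax hA₀ hwS (by
            rcases he with rfl | rfl
            · exact pow_zero w
            · exact hwo ▸ pow_orderOf_eq_one w)
            fun a ha => hwc a (hA₀.1 ha)), ?_⟩
          show w ∈ Subgroup.centralizer (Jsub e (S : Subgroup X) : Set X)
          rw [Subgroup.mem_centralizer_iff]
          exact fun a ha => hwc a (Jsub_le e _ ha)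
        have hwW : w ∈ ⁅V, K⁆ := y.2.1
        have hbot := CfsgLib.Core.abelian_centralizer_inf_commutator hAV hcop
        have : w ∈ (V ⊓ Subgroup.centralizer (A : Set X)) ⊓ ⁅V, A⁆ := by
          refine ⟨⟨Subgroup.commutator_le_left V K hwW, ?_⟩, hVA hwW⟩
          show w ∈ Subgroup.centralizer (A : Set X)
          rw [Subgroup.mem_centralizer_iff]
          exact fun a ha => (Subgroup.mem_centralizer_iff.1 (hAC ha) w hwZ).symm
        rw [hbot, Subgroup.mem_bot] at this
        rw [this, orderOf_one] at hwo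
        exact hp.out.ne_one hwo.symm
      have hAS : A ≤ (S : Subgroup X) := by
        rw [← hCZS]
        intro a ha
        rw [Subgroup.mem_centralizer_iff]
        intro z hz
        have hzV : z ∈ V := by
          have h3 : z ∈ Subgroup.centralizer (O : Set X) :=
            Subgroup.centralizer_le (fun o ho => hOS ho) hz.2
          exact ⟨hC h3, h3⟩
        exact (Subgroup.mem_centralizer_iff.1
          (Subgroup.commutator_eq_bot_iff_le_centralizer.1 hW hzV) a (hAK ha)).symm
      have hA1 : A = ⊥ := by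
        have := CfsgLib.Core.sylow_inf_bot_of_coprime S.2 hAc
        rwa [inf_eq_left.2 hAS] at this
      refine hco.1 (eq_top_iff.2 ?_)
      have hXp : IsPGroup p (⊤ : Subgroup X) := by
        rintro ⟨x, -⟩
        have h3 : x ^ p ^ k ∈ K := by
          rw [hK, Subgroup.mem_comap, map_pow, ← hk]; exact Subgroup.pow_index_mem Mb (f x)
        obtain ⟨o, ho, a, ha, he⟩ := hKOA _ h3
        rw [hA1, Subgroup.mem_bot] at ha
        obtain ⟨l, hl⟩ := hOp ⟨o, ho⟩
        refine ⟨k + l, Subtype.ext ?_⟩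
        show x ^ p ^ (k + l) = 1
        rw [pow_add, pow_mul, he, ha, mul_one]
        exact congrArg Subtype.val hl
      exact le_of_eq (S.3 hXp le_top)

end Thompson

end CfsgLib.Local.ThompsonA
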