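import Mathlib.GroupTheory.Sylow
import Cfsg.Agent.Lib.FusionZJ
import Cfsg.Agent.Lib.LocalThompsonA

/-!
# Thompson's normal `p`-complement theorem for fusion systems
-/

set_option autoImplicit false

namespace CfsgLib.Fusion

open Cfsg Cfsg.FusionSystem

set_option linter.unusedSectionVars false

universe u v

/-- The two functors of Thompson's theorem: `J` (for `true`) and the centre (for `false`). -/
def thompsonFunctors : Bool → ∀ (Q : Type u) [Group Q], Subgroup Q
  | true => fun Q _ => Stable.Jsub 0 (⊤ : Subgroup Q)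
  | false => fun Q _ => Subgroup.center Q

/-- On the centre the maps are required to fix the elements. -/
def thompsonPt (i : Bool) : Prop := i = false

variable {p : ℕ} [Fact p.Prime]

theorem map_center_subtype {G : Type*} [Group G] (P : Subgroup G) :
    (Subgroup.center P).map P.subtype = P ⊓ Subgroup.centralizer (P : Set G) := by
  ext x
  constructor
  · rintro ⟨y, hy, rfl⟩
    exact ⟨y.2, fun z hz => congrArg Subtype.val (Subgroup.mem_center_iff.mp hy ⟨z, hz⟩)⟩
  · rintro ⟨hx, hc⟩
    exact ⟨⟨x, hx⟩, Subgroup.mem_center_iff.mpr fun z => Subtype.ext (hc z z.2), rfl⟩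

theorem isPFunctor_thompson : ∀ i, IsPFunctor.{u} p (thompsonFunctors.{u} i) := by
  intro i
  cases i
  · refine ⟨fun Q _ _ hQ hn => ?_, fun Q R _ _ _ _ φ => ?_⟩
    · show Subgroup.center Q ≠ ⊥
      have := hQ.center_nontrivial
      exact (Subgroup.nontrivial_iff_ne_bot _).mp this
    · show (Subgroup.center Q).map φ.toMonoidHom = Subgroup.center R
      ext y
      constructor
      · rintro ⟨x, hx, rfl⟩
        refine Subgroup.mem_center_iff.mpr fun z => ?_
        obtain ⟨w, rfl⟩ := φ.surjective z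
        show φ w * φ x = φ x * φ w
        rw [← map_mul, Subgroup.mem_center_iff.mp hx w, map_mul]
      · intro hy
        refine ⟨φ.symm y, Subgroup.mem_center_iff.mpr fun z => φ.injective ?_, φ.apply_symm_apply y⟩
        rw [map_mul, map_mul, φ.apply_symm_apply]
        exact Subgroup.mem_center_iff.mp hy (φ z)
  · refine ⟨fun Q _ _ hQ hn => ?_, fun Q R _ _ _ _ φ => ?_⟩
    · show Stable.Jsub 0 (⊤ : Subgroup Q) ≠ ⊥
      refine Local.ThompsonA.Jsub_ne_bot' (p := p) (Or.inl rfl) (hQ.to_subgroup _) ?_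
      exact (Subgroup.nontrivial_iff_ne_bot _).mp
        (Subgroup.topEquiv.toEquiv.nontrivial)
    · show (Stable.Jsub 0 (⊤ : Subgroup Q)).map φ.toMonoidHom = Stable.Jsub 0 (⊤ : Subgroup R)
      rw [Stable.map_Jsub 0 _ _ (Set.injOn_of_injective φ.injective), ← MonoidHom.range_eq_map,
        MonoidHom.range_eq_top.mpr φ.surjective]

theorem thompson_true_map {G : Type u} [Group G] (P : Subgroup G) :
    ((thompsonFunctors.{u} true ↥P).map P.subtype) = Cfsg.thompsonSubgroupAOf P := by
  rw [Cfsg.thompsonSubgroupAOf, Stable.thompsonSubgroupA_eq]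
  rfl

theorem functorComplement_thompson {H : Type v} [Group H]
    (hH : p ≠ 2 ∨ ∀ (L : Type u) [Group L], Involves (Equiv.Perm (Fin 4)) L → Involves H L) :
    FunctorComplement.{u, v} p thompsonFunctors.{u} thompsonPt H := by
  intro L _ _ P hc hfree h
  have hcase : p ≠ 2 ∨ ((0 : ℕ) = 0 ∧ ¬ Involves (Equiv.Perm (Fin 4)) L) :=
    hH.imp id fun hH => ⟨rfl, fun hi => hfree (hH L hi)⟩
  refine isPGroup_of_npc hc (Local.ThompsonA.npc_of_thompsonA (Or.inl rfl) hcase P
    (Stable.npc_of_pGroup fun g => ?_) (Stable.npc_of_pGroup fun g => ?_))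
  · obtain ⟨n, hn⟩ := h true g (by
      show (g : L) ∈ Subgroup.normalizer (((Stable.Jsub 0 (⊤ : Subgroup ↥(P : Subgroup L))).map
        (P : Subgroup L).subtype : Subgroup L) : Set L)
      rw [Stable.map_subtype_Jsub]
      exact g.2) (fun hpt => Bool.noConfusion hpt)
    exact ⟨n, Subtype.ext hn⟩
  · have hg : (g : L) ∈ Subgroup.centralizer
        (((Subgroup.center ↥(P : Subgroup L)).map (P : Subgroup L).subtype : Subgroup L) : Set L) := by
      rw [map_center_subtype]
      exact g.2
    obtain ⟨n, hn⟩ := h false g (Subgroup.centralizer_le_normalizer _ hg)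
      (fun _ x hx => (hg x hx).symm)
    exact ⟨n, Subtype.ext hn⟩

/-- A suitable `H` for both hypotheses. -/
theorem exists_thompson_free {Ω : Type u} [Group Ω] {S : Subgroup Ω} [Finite S]
    {F : FusionSystem S} (hp : p ≠ 2 ∨ F.IsSectionFree p (Equiv.Perm (Fin 4))) :
    ∃ (H : Type) (_ : Group H), FunctorComplement.{u, 0} p thompsonFunctors.{u} thompsonPt H ∧
      F.IsSectionFree p H := by
  rcases hp with hp | hp
  · exact ⟨Multiplicative ℤ, inferInstance, functorComplement_thompson (Or.inl hp),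
      sectionFree_int F⟩
  · exact ⟨Equiv.Perm (Fin 4), inferInstance, functorComplement_thompson (Or.inr fun _ _ h => h),
      hp⟩

variable {Ω : Type u} [Group Ω] {S : Subgroup Ω} [Finite S] {F : FusionSystem S}

/-- Thompson's theorem. -/
theorem inner_of_thompson (hS : IsPGroup p S) (hF : F.IsSaturated p)
    (hp : p ≠ 2 ∨ F.IsSectionFree p (Equiv.Perm (Fin 4)))
    (hC : ∀ C : FusionSystem (centralizerIn S (S ⊓ Subgroup.centralizer (S : Set Ω))),
      F.IsCentralizerSystem (S ⊓ Subgroup.centralizer (S : Set Ω)) C → ∀ P : Subgroup Ω, C.Hom P =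
        (innerFusionSystem (centralizerIn S (S ⊓ Subgroup.centralizer (S : Set Ω)))).Hom P)
    (hN : ∀ N : FusionSystem (normalizerIn S (Cfsg.thompsonSubgroupAOf S)),
      F.IsNormalizerSystem (Cfsg.thompsonSubgroupAOf S) N → ∀ P : Subgroup Ω, N.Hom P =
        (innerFusionSystem (normalizerIn S (Cfsg.thompsonSubgroupAOf S))).Hom P) :
    ∀ P : Subgroup Ω, F.Hom P = (innerFusionSystem S).Hom P := by
  obtain ⟨H, _, hloc, hfree⟩ := exists_thompson_free hp
  have hpi : PInner p F := pInner_of_functors isPFunctor_thompson hloc hS hF hfree fun i => ?_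
  · intro P
    rw [eq_inner_of_pInner hS hF hpi]
  cases i
  · -- the centre
    show PInnerAt p F ((Subgroup.center S).map S.subtype) (thompsonPt false)
    rw [map_center_subtype]
    set Z := S ⊓ Subgroup.centralizer (S : Set Ω)
    have hZS : Z ≤ S := inf_le_left
    have hCS : centralizerIn S Z = S :=
      inf_eq_left.mpr fun s hs z hz => (hz.2 s hs).symm
    obtain ⟨C, hCsys⟩ := exists_centralizerSystem F hZS
    have := finite_of_le (centralizerIn_le S Z)
    have hCp : PInner p C :=
      pInner_of_hom_eq (hS.to_le (centralizerIn_le S Z)) (hC C hCsys)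
    intro P α k hP hk hkZ hpt he
    have hPC : P ≤ centralizerIn S Z := hCS.symm ▸ hP.trans (normalizerIn_le S Z)
    exact hCp P hPC α ((mem_autGroup_iff hPC).mpr ((map_of_isCentralizerSystem hCsys).mpr
      ⟨(hk.restrict le_sup_left).congr fun x hx => (he x hx).symm, hPC,
        fun x hx => hPC (autFun_mem α hx), k, hk, fun x hx => (he x hx).symm, hpt rfl⟩))
  · -- the Thompson subgroup
    show PInnerAt p F ((thompsonFunctors.{u} true S).map S.subtype) _
    rw [thompson_true_map]
    have hJS : Cfsg.thompsonSubgroupAOf S ≤ S := Subgroup.map_subtype_le _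
    obtain ⟨N, hNsys⟩ := exists_normalizerSystem F hJS
    have := finite_of_le (normalizerIn_le S (Cfsg.thompsonSubgroupAOf S))
    exact pInnerAt_of_normalizerSystem hNsys
      (pInner_of_hom_eq (hS.to_le (normalizerIn_le S _)) (hN N hNsys))

/-! ### The criterion with characteristic subgroups -/

theorem relW_characteristic {W : ∀ (Q : Type u) [Group Q], Subgroup Q} (hW : IsPFunctor p W)
    (hS : IsPGroup p S) {Z : Subgroup Ω} (hZS : Z ≤ S) (hZ : (Z.subgroupOf S).Characteristic) :
    ((relW W Z S).subgroupOf S).Characteristic := by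
  have hn : (Z.subgroupOf S).Normal := inferInstance
  refine Subgroup.characteristic_iff_map_le.mpr fun e => ?_
  rintro _ ⟨x, hx, rfl⟩
  rw [SetLike.mem_coe, Subgroup.mem_subgroupOf, mem_relW] at hx
  rw [Subgroup.mem_subgroupOf, mem_relW]
  have hmap : (Z.subgroupOf S).map e.toMonoidHom = Z.subgroupOf S :=
    Subgroup.characteristic_iff_map_eq.mp hZ e
  rw [← hW.map_eq _ _ (hS.to_quotient (Z.subgroupOf S)) (QuotientGroup.congr _ _ e hmap)]
  exact ⟨_, hx, rfl⟩

/-- If all automizers of nontrivial characteristic subgroups of `S` are `p`-groups. -/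
theorem inner_of_characteristic (hS : IsPGroup p S) :
    ∀ (b : ℕ) (F : FusionSystem S), F.IsSaturated p →
      (p ≠ 2 ∨ F.IsSectionFree p (Equiv.Perm (Fin 4))) →
      (∀ Q : Subgroup Ω, Q ≤ S → Q ≠ ⊥ → (Q.subgroupOf S).Characteristic →
        IsPGroup p (F.autGroup Q)) →
      mapsCard F = b → PInner p F := by
  intro b
  induction b using Nat.strong_induction_on with
  | _ b ih =>
  intro F hF hp h hb
  obtain ⟨H, _, hloc, hfree⟩ := exists_thompson_free hp
  set 𝒰 : Set (Subgroup Ω) := {U | F.IsNormal U ∧ (U.subgroupOf S).Characteristic}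
  have hbot : (⊥ : Subgroup Ω) ∈ 𝒰 := by
    refine ⟨isNormal_bot F, ?_⟩
    rw [Subgroup.bot_subgroupOf]
    infer_instance
  set Z := sSup 𝒰 with hZdef
  have hZmem : Z ∈ 𝒰 := sSup_mem_of_finite hbot (fun U V hU hV => ⟨isNormal_sup hU.1 hV.1, by
      rw [Subgroup.subgroupOf_sup hU.1.1 hV.1.1]
      refine Subgroup.characteristic_iff_map_eq.mpr fun e => ?_
      rw [Subgroup.map_sup, Subgroup.characteristic_iff_map_eq.mp hU.2 e,
        Subgroup.characteristic_iff_map_eq.mp hV.2 e]⟩)
    (finite_subgroups_le.subset fun _ hU => hU.1.1)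
  obtain ⟨hZn, hZc⟩ := hZmem
  have hZS := hZn.1
  have hZp : IsPGroup p (F.autGroup Z) := by
    rcases eq_or_ne Z ⊥ with hb' | hb'
    · rw [hb']
      intro α
      refine ⟨0, ?_⟩
      rw [pow_zero, pow_one]
      refine Subtype.ext (autFun_inj fun x hx => ?_)
      rw [OneMemClass.coe_one, autFun_one hx,
        Subgroup.mem_bot.mp (autFun_mem (α : MulAut (⊥ : Subgroup Ω)) hx)]
      exact (Subgroup.mem_bot.mp hx).symm
    · exact h Z hZS hb' hZc
  rcases eq_or_lt_of_le hZS with heq | hlt
  · -- `S` is normal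
    intro P hP α hα
    obtain ⟨k, hk, hkα, hkZ⟩ := (isNormal_iff.mp hZn).2 P _ ((mem_autGroup_iff hP).mp hα)
    have hPZ : P ≤ Z := heq.symm ▸ hP
    obtain ⟨β, hβ, hβk⟩ := (hk.restrict le_sup_right).exists_aut hkZ
    obtain ⟨n, hn⟩ := hZp ⟨β, hβ⟩
    refine ⟨n, autFun_inj fun x hx => ?_⟩
    rw [autFun_one hx, ← autFun_pow_agree hPZ (α := α) (β := β)
      (fun y hy => (hβk y (hPZ hy)).trans (hkα y hy)) (p ^ n) x hx,
      show β ^ p ^ n = 1 from congrArg Subtype.val hn, autFun_one (hPZ hx)]
  refine pInner_of_at isPFunctor_thompson hloc _ _ _ S inferInstance hS F hF hfree Z hZn hZp hlt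
    (fun i => ?_) rfl rfl rfl
  set U := relW (thompsonFunctors.{u} i) Z S with hUdef
  have hUS : U ≤ S := relW_le
  have hSn : S ≤ Subgroup.normalizer (Z : Set Ω) :=
    stronglyClosed_normalized (isNormal_stronglyClosed hZn)
  have hZU : Z < U := lt_relW (isPFunctor_thompson i) hS hlt hSn
  have hUc : (U.subgroupOf S).Characteristic :=
    relW_characteristic (isPFunctor_thompson i) hS hZS hZc
  have hUn : ¬ F.IsNormal U := fun hn => not_le_of_gt hZU (le_sSup ⟨hn, hUc⟩)
  have hNU : normalizerIn S U = S := normalizerIn_relW (isPFunctor_thompson i) hS hZn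
  have hUfn : F.IsFullyNormalized U :=
    ⟨hUS, fun R _ => by rw [hNU]; exact Subgroup.card_le_of_le (normalizerIn_le S R)⟩
  obtain ⟨E₀, hE₀⟩ := exists_normalizerSystem F hUS
  have hrel := relSys_normalizer hS hF hUfn hE₀
  obtain ⟨E, hEmap, hEsat, -, hEp⟩ := exists_system_of_eq (p := p) hNU E₀
  have hEF : ∀ P f, Map E P f → Map F P f := fun P f h =>
    map_F_of_normalizerSystem hE₀ ((hEmap P f).mp h)
  have hlt' : mapsCard E < mapsCard F := mapsCard_lt hEF fun hall =>
    hUn (isNormal_iff.mpr ⟨hUS, fun P g hg => by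
      obtain ⟨w, hw, hwg, hwU⟩ := (isNormal_iff.mp (normal_in_normalizerSystem hUS hE₀)).2 P g
        ((hEmap P g).mp (hall P g hg))
      exact ⟨w, map_F_of_normalizerSystem hE₀ hw, hwg, hwU⟩⟩)
  refine pInnerAt_of_normalizerSystem hE₀ (hEp (ih _ (hb ▸ hlt') E
    (hEsat (hrel.saturated hS hF)) (hp.imp id fun hfr => isSectionFree_of_eq hNU hEmap
      (hrel.sectionFree hS hF (le_normalizerIn hUS) hfr))
    (fun Q hQ hQ1 hQc => (h Q hQ hQ1 hQc).to_le fun α hα =>
      (mem_autGroup_iff hQ).mpr (hEF _ _ ((mem_autGroup_iff hQ).mp hα))) rfl))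

/-- A sparse system is constrained. -/
theorem sparse_constrained (hS : IsPGroup p S) (hF : F.IsSaturated p)
    (hni : ¬ ∀ P : Subgroup Ω, F.Hom P = (innerFusionSystem S).Hom P)
    (hsp : ∀ E : FusionSystem S, E.IsSaturated p → E.IsSubsystemOf F →
      (∀ P : Subgroup Ω, E.Hom P = F.Hom P) ∨
        ∀ P : Subgroup Ω, E.Hom P = (innerFusionSystem S).Hom P)
    (hp : p ≠ 2 ∨ F.IsSectionFree p (Equiv.Perm (Fin 4))) : F.IsConstrained p := by
  obtain ⟨H, _, hloc, hfree⟩ := exists_thompson_free hp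
  obtain ⟨E, hE, hEc, hEn⟩ := exists_constrained_not_pInner isPFunctor_thompson hloc _ S
    inferInstance hS F hF hfree rfl fun h => hni fun P => by rw [eq_inner_of_pInner hS hF h]
  rcases hsp E hEc.1 hE with hEF | hEI
  · rwa [show F = E from fusion_eq fun P f => by simp only [Map, hEF P]]
  · exact absurd (pInner_of_hom_eq hS hEI) hEn

end CfsgLib.Fusion
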