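import Cfsg.Agent.Lib.FusionCenterControlGen
import Cfsg.Agent.Lib.FusionThompson
import Cfsg.Agent.Lib.FusionCenterSplit
import Cfsg.Agent.Lib.LocalWeakClosed

/-!
# Glauberman's theorem on the centre of a fusion system
-/

set_option autoImplicit false

namespace CfsgLib.Fusion.CenterGen

open Cfsg Cfsg.FusionSystem CfsgLib.Fusion

set_option linter.unusedSectionVars false

universe u v

variable {p : ℕ} [Fact p.Prime]

/-- The functor `J`. -/
abbrev jFun : ∀ (Q : Type u) [Group Q], Subgroup Q := thompsonFunctors.{u} true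

theorem center_le_jFun (Q : Type u) [Group Q] [Finite Q] : Subgroup.center Q ≤ jFun Q := by
  obtain ⟨A, hA⟩ := Stable.exists_isMax 0 (⊤ : Subgroup Q)
  intro z hz
  exact Stable.isMax_le_Jsub hA (Stable.mem_of_isMax hA (Subgroup.mem_top z) (pow_zero z)
    fun b _ => Subgroup.mem_center_iff.1 hz b)

theorem jFun_map {G : Type u} [Group G] (P : Subgroup G) :
    (jFun ↥P).map P.subtype = Cfsg.thompsonSubgroupAOf P := by
  rw [Cfsg.thompsonSubgroupAOf, Stable.thompsonSubgroupA_eq]
  rfl

/-- The three cases in which the local condition holds. -/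
theorem cloc {H : Type v} [Group H] {pw : Prop}
    (h : ∀ (G : Type u) [Group G] [Finite G], ¬ Involves H G →
      p ≠ 2 ∨ pw ∨ ¬ Involves (Equiv.Perm (Fin 4)) G) : CLoc.{u, v} p jFun H pw := by
  intro G _ _ P x hfree hxD hxN hpw
  obtain ⟨⟨y, hy⟩, hyc, rfl⟩ := hxN
  haveI := (pCore_isPGroup (p := p) (G := G)).2
  have hD := pCore_le_sylow (p := p) P
  have hmap : (jFun ↥(P : Subgroup G)).map (P : Subgroup G).subtype =
      Stable.Jsub 0 (P : Subgroup G) := (jFun_map _).trans (Stable.thompsonSubgroupAOf_eq _)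
  have hN : ∀ g ∈ Subgroup.normalizer (Stable.Jsub 0 (P : Subgroup G) : Set G), g * y = y * g :=
    fun g hg => congrArg Subtype.val (Subgroup.mem_center_iff.1 hyc ⟨g, by rw [hmap]; exact hg⟩)
  refine Subgroup.mem_center_iff.2 fun g => ?_
  have := Local.WeakClosed.weakly_closed P y (hD hxD) hN
    ((h G hfree).imp id (Or.imp hpw id)) g (hD (Subgroup.Normal.conj_mem inferInstance y hxD g))
  exact mul_inv_eq_iff_eq_mul.1 this

variable {Ω : Type u} [Group Ω] {S : Subgroup Ω} [Finite S] {F : FusionSystem S}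
  {N : FusionSystem (normalizerIn S (Cfsg.thompsonSubgroupAOf S))}

theorem normalizerIn_jFun (hS : IsPGroup p S) (F : FusionSystem S) :
    normalizerIn S (Cfsg.thompsonSubgroupAOf S) = S := by
  have hW : IsPFunctor p jFun.{u} := isPFunctor_thompson true
  have hVrel : relW jFun.{u} ⊥ S = Cfsg.thompsonSubgroupAOf S := (relW_bot hW hS).trans (jFun_map S)
  exact hVrel ▸ normalizerIn_relW hW hS (isNormal_bot F)

theorem mem_center_thompson (hS : IsPGroup p S) (hF : F.IsSaturated p)
    (hN : F.IsNormalizerSystem (Cfsg.thompsonSubgroupAOf S) N) {x : Ω} (hx : x ∈ N.center)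
    (h : p ≠ 2 ∨ (∃ z ∈ S, (∀ s ∈ S, s * z = z * s) ∧ z ^ p = x) ∨
      F.IsSectionFree p (Equiv.Perm (Fin 4))) : x ∈ F.center := by
  have hW : IsPFunctor p jFun.{u} := isPFunctor_thompson true
  have hWZ : ∀ (Q : Type u) [Group Q] [Finite Q], IsPGroup p Q → Subgroup.center Q ≤ jFun Q :=
    fun Q _ _ _ => center_le_jFun Q
  rcases h with h | h | h
  · exact mem_center_of_local (H := Multiplicative ℤ) (pw := False) hW hWZ
      (cloc fun G _ _ _ => Or.inl h) hS hF (sectionFree_int F) (jFun_map S).symm hN hx False.elim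
  · exact mem_center_of_local (H := Multiplicative ℤ) (pw := True) hW hWZ
      (cloc fun G _ _ _ => Or.inr (Or.inl trivial)) hS hF (sectionFree_int F) (jFun_map S).symm hN hx
      fun _ => h
  · exact mem_center_of_local (H := Equiv.Perm (Fin 4)) (pw := False) hW hWZ
      (cloc fun G _ _ hG => Or.inr (Or.inr hG)) hS hF h (jFun_map S).symm hN hx False.elim

theorem center_le_center (hS : IsPGroup p S) (hF : F.IsSaturated p)
    (hN : F.IsNormalizerSystem (Cfsg.thompsonSubgroupAOf S) N) : F.center ≤ N.center := by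
  have hNS := normalizerIn_jFun hS F
  have hJS : Cfsg.thompsonSubgroupAOf S ≤ S := Subgroup.map_subtype_le _
  have hJn : F.IsFullyNormalized (Cfsg.thompsonSubgroupAOf S) :=
    ⟨hJS, fun R _ => by rw [hNS]; exact Subgroup.card_le_of_le (normalizerIn_le S R)⟩
  have := finite_of_le (normalizerIn_le S (Cfsg.thompsonSubgroupAOf S))
  refine le_sSup (isCentral_of_fixed (hS.to_le (normalizerIn_le _ _))
    (normalizerSystem_saturated hS hF hJn hN) ((isCentral_center F).1.trans hNS.ge)
    fun x hx y hy => ?_)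
  obtain ⟨f, hf, rfl⟩ := isConjElt_iff.mp hy
  exact map_fixed_of_central (isCentral_center F) (map_F_of_normalizerSystem hN hf)
    (Subgroup.mem_zpowers x) hx

theorem glauberman (hS : IsPGroup p S) (hF : F.IsSaturated p)
    (hN : F.IsNormalizerSystem (Cfsg.thompsonSubgroupAOf S) N) :
    Subgroup.closure ((fun z : Ω => z ^ p) '' ((S ⊓ Subgroup.centralizer (S : Set Ω) : Subgroup Ω) : Set Ω)) ⊓
      N.center ≤ F.center ∧
      (p ≠ 2 ∨ F.IsSectionFree p (Equiv.Perm (Fin 4)) → N.center = F.center) := by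
  refine ⟨fun x hx => mem_center_thompson hS hF hN hx.2 (Or.inr (Or.inl ?_)), fun h =>
    le_antisymm (fun x hx => mem_center_thompson hS hF hN hx (h.imp id Or.inr))
      (center_le_center hS hF hN)⟩
  have hle : Subgroup.closure ((fun z : Ω => z ^ p) '' ((S ⊓ Subgroup.centralizer (S : Set Ω) : Subgroup Ω) : Set Ω)) ≤
      { carrier := {y | ∃ z ∈ S, (∀ s ∈ S, s * z = z * s) ∧ z ^ p = y}
        one_mem' := ⟨1, S.one_mem, fun s _ => by simp, one_pow p⟩
        mul_mem' := by
          rintro a b ⟨z, hz, hzc, rfl⟩ ⟨w, hw, hwc, rfl⟩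
          exact ⟨z * w, S.mul_mem hz hw, fun s hs =>
            ((show Commute s z from hzc s hs).mul_right (show Commute s w from hwc s hs)).eq,
            (show Commute z w from hwc z hz).mul_pow p⟩
        inv_mem' := by
          rintro a ⟨z, hz, hzc, rfl⟩
          exact ⟨z⁻¹, S.inv_mem hz, fun s hs => ((show Commute s z from hzc s hs).inv_right).eq,
            inv_pow z p⟩ } := by
    rw [Subgroup.closure_le]
    rintro _ ⟨z, ⟨hzS, hzC⟩, rfl⟩
    exact ⟨z, hzS, fun s hs => Subgroup.mem_centralizer_iff.1 hzC s hs, rfl⟩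
  exact hle hx.1

/-- `Z(F)` is a direct factor of `Z(S)` for odd `p`. -/
theorem center_split (hp : p ≠ 2) (hS : IsPGroup p S) (hF : F.IsSaturated p) :
    ∃ K : Subgroup Ω, K ≤ (S ⊓ Subgroup.centralizer (S : Set Ω)) ∧ F.center ⊓ K = ⊥ ∧
      F.center ⊔ K = (S ⊓ Subgroup.centralizer (S : Set Ω)) := by
  set J := Cfsg.thompsonSubgroupAOf S with hJ
  have hNS := normalizerIn_jFun hS F
  have hJS : J ≤ S := Subgroup.map_subtype_le _
  obtain ⟨N, hN⟩ := exists_normalizerSystem F hJS
  have hJn : F.IsFullyNormalized J :=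
    ⟨hJS, fun R _ => by rw [hNS]; exact Subgroup.card_le_of_le (normalizerIn_le S R)⟩
  have := finite_of_le (normalizerIn_le S J)
  have hZ : normalizerIn S J ⊓ Subgroup.centralizer (normalizerIn S J : Set Ω) ≤ J := by
    rw [hNS, hJ, ← jFun_map]
    intro z hz
    refine ⟨⟨z, hz.1⟩, center_le_jFun _ (Subgroup.mem_center_iff.2 fun s => ?_), rfl⟩
    exact Subtype.ext (Subgroup.mem_centralizer_iff.1 hz.2 s s.2)
  obtain ⟨K, hK, h1, h2⟩ := exists_center_complement (hS.to_le (normalizerIn_le _ _))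
    (normalizerSystem_saturated hS hF hJn hN) (normal_in_normalizerSystem hJS hN) hZ
  rw [(glauberman hS hF hN).2 (Or.inl hp)] at h1 h2
  rw [hNS] at hK h2
  exact ⟨K, hK, h1, h2⟩

end CfsgLib.Fusion.CenterGen
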