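import Cfsg.Agent.Lib.FusionPearlPower

/-!
# The first two centres of a group of maximal class
-/

set_option autoImplicit false
set_option linter.style.haveILetI false

universe u

namespace CfsgLib.MaxClassCentre

open Subgroup
open scoped commutatorElement

variable {X : Type u} [Group X] [Finite X] {p n : ℕ} [Fact p.Prime]

local notation "L" j:max => Subgroup.lowerCentralSeries (⊤ : Subgroup X) j

theorem lcs_card (hX : Nat.card X = p ^ n) (hcl : Group.nilpotencyClass X = n - 1) (hn : 3 ≤ n) {j : ℕ}
    (hj : 1 ≤ j) (hj' : j ≤ n - 1) : Nat.card (L j) = p ^ (n - 1 - j) := by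
  have hp := (Fact.out : p.Prime)
  have hP : IsPGroup p X := IsPGroup.of_card hX
  haveI := hP.isNilpotent
  have hzero : ∀ i, L i = ⊥ ↔ n - 1 ≤ i := fun i =>
    hcl ▸ Subgroup.lowerCentralSeries_eq_bot_iff_nilpotencyClass_le
  obtain ⟨hder, -⟩ := CfsgLib.Transfer.card_commutator_of_maximal_class n hn hX hcl
  choose a ha using fun i => IsPGroup.iff_card.mp (hP.to_subgroup (L i))
  have hlt : ∀ i, i < n - 1 → a (i + 1) < a i := by
    intro i hi
    by_contra hc
    have hle : L (i + 1) ≤ L i := Subgroup.lowerCentralSeries_antitone _ (by omega)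
    have e := CfsgLib.Core.eq_of_le_of_card_le hle
      (by rw [ha, ha]; exact Nat.pow_le_pow_right hp.pos (by omega))
    have hall : ∀ t, L (i + t) = L i := by
      intro t
      induction t with
      | zero => rfl
      | succ t ih => show ⁅L (i + t), (⊤ : Subgroup X)⁆ = L i; rw [ih]; exact e
    have := (hzero (i + (n - 1))).2 (by omega)
    rw [hall, hzero] at this
    omega
  have hlow : ∀ t, t ≤ n - 1 → t ≤ a (n - 1 - t) := by
    intro t
    induction t with
    | zero => omega
    | succ t ih =>
      intro ht
      have h1 := hlt (n - 1 - (t + 1)) (by omega)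
      rw [show n - 1 - (t + 1) + 1 = n - 1 - t by omega] at h1
      have := ih (by omega)
      omega
  have hup : ∀ i, 1 ≤ i → i ≤ n - 1 → a i ≤ n - 1 - i := by
    intro i
    induction i with
    | zero => omega
    | succ i ih =>
      intro _ hi
      rcases Nat.eq_zero_or_pos i with rfl | hi0
      · have h1 := card_mul_index (L 1)
        rw [ha, hX, Subgroup.top_lowerCentralSeries_one, hder, ← pow_add] at h1
        have h2 : a 1 + 2 = n := Nat.pow_right_injective hp.two_le h1
        simp only [zero_add]
        omega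
      · have := ih hi0 (by omega)
        have := hlt i (by omega)
        omega
  rw [ha]
  congr 1
  have := hlow (n - 1 - j) (by omega)
  rw [show n - 1 - (n - 1 - j) = j by omega] at this
  have := hup j hj hj'
  omega

theorem class_eq (hX : Nat.card X = p ^ n) (hn : 2 ≤ n) (hmax : L (n - 2) ≠ ⊥) :
    Group.nilpotencyClass X = n - 1 := by
  haveI := (IsPGroup.of_card hX).isNilpotent
  refine le_antisymm (Subgroup.lowerCentralSeries_eq_bot_iff_nilpotencyClass_le.1
    (CfsgLib.MaxClass.lcs_card_le n hn hX)) ?_
  by_contra hc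
  exact hmax (Subgroup.lowerCentralSeries_eq_bot_iff_nilpotencyClass_le.2 (by omega))

theorem centres (hX : Nat.card X = p ^ n) (hcl : Group.nilpotencyClass X = n - 1) (hn : 4 ≤ n) :
    Nat.card (Subgroup.center X) = p ∧ Nat.card (Subgroup.upperCentralSeries X 2) = p ^ 2 := by
  have hp := (Fact.out : p.Prime)
  haveI := (IsPGroup.of_card hX).isNilpotent
  have hbot : ∀ i, L i = ⊥ ↔ n - 1 ≤ i := fun i =>
    hcl ▸ Subgroup.lowerCentralSeries_eq_bot_iff_nilpotencyClass_le
  have hcomm : ∀ i, ⁅L i, (⊤ : Subgroup X)⁆ = L (i + 1) := fun i => rfl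
  have hnorm : ∀ (N : Subgroup X) [N.Normal], (∃ r, 2 ≤ r ∧ N.index = p ^ r) →
      ∃ j, N = L j := fun N _ ⟨r, hr, hr'⟩ =>
    ⟨r - 1, (CfsgLib.MaxClass.normal_subgroups n hX hcl (by omega)).1 N r hr hr'⟩
  have hidx : ∀ (N : Subgroup X) [N.Normal], ¬ IsCyclic (X ⧸ N) → ∃ r, 2 ≤ r ∧ N.index = p ^ r := by
    intro N _ hnc
    obtain ⟨r, -, hr⟩ := (Nat.dvd_prime_pow hp).mp (hX ▸ index_dvd_card N)
    refine ⟨r, le_of_not_gt fun h => hnc ?_, hr⟩
    rcases Nat.lt_or_ge r 1 with h' | h'
    · haveI : Subsingleton (X ⧸ N) := Finite.card_le_one_iff_subsingleton.mp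
        (by rw [← index_eq_card, hr, show r = 0 by omega, pow_zero])
      infer_instance
    · exact isCyclic_of_prime_card (p := p) (by rw [← index_eq_card, hr, show r = 1 by omega, pow_one])
  have hZ : Subgroup.center X = L (n - 2) := by
    have h1 : L (n - 2) ≤ Subgroup.center X := fun z hz => mem_center_iff.2 fun g => by
      have := commutator_mem_commutator hz (mem_top g)
      rw [hcomm, (hbot _).2 (by omega), mem_bot, commutatorElement_eq_one_iff_mul_comm] at this
      exact this.symm
    refine le_antisymm ?_ h1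
    obtain ⟨j, hj⟩ := hnorm _ (hidx (Subgroup.center X) fun hc => by
      have hab := (QuotientGroup.mk' (Subgroup.center X)).isMulCommutative_of_isCyclic_of_ker_le_center
        (QuotientGroup.ker_mk' _).le
      have h : L 1 = ⊥ := by
        rw [eq_bot_iff, ← hcomm 0, commutator_le]
        intro a _ b _
        rw [mem_bot, commutatorElement_eq_one_iff_mul_comm]
        exact hab.is_comm.comm a b
      have := (hbot 1).1 h
      omega)
    have hz : L (j + 1) = ⊥ := by
      rw [← hcomm j, ← hj, eq_bot_iff, commutator_le]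
      intro a ha b _
      rw [mem_bot, commutatorElement_eq_one_iff_mul_comm]
      exact (mem_center_iff.1 ha b).symm
    have := (hbot _).1 hz
    rw [hj]
    exact Subgroup.lowerCentralSeries_antitone _ (by omega)
  refine ⟨by rw [hZ, lcs_card hX hcl (by omega) (by omega) (by omega),
    show n - 1 - (n - 2) = 1 by omega, pow_one], ?_⟩
  have hm : ∀ x : X, x ∈ Subgroup.upperCentralSeries X 2 ↔ ∀ y, ⁅x, y⁆ ∈ L (n - 2) := fun x => by
    rw [← hZ, Subgroup.mem_upperCentralSeries_succ_iff, Subgroup.upperCentralSeries_one]
  have hZ2 : Subgroup.upperCentralSeries X 2 = L (n - 3) := by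
    have h1 : L (n - 3) ≤ Subgroup.upperCentralSeries X 2 := fun x hx => (hm x).2 fun y => by
      have := commutator_mem_commutator hx (mem_top y)
      rwa [hcomm, show n - 3 + 1 = n - 2 by omega] at this
    refine le_antisymm ?_ h1
    obtain ⟨j, hj⟩ := hnorm (Subgroup.upperCentralSeries X 2) (hidx _ fun hc => by
      haveI : IsCyclic ((X ⧸ Subgroup.center X) ⧸ Subgroup.center (X ⧸ Subgroup.center X)) := by
        haveI := hc
        refine isCyclic_of_surjective (QuotientGroup.lift (Subgroup.upperCentralSeries X 2)
          ((QuotientGroup.mk' (Subgroup.center (X ⧸ Subgroup.center X))).comp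
            (QuotientGroup.mk' (Subgroup.center X))) fun x hx => ?_) ?_
        · refine (QuotientGroup.eq_one_iff _).2 (mem_center_iff.2 fun q => ?_)
          obtain ⟨y, rfl⟩ := QuotientGroup.mk'_surjective _ q
          refine Eq.symm ?_
          rw [← commutatorElement_eq_one_iff_mul_comm, QuotientGroup.mk'_apply, ← QuotientGroup.mk'_apply,
            ← map_commutatorElement, QuotientGroup.mk'_apply, QuotientGroup.eq_one_iff, hZ]
          exact (hm x).1 hx y
        · exact Function.Surjective.of_comp (g := QuotientGroup.mk' (Subgroup.upperCentralSeries X 2))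
            ((QuotientGroup.mk'_surjective _).comp (QuotientGroup.mk'_surjective _))
      have hab := (QuotientGroup.mk' (Subgroup.center (X ⧸ Subgroup.center X))).isMulCommutative_of_isCyclic_of_ker_le_center
        (QuotientGroup.ker_mk' _).le
      have h : L 1 ≤ L (n - 2) := by
        rw [← hZ, ← hcomm 0, commutator_le]
        intro a _ b _
        rw [← QuotientGroup.eq_one_iff, ← QuotientGroup.mk'_apply, map_commutatorElement,
          commutatorElement_eq_one_iff_mul_comm]
        exact hab.is_comm.comm _ _
      have h2 := card_le_of_le h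
      rw [lcs_card hX hcl (by omega) le_rfl (by omega),
        lcs_card hX hcl (by omega) (by omega) (by omega), Nat.pow_le_pow_iff_right hp.one_lt] at h2
      omega)
    have hz : L (j + 2) = ⊥ := by
      have h2 : L (j + 1) ≤ Subgroup.center X := by
        rw [← hcomm j, ← hj, hZ, commutator_le]
        exact fun a ha b _ => (hm a).1 ha b
      rw [← hcomm (j + 1), eq_bot_iff, commutator_le]
      intro a ha b _
      rw [mem_bot, commutatorElement_eq_one_iff_mul_comm]
      exact (mem_center_iff.1 (h2 ha) b).symm
    have := (hbot _).1 hz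
    rw [hj]
    exact Subgroup.lowerCentralSeries_antitone _ (by omega)
  rw [hZ2, lcs_card hX hcl (by omega) (by omega) (by omega)]
  congr 1
  omega

end CfsgLib.MaxClassCentre
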