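import Cfsg.Agent.Lib.FusionMaxClassCentre
import Cfsg.Agent.Lib.FusionEssential
import Cfsg.Agent.Lib.FusionSat
import Cfsg.Agent.Lib.CoreBasic

/-!
# The centralizer of the second centre as an essential subgroup
-/

set_option autoImplicit false
set_option linter.style.haveILetI false

universe u

namespace CfsgLib.MaxClassCentre

open Cfsg Cfsg.FusionSystem CfsgLib.Fusion Subgroup
open scoped commutatorElement

theorem essential_of_moving {Ω : Type u} [Group Ω] {S : Subgroup Ω} [Finite S] (p : ℕ) [Fact p.Prime]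
    (hS : IsPGroup p S) (n : ℕ) (hn : Nat.card S = p ^ n) (h4 : 4 ≤ n)
    (hmax : Subgroup.lowerCentralSeries S (n - 2) ≠ ⊥) (F : Cfsg.FusionSystem S) (hF : F.IsSaturated p)
    (φ : ↥((Subgroup.upperCentralSeries S 2).map S.subtype) →* Ω)
    (hφ : φ ∈ F.Hom ((Subgroup.upperCentralSeries S 2).map S.subtype))
    (hφZ : φ.range = (Subgroup.upperCentralSeries S 2).map S.subtype)
    (hmove : ∃ (z : Ω) (hz : z ∈ (Subgroup.upperCentralSeries S 2).map S.subtype),
      z ∈ (Subgroup.center S).map S.subtype ∧ φ ⟨z, hz⟩ ∉ (Subgroup.center S).map S.subtype) :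
    F.IsEssential p (S ⊓ centralizer (((Subgroup.upperCentralSeries S 2).map S.subtype) : Set Ω)) := by
  classical
  have hp := (Fact.out : p.Prime)
  have hcl := class_eq hn (by omega) fun hb => hmax (by
    rw [← top_subtype_lowerCentralSeries, hb, Subgroup.map_bot])
  obtain ⟨hZc, hWc⟩ := centres hn hcl h4
  obtain ⟨z, hzW, hzZ, hzm⟩ := hmove
  set Q := S ⊓ centralizer (((Subgroup.upperCentralSeries S 2).map S.subtype) : Set Ω) with hQ
  have hWS : ((Subgroup.upperCentralSeries S 2).map S.subtype) ≤ S := map_subtype_le _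
  haveI := finite_of_le hWS
  haveI : IsMulCommutative (Subgroup.upperCentralSeries S 2) :=
    IsPGroup.isMulCommutative_of_card_eq_prime_sq hWc
  have hWab : ∀ a ∈ ((Subgroup.upperCentralSeries S 2).map S.subtype), ∀ b ∈ ((Subgroup.upperCentralSeries S 2).map S.subtype), a * b = b * a := by
    rintro _ ⟨a, ha, rfl⟩ _ ⟨b, hb, rfl⟩
    exact congrArg (fun q : Subgroup.upperCentralSeries S 2 => ((q : S) : Ω))
      ((inferInstance : IsMulCommutative (Subgroup.upperCentralSeries S 2)).is_comm.comm ⟨a, ha⟩ ⟨b, hb⟩)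
  have hWQ : ((Subgroup.upperCentralSeries S 2).map S.subtype) ≤ Q := fun w hw => ⟨hWS hw, mem_centralizer_iff.2 fun v hv => hWab v hv w hw⟩
  have hQS : Q ≤ S := inf_le_left
  haveI := finite_of_le hQS
  -- `Q` has index `p`
  obtain ⟨z₀, hz₀, hz₀Z⟩ := SetLike.not_le_iff_exists.1 (show
      ¬ Subgroup.upperCentralSeries S 2 ≤ Subgroup.center S from fun hle => by
    have := card_le_of_le hle
    rw [hWc, hZc, sq] at this
    have := hp.two_le
    nlinarith)
  have hgen : zpowers z₀ ⊔ Subgroup.center S = Subgroup.upperCentralSeries S 2 := by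
    have hc1 : Subgroup.center S ≤ Subgroup.upperCentralSeries S 2 := fun c hc => by
      rw [Subgroup.mem_upperCentralSeries_succ_iff, Subgroup.upperCentralSeries_one]
      intro y
      rw [commutatorElement_def, ← mem_center_iff.1 hc y, mul_inv_cancel_right, mul_inv_cancel]
      exact one_mem _
    refine CfsgLib.Core.eq_of_le_of_card_le (sup_le (zpowers_le.2 hz₀) hc1) ?_
    obtain ⟨k, hk⟩ := IsPGroup.iff_card.mp (hS.to_subgroup (zpowers z₀ ⊔ Subgroup.center S))
    have hlt : p ^ 1 < p ^ k := by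
      rw [pow_one, ← hk]
      conv_lhs => rw [← hZc]
      exact Nat.lt_of_le_of_ne (card_le_of_le le_sup_right) fun e => hz₀Z
        ((CfsgLib.Core.eq_of_le_of_card_le (le_sup_right : Subgroup.center S ≤ zpowers z₀ ⊔ _) e.ge).ge
          (mem_sup_left (mem_zpowers z₀)))
    rw [hWc, hk]
    exact Nat.pow_le_pow_right hp.pos ((Nat.pow_lt_pow_iff_right hp.one_lt).1 hlt)
  have hQmem : ∀ s : S, (s : Ω) ∈ Q ↔ ⁅s, z₀⁆ = 1 := fun s => by
    rw [commutatorElement_eq_one_iff_mul_comm]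
    constructor
    · exact fun h => Subtype.ext (mem_centralizer_iff.1 h.2 _ ⟨z₀, hz₀, rfl⟩).symm
    · refine fun h => ⟨s.2, mem_centralizer_iff.2 ?_⟩
      have hle : Subgroup.upperCentralSeries S 2 ≤ centralizer ({s} : Set S) := by
        rw [← hgen, sup_le_iff, zpowers_le]
        exact ⟨mem_centralizer_singleton_iff.2 h.symm,
          fun c hc => mem_centralizer_singleton_iff.2 (mem_center_iff.1 hc s).symm⟩
      rintro _ ⟨w, hw, rfl⟩
      exact congrArg Subtype.val (mem_centralizer_singleton_iff.1 (hle hw))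
  have hcm : ∀ s : S, ⁅s, z₀⁆ ∈ Subgroup.center S := fun s => by
    have h := (Subgroup.mem_upperCentralSeries_succ_iff.1 hz₀) s
    rw [Subgroup.upperCentralSeries_one] at h
    rw [← commutatorElement_inv]
    refine inv_mem ?_
    simpa only [commutatorElement_def] using h
  let f : S →* Subgroup.center S :=
    { toFun := fun s => ⟨⁅s, z₀⁆, hcm s⟩
      map_one' := Subtype.ext (commutatorElement_one_left z₀)
      map_mul' := fun a b => Subtype.ext <| by
        show ⁅a * b, z₀⁆ = ⁅a, z₀⁆ * ⁅b, z₀⁆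
        rw [show ⁅a * b, z₀⁆ = a * ⁅b, z₀⁆ * a⁻¹ * ⁅a, z₀⁆ by
          simp only [commutatorElement_def, mul_inv_rev]; group,
          mem_center_iff.1 (hcm b) a, mul_inv_cancel_right]
        exact (mem_center_iff.1 (hcm b) _).symm }
  have hker : f.ker = Q.subgroupOf S := by
    ext s
    rw [mem_subgroupOf, hQmem, MonoidHom.mem_ker]
    exact ⟨fun h => congrArg Subtype.val h, fun h => Subtype.ext h⟩
  have hidx : (Q.subgroupOf S).index = p := by
    rw [← hker, index_ker]
    rcases (Nat.dvd_prime hp).1 (hZc ▸ card_subgroup_dvd_card f.range) with e | e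
    · exfalso
      refine hz₀Z (mem_center_iff.2 fun g => ?_)
      have : f g = 1 := (Subgroup.card_eq_one.1 e).le ⟨g, rfl⟩
      exact commutatorElement_eq_one_iff_mul_comm.1 (congrArg Subtype.val this)
    · exact e
  haveI hQn : (Q.subgroupOf S).Normal := hker ▸ inferInstance
  have hlt : Q < S := lt_of_le_of_ne hQS fun e => by
    rw [e, subgroupOf_self, index_top] at hidx
    exact hp.one_lt.ne hidx
  have hnQ : ∀ (P : Subgroup Ω) (hP : P ≤ S), (∀ g ∈ S, ∀ x ∈ P, g * x * g⁻¹ ∈ P) → F.IsFullyNormalized P := by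
    intro P hP hconj
    haveI := finite_of_le hP
    refine ⟨hP, fun R _ => ?_⟩
    rw [show normalizerIn S P = S from inf_eq_left.2 fun g hg => mem_normalizer_of_conj_mem (hconj g hg)]
    exact card_le_of_le inf_le_left
  have hQconj : ∀ g ∈ S, ∀ x ∈ Q, g * x * g⁻¹ ∈ Q := fun g hg x hx =>
    mem_subgroupOf.1 (hQn.conj_mem ⟨x, hQS hx⟩ (mem_subgroupOf.2 hx) ⟨g, hg⟩)
  have hWconj : ∀ g ∈ S, ∀ x ∈ ((Subgroup.upperCentralSeries S 2).map S.subtype), g * x * g⁻¹ ∈ ((Subgroup.upperCentralSeries S 2).map S.subtype) := by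
    rintro g hg _ ⟨x, hx, rfl⟩
    exact ⟨_, Subgroup.Normal.conj_mem inferInstance x hx ⟨g, hg⟩, rfl⟩
  -- extend the map to `Q`
  have hrec := isReceptive_of_fullyNormalized hS hF (hnQ ((Subgroup.upperCentralSeries S 2).map S.subtype) hWS hWconj)
  have himg : img (ext φ) ((Subgroup.upperCentralSeries S 2).map S.subtype) = ((Subgroup.upperCentralSeries S 2).map S.subtype) := range_eq_img.symm.trans hφZ
  obtain ⟨k, hk, hkW⟩ := receptive_extend (R := Q) hrec (map_ext hφ) himg hWQ
    fun g hg => inExtender_of_centralizerIn _ hg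
  have hkimg : img k ((Subgroup.upperCentralSeries S 2).map S.subtype) = ((Subgroup.upperCentralSeries S 2).map S.subtype) := (img_congr hkW).trans himg
  have hkQ : img k Q = Q := by
    have hle : img k Q ≤ Q := img_le_iff.2 fun x hx => by
      have := hk.apply_mem_centralizerIn hWQ hx (mem_centralizer_iff.1 hx.2)
      rwa [hkimg] at this
    exact CfsgLib.Fusion.eq_of_le_of_card_le hQS hle hk.card_img.ge
  obtain ⟨α, hα, hαk⟩ := hk.exists_aut hkQ
  rcases extendable_dichotomy hS hF hlt (hnQ Q hQS hQconj) _ rfl with ⟨-, hH⟩ | ⟨h, -⟩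
  swap
  · exact h
  exfalso
  haveI := finite_mulAut Q
  set T := autInducedBy S Q with hT
  have hαT : α ∈ normalizer (T : Set (MulAut Q)) := by
    rw [← hH] at hα
    refine (closure_le _).2 ?_ hα
    rintro β ⟨R, hQR, ψ, hψ, he⟩
    have hRS : R ≤ S := (F.le_of_mem hψ).1
    have hR : R = S := by
      refine CfsgLib.Fusion.eq_of_le_of_card_le le_rfl hRS ?_
      haveI := finite_of_le hRS
      obtain ⟨a, ha⟩ := IsPGroup.iff_card.mp (hS.to_le hRS)
      obtain ⟨b, hb⟩ := IsPGroup.iff_card.mp (hS.to_le hQS)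
      have h1 := card_lt_of_lt hRS hQR
      have h2 := card_mul_index (Q.subgroupOf S)
      rw [Nat.card_congr (subgroupOfEquivOfLe hQS).toEquiv, hidx, hb, hn, ← pow_succ] at h2
      have h3 := Nat.pow_right_injective hp.two_le h2
      rw [ha, hb, Nat.pow_lt_pow_iff_right hp.one_lt] at h1
      rw [hn, ha]
      exact Nat.pow_le_pow_right hp.pos (by omega)
    subst hR
    refine mem_normalizer_of_conj_mem fun t ht => ?_
    obtain ⟨s, hs, hsn, hse⟩ := mem_autInducedBy_iff.1 ht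
    refine mem_autInducedBy_iff.2 ⟨ψ ⟨s, hs⟩, (F.le_of_mem hψ).2 _, ?_, fun x hx => ?_⟩
    · exact mem_normalizer_of_conj_mem fun x hx => hQconj _ ((F.le_of_mem hψ).2 _) x hx
    have hb : ∀ y (hy : y ∈ Q), autFun β y = ψ ⟨y, hQS hy⟩ := fun y hy => by
      rw [autFun_apply β hy]
      exact (he ⟨y, hy⟩).symm
    have hy := autFun_mem β⁻¹ hx
    rw [autFun_mul _ _ hx, autFun_mul _ _ hy, hse _ hy, hb _ (hQconj s hs _ hy)]
    have e : (⟨s * autFun β⁻¹ x * s⁻¹, hQS (hQconj s hs _ hy)⟩ : R) =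
        ⟨s, hs⟩ * ⟨autFun β⁻¹ x, hQS hy⟩ * ⟨s, hs⟩⁻¹ := Subtype.ext (by simp)
    rw [e, map_mul, map_mul, map_inv, ← hb _ hy, autFun_apply_inv β hx]
  obtain ⟨s, hs, hsQ⟩ := SetLike.exists_of_lt hlt
  obtain ⟨t, ht, hte⟩ : ∃ t ∈ T, ∀ x ∈ Q, autFun t x = s * x * s⁻¹ :=
    ⟨normalizerInToAut S Q ⟨s, hs, mem_normalizer_of_conj_mem (hQconj s hs)⟩,
      mem_autInducedBy_iff.2 ⟨s, hs, mem_normalizer_of_conj_mem (hQconj s hs),
        fun x hx => autFun_normalizerInToAut _ hx⟩,
      fun x hx => autFun_normalizerInToAut _ hx⟩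
  have htc : α * t * α⁻¹ ∈ T := (mem_normalizer_iff.1 hαT t).1 ht
  obtain ⟨s', hs', -, hse'⟩ := mem_autInducedBy_iff.1 htc
  have hrel : ∀ x ∈ Q, autFun α (s * x * s⁻¹) = s' * autFun α x * s'⁻¹ := fun x hx => by
    have h1 := hse' _ (autFun_mem α hx)
    rw [autFun_mul _ _ (autFun_mem α hx), autFun_inv_apply α hx, autFun_mul _ _ hx, hte x hx] at h1
    exact h1
  have hαW : ∀ w ∈ ((Subgroup.upperCentralSeries S 2).map S.subtype), autFun α w ∈ ((Subgroup.upperCentralSeries S 2).map S.subtype) := fun w hw => by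
    rw [hαk w (hWQ hw)]
    exact hkimg.le (mem_img_of_mem k hw)
  have hinj : ∀ a ∈ Q, ∀ b ∈ Q, autFun α a = autFun α b → a = b := fun a ha b hb h => by
    rw [← autFun_inv_apply α ha, h, autFun_inv_apply α hb]
  have hs'Q : s' ∉ Q := fun hc => hsQ ⟨hs, mem_centralizer_iff.2 fun w hw => by
    have h1 := hrel w (hWQ hw)
    have h2 : autFun α w * s' = s' * autFun α w := mem_centralizer_iff.1 hc.2 _ (hαW w hw)
    rw [← h2, mul_inv_cancel_right] at h1
    have h3 := hinj _ (hQconj s hs w (hWQ hw)) w (hWQ hw) h1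
    exact (mul_inv_eq_iff_eq_mul.1 h3).symm⟩
  set u := autFun α z with hu
  have huW : u ∈ ((Subgroup.upperCentralSeries S 2).map S.subtype) := hαW z hzW
  have huZ : u ∉ (Subgroup.center S).map S.subtype := by
    rwa [hu, hαk z (hWQ hzW), hkW z hzW, ext_apply φ hzW]
  obtain ⟨z', hz', rfl⟩ := hzZ
  have h1 := hrel _ (hWQ hzW)
  have e : s * (z' : Ω) * s⁻¹ = z' := by
    rw [show s * (z' : Ω) = z' * s from congrArg Subtype.val (mem_center_iff.1 hz' ⟨s, hs⟩),
      mul_inv_cancel_right]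
  rw [Subgroup.coe_subtype, e] at h1
  apply huZ
  refine ⟨⟨u, hWS huW⟩, mem_center_iff.2 fun g => Subtype.ext ?_, rfl⟩
  let C := (centralizer ({u} : Set Ω)).subgroupOf S
  have hQC : Q.subgroupOf S ≤ C := fun x hx => mem_subgroupOf.2
    (mem_centralizer_singleton_iff.2 (mem_centralizer_iff.1 (mem_subgroupOf.1 hx).2 u huW).symm)
  have hsC : (⟨s', hs'⟩ : S) ∈ C := mem_subgroupOf.2 (mem_centralizer_singleton_iff.2
    (mul_inv_eq_iff_eq_mul.1 h1.symm))
  have hC : C = ⊤ := by
    rw [← index_eq_one]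
    have h2 := relIndex_mul_index hQC
    rw [hidx] at h2
    rcases (Nat.dvd_prime hp).1 ⟨_, h2.symm.trans (mul_comm _ _)⟩ with e | e
    · exact e
    · exfalso
      rw [e] at h2
      have h3 : (Q.subgroupOf S).relIndex C = 1 := Nat.eq_of_mul_eq_mul_right hp.pos (h2.trans (one_mul p).symm)
      exact hs'Q (mem_subgroupOf.1 (relIndex_eq_one.1 h3 hsC))
  exact mem_centralizer_singleton_iff.1 (mem_subgroupOf.1 (hC.ge (mem_top g) : g ∈ C))

end CfsgLib.MaxClassCentre
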