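import Cfsg.Agent.Lib.SporPerm
import Cfsg.Agent.Lib.SporM24Data

/-!
The group of the length-24 code: generators, order, 5-transitivity, a base of seven points.
-/

set_option autoImplicit false
set_option maxRecDepth 20000

namespace CfsgLib.Spor
open Cfsg
open scoped Pointwise

/-- The shift by one. -/
abbrev genShift : P24 := Equiv.optionCongr (Equiv.addRight (1 : ZMod 23))

/-- The group generated by the three standard permutations. -/
def gen24 : Subgroup P24 := Subgroup.closure {genShift, Cfsg.projInv, Cfsg.cubeTwist}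

theorem rep_shift : Rep genShift (row m24Tab 0) := by
  unfold Rep
  decide +kernel

theorem rep_projInv : Rep Cfsg.projInv (row m24Tab 1) := by
  show ∀ p, ix (projInvFun p) = (row m24Tab 1).getD (ix p) 0
  decide +kernel

theorem rep_cubeTwist : Rep Cfsg.cubeTwist (row m24Tab 2) := by
  show ∀ p, ix (cubeTwistFun p) = (row m24Tab 2).getD (ix p) 0
  decide +kernel

theorem m24Tab_ok : slpOK 3 m24Tab = true := by decide +kernel

theorem genShift_mem : genShift ∈ M24 := rep_shift.mem_M24 (by decide +kernel)

theorem projInv_mem : Cfsg.projInv ∈ M24 := rep_projInv.mem_M24 (by decide +kernel)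

theorem cubeTwist_mem : Cfsg.cubeTwist ∈ M24 := rep_cubeTwist.mem_M24 (by decide +kernel)

theorem gen24_le : gen24 ≤ M24 := by
  rw [gen24, Subgroup.closure_le]
  rintro g (rfl | rfl | rfl)
  exacts [genShift_mem, projInv_mem, cubeTwist_mem]

theorem row_mem_gen24 {k : ℕ} (hk : k < m24Tab.length) : ∃ g ∈ gen24, Rep g (row m24Tab k) := by
  refine slp_sound m24Tab_ok ?_ k hk
  intro i hi
  interval_cases i
  · exact ⟨_, Subgroup.subset_closure (by simp), rep_shift⟩
  · exact ⟨_, Subgroup.subset_closure (by simp), rep_projInv⟩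
  · exact ⟨_, Subgroup.subset_closure (by simp), rep_cubeTwist⟩

/-- The mask of the points allowed at each level of the chain. -/
def m24Allowed : List ℕ :=
  [16777215, 8388607, 8388606, 8388604, 8388600, m24Oct ^^^ 8388623, 16777215 ^^^ m24Oct]

/-- The check of one level of the chain. -/
noncomputable def levelOK (k : ℕ) : Bool :=
  let rows := m24Trans.getD k []
  rows.all (fun r => Nat.blt r m24Tab.length &&
      (m24Base.take k).all fun b => Nat.beq ((row m24Tab r).getD b 0) b) &&
    (List.range 24).all fun i =>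
      !(m24Allowed.getD k 0).testBit i ||
        rows.any fun r => Nat.beq ((row m24Tab r).getD (m24Base.getD k 0) 0) i

theorem levels_ok : (List.range 7).all levelOK = true := by decide +kernel

/-- The `k`-th base point. -/
def bpt (k : ℕ) : GolayPt := pt (m24Base.getD k 0)

theorem bpt_lt : ∀ k ∈ List.range 7, m24Base.getD k 0 < 24 := by decide +kernel

theorem exists_transversal {k : ℕ} (hk : k < 7) {y : GolayPt}
    (hy : (m24Allowed.getD k 0).testBit (ix y) = true) :
    ∃ u ∈ gen24, (∀ j < k, u (bpt j) = bpt j) ∧ u (bpt k) = y := by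
  have h := List.all_eq_true.1 levels_ok k (List.mem_range.2 hk)
  simp only [levelOK, Bool.and_eq_true, List.all_eq_true, Bool.or_eq_true, Bool.not_eq_true',
    List.any_eq_true, Nat.beq_eq, Nat.blt_eq] at h
  rcases h.2 (ix y) (List.mem_range.2 (ix_lt y)) with h' | ⟨r, hr, e⟩
  · rw [hy] at h'; exact absurd h' (by simp)
  obtain ⟨u, hu, ru⟩ := row_mem_gen24 (h.1 r hr).1
  refine ⟨u, hu, fun j hj => ?_, ?_⟩
  · have hb : m24Base.getD j 0 ∈ m24Base.take k := by
      have hl : m24Base.length = 7 := rfl
      have hj' : j < (m24Base.take k).length := by simp [List.length_take]; omega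
      rw [List.getD_eq_getElem _ _ (by omega : j < m24Base.length)]
      have := List.getElem_mem hj'
      rwa [List.getElem_take] at this
    have hj7 := bpt_lt j (List.mem_range.2 (by omega))
    rw [bpt, ru.apply_pt hj7, (h.1 r hr).2 _ hb]
  · rw [bpt, ru.apply_pt (bpt_lt k (List.mem_range.2 hk)), e, pt_ix]

theorem allowed_small : ∀ k ∈ List.range 5, ∀ p : GolayPt,
    (∀ j ∈ List.range k, p ≠ bpt j) → (m24Allowed.getD k 0).testBit (ix p) = true := by
  decide +kernel

theorem bpt_ne : ∀ k ∈ List.range 7, ∀ j ∈ List.range k, bpt k ≠ bpt j := by decide +kernel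

theorem apply_ne_of_fix {α : Type*} {g : Equiv.Perm α} {a b : α} (hb : g b = b) (h : a ≠ b) : g a ≠ b := by
  intro e; exact h (g.injective (e.trans hb.symm))

theorem allowed_of_fix {g : P24} {k : ℕ} (hk : k < 5) (hg : ∀ j < k, g (bpt j) = bpt j) :
    (m24Allowed.getD k 0).testBit (ix (g (bpt k))) = true :=
  allowed_small k (List.mem_range.2 hk) _ fun j hj =>
    apply_ne_of_fix (hg j (List.mem_range.1 hj)) (bpt_ne k (List.mem_range.2 (by omega)) j hj)

/-- Every five-tuple of distinct points can be carried to the first five base points. -/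
theorem exists_to_base (x : ℕ → GolayPt) (n : ℕ) (hn : n ≤ 5)
    (hx : ∀ i < n, ∀ j < n, i ≠ j → x i ≠ x j) : ∃ h ∈ gen24, ∀ j < n, h (x j) = bpt j := by
  induction n with
  | zero => exact ⟨1, gen24.one_mem, fun j hj => absurd hj (Nat.not_lt_zero j)⟩
  | succ n ih =>
    obtain ⟨h, hh, e⟩ := ih (by omega) fun i hi j hj => hx i (by omega) j (by omega)
    have hy : (m24Allowed.getD n 0).testBit (ix (h (x n))) = true := by
      refine allowed_small n (List.mem_range.2 (by omega)) _ fun j hj => ?_
      rw [← e j (List.mem_range.1 hj)]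
      have := List.mem_range.1 hj
      exact fun he => hx n (by omega) j (by omega) (by omega) (h.injective he)
    obtain ⟨u, hu, hufix, huy⟩ := exists_transversal (by omega) hy
    refine ⟨u⁻¹ * h, gen24.mul_mem (gen24.inv_mem hu) hh, fun j hj => ?_⟩
    rw [Equiv.Perm.mul_apply, Equiv.Perm.inv_eq_iff_eq]
    rcases Nat.lt_or_ge j n with hjn | hjn
    · rw [e j hjn, hufix j hjn]
    · have : j = n := by omega
      subst this; rw [huy]

/-- The automorphism group of the octads. -/
abbrev octAut : Subgroup P24 := setSystemAut octads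

theorem smul_mem_octads {g : P24} (hg : g ∈ octAut) {o : Finset GolayPt} (ho : o ∈ octads) :
    g • o ∈ octads := by
  have h := MulAction.mem_stabilizer_iff.1 hg
  rw [← h]; exact Set.smul_mem_smul_set ho

theorem M24_le_octAut : M24 ≤ octAut := by
  intro g hg
  rw [MulAction.mem_stabilizer_iff]
  refine Set.eq_of_subset_of_ncard_le ?_ ?_ (Set.toFinite _)
  · rintro _ ⟨o, ⟨ho, hc⟩, rfl⟩
    exact ⟨mem_M24_iff_forall.1 hg o ho, by simp [Finset.card_smul_finset, hc]⟩
  · rw [Set.ncard_smul_set]

theorem codeSets_symmDiff {s t : Finset GolayPt} (hs : s ∈ codeSets) (ht : t ∈ codeSets) :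
    symmDiff s t ∈ codeSets := by
  obtain ⟨v, hv, rfl⟩ := hs
  obtain ⟨w, hw, rfl⟩ := ht
  refine ⟨v + w, (golayCode.add_mem hv hw), ?_⟩
  ext p
  simp only [support₂, Finset.mem_symmDiff, Finset.mem_filter, Finset.mem_univ, true_and, Pi.add_apply]
  generalize v p = a; generalize w p = b
  revert a b; decide

theorem card_codeSets {s : Finset GolayPt} (hs : s ∈ codeSets) :
    s.card = 0 ∨ s.card = 8 ∨ s.card = 12 ∨ s.card = 16 ∨ s.card = 24 := by
  have := codeMasks_weights _ (mem_codeSets_iff.1 hs)
  rw [← card_setOfMask, setOfMask_maskOf] at this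
  simpa using this

/-- Two octads with five common points are equal. -/
theorem octad_unique {o o' s : Finset GolayPt} (ho : o ∈ octads) (ho' : o' ∈ octads) (hs : 5 ≤ s.card)
    (h : s ⊆ o) (h' : s ⊆ o') : o = o' := by
  have hd := card_codeSets (codeSets_symmDiff ho.1 ho'.1)
  have hi : s.card ≤ (o ∩ o').card := Finset.card_le_card (Finset.subset_inter h h')
  have e : (symmDiff o o').card + 2 * (o ∩ o').card = o.card + o'.card := by
    rw [symmDiff_def, Finset.sup_eq_union, Finset.card_union_of_disjoint disjoint_sdiff_sdiff]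
    have := Finset.card_sdiff_add_card_inter o o'
    have := Finset.card_sdiff_add_card_inter o' o
    rw [Finset.inter_comm o' o] at this
    omega
  have h8 := ho.2
  have h8' := ho'.2
  have : (symmDiff o o').card = 0 := by omega
  exact symmDiff_eq_bot.1 (Finset.card_eq_zero.1 this)

theorem smul_eq_of_five_fixed {g : P24} (hg : g ∈ octAut) {o : Finset GolayPt} (ho : o ∈ octads)
    {s : Finset GolayPt} (hs : 5 ≤ s.card) (hso : s ⊆ o) (hfix : ∀ p ∈ s, g p = p) : g • o = o := by
  refine (octad_unique ho (smul_mem_octads hg ho) hs hso ?_).symm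
  intro p hp
  have := Finset.smul_mem_smul_finset (a := g) (hso hp)
  rwa [Equiv.Perm.smul_def, hfix p hp] at this

/-- The masks of the octads meeting a given mask in five points at least. -/
noncomputable def pinned (f : ℕ) : List ℕ := (weightMasks 8).filter fun o => Nat.ble 5 (wt (o &&& f))

/-- The points that the pinned octads cannot tell from `i`. -/
def cellOf (inv : List ℕ) (i : ℕ) : ℕ :=
  inv.foldl (fun acc o => acc &&& cond (o.testBit i) o (16777215 ^^^ o)) 16777215

/-- One step of propagation of fixed points. -/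
noncomputable def fixStep (f : ℕ) : ℕ :=
  let inv := pinned f
  fromBits ((List.range 24).map fun i => f.testBit i || Nat.beq (cellOf inv i) (2 ^ i))

theorem mem_cellOf {g : P24} {p : GolayPt} : ∀ (inv : List ℕ) (acc : ℕ),
    (∀ o ∈ inv, g • setOfMask o = setOfMask o) → acc.testBit (ix (g p)) = true →
    (inv.foldl (fun acc o => acc &&& cond (o.testBit (ix p)) o (16777215 ^^^ o)) acc).testBit (ix (g p)) = true
  | [], _, _, h => h
  | o :: inv, acc, hinv, h => by
    refine mem_cellOf inv _ (fun c hc => hinv c (by simp [hc])) ?_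
    have e : o.testBit (ix (g p)) = o.testBit (ix p) := by
      have := Finset.smul_mem_smul_finset_iff (a := g) (b := p) (s := setOfMask o)
      rw [hinv o (by simp), Equiv.Perm.smul_def] at this
      simpa using this
    have hall : (16777215 : ℕ).testBit (ix (g p)) = true := by
      rw [(by norm_num : (16777215 : ℕ) = 2 ^ 24 - 1), Nat.testBit_two_pow_sub_one]
      simpa using ix_lt _
    cases hb : o.testBit (ix p) <;> simp [h, e, hb, hall, Nat.testBit_xor]

theorem mem_octads_iff {o : Finset GolayPt} : o ∈ octads ↔ maskOf o ∈ weightMasks 8 := mem_wordsOfWeight_iff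

theorem setOfMask_mem_octads {m : ℕ} (h : m ∈ weightMasks 8) : setOfMask m ∈ octads :=
  mem_octads_iff.2 (by rwa [maskOf_setOfMask (weightMasks_lt 8 m h)])

theorem fix_fixStep {g : P24} (hg : g ∈ octAut) {f : ℕ} (hf : ∀ p ∈ setOfMask f, g p = p) :
    ∀ p ∈ setOfMask (fixStep f), g p = p := by
  intro p hp
  simp only [mem_setOfMask, fixStep, testBit_fromBits] at hp
  simp [List.getD, List.getElem?_range (ix_lt p)] at hp
  rcases hp with hp | hp
  · exact hf p (by simp [hp])
  have hinv : ∀ o ∈ pinned f, g • setOfMask o = setOfMask o := by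
    intro o ho
    simp only [pinned, List.mem_filter, Nat.ble_eq] at ho
    refine smul_eq_of_five_fixed hg (setOfMask_mem_octads ho.1) (s := setOfMask o ∩ setOfMask f) ?_
      Finset.inter_subset_left fun q hq => hf q (Finset.mem_inter.1 hq).2
    rw [← setOfMask_and, card_setOfMask]; exact ho.2
  have h := mem_cellOf (g := g) (p := p) (pinned f) 16777215 hinv (by
    rw [(by norm_num : (16777215 : ℕ) = 2 ^ 24 - 1), Nat.testBit_two_pow_sub_one]
    simpa using ix_lt _)
  change (cellOf (pinned f) (ix p)).testBit (ix (g p)) = true at h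
  rw [hp, Nat.testBit_two_pow] at h
  exact ix_inj (by simpa using h : ix p = ix (g p)).symm

/-- The mask of the seven base points. -/
def baseMask : ℕ := fromBits ((List.range 24).map fun i => m24Base.elem i)

theorem fixStep_base : fixStep (fixStep (fixStep (fixStep (fixStep baseMask)))) = 16777215 := by
  decide +kernel

theorem baseMask_points : ∀ p : GolayPt, baseMask.testBit (ix p) = true → ∃ k ∈ List.range 7, p = bpt k := by
  decide +kernel

theorem eq_one_of_fix {g : P24} (hg : g ∈ octAut) (h : ∀ k < 7, g (bpt k) = bpt k) : g = 1 := by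
  have h0 : ∀ p ∈ setOfMask baseMask, g p = p := by
    intro p hp
    obtain ⟨k, hk, rfl⟩ := baseMask_points p (by simpa using hp)
    exact h k (List.mem_range.1 hk)
  have h5 := fix_fixStep hg (fix_fixStep hg (fix_fixStep hg (fix_fixStep hg (fix_fixStep hg h0))))
  rw [fixStep_base] at h5
  ext1 p
  refine h5 p ?_
  rw [mem_setOfMask, (by norm_num : (16777215 : ℕ) = 2 ^ 24 - 1), Nat.testBit_two_pow_sub_one]
  simpa using ix_lt p

/-- The octad of the first five base points. -/
def baseOct : Finset GolayPt := setOfMask m24Oct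

theorem baseOct_mem : baseOct ∈ octads := setOfMask_mem_octads (by decide +kernel)

theorem bpt_mem_baseOct : ∀ k ∈ List.range 6, bpt k ∈ baseOct := by decide +kernel

theorem bpt_six_not_mem : bpt 6 ∉ baseOct := by decide +kernel

theorem allowed_five : ∀ p : GolayPt, p ∈ baseOct → (∀ j ∈ List.range 5, p ≠ bpt j) →
    (m24Allowed.getD 5 0).testBit (ix p) = true := by decide +kernel

theorem allowed_six : ∀ p : GolayPt, p ∉ baseOct → (m24Allowed.getD 6 0).testBit (ix p) = true := by
  decide +kernel

theorem five_bpt_card : ((Finset.range 5).image bpt).card = 5 := by decide +kernel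

theorem baseOct_fixed {g : P24} (hg : g ∈ octAut) (h : ∀ j < 5, g (bpt j) = bpt j) : g • baseOct = baseOct := by
  refine smul_eq_of_five_fixed hg baseOct_mem (s := (Finset.range 5).image bpt) five_bpt_card.ge ?_ ?_
  · intro p hp
    obtain ⟨j, hj, rfl⟩ := Finset.mem_image.1 hp
    exact bpt_mem_baseOct j (List.mem_range.2 (by have := Finset.mem_range.1 hj; omega))
  · intro p hp
    obtain ⟨j, hj, rfl⟩ := Finset.mem_image.1 hp
    exact h j (Finset.mem_range.1 hj)

theorem allowed_image {g : P24} (hg : g ∈ octAut) {k : ℕ} (hk : k < 7)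
    (h : ∀ j < k, g (bpt j) = bpt j) : (m24Allowed.getD k 0).testBit (ix (g (bpt k))) = true := by
  rcases Nat.lt_or_ge k 5 with hk5 | hk5
  · exact allowed_of_fix hk5 h
  have ho := baseOct_fixed hg fun j hj => h j (by omega)
  have hmem : ∀ p, g p ∈ baseOct ↔ p ∈ baseOct := by
    intro p
    conv_lhs => rw [← ho]
    exact Finset.smul_mem_smul_finset_iff (a := g)
  rcases (by omega : k = 5 ∨ k = 6) with rfl | rfl
  · refine allowed_five _ ((hmem _).2 (bpt_mem_baseOct 5 (by decide))) fun j hj => ?_
    exact apply_ne_of_fix (h j (List.mem_range.1 hj)) (bpt_ne 5 (by decide) j hj)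
  · exact allowed_six _ fun hh => bpt_six_not_mem ((hmem _).1 hh)

theorem chain_step : ∀ n k, k + n = 7 → ∀ g ∈ octAut, (∀ j < k, g (bpt j) = bpt j) → g ∈ gen24
  | 0, k, hk, g, hg, h => by
    rw [eq_one_of_fix hg fun j hj => h j (by omega)]; exact gen24.one_mem
  | n + 1, k, hk, g, hg, h => by
    obtain ⟨u, hu, hfix, huk⟩ := exists_transversal (by omega : k < 7) (allowed_image hg (by omega) h)
    have hmem : u⁻¹ * g ∈ octAut :=
      octAut.mul_mem (octAut.inv_mem (M24_le_octAut (gen24_le hu))) hg
    have := chain_step n (k + 1) (by omega) _ hmem (fun j hj => by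
      rw [Equiv.Perm.mul_apply, Equiv.Perm.inv_eq_iff_eq]
      rcases Nat.lt_or_ge j k with hjk | hjk
      · rw [h j hjk, hfix j hjk]
      · have : j = k := by omega
        subst this; rw [huk])
    simpa using gen24.mul_mem hu this

theorem octAut_le_gen24 : octAut ≤ gen24 :=
  fun g hg => chain_step 7 0 rfl g hg fun j hj => absurd hj (Nat.not_lt_zero j)

theorem gen24_eq : gen24 = M24 :=
  le_antisymm gen24_le (M24_le_octAut.trans octAut_le_gen24)

theorem octAut_eq : octAut = M24 :=
  le_antisymm (octAut_le_gen24.trans gen24_le) M24_le_octAut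

/-- The subgroup fixing the first `k` base points. -/
def fixBase : ℕ → Subgroup P24
  | 0 => M24
  | k + 1 => fixBase k ⊓ MulAction.stabilizer P24 (bpt k)

theorem mem_fixBase {k : ℕ} {g : P24} : g ∈ fixBase k ↔ g ∈ M24 ∧ ∀ j < k, g (bpt j) = bpt j := by
  induction k with
  | zero => simp [fixBase]
  | succ k ih =>
    simp only [fixBase, Subgroup.mem_inf, ih, MulAction.mem_stabilizer_iff, Equiv.Perm.smul_def,
      Nat.forall_lt_succ_right]
    tauto

theorem card_fixBase_succ {k : ℕ} (hk : k < 7) :
    Nat.card ↥(fixBase k) = wt (m24Allowed.getD k 0) * Nat.card ↥(fixBase (k + 1)) := by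
  rw [card_eq_ncard_mul (fixBase k) (bpt k) ↑(setOfMask (m24Allowed.getD k 0)),
    Set.ncard_coe_finset, card_setOfMask]
  · rfl
  · intro g hg
    obtain ⟨h1, h2⟩ := mem_fixBase.1 hg
    simpa using allowed_image (M24_le_octAut h1) hk h2
  · intro y hy
    obtain ⟨u, hu, h1, h2⟩ := exists_transversal hk (by simpa using hy)
    exact ⟨u, mem_fixBase.2 ⟨gen24_le hu, h1⟩, h2⟩

theorem card_fixBase_seven : Nat.card ↥(fixBase 7) = 1 := by
  rw [Subgroup.card_eq_one, Subgroup.eq_bot_iff_forall]
  intro g hg
  obtain ⟨h1, h2⟩ := mem_fixBase.1 hg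
  exact eq_one_of_fix (M24_le_octAut h1) h2

theorem card_fixBase : ∀ k ∈ List.range 8,
    Nat.card ↥(fixBase k) = [244823040, 10200960, 443520, 20160, 960, 48, 16, 1].getD k 0 := by
  have h6 := card_fixBase_succ (by norm_num : 6 < 7)
  have h5 := card_fixBase_succ (by norm_num : 5 < 7)
  have h4 := card_fixBase_succ (by norm_num : 4 < 7)
  have h3 := card_fixBase_succ (by norm_num : 3 < 7)
  have h2 := card_fixBase_succ (by norm_num : 2 < 7)
  have h1 := card_fixBase_succ (by norm_num : 1 < 7)
  have h0 := card_fixBase_succ (by norm_num : 0 < 7)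
  have w : ∀ k ∈ List.range 7, wt (m24Allowed.getD k 0) = [24, 23, 22, 21, 20, 3, 16].getD k 0 := by
    decide +kernel
  rw [w 6 (by decide), card_fixBase_seven] at h6
  rw [w 5 (by decide), h6] at h5
  rw [w 4 (by decide), h5] at h4
  rw [w 3 (by decide), h4] at h3
  rw [w 2 (by decide), h3] at h2
  rw [w 1 (by decide), h2] at h1
  rw [w 0 (by decide), h1] at h0
  intro k hk
  have := List.mem_range.1 hk
  interval_cases k
  · exact h0
  · exact h1
  · exact h2
  · exact h3
  · exact h4
  · exact h5
  · exact h6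
  · exact card_fixBase_seven

theorem card_M24 : Nat.card M24 = 244823040 := card_fixBase 0 (by decide)

/-- The group is 5-transitive. -/
theorem exists_M24_map {n : ℕ} (hn : n ≤ 5) (x y : Fin n ↪ GolayPt) : ∃ g ∈ M24, ∀ i, g (x i) = y i := by
  let ext (z : Fin n ↪ GolayPt) : ℕ → GolayPt := fun i => if h : i < n then z ⟨i, h⟩ else none
  have hne : ∀ z : Fin n ↪ GolayPt, ∀ i < n, ∀ j < n, i ≠ j → ext z i ≠ ext z j := by
    intro z i hi j hj hij
    simp only [ext, hi, hj, dif_pos]
    exact fun e => hij (by simpa using z.injective e)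
  obtain ⟨a, ha, ea⟩ := exists_to_base (ext x) n hn (hne x)
  obtain ⟨b, hb, eb⟩ := exists_to_base (ext y) n hn (hne y)
  refine ⟨b⁻¹ * a, gen24_le (gen24.mul_mem (gen24.inv_mem hb) ha), fun i => ?_⟩
  have h1 := ea i i.2
  have h2 := eb i i.2
  simp only [ext, i.2, dif_pos, Fin.eta] at h1 h2
  rw [Equiv.Perm.mul_apply, Equiv.Perm.inv_eq_iff_eq, h1, h2]

end CfsgLib.Spor
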