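import Cfsg.Agent.Lib.SporPerm

/-!
Certificates for orbits of subgroups on masks and for normalisers of cyclic subgroups.
-/

set_option autoImplicit false

namespace CfsgLib.Spor
open Cfsg
open scoped Pointwise

theorem rep_one : Rep 1 (List.range 24) := by
  intro p; simp [List.getD, List.getElem?_range (ix_lt p)]

/-- Apply a word, coded in base `gens.length + 1` with digit `j + 1` for the generator `j`. -/
noncomputable def applyWord (gens : List (List ℕ)) : ℕ → ℕ → ℕ → ℕ
  | 0, _, m => m
  | fuel + 1, w, m =>
    forceNat w fun u => forceNat m fun v =>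
      cond (Nat.beq u 0) v
        (applyWord gens fuel (u / (gens.length + 1))
          (pull (gens.getD (u % (gens.length + 1) - 1) (List.range 24)) v))

/-- Every target is the image of the root under its word. -/
noncomputable def orbitOK (gens : List (List ℕ)) (root : ℕ) : List ℕ → List ℕ → Bool
  | [], [] => true
  | m :: ms, w :: ws => Nat.beq (applyWord gens 32 w root) m && orbitOK gens root ms ws
  | _, _ => false

theorem applyWord_mem {H : Subgroup P24} {gens : List (List ℕ)}
    (hg : ∀ l ∈ gens, ∃ g ∈ H, l.length = 24 ∧ Rep g l) :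
    ∀ fuel w m, ∃ g ∈ H, g • setOfMask m = setOfMask (applyWord gens fuel w m)
  | 0, w, m => ⟨1, H.one_mem, one_smul _ _⟩
  | fuel + 1, w, m => by
    simp only [applyWord, forceNat_eq]
    cases hw : Nat.beq w 0
    swap
    · exact ⟨1, H.one_mem, one_smul _ _⟩
    simp only [cond_false]
    obtain ⟨g, hgH, hl, hr⟩ : ∃ g ∈ H,
        (gens.getD (w % (gens.length + 1) - 1) (List.range 24)).length = 24 ∧
          Rep g (gens.getD (w % (gens.length + 1) - 1) (List.range 24)) := by
      by_cases hi : w % (gens.length + 1) - 1 < gens.length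
      · rw [List.getD_eq_getElem _ _ hi]; exact hg _ (List.getElem_mem hi)
      · rw [List.getD_eq_default _ _ (Nat.le_of_not_lt hi)]
        exact ⟨1, H.one_mem, List.length_range, rep_one⟩
    obtain ⟨g', hg', e⟩ := applyWord_mem hg fuel (w / (gens.length + 1))
      (pull (gens.getD (w % (gens.length + 1) - 1) (List.range 24)) m)
    refine ⟨g' * g⁻¹, H.mul_mem hg' (H.inv_mem hgH), ?_⟩
    rw [mul_smul, hr.smul_setOfMask hl, e]

theorem orbitOK_sound {H : Subgroup P24} {gens : List (List ℕ)}
    (hg : ∀ l ∈ gens, ∃ g ∈ H, l.length = 24 ∧ Rep g l) {root : ℕ} :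
    ∀ {targets words : List ℕ}, orbitOK gens root targets words = true →
      ∀ m ∈ targets, ∃ g ∈ H, g • setOfMask root = setOfMask m
  | [], _, _, m, hm => by simp at hm
  | _ :: _, [], h, _, _ => by simp [orbitOK] at h
  | a :: ms, w :: ws, h, m, hm => by
    simp only [orbitOK, Bool.and_eq_true, Nat.beq_eq] at h
    rcases List.mem_cons.1 hm with rfl | hm
    · rw [← h.1]; exact applyWord_mem hg _ _ _
    · exact orbitOK_sound hg h.2 m hm

/-- Transitivity from a certificate for one root. -/
theorem exists_smul_eq_of_orbitOK {H : Subgroup P24} {gens : List (List ℕ)}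
    (hg : ∀ l ∈ gens, ∃ g ∈ H, l.length = 24 ∧ Rep g l) {root : ℕ} {targets words : List ℕ}
    (h : orbitOK gens root targets words = true) {s t : Finset GolayPt} (hs : maskOf s ∈ targets)
    (ht : maskOf t ∈ targets) : ∃ g ∈ H, g • s = t := by
  obtain ⟨a, ha, ea⟩ := orbitOK_sound hg h _ hs
  obtain ⟨b, hb, eb⟩ := orbitOK_sound hg h _ ht
  rw [setOfMask_maskOf] at ea eb
  exact ⟨b * a⁻¹, H.mul_mem hb (H.inv_mem ha), by rw [mul_smul, ← ea, inv_smul_smul, eb]⟩

theorem gens3_mem {H : Subgroup P24} {n : ℕ} {tab : List (List ℕ × ℕ × ℕ)} (hok : slpOK n tab = true)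
    (hgen : ∀ k < n, ∃ g ∈ H, Rep g (row tab k)) (ks : List ℕ) (hks : ks.all (fun k => Nat.blt k tab.length) = true) :
    ∀ l ∈ ks.map (row tab), ∃ g ∈ H, l.length = 24 ∧ Rep g l := by
  intro l hl
  obtain ⟨k, hk, rfl⟩ := List.mem_map.1 hl
  have hk' : k < tab.length := by simpa [Nat.blt_eq] using List.all_eq_true.1 hks k hk
  obtain ⟨g, hg, hr⟩ := slp_sound hok hgen k hk'
  have := List.all_eq_true.1 hok k (List.mem_range.2 hk')
  simp only [Bool.and_eq_true, Nat.beq_eq] at this
  exact ⟨g, hg, this.1, hr⟩

/-- The images of `0, ..., 23` under a permutation. -/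
def listOf (g : P24) : List ℕ := (List.range 24).map fun i => ix (g (pt i))

theorem rep_listOf (g : P24) : Rep g (listOf g) := by
  intro p
  simp [listOf, List.getD, List.getElem?_map, List.getElem?_range (ix_lt p), pt_ix]

theorem length_listOf (g : P24) : (listOf g).length = 24 := by simp [listOf]

theorem listOf_injective : Function.Injective listOf := by
  intro g h e
  ext1 p
  apply ix_inj
  rw [rep_listOf g p, rep_listOf h p, e]

theorem listInCodeGroup_listOf {g : P24} (hg : g ∈ M24) : listInCodeGroup (listOf g) = true := by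
  have hr := rep_listOf g
  simp only [listInCodeGroup, length_listOf, Bool.and_eq_true, Nat.beq_eq, List.all_eq_true, true_and]
  intro b hb
  rw [inCode_iff]
  have hc : b.2 ∈ codeMasks := mem_spanList_self (List.mem_map.2 ⟨b, hb, rfl⟩)
  have h := mem_M24_iff_forall.1 (M24.inv_mem hg) _ (setOfMask_mem_codeSets hc)
  rw [hr.smul_setOfMask (length_listOf g)] at h
  have hlt : pull (listOf g) b.2 < 2 ^ 24 := by
    simpa [pull_eq, length_listOf] using fromBits_lt ((listOf g).map b.2.testBit)
  rw [mem_codeSets_iff, maskOf_setOfMask hlt] at h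
  exact h

/-- Powers of a list permutation. -/
def powL (s : List ℕ) : ℕ → List ℕ
  | 0 => List.range 24
  | n + 1 => mulL s (powL s n)

theorem length_powL {s : List ℕ} : ∀ n, (powL s n).length = 24
  | 0 => by simp [powL]
  | n + 1 => by simp [powL, mulL, length_powL n]

theorem rep_powL {g : P24} {s : List ℕ} (hg : Rep g s) : ∀ n, Rep (g ^ n) (powL s n)
  | 0 => by simpa [powL] using rep_one
  | n + 1 => by rw [pow_succ']; exact Rep.mul (length_powL n) hg (rep_powL hg n)

/-- All tuples with the given choices. -/
def tuples : List (List ℕ) → List (List ℕ)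
  | [] => [[]]
  | c :: cs => c.flatMap fun a => (tuples cs).map fun t => a :: t

theorem mem_tuples : ∀ {cs : List (List ℕ)} {t : List ℕ},
    List.Forall₂ (fun a c => a ∈ c) t cs → t ∈ tuples cs
  | [], _, h => by cases h; simp [tuples]
  | c :: cs, _, .cons ha h => by
    simp only [tuples, List.mem_flatMap, List.mem_map]
    exact ⟨_, ha, _, mem_tuples h, rfl⟩

/-- The choices for the image of a point `r` compatible with invariant masks and fixed points. -/
def choices (s : List ℕ) (inv : List ℕ) (r : ℕ) : List ℕ :=
  (List.range 24).filter fun j =>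
    (inv.all fun m => m.testBit j == m.testBit r) && (Nat.beq (s.getD j 0) j == Nat.beq (s.getD r 0) r)

/-- The candidate list for given exponent `k` and images of the cycle representatives. -/
def buildL (pows : List (List ℕ)) (p : ℕ) (loc : List (ℕ × ℕ)) (k : ℕ) (t : List ℕ) : List ℕ :=
  loc.map fun re => (pows.getD (k * re.2 % p) []).getD (t.getD re.1 0) 0

/-- The candidates for the normaliser of `⟨s⟩` in the group fixing the invariant masks. -/
noncomputable def normCands (s : List ℕ) (pows : List (List ℕ)) (p : ℕ) (inv reps : List ℕ) (loc : List (ℕ × ℕ)) : List (List ℕ) :=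
  (List.range (p - 1)).flatMap fun k0 =>
    ((tuples (reps.map (choices s inv))).map (buildL pows p loc (k0 + 1))).filter fun L =>
      (inv.all fun m => Nat.beq (pull L m) m) && listInCodeGroup L

/-- The location data is right. -/
def locOK (s : List ℕ) (reps : List ℕ) (loc : List (ℕ × ℕ)) : Bool :=
  Nat.beq loc.length 24 && (reps.all fun r => Nat.blt r 24) && (List.range 24).all fun i =>
    let re := loc.getD i (0, 0)
    Nat.blt re.1 reps.length &&
      Nat.beq ((powL s re.2).getD (reps.getD re.1 0) 0) i

theorem norm_mem_cands {σ h : P24} {s : List ℕ} {pows : List (List ℕ)} {p : ℕ} {inv reps : List ℕ} {loc : List (ℕ × ℕ)}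
    (hs : Rep σ s) (hp : p.Prime) (hord : orderOf σ = p) (hloc : locOK s reps loc = true)
    (hh : h ∈ M24) (hpows : ∀ i < p, pows.getD i [] = powL s i) (hinv : ∀ m ∈ inv, m < 2 ^ 24 ∧ h • setOfMask m = setOfMask m)
    (hnorm : h * σ * h⁻¹ ∈ Subgroup.zpowers σ) :
    listOf h ∈ normCands s pows p inv reps loc := by
  obtain ⟨k, hk, hconj⟩ : ∃ k, k < p ∧ h * σ * h⁻¹ = σ ^ k := by
    rw [mem_zpowers_iff_mem_range_orderOf, Finset.mem_image] at hnorm
    obtain ⟨k, hk, e⟩ := hnorm
    exact ⟨k, hord ▸ Finset.mem_range.1 hk, e.symm⟩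
  have hk0 : k ≠ 0 := by
    rintro rfl
    rw [pow_zero] at hconj
    have : σ = 1 := by
      have := congrArg (fun x => h⁻¹ * x * h) hconj
      simpa [mul_assoc] using this
    rw [this, orderOf_one] at hord; exact hp.one_lt.ne hord
  have hpow : ∀ e, h * σ ^ e = σ ^ (k * e) * h := by
    intro e
    rw [pow_mul, ← hconj, conj_pow, inv_mul_cancel_right]
  simp only [locOK, Bool.and_eq_true, Nat.beq_eq, List.all_eq_true, Nat.blt_eq] at hloc
  simp only [normCands, List.mem_flatMap, List.mem_filter, List.mem_map]
  refine ⟨k - 1, List.mem_range.2 (by omega), ⟨reps.map fun r => ix (h (pt r)), ?_, ?_⟩, ?_⟩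
  · apply mem_tuples
    obtain ⟨⟨-, hreps⟩, -⟩ := hloc
    induction reps with
    | nil => simp
    | cons r rs ih =>
      refine List.Forall₂.cons ?_ (ih fun x hx => hreps x (by simp [hx]))
      have hr : r < 24 := hreps r (by simp)
      simp only [choices, List.mem_filter, List.mem_range, Bool.and_eq_true, List.all_eq_true, beq_iff_eq]
      refine ⟨ix_lt _, fun m hm => ?_, ?_⟩
      · have := Finset.smul_mem_smul_finset_iff (a := h) (b := pt r) (s := setOfMask m)
        rw [(hinv m hm).2, Equiv.Perm.smul_def] at this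
        simp only [mem_setOfMask, ix_pt hr] at this
        exact Bool.eq_iff_iff.2 this
      · have key : ∀ i, i < 24 → (Nat.beq (s.getD i 0) i = true ↔ σ (pt i) = pt i) := by
          intro i hi
          have e := hs (pt i)
          rw [ix_pt hi] at e
          rw [Nat.beq_eq, ← e]
          exact ⟨fun e => ix_inj (e.trans (ix_pt hi).symm), fun e => by rw [e, ix_pt hi]⟩
        apply Bool.eq_iff_iff.2
        rw [key _ hr, key _ (ix_lt _), pt_ix]
        have e1 : h (σ (pt r)) = (σ ^ k) (h (pt r)) := by
          have e := congrArg (fun x : P24 => x (pt r)) (hpow 1)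
          simpa [Equiv.Perm.mul_apply] using e
        constructor
        · intro e
          apply h.injective
          have hp' : ∀ n : ℕ, (σ ^ n) (h (pt r)) = h (pt r) := fun n => by
            induction n with
            | zero => rfl
            | succ n ih => rw [pow_succ', Equiv.Perm.mul_apply, ih, e]
          rw [e1, hp']
        · intro e
          rw [e] at e1
          have hkp : Nat.Coprime k p :=
            (hp.coprime_iff_not_dvd.2 fun hd => absurd (Nat.le_of_dvd (by omega) hd) (by omega)).symm
          have hfix : ∀ n : ℕ, ((σ ^ k) ^ n) (h (pt r)) = h (pt r) := fun n => by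
            induction n with
            | zero => rfl
            | succ n ih => rw [pow_succ', Equiv.Perm.mul_apply, ih, ← e1]
          obtain ⟨n, hn⟩ := exists_pow_eq_self_of_coprime (hord ▸ hkp : Nat.Coprime k (orderOf σ))
          have := hfix n
          rwa [hn] at this
  · rw [Nat.sub_add_cancel (Nat.one_le_iff_ne_zero.2 hk0)]
    apply List.ext_getElem
    · simp [buildL, length_listOf, hloc.1.1]
    intro i h1 h2
    have hi : i < 24 := by simpa [length_listOf] using h2
    obtain ⟨hlt, e⟩ := hloc.2 i (List.mem_range.2 hi)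
    have hl : i < loc.length := by omega
    rw [List.getD_eq_getElem _ _ hl] at hlt e
    simp only [buildL, List.getElem_map, hpows _ (Nat.mod_lt _ hp.pos)]
    rw [List.getD_eq_getElem (reps.map _) _ (by simpa using hlt), List.getElem_map]
    rw [List.getD_eq_getElem _ _ hlt] at e
    have hr : reps[loc[i].1] < 24 := hloc.1.2 _ (List.getElem_mem hlt)
    have hpt : (σ ^ loc[i].2) (pt reps[loc[i].1]) = pt i := by
      rw [(rep_powL hs _).apply_pt hr, e]
    rw [← rep_powL hs, show σ ^ (k * loc[i].2 % p) = σ ^ (k * loc[i].2) by rw [← hord, pow_mod_orderOf], ← Equiv.Perm.mul_apply, ← hpow, Equiv.Perm.mul_apply, hpt]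
    simp [listOf]
  · simp only [Bool.and_eq_true, List.all_eq_true, Nat.beq_eq]
    refine ⟨fun m hm => ?_, listInCodeGroup_listOf hh⟩
    obtain ⟨hlt, e⟩ := hinv m hm
    refine setOfMask_inj ?_ hlt ?_
    · simpa [pull_eq, length_listOf] using fromBits_lt ((listOf h).map m.testBit)
    · rw [← (rep_listOf h).smul_setOfMask (length_listOf h), inv_smul_eq_iff, e]

/-- Validity of a list of images. -/
def validL (L : List ℕ) : Bool :=
  Nat.beq L.length 24 && (L.all fun a => Nat.blt a 24) && (List.range 24).all fun j => L.any fun a => Nat.beq a j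

/-- The permutation with a given list of images (the identity for an invalid list). -/
noncomputable def permOf (L : List ℕ) : P24 :=
  if h : Function.Bijective (fun p => pt (L.getD (ix p) 0)) then Equiv.ofBijective _ h else 1

theorem rep_permOf {L : List ℕ} (h : validL L = true) : Rep (permOf L) L := by
  simp only [validL, Bool.and_eq_true, Nat.beq_eq, List.all_eq_true, List.any_eq_true, Nat.blt_eq] at h
  obtain ⟨⟨hlen, hlt⟩, hsur⟩ := h
  have hb : Function.Bijective (fun p => pt (L.getD (ix p) 0)) := by
    refine Finite.surjective_iff_bijective.1 fun y => ?_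
    obtain ⟨a, ha, e⟩ := hsur (ix y) (List.mem_range.2 (ix_lt y))
    obtain ⟨i, hi, rfl⟩ := List.mem_iff_getElem.1 ha
    refine ⟨pt i, ?_⟩
    simp only [ix_pt (hlen ▸ hi), List.getD_eq_getElem _ _ hi, e, pt_ix]
  intro p
  have hp : ix p < L.length := hlen ▸ ix_lt p
  rw [permOf, dif_pos hb]
  simp only [Equiv.ofBijective_apply, List.getD_eq_getElem _ _ hp]
  exact ix_pt (hlt _ (List.getElem_mem hp))

/-- Fixed sets from invariant masks. -/
theorem Rep.smul_eq_of_pull {g : P24} {L : List ℕ} (hr : Rep g L) (hl : L.length = 24) {m : ℕ}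
    (h : pull L m = m) : g • setOfMask m = setOfMask m := by
  have := hr.smul_setOfMask hl m
  rw [h, inv_smul_eq_iff] at this
  exact this.symm

/-- A valid list fixing given masks and preserving the code. -/
noncomputable def inStab (inv : List ℕ) (L : List ℕ) : Bool :=
  validL L && listInCodeGroup L && inv.all fun m => Nat.beq (pull L m) m

theorem inStab_spec {inv L : List ℕ} (h : inStab inv L = true) :
    permOf L ∈ M24 ∧ L.length = 24 ∧ Rep (permOf L) L ∧
      ∀ m ∈ inv, permOf L • setOfMask m = setOfMask m := by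
  simp only [inStab, Bool.and_eq_true, List.all_eq_true, Nat.beq_eq] at h
  obtain ⟨⟨hv, hc⟩, hm⟩ := h
  have hl : L.length = 24 := by
    simp only [validL, Bool.and_eq_true, Nat.beq_eq] at hv; exact hv.1.1
  exact ⟨(rep_permOf hv).mem_M24 hc, hl, rep_permOf hv,
    fun m hm' => (rep_permOf hv).smul_eq_of_pull hl (hm m hm')⟩

end CfsgLib.Spor
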