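import Cfsg.Agent.Lib.SporM24Data
import Cfsg.Agent.Lib.SporOrbit
import Cfsg.Agent.Lib.SporMathieuData

/-!
Kernel-checked orbit and chain certificates for the Mathieu groups.
-/

set_option autoImplicit false
set_option maxRecDepth 20000

namespace CfsgLib.Spor
open Cfsg

theorem octads_orbit : orbitOK ([0, 1, 2].map (row m24Tab)) ((weightMasks 8).headD 0) (weightMasks 8) octadWords = true := by
  decide +kernel

theorem dodecads_orbit :
    orbitOK ([0, 1, 2].map (row m24Tab)) 340831 (weightMasks 12) dodecadWords = true := by
  decide +kernel

/-- The check of a level of the chain. -/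
noncomputable def level12OK (k : ℕ) : Bool :=
  (m12Trans.getD k []).all (fun L => inStab [340831] L &&
      (m12Base.take k).all fun b => Nat.beq (L.getD b 0) b) &&
    (List.range 24).all fun i =>
      !((340831 : ℕ).testBit i) || (m12Base.take k).elem i ||
        (m12Trans.getD k []).any fun L => Nat.beq (L.getD (m12Base.getD k 0) 0) i

theorem levels12_ok : (List.range 5).all level12OK = true := by decide +kernel

/-- The normaliser certificate. -/
noncomputable def normOK (s t : List ℕ) (pows : List (List ℕ)) (p q : ℕ) (inv reps : List ℕ) (loc : List (ℕ × ℕ)) : Bool :=
  locOK s reps loc && inStab inv s && inStab inv t && (inv.all fun m => Nat.blt m 16777216) &&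
    (powL s p == List.range 24) && !(s == List.range 24) && (powL t q == List.range 24) &&
    !(t == List.range 24) && ((List.range p).any fun k => mulL t s == mulL (powL s k) t) &&
    Nat.beq (normCands s pows p inv reps loc).length (p * q) && (List.range p).all fun i => pows.getD i [] == powL s i

end CfsgLib.Spor
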