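import Cfsg.Agent.Lib.SporM24Data
import Cfsg.Agent.Lib.SporOrbit
import Cfsg.Agent.Lib.SporMathieuData
import Cfsg.Agent.Lib.SporMathieuCert

/-!
Kernel-checked normaliser certificates.
-/

set_option autoImplicit false
set_option maxRecDepth 20000

namespace CfsgLib.Spor
open Cfsg

theorem M23_normOK : normOK m23Sigma m23Tau m23Pows 23 11 [8388608] m23Reps m23Loc = true := by decide +kernel

theorem M22_normOK : normOK m22Sigma m22Tau m22Pows 11 5 [8388608, 1] m22Reps m22Loc = true := by decide +kernel

theorem M11_normOK : normOK m11Sigma m11Tau m11Pows 11 5 [1, 340831] m11Reps m11Loc = true := by decide +kernel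

end CfsgLib.Spor
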