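import Mathlib

/-!
Two simplicity criteria for permutation groups.
-/

set_option autoImplicit false

namespace CfsgLib.Spor
open MulAction
open scoped Pointwise

variable {G α : Type*} [Group G] [MulAction G α]

theorem isPretransitive_normal [FaithfulSMul G α] [IsPreprimitive G α] {N : Subgroup G} [N.Normal]
    (hN : N ≠ ⊥) : IsPretransitive N α := by
  refine IsQuasiPreprimitive.isPretransitive_of_normal fun h => hN ?_
  rw [Subgroup.eq_bot_iff_forall]
  intro n hn
  refine FaithfulSMul.eq_of_smul_eq_smul fun a : α => ?_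
  have ha : a ∈ fixedPoints N α := by rw [h]; trivial
  rw [one_smul]; exact ha ⟨n, hn⟩

theorem card_dvd_card_of_transitive [Finite G] (N : Subgroup G) [IsPretransitive N α] [Nonempty α] :
    Nat.card α ∣ Nat.card N := by
  obtain ⟨a⟩ := ‹Nonempty α›
  rw [← index_stabilizer_of_transitive N a]
  exact Subgroup.index_dvd_card _

/-- A primitive group of degree divisible by a prime `p` dividing the order once, in which the
normaliser of a subgroup of order `p` has order `p * q` with `q` prime, is simple. -/
theorem isSimpleGroup_of_prime_point [Finite G] [Nontrivial α] [FaithfulSMul G α] [IsPreprimitive G α]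
    {p q : ℕ} (hp : p.Prime) (hq : q.Prime) (hα : p ∣ Nat.card α) (x : G) (hx : orderOf x = p)
    (hp2 : ¬ p ^ 2 ∣ Nat.card G)
    (hN : Nat.card (Subgroup.normalizer (Subgroup.zpowers x : Set G)) = p * q)
    (hG : Nat.card G ≠ p * q) : IsSimpleGroup G := by
  haveI := Fact.mk hp
  have hpG : p ∣ Nat.card G := hx ▸ orderOf_dvd_natCard x
  have hsyl : ∀ y : G, orderOf y = p → ∃ R : Sylow p G, (R : Subgroup G) = Subgroup.zpowers y := by
    intro y hy
    refine ⟨Sylow.ofCard (Subgroup.zpowers y) ?_, Sylow.coe_ofCard ..⟩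
    rw [Nat.card_zpowers, hy]
    have h1 : 1 ≤ (Nat.card G).factorization p :=
      (hp.dvd_iff_one_le_factorization Nat.card_pos.ne').1 hpG
    have h2 : ¬ 2 ≤ (Nat.card G).factorization p := fun h =>
      hp2 ((hp.pow_dvd_iff_le_factorization Nat.card_pos.ne').2 h)
    rw [show (Nat.card G).factorization p = 1 by omega, pow_one]
  haveI : Nontrivial G := nontrivial_of_ne x 1 fun h => hp.ne_one (by rw [← hx, h, orderOf_one])
  constructor
  intro N hNn
  refine (em (N = ⊥)).imp id fun hbot => ?_
  haveI := isPretransitive_normal (α := α) hbot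
  obtain ⟨y, hy⟩ := exists_prime_orderOf_dvd_card' p (hα.trans (card_dvd_card_of_transitive N))
  obtain ⟨R, hR⟩ := hsyl y (by rwa [Subgroup.orderOf_coe])
  obtain ⟨P, hP⟩ := hsyl x hx
  have hPN : (P : Subgroup G) ≤ N := by
    obtain ⟨g, rfl⟩ := exists_smul_eq G R P
    rw [Sylow.coe_subgroup_smul]
    calc MulAut.conj g • (R : Subgroup G) ≤ MulAut.conj g • N :=
          Subgroup.pointwise_smul_le_pointwise_smul_iff.2 (by rw [hR, Subgroup.zpowers_le]; exact y.2)
      _ = N := Subgroup.Normal.conj_smul_eq_self g N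
  have hsup : Subgroup.normalizer (P : Set G) ⊔ N = ⊤ := Sylow.normalizer_sup_eq_top' P hPN
  set M := Subgroup.normalizer ((P : Subgroup G) : Set G) with hM
  have hsup' : M ⊔ N = ⊤ := hsup
  have hMcard : Nat.card M = p * q := by rw [hM, hP, hN]
  have hMN : Nat.card ↥(M ⊓ N) ∣ p * q := hMcard ▸ Subgroup.card_dvd_of_le inf_le_left
  have hpMN : p ∣ Nat.card ↥(M ⊓ N) := by
    rw [← hx, ← Nat.card_zpowers, ← hP]
    exact Subgroup.card_dvd_of_le (le_inf Subgroup.le_normalizer hPN)
  obtain ⟨c, hc⟩ := hpMN
  rw [hc] at hMN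
  rcases hq.eq_one_or_self_of_dvd c ((Nat.mul_dvd_mul_iff_left hp.pos).1 hMN) with rfl | rfl
  swap
  · have : M ⊓ N = M := Subgroup.eq_of_le_of_card_ge inf_le_left (by rw [hc, hMcard])
    rwa [sup_eq_right.2 (this ▸ inf_le_right)] at hsup'
  have hMNP : M ⊓ N = P := by
    refine (Subgroup.eq_of_le_of_card_ge (le_inf Subgroup.le_normalizer hPN) ?_).symm
    rw [hc, hP, Nat.card_zpowers, hx, mul_one]
  let PN : Sylow p N := P.subtype hPN
  have hbur : Subgroup.normalizer (PN : Set N) ≤ Subgroup.centralizer (PN : Set N) := by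
    have hle : Subgroup.normalizer (PN : Set N) ≤ (PN : Subgroup N) := by
      intro n hn
      have hnP : (n : G) ∈ M ⊓ N := by
        refine ⟨?_, n.2⟩
        rw [hM]
        intro g
        constructor
        · intro hg
          have := (hn ⟨g, hPN hg⟩).1 hg
          exact this
        · intro hg
          have hgN : g ∈ N := by
            have h1 : (n : G) * g * (n : G)⁻¹ ∈ N := hPN hg
            have h2 := N.mul_mem (N.mul_mem (N.inv_mem n.2) h1) n.2
            simpa [mul_assoc] using h2
          exact (hn ⟨g, hgN⟩).2 hg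
      rwa [hMNP] at hnP
    intro n hn g hg
    have h1 : (n : G) ∈ Subgroup.zpowers x := hP ▸ hle hn
    have h2 : (g : G) ∈ Subgroup.zpowers x := hP ▸ hg
    obtain ⟨i, hi⟩ := h1
    obtain ⟨j, hj⟩ := h2
    apply Subtype.ext
    simp only [Subgroup.coe_mul, ← hi, ← hj]
    exact zpow_mul_comm x j i
  set f := MonoidHom.transferSylow PN hbur with hf
  have hcomp : Subgroup.IsComplement' f.ker (PN : Subgroup N) :=
    MonoidHom.ker_transferSylow_isComplement' PN hbur
  have hPNcard : Nat.card (PN : Subgroup N) = p := by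
    change Nat.card ↥((P : Subgroup G).subgroupOf N) = p
    rw [Nat.card_congr (Subgroup.subgroupOfEquivOfLe hPN).toEquiv, hP, Nat.card_zpowers, hx]
  have hKp : ¬ p ∣ Nat.card f.ker := MonoidHom.not_dvd_card_ker_transferSylow PN hbur
  haveI : (f.ker.map N.subtype).Normal := by
    constructor
    rintro _ ⟨k, hk, rfl⟩ g
    refine ⟨⟨g * k * g⁻¹, hNn.conj_mem _ k.2 g⟩, ?_, rfl⟩
    set y' : N := ⟨g * k * g⁻¹, hNn.conj_mem _ k.2 g⟩ with hy'
    have hord : orderOf y' = orderOf k := by
      rw [← Subgroup.orderOf_coe, hy', ← Subgroup.orderOf_coe k]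
      exact (MulAut.conj g).orderOf_eq (k : G)
    have h1 : orderOf (f y') ∣ Nat.card f.ker := by
      refine (orderOf_map_dvd f y').trans ?_
      rw [hord, ← Subgroup.orderOf_mk k hk]
      exact orderOf_dvd_natCard _
    have h2 : orderOf (f y') ∣ p := by
      have := orderOf_dvd_natCard (f y')
      exact this.trans hPNcard.dvd
    rcases hp.eq_one_or_self_of_dvd _ h2 with h | h
    · exact orderOf_eq_one_iff.1 h
    · rw [h] at h1; exact absurd h1 hKp
  by_cases hK : f.ker.map N.subtype = ⊥
  · exfalso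
    have hKb : f.ker = ⊥ := (Subgroup.map_eq_bot_iff_of_injective _ N.subtype_injective).1 hK
    have hNP : N = P := by
      refine (Subgroup.eq_of_le_of_card_ge hPN ?_).symm
      have := hcomp.card_mul
      rw [hKb, Subgroup.card_bot, one_mul, hPNcard] at this
      rw [← this, hP, Nat.card_zpowers, hx]
    have : M = ⊤ := by
      rwa [sup_eq_left.2 (hNP.le.trans Subgroup.le_normalizer)] at hsup'
    rw [this, Subgroup.card_top] at hMcard
    exact hG hMcard
  · exfalso
    haveI := isPretransitive_normal (α := α) hK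
    have := card_dvd_card_of_transitive (f.ker.map N.subtype) (α := α)
    rw [Subgroup.card_map_of_injective N.subtype_injective] at this
    exact hKp (hα.trans this)

/-- A doubly transitive group whose point stabiliser is simple, of degree divisible by two
different primes, is simple. -/
theorem isSimpleGroup_of_two_trans [Finite G] [Finite α] [Nontrivial α] [FaithfulSMul G α]
    (h2 : IsMultiplyPretransitive G α 2) (a : α) [IsSimpleGroup (stabilizer G a)] {r s : ℕ}
    (hr : r.Prime) (hs : s.Prime) (hrs : r ≠ s) (hrα : r ∣ Nat.card α) (hsα : s ∣ Nat.card α) :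
    IsSimpleGroup G := by
  haveI := Fact.mk hr
  haveI := Fact.mk hs
  haveI := isPreprimitive_of_is_two_pretransitive h2
  have hm : ∀ {x y z w : α}, x ≠ y → z ≠ w → ∃ g : G, g • x = z ∧ g • y = w :=
    fun h h' => is_two_pretransitive_iff.1 h2 h h'
  obtain ⟨⟨u, _⟩, v, huv⟩ := exists_pair_ne (stabilizer G a)
  haveI : Nontrivial G := ⟨u, v.1, fun h => huv (Subtype.ext h)⟩
  constructor
  intro N hNn
  refine (em (N = ⊥)).imp id fun hbot => ?_
  haveI := isPretransitive_normal (α := α) hbot
  rcases IsSimpleGroup.eq_bot_or_eq_top_of_normal (N.subgroupOf (stabilizer G a)) inferInstance with h | h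
  · exfalso
    have hinj : Function.Injective fun n : N => n • a := by
      intro n m e
      have hmem : ((m⁻¹ * n : N) : G) ∈ stabilizer G a := by
        change (m⁻¹ * n) • a = a
        simp only at e
        rw [mul_smul, e, inv_smul_smul]
      have : (⟨_, hmem⟩ : stabilizer G a) ∈ N.subgroupOf (stabilizer G a) := (m⁻¹ * n).2
      rw [h, Subgroup.mem_bot] at this
      replace this := congrArg (fun z : stabilizer G a => (z : G)) this
      have : (m⁻¹ * n : N) = 1 := Subtype.ext this
      exact (inv_mul_eq_one.1 this).symm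
    have hcard : Nat.card N = Nat.card α :=
      Nat.card_congr (Equiv.ofBijective _ ⟨hinj, fun b => exists_smul_eq N a b⟩)
    obtain ⟨n, hn⟩ := exists_prime_orderOf_dvd_card' r (hcard ▸ hrα)
    obtain ⟨m, hm'⟩ := exists_prime_orderOf_dvd_card' s (hcard ▸ hsα)
    have hne : ∀ k : N, orderOf k ≠ 1 → a ≠ k • a := fun k hk e => hk (by
      rw [orderOf_eq_one_iff]; exact hinj (show k • a = (1 : N) • a by rw [one_smul]; exact e.symm))
    obtain ⟨g, hg1, hg2⟩ := hm (hne n (hn ▸ hr.ne_one)) (hne m (hm' ▸ hs.ne_one))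
    have hg' : g⁻¹ • a = a := by rw [inv_smul_eq_iff, hg1]
    have e : (⟨g * n * g⁻¹, hNn.conj_mem _ n.2 g⟩ : N) = m := by
      apply hinj
      change (g * (n : G) * g⁻¹) • a = m • a
      rw [mul_smul, mul_smul, hg']
      exact hg2
    have := congrArg orderOf e
    rw [← Subgroup.orderOf_coe, hm'] at this
    have hc : orderOf (g * (n : G) * g⁻¹) = orderOf (n : G) := (MulAut.conj g).orderOf_eq (n : G)
    rw [hc, Subgroup.orderOf_coe, hn] at this
    exact hrs this
  · rw [eq_top_iff]
    intro g _
    obtain ⟨n, hn⟩ := exists_smul_eq N a (g • a)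
    have hst : (n : G)⁻¹ * g ∈ stabilizer G a := by
      rw [mem_stabilizer_iff, mul_smul, inv_smul_eq_iff]; exact hn.symm
    have : (⟨_, hst⟩ : stabilizer G a) ∈ N.subgroupOf (stabilizer G a) := by rw [h]; trivial
    have hh : (n : G)⁻¹ * g ∈ N := this
    simpa using N.mul_mem n.2 hh

end CfsgLib.Spor
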