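import Cfsg.Prelude.Def_Spor_Mathieu
import Cfsg.Agent.Lib.SporM24
import Cfsg.Agent.Lib.SporOrbit
import Cfsg.Agent.Lib.SporSimple
import Cfsg.Agent.Lib.SporMathieuCert
import Cfsg.Agent.Lib.SporMathieuNorm

/-!
The five Mathieu groups inside the group of the code: transitivity, orders, simplicity.
-/

set_option autoImplicit false
set_option maxRecDepth 20000

namespace CfsgLib.Spor
open Cfsg
open scoped Pointwise

theorem gensABC : ∀ l ∈ [0, 1, 2].map (row m24Tab), ∃ g ∈ M24, l.length = 24 ∧ Rep g l := by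
  refine gens3_mem (n := 3) m24Tab_ok (fun k hk => ?_) _ (by decide +kernel)
  interval_cases k
  exacts [⟨_, genShift_mem, rep_shift⟩, ⟨_, projInv_mem, rep_projInv⟩, ⟨_, cubeTwist_mem, rep_cubeTwist⟩]

theorem exists_M24_octad {o o' : Finset GolayPt} (ho : o ∈ octads) (ho' : o' ∈ octads) :
    ∃ g ∈ M24, g • o = o' :=
  exists_smul_eq_of_orbitOK gensABC octads_orbit (mem_octads_iff.1 ho) (mem_octads_iff.1 ho')

theorem exists_M24_dodecad {d d' : Finset GolayPt} (hd : d ∈ dodecads) (hd' : d' ∈ dodecads) :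
    ∃ g ∈ M24, g • d = d' :=
  exists_smul_eq_of_orbitOK gensABC dodecads_orbit (mem_wordsOfWeight_iff.1 hd) (mem_wordsOfWeight_iff.1 hd')

theorem smul_mem_octads' {g : P24} (hg : g ∈ M24) {o : Finset GolayPt} (ho : o ∈ octads) : g • o ∈ octads :=
  smul_mem_octads (M24_le_octAut hg) ho

theorem smul_mem_dodecads {g : P24} (hg : g ∈ M24) {d : Finset GolayPt} (hd : d ∈ dodecads) :
    g • d ∈ dodecads :=
  ⟨mem_M24_iff_forall.1 hg d hd.1, by rw [Finset.card_smul_finset]; exact hd.2⟩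

theorem card_octads : octads.ncard = 759 := by
  rw [octads, ncard_wordsOfWeight]; decide +kernel

theorem card_dodecads : dodecads.ncard = 2576 := by
  rw [dodecads, ncard_wordsOfWeight]; decide +kernel

theorem card_stab_octad {o : Finset GolayPt} (ho : o ∈ octads) :
    Nat.card ↥(M24 ⊓ MulAction.stabilizer P24 o) = 322560 := by
  have := card_eq_ncard_mul M24 o octads (fun g hg => smul_mem_octads' hg ho)
    (fun y hy => exists_M24_octad ho hy)
  rw [card_M24, card_octads] at this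
  exact Nat.eq_of_mul_eq_mul_left (by norm_num : 0 < 759) (this.symm.trans (by norm_num))

theorem card_stab_dodecad {d : Finset GolayPt} (hd : d ∈ dodecads) :
    Nat.card ↥(M24 ⊓ MulAction.stabilizer P24 d) = 95040 := by
  have := card_eq_ncard_mul M24 d dodecads (fun g hg => smul_mem_dodecads hg hd)
    (fun y hy => exists_M24_dodecad hd hy)
  rw [card_M24, card_dodecads] at this
  exact Nat.eq_of_mul_eq_mul_left (by norm_num : 0 < 2576) (this.symm.trans (by norm_num))

theorem squareDodecad_eq : Spor.squareDodecad = setOfMask 340831 := by decide +kernel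

theorem squareDodecad_mem : Spor.squareDodecad ∈ dodecads := by
  rw [squareDodecad_eq, dodecads, mem_wordsOfWeight_iff, maskOf_setOfMask (by norm_num)]
  decide +kernel

theorem card_M12 : Nat.card Spor.M12 = 95040 := card_stab_dodecad squareDodecad_mem

/-- The chain base of the dodecad stabiliser. -/
def dpt (k : ℕ) : GolayPt := pt (m12Base.getD k 0)

/-- The subgroups fixing the first `k` base points of the dodecad. -/
def fix12 : ℕ → Subgroup P24
  | 0 => Spor.M12
  | k + 1 => fix12 k ⊓ MulAction.stabilizer P24 (dpt k)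

theorem mem_M12_iff {g : P24} : g ∈ Spor.M12 ↔ g ∈ M24 ∧ g • setOfMask 340831 = setOfMask 340831 := by
  rw [Spor.M12, Subgroup.mem_inf, squareDodecad_eq]
  exact Iff.rfl

theorem mem_fix12 {k : ℕ} {g : P24} : g ∈ fix12 k ↔ g ∈ Spor.M12 ∧ ∀ j < k, g (dpt j) = dpt j := by
  induction k with
  | zero => simp [fix12]
  | succ k ih =>
    simp only [fix12, Subgroup.mem_inf, ih, MulAction.mem_stabilizer_iff, Equiv.Perm.smul_def,
      Nat.forall_lt_succ_right, and_assoc]

/-- The points of the dodecad not among the first `k` base points. -/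
def rest12 (k : ℕ) : Finset GolayPt := setOfMask 340831 \ (Finset.range k).image dpt

theorem dpt_facts : ∀ k ∈ List.range 5, m12Base.getD k 0 < 24 ∧ dpt k ∈ rest12 k ∧
    ((rest12 k).card = 12 - k) ∧ ∀ j ∈ List.range k, m12Base.getD j 0 ∈ m12Base.take k := by
  decide +kernel

theorem fix12_image {k : ℕ} (hk : k < 5) {g : P24} (hg : g ∈ fix12 k) : g (dpt k) ∈ rest12 k := by
  obtain ⟨h1, h2⟩ := mem_fix12.1 hg
  have hd := (dpt_facts k (List.mem_range.2 hk)).2.1
  simp only [rest12, Finset.mem_sdiff, Finset.mem_image, Finset.mem_range, not_exists, not_and] at hd ⊢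
  refine ⟨?_, fun j hj e => hd.2 j hj (g.injective ((h2 j hj).trans e))⟩
  rw [← (mem_M12_iff.1 h1).2]
  exact Finset.smul_mem_smul_finset hd.1

theorem fix12_trans {k : ℕ} (hk : k < 5) {y : GolayPt} (hy : y ∈ rest12 k) :
    ∃ g ∈ fix12 k, g (dpt k) = y := by
  have h := List.all_eq_true.1 levels12_ok k (List.mem_range.2 hk)
  simp only [level12OK, Bool.and_eq_true, List.all_eq_true, Bool.or_eq_true, Bool.not_eq_true',
    List.any_eq_true, Nat.beq_eq] at h
  simp only [rest12, Finset.mem_sdiff, Finset.mem_image, Finset.mem_range, not_exists, not_and,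
    mem_setOfMask] at hy
  have hf := dpt_facts k (List.mem_range.2 hk)
  rcases h.2 (ix y) (List.mem_range.2 (ix_lt y)) with (h' | h') | ⟨L, hL, e⟩
  · rw [hy.1] at h'; exact absurd h' (by simp)
  · exfalso
    rw [List.elem_eq_mem, decide_eq_true_iff, List.mem_iff_getElem] at h'
    obtain ⟨j, hj, e⟩ := h'
    rw [List.getElem_take] at e
    have hjk : j < k := lt_of_lt_of_le hj (by simp)
    refine hy.2 j hjk ?_
    rw [dpt, List.getD_eq_getElem _ _ (lt_of_lt_of_le hj (by simp)), e, pt_ix]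
  · obtain ⟨hM, hl, hr, hm⟩ := inStab_spec (h.1 L hL).1
    refine ⟨permOf L, mem_fix12.2 ⟨mem_M12_iff.2 ⟨hM, hm _ (by simp)⟩, fun j hj => ?_⟩, ?_⟩
    · have hj5 := (dpt_facts j (List.mem_range.2 (by omega))).1
      rw [dpt, hr.apply_pt hj5, (h.1 L hL).2 _ (hf.2.2.2 j (List.mem_range.2 hj))]
    · rw [dpt, hr.apply_pt hf.1, e, pt_ix]

theorem card_fix12_succ {k : ℕ} (hk : k < 5) :
    Nat.card ↥(fix12 k) = (12 - k) * Nat.card ↥(fix12 (k + 1)) := by
  rw [card_eq_ncard_mul (fix12 k) (dpt k) ↑(rest12 k), Set.ncard_coe_finset,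
    (dpt_facts k (List.mem_range.2 hk)).2.2.1]
  · rfl
  · exact fun g hg => fix12_image hk hg
  · exact fun y hy => fix12_trans hk hy

theorem card_fix12 : ∀ k ∈ List.range 6,
    Nat.card ↥(fix12 k) = [95040, 7920, 720, 72, 8, 1].getD k 0 := by
  have h0 : Nat.card ↥(fix12 0) = 95040 := card_M12
  have h1 := card_fix12_succ (by norm_num : 0 < 5)
  have h2 := card_fix12_succ (by norm_num : 1 < 5)
  have h3 := card_fix12_succ (by norm_num : 2 < 5)
  have h4 := card_fix12_succ (by norm_num : 3 < 5)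
  have h5 := card_fix12_succ (by norm_num : 4 < 5)
  norm_num at h1 h2 h3 h4 h5
  intro k hk
  have := List.mem_range.1 hk
  interval_cases k
  · exact h0
  · show _ = 7920; omega
  · show _ = 720; omega
  · show _ = 72; omega
  · show _ = 8; omega
  · show _ = 1; omega

theorem eq_one_of_fix12 {g : P24} (hg : g ∈ Spor.M12) (h : ∀ j < 5, g (dpt j) = dpt j) : g = 1 := by
  have h1 : Nat.card ↥(fix12 5) = 1 := card_fix12 5 (by decide)
  rw [Subgroup.card_eq_one] at h1
  have : g ∈ fix12 5 := mem_fix12.2 ⟨hg, h⟩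
  rwa [h1, Subgroup.mem_bot] at this

theorem dpt_zero : dpt 0 = some 0 := by decide +kernel

theorem M11_eq : Spor.M11 = fix12 1 := by
  simp [Spor.M11, fix12, dpt_zero]

theorem bpt_zero : bpt 0 = none := by decide +kernel

theorem bpt_one : bpt 1 = some 0 := by decide +kernel

theorem M23_eq : Spor.M23 = fixBase 1 := by simp [Spor.M23, fixBase, bpt_zero]

theorem M22_eq : Spor.M22 = fixBase 2 := by simp [Spor.M22, Spor.M23, fixBase, bpt_zero, bpt_one]

theorem card_M23 : Nat.card Spor.M23 = 10200960 := by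
  rw [M23_eq]; exact card_fixBase 1 (by decide)

theorem card_M22 : Nat.card Spor.M22 = 443520 := by
  rw [M22_eq]; exact card_fixBase 2 (by decide)

theorem card_M11 : Nat.card Spor.M11 = 7920 := by
  rw [M11_eq]; exact card_fix12 1 (by decide)

/-- The action of a subgroup on an invariant set of points. -/
@[reducible] def subAction (K : Subgroup P24) (T : Finset GolayPt) (h : ∀ g ∈ K, ∀ p ∈ T, g p ∈ T) :
    MulAction K T where
  smul g p := ⟨(g : P24) p, h g g.2 p p.2⟩
  one_smul _ := rfl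
  mul_smul _ _ _ := rfl

theorem Rep.eq_of_eq {g h : P24} {L : List ℕ} (hg : Rep g L) (hh : Rep h L) : g = h := by
  ext1 a; exact ix_inj (by rw [hg, hh])

/-- Simplicity from a normaliser certificate and double transitivity. -/
theorem isSimple_of_cert (K : Subgroup P24) (T : Finset GolayPt) (hT : 2 ≤ T.card)
    (hinv : ∀ g ∈ K, ∀ p ∈ T, g p ∈ T) (hfaith : ∀ g ∈ K, (∀ p ∈ T, g p = p) → g = 1)
    (htrans : ∀ a ∈ T, ∀ b ∈ T, ∀ c ∈ T, ∀ d ∈ T, a ≠ b → c ≠ d → ∃ g ∈ K, g a = c ∧ g b = d)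
    {s t : List ℕ} {pows : List (List ℕ)} {p q : ℕ} {inv reps : List ℕ} {loc : List (ℕ × ℕ)}
    (hmem : ∀ g : P24, g ∈ K ↔ g ∈ M24 ∧ ∀ m ∈ inv, g • setOfMask m = setOfMask m)
    (hp : p.Prime) (hq : q.Prime) (hpq : p ≠ q) (hok : normOK s t pows p q inv reps loc = true)
    (hTp : p ∣ T.card) (hp2 : ¬ p ^ 2 ∣ Nat.card K) (hne : Nat.card K ≠ p * q) :
    IsSimpleGroup K := by
  letI := subAction K T hinv
  haveI : FaithfulSMul K T := ⟨fun {g h} e => by
    have hgh : ∀ a ∈ T, ((h⁻¹ * g : K) : P24) a = a := by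
      intro a ha
      have e1 : (g : P24) a = (h : P24) a := congrArg Subtype.val (e ⟨a, ha⟩)
      simp only [Subgroup.coe_mul, Subgroup.coe_inv, Equiv.Perm.mul_apply, e1, Equiv.Perm.coe_inv,
        Equiv.symm_apply_apply]
    have := hfaith _ (h⁻¹ * g).2 hgh
    exact (inv_mul_eq_one.1 (Subtype.ext this : h⁻¹ * g = 1)).symm⟩
  haveI : Nontrivial T := Fintype.one_lt_card_iff_nontrivial.1 (by rw [Fintype.card_coe]; omega)
  have h2 : MulAction.IsMultiplyPretransitive K T 2 := by
    rw [MulAction.is_two_pretransitive_iff]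
    intro a b c d hab hcd
    obtain ⟨g, hg, e1, e2⟩ := htrans a a.2 b b.2 c c.2 d d.2 (fun e => hab (Subtype.ext e))
      (fun e => hcd (Subtype.ext e))
    exact ⟨⟨g, hg⟩, Subtype.ext e1, Subtype.ext e2⟩
  haveI := MulAction.isPreprimitive_of_is_two_pretransitive h2
  haveI := Fact.mk hp
  haveI := Fact.mk hq
  simp only [normOK, Bool.and_eq_true, List.all_eq_true, Nat.blt_eq, beq_iff_eq, Bool.not_eq_true',
    beq_eq_false_iff_ne, List.any_eq_true, Nat.beq_eq] at hok
  obtain ⟨⟨⟨⟨⟨⟨⟨⟨⟨⟨hloc, hs⟩, ht⟩, hlt⟩, hsp⟩, hs1⟩, htq⟩, ht1⟩, ⟨k, -, hk⟩⟩, hlen⟩, hpows⟩ := hok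
  obtain ⟨hsM, hsl, hsr, hsm⟩ := inStab_spec hs
  obtain ⟨htM, htl, htr, htm⟩ := inStab_spec ht
  set σ : K := ⟨permOf s, (hmem _).2 ⟨hsM, hsm⟩⟩ with hσ
  set τ : K := ⟨permOf t, (hmem _).2 ⟨htM, htm⟩⟩ with hτ
  have ord : ∀ {l : List ℕ} {n : ℕ} (_ : n.Prime) {g : P24}, Rep g l → l.length = 24 →
      powL l n = List.range 24 → l ≠ List.range 24 → orderOf g = n := by
    intro l n hn g hg hll hpow hne1
    haveI := Fact.mk hn
    refine orderOf_eq_prime (Rep.eq_of_eq (hpow ▸ rep_powL hg n) rep_one) fun e => hne1 ?_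
    subst e
    apply List.ext_getElem (by simp [hll])
    intro i h1 h2
    have hi : i < 24 := hll ▸ h1
    have := hg (pt i)
    rw [Equiv.Perm.one_apply, ix_pt hi, List.getD_eq_getElem _ _ h1] at this
    simpa using this.symm
  have hσo : orderOf σ = p := by rw [← Subgroup.orderOf_coe]; exact ord hp hsr hsl hsp hs1
  have hτo : orderOf τ = q := by rw [← Subgroup.orderOf_coe]; exact ord hq htr htl htq ht1
  set N := Subgroup.normalizer (Subgroup.zpowers σ : Set K) with hN
  have hconj : τ * σ * τ⁻¹ = σ ^ k := by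
    apply Subtype.ext
    change permOf t * permOf s * (permOf t)⁻¹ = permOf s ^ k
    rw [mul_inv_eq_iff_eq_mul]
    exact Rep.eq_of_eq (hk ▸ Rep.mul hsl htr hsr) (Rep.mul htl (rep_powL hsr k) htr)
  have hτN : τ ∈ N := by
    rw [hN, Subgroup.mem_normalizer_iff_map_conj_eq]
    refine Subgroup.eq_of_le_of_card_ge ?_ ?_
    · rw [MonoidHom.map_zpowers, Subgroup.zpowers_le]
      change τ * σ * τ⁻¹ ∈ _
      rw [hconj]; exact Subgroup.pow_mem _ (Subgroup.mem_zpowers σ) k
    · rw [Subgroup.card_map_of_injective]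
      exact (MulAut.conj τ).injective
  have hσN : σ ∈ N := Subgroup.le_normalizer (Subgroup.mem_zpowers σ)
  have hlow : p * q ≤ Nat.card N := by
    refine Nat.le_of_dvd Nat.card_pos (((Nat.coprime_primes hp hq).2 hpq).mul_dvd_of_dvd_of_dvd ?_ ?_)
    · rw [← hσo]; exact Subgroup.orderOf_dvd_natCard _ hσN
    · rw [← hτo]; exact Subgroup.orderOf_dvd_natCard _ hτN
  have hhigh : Nat.card N ≤ p * q := by
    rw [← hlen]
    refine le_trans ?_ (List.toFinset_card_le _)
    rw [← Nat.card_eq_finsetCard]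
    refine Nat.card_le_card_of_injective (fun h => ⟨listOf ((h : K) : P24), ?_⟩) ?_
    · rw [List.mem_toFinset]
      obtain ⟨h1, h2⟩ := (hmem _).1 (h : K).2
      refine norm_mem_cands hsr hp (ord hp hsr hsl hsp hs1) hloc h1 (fun i hi => hpows i (List.mem_range.2 hi)) (fun m hm => ⟨?_, h2 m hm⟩) ?_
      · simpa using hlt m hm
      · obtain ⟨i, hi⟩ := Subgroup.mem_zpowers_iff.1
          ((Subgroup.mem_normalizer_iff.1 h.2 σ).1 (Subgroup.mem_zpowers σ))
        exact Subgroup.mem_zpowers_iff.2 ⟨i, congrArg Subtype.val hi⟩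
    · intro a b e
      exact Subtype.ext (Subtype.ext (listOf_injective (congrArg Subtype.val e)))
  exact isSimpleGroup_of_prime_point (α := T) hp hq (by simpa using hTp) σ hσo hp2
    (le_antisymm hhigh hlow) hne

theorem smul_singleton_iff {g : P24} {a : GolayPt} {m : ℕ} (hm : setOfMask m = {a}) :
    g • setOfMask m = setOfMask m ↔ g a = a := by
  simp [hm, Finset.smul_finset_singleton]

theorem setOfMask_infty : setOfMask 8388608 = {none} := by decide +kernel

theorem setOfMask_zero_pt : setOfMask 1 = {some 0} := by decide +kernel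

/-- Double transitivity from transitivity and a transitive point stabiliser. -/
theorem two_trans_of_levels (K : Subgroup P24) (T : Finset GolayPt) (a₀ : GolayPt)
    (hinv : ∀ g ∈ K, ∀ p ∈ T, g p ∈ T) (ha₀ : a₀ ∈ T) (h1 : ∀ y ∈ T, ∃ g ∈ K, g a₀ = y)
    (b₀ : GolayPt) (h2 : ∀ y ∈ T, y ≠ a₀ → ∃ g ∈ K, g a₀ = a₀ ∧ g b₀ = y) :
    ∀ a ∈ T, ∀ b ∈ T, ∀ c ∈ T, ∀ d ∈ T, a ≠ b → c ≠ d → ∃ g ∈ K, g a = c ∧ g b = d := by
  have key : ∀ a ∈ T, ∀ b ∈ T, a ≠ b → ∃ g ∈ K, g a₀ = a ∧ g b₀ = b := by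
    intro a ha b hb hab
    obtain ⟨u, hu, eu⟩ := h1 a ha
    have hmem : u⁻¹ b ∈ T := hinv _ (K.inv_mem hu) b hb
    obtain ⟨v, hv, e1, e2⟩ := h2 _ hmem fun e => hab (by
      rw [Equiv.Perm.inv_eq_iff_eq] at e; rw [← eu, e])
    exact ⟨u * v, K.mul_mem hu hv, by rw [Equiv.Perm.mul_apply, e1, eu],
      by rw [Equiv.Perm.mul_apply, e2, Equiv.Perm.coe_inv, Equiv.apply_symm_apply]⟩
  intro a ha b hb c hc d hd hab hcd
  obtain ⟨g, hg, g1, g2⟩ := key a ha b hb hab
  obtain ⟨h, hh, h1', h2'⟩ := key c hc d hd hcd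
  refine ⟨h * g⁻¹, K.mul_mem hh (K.inv_mem hg), ?_, ?_⟩
  · rw [Equiv.Perm.mul_apply, ← g1, Equiv.Perm.coe_inv, Equiv.symm_apply_apply, h1']
  · rw [Equiv.Perm.mul_apply, ← g2, Equiv.Perm.coe_inv, Equiv.symm_apply_apply, h2']

theorem fixBase_mem_compl {k : ℕ} {g : P24} (hg : g ∈ fixBase k) {p : GolayPt}
    (hp : p ∈ ((Finset.range k).image bpt)ᶜ) : g p ∈ ((Finset.range k).image bpt)ᶜ := by
  simp only [Finset.mem_compl, Finset.mem_image, Finset.mem_range, not_exists, not_and] at hp ⊢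
  intro j hj e
  exact hp j hj (g.injective (((mem_fixBase.1 hg).2 j hj).trans e))

theorem allowed_of_compl : ∀ k ∈ List.range 5, ∀ p : GolayPt, p ∈ ((Finset.range k).image bpt)ᶜ →
    (m24Allowed.getD k 0).testBit (ix p) = true := by decide +kernel

theorem fixBase_two_trans {k : ℕ} (hk : k < 4) :
    ∀ a ∈ ((Finset.range k).image bpt)ᶜ, ∀ b ∈ ((Finset.range k).image bpt)ᶜ,
      ∀ c ∈ ((Finset.range k).image bpt)ᶜ, ∀ d ∈ ((Finset.range k).image bpt)ᶜ,
        a ≠ b → c ≠ d → ∃ g ∈ fixBase k, g a = c ∧ g b = d := by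
  refine two_trans_of_levels (fixBase k) _ (bpt k) (fun g hg p hp => fixBase_mem_compl hg hp) ?_ ?_
    (bpt (k + 1)) ?_
  · simp only [Finset.mem_compl, Finset.mem_image, Finset.mem_range, not_exists, not_and]
    exact fun j hj e => bpt_ne k (List.mem_range.2 (by omega)) j (List.mem_range.2 hj) e.symm
  · intro y hy
    obtain ⟨u, hu, e1, e2⟩ := exists_transversal (by omega : k < 7)
      (allowed_of_compl k (List.mem_range.2 (by omega)) y hy)
    exact ⟨u, mem_fixBase.2 ⟨gen24_le hu, e1⟩, e2⟩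
  · intro y hy hne
    have hy' : y ∈ ((Finset.range (k + 1)).image bpt)ᶜ := by
      simp only [Finset.mem_compl, Finset.mem_image, Finset.mem_range, not_exists, not_and] at hy ⊢
      intro j hj e
      rcases Nat.lt_succ_iff_lt_or_eq.1 hj with h | rfl
      exacts [hy j h e, hne e.symm]
    obtain ⟨u, hu, e1, e2⟩ := exists_transversal (by omega : k + 1 < 7)
      (allowed_of_compl (k + 1) (List.mem_range.2 (by omega)) y hy')
    exact ⟨u, mem_fixBase.2 ⟨gen24_le hu, fun j hj => e1 j (by omega)⟩, e1 k (by omega), e2⟩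

theorem faith_compl {k : ℕ} {g : P24} (hg : g ∈ fixBase k)
    (h : ∀ p ∈ ((Finset.range k).image bpt)ᶜ, g p = p) : g = 1 := by
  ext1 p
  by_cases hp : p ∈ ((Finset.range k).image bpt)ᶜ
  · exact h p hp
  · simp only [Finset.mem_compl, not_not, Finset.mem_image, Finset.mem_range] at hp
    obtain ⟨j, hj, rfl⟩ := hp
    exact (mem_fixBase.1 hg).2 j hj

theorem isSimple_M23 : IsSimpleGroup Spor.M23 := by
  rw [M23_eq]
  refine isSimple_of_cert (fixBase 1) _ (by decide +kernel) (fun g hg p hp => fixBase_mem_compl hg hp)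
    (fun g hg => faith_compl hg) (fixBase_two_trans (by norm_num)) (fun g => ?_)
    (by norm_num) (by norm_num) (by norm_num) M23_normOK (by decide +kernel) ?_ ?_
  · simp [mem_fixBase, bpt_zero, smul_singleton_iff setOfMask_infty]
  · rw [card_fixBase 1 (by decide)]; norm_num
  · rw [card_fixBase 1 (by decide)]; norm_num

theorem isSimple_M22 : IsSimpleGroup Spor.M22 := by
  rw [M22_eq]
  refine isSimple_of_cert (fixBase 2) _ (by decide +kernel) (fun g hg p hp => fixBase_mem_compl hg hp)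
    (fun g hg => faith_compl hg) (fixBase_two_trans (by norm_num)) (fun g => ?_)
    (by norm_num) (by norm_num) (by norm_num) M22_normOK (by decide +kernel) ?_ ?_
  · rw [mem_fixBase]
    simp only [List.mem_cons, List.not_mem_nil, or_false, forall_eq_or_imp, forall_eq,
      smul_singleton_iff setOfMask_infty, smul_singleton_iff setOfMask_zero_pt, ← bpt_zero, ← bpt_one]
    exact and_congr_right' ⟨fun h => ⟨h 0 (by norm_num), h 1 (by norm_num)⟩, fun h j hj => by
      interval_cases j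
      exacts [h.1, h.2]⟩
  · rw [card_fixBase 2 (by decide)]; norm_num
  · rw [card_fixBase 2 (by decide)]; norm_num

theorem isSimple_M11 : IsSimpleGroup Spor.M11 := by
  rw [M11_eq]
  have hinv : ∀ g ∈ fix12 1, ∀ p ∈ rest12 1, g p ∈ rest12 1 := by
    intro g hg p hp
    obtain ⟨h1, h2⟩ := mem_fix12.1 hg
    simp only [rest12, Finset.mem_sdiff, Finset.mem_image, Finset.mem_range, not_exists, not_and] at hp ⊢
    refine ⟨?_, fun j hj e => hp.2 j hj (g.injective ((h2 j hj).trans e))⟩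
    rw [← (mem_M12_iff.1 h1).2]
    exact Finset.smul_mem_smul_finset hp.1
  refine isSimple_of_cert (fix12 1) (rest12 1) (by decide +kernel) hinv ?_ ?_ (fun g => ?_)
    (by norm_num) (by norm_num) (by norm_num) M11_normOK (by decide +kernel) ?_ ?_
  · intro g hg h
    obtain ⟨h1, h2⟩ := mem_fix12.1 hg
    refine eq_one_of_fix12 h1 fun j hj => ?_
    rcases Nat.eq_zero_or_pos j with rfl | hj0
    · exact h2 0 one_pos
    · refine h _ ?_
      revert j; intro j hj hj0
      interval_cases j <;> decide +kernel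
  · refine two_trans_of_levels (fix12 1) _ (dpt 1) hinv (by decide +kernel)
      (fun y hy => fix12_trans (by norm_num) hy) (dpt 2) fun y hy hne => ?_
    have hy' : y ∈ rest12 2 := by
      simp only [rest12, Finset.mem_sdiff, Finset.mem_image, Finset.mem_range, not_exists, not_and] at hy ⊢
      refine ⟨hy.1, fun j hj e => ?_⟩
      rcases Nat.lt_succ_iff_lt_or_eq.1 hj with h | rfl
      exacts [hy.2 j h e, hne e.symm]
    obtain ⟨g, hg, e⟩ := fix12_trans (by norm_num : 2 < 5) hy'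
    exact ⟨g, hg.1, (mem_fix12.1 hg).2 1 (by norm_num), e⟩
  · simp [mem_fix12, mem_M12_iff, dpt_zero, smul_singleton_iff setOfMask_zero_pt, and_assoc, and_comm, and_left_comm]
  · rw [card_fix12 1 (by decide)]; norm_num
  · rw [card_fix12 1 (by decide)]; norm_num

theorem isSimple_M24 : IsSimpleGroup M24 := by
  have h2 : MulAction.IsMultiplyPretransitive M24 GolayPt 2 := by
    rw [MulAction.isMultiplyPretransitive_iff]
    intro x y
    obtain ⟨g, hg, e⟩ := exists_M24_map (by norm_num) x y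
    exact ⟨⟨g, hg⟩, DFunLike.ext _ _ e⟩
  have e : MulAction.stabilizer M24 (none : GolayPt) = (Spor.M23).subgroupOf M24 := by
    ext ⟨g, hg⟩
    simp [Subgroup.mem_subgroupOf, Spor.M23, hg, Subgroup.smul_def]
  haveI : IsSimpleGroup ↥(M24 ⊓ MulAction.stabilizer P24 (none : GolayPt)) := isSimple_M23
  haveI : IsSimpleGroup (MulAction.stabilizer M24 (none : GolayPt)) := by
    rw [e]; exact (Subgroup.subgroupOfEquivOfLe inf_le_left).isSimpleGroup
  exact isSimpleGroup_of_two_trans h2 none (r := 2) (s := 3) Nat.prime_two Nat.prime_three (by norm_num)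
    (by rw [Nat.card_eq_fintype_card]; decide +kernel) (by rw [Nat.card_eq_fintype_card]; decide +kernel)

theorem M12_two_trans : ∀ a ∈ rest12 0, ∀ b ∈ rest12 0, ∀ c ∈ rest12 0, ∀ d ∈ rest12 0,
    a ≠ b → c ≠ d → ∃ g ∈ Spor.M12, g a = c ∧ g b = d := by
  have hinv : ∀ g ∈ Spor.M12, ∀ p ∈ rest12 0, g p ∈ rest12 0 := by
    intro g hg p hp
    simp only [rest12, Finset.range_zero, Finset.image_empty, Finset.sdiff_empty] at hp ⊢
    rw [← (mem_M12_iff.1 hg).2]
    exact Finset.smul_mem_smul_finset hp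
  refine two_trans_of_levels Spor.M12 _ (dpt 0) hinv (by decide +kernel)
    (fun y hy => fix12_trans (k := 0) (by norm_num) hy) (dpt 1) fun y hy hne => ?_
  have hy' : y ∈ rest12 1 := by
    simp only [rest12, Finset.range_zero, Finset.image_empty, Finset.sdiff_empty] at hy
    simp only [rest12, Finset.mem_sdiff, Finset.mem_image, Finset.mem_range, not_exists, not_and]
    exact ⟨hy, fun j hj e => hne (by rw [← e, Nat.lt_one_iff.1 hj])⟩
  obtain ⟨g, hg, e⟩ := fix12_trans (by norm_num : 1 < 5) hy'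
  exact ⟨g, hg.1, (mem_fix12.1 hg).2 0 (by norm_num), e⟩

theorem isSimple_M12 : IsSimpleGroup Spor.M12 := by
  have hinv : ∀ g ∈ Spor.M12, ∀ p ∈ rest12 0, g p ∈ rest12 0 := by
    intro g hg p hp
    simp only [rest12, Finset.range_zero, Finset.image_empty, Finset.sdiff_empty] at hp ⊢
    rw [← (mem_M12_iff.1 hg).2]
    exact Finset.smul_mem_smul_finset hp
  letI := subAction Spor.M12 (rest12 0) hinv
  have hd : ∀ j ∈ List.range 5, dpt j ∈ rest12 0 := by decide +kernel
  haveI : FaithfulSMul Spor.M12 (rest12 0) := ⟨fun {g h} e => by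
    have : ((h⁻¹ * g : Spor.M12) : P24) = 1 := eq_one_of_fix12 (h⁻¹ * g).2 fun j hj => by
      have e1 : (g : P24) (dpt j) = (h : P24) (dpt j) :=
        congrArg Subtype.val (e ⟨dpt j, hd j (List.mem_range.2 hj)⟩)
      simp only [Subgroup.coe_mul, Subgroup.coe_inv, Equiv.Perm.mul_apply, e1, Equiv.Perm.coe_inv,
        Equiv.symm_apply_apply]
    exact (inv_mul_eq_one.1 (Subtype.ext this : h⁻¹ * g = 1)).symm⟩
  have h2 : MulAction.IsMultiplyPretransitive Spor.M12 (rest12 0) 2 := by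
    rw [MulAction.is_two_pretransitive_iff]
    intro a b c d hab hcd
    obtain ⟨g, hg, e1, e2⟩ := M12_two_trans a a.2 b b.2 c c.2 d d.2 (fun e => hab (Subtype.ext e))
      (fun e => hcd (Subtype.ext e))
    exact ⟨⟨g, hg⟩, Subtype.ext e1, Subtype.ext e2⟩
  have hcard : Nat.card (rest12 0) = 12 := by
    rw [Nat.card_eq_finsetCard]; decide +kernel
  haveI : Nontrivial (rest12 0) := by
    rw [← Finite.one_lt_card_iff_nontrivial, hcard]; norm_num
  let a : rest12 0 := ⟨dpt 0, hd 0 (by decide)⟩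
  have e : MulAction.stabilizer Spor.M12 a = (Spor.M11).subgroupOf Spor.M12 := by
    ext ⟨g, hg⟩
    simp only [MulAction.mem_stabilizer_iff, Subgroup.mem_subgroupOf, M11_eq, mem_fix12, hg, true_and]
    constructor
    · intro h j hj
      rw [Nat.lt_one_iff.1 hj]; exact congrArg Subtype.val h
    · intro h; exact Subtype.ext (h 0 one_pos)
  haveI : IsSimpleGroup ↥(Spor.M12 ⊓ MulAction.stabilizer P24 (some 0 : GolayPt)) := isSimple_M11
  haveI : IsSimpleGroup (MulAction.stabilizer Spor.M12 a) := by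
    rw [e]; exact (Subgroup.subgroupOfEquivOfLe inf_le_left).isSimpleGroup
  exact isSimpleGroup_of_two_trans h2 a (r := 2) (s := 3) Nat.prime_two Nat.prime_three (by norm_num)
    (by rw [hcard]; norm_num) (by rw [hcard]; norm_num)

end CfsgLib.Spor
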