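import Cfsg.Agent.Lib.TransferMaximalClass
import Cfsg.Agent.Lib.TwoFusionEssentialCube
import Cfsg.Agent.Lib.FgsMetacyclicNilp
import Cfsg.Agent.Lib.FgsAutFrattini
import Cfsg.Agent.Lib.DicksonDihedral
import Cfsg.Agent.Lib.CoreOmega
import Cfsg.Agent.Lib.CoreMetacyclicSub
import Cfsg.Agent.S0016
import Cfsg.Prelude.Def_CaseTheorems

/-!
# Metacyclic `2`-groups with automorphisms of odd order, and groups of maximal class
-/

set_option autoImplicit false

open Subgroup
open scoped commutatorElement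

namespace CfsgLib.MetacyclicTwo

variable {H : Type*} [Group H] [Finite H]

theorem natexp' {y e : H} (he : e ∈ zpowers y) : ∃ n : ℕ, e = y ^ n := by
  obtain ⟨n, hn⟩ := (Submonoid.mem_powers_iff _ _).1
    ((isOfFinOrder_of_finite y).mem_powers_iff_mem_zpowers.2 he)
  exact ⟨n, hn.symm⟩

/-- In a cyclic `2`-group an even power of the generator does not generate. -/
theorem even_gen (hH : IsPGroup 2 H) {δ : H} {n : ℕ} (hn : Even n)
    (h : δ ∈ zpowers (δ ^ n)) : δ = 1 := by
  obtain ⟨m, hm⟩ := natexp' h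
  obtain ⟨i, rfl⟩ := hn
  obtain ⟨j, hj⟩ := IsPGroup.iff_orderOf.1 hH δ
  rw [← pow_mul] at hm
  have h1 : δ ^ 1 = δ ^ ((i + i) * m) := by rw [pow_one]; exact hm
  have h2 := pow_eq_pow_iff_modEq.1 h1
  rw [hj] at h2
  rcases Nat.eq_zero_or_pos j with rfl | hj0
  · rw [pow_zero] at hj; exact orderOf_eq_one_iff.1 hj
  exfalso
  have h3 := h2.of_dvd (dvd_pow_self 2 hj0.ne')
  have h4 : 1 % 2 = ((i + i) * m) % 2 := h3
  rw [← two_mul, mul_assoc, Nat.mul_mod_right] at h4
  exact absurd h4 (by norm_num)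

/-- An automorphism of odd order of a two-generated `2`-group moves every element outside the
Frattini subgroup through all three non-trivial cosets. -/
theorem cosets (hH : IsPGroup 2 H) (h2g : ∃ a b : H, closure ({a, b} : Set H) = ⊤)
    {α : MulAut H} (hα1 : α ≠ 1) (hodd : Odd (orderOf α)) :
    (frattini H).index = 4 ∧ ∀ u : H, u ∉ frattini H →
      u⁻¹ * α u ∉ frattini H ∧ (α u)⁻¹ * α (α u) ∉ frattini H ∧ u⁻¹ * α (α u) ∉ frattini H ∧
      ∀ v : H, v ∈ frattini H ∨ u⁻¹ * v ∈ frattini H ∨ (α u)⁻¹ * v ∈ frattini H ∨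
        (α (α u))⁻¹ * v ∈ frattini H := by
  haveI : Fact (Nat.Prime 2) := ⟨Nat.prime_two⟩
  obtain ⟨a, b, hab⟩ := h2g
  set Φ := frattini H with hΦ
  have hinv : ∀ (β : MulAut H) {x : H}, x ∈ Φ → β x ∈ Φ := fun β x hx =>
    frattini_le_comap_frattini_of_surjective (φ := β.toMonoidHom) β.surjective hx
  haveI : Φ.Normal := by rw [hΦ]; infer_instance
  have hinv' : ∀ (β : MulAut H) {x : H}, β x ∈ Φ → x ∈ Φ := fun β x hx => by
    have := hinv β⁻¹ hx
    rwa [MulAut.inv_apply_self] at this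
  let act : H ⧸ Φ → H ⧸ Φ := Quotient.map' α fun q r hqr => by
    rw [QuotientGroup.leftRel_apply] at hqr ⊢
    rw [← map_inv, ← map_mul]
    exact hinv α hqr
  have hact : ∀ u : H, act (u : H ⧸ Φ) = ((α u : H) : H ⧸ Φ) := fun u => rfl
  have hbij : Function.Bijective act := by
    refine Finite.surjective_iff_bijective.1 fun q => ?_
    induction q using QuotientGroup.induction_on with
    | _ u => exact ⟨((α⁻¹ u : H) : H ⧸ Φ), by rw [hact, MulAut.apply_inv_self]⟩
  let e : Equiv.Perm (H ⧸ Φ) := Equiv.ofBijective act hbij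
  have hepow : ∀ n : ℕ, ∀ u : H, (e ^ n) (u : H ⧸ Φ) = (((α ^ n) u : H) : H ⧸ Φ) := by
    intro n
    induction n with
    | zero => intro u; simp
    | succ n ih =>
      intro u
      rw [pow_succ' e, Equiv.Perm.mul_apply, ih, pow_succ' α, MulAut.mul_apply]
      exact hact _
  obtain ⟨m, hm⟩ := hodd
  have hid : ∀ q : H ⧸ Φ, e (e q) = q → e q = q := fun q h => by
    have h1 : ∀ i : ℕ, (e ^ (2 * i)) q = q := by
      intro i
      induction i with
      | zero => simp
      | succ i ih => rw [Nat.mul_succ, pow_add, Equiv.Perm.mul_apply, pow_two, Equiv.Perm.mul_apply, h, ih]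
    have h2 : (e ^ (2 * m + 1)) q = q := by
      induction q using QuotientGroup.induction_on with
      | _ u => rw [hepow, ← hm, pow_orderOf_eq_one, MulAut.one_apply]
    rwa [pow_succ', Equiv.Perm.mul_apply, h1] at h2
  have hle : Φ.index ≤ 4 := CfsgLib.MetacyclicNilp.index_frattini_le (p := 2) hH hab
  have hnot : ¬ ∀ u : H, e (u : H ⧸ Φ) = u := by
    intro hall
    obtain ⟨n, hn⟩ := IsPGroup.iff_card.1 hH
    obtain ⟨r, hr, hrr⟩ := (Nat.dvd_prime_pow Nat.prime_two).1 (hn ▸ Φ.index_dvd_card)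
    have hd := CfsgLib.FgsAutFrattini.card_kernel_dvd hn hrr (zpowers α) fun β hβ x => by
      haveI : Finite (MulAut H) := Finite.of_injective _ DFunLike.coe_injective
      obtain ⟨i, rfl⟩ := natexp' hβ
      have h1 : (((α ^ i) x : H) : H ⧸ Φ) = (x : H ⧸ Φ) := by
        rw [← hepow]
        have : ∀ n : ℕ, (e ^ n) (x : H ⧸ Φ) = (x : H ⧸ Φ) := fun n => by
          induction n with
          | zero => rfl
          | succ n ih => rw [pow_succ', Equiv.Perm.mul_apply, ih, hall]
        exact this _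
      rw [QuotientGroup.eq] at h1
      have h2 := (inferInstance : Φ.Normal).conj_mem _ h1 ((α ^ i) x)
      rw [mul_inv_cancel_left, ] at h2
      have h3 := inv_mem h2
      rwa [mul_inv_rev, inv_inv] at h3
    rw [Nat.card_zpowers] at hd
    obtain ⟨q, -, hq'⟩ := (Nat.dvd_prime_pow Nat.prime_two).1 hd
    rcases Nat.eq_zero_or_pos q with rfl | hq
    · exact hα1 (orderOf_eq_one_iff.1 (by simpa using hq'))
    · have : (orderOf α) % 2 = 0 := by
        rw [hq', Nat.pow_mod]; simp [hq.ne']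
      omega
  haveI : Fintype (H ⧸ Φ) := Fintype.ofFinite _
  have he1 : e ((1 : H) : H ⧸ Φ) = ((1 : H) : H ⧸ Φ) := by
    rw [Equiv.ofBijective_apply, hact, map_one]
  have hcard : Nat.card (H ⧸ Φ) = Φ.index := (Subgroup.index_eq_card _).symm
  have key : ∀ u : H, e (u : H ⧸ Φ) = u → u ∈ Φ := by
    intro u hu
    by_contra huΦ
    refine hnot fun v => ?_
    by_contra hv
    set q : H ⧸ Φ := (v : H ⧸ Φ)
    have h2 : e (e q) ≠ q := fun h => hv (hid q h)
    classical
    have hu1 : (u : H ⧸ Φ) ≠ ((1 : H) : H ⧸ Φ) := fun h => huΦ (by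
      rw [QuotientGroup.mk_one, QuotientGroup.eq_one_iff] at h; exact h)
    have hq1 : q ≠ ((1 : H) : H ⧸ Φ) := fun h => hv (by rw [h]; exact he1)
    have hqu : q ≠ (u : H ⧸ Φ) := fun h => hv (by rw [h]; exact hu)
    have hs : ({((1 : H) : H ⧸ Φ), (u : H ⧸ Φ), q, e q, e (e q)} : Finset (H ⧸ Φ)).card = 5 := by
      have a1 : e q ≠ ((1 : H) : H ⧸ Φ) := fun h => hq1 (e.injective (h.trans he1.symm))
      have a2 : e q ≠ (u : H ⧸ Φ) := fun h => hqu (e.injective (h.trans hu.symm))
      have a3 : e (e q) ≠ ((1 : H) : H ⧸ Φ) := fun h => a1 (e.injective (h.trans he1.symm))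
      have a4 : e (e q) ≠ (u : H ⧸ Φ) := fun h => a2 (e.injective (h.trans hu.symm))
      have a5 : e (e q) ≠ e q := fun h => hv (e.injective h)
      rw [Finset.card_insert_of_notMem (by simp only [Finset.mem_insert, Finset.mem_singleton]; tauto),
        Finset.card_insert_of_notMem (by simp only [Finset.mem_insert, Finset.mem_singleton]; tauto),
        Finset.card_insert_of_notMem (by simp only [Finset.mem_insert, Finset.mem_singleton]; tauto),
        Finset.card_insert_of_notMem (by simp only [Finset.mem_singleton]; exact a5.symm),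
        Finset.card_singleton]
    have := Finset.card_le_univ ({((1 : H) : H ⧸ Φ), (u : H ⧸ Φ), q, e q, e (e q)} : Finset (H ⧸ Φ))
    rw [hs, ← Nat.card_eq_fintype_card, hcard] at this
    omega
  have hdiff : ∀ u : H, u ∉ Φ → u⁻¹ * α u ∉ Φ ∧ (α u)⁻¹ * α (α u) ∉ Φ ∧ u⁻¹ * α (α u) ∉ Φ := by
    intro u hu
    have h1 : e (u : H ⧸ Φ) ≠ u := fun h => hu (key u h)
    refine ⟨fun h => h1 (QuotientGroup.eq.2 h).symm, fun h => h1 ?_, fun h => h1 ?_⟩
    · exact e.injective (QuotientGroup.eq.2 h).symm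
    · exact hid _ (QuotientGroup.eq.2 h).symm
  have four : ∀ u : H, u ∉ Φ → Φ.index = 4 ∧ ∀ v : H, v ∈ Φ ∨ u⁻¹ * v ∈ Φ ∨ (α u)⁻¹ * v ∈ Φ ∨
      (α (α u))⁻¹ * v ∈ Φ := by
    intro u hu
    classical
    obtain ⟨d1, d2, d3⟩ := hdiff u hu
    have hu2 : α u ∉ Φ := fun h => hu (hinv' α h)
    have hu3 : α (α u) ∉ Φ := fun h => hu2 (hinv' α h)
    have n1 : ∀ {x : H}, x ∉ Φ → ((1 : H) : H ⧸ Φ) ≠ (x : H ⧸ Φ) := fun hx h => hx (by
      have := QuotientGroup.eq.1 h; rwa [inv_one, one_mul] at this)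
    have n2 : ∀ {x y : H}, x⁻¹ * y ∉ Φ → (x : H ⧸ Φ) ≠ (y : H ⧸ Φ) := fun hx h =>
      hx (QuotientGroup.eq.1 h)
    have hs : ({((1 : H) : H ⧸ Φ), (u : H ⧸ Φ), ((α u : H) : H ⧸ Φ),
        ((α (α u) : H) : H ⧸ Φ)} : Finset (H ⧸ Φ)).card = 4 := by
      have b1 := n1 hu
      have b2 := n1 hu2
      have b3 := n1 hu3
      have b4 := n2 d1
      have b5 := n2 d2
      have b6 := n2 d3
      rw [Finset.card_insert_of_notMem (by simp only [Finset.mem_insert, Finset.mem_singleton]; tauto),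
        Finset.card_insert_of_notMem (by simp only [Finset.mem_insert, Finset.mem_singleton]; tauto),
        Finset.card_insert_of_notMem (by simp only [Finset.mem_singleton]; exact b5),
        Finset.card_singleton]
    have hle' := Finset.card_le_univ ({((1 : H) : H ⧸ Φ), (u : H ⧸ Φ), ((α u : H) : H ⧸ Φ),
        ((α (α u) : H) : H ⧸ Φ)} : Finset (H ⧸ Φ))
    rw [hs, ← Nat.card_eq_fintype_card, hcard] at hle'
    refine ⟨by omega, fun v => ?_⟩
    have huniv := (Finset.card_eq_iff_eq_univ _).1 (hs.trans (by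
      rw [← Nat.card_eq_fintype_card, hcard]; omega : (4 : ℕ) = Fintype.card (H ⧸ Φ)))
    have hv := Finset.mem_univ (v : H ⧸ Φ)
    rw [← huniv] at hv
    simp only [Finset.mem_insert, Finset.mem_singleton] at hv
    rcases hv with h | h | h | h
    · left; rwa [QuotientGroup.mk_one, QuotientGroup.eq_one_iff] at h
    · right; left; exact QuotientGroup.eq.1 h.symm
    · right; right; left; exact QuotientGroup.eq.1 h.symm
    · right; right; right; exact QuotientGroup.eq.1 h.symm
  obtain ⟨u₀, hu₀⟩ : ∃ u, u ∉ Φ := by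
    by_contra h
    push Not at h
    exact hnot fun u => by
      rw [show (u : H ⧸ Φ) = ((1 : H) : H ⧸ Φ) from (QuotientGroup.eq.2 (by
        rw [inv_one, one_mul]; exact h u)).symm]
      exact he1
  exact ⟨(four u₀ hu₀).1, fun u hu => ⟨(hdiff u hu).1, (hdiff u hu).2.1, (hdiff u hu).2.2,
    (four u hu).2⟩⟩

/-- A nonabelian metacyclic `2`-group with an automorphism of odd order is `Q₈`. -/
theorem quaternion_of_aut (hH : IsPGroup 2 H) (hm : Cfsg.IsMetacyclic H)
    (hna : ¬ IsMulCommutative H) {α : MulAut H} (hα1 : α ≠ 1) (hodd : Odd (orderOf α)) :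
    Nonempty (H ≃* QuaternionGroup 2) := by
  haveI : Fact (Nat.Prime 2) := ⟨Nat.prime_two⟩
  obtain ⟨hidx, hcos⟩ := cosets hH (CfsgLib.MetacyclicNilp.two_generated hm (MonoidHom.id H)
    Function.injective_id) hα1 hodd
  obtain ⟨N, hN, hNc, hQc⟩ := hm
  haveI := hN
  haveI := hNc
  haveI := hQc
  obtain ⟨y₀, hy₀⟩ := IsCyclic.exists_generator (α := N)
  set y : H := (y₀ : H) with hy
  have hNy : N = zpowers y := by
    refine le_antisymm (fun x hx => ?_) (zpowers_le.2 y₀.2)
    obtain ⟨i, hi⟩ := mem_zpowers_iff.1 (hy₀ ⟨x, hx⟩)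
    exact mem_zpowers_iff.2 ⟨i, by simpa [hy] using congrArg Subtype.val hi⟩
  -- the generator lies outside the Frattini subgroup
  have hyΦ : y ∉ frattini H := by
    intro h
    obtain ⟨q, hq⟩ := IsCyclic.exists_generator (α := H ⧸ N)
    obtain ⟨b, rfl⟩ := QuotientGroup.mk'_surjective N q
    have htop : zpowers b ⊔ frattini H = ⊤ := eq_top_iff.2 fun x _ => by
      obtain ⟨i, hi⟩ := mem_zpowers_iff.1 (hq (x : H ⧸ N))
      rw [← map_zpow, QuotientGroup.mk'_apply, QuotientGroup.eq] at hi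
      have hle : N ≤ frattini H := hNy ▸ zpowers_le.2 h
      have := mul_mem_sup (zpow_mem (mem_zpowers b) i) (hle hi)
      rwa [mul_inv_cancel_left] at this
    have hb := CfsgLib.Core.eq_top_of_sup_frattini htop
    exact hna ⟨⟨fun u v => by
      obtain ⟨i, rfl⟩ := mem_zpowers_iff.1 (hb.ge (mem_top u))
      obtain ⟨j, rfl⟩ := mem_zpowers_iff.1 (hb.ge (mem_top v))
      exact (Commute.zpow_zpow (Commute.refl b) i j).eq⟩⟩
  obtain ⟨d12, d23, d13, hall⟩ := hcos y hyΦ
  set y2 := α y with hy2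
  set w := α y2 with hw
  have hNmap : ∀ β : MulAut H, (zpowers (β y)).Normal := fun β => by
    refine ⟨fun x hx g => ?_⟩
    obtain ⟨i, rfl⟩ := mem_zpowers_iff.1 hx
    have h1 : (β⁻¹ g) * y ^ i * (β⁻¹ g)⁻¹ ∈ zpowers y :=
      hNy ▸ hN.conj_mem _ (hNy ▸ zpow_mem (mem_zpowers y) i) _
    obtain ⟨j, hj⟩ := mem_zpowers_iff.1 h1
    refine mem_zpowers_iff.2 ⟨j, ?_⟩
    have h2 := congrArg β hj
    rwa [map_zpow, map_mul, map_mul, map_inv, map_zpow, MulAut.apply_inv_self] at h2
  haveI : (zpowers y).Normal := hNy ▸ hN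
  haveI : (zpowers y2).Normal := hNmap α
  haveI : (zpowers w).Normal := by
    have := hNmap (α * α)
    rwa [MulAut.mul_apply] at this
  have hspan : ∀ a b : H, a⁻¹ * b ∉ frattini H → a ∉ frattini H → b ∉ frattini H →
      zpowers a ⊔ zpowers b = ⊤ := by
    intro a b hab ha hb
    refine CfsgLib.Core.eq_top_of_sup_frattini ?_
    refine eq_top_iff.2 fun v _ => ?_
    obtain ⟨-, -, -, hc⟩ := hcos a ha
    set M := zpowers a ⊔ zpowers b ⊔ frattini H with hM
    have haM : a ∈ M := mem_sup_left (mem_sup_left (mem_zpowers a))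
    have hbM : b ∈ M := mem_sup_left (mem_sup_right (mem_zpowers b))
    have hΦM : ∀ x ∈ frattini H, x ∈ M := fun x hx => mem_sup_right hx
    -- three of the four cosets meet `M`, hence all
    have hprod : a * b ∈ M := mul_mem haM hbM
    have hab' : a * b ∉ frattini H ∧ a⁻¹ * (a * b) ∉ frattini H ∧ b⁻¹ * (a * b) ∉ frattini H := by
      haveI : Fact (Nat.Prime 2) := ⟨Nat.prime_two⟩
      have hn : (frattini H).Normal := inferInstance
      refine ⟨fun h => hab ?_, by rwa [inv_mul_cancel_left], fun h => ha ?_⟩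
      · have ha2 : a * a ∈ frattini H := by
          rw [← pow_two]; exact CfsgLib.Core.pgroup_pow_mem_frattini hH a
        have := mul_mem (inv_mem ha2) h
        rwa [mul_inv_rev, mul_assoc, inv_mul_cancel_left] at this
      · have := hn.conj_mem _ h b
        rwa [mul_inv_cancel_left, mul_inv_cancel_right] at this
    have key : ∀ x y : H, x ∈ M → x⁻¹ * y ∈ frattini H → y ∈ M := fun x y hx h => by
      have := mul_mem hx (hΦM _ h)
      rwa [mul_inv_cancel_left] at this
    have key2 : ∀ x y : H, y ∈ M → x⁻¹ * y ∈ frattini H → x ∈ M := fun x y hy h => by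
      have := mul_mem hy (inv_mem (hΦM _ h))
      rwa [mul_inv_rev, inv_inv, mul_inv_cancel_left] at this
    have tr : ∀ {x y z : H}, x⁻¹ * y ∈ frattini H → x⁻¹ * z ∈ frattini H → y⁻¹ * z ∈ frattini H :=
      fun {x y z} h1 h2 => by
        have := mul_mem (inv_mem h1) h2
        rwa [mul_inv_rev, inv_inv, mul_assoc, mul_inv_cancel_left] at this
    obtain ⟨n1, n2, n3⟩ := hab'
    have hb' : ((α a)⁻¹ * b ∈ frattini H ∧ (α (α a))⁻¹ * (a * b) ∈ frattini H) ∨
        ((α (α a))⁻¹ * b ∈ frattini H ∧ (α a)⁻¹ * (a * b) ∈ frattini H) := by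
      rcases hc b with h | h | h | h
      · exact absurd h hb
      · exact absurd h hab
      · rcases hc (a * b) with g | g | g | g
        · exact absurd g n1
        · exact absurd g n2
        · exact absurd (tr h g) n3
        · exact Or.inl ⟨h, g⟩
      · rcases hc (a * b) with g | g | g | g
        · exact absurd g n1
        · exact absurd g n2
        · exact Or.inr ⟨h, g⟩
        · exact absurd (tr h g) n3
    rcases hc v with h | h | h | h
    · exact hΦM v h
    · exact key a v haM h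
    · rcases hb' with ⟨hb'', -⟩ | ⟨-, hb''⟩
      · exact key _ v (key2 _ b hbM hb'') h
      · exact key _ v (key2 _ _ hprod hb'') h
    · rcases hb' with ⟨-, hb''⟩ | ⟨hb'', -⟩
      · exact key _ v (key2 _ _ hprod hb'') h
      · exact key _ v (key2 _ b hbM hb'') h
  have hy2Φ : y2 ∉ frattini H := fun h => hyΦ (by
    have := frattini_le_comap_frattini_of_surjective (φ := (α⁻¹ : MulAut H).toMonoidHom)
      (α⁻¹ : MulAut H).surjective h
    rwa [mem_comap, hy2, MulEquiv.coe_toMonoidHom, MulAut.inv_apply_self] at this)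
  have hwΦ : w ∉ frattini H := fun h => hy2Φ (by
    have := frattini_le_comap_frattini_of_surjective (φ := (α⁻¹ : MulAut H).toMonoidHom)
      (α⁻¹ : MulAut H).surjective h
    rwa [mem_comap, hw, MulEquiv.coe_toMonoidHom, MulAut.inv_apply_self] at this)
  have h12 : zpowers y ⊔ zpowers y2 = ⊤ := hspan y y2 d12 hyΦ hy2Φ
  have h31 : zpowers y ⊔ zpowers w = ⊤ := hspan y w d13 hyΦ hwΦ
  set D := zpowers y ⊓ zpowers y2 with hD
  have hDcen : ∀ x ∈ D, ∀ v, Commute x v := by
    intro x hx v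
    have hle : (⊤ : Subgroup H) ≤ centralizer {x} := by
      rw [← h12]
      refine sup_le (zpowers_le.2 ?_) (zpowers_le.2 ?_)
      · obtain ⟨i, rfl⟩ := mem_zpowers_iff.1 hx.1
        rw [mem_centralizer_singleton_iff]
        exact ((Commute.refl y).zpow_right i).eq
      · obtain ⟨i, rfl⟩ := mem_zpowers_iff.1 hx.2
        rw [mem_centralizer_singleton_iff]
        exact ((Commute.refl y2).zpow_right i).eq
    exact (mem_centralizer_singleton_iff.1 (hle (mem_top v))).symm
  have hcD : ∀ a b : ℕ, ⁅y2 ^ b, y ^ a⁆ ∈ D := fun a b =>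
    ⟨by
      rw [commutatorElement_def]
      exact Subgroup.mul_mem _ ((inferInstance : (zpowers y).Normal).conj_mem _
        (Subgroup.pow_mem _ (mem_zpowers y) a) _) (Subgroup.inv_mem _ (Subgroup.pow_mem _ (mem_zpowers y) a)),
    by
      rw [commutatorElement_def, mul_assoc (y2 ^ b * y ^ a), ← mul_assoc, mul_assoc (y2 ^ b),
        mul_assoc (y2 ^ b)]
      exact mul_mem (pow_mem (mem_zpowers y2) b)
        ((inferInstance : (zpowers y2).Normal).conj_mem _ (inv_mem (pow_mem (mem_zpowers y2) b)) _)⟩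
  have hnc : ¬ Commute y y2 := fun hc => hna ⟨⟨fun u v => by
    have hle : ∀ u v : H, Commute u v := by
      intro u v
      have h1 : ∀ x ∈ ({y, y2} : Set H), ∀ x' ∈ ({y, y2} : Set H), x * x' = x' * x := by
        rintro x (rfl | rfl) x' (rfl | rfl)
        · rfl
        · exact hc.eq
        · exact hc.symm.eq
        · rfl
      haveI := Subgroup.isMulCommutative_closure h1
      have htop : closure ({y, y2} : Set H) = ⊤ := by
        rw [← h12, zpowers_eq_closure, zpowers_eq_closure, ← Subgroup.closure_union,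
          Set.singleton_union]
      exact congrArg Subtype.val (mul_comm' (⟨u, htop ▸ mem_top u⟩ : closure ({y, y2} : Set H))
        ⟨v, htop ▸ mem_top v⟩)
    exact (hle u v).eq⟩⟩
  set s := orderOf y with hs
  have hs2 : orderOf y2 = s := MulEquiv.orderOf_eq α y
  have hs3 : orderOf w = s := (MulEquiv.orderOf_eq α y2).trans hs2
  set e := Nat.card D with he
  have hcH : ∀ a b : H, (zpowers a).Normal → zpowers a ⊔ zpowers b = ⊤ →
      Nat.card H * Nat.card (zpowers a ⊓ zpowers b : Subgroup H) = orderOf a * orderOf b := by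
    intro a b han hab
    haveI := han
    have h1 := Subgroup.card_mul_index (zpowers a)
    have h2 : (zpowers a).relIndex (zpowers b) * Nat.card (zpowers a ⊓ zpowers b : Subgroup H) =
        orderOf b := by
      rw [← Nat.card_zpowers b, ← (((zpowers a).subgroupOf (zpowers b))).card_mul_index, mul_comm]
      congr 1
      exact Nat.card_congr
        (((Subgroup.subgroupOfEquivOfLe (inf_le_right : zpowers a ⊓ zpowers b ≤ zpowers b)).symm.trans
          (MulEquiv.subgroupCongr (Subgroup.inf_subgroupOf_right _ _))).toEquiv)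
    have h3 : (zpowers a).index = (zpowers a).relIndex (zpowers b) := by
      rw [← Subgroup.relIndex_top_right, ← hab, sup_comm, Subgroup.relIndex_sup_right]
    rw [← h1, h3, Nat.card_zpowers, ← h2]
    ring
  have hH1 := hcH y y2 inferInstance h12
  have hH3 := hcH y w inferInstance h31
  rw [← he, hs2] at hH1
  rw [hs3] at hH3
  have he3 : Nat.card (zpowers y ⊓ zpowers w : Subgroup H) = e :=
    Nat.eq_of_mul_eq_mul_left Nat.card_pos (hH3.trans hH1.symm)
  have hed : e ∣ s := by
    rw [hs, ← Nat.card_zpowers, he]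
    exact card_dvd_of_le inf_le_left
  obtain ⟨d, hd⟩ := hed
  have hd0 : 0 < d := by
    rcases Nat.eq_zero_or_pos d with rfl | h
    · rw [mul_zero] at hd; exact absurd hd (orderOf_pos y).ne'
    · exact h
  have he0 : 0 < e := Nat.card_pos
  -- `x ^ d` generates the subgroup of order `e`
  have hgen : ∀ (x : H), orderOf x = s → ∀ K : Subgroup H, K ≤ zpowers x → Nat.card K = e →
      K = zpowers (x ^ d) := by
    intro x hx K hK hKc
    have hsub : K ≤ zpowers (x ^ d) := by
      intro q hq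
      obtain ⟨n, rfl⟩ := natexp' (hK hq)
      have h1 : (x ^ n) ^ e = 1 := by
        rw [← hKc]
        exact congrArg Subtype.val (pow_card_eq_one' (x := (⟨_, hq⟩ : K)))
      rw [← pow_mul] at h1
      obtain ⟨r, hr⟩ : d ∣ n := by
        have h2 := orderOf_dvd_of_pow_eq_one h1
        rw [hx, hd, mul_comm n e] at h2
        exact Nat.dvd_of_mul_dvd_mul_left he0 h2
      rw [hr, pow_mul]
      exact pow_mem (mem_zpowers _) r
    refine Subgroup.eq_of_le_of_card_ge hsub ?_
    rw [Nat.card_zpowers, hKc, orderOf_pow' x hd0.ne', hx, hd, Nat.gcd_mul_left_left,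
      Nat.mul_div_cancel _ hd0]
  set δ := y ^ d with hδ
  have hDy : D = zpowers δ := hgen y rfl D inf_le_left he.symm
  have hDy2 : D = zpowers (y2 ^ d) := hgen y2 hs2 D inf_le_right he.symm
  have hDw : zpowers y ⊓ zpowers w = zpowers (w ^ d) := hgen w hs3 _ inf_le_right he3
  have hδ1 : δ ≠ 1 := by
    intro h
    have hbot : D = ⊥ := by rw [hDy, h, zpowers_one_eq_bot]
    have := hcD 1 1
    rw [hbot, mem_bot, pow_one, pow_one, commutatorElement_eq_one_iff_mul_comm] at this
    exact hnc this.symm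
  -- write `w` in the generators
  have hwmem : w ∈ zpowers y ⊔ zpowers y2 := h12 ▸ mem_top w
  rw [← SetLike.mem_coe, Subgroup.normal_mul] at hwmem
  obtain ⟨q₁, hq₁, q₂, hq₂, hwq'⟩ := Set.mem_mul.1 hwmem
  obtain ⟨a, rfl⟩ := natexp' hq₁
  obtain ⟨b, rfl⟩ := natexp' hq₂
  have hwq : w = y ^ a * y2 ^ b := hwq'.symm
  haveI hΦn : (frattini H).Normal := inferInstance
  have hsqΦ : ∀ x : H, ∀ n, x ^ (n + n) ∈ frattini H := fun x n => by
    rw [← two_mul, pow_mul']; exact CfsgLib.Core.pgroup_pow_mem_frattini hH _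
  have ha : Odd a := by
    rcases Nat.even_or_odd a with ⟨n, hn⟩ | h
    · exfalso
      have h1 : (y2 ^ b)⁻¹ * w ∈ frattini H := by
        rw [hwq, hn]
        have := hΦn.conj_mem _ (hsqΦ y n) (y2 ^ b)⁻¹
        rwa [inv_inv, mul_assoc] at this
      rcases Nat.even_or_odd b with ⟨k, hk⟩ | ⟨k, hk⟩
      · rw [hk] at h1
        exact hwΦ (by have := mul_mem (hsqΦ y2 k) h1; rwa [mul_inv_cancel_left] at this)
      · rw [hk, pow_succ, mul_inv_rev, mul_assoc] at h1
        refine d23 ?_
        have h2 : (y2 ^ (2 * k))⁻¹ ∈ frattini H := inv_mem (by rw [two_mul]; exact hsqΦ y2 k)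
        have h3 := hΦn.conj_mem _ h2 y2⁻¹
        rw [inv_inv] at h3
        have h4 := mul_mem (inv_mem h3) h1
        convert h4 using 1
        group
    · exact h
  have hb : Odd b := by
    rcases Nat.even_or_odd b with ⟨n, hn⟩ | h
    · exfalso
      obtain ⟨k, hk⟩ := ha
      refine d13 ?_
      rw [hwq, hn, hk, pow_succ', mul_assoc, inv_mul_cancel_left]
      exact mul_mem (by rw [two_mul]; exact hsqΦ y k) (hsqΦ y2 n)
    · exact h
  have hcc : ∀ v, Commute ⁅y2 ^ b, y ^ a⁆ v := hDcen _ (hcD a b)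
  have hwd : w ^ d = δ ^ a * (y2 ^ d) ^ b * ⁅y2 ^ b, y ^ a⁆ ^ d.choose 2 := by
    rw [hwq, CfsgLib.Core.mul_pow_of_central (hcc _) (hcc _), hδ, ← pow_mul, ← pow_mul, mul_comm a,
      mul_comm b, pow_mul, pow_mul]
  obtain ⟨r, hr⟩ := natexp' (hDy ▸ (hDy2.ge (mem_zpowers (y2 ^ d))))
  have hrodd : Odd r := by
    rcases Nat.even_or_odd r with h | h
    · refine absurd (even_gen hH h ?_) hδ1
      rw [← hr]
      exact hDy2.le (hDy.ge (mem_zpowers δ))
    · exact h
  obtain ⟨c', hc'⟩ := natexp' (hDy ▸ hcD a b)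
  have hwd' : w ^ d = δ ^ (a + r * b + c' * d.choose 2) := by
    rw [hwd, hr, hc', ← pow_mul δ, ← pow_mul δ, ← pow_add, ← pow_add]
  -- `w ^ d` generates `D`
  have hgenw : δ ∈ zpowers (w ^ d) := by
    have h1 : zpowers (w ^ d) ≤ zpowers δ := zpowers_le.2 (by rw [hwd']; exact pow_mem (mem_zpowers δ) _)
    have h2 : zpowers (w ^ d) = zpowers δ := Subgroup.eq_of_le_of_card_ge h1 (by
      rw [← hDy, ← he, ← hDw, he3])
    exact h2 ▸ mem_zpowers δ
  have hodd' : Odd (a + r * b + c' * d.choose 2) := by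
    rcases Nat.even_or_odd (a + r * b + c' * d.choose 2) with h | h
    · rw [hwd'] at hgenw
      exact absurd (even_gen hH h hgenw) hδ1
    · exact h
  have hcodd : Odd (c' * d.choose 2) := by
    have h1 : Even (a + r * b) := ha.add_odd (hrodd.mul hb)
    exact (Nat.even_add.not.1 (Nat.not_even_iff_odd.2 hodd') |> fun h =>
      Nat.not_even_iff_odd.1 fun h2 => h ⟨fun _ => h2, fun _ => h1⟩)
  obtain ⟨hc'odd, hdc⟩ := Nat.odd_mul.1 hcodd
  -- so `d = 2`
  obtain ⟨j, hj⟩ := IsPGroup.iff_orderOf.1 hH y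
  have hdd : d ∣ 2 ^ j := ⟨e, by rw [← hj, ← hs, hd, mul_comm]⟩
  obtain ⟨i, hi, rfl⟩ := (Nat.dvd_prime_pow Nat.prime_two).1 hdd
  have hi1 : i = 1 := by
    rcases i with _ | _ | i
    · rw [pow_zero] at hdc; simp at hdc
    · rfl
    · exfalso
      refine absurd hdc (Nat.not_odd_iff_even.2 ?_)
      rw [Nat.choose_two_right, show 2 ^ (i + 1 + 1) * (2 ^ (i + 1 + 1) - 1) / 2 =
        2 ^ (i + 1) * (2 ^ (i + 1 + 1) - 1) by
          rw [pow_succ (2 : ℕ) (i + 1), mul_right_comm, Nat.mul_div_cancel _ two_pos]]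
      exact ((Nat.even_pow.2 ⟨even_two, by omega⟩)).mul_right _
  subst hi1
  -- and `e = 2`
  have hcd : δ ^ (c' * 2) = 1 := by
    rw [pow_mul, ← hc']
    have hcen := hDcen _ (hDy.ge (mem_zpowers δ))
    have h1 : ⁅y2 ^ b, (y ^ a) ^ 2⁆ = 1 := by
      rw [commutatorElement_eq_one_iff_commute, ← pow_mul, mul_comm, pow_mul]
      exact ((hcen _).pow_left a).symm
    rw [← h1, pow_two, pow_two]
    set q := y ^ a
    set x := y2 ^ b
    have hc1 : Commute ⁅x, q⁆ q := hDcen _ (hcD a b) q
    calc ⁅x, q⁆ * ⁅x, q⁆ = ⁅x, q⁆ * (q * ⁅x, q⁆ * q⁻¹) := by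
          rw [← hc1.eq, mul_inv_cancel_right]
      _ = ⁅x, q * q⁆ := by simp only [commutatorElement_def]; group
  have hoδ : orderOf δ = e := by rw [← Nat.card_zpowers, ← hDy, he]
  have he2 : e = 2 := by
    have h1 := orderOf_dvd_of_pow_eq_one hcd
    rw [hoδ] at h1
    obtain ⟨k, hk⟩ : ∃ k, e = 2 ^ k := by
      obtain ⟨k, hk⟩ := IsPGroup.iff_orderOf.1 hH δ; exact ⟨k, hoδ ▸ hk⟩
    have hk0 : k ≠ 0 := fun h => by
      subst h
      rw [pow_zero] at hk
      exact hδ1 (orderOf_eq_one_iff.1 (hoδ.trans hk))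
    have hk1 : k ≤ 1 := by
      by_contra hk1
      have h4 : 2 ^ 2 ∣ c' * 2 := (pow_dvd_pow 2 (by omega : 2 ≤ k)).trans (hk ▸ h1)
      obtain ⟨q, hq⟩ := h4
      obtain ⟨q', hq'⟩ := hc'odd
      omega
    rw [hk, show k = 1 by omega, pow_one]
  have hs4 : s = 4 := by rw [hd, he2]; norm_num
  have hcard : Nat.card H = 8 := by
    have := hH1
    rw [he2, hs4] at this
    omega
  refine CfsgLib.TwoFusion.EssentialCube.quaternion_of_gens hcard (hs ▸ hs4) (hs2.trans hs4)
    (fun h => hnc ?_) hna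
  obtain ⟨i, hi⟩ := mem_zpowers_iff.1 h
  rw [← hi]
  exact (Commute.refl y).zpow_right i

/-- Over a `Q = H` of index two in a metacyclic group acting as a transvection modulo the
Frattini subgroup, an abelian `H` with an automorphism of odd order is a four group. -/
theorem klein_of_transvection {T : Type*} [Group T] [Finite T] (hT : IsPGroup 2 T)
    (hm : Cfsg.IsMetacyclic T) (Q : Subgroup T) [Q.Normal] (hQi : Q.index = 2)
    (hab : ∀ u ∈ Q, ∀ v ∈ Q, Commute u v) {α : MulAut Q} (hα1 : α ≠ 1) (hodd : Odd (orderOf α))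
    {g : T} (hg : g ∉ Q)
    (hmove : ∃ q : Q, q⁻¹ * ⟨g * q * g⁻¹, (inferInstance : Q.Normal).conj_mem _ q.2 g⟩ ∉ frattini Q) :
    Nat.card Q = 4 ∧ ∀ q ∈ Q, q ^ 2 = 1 := by
  haveI : Fact (Nat.Prime 2) := ⟨Nat.prime_two⟩
  have hQp : IsPGroup 2 Q := hT.to_subgroup Q
  have hmQ := CfsgLib.Core.Metacyclic.isMetacyclic_subgroup hm Q
  obtain ⟨hidx, hcos⟩ := cosets hQp (CfsgLib.MetacyclicNilp.two_generated hm Q.subtype
    Q.subtype_injective) hα1 hodd
  obtain ⟨N, hN, hNc, hNq⟩ := hm
  haveI := hN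
  haveI := hNc
  haveI := hNq
  obtain ⟨q₀, hq₀⟩ := hmove
  set Φ := frattini Q with hΦ
  haveI hΦn : Φ.Normal := by rw [hΦ]; infer_instance
  -- generators
  haveI : IsCyclic ↥(N.subgroupOf Q : Subgroup Q) :=
    isCyclic_of_injective ((Q.subtype.comp (N.subgroupOf Q).subtype).codRestrict N
      fun x => x.2) fun x y e => Subtype.ext (Subtype.ext (congrArg Subtype.val e :))
  obtain ⟨y₀, hy₀⟩ := IsCyclic.exists_generator (α := ↥(N.subgroupOf Q : Subgroup Q))
  set y : Q := (y₀ : Q) with hy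
  have hyN : (y : T) ∈ N := y₀.2
  have hNQ : ∀ v : Q, (v : T) ∈ N → v ∈ zpowers y := fun v hv => by
    obtain ⟨i, hi⟩ := mem_zpowers_iff.1 (hy₀ ⟨v, hv⟩)
    exact mem_zpowers_iff.2 ⟨i, by simpa [hy] using congrArg Subtype.val hi⟩
  have hcc : ∀ u v : T, u * v * u⁻¹ * v⁻¹ ∈ N := fun u v => by
    rw [← QuotientGroup.eq_one_iff]
    letI : CommGroup (T ⧸ N) := IsCyclic.commGroup
    rw [QuotientGroup.mk_mul, QuotientGroup.mk_mul, QuotientGroup.mk_mul, QuotientGroup.mk_inv,
      QuotientGroup.mk_inv]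
    rw [mul_comm (u : T ⧸ N), mul_inv_cancel_right, mul_inv_cancel]
  set cj : Q → Q := fun v => ⟨g * v * g⁻¹, (inferInstance : Q.Normal).conj_mem _ v.2 g⟩ with hcj
  have hcjm : ∀ u v, cj (u * v) = cj u * cj v := fun u v => Subtype.ext (by
    simp [hcj, mul_assoc])
  have hdN : ∀ v : Q, v⁻¹ * cj v ∈ zpowers y := fun v => hNQ _ (by
    show (v : T)⁻¹ * (g * v * g⁻¹) ∈ N
    have h1 := hN.conj_mem _ (hcc g v) (v : T)⁻¹
    rw [inv_inv] at h1
    have e : (v : T)⁻¹ * (g * v * g⁻¹ * (v : T)⁻¹) * v = (v : T)⁻¹ * (g * v * g⁻¹) := by group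
    rwa [e] at h1)
  have hyΦ : y ∉ Φ := fun h => hq₀ ((zpowers_le.2 h) (hdN q₀))
  have hcycy : ∀ v ∈ zpowers y, v⁻¹ * cj v ∈ Φ := by
    have h1 : cj y ∈ zpowers y := by
      refine hNQ _ ?_
      exact hN.conj_mem _ hyN g
    obtain ⟨k, hk⟩ := natexp' h1
    have hkodd : Odd k := by
      rcases Nat.even_or_odd k with ⟨m, hm⟩ | h
      · exfalso
        refine hyΦ ?_
        have h2 : cj y ∈ Φ := by
          rw [hk, hm, ← two_mul, pow_mul]
          exact pow_mem (CfsgLib.Core.pgroup_pow_mem_frattini hQp y) m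
        let c : Q →* Q := { toFun := cj, map_one' := Subtype.ext (by simp [hcj]), map_mul' := hcjm }
        have hsurj : Function.Surjective c := Finite.injective_iff_surjective.1 fun u v h => by
          have := congrArg Subtype.val h
          simpa [c, hcj] using this
        obtain ⟨u, hu⟩ := hsurj y
        let ci : Q →* Q :=
          { toFun := fun v => ⟨g⁻¹ * v * g, by
              simpa using (inferInstance : Q.Normal).conj_mem _ v.2 g⁻¹⟩
            map_one' := Subtype.ext (by simp)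
            map_mul' := fun u v => Subtype.ext (by simp [mul_assoc]) }
        have hci : Function.Surjective ci := fun v => ⟨cj v, Subtype.ext (by
          show g⁻¹ * (g * v * g⁻¹) * g = v
          group)⟩
        have h3 := frattini_le_comap_frattini_of_surjective (φ := ci) hci h2
        have e : ci (cj y) = y := Subtype.ext (by
          show g⁻¹ * (g * y * g⁻¹) * g = y
          group)
        rwa [mem_comap, e] at h3
      · exact h
    intro v hv
    obtain ⟨i, rfl⟩ := natexp' hv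
    let c : Q →* Q := { toFun := cj, map_one' := Subtype.ext (by simp [hcj]), map_mul' := hcjm }
    have : cj (y ^ i) = cj y ^ i := map_pow c y i
    rw [this, hk, ← pow_mul]
    obtain ⟨m, rfl⟩ := hkodd
    rw [show (2 * m + 1) * i = i + 2 * (m * i) by ring, pow_add, inv_mul_cancel_left, pow_mul]
    exact pow_mem (CfsgLib.Core.pgroup_pow_mem_frattini hQp y) _
  by_cases hNleQ : N ≤ Q
  · -- then `g` acts trivially modulo the Frattini subgroup
    exfalso
    refine hq₀ ?_
    have hq : (((q₀ : T)) : T ⧸ N) ∈ zpowers ((g : T ⧸ N) ^ 2) := by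
      obtain ⟨c, hc⟩ := IsCyclic.exists_generator (α := T ⧸ N)
      obtain ⟨c, rfl⟩ := QuotientGroup.mk'_surjective N c
      have hpow : ∀ x : T, ∃ i : ℤ, (x : T ⧸ N) = (c : T ⧸ N) ^ i ∧ (Even i ↔ x ∈ Q) := by
        intro x
        obtain ⟨i, hi⟩ := mem_zpowers_iff.1 (hc (x : T ⧸ N))
        refine ⟨i, hi.symm, ?_⟩
        have hcQ : c ∉ Q := by
          intro hcQ
          apply hg
          obtain ⟨j, hj⟩ := mem_zpowers_iff.1 (hc (g : T ⧸ N))
          rw [QuotientGroup.mk'_apply, ← QuotientGroup.mk_zpow, QuotientGroup.eq] at hj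
          have := mul_mem (zpow_mem hcQ j) (hNleQ hj)
          rwa [mul_inv_cancel_left] at this
        have hxc : x ∈ Q ↔ c ^ i ∈ Q := by
          rw [QuotientGroup.mk'_apply, ← QuotientGroup.mk_zpow, QuotientGroup.eq] at hi
          constructor
          · intro hx
            have := mul_mem hx (inv_mem (hNleQ hi))
            rwa [mul_inv_rev, inv_inv, mul_inv_cancel_left] at this
          · intro hx
            have := mul_mem hx (hNleQ hi)
            rwa [mul_inv_cancel_left] at this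
        rw [hxc]
        have hc2 : c * c ∈ Q := Subgroup.mul_self_mem_of_index_two hQi c
        constructor
        · rintro ⟨m, rfl⟩
          rw [← two_mul, zpow_mul, zpow_two]
          exact zpow_mem hc2 m
        · intro hx
          rcases Int.even_or_odd i with h | ⟨m, hm⟩
          · exact h
          · exfalso
            rw [hm, zpow_add_one, zpow_mul, zpow_two] at hx
            have := mul_mem (inv_mem (zpow_mem hc2 m)) hx
            rw [inv_mul_cancel_left] at this
            exact hcQ this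
      obtain ⟨i, hi, hiQ⟩ := hpow (q₀ : T)
      obtain ⟨j, hj, hjQ⟩ := hpow g
      obtain ⟨m, rfl⟩ := hiQ.2 q₀.2
      obtain ⟨n, rfl⟩ := Int.not_even_iff_odd.1 fun h => hg (hjQ.1 h)
      obtain ⟨l, hl⟩ := IsPGroup.iff_orderOf.1 (hT.to_quotient N) (c : T ⧸ N)
      have hcop : IsCoprime (2 * n + 1 : ℤ) ((2 : ℤ) ^ l) :=
        IsCoprime.pow_right ⟨1, -n, by ring⟩
      obtain ⟨u, v, huv⟩ := hcop
      refine mem_zpowers_iff.2 ⟨u * m, ?_⟩
      rw [hj, hi, ← zpow_natCast, ← zpow_mul, ← zpow_mul]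
      have hper : ((c : T ⧸ N)) ^ ((2 : ℤ) ^ l) = 1 := by
        rw [show ((2 : ℤ) ^ l) = ((2 ^ l : ℕ) : ℤ) by push_cast; rfl, zpow_natCast, ← hl,
          pow_orderOf_eq_one]
      have e : (2 * n + 1) * ((2 : ℕ) : ℤ) * (u * m) = (m + m) + (2 : ℤ) ^ l * (-2 * v * m) := by
        push_cast
        linear_combination (2 * m) * huv
      rw [← mul_assoc, e, zpow_add, zpow_mul _ ((2 : ℤ) ^ l), hper, one_zpow, mul_one]
    obtain ⟨i, hi⟩ := mem_zpowers_iff.1 hq
    rw [← QuotientGroup.mk_pow, ← QuotientGroup.mk_zpow, QuotientGroup.eq] at hi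
    set d := ((g ^ 2) ^ i)⁻¹ * (q₀ : T) with hd
    have hdQ : d ∈ Q := hNleQ hi
    have hdy : (⟨d, hdQ⟩ : Q) ∈ zpowers y := hNQ _ hi
    have hgi : (g ^ 2) ^ i ∈ Q := by
      rw [pow_two]; exact zpow_mem (Subgroup.mul_self_mem_of_index_two hQi g) i
    have hdec : q₀ = ⟨(g ^ 2) ^ i, hgi⟩ * ⟨d, hdQ⟩ := Subtype.ext (mul_inv_cancel_left _ _).symm
    have hfix : cj ⟨(g ^ 2) ^ i, hgi⟩ = ⟨(g ^ 2) ^ i, hgi⟩ := Subtype.ext (by
      show g * (g ^ 2) ^ i * g⁻¹ = (g ^ 2) ^ i
      rw [((Commute.self_pow g 2).zpow_right i).eq, mul_inv_cancel_right])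
    show q₀⁻¹ * cj q₀ ∈ Φ
    rw [hdec, hcjm, hfix, mul_inv_rev, mul_assoc, inv_mul_cancel_left]
    exact hcycy _ hdy
  · -- an element of `N` outside `Q` does the work of `g`
    obtain ⟨r, hrN, hrQ⟩ := SetLike.not_le_iff_exists.1 hNleQ
    have hgr : g * r⁻¹ ∈ Q := by
      rw [Subgroup.mul_mem_iff_of_index_two hQi, inv_mem_iff]
      exact iff_of_false hg hrQ
    have hsame : ∀ v : Q, r * v * r⁻¹ = g * v * g⁻¹ := fun v => by
      have hrv := (inferInstance : Q.Normal).conj_mem _ v.2 r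
      have h := hab _ hgr _ hrv
      calc r * v * r⁻¹ = g * r⁻¹ * (r * v * r⁻¹) * (g * r⁻¹)⁻¹ := by rw [h.eq]; group
        _ = g * v * g⁻¹ := by group
    have hry : cj y = y := Subtype.ext (by
      show g * (y : T) * g⁻¹ = y
      rw [← hsame]
      letI : CommGroup N := IsCyclic.commGroup
      have := congrArg Subtype.val (mul_comm (⟨r, hrN⟩ : N) ⟨(y : T), hyN⟩)
      simp only [Subgroup.coe_mul] at this
      rw [this, mul_inv_cancel_right])
    obtain ⟨j, hj⟩ := natexp' (hdN q₀)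
    have hjodd : Odd j := by
      rcases Nat.even_or_odd j with ⟨m, rfl⟩ | h
      · exfalso
        refine hq₀ ?_
        show q₀⁻¹ * cj q₀ ∈ Φ
        rw [hj, ← two_mul, pow_mul]
        exact pow_mem (CfsgLib.Core.pgroup_pow_mem_frattini hQp y) m
      · exact h
    have hq1 : cj q₀ = q₀ * y ^ j := by rw [← hj, mul_inv_cancel_left]
    have hr2 : r * r ∈ Q := Subgroup.mul_self_mem_of_index_two hQi r
    have hq2 : cj (cj q₀) = q₀ := Subtype.ext (by
      show g * ((cj q₀ : Q) : T) * g⁻¹ = q₀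
      rw [← hsame]
      show r * (g * (q₀ : T) * g⁻¹) * r⁻¹ = q₀
      rw [← hsame, show r * (r * (q₀ : T) * r⁻¹) * r⁻¹ = r * r * q₀ * (r * r)⁻¹ by group,
        (hab _ hr2 _ q₀.2).eq, mul_inv_cancel_right])
    rw [hq1, hcjm, hq1] at hq2
    let c : Q →* Q := { toFun := cj, map_one' := Subtype.ext (by simp [hcj]), map_mul' := hcjm }
    rw [show cj (y ^ j) = y ^ j by rw [show cj (y ^ j) = cj y ^ j from map_pow c y j, hry],
      mul_assoc, mul_eq_left, ← pow_add] at hq2
    -- so `y` has order two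
    have hy2 : y ^ 2 = 1 := by
      have hd := orderOf_dvd_of_pow_eq_one hq2
      obtain ⟨l, hl⟩ := IsPGroup.iff_orderOf.1 hQp y
      rw [hl] at hd
      have hle : l ≤ 1 := by
        by_contra h
        have h4 : 2 ^ 2 ∣ j + j := (pow_dvd_pow 2 (by omega : 2 ≤ l)).trans hd
        obtain ⟨u, hu⟩ := h4
        obtain ⟨v, hv⟩ := hjodd
        omega
      rw [← orderOf_dvd_iff_pow_eq_one, hl]
      exact pow_dvd_pow 2 hle |>.trans (by norm_num)
    -- every element outside the Frattini subgroup has order two modulo it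
    obtain ⟨d12, d23, d13, hall⟩ := hcos y hyΦ
    have hsq : ∀ v : Q, v ∉ Φ → ∃ v' : Q, v'⁻¹ * v ∈ Φ ∧ v' ^ 2 = 1 := by
      intro v hv
      rcases hall v with h | h | h | h
      · exact absurd h hv
      · exact ⟨y, h, hy2⟩
      · exact ⟨α y, h, by rw [← map_pow, hy2, map_one]⟩
      · exact ⟨α (α y), h, by rw [← map_pow, ← map_pow, hy2, map_one, map_one]⟩
    -- two of them generate
    letI : CommGroup Q := { (inferInstance : Group Q) with
      mul_comm := fun u v => Subtype.ext (hab u u.2 v v.2).eq }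
    let K : Subgroup Q :=
      { carrier := {v | v ^ 2 = 1}
        one_mem' := one_pow 2
        mul_mem' := fun {u v} hu hv => by
          show (u * v) ^ 2 = 1
          rw [mul_pow, hu, hv, one_mul]
        inv_mem' := fun {u} hu => by
          show u⁻¹ ^ 2 = 1
          rw [inv_pow, hu, inv_one] }
    have hK : K = ⊤ := by
      refine CfsgLib.Core.eq_top_of_sup_frattini (eq_top_iff.2 fun v _ => ?_)
      by_cases hv : v ∈ Φ
      · exact mem_sup_right hv
      · obtain ⟨v', h1, h2⟩ := hsq v hv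
        have := mul_mem_sup (show v' ∈ K from h2) h1
        rwa [mul_inv_cancel_left] at this
    have hall2 : ∀ v : Q, v ^ 2 = 1 := fun v => (hK ▸ mem_top v : v ∈ K)
    refine ⟨?_, fun q hq => congrArg Subtype.val (hall2 ⟨q, hq⟩)⟩
    have hΦbot : frattini Q = ⊥ := le_bot_iff.1 (CfsgLib.Core.frattini_le_of_elementary (p := 2)
      (by
        rw [_root_.commutator_def, Subgroup.commutator_le]
        intro u _ v _
        rw [commutatorElement_eq_one_iff_mul_comm.2 (mul_comm u v)]
        exact one_mem _)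
      fun x => by rw [hall2 x]; exact one_mem _)
    rw [← hΦ] at hΦbot
    have := hidx
    rw [hΦbot, Subgroup.index_bot] at this
    exact this

/-- Groups of maximal class are dihedral, quaternion or quasi-dihedral. -/
theorem maximal_class_shape {X : Type*} [Group X] [Finite X] [Group.IsNilpotent X] {n : ℕ}
    (hn : 3 ≤ n) (hX : Nat.card X = 2 ^ n) (hcl : Group.nilpotencyClass X = n - 1) :
    (∃ m : ℕ, Nonempty (X ≃* DihedralGroup m)) ∨ (∃ m : ℕ, Nonempty (X ≃* QuaternionGroup m)) ∨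
      Cfsg.IsQuasiDihedral X := by
  haveI : Fact (Nat.Prime 2) := ⟨Nat.prime_two⟩
  have hP : IsPGroup 2 X := IsPGroup.of_card hX
  obtain ⟨hidx, -⟩ := CfsgLib.Transfer.card_commutator_of_maximal_class (p := 2) n hn hX hcl
  obtain ⟨-, ⟨C, hCc, hCi⟩, hD⟩ :=
    CfsgLib.Transfer.two_maximal_class n (by omega) hX hidx
  obtain ⟨φ⟩ := hD hn
  obtain ⟨k, rfl⟩ : ∃ k, n = k + 3 := ⟨n - 3, by omega⟩
  have hZ : Nat.card (center X) = 2 := by
    haveI : NeZero (2 ^ (k + 3 - 2)) := ⟨(pow_pos two_pos _).ne'⟩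
    have h1 := (center X).card_mul_index
    rw [Subgroup.index_eq_card, Nat.card_congr φ.toEquiv, DihedralGroup.nat_card, hX,
      show 2 * 2 ^ (k + 3 - 2) = 2 ^ (k + 2) by rw [← pow_succ']; rfl, pow_succ' 2 (k + 2)] at h1
    exact Nat.eq_of_mul_eq_mul_right (pow_pos two_pos _) h1
  haveI := hCc
  obtain ⟨x₀, hx₀⟩ := IsCyclic.exists_generator (α := C)
  set x : X := (x₀ : X) with hx
  have hCx : C = zpowers x := by
    refine le_antisymm (fun v hv => ?_) (zpowers_le.2 x₀.2)
    obtain ⟨i, hi⟩ := mem_zpowers_iff.1 (hx₀ ⟨v, hv⟩)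
    exact mem_zpowers_iff.2 ⟨i, by simpa [hx] using congrArg Subtype.val hi⟩
  have hox : orderOf x = 2 ^ (k + 2) := by
    have h1 := C.card_mul_index
    rw [hCi, hX, hCx, Nat.card_zpowers, pow_succ 2 (k + 2)] at h1
    exact Nat.eq_of_mul_eq_mul_right two_pos h1
  haveI hCn : C.Normal := Subgroup.normal_of_index_eq_two hCi
  obtain ⟨y, hy⟩ : ∃ y, y ∉ C := by
    by_contra h
    push Not at h
    rw [(Subgroup.eq_top_iff' C).2 h, index_top] at hCi
    exact absurd hCi (by norm_num)
  obtain ⟨q, hq⟩ := natexp' (hCx ▸ hCn.conj_mem x (hCx ▸ mem_zpowers x) y)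
  have hy2 : y * y ∈ zpowers x := hCx ▸ Subgroup.mul_self_mem_of_index_two hCi y
  obtain ⟨j, hj⟩ := natexp' hy2
  have hyx : ∀ i : ℕ, y * x ^ i * y⁻¹ = x ^ (q * i) := fun i => by
    rw [← conj_pow, hq, ← pow_mul]
  have hqq : (x ^ q) ^ q = x := by
    rw [← hq, conj_pow, ← hq]
    rw [show y * (y * x * y⁻¹) * y⁻¹ = y * y * x * (y * y)⁻¹ by group, hj,
      (Commute.pow_self x j).eq, mul_inv_cancel_right]
  have hcentre : ∀ i : ℕ, x ^ (q * i) = x ^ i → x ^ i ∈ center X := by
    intro i hi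
    rw [mem_center_iff]
    intro v
    by_cases hv : v ∈ C
    · obtain ⟨r, rfl⟩ := natexp' (hCx ▸ hv)
      exact (Commute.pow_pow_self x r i).eq
    · have hvy : v * y⁻¹ ∈ C := by
        rw [Subgroup.mul_mem_iff_of_index_two hCi, inv_mem_iff]
        exact iff_of_false hv hy
      obtain ⟨r, hr⟩ := natexp' (hCx ▸ hvy)
      rw [mul_inv_eq_iff_eq_mul.1 hr]
      have h2 : Commute y (x ^ i) := mul_inv_eq_iff_eq_mul.1 ((hyx i).trans hi)
      exact ((Commute.pow_pow_self x r i).mul_left h2).eq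
  set M : ℤ := 2 ^ (k + 1) with hMdef
  have hper : ∀ a b : ℤ, x ^ a = x ^ b ↔ (2 * M) ∣ b - a := fun a b => by
    rw [show (2 : ℤ) * M = ((orderOf x : ℕ) : ℤ) by
      rw [hox, hMdef]; push_cast; ring]
    rw [orderOf_dvd_sub_iff_zpow_eq_zpow, eq_comm]
  have hqq' : (2 * M) ∣ 1 - (q : ℤ) * q := by
    rw [← hper, zpow_one, ← Int.natCast_mul, zpow_natCast, pow_mul]; exact hqq
  have hM2 : (2 : ℤ) ∣ M := dvd_pow_self 2 (by omega)
  have hqodd : Odd q := by
    rcases Nat.even_or_odd q with ⟨m, hm⟩ | h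
    · exfalso
      obtain ⟨c, hc⟩ := hqq'
      obtain ⟨d, hd⟩ := hM2
      rw [hm, hd] at hc
      push_cast at hc
      have : (1 : ℤ) % 2 = 0 := Int.emod_eq_zero_of_dvd ⟨2 * d * c + 2 * (m : ℤ) * m, by linarith⟩
      norm_num at this
    · exact h
  obtain ⟨q', hq'⟩ := hqodd
  -- conjugation is inversion up to the central involution
  have hinv : M ∣ (q : ℤ) + 1 := by
    rcases Nat.even_or_odd q' with ⟨m, hm⟩ | ⟨m, hm⟩
    · -- then `x ^ 2` would be central
      exfalso
      have h1 : (q : ℤ) + 1 = 2 * (2 * (m : ℤ) + 1) := by rw [hq', hm]; push_cast; ring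
      have hcop : IsCoprime M (2 * (m : ℤ) + 1) := by
        rw [hMdef]; exact IsCoprime.pow_left ⟨-(m : ℤ), 1, by ring⟩
      have h2 : M ∣ (q : ℤ) - 1 := by
        obtain ⟨c, hc⟩ := hqq'
        refine hcop.dvd_of_dvd_mul_right (z := 2 * (m : ℤ) + 1) ⟨-c, ?_⟩
        have : ((q : ℤ) - 1) * ((q : ℤ) + 1) = -(2 * M * c) := by linarith
        rw [h1] at this
        linarith
      have hx2 : x ^ 2 ∈ center X := hcentre 2 (by
        rw [← zpow_natCast x (q * 2), ← zpow_natCast x 2, hper]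
        push_cast
        obtain ⟨c, hc⟩ := h2
        exact ⟨-c, by linarith⟩)
      have h3 := Subgroup.card_le_of_le (zpowers_le.2 hx2)
      rw [Nat.card_zpowers, hZ, orderOf_pow' x two_ne_zero, hox,
        Nat.gcd_eq_right (dvd_pow_self 2 (by omega)),
        pow_succ, Nat.mul_div_cancel _ two_pos] at h3
      have hk : k = 0 := by
        by_contra hk
        have := Nat.pow_le_pow_right (show 1 ≤ 2 by norm_num) (show 2 ≤ k + 1 by omega)
        omega
      subst hk
      -- order eight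
      obtain ⟨c, hc⟩ := h2
      have hM : M = 2 := by rw [hMdef]; norm_num
      have h4 : (2 * M) ∣ 1 - (q : ℤ) := by
        refine ⟨-(m : ℤ), ?_⟩
        rw [hM, hq', hm]; push_cast; ring
      have hxc : x ∈ center X := by
        have := hcentre 1 (by
          rw [← zpow_natCast x (q * 1), ← zpow_natCast x 1, hper]
          push_cast
          simpa using h4)
        rwa [pow_one] at this
      have h5 := Subgroup.card_le_of_le (zpowers_le.2 hxc)
      rw [Nat.card_zpowers, hZ, hox] at h5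
      norm_num at h5
    · have h1 : (q : ℤ) - 1 = 2 * (2 * (m : ℤ) + 1) := by rw [hq', hm]; push_cast; ring
      have hcop : IsCoprime M (2 * (m : ℤ) + 1) := by
        rw [hMdef]; exact IsCoprime.pow_left ⟨-(m : ℤ), 1, by ring⟩
      obtain ⟨c, hc⟩ := hqq'
      refine hcop.dvd_of_dvd_mul_right (z := 2 * (m : ℤ) + 1) ⟨-c, ?_⟩
      have : ((q : ℤ) + 1) * ((q : ℤ) - 1) = -(2 * M * c) := by linarith
      rw [h1] at this
      linarith
  -- `y * y` is `1` or the involution of `C`
  have hyj : M ∣ (j : ℤ) := by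
    have h1 : x ^ (q * j) = x ^ j := by
      rw [← hyx, ← hj, show y * (y * y) * y⁻¹ = y * y by group]
    rw [← zpow_natCast, ← zpow_natCast, hper] at h1
    push_cast at h1
    obtain ⟨c, hc⟩ := h1
    obtain ⟨d, hd⟩ := hinv
    obtain ⟨e, he⟩ := hM2
    have h2 : 2 * (j : ℤ) = M * (d * j + 2 * c) := by
      have hq : (q : ℤ) = M * d - 1 := by linarith
      rw [hq] at hc
      linarith
    have h3 : M ∣ 2 * (j : ℤ) := ⟨_, h2⟩
    -- one step more
    have hj2 : (2 : ℤ) ∣ j ∨ ¬ (2 : ℤ) ∣ j := em _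
    by_contra hcon
    have h4 : M / 2 ∣ (j : ℤ) := by
      rw [he, Int.mul_ediv_cancel_left _ two_ne_zero]
      rw [he] at h3
      exact Int.dvd_of_mul_dvd_mul_left two_ne_zero h3
    obtain ⟨a, ha⟩ := h4
    have he' : M / 2 = e := by rw [he, Int.mul_ediv_cancel_left _ two_ne_zero]
    rw [he'] at ha
    refine hcon ?_
    rcases Int.even_or_odd a with ⟨b, hb⟩ | ⟨b, hb⟩
    · exact ⟨b, by rw [he, ha, hb]; ring⟩
    · exfalso
      -- here `j` is an odd multiple of `M / 2`, which contradicts the relation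
      have h5 : 2 * (e * a) = 2 * e * (d * (e * a) + 2 * c) := by rw [← ha, ← he]; exact h2
      have e0 : e ≠ 0 := by
        rintro rfl
        rw [mul_zero] at he
        exact (pow_ne_zero (k + 1) two_ne_zero : (2 : ℤ) ^ (k + 1) ≠ 0) he
      have h6 : a = d * (e * a) + 2 * c := by
        have := mul_left_cancel₀ (show (2 : ℤ) * e ≠ 0 from mul_ne_zero two_ne_zero e0)
          (show 2 * e * a = 2 * e * (d * (e * a) + 2 * c) by linarith)
        exact this
      rcases Nat.eq_zero_or_pos k with hk | hk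
      · subst hk
        have hd1 : Even d ∨ Odd d := Int.even_or_odd d
        rcases hd1 with ⟨u, hu⟩ | ⟨u, hu⟩
        · rw [hb, hu] at h6
          have : (1 : ℤ) % 2 = 0 :=
            Int.emod_eq_zero_of_dvd ⟨u * (e * (2 * b + 1)) + c - b, by linarith⟩
          norm_num at this
        · -- `q + 1` is then an odd multiple of `2`, so `x` is central
          have hM : M = 2 := by rw [hMdef]; norm_num
          have h4 : (2 * M) ∣ 1 - (q : ℤ) := by
            obtain rfl : q = 2 * q' + 1 := hq'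
            push_cast at hd ⊢
            rw [hM] at hd ⊢
            exact ⟨-u, by linarith⟩
          have hxc : x ∈ center X := by
            have := hcentre 1 (by
              rw [← zpow_natCast x (q * 1), ← zpow_natCast x 1, hper]
              push_cast
              simpa using h4)
            rwa [pow_one] at this
          have h5' := Subgroup.card_le_of_le (zpowers_le.2 hxc)
          rw [Nat.card_zpowers, hZ, hox] at h5'
          norm_num at h5'
      · obtain ⟨f, hf⟩ : (2 : ℤ) ∣ e := by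
          have : M = 4 * 2 ^ (k - 1) := by
            rw [hMdef, show k + 1 = k - 1 + 2 by omega, pow_add]; ring
          exact ⟨2 ^ (k - 1), by linarith⟩
        rw [hb, hf] at h6
        have : (1 : ℤ) % 2 = 0 :=
          Int.emod_eq_zero_of_dvd ⟨d * (f * (2 * b + 1)) + c - b, by linarith⟩
        norm_num at this
  obtain ⟨d, hd⟩ := hinv
  obtain ⟨a, ha⟩ := hyj
  have hxM : ∀ c : ℤ, Even c → x ^ (M * c) = 1 := fun c ⟨b, hb⟩ => by
    rw [← zpow_zero x, hper]
    exact ⟨-b, by rw [hb]; ring⟩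
  have hxM' : ∀ c : ℤ, Odd c → x ^ (M * c) = x ^ M := fun c ⟨b, hb⟩ => by
    rw [hper]
    exact ⟨-b, by rw [hb]; ring⟩
  have hzne : x ^ M ≠ 1 := by
    intro h
    rw [← zpow_zero x, hper] at h
    obtain ⟨c, hc⟩ := h
    have : M ≠ 0 := pow_ne_zero _ two_ne_zero
    have h1 : (2 : ℤ) * c = -1 := mul_left_cancel₀ this (by linarith)
    omega
  have hqx : y * x * y⁻¹ = x ^ (M * d - 1) := by
    rw [hq, ← zpow_natCast, show (q : ℤ) = M * d - 1 by linarith]
  have hyy : y * y = x ^ (M * a) := by rw [hj, ← zpow_natCast, ha]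
  rcases Int.even_or_odd d with hde | hdo
  · have hinvx : y * x * y⁻¹ = x⁻¹ := by
      rw [hqx, zpow_sub, hxM d hde, one_mul, zpow_one]
    rcases Int.even_or_odd a with hae | hao
    · left
      refine ⟨2 ^ (k + 2), CfsgLib.Dickson.equiv_dihedral hox ?_ ?_ (hCx ▸ hy) hinvx⟩
      · rw [hX]; ring
      · rw [hyy, hxM a hae]
    · right; left
      have hyz : y * y = x ^ M := by rw [hyy, hxM' a hao]
      have huniq : ∀ Y : Subgroup X, Nat.card Y = 2 → Y = zpowers (x ^ M) := by
        intro Y hY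
        obtain ⟨⟨t, htY⟩, ht⟩ := exists_prime_orderOf_dvd_card' (G := Y) 2 (by rw [hY])
        rw [← Subgroup.orderOf_coe] at ht
        replace ht : orderOf t = 2 := ht
        have hYt : Y = zpowers t := (Subgroup.eq_of_le_of_card_ge (zpowers_le.2 htY)
          (by rw [Nat.card_zpowers, hY]; exact ht.ge)).symm
        rw [hYt]
        congr 1
        have htt : t * t = 1 := by rw [← pow_two]; exact ht ▸ pow_orderOf_eq_one t
        by_cases htC : t ∈ C
        · obtain ⟨i, hi⟩ := mem_zpowers_iff.1 (hCx ▸ htC)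
          rw [← hi] at htt ⊢
          rw [← zpow_add, ← zpow_zero x, hper] at htt
          obtain ⟨c, hc⟩ := htt
          have hi' : i = M * (-c) := by linarith
          rcases Int.even_or_odd (-c) with h | h
          · exfalso
            rw [← hi, hi', hxM _ h, orderOf_one] at ht
            exact absurd ht (by norm_num)
          · rw [hi', hxM' _ h]
        · exfalso
          have hvy : t * y⁻¹ ∈ C := by
            rw [Subgroup.mul_mem_iff_of_index_two hCi, inv_mem_iff]
            exact iff_of_false htC hy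
          obtain ⟨r, hr⟩ := natexp' (hCx ▸ hvy)
          rw [mul_inv_eq_iff_eq_mul] at hr
          apply hzne
          rw [← hyz, ← htt, hr]
          calc y * y = x ^ r * (x ^ r)⁻¹ * (y * y) := by group
            _ = x ^ r * (y * x ^ r * y⁻¹) * (y * y) := by rw [← conj_pow, hinvx, inv_pow]
            _ = x ^ r * y * (x ^ r * y) := by group
      have hres := Cfsg.Agent.S0016.result (G := X) 2 hP
        fun A B hA hB => (huniq A hA).trans (huniq B hB).symm
      rcases hres with hc | ⟨-, m, hm⟩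
      · exfalso
        haveI := hc
        letI : CommGroup X := IsCyclic.commGroup
        have htop : center X = ⊤ := (Subgroup.eq_top_iff' _).2 fun v =>
          mem_center_iff.2 fun w => mul_comm w v
        have := hZ
        rw [htop, card_top, hX] at this
        have h8 := Nat.pow_le_pow_right (show 1 ≤ 2 by norm_num) (show 3 ≤ k + 3 by omega)
        omega
      · exact ⟨2 ^ m, hm⟩
  · rcases Nat.eq_zero_or_pos k with hk | hk
    · exfalso
      subst hk
      have hM : M = 2 := by rw [hMdef]; norm_num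
      obtain ⟨u, hu⟩ := hdo
      have h4 : (2 * M) ∣ 1 - (q : ℤ) := ⟨-u, by rw [hM] at hd ⊢; rw [hu] at hd; linarith⟩
      have hxc : x ∈ center X := by
        have := hcentre 1 (by
          rw [← zpow_natCast x (q * 1), ← zpow_natCast x 1, hper]
          push_cast
          simpa using h4)
        rwa [pow_one] at this
      have h5 := Subgroup.card_le_of_le (zpowers_le.2 hxc)
      rw [Nat.card_zpowers, hZ, hox] at h5
      norm_num at h5
    · right; right
      have hqd : y * x * y⁻¹ = x ^ (2 ^ (k + 2 - 1) - 1) := by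
        rw [hqx, zpow_sub, hxM' d hdo, zpow_one, pow_sub x Nat.one_le_two_pow, pow_one]
        congr 1
        rw [hMdef, ← zpow_natCast, show k + 2 - 1 = k + 1 by omega]
        congr 1
      obtain ⟨y', hy'C, hy'2, hy'x⟩ : ∃ y', y' ∉ C ∧ y' * y' = 1 ∧
          y' * x * y'⁻¹ = x ^ (2 ^ (k + 2 - 1) - 1) := by
        rcases Int.even_or_odd a with hae | hao
        · exact ⟨y, hy, by rw [hyy, hxM a hae], hqd⟩
        · refine ⟨x * y, fun h => hy ?_, ?_, ?_⟩
          · have := C.mul_mem (C.inv_mem (hCx ▸ mem_zpowers x : x ∈ C)) h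
            rwa [inv_mul_cancel_left] at this
          · calc x * y * (x * y) = x * (y * x * y⁻¹) * (y * y) := by group
              _ = 1 := by
                rw [hqx, hyy, ← zpow_one_add, ← zpow_add,
                  show 1 + (M * d - 1) + M * a = M * (d + a) by ring]
                exact hxM _ (hdo.add_odd hao)
          · rw [mul_inv_rev, show x * y * x * (y⁻¹ * x⁻¹) = x * (y * x * y⁻¹) * x⁻¹ by group, hqd,
              (Commute.self_pow x _).eq, mul_inv_cancel_right]
      refine ⟨k + 2, by omega, hX, x, y', hox, ?_, hy'x⟩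
      exact orderOf_eq_prime (by rw [pow_two]; exact hy'2) fun h => hy'C (h ▸ C.one_mem)

end CfsgLib.MetacyclicTwo
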