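import Cfsg.Agent.Lib.FusionTransfer
import Cfsg.Agent.Lib.FusionHyperfocal

/-!
# Thompson transfer for fusion systems
-/

set_option autoImplicit false
set_option linter.style.haveILetI false

open Cfsg Cfsg.FusionSystem MulAction

namespace CfsgLib.ThompsonTransfer

open CfsgLib.Fusion

theorem zmod_two : Multiplicative.ofAdd (1 : ZMod 2) ≠ 1 ∧
    Multiplicative.ofAdd (1 : ZMod 2) * Multiplicative.ofAdd 1 = 1 ∧
    ∀ x : Multiplicative (ZMod 2), x = 1 ∨ x = Multiplicative.ofAdd 1 := by decide

universe u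

theorem transfer {Ω : Type u} [Group Ω] {S : Subgroup Ω} [Finite S] (hS : IsPGroup 2 S)
    (F : Cfsg.FusionSystem S) (hF : F.IsSaturated 2) (T : Subgroup Ω) (hT : T.relIndex S = 2)
    (i : Ω) (hi : i ∈ S) (hi2 : orderOf i = 2)
    (h : ∀ j : Ω, F.IsConjElt i j → F.IsFullyNormalized (Subgroup.zpowers j) → j ∉ T) :
    i ∉ F.hyperfocalSubgroup 2 := by
  classical
  haveI : Fact (Nat.Prime 2) := ⟨Nat.prime_two⟩
  have hidx : (T.subgroupOf S).index = 2 := hT
  -- the character with kernel `T`
  let A := Multiplicative (ZMod 2)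
  let e : A := Multiplicative.ofAdd 1
  have he1 : e ≠ 1 := zmod_two.1
  have hee : e * e = 1 := zmod_two.2.1
  have hA : ∀ x : A, x = 1 ∨ x = e := zmod_two.2.2
  let f : S →* A :=
    { toFun := fun s => if s ∈ T.subgroupOf S then 1 else e
      map_one' := if_pos (one_mem _)
      map_mul' := fun a b => by
        have := Subgroup.mul_mem_iff_of_index_two hidx (a := a) (b := b)
        by_cases ha : a ∈ T.subgroupOf S <;> by_cases hb : b ∈ T.subgroupOf S <;>
          simp [this, ha, hb, hee] }
  have hf : ∀ s : S, f s = 1 ↔ (s : Ω) ∈ T := fun s => by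
    show (if s ∈ T.subgroupOf S then 1 else e) = 1 ↔ _
    by_cases hs : s ∈ T.subgroupOf S
    · simp [hs, Subgroup.mem_subgroupOf.1 hs]
    · rw [if_neg hs]
      exact ⟨fun h' => absurd h' he1, fun h' => absurd (Subgroup.mem_subgroupOf.2 h') hs⟩
  -- a fully normalized conjugate
  have hle : Subgroup.zpowers i ≤ S := Subgroup.zpowers_le.2 hi
  obtain ⟨J, k, hJ, hk, hkJ⟩ := exists_fullyNormalized_map hS hF hle
  have hki := hk.restrict (le_normalizerIn hle)
  have hiN := le_normalizerIn hle (Subgroup.mem_zpowers i)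
  set j := k i with hj
  have hjS : j ∈ S := hk.apply_mem hiN
  have hj1 : j ≠ 1 := fun e' => by
    have h1 := hki.injOn (Subgroup.mem_zpowers i) (one_mem _) (e'.trans hki.map_one.symm)
    rw [h1, orderOf_one] at hi2
    exact absurd hi2 (by norm_num)
  have hjj : j * j = 1 := by
    rw [← hki.map_mul (Subgroup.mem_zpowers i) (Subgroup.mem_zpowers i), ← pow_two, ← hi2,
      pow_orderOf_eq_one, hki.map_one]
  have hJeq : J = Subgroup.zpowers j := by
    have h1 : Nat.card J = 2 := by rw [← hkJ, hki.card_img, Nat.card_zpowers, hi2]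
    have h2 : Nat.card (Subgroup.zpowers j) = 2 := by
      rw [Nat.card_zpowers, orderOf_eq_prime (p := 2) (by rw [pow_two, hjj]) hj1]
    have hle' : Subgroup.zpowers j ≤ J :=
      Subgroup.zpowers_le.2 (hkJ.le (mem_img_of_mem k (Subgroup.mem_zpowers i)))
    haveI : Finite J := finite_of_le hJ.1
    exact (Subgroup.eq_of_le_of_card_ge hle' (by rw [h1, h2])).symm
  rw [hJeq] at hJ
  have hconjElt : ∀ {P : Subgroup Ω} {g : Ω → Ω}, Map F P g → i ∈ P → F.IsConjElt i (g i) := by
    intro P g hg hiP
    obtain ⟨φ, hφ, he'⟩ := hg.restrict (Subgroup.zpowers_le.2 hiP)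
    exact ⟨φ, hφ, he' ⟨i, Subgroup.mem_zpowers i⟩⟩
  have hju : f ⟨j, hjS⟩ = e := by
    refine (hA _).resolve_left fun h1 => h j (hconjElt hki (Subgroup.mem_zpowers i)) hJ ((hf _).1 h1)
  set u : S := ⟨j, hjS⟩ with hu
  have huu : u * u = 1 := Subtype.ext hjj
  -- Park's transfer
  obtain ⟨a, ha, hst, -, hn⟩ := exists_park hS hF
  letI := Fintype.ofFinite (RightOrbits a)
  let ι := parkι a
  have hc1 : ∀ q, cocycle f (1 : parkGroup a) q = 1 := fun q => by
    have := cocycle_mul ha f 1 1 q
    rw [one_mul, one_smul] at this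
    exact left_eq_mul.1 this
  have hu2 : ∀ q : RightOrbits a, ι u • ι u • q = q := fun q => by
    rw [← mul_smul, ← map_mul, huu, map_one, one_smul]
  have hpair : ∀ q, cocycle f (ι u) (ι u • q) * cocycle f (ι u) q = 1 := fun q => by
    rw [← cocycle_mul ha f, ← map_mul, huu, map_one, hc1]
  have hprod : parkTransfer ha f (ι u) = e := by
    show (∏ q, cocycle f (ι u) q)⁻¹ = e
    have hsplit := Finset.prod_filter_mul_prod_filter_not Finset.univ
      (fun q : RightOrbits a => ι u • q = q) (fun q => cocycle f (ι u) q)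
    have hrest : ∏ q ∈ Finset.univ.filter (fun q : RightOrbits a => ¬ ι u • q = q),
        cocycle f (ι u) q = 1 := by
      refine Finset.prod_involution (fun q _ => ι u • q) (fun q _ => ?_)
        (fun q hq _ => (Finset.mem_filter.1 hq).2) (fun q hq => ?_) (fun q _ => hu2 q)
      · rw [mul_comm]; exact hpair q
      · refine Finset.mem_filter.2 ⟨Finset.mem_univ _, fun h' => (Finset.mem_filter.1 hq).2 ?_⟩
        rw [hu2] at h'
        exact h'.symm
    rw [hrest, mul_one] at hsplit
    rw [← hsplit]
    set Fx := Finset.univ.filter (fun q : RightOrbits a => ι u • q = q) with hFx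
    rw [← Finset.prod_filter_mul_prod_filter_not Fx (fun q => cocycle f (ι u) q = 1),
      Finset.prod_congr rfl (fun q hq => (Finset.mem_filter.1 hq).2), Finset.prod_const_one, one_mul,
      Finset.prod_congr rfl (fun q hq => (hA _).resolve_left (Finset.mem_filter.1 hq).2),
      Finset.prod_const]
    -- the number of fixed orbits is odd
    have hodd : Fx.card % 2 = 1 := by
      letI : MulAction (Subgroup.zpowers u) (RightOrbits a) :=
        MulAction.compHom _ (ι.comp (Subgroup.zpowers u).subtype)
      have h1 := (hS.to_subgroup (Subgroup.zpowers u)).card_modEq_card_fixedPoints (RightOrbits a)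
      have h2 : Nat.card (fixedPoints (Subgroup.zpowers u) (RightOrbits a)) = Fx.card := by
        rw [← Nat.card_eq_finsetCard]
        refine Nat.card_congr (Equiv.subtypeEquivRight fun q => ?_)
        rw [hFx, Finset.mem_filter, mem_fixedPoints]
        constructor
        · exact fun h' => ⟨Finset.mem_univ _, h' ⟨u, Subgroup.mem_zpowers u⟩⟩
        · rintro ⟨-, h'⟩ ⟨w, hw⟩
          have h'' : ι u ∈ stabilizer (parkGroup a) q := h'
          obtain ⟨r, rfl⟩ := Subgroup.mem_zpowers_iff.1 hw
          show ι (u ^ r) • q = q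
          rw [map_zpow]
          exact zpow_mem h'' r
      rw [h2] at h1
      have h3 : Nat.card (RightOrbits a) % 2 = Fx.card % 2 := h1
      omega
    -- the orbits with value in `T` come in evenly many
    have heven : (Fx.filter fun q => cocycle f (ι u) q = 1).card % 2 = 0 := by
      set Q1 := Fx.filter fun q => cocycle f (ι u) q = 1 with hQ1
      set C := Subgroup.centralizer ({u} : Set S) with hC
      have hcu : ∀ c : C, (c : S) * u = u * c := fun c =>
        Subgroup.mem_centralizer_singleton_iff.1 c.2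
      have hinv : ∀ (c : C) q, q ∈ Q1 → ι (c : S) • q ∈ Q1 := by
        intro c q hq
        obtain ⟨hq1, hq2⟩ := Finset.mem_filter.1 hq
        have hq1' : ι u • q = q := (Finset.mem_filter.1 hq1).2
        refine Finset.mem_filter.2 ⟨Finset.mem_filter.2 ⟨Finset.mem_univ _, ?_⟩, ?_⟩
        · rw [← mul_smul, ← map_mul, ← hcu c, map_mul, mul_smul, hq1']
        · have h1 := cocycle_mul ha f (ι u) (ι (c : S)) q
          rw [← map_mul, ← hcu c, map_mul, cocycle_mul ha f, hq1', hq2, mul_one] at h1
          exact right_eq_mul.1 h1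
      letI : MulAction C {q : RightOrbits a // q ∈ Q1} :=
        { smul := fun c q => ⟨ι (c : S) • q.1, hinv c q.1 q.2⟩
          one_smul := fun q => Subtype.ext (by
            show ι ((1 : C) : S) • q.1 = q.1
            rw [OneMemClass.coe_one, map_one, one_smul])
          mul_smul := fun c d q => Subtype.ext (by
            show ι ((c * d : C) : S) • q.1 = ι (c : S) • ι (d : S) • q.1
            rw [Subgroup.coe_mul, map_mul, mul_smul]) }
      have h1 := (hS.to_subgroup C).card_modEq_card_fixedPoints {q : RightOrbits a // q ∈ Q1}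
      have h2 : IsEmpty (fixedPoints C {q : RightOrbits a // q ∈ Q1}) := by
        refine ⟨fun ⟨⟨q, hq⟩, hfix⟩ => ?_⟩
        obtain ⟨hq1, hq2⟩ := Finset.mem_filter.1 hq
        obtain ⟨g, hg, hge⟩ := good_stabilizer ha (Quotient.out q)
        have hgen : ∀ c : S, ι c • q = q → ((c, (coord ((ι c : Equiv.Perm (BSet a)) (Quotient.out q)))⁻¹) :
            ↥S × ↥S) ∈ stabilizer (↥S × ↥S) (Quotient.out q) := by
          intro c hc
          have h3 := coord_spec ((ι c : Equiv.Perm (BSet a)) (Quotient.out q))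
          have h4 : Quotient.mk (rightSetoid a) ((ι c : Equiv.Perm (BSet a)) (Quotient.out q)) = q := by
            conv_rhs => rw [← hc, ← Quotient.out_eq q]
            rfl
          rw [h4, parkι_apply] at h3
          set t := coord (((c, 1) : ↥S × ↥S) • Quotient.out q)
          show _ = _
          rw [parkι_apply, show ((c, t⁻¹) : ↥S × ↥S) = ((1, t) : ↥S × ↥S)⁻¹ * (c, 1) from by simp,
            mul_smul, ← h3, inv_smul_smul]
        have hcfix : ∀ c : S, c ∈ C → ι c • q = q := fun c hc =>
          congrArg Subtype.val (hfix ⟨c, hc⟩)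
        have huC : u ∈ C := Subgroup.mem_centralizer_singleton_iff.2 rfl
        set w := g (u : Ω) with hw
        have hwT : w ∈ T := by
          have h3 := hge _ (hgen u (hcfix u huC))
          rw [hw, ← h3]
          refine (hf _).1 ?_
          have h4 : f (coord ((ι u : Equiv.Perm (BSet a)) (Quotient.out q))) = 1 := hq2
          rw [map_inv, h4, inv_one]
        set P := pr1 (stabilizer (↥S × ↥S) (Quotient.out q)) with hP
        have hCP : ∀ c : S, c ∈ C → (c : Ω) ∈ P := fun c hc => fst_mem_pr1 (hgen c (hcfix c hc))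
        have hjP : j ∈ P := hCP u huC
        have hgj := hg.restrict (Subgroup.zpowers_le.2 hjP)
        -- compose with the map from `i`
        obtain ⟨φ, hφ⟩ : ∃ φ, Map F (Subgroup.zpowers i) φ ∧ φ i = w :=
          ⟨g ∘ k, hki.comp hgj (fun x hx => by rw [← hJeq, ← hkJ]; exact mem_img_of_mem k hx), rfl⟩
        refine h w (hφ.2 ▸ hconjElt hφ.1 (Subgroup.mem_zpowers i)) ?_ hwT
        have hwS : w ∈ S := hg.apply_mem hjP
        refine ⟨Subgroup.zpowers_le.2 hwS, fun R hR => ?_⟩
        have hwR : F.IsConj (Subgroup.zpowers j) R := by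
          refine isConj_trans (isConj_iff.2 ⟨g, hgj, ?_⟩) hR
          refine le_antisymm (img_le_iff.2 fun x hx => ?_) (Subgroup.zpowers_le.2
            (mem_img_of_mem g (Subgroup.mem_zpowers j)))
          obtain ⟨r, rfl⟩ := Subgroup.mem_zpowers_iff.1 hx
          have hrec : ∀ r : ℕ, g (j ^ r) = w ^ r := by
            intro r
            induction r with
            | zero => rw [pow_zero, pow_zero, hg.map_one]
            | succ r ih => rw [pow_succ, pow_succ, hg.map_mul (pow_mem hjP r) hjP, ih]
          obtain ⟨r', hr'⟩ : ∃ r' : ℕ, j ^ r = j ^ r' := by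
            rcases Int.emod_two_eq_zero_or_one r with h' | h'
            · exact ⟨0, by rw [pow_zero, ← Int.mul_ediv_add_emod r 2, h', add_zero, zpow_mul,
                zpow_two, hjj, one_zpow]⟩
            · exact ⟨1, by rw [pow_one, ← Int.mul_ediv_add_emod r 2, h', zpow_add, zpow_mul,
                zpow_two, hjj, one_zpow, one_mul, zpow_one]⟩
          rw [hr', hrec]
          exact pow_mem (Subgroup.mem_zpowers w) r'
        refine le_trans (hJ.2 R hwR) ?_
        haveI : Finite (normalizerIn S (Subgroup.zpowers j)) := finite_of_le inf_le_left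
        haveI : Finite (normalizerIn S (Subgroup.zpowers w)) := finite_of_le inf_le_left
        have hNC : ∀ x ∈ normalizerIn S (Subgroup.zpowers j), ∀ hx : x ∈ S, (⟨x, hx⟩ : S) ∈ C := by
          intro x hx hxS
          refine Subgroup.mem_centralizer_singleton_iff.2 (Subtype.ext ?_)
          have h3 := conj_mem_of_mem_normalizer hx.2 (Subgroup.mem_zpowers j)
          obtain ⟨r, hr⟩ := Subgroup.mem_zpowers_iff.1 h3
          show x * j = j * x
          rcases Int.emod_two_eq_zero_or_one r with h' | h'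
          · rw [← Int.mul_ediv_add_emod r 2, h', add_zero, zpow_mul, zpow_two, hjj, one_zpow] at hr
            exact absurd (conj_eq_one_iff.1 hr.symm) hj1
          · rw [← Int.mul_ediv_add_emod r 2, h', zpow_add, zpow_mul, zpow_two, hjj, one_zpow, one_mul,
              zpow_one] at hr
            exact (eq_mul_inv_iff_mul_eq.1 hr).symm
        refine Nat.card_le_card_of_injective (fun x : normalizerIn S (Subgroup.zpowers j) =>
          (⟨g x, hg.apply_mem (hCP ⟨x, x.2.1⟩ (hNC x x.2 x.2.1)),
            (centralizerIn_le_normalizerIn S (Subgroup.zpowers w)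
              ⟨hg.apply_mem (hCP ⟨x, x.2.1⟩ (hNC x x.2 x.2.1)), ?_⟩).2⟩ :
            normalizerIn S (Subgroup.zpowers w))) fun x y hxy => Subtype.ext ?_
        · have hxP := hCP ⟨x, x.2.1⟩ (hNC x x.2 x.2.1)
          have hxj : (x : Ω) * j = j * x :=
            congrArg Subtype.val (Subgroup.mem_centralizer_singleton_iff.1 (hNC x x.2 x.2.1))
          have hle' : Subgroup.zpowers w ≤ Subgroup.centralizer ({g x} : Set Ω) := by
            rw [Subgroup.zpowers_le, Subgroup.mem_centralizer_singleton_iff, hw, hu,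
              ← hg.map_mul hjP hxP, ← hg.map_mul hxP hjP, hxj]
          exact Subgroup.mem_centralizer_iff.2 fun v hv =>
            Subgroup.mem_centralizer_singleton_iff.1 (hle' hv)
        · exact hg.injOn (hCP ⟨x, x.2.1⟩ (hNC x x.2 x.2.1)) (hCP ⟨y, y.2.1⟩ (hNC y y.2 y.2.1))
            (congrArg Subtype.val hxy)
      have h3 : Nat.card {q : RightOrbits a // q ∈ Q1} % 2 = 0 := by
        have := h1
        rw [Nat.card_of_isEmpty (α := fixedPoints C {q : RightOrbits a // q ∈ Q1})] at this
        exact this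
      rwa [Nat.card_eq_finsetCard] at h3
    have hsum := Finset.card_filter_add_card_filter_not (s := Fx)
      (fun q => cocycle f (ι u) q = 1)
    obtain ⟨r, hr⟩ : ∃ r, (Fx.filter fun q => ¬ cocycle f (ι u) q = 1).card = 2 * r + 1 :=
      ⟨(Fx.filter fun q => ¬ cocycle f (ι u) q = 1).card / 2, by omega⟩
    rw [hr, pow_succ, pow_mul, pow_two, hee, one_pow, one_mul]
    exact inv_eq_of_mul_eq_one_right hee
  -- the transfer kills the focal subgroup
  set t : S →* A := (parkTransfer ha f).comp ι with ht
  have hfoc : F.focalSubgroup ≤ t.ker.map S.subtype := by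
    refine (Subgroup.closure_le _).2 ?_
    rintro _ ⟨P, φ, x, hφ, rfl⟩
    have hxS : (x : Ω) ∈ S := (F.le_of_mem hφ).1 x.2
    have hyS : φ x ∈ S := (F.le_of_mem hφ).2 x
    refine ⟨⟨x, hxS⟩⁻¹ * ⟨φ x, hyS⟩, ?_, rfl⟩
    obtain ⟨g, hg⟩ := exists_park_conj ha hst (map_ext hφ)
    have h1 := hg ⟨x, hxS⟩ x.2
    have h2 : (⟨ext φ (x : Ω), (map_ext hφ).apply_mem x.2⟩ : S) = ⟨φ x, hyS⟩ := Subtype.ext (ext_coe φ x)
    rw [h2] at h1
    rw [SetLike.mem_coe, MonoidHom.mem_ker, map_mul, map_inv, ht, MonoidHom.comp_apply, MonoidHom.comp_apply,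
      show ι ⟨φ x, hyS⟩ = _ from h1, map_mul, map_mul, map_inv]
    rw [mul_comm (parkTransfer ha f g), mul_inv_cancel_right, inv_mul_cancel]
  intro hi'
  obtain ⟨s, hs, hsi⟩ := hfoc (hyperfocal_le_focal hi')
  obtain ⟨g, hg⟩ := exists_park_conj ha hst hki
  have h1 : ι u = g * ι s * g⁻¹ := by
    have hs' : s = (⟨i, hi⟩ : S) := Subtype.ext hsi
    rw [hs']
    exact hg ⟨i, hi⟩ (Subgroup.mem_zpowers i)
  have hs0 : parkTransfer ha f (ι s) = 1 := hs
  rw [h1, map_mul, map_mul, map_inv, hs0, mul_one, mul_inv_cancel] at hprod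
  exact he1 hprod.symm

end CfsgLib.ThompsonTransfer
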