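import Cfsg.Agent.Lib.FusionGenExtraspecial

/-!
# An abelian subgroup of index `p` on which `S` induces one transvection

`Pair F p E z w`: `E` is abelian of index `p` in `S`, `w` induces `t` on `E` with
`[E, t] ≤ ⟨z⟩`, and some conjugate of `t` under `Aut_F(E)` is not a power of `t`.
-/

set_option autoImplicit false

open Cfsg Cfsg.FusionSystem Subgroup CfsgLib.Fusion

namespace CfsgLib.TransvectionPair

open CfsgLib.GenExtraspecial (natexp pow_apply_shift pow_apply_fixed)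

variable {Ω : Type*} [Group Ω] {S : Subgroup Ω} [Finite S] {p : ℕ} [hp : Fact p.Prime]
  {F : FusionSystem S} {E : Subgroup Ω} {z w : Ω}

structure Base (F : FusionSystem S) (p : ℕ) (E : Subgroup Ω) (z w : Ω) : Prop where
  fn : F.IsFullyNormalized E
  ab : ∀ x ∈ E, ∀ y ∈ E, Commute x y
  zE : z ∈ E
  z1 : z ≠ 1
  zp : z ^ p = 1
  zc : ∀ s ∈ S, Commute z s
  wn : w ∈ normalizerIn S E
  comm : ∀ e ∈ E, w * e * w⁻¹ * e⁻¹ ∈ zpowers z
  gen : ∀ s ∈ S, ∃ e ∈ E, ∃ j : ℕ, s = e * w ^ j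
  cen : ∀ c ∈ S, (∀ v ∈ S, Commute c v) → c ∈ E

namespace Base

variable (h : Base F p E z w)
include h

theorem le : E ≤ S := h.fn.1

theorem wS : w ∈ S := h.wn.1

/-- The automorphism induced by `w`. -/
noncomputable def t : MulAut E := normalizerInToAut S E ⟨w, h.wn⟩

theorem t_val (e : E) : ((h.t e : E) : Ω) = w * e * w⁻¹ := rfl

/-- The commutator generator inside `E`. -/
def zz : E := ⟨z, h.zE⟩

theorem zz_pow : (h.zz : E) ^ p = 1 := Subtype.ext h.zp

theorem zz_ne : (h.zz : E) ≠ 1 := fun e => h.z1 (congrArg Subtype.val e)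

theorem t_zz : h.t h.zz = h.zz := Subtype.ext (by
  rw [h.t_val]
  show w * z * w⁻¹ = z
  rw [← (h.zc w h.wS).eq, mul_inv_cancel_right])

theorem t_shift (e : E) : ∃ n : ℕ, h.t e = e * h.zz ^ n := by
  obtain ⟨n, hn⟩ := natexp h.zp (h.comm e e.2)
  refine ⟨n, Subtype.ext ?_⟩
  rw [h.t_val, Subgroup.coe_mul, SubgroupClass.coe_pow]
  show w * e * w⁻¹ = e * z ^ n
  rw [← ((h.zc e (h.le e.2)).pow_left n).eq, ← hn]
  group

theorem t_eq_self_iff (e : E) : h.t e = e ↔ ∀ s ∈ S, Commute (e : Ω) s := by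
  constructor
  · intro he s hs
    obtain ⟨x, hx, j, rfl⟩ := h.gen s hs
    have hw : Commute (e : Ω) w := by
      have h1 := congrArg Subtype.val he
      rw [h.t_val] at h1
      exact ((mul_inv_eq_iff_eq_mul.1 h1) : w * e = e * w).symm
    exact (h.ab e e.2 x hx).mul_right (hw.pow_right j)
  · intro he
    exact Subtype.ext (by rw [h.t_val, ← (he w h.wS).eq, mul_inv_cancel_right])

theorem t_pow : h.t ^ p = 1 := by
  refine MulEquiv.ext fun e => ?_
  obtain ⟨n, hn⟩ := h.t_shift e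
  rw [pow_apply_shift hn (by rw [_root_.map_pow, h.t_zz]), MulAut.one_apply, ← pow_mul,
    mul_comm n, pow_mul, h.zz_pow, one_pow, mul_one]

theorem t_mem : h.t ∈ autInducedBy S E := by
  haveI := finite_of_le h.le
  exact range_normalizerInToAut (S := S) (P := E) ▸ ⟨_, rfl⟩

theorem t_aut : h.t ∈ F.autGroup E := autInducedBy_le_autGroup h.le h.t_mem

theorem autInducedBy_le : autInducedBy S E ≤ zpowers h.t := by
  haveI := finite_of_le h.le
  intro α hα
  obtain ⟨g, hg, -, hga⟩ := mem_autInducedBy_iff.1 hα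
  obtain ⟨x, hx, j, rfl⟩ := h.gen g hg
  have hj : ∀ (j : ℕ) (e : E), (((h.t ^ j) e : E) : Ω) = w ^ j * e * (w ^ j)⁻¹ := by
    intro j
    induction j with
    | zero => intro e; simp
    | succ j ih =>
      intro e
      rw [pow_succ' h.t, MulAut.mul_apply, h.t_val, ih, pow_succ' w]
      group
  refine mem_zpowers_iff.2 ⟨(j : ℤ), MulEquiv.ext fun e => Subtype.ext ?_⟩
  rw [zpow_natCast, hj, ← CfsgLib.Fusion.autFun_coe α e, hga _ e.2]
  have hc : Commute x (w ^ j * e * (w ^ j)⁻¹) := h.ab x hx _ (by rw [← hj]; exact ((h.t ^ j) e).2)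
  calc w ^ j * e * (w ^ j)⁻¹ = x * (w ^ j * e * (w ^ j)⁻¹) * x⁻¹ := by
        rw [hc.eq, mul_inv_cancel_right]
    _ = x * w ^ j * e * (x * w ^ j)⁻¹ := by group

variable (hS : IsPGroup p S) (hF : F.IsSaturated p)
include hS hF

/-- Commuting conjugates of `t` generate the same subgroup. -/
theorem conj_commute {g : MulAut E} (hg : g ∈ F.autGroup E)
    (hc : Commute h.t (g * h.t * g⁻¹)) : g * h.t * g⁻¹ ∈ zpowers h.t := by
  haveI := finite_of_le h.le
  haveI := finite_autGroup F h.le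
  set s := g * h.t * g⁻¹ with hs
  have hsF : s ∈ F.autGroup E := mul_mem (mul_mem hg h.t_aut) (inv_mem hg)
  set tG : F.autGroup E := ⟨h.t, h.t_aut⟩ with htG
  set sG : F.autGroup E := ⟨s, hsF⟩ with hsG
  have hcG : Commute tG sG := Subtype.ext hc
  have hH : IsPGroup p (zpowers tG ⊔ zpowers sG : Subgroup (F.autGroup E)) := by
    intro e
    refine ⟨1, Subtype.ext ?_⟩
    have hn : zpowers sG ≤ normalizer ((zpowers tG : Subgroup (F.autGroup E)) : Set _) :=
      zpowers_le.2 (centralizer_le_normalizer _ fun x hx => by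
        obtain ⟨i, rfl⟩ := mem_zpowers_iff.1 hx
        exact (hcG.zpow_left i).eq)
    have he := e.2
    rw [← SetLike.mem_coe, coe_mul_of_right_le_normalizer_left _ _ hn] at he
    obtain ⟨a₁, ha₁, b₁, hb₁, heq⟩ := Set.mem_mul.1 he
    obtain ⟨i, rfl⟩ := mem_zpowers_iff.1 ha₁
    obtain ⟨j, rfl⟩ := mem_zpowers_iff.1 hb₁
    have htG' : tG ^ p = 1 := Subtype.ext h.t_pow
    have hsG' : sG ^ p = 1 := Subtype.ext (show s ^ p = 1 by
      rw [hs, conj_pow, h.t_pow, mul_one, mul_inv_cancel])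
    rw [pow_one, SubgroupClass.coe_pow, ← heq, (hcG.zpow_zpow i j).mul_pow,
      ← zpow_natCast (tG ^ i), ← zpow_mul, mul_comm i, zpow_mul, zpow_natCast, htG', one_zpow,
      ← zpow_natCast (sG ^ j), ← zpow_mul, mul_comm j, zpow_mul, zpow_natCast, hsG', one_zpow,
      one_mul, OneMemClass.coe_one]
  have hfa := (isFullyAutomized_iff hS).1 (isFullyAutomized_of_fullyNormalized hS hF h.fn)
  obtain ⟨γ, hγ⟩ := exists_conj_mem_of_pGroup hH
    ((isPGroup_autInducedBy (P := E) hS).of_equiv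
      (subgroupOfEquivOfLe (autInducedBy_le_autGroup (F := F) h.le)).symm) hfa.2
  have h1 : (γ : MulAut E) * h.t * (γ : MulAut E)⁻¹ ∈ zpowers h.t := h.autInducedBy_le
    (Subgroup.mem_subgroupOf.1 (hγ tG (mem_sup_left (mem_zpowers tG))))
  have h2 : (γ : MulAut E) * s * (γ : MulAut E)⁻¹ ∈ zpowers h.t := h.autInducedBy_le
    (Subgroup.mem_subgroupOf.1 (hγ sG (mem_sup_right (mem_zpowers sG))))
  rcases eq_or_ne h.t 1 with ht1 | ht1
  · rw [hs, ht1, mul_one, mul_inv_cancel]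
    exact one_mem _
  have hne : (γ : MulAut E) * h.t * (γ : MulAut E)⁻¹ ≠ 1 := fun e =>
    ht1 (by
      have := congrArg (fun x => (γ : MulAut E)⁻¹ * x * γ) e
      simpa [mul_assoc] using this)
  obtain ⟨q, hq⟩ := mem_zpowers_iff.1 ((zpowers_le.2 (CfsgLib.GenExtraspecial.gen h.t_pow h1 hne)) h2)
  rw [conj_zpow] at hq
  exact mem_zpowers_iff.2 ⟨q, mul_left_cancel (mul_right_cancel hq)⟩

omit hS hF in
theorem conj_shift (g : MulAut E) (e : E) : ∃ n : ℕ, (g * h.t * g⁻¹) e = e * g h.zz ^ n := by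
  obtain ⟨n, hn⟩ := h.t_shift (g⁻¹ e)
  exact ⟨n, by rw [MulAut.mul_apply, MulAut.mul_apply, hn, _root_.map_mul, _root_.map_pow,
    MulAut.apply_inv_self]⟩

omit hS hF in
theorem conj_centre (g : MulAut E) : (g * h.t * g⁻¹) (g h.zz) = g h.zz := by
  rw [MulAut.mul_apply, MulAut.mul_apply, MulAut.inv_apply_self, h.t_zz]

/-- `t` moves the centre of each conjugate of `t` that is not one of its powers. -/
theorem t_moves {g : MulAut E} (hg : g ∈ F.autGroup E) (hn : g * h.t * g⁻¹ ∉ zpowers h.t) :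
    h.t (g h.zz) ≠ g h.zz := by
  intro hut
  refine hn (h.conj_commute hS hF hg ?_)
  letI : CommGroup E := { (inferInstance : Group E) with
    mul_comm := fun u v => Subtype.ext (h.ab u u.2 v v.2).eq }
  set u := g h.zz with hu
  set t' := g * h.t * g⁻¹ with ht'
  have ht'u : t' u = u := h.conj_centre g
  have ht'F : t' ∈ F.autGroup E := mul_mem (mul_mem hg h.t_aut) (inv_mem hg)
  set s := t' * h.t * t'⁻¹ with hs
  obtain ⟨m, hm⟩ := h.conj_shift g h.zz
  have hsz : s h.zz = h.zz := by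
    have h1 : t'⁻¹ h.zz = h.zz * (u ^ m)⁻¹ := by
      apply t'.injective
      rw [MulAut.apply_inv_self, _root_.map_mul, _root_.map_inv, _root_.map_pow, ht'u, hm,
        mul_inv_cancel_right]
    rw [hs, MulAut.mul_apply, MulAut.mul_apply, h1, _root_.map_mul, _root_.map_inv,
      _root_.map_pow, hut, h.t_zz, _root_.map_mul, _root_.map_inv, _root_.map_pow, ht'u, hm,
      mul_inv_cancel_right]
  have hcomm : Commute h.t s := by
    refine MulEquiv.ext fun c => ?_
    obtain ⟨i, hi⟩ := h.t_shift c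
    obtain ⟨e, he⟩ := h.conj_shift g c
    rw [← ht', ← hu] at he
    have h1 : t'⁻¹ c = c * (u ^ e)⁻¹ := by
      apply t'.injective
      rw [MulAut.apply_inv_self, _root_.map_mul, _root_.map_inv, _root_.map_pow, ht'u, he,
        mul_inv_cancel_right]
    have hsc : s c = c * (h.zz * u ^ m) ^ i := by
      rw [hs, MulAut.mul_apply, MulAut.mul_apply, h1, _root_.map_mul, _root_.map_inv,
        _root_.map_pow, hut, hi, _root_.map_mul, _root_.map_mul, _root_.map_inv,
        _root_.map_pow, _root_.map_pow, ht'u, he, hm]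
      rw [mul_right_comm (c * u ^ e), mul_inv_cancel_right]
    show h.t (s c) = s (h.t c)
    rw [hsc, hi, _root_.map_mul h.t, _root_.map_pow h.t, _root_.map_mul h.t, _root_.map_pow h.t,
      h.t_zz, hut, hi, _root_.map_mul s, _root_.map_pow s, hsz, hsc, mul_right_comm]
  obtain ⟨k, hk⟩ := natexp h.t_pow (h.conj_commute hS hF ht'F hcomm)
  rw [← hs] at hk
  -- so `t'` normalizes `⟨t⟩`, hence centralizes `t`
  have hit : ∀ j : ℕ, t' ^ j * h.t * (t' ^ j)⁻¹ = h.t ^ k ^ j := by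
    intro j
    induction j with
    | zero => simp
    | succ j ih =>
      rw [pow_succ t', show t' ^ j * t' * h.t * (t' ^ j * t')⁻¹ =
        t' ^ j * (t' * h.t * t'⁻¹) * (t' ^ j)⁻¹ by group, ← hs, hk, ← conj_pow, ih, ← pow_mul,
        ← pow_succ]
  have ht'p : t' ^ p = 1 := by rw [ht', conj_pow, h.t_pow, mul_one, mul_inv_cancel]
  have h3 := hit p
  rw [ht'p, inv_one, one_mul, mul_one] at h3
  show h.t * t' = t' * h.t
  rcases eq_or_ne h.t 1 with ht1 | ht1
  · rw [ht1, one_mul, mul_one]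
  have hot : orderOf h.t = p := orderOf_eq_prime h.t_pow ht1
  have h4 : ((k ^ p : ℕ) : ZMod p) = ((1 : ℕ) : ZMod p) := by
    rw [ZMod.natCast_eq_natCast_iff]
    have := pow_eq_pow_iff_modEq.1 (show h.t ^ k ^ p = h.t ^ 1 by rw [pow_one]; exact h3.symm)
    rwa [hot] at this
  rw [Nat.cast_pow, ZMod.pow_card, ZMod.natCast_eq_natCast_iff, ← hot] at h4
  rw [pow_eq_pow_iff_modEq.2 h4, pow_one, hs] at hk
  exact (mul_inv_eq_iff_eq_mul.1 hk).symm

omit hS hF in
theorem inv_conj_not_mem {g : MulAut E} (hn : g * h.t * g⁻¹ ∉ zpowers h.t) :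
    g⁻¹ * h.t * g⁻¹⁻¹ ∉ zpowers h.t := by
  intro hm
  rcases eq_or_ne h.t 1 with ht1 | ht1
  · exact hn (by rw [ht1, mul_one, mul_inv_cancel]; exact one_mem _)
  have hne : g⁻¹ * h.t * g⁻¹⁻¹ ≠ 1 := fun e => ht1 (by
    have := congrArg (fun x => g * x * g⁻¹) e
    simpa [mul_assoc] using this)
  obtain ⟨q, hq⟩ := mem_zpowers_iff.1 (CfsgLib.GenExtraspecial.gen h.t_pow hm hne)
  refine hn (mem_zpowers_iff.2 ?_)
  obtain ⟨r, hr⟩ := mem_zpowers_iff.1 hm
  refine ⟨q, ?_⟩
  have h1 : g * ((g⁻¹ * h.t * g⁻¹⁻¹) ^ q) * g⁻¹ = g * h.t * g⁻¹ := by rw [hq]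
  rw [conj_zpow] at h1
  simpa [mul_assoc] using h1

/-- A conjugate of `t` that is not one of its powers moves `z`. -/
theorem conj_moves {g : MulAut E} (hg : g ∈ F.autGroup E) (hn : g * h.t * g⁻¹ ∉ zpowers h.t) :
    (g * h.t * g⁻¹) h.zz ≠ h.zz := by
  intro he
  refine h.t_moves hS hF (inv_mem hg) (h.inv_conj_not_mem hn) ?_
  have h1 : g (h.t (g⁻¹ h.zz)) = h.zz := he
  exact g.injective (by rw [h1, MulAut.apply_inv_self])

omit hS hF in
theorem zz_gen {n : ℕ} (hn : h.zz ^ n ≠ 1) : h.zz ∈ zpowers (h.zz ^ n) :=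
  CfsgLib.GenExtraspecial.gen h.zz_pow (pow_mem (mem_zpowers _) n) hn

/-- Decomposition along a pair of non-commuting conjugates. -/
theorem decomp {g : MulAut E} (hg : g ∈ F.autGroup E) (hn : g * h.t * g⁻¹ ∉ zpowers h.t) (e : E) :
    ∃ (i j : ℕ) (k : E), h.t k = k ∧ (g * h.t * g⁻¹) k = k ∧
      e = g h.zz ^ i * h.zz ^ j * k := by
  letI : CommGroup E := { (inferInstance : Group E) with
    mul_comm := fun u v => Subtype.ext (h.ab u u.2 v v.2).eq }
  set u := g h.zz with hu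
  set t' := g * h.t * g⁻¹ with ht'
  obtain ⟨n₀, hn₀⟩ := h.t_shift u
  have hn0 : h.zz ^ n₀ ≠ 1 := fun e' => h.t_moves hS hF hg hn (by rw [← hu, hn₀, e', mul_one])
  obtain ⟨m, hm⟩ := h.conj_shift g h.zz
  rw [← ht', ← hu] at hm
  have hum : u ^ m ≠ 1 := fun e' => h.conj_moves hS hF hg hn (by rw [← ht', hm, e', mul_one])
  have hup : u ^ p = 1 := by rw [hu, ← _root_.map_pow, h.zz_pow, _root_.map_one]
  obtain ⟨n, hne⟩ := h.t_shift e
  obtain ⟨i, hi⟩ := natexp (z := h.zz ^ n₀)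
    (by rw [← pow_mul, mul_comm, pow_mul, h.zz_pow, one_pow])
    ((zpowers_le.2 (h.zz_gen hn0)) (pow_mem (mem_zpowers _) n))
  set d := (u ^ i)⁻¹ * e with hd
  have htd : h.t d = d := by
    rw [hd, _root_.map_mul, _root_.map_inv, _root_.map_pow, hn₀, hne, hi, mul_pow, mul_inv_rev,
      mul_comm ((h.zz ^ n₀) ^ i)⁻¹, mul_assoc, mul_comm e, inv_mul_cancel_left]
  obtain ⟨r, hr⟩ := h.conj_shift g d
  rw [← ht', ← hu] at hr
  obtain ⟨q, hq⟩ := natexp (z := u ^ m) (by rw [← pow_mul, mul_comm, pow_mul, hup, one_pow])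
    ((zpowers_le.2 (CfsgLib.GenExtraspecial.gen hup (pow_mem (mem_zpowers _) m) hum)) (pow_mem (mem_zpowers u) r))
  refine ⟨i, q, (h.zz ^ q)⁻¹ * d, ?_, ?_, ?_⟩
  · rw [_root_.map_mul, _root_.map_inv, _root_.map_pow, h.t_zz, htd]
  · rw [_root_.map_mul, _root_.map_inv, _root_.map_pow, hm, hr, hq, mul_pow, mul_inv_rev,
      mul_comm d, mul_assoc, mul_left_comm (h.zz ^ q)⁻¹, inv_mul_cancel_left]
  · rw [hd, mul_assoc (u ^ i), mul_inv_cancel_left, mul_inv_cancel_left]

/-- For `p` odd: an element of `Aut_F(E)` commuting with `t`, inverting `z` and fixing the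
common fixed points of the pair. -/
theorem exists_inverter {g : MulAut E} (hg : g ∈ F.autGroup E)
    (hn : g * h.t * g⁻¹ ∉ zpowers h.t) :
    ∃ β ∈ F.autGroup E, β h.zz = h.zz⁻¹ ∧ (∀ e, β (h.t e) = h.t (β e)) ∧
      ∀ k, h.t k = k → (g * h.t * g⁻¹) k = k → β k = k := by
  letI : CommGroup E := { (inferInstance : Group E) with
    mul_comm := fun u v => Subtype.ext (h.ab u u.2 v v.2).eq }
  set u := g h.zz with hu
  set t' := g * h.t * g⁻¹ with ht'
  have ht'u : t' u = u := h.conj_centre g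
  obtain ⟨n₀, hn₀⟩ := h.t_shift u
  have hn0 : h.zz ^ n₀ ≠ 1 := fun e' => h.t_moves hS hF hg hn (by rw [← hu, hn₀, e', mul_one])
  obtain ⟨m, hm⟩ := h.conj_shift g h.zz
  rw [← ht', ← hu] at hm
  have hum : u ^ m ≠ 1 := fun e' => h.conj_moves hS hF hg hn (by rw [← ht', hm, e', mul_one])
  have hup : u ^ p = 1 := by rw [hu, ← _root_.map_pow, h.zz_pow, _root_.map_one]
  obtain ⟨q, hq⟩ := natexp (z := h.zz ^ n₀)
    (by rw [← pow_mul, mul_comm, pow_mul, h.zz_pow, one_pow]) (h.zz_gen hn0)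
  obtain ⟨l, hl⟩ := natexp (z := u ^ m) (by rw [← pow_mul, mul_comm, pow_mul, hup, one_pow])
    (inv_mem (CfsgLib.GenExtraspecial.gen hup (pow_mem (mem_zpowers _) m) hum))
  set T := h.t ^ q with hT
  have hTu : T u = u * h.zz := by
    rw [hT, pow_apply_shift hn₀ (by rw [_root_.map_pow, h.t_zz]), ← hq]
  have hTz : T h.zz = h.zz := pow_apply_fixed h.t_zz q
  set V := t' ^ l with hV
  have hVu : V u = u := pow_apply_fixed ht'u l
  have hVz : V h.zz = h.zz * u⁻¹ := by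
    rw [hV, pow_apply_shift hm (by rw [_root_.map_pow, ht'u]), ← hl]
  set β := T * V * T * (T * V * T) with hβ
  have hTVTz : (T * V * T) h.zz = u⁻¹ := by
    rw [MulAut.mul_apply, MulAut.mul_apply, hTz, hVz, _root_.map_mul, _root_.map_inv, hTz, hTu,
      mul_inv_rev, mul_inv_cancel_left]
  have hTVTu : (T * V * T) u = h.zz := by
    rw [MulAut.mul_apply, MulAut.mul_apply, hTu, _root_.map_mul V, hVu, hVz, mul_comm h.zz,
      mul_inv_cancel_left, hTz]
  have hβz : β h.zz = h.zz⁻¹ := by rw [hβ, MulAut.mul_apply, hTVTz, _root_.map_inv, hTVTu]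
  have hβu : β u = u⁻¹ := by rw [hβ, MulAut.mul_apply, hTVTu, hTVTz]
  have hβk : ∀ k, h.t k = k → t' k = k → β k = k := fun k h1 h2 => by
    have hT0 : T k = k := pow_apply_fixed h1 q
    have hV0 : V k = k := pow_apply_fixed h2 l
    simp only [hβ, MulAut.mul_apply, hT0, hV0]
  refine ⟨β, ?_, hβz, fun e => ?_, hβk⟩
  · have ht'F : t' ∈ F.autGroup E := mul_mem (mul_mem hg h.t_aut) (inv_mem hg)
    have hTF : T ∈ F.autGroup E := pow_mem h.t_aut q
    have h' := mul_mem (mul_mem hTF (pow_mem ht'F l : V ∈ F.autGroup E)) hTF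
    exact mul_mem h' h'
  · obtain ⟨i, j, k, hk1, hk2, rfl⟩ := h.decomp hS hF hg hn e
    rw [← hu]
    simp only [_root_.map_mul, _root_.map_inv, _root_.map_pow, hn₀, h.t_zz, hβz, hβu,
      hβk k hk1 hk2, hk1, mul_pow, mul_inv_rev, inv_inv, inv_pow]
    rw [mul_comm ((h.zz ^ n₀) ^ i)⁻¹]

/-- For `p = 2` the conjugates of `t` are just three. -/
theorem three (h2 : p = 2) {g g' : MulAut E} (hg : g ∈ F.autGroup E)
    (hn : g * h.t * g⁻¹ ∉ zpowers h.t) (hg' : g' ∈ F.autGroup E)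
    (hn' : g' * h.t * g'⁻¹ ∉ zpowers h.t) :
    g' * h.t * g'⁻¹ = g * h.t * g⁻¹ ∨ g' * h.t * g'⁻¹ = h.t * (g * h.t * g⁻¹) * h.t := by
  subst h2
  by_contra hcon
  push Not at hcon
  letI : CommGroup E := { (inferInstance : Group E) with
    mul_comm := fun u v => Subtype.ext (h.ab u u.2 v v.2).eq }
  have ht2 : h.t * h.t = 1 := by rw [← pow_two]; exact h.t_pow
  have htinv : h.t⁻¹ = h.t := inv_eq_of_mul_eq_one_right ht2
  have hsame : ∀ {a b : MulAut E}, a ^ 2 = 1 → b ≠ 1 → b ∈ zpowers a → b = a := by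
    intro a b ha hb hm
    obtain ⟨n, rfl⟩ := natexp ha hm
    rcases Nat.even_or_odd n with ⟨k, rfl⟩ | ⟨k, rfl⟩
    · exact absurd (by rw [← two_mul, pow_mul, ha, one_pow]) hb
    · rw [pow_add, pow_mul, ha, one_pow, one_mul, pow_one]
  have ht1 : h.t ≠ 1 := fun e => hn (by rw [e, mul_one, mul_inv_cancel]; exact one_mem _)
  have hne1 : ∀ a : MulAut E, a * h.t * a⁻¹ ≠ 1 := fun a e => ht1 (by
    have := congrArg (fun x => a⁻¹ * x * a) e
    simpa [mul_assoc] using this)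
  set c := g' * h.t * g'⁻¹ with hc
  set v := g' h.zz with hv
  have hmove : ∀ a : MulAut E, a ∈ F.autGroup E → c ≠ a * h.t * a⁻¹ →
      c (a h.zz) = a h.zz * v := by
    intro a ha hne
    have hmem : a⁻¹ * g' ∈ F.autGroup E := mul_mem (inv_mem ha) hg'
    have hconj : a⁻¹ * g' * h.t * (a⁻¹ * g')⁻¹ ∉ zpowers h.t := by
      intro hm
      have := hsame h.t_pow (hne1 _) hm
      refine hne ?_
      rw [hc]
      have h' := congrArg (fun x => a * x * a⁻¹) this
      simpa [mul_assoc] using h'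
    have h1 := h.conj_moves hS hF hmem hconj
    obtain ⟨n, hn1⟩ := h.conj_shift g' (a h.zz)
    rw [← hc, ← hv] at hn1
    rcases Nat.even_or_odd n with ⟨k, hk⟩ | ⟨k, hk⟩
    · exfalso
      refine h1 ?_
      have h2 : c (a h.zz) = a h.zz := by
        rw [hn1, hk, ← two_mul, pow_mul, hv, ← _root_.map_pow, h.zz_pow, _root_.map_one, one_pow,
          mul_one]
      show (a⁻¹ * g' * h.t * (a⁻¹ * g')⁻¹) h.zz = h.zz
      apply a.injective
      rw [show a ((a⁻¹ * g' * h.t * (a⁻¹ * g')⁻¹) h.zz) = (a * (a⁻¹ * g' * h.t * (a⁻¹ * g')⁻¹))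
        h.zz from rfl, show a * (a⁻¹ * g' * h.t * (a⁻¹ * g')⁻¹) = c * a by rw [hc]; group]
      exact h2
    · rw [hn1, hk, pow_add, pow_mul, hv, ← _root_.map_pow, h.zz_pow, _root_.map_one, one_pow,
        one_mul, pow_one]
  have m1 : c h.zz = h.zz * v := by
    have := hmove 1 (one_mem _) (by
      rw [one_mul, inv_one, mul_one]
      exact fun e => hn' (e ▸ mem_zpowers _))
    simpa using this
  have m2 := hmove g hg hcon.1
  have hcase : c ≠ h.t * g * h.t * (h.t * g)⁻¹ := by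
    intro e
    refine hcon.2 ?_
    rw [e, mul_inv_rev, htinv]
    group
  have m3 := hmove (h.t * g) (mul_mem h.t_aut hg) hcase
  obtain ⟨n, hn1⟩ := h.t_shift (g h.zz)
  have hnz : h.zz ^ n = h.zz := by
    rcases Nat.even_or_odd n with ⟨k, hk⟩ | ⟨k, hk⟩
    · exact absurd (by rw [hn1, hk, ← two_mul, pow_mul, h.zz_pow, one_pow, mul_one])
        (h.t_moves hS hF hg hn)
    · rw [hk, pow_add, pow_mul, h.zz_pow, one_pow, one_mul, pow_one]
  rw [show (h.t * g) h.zz = h.t (g h.zz) from rfl, hn1, hnz, _root_.map_mul, m1, m2] at m3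
  have hv1 : v = 1 := by
    have h4 : g h.zz * v * (h.zz * v) = g h.zz * h.zz * v * v := by ac_rfl
    rw [h4] at m3
    exact mul_left_cancel (a := g h.zz * h.zz * v) (m3.trans (mul_one _).symm)
  exact h.zz_ne ((map_eq_one_iff g' g'.injective).1 hv1)

/-- Automorphisms normalizing `⟨t⟩` extend to `S`. -/
theorem extend {g : MulAut E} (hg : g ∈ F.autGroup E) (hn : g * h.t * g⁻¹ ∈ zpowers h.t) :
    ∃ δ ∈ F.autGroup S, ∀ e ∈ E, autFun δ e = autFun g e := by
  haveI := finite_of_le h.le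
  have hm := (mem_autGroup_iff h.le).1 hg
  obtain ⟨n, hn'⟩ := natexp h.t_pow hn
  have hj : ∀ (j : ℕ) (e : E), (((h.t ^ j) e : E) : Ω) = w ^ j * e * (w ^ j)⁻¹ := by
    intro j
    induction j with
    | zero => intro e; simp
    | succ j ih =>
      intro e
      rw [pow_succ' h.t, MulAut.mul_apply, h.t_val, ih, pow_succ' w]
      group
  have hwE : InExtender S E (autFun g) w := ⟨h.wn.1, h.wn.2, w ^ n, S.pow_mem h.wS n,
    fun x hx => by
      rw [show w * x * w⁻¹ = ((h.t ⟨x, hx⟩ : E) : Ω) from (h.t_val ⟨x, hx⟩).symm,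
        CfsgLib.Fusion.autFun_coe, autFun_apply g hx, ← hj]
      apply congrArg Subtype.val
      rw [← hn']
      simp [MulAut.mul_apply]⟩
  obtain ⟨φ, -, he⟩ := id hm
  obtain ⟨k, hk, hkE⟩ := receptive_extend (isReceptive_of_fullyNormalized hS hF h.fn) hm
    (img_autFun g) (R := S) h.le fun x hx => by
      have hmx : x ∈ E ⊔ zpowers w := by
        obtain ⟨c, hc, j, rfl⟩ := h.gen x hx
        exact mul_mem (mem_sup_left hc) (mem_sup_right (pow_mem (mem_zpowers w) j))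
      refine inExtender_sup (fun g hg => inExtender_of_mem hm hg) (fun g hg => ?_) ⟨φ, he⟩ x hmx
      exact (mem_extender_iff he).1 (zpowers_le.2 ((mem_extender_iff he).2 hwE) hg)
  obtain ⟨δ, hδ, hδk⟩ := hk.exists_aut (eq_of_le_of_card_le le_rfl hk.img_le hk.card_img.ge)
  exact ⟨δ, hδ, fun e he => (hδk e (h.le he)).trans (hkE e he)⟩

end Base

end CfsgLib.TransvectionPair
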