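import Cfsg.Prelude.Def_Transfer
import Cfsg.Agent.Lib.CorePGroup
import Cfsg.Agent.Lib.CoreOmega
import Cfsg.Agent.Lib.DicksonDihedral
import Cfsg.Agent.Lib.FusionNormal

/-!
# The shape of a generalized extraspecial group with a bad element of order `p`

`Bad p P z y w a`: `z` spans the derived group of `P`, `y` is a noncentral element of order `p`
whose centralizer in `P` is elementary abelian, and `w` moves `y` to `y * a`.
Such a group is `E × A` with `E` nonabelian of order `p ^ 3` and `A` elementary abelian.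
-/

set_option autoImplicit false

open Subgroup
open scoped commutatorElement

namespace CfsgLib.GenExtraspecial

variable {Ω : Type*} [Group Ω] {p : ℕ} [hp : Fact p.Prime] {P : Subgroup Ω} {z y w a : Ω}

theorem natexp {e : Ω} (hz : z ^ p = 1) (he : e ∈ zpowers z) : ∃ n : ℕ, e = z ^ n := by
  obtain ⟨i, rfl⟩ := mem_zpowers_iff.1 he
  refine ⟨(i % p).toNat, ?_⟩
  rw [← zpow_natCast z, Int.toNat_of_nonneg (Int.emod_nonneg _ (by exact_mod_cast hp.out.ne_zero)),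
    ← zpow_eq_zpow_emod' i hz]

theorem gen {e : Ω} (hz : z ^ p = 1) (he : e ∈ zpowers z) (h1 : e ≠ 1) : z ∈ zpowers e := by
  obtain ⟨n, rfl⟩ := natexp hz he
  have hn : ¬ p ∣ n := by
    rintro ⟨k, rfl⟩
    exact h1 (by rw [pow_mul, hz, one_pow])
  have ho : orderOf z = p := orderOf_eq_prime hz fun h => h1 (by rw [h, one_pow])
  obtain ⟨m, hm⟩ := exists_pow_eq_self_of_coprime
    (show n.Coprime (orderOf z) by rw [ho]; exact ((Nat.Prime.coprime_iff_not_dvd hp.out).2 hn).symm)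
  exact mem_zpowers_iff.2 ⟨m, by rw [zpow_natCast]; exact hm⟩

structure Bad (p : ℕ) (P : Subgroup Ω) (z y w a : Ω) : Prop where
  hz : z ∈ P
  hy : y ∈ P
  hw : w ∈ P
  z1 : z ≠ 1
  zp : z ^ p = 1
  zc : ∀ x ∈ P, Commute z x
  comm : ∀ x ∈ P, ∀ x' ∈ P, x * x' * x⁻¹ * x'⁻¹ ∈ zpowers z
  pow : ∀ x ∈ P, x ^ p ∈ zpowers z
  yp : y ^ p = 1
  yz : y ∉ zpowers z
  ha : a ∈ zpowers z
  a1 : a ≠ 1
  wy : w * y * w⁻¹ = y * a
  cc : ∀ c ∈ P, ∀ d ∈ P, Commute c y → Commute d y → Commute c d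
  cp : ∀ c ∈ P, Commute c y → c ^ p = 1

namespace Bad

theorem a_mem (B : Bad p P z y w a) : a ∈ P :=
  zpowers_le.2 B.hz B.ha

theorem ac (B : Bad p P z y w a) {x : Ω} (hx : x ∈ P) : Commute a x := by
  obtain ⟨i, rfl⟩ := mem_zpowers_iff.1 B.ha
  exact (B.zc x hx).zpow_left i

theorem ap (B : Bad p P z y w a) : a ^ p = 1 := by
  obtain ⟨n, rfl⟩ := natexp B.zp B.ha
  rw [← pow_mul, mul_comm, pow_mul, B.zp, one_pow]

theorem dvd_of_a_zpow (B : Bad p P z y w a) {j : ℤ} (h : a ^ j = 1) : (p : ℤ) ∣ j := by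
  rw [← orderOf_eq_prime B.ap B.a1]
  exact orderOf_dvd_iff_zpow_eq_one.2 h

theorem w_zpow_y (B : Bad p P z y w a) (j : ℤ) : w ^ j * y * (w ^ j)⁻¹ = y * a ^ j := by
  have h1 : y⁻¹ * w * y = a * w := by
    have : w * y = y * a * w := by rw [← B.wy]; group
    rw [mul_assoc, this]
    group
  have h2 : y⁻¹ * w ^ j * y = a ^ j * w ^ j := by
    rw [← (B.ac B.hw).mul_zpow, ← h1]
    have := (map_zpow (MulAut.conj y⁻¹) w j)
    simpa [MulAut.conj_apply] using this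
  calc w ^ j * y * (w ^ j)⁻¹ = y * (y⁻¹ * w ^ j * y) * (w ^ j)⁻¹ := by group
    _ = y * a ^ j := by rw [h2]; group

theorem dvd_of_commute (B : Bad p P z y w a) {j : ℤ} (h : Commute (w ^ j) y) : (p : ℤ) ∣ j := by
  refine B.dvd_of_a_zpow ?_
  have h1 := B.w_zpow_y j
  rw [h.eq, mul_inv_cancel_right] at h1
  exact mul_left_cancel (a := y) (by rw [← h1, mul_one])

theorem conj_w (B : Bad p P z y w a) {c : Ω} (hc : c ∈ P) :
    ∃ n : ℕ, w * c * w⁻¹ = c * z ^ n := by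
  obtain ⟨n, hn⟩ := natexp B.zp (B.comm w B.hw c hc)
  refine ⟨n, ?_⟩
  rw [← ((B.zc c hc).pow_left n).eq, ← hn]
  group

theorem w_pow_y_comm (B : Bad p P z y w a) {j : ℤ} (hj : (p : ℤ) ∣ j) : w ^ j ∈ zpowers z := by
  obtain ⟨k, rfl⟩ := hj
  rw [zpow_mul, zpow_natCast]
  exact zpow_mem (B.pow w B.hw) k

/-- Every element is an element centralizing `y` times a power of `w`. -/
theorem decomp (B : Bad p P z y w a) {x : Ω} (hx : x ∈ P) :
    ∃ c ∈ P, Commute c y ∧ ∃ j : ℕ, x = c * w ^ j := by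
  have hA : ∃ j : ℕ, x * y * x⁻¹ * y⁻¹ = a ^ j :=
    natexp B.ap ((zpowers_le.2 (gen B.zp B.ha B.a1)) (B.comm x hx y B.hy))
  obtain ⟨j, hj⟩ := hA
  refine ⟨x * (w ^ j)⁻¹, P.mul_mem hx (P.inv_mem (P.pow_mem B.hw j)), ?_, j, by group⟩
  have h1 := B.w_zpow_y j
  rw [zpow_natCast, zpow_natCast] at h1
  have h2 : x * y * x⁻¹ = y * a ^ j := by
    rw [← ((B.ac B.hy).pow_left j).eq, ← hj]
    group
  have h3 : (w ^ j)⁻¹ * (y * a ^ j) * w ^ j = y := by rw [← h1]; group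
  have h4 : x * (w ^ j)⁻¹ * (y * a ^ j) * (x * (w ^ j)⁻¹)⁻¹ = y * a ^ j := by
    calc x * (w ^ j)⁻¹ * (y * a ^ j) * (x * (w ^ j)⁻¹)⁻¹
        = x * ((w ^ j)⁻¹ * (y * a ^ j) * w ^ j) * x⁻¹ := by group
      _ = y * a ^ j := by rw [h3, h2]
  have hac : Commute (x * (w ^ j)⁻¹) (a ^ j) :=
    ((B.ac (P.mul_mem hx (P.inv_mem (P.pow_mem B.hw j)))).pow_left j).symm
  have h5 : Commute (x * (w ^ j)⁻¹) (y * a ^ j) := mul_inv_eq_iff_eq_mul.1 h4
  have h6 := h5.mul_right hac.inv_right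
  rwa [mul_inv_cancel_right] at h6

/-- An element centralizing `y` is a power of `y` times a central element. -/
theorem decompC (B : Bad p P z y w a) {c : Ω} (hc : c ∈ P) (hcy : Commute c y) :
    ∃ i : ℕ, ∃ k ∈ P, Commute k y ∧ Commute k w ∧ c = y ^ i * k := by
  obtain ⟨i, hi⟩ := natexp B.ap ((zpowers_le.2 (gen B.zp B.ha B.a1)) (B.comm w B.hw c hc))
  have h2 : w * c * w⁻¹ = c * a ^ i := by
    rw [← ((B.ac hc).pow_left i).eq, ← hi]
    group
  refine ⟨i, (y ^ i)⁻¹ * c, P.mul_mem (P.inv_mem (P.pow_mem B.hy i)) hc,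
    (Commute.pow_left (Commute.refl y) i).inv_left.mul_left hcy, ?_, by group⟩
  refine Commute.symm (mul_inv_eq_iff_eq_mul.1 ?_)
  have h1 : w * y ^ i * w⁻¹ = y ^ i * a ^ i := by
    rw [← conj_pow, B.wy, (B.ac B.hy).symm.mul_pow]
  calc w * ((y ^ i)⁻¹ * c) * w⁻¹ = (w * y ^ i * w⁻¹)⁻¹ * (w * c * w⁻¹) := by group
    _ = (a ^ i)⁻¹ * ((y ^ i)⁻¹ * c) * a ^ i := by rw [h1, h2]; group
    _ = (y ^ i)⁻¹ * c := by
      rw [mul_assoc, ← ((B.ac (P.mul_mem (P.inv_mem (P.pow_mem B.hy i)) hc)).pow_left i).eq,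
        ← mul_assoc, inv_mul_cancel, one_mul]

theorem dvd_of_y_commute (B : Bad p P z y w a) {i : ℤ} (h : Commute (y ^ i) w) :
    (p : ℤ) ∣ i := by
  refine B.dvd_of_a_zpow ?_
  have h1 : w * y ^ i * w⁻¹ = y ^ i * a ^ i := by
    rw [← conj_zpow, B.wy, (B.ac B.hy).symm.mul_zpow]
  rw [← h.eq, mul_inv_cancel_right] at h1
  exact mul_left_cancel (a := y ^ i) (by rw [← h1, mul_one])

/-- Centralizing both `y` and `w` forces the exponents to vanish. -/
theorem triv (B : Bad p P z y w a) {i k j : ℤ} (hy' : Commute (y ^ i * z ^ k * w ^ j) y)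
    (hw' : Commute (y ^ i * z ^ k * w ^ j) w) : (p : ℤ) ∣ i ∧ (p : ℤ) ∣ j := by
  have hj : (p : ℤ) ∣ j := by
    refine B.dvd_of_commute ?_
    have h := (((Commute.refl y).zpow_left i).mul_left
      ((B.zc y B.hy).zpow_left k)).inv_left.mul_left hy'
    rwa [inv_mul_cancel_left] at h
  refine ⟨B.dvd_of_y_commute ?_, hj⟩
  have h := hw'.mul_left (((B.zc w B.hw).zpow_left k).mul_left
    ((Commute.refl w).zpow_left j)).inv_left
  have e : y ^ i * z ^ k * w ^ j * (z ^ k * w ^ j)⁻¹ = y ^ i := by group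
  rwa [e] at h

theorem y_zpow_eq_one (B : Bad p P z y w a) {i : ℤ} (hi : (p : ℤ) ∣ i) : y ^ i = 1 := by
  obtain ⟨k, rfl⟩ := hi
  rw [zpow_mul, zpow_natCast, B.yp, one_zpow]

/-- The nonabelian subgroup `⟨y, w⟩`. -/
def core (z y w : Ω) : Subgroup Ω := (zpowers y ⊔ zpowers z) ⊔ zpowers w

theorem mem_core [Finite P] (B : Bad p P z y w a) {x : Ω} :
    x ∈ core z y w ↔ ∃ i k j : ℤ, x = y ^ i * z ^ k * w ^ j := by
  constructor
  · intro hx
    have hzy : zpowers z ≤ normalizer ((zpowers y : Subgroup Ω) : Set Ω) :=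
      zpowers_le.2 (centralizer_le_normalizer _ (fun e he => by
        obtain ⟨i, rfl⟩ := mem_zpowers_iff.1 he
        exact ((B.zc y B.hy).zpow_right i).symm.eq))
    have hmem : ∀ e ∈ zpowers y ⊔ zpowers z, ∃ i k : ℤ, e = y ^ i * z ^ k := by
      intro e he
      rw [← SetLike.mem_coe, coe_mul_of_right_le_normalizer_left _ _ hzy] at he
      obtain ⟨u, hu, v, hv, rfl⟩ := Set.mem_mul.1 he
      obtain ⟨i, rfl⟩ := mem_zpowers_iff.1 hu
      obtain ⟨k, rfl⟩ := mem_zpowers_iff.1 hv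
      exact ⟨i, k, rfl⟩
    haveI : Finite (zpowers y ⊔ zpowers z : Subgroup Ω) :=
      Finite.of_injective (inclusion (sup_le (zpowers_le.2 B.hy) (zpowers_le.2 B.hz)))
        (inclusion_injective _)
    have hwn : zpowers w ≤ normalizer ((zpowers y ⊔ zpowers z : Subgroup Ω) : Set Ω) := by
      refine zpowers_le.2 (CfsgLib.Fusion.mem_normalizer_of_conj_mem fun e he => ?_)
      obtain ⟨i, k, rfl⟩ := hmem e he
      have h1 : w * (y ^ i * z ^ k) * w⁻¹ = (w * y * w⁻¹) ^ i * z ^ k := by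
        rw [conj_zpow, mul_assoc w, mul_assoc (y ^ i), ((B.zc _ (P.inv_mem B.hw)).zpow_left k).eq]
        group
      rw [h1, B.wy]
      refine mul_mem (zpow_mem (mul_mem (mem_sup_left (mem_zpowers y)) (mem_sup_right B.ha)) i)
        (zpow_mem (mem_sup_right (mem_zpowers z)) k)
    rw [core, ← SetLike.mem_coe, coe_mul_of_right_le_normalizer_left _ _ hwn] at hx
    obtain ⟨u, hu, v, hv, rfl⟩ := Set.mem_mul.1 hx
    obtain ⟨i, k, rfl⟩ := hmem u hu
    obtain ⟨j, rfl⟩ := mem_zpowers_iff.1 hv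
    exact ⟨i, k, j, rfl⟩
  · rintro ⟨i, k, j, rfl⟩
    exact mul_mem (mem_sup_left (mul_mem (mem_sup_left (zpow_mem (mem_zpowers y) i))
      (mem_sup_right (zpow_mem (mem_zpowers z) k)))) (mem_sup_right (zpow_mem (mem_zpowers w) j))

theorem core_le (B : Bad p P z y w a) : core z y w ≤ P :=
  sup_le (sup_le (zpowers_le.2 B.hy) (zpowers_le.2 B.hz)) (zpowers_le.2 B.hw)

theorem card_core [Finite P] (B : Bad p P z y w a) : Nat.card (core z y w) = p ^ 3 := by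
  have hop : orderOf z = p := orderOf_eq_prime B.zp B.z1
  let f : Fin p × Fin p × Fin p → core z y w := fun t =>
    ⟨y ^ ((t.1 : ℕ) : ℤ) * z ^ ((t.2.1 : ℕ) : ℤ) * w ^ ((t.2.2 : ℕ) : ℤ),
      B.mem_core.2 ⟨_, _, _, rfl⟩⟩
  have eqfin : ∀ u v : Fin p, (p : ℤ) ∣ ((u : ℕ) : ℤ) - ((v : ℕ) : ℤ) → u = v := by
    intro u v h
    have hu := u.2
    have hv := v.2
    have := Int.eq_zero_of_dvd_of_natAbs_lt_natAbs h (by omega)
    exact Fin.ext (by omega)
  have hinj : Function.Injective f := by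
    rintro ⟨i, k, j⟩ ⟨i', k', j'⟩ h
    have h' : y ^ ((i : ℕ) : ℤ) * z ^ ((k : ℕ) : ℤ) * w ^ ((j : ℕ) : ℤ) =
        y ^ ((i' : ℕ) : ℤ) * z ^ ((k' : ℕ) : ℤ) * w ^ ((j' : ℕ) : ℤ) := congrArg Subtype.val h
    have h1 : w ^ (((j : ℕ) : ℤ) - ((j' : ℕ) : ℤ)) = (y ^ ((i : ℕ) : ℤ) * z ^ ((k : ℕ) : ℤ))⁻¹ *
        (y ^ ((i' : ℕ) : ℤ) * z ^ ((k' : ℕ) : ℤ)) := by
      rw [zpow_sub, eq_inv_mul_iff_mul_eq, ← mul_assoc, h', mul_inv_cancel_right]
    obtain rfl : j = j' := eqfin j j' (B.dvd_of_commute (h1 ▸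
      (((Commute.refl y).zpow_left _).mul_left ((B.zc y B.hy).zpow_left _)).inv_left.mul_left
      (((Commute.refl y).zpow_left _).mul_left ((B.zc y B.hy).zpow_left _))))
    have h2 := mul_right_cancel h'
    have h3 : y ^ (((i : ℕ) : ℤ) - ((i' : ℕ) : ℤ)) =
        z ^ (((k' : ℕ) : ℤ) - ((k : ℕ) : ℤ)) := by
      rw [zpow_sub z, eq_mul_inv_iff_mul_eq, sub_eq_neg_add, zpow_add, mul_assoc, h2, zpow_neg,
        inv_mul_cancel_left]
    obtain rfl : i = i' := eqfin i i' (B.dvd_of_y_commute (h3 ▸ (B.zc w B.hw).zpow_left _))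
    rw [sub_self, zpow_zero] at h3
    have h4 := orderOf_dvd_iff_zpow_eq_one.2 h3.symm
    rw [hop] at h4
    obtain rfl : k' = k := eqfin k' k h4
    rfl
  have hsurj : Function.Surjective f := by
    rintro ⟨x, hx⟩
    obtain ⟨i, k, j, rfl⟩ := B.mem_core.1 hx
    have hp0 : (p : ℤ) ≠ 0 := by exact_mod_cast hp.out.ne_zero
    obtain ⟨n, hn⟩ := mem_zpowers_iff.1 (B.w_pow_y_comm (j := (p : ℤ) * (j / p)) ⟨_, rfl⟩)
    have fin : ∀ e : ℤ, ∃ u : Fin p, ((u : ℕ) : ℤ) = e % p := fun e => by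
      have h0 := Int.emod_nonneg e hp0
      have h1 := Int.emod_lt_of_pos e (b := (p : ℤ)) (by exact_mod_cast hp.out.pos)
      exact ⟨⟨(e % p).toNat, by omega⟩, Int.toNat_of_nonneg h0⟩
    obtain ⟨ui, hui⟩ := fin i
    obtain ⟨uk, huk⟩ := fin (k + n)
    obtain ⟨uj, huj⟩ := fin j
    refine ⟨(ui, uk, uj), Subtype.ext ?_⟩
    show y ^ ((ui : ℕ) : ℤ) * z ^ ((uk : ℕ) : ℤ) * w ^ ((uj : ℕ) : ℤ) = y ^ i * z ^ k * w ^ j
    rw [hui, huk, huj, ← zpow_eq_zpow_emod' i B.yp, ← zpow_eq_zpow_emod' (k + n) B.zp]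
    conv_rhs => rw [show j = (p : ℤ) * (j / p) + j % p from (Int.mul_ediv_add_emod j p).symm,
      zpow_add, ← hn]
    rw [zpow_add]
    group
  rw [← Nat.card_congr (Equiv.ofBijective f ⟨hinj, hsurj⟩)]
  simp [Nat.card_prod]
  ring

/-- `P ≅ E × A`. -/
theorem exists_split [Finite P] (B : Bad p P z y w a) :
    ∃ A : Subgroup Ω, (∀ u ∈ A, u ^ p = 1) ∧ (∀ u ∈ A, ∀ v ∈ A, Commute u v) ∧
      Nonempty (↥P ≃* ↥(core z y w) × ↥A) := by
  set K : Subgroup Ω := P ⊓ centralizer {y, w} with hK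
  have hKy : ∀ c ∈ K, Commute c y := fun c hc =>
    (hc.2 y (Set.mem_insert _ _) : y * c = c * y).symm
  have hKw : ∀ c ∈ K, Commute c w := fun c hc =>
    (hc.2 w (Set.mem_insert_of_mem _ rfl) : w * c = c * w).symm
  have hKc : ∀ c ∈ K, ∀ x ∈ P, Commute c x := by
    intro c hc x hx
    obtain ⟨d, hd, hdy, j, rfl⟩ := B.decomp hx
    exact (B.cc c hc.1 d hd (hKy c hc) hdy).mul_right ((hKw c hc).pow_right j)
  let s : Set (Subgroup Ω) := {A | A ≤ K ∧ A ⊓ zpowers z = ⊥}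
  have hfin : s.Finite := (CfsgLib.Fusion.finite_subgroups_le (S := P)).subset
    fun A hA => le_trans hA.1 inf_le_left
  obtain ⟨A, ⟨⟨hAK, hAZ⟩, hmax⟩⟩ := hfin.exists_maximal ⟨⊥, bot_le, bot_inf_eq _⟩
  have hAc : ∀ u ∈ A, ∀ x ∈ P, Commute u x := fun u hu => hKc u (hAK hu)
  have hgen : ∀ k ∈ K, ∃ t : ℤ, ∃ u ∈ A, k = z ^ t * u := by
    intro k hk
    by_cases hkA : k ∈ A
    · exact ⟨0, k, hkA, by simp⟩
    have hn : zpowers k ≤ normalizer (A : Set Ω) :=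
      zpowers_le.2 (centralizer_le_normalizer _ fun u hu => (hAc u hu k hk.1).eq)
    have hA' : ¬ (A ⊔ zpowers k) ⊓ zpowers z = ⊥ := fun h =>
      hkA (hmax ⟨sup_le hAK (zpowers_le.2 hk), h⟩ le_sup_left (mem_sup_right (mem_zpowers k)))
    obtain ⟨e, he, he1⟩ : ∃ e : Ω, e ∈ (A ⊔ zpowers k) ⊓ zpowers z ∧ e ≠ 1 := by
      by_contra h
      push Not at h
      exact hA' ((eq_bot_iff_forall _).2 h)
    have hm : e ∈ A ⊔ zpowers k := he.1
    rw [← SetLike.mem_coe, coe_mul_of_right_le_normalizer_left _ _ hn] at hm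
    obtain ⟨u, hu, v, hv, huv⟩ := Set.mem_mul.1 hm
    obtain ⟨n, rfl⟩ := natexp (B.cp k hk.1 (hKy k hk)) hv
    have hn' : ¬ p ∣ n := by
      rintro ⟨m, rfl⟩
      simp only [pow_mul, B.cp k hk.1 (hKy k hk), one_pow, mul_one] at huv
      have : (e : Ω) ∈ A ⊓ zpowers z := ⟨huv ▸ hu, he.2⟩
      rw [hAZ, mem_bot] at this
      exact he1 this
    have ho : orderOf k = p := orderOf_eq_prime (B.cp k hk.1 (hKy k hk))
      fun h => hkA (h ▸ A.one_mem)
    obtain ⟨m, hm⟩ := exists_pow_eq_self_of_coprime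
      (show n.Coprime (orderOf k) by
        rw [ho]; exact ((Nat.Prime.coprime_iff_not_dvd hp.out).2 hn').symm)
    obtain ⟨t, ht⟩ := mem_zpowers_iff.1 he.2
    have hk' : k ^ n = u⁻¹ * z ^ t := by rw [ht, ← huv, inv_mul_cancel_left]
    refine ⟨t * m, (u⁻¹) ^ m, A.pow_mem (A.inv_mem hu) m, ?_⟩
    have hcu : Commute u⁻¹ (z ^ t) :=
      ((hAc u hu z B.hz).zpow_right t).inv_left
    rw [← hm, hk', hcu.mul_pow, (hcu.pow_pow m m).eq, zpow_mul, zpow_natCast]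
  refine ⟨A, fun u hu => B.cp u (hAK hu).1 (hKy u (hAK hu)),
    fun u hu v hv => hAc u hu v (hAK hv).1, ?_⟩
  let φ : ↥(core z y w) × ↥A →* ↥P :=
    { toFun := fun t => ⟨(t.1 : Ω) * t.2, P.mul_mem (B.core_le t.1.2) (hAK t.2.2).1⟩
      map_one' := by ext; simp
      map_mul' := fun t t' => by
        ext
        show (t.1 : Ω) * t'.1 * ((t.2 : Ω) * t'.2) = (t.1 : Ω) * t.2 * ((t'.1 : Ω) * t'.2)
        rw [mul_assoc, mul_assoc, ← mul_assoc (t'.1 : Ω), ← (hAc _ t.2.2 _ (B.core_le t'.1.2)).eq,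
          mul_assoc] }
  refine ⟨(MulEquiv.ofBijective φ ⟨(injective_iff_map_eq_one φ).2 ?_, ?_⟩).symm⟩
  · rintro ⟨e, u⟩ h
    have h' : (e : Ω) * u = 1 := congrArg Subtype.val h
    have heA : (e : Ω) ∈ A := by
      rw [eq_inv_of_mul_eq_one_left h']
      exact A.inv_mem u.2
    obtain ⟨i, k, j, he⟩ := B.mem_core.1 e.2
    have heK := hAK heA
    rw [he] at heK
    obtain ⟨hi, hj⟩ := B.triv (hKy _ heK) (hKw _ heK)
    have hez : (e : Ω) ∈ A ⊓ zpowers z := ⟨heA, by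
      rw [he, B.y_zpow_eq_one hi, one_mul]
      exact mul_mem (zpow_mem (mem_zpowers z) k) (B.w_pow_y_comm hj)⟩
    rw [hAZ, mem_bot] at hez
    rw [hez, one_mul] at h'
    exact Prod.ext (Subtype.ext hez) (Subtype.ext h')
  · rintro ⟨x, hx⟩
    obtain ⟨c, hc, hcy, j, rfl⟩ := B.decomp hx
    obtain ⟨i, k, hk, hky, hkw, rfl⟩ := B.decompC hc hcy
    have hkK : k ∈ K := ⟨hk, by
      rintro e (rfl | rfl)
      · exact hky.symm.eq
      · exact hkw.symm.eq⟩
    obtain ⟨t, u, hu, rfl⟩ := hgen k hkK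
    refine ⟨(⟨y ^ (i : ℤ) * z ^ t * w ^ (j : ℤ), B.mem_core.2 ⟨_, _, _, rfl⟩⟩, ⟨u, hu⟩),
      Subtype.ext ?_⟩
    show y ^ (i : ℤ) * z ^ t * w ^ (j : ℤ) * u = _
    rw [zpow_natCast, zpow_natCast, mul_assoc (y ^ i * z ^ t),
      ← (hAc u hu _ (P.pow_mem B.hw j)).eq]
    group

theorem core_dihedral [Finite P] (B : Bad 2 P z y w a) :
    Nonempty (↥(core z y w) ≃* DihedralGroup 4) := by
  haveI : Fact (Nat.Prime 2) := ⟨Nat.prime_two⟩
  haveI : Finite (core z y w) :=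
    Finite.of_injective (inclusion B.core_le) (inclusion_injective _)
  have hyy : y * y = 1 := by rw [← pow_two]; exact B.yp
  have hyinv : y⁻¹ = y := inv_eq_of_mul_eq_one_right hyy
  have hnwy : ¬ Commute w y := fun h => B.a1 <| by
    have := B.wy
    rw [h.eq, mul_inv_cancel_right] at this
    exact mul_left_cancel (a := y) (by rw [← this, mul_one])
  have hcard : Nat.card (core z y w) = 2 * 4 := B.card_core
  have hzmem : ∀ e ∈ zpowers z, e ≠ 1 → e = z := fun e he h1 => by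
    obtain ⟨n, rfl⟩ := natexp B.zp he
    rcases Nat.even_or_odd n with ⟨m, rfl⟩ | ⟨m, rfl⟩
    · exact absurd (by rw [← two_mul, pow_mul, B.zp, one_pow]) h1
    · rw [pow_add, pow_mul, B.zp, one_pow, one_mul, pow_one]
  have main : ∀ c : Ω, c ∈ core z y w → c ^ 2 ≠ 1 → c ^ 4 = 1 → ¬ Commute c y →
      y * c * y⁻¹ = c⁻¹ → Nonempty (↥(core z y w) ≃* DihedralGroup 4) := by
    intro c hc h2 h4 hn hinv
    refine CfsgLib.Dickson.equiv_dihedral (c := ⟨c, hc⟩)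
      (g := ⟨y, mem_sup_left (mem_sup_left (mem_zpowers y))⟩) ?_ hcard (Subtype.ext hyy) ?_
      (Subtype.ext hinv)
    · rw [← Subgroup.orderOf_coe]
      exact orderOf_eq_prime_pow (p := 2) (n := 1) (by simpa using h2) (by simpa using h4)
    · intro h
      obtain ⟨i, hi⟩ := mem_zpowers_iff.1 h
      refine hn ?_
      have : c ^ i = y := congrArg Subtype.val hi
      rw [← this]
      exact (Commute.refl c).zpow_right i
  have hcy : y ∈ core z y w := mem_sup_left (mem_sup_left (mem_zpowers y))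
  have hcw : w ∈ core z y w := mem_sup_right (mem_zpowers w)
  have hwy' : w * y = y * a * w := by rw [← B.wy]; group
  by_cases hw2 : w ^ 2 = 1
  · have hww : w * w = 1 := by rw [← pow_two]; exact hw2
    have hsq : (y * w) ^ 2 = a := by
      calc (y * w) ^ 2 = y * (w * y) * w := by rw [pow_two]; group
        _ = (y * y) * a * (w * w) := by rw [hwy']; group
        _ = a := by rw [hyy, hww, one_mul, mul_one]
    refine main (y * w) (mul_mem hcy hcw) (by rw [hsq]; exact B.a1) ?_ ?_ ?_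
    · rw [show (4 : ℕ) = 2 * 2 from rfl, pow_mul, hsq, B.ap]
    · intro h
      refine hnwy ?_
      have := (Commute.refl y).inv_left.mul_left h
      rwa [inv_mul_cancel_left] at this
    · rw [mul_inv_rev, hyinv, inv_eq_of_mul_eq_one_right hww, ← mul_assoc, hyy, one_mul]
  · have hwa : w ^ 2 = a := by
      rw [hzmem _ (B.pow w B.hw) hw2, hzmem a B.ha B.a1]
    refine main w hcw hw2 ?_ hnwy ?_
    · rw [show (4 : ℕ) = 2 * 2 from rfl, pow_mul, hwa, B.ap]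
    · have h1 : y * w * y⁻¹ = a * w := by
        rw [hyinv, mul_assoc, hwy', ← mul_assoc, ← mul_assoc, hyy, one_mul]
      rw [h1]
      refine eq_inv_of_mul_eq_one_left ?_
      rw [mul_assoc, ← pow_two, hwa, ← pow_two, B.ap]

theorem core_extraspecial [Finite P] (B : Bad p P z y w a) (hPp : IsPGroup p P) :
    Cfsg.IsExtraspecial p ↥(core z y w) := by
  set E := core z y w with hE
  haveI : Finite E := Finite.of_injective (inclusion B.core_le) (inclusion_injective _)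
  have hzE : z ∈ E := mem_sup_left (mem_sup_right (mem_zpowers z))
  have hyE : y ∈ E := mem_sup_left (mem_sup_left (mem_zpowers y))
  have hwE : w ∈ E := mem_sup_right (mem_zpowers w)
  set Z₀ : Subgroup E := zpowers ⟨z, hzE⟩ with hZ₀
  have hmemZ : ∀ e : E, (e : Ω) ∈ zpowers z → e ∈ Z₀ := by
    intro e he
    obtain ⟨n, hn⟩ := mem_zpowers_iff.1 he
    exact mem_zpowers_iff.2 ⟨n, Subtype.ext hn⟩
  have hpE : IsPGroup p E := hPp.to_le B.core_le
  have hcen : center E = Z₀ := by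
    refine le_antisymm (fun e he => hmemZ e ?_) (zpowers_le.2 ?_)
    · obtain ⟨i, k, j, hx⟩ := B.mem_core.1 e.2
      have h1 : ∀ v : E, Commute (e : Ω) v := fun v =>
        (congrArg Subtype.val (mem_center_iff.1 he v)).symm
      have hy' := h1 ⟨y, hyE⟩
      have hw' := h1 ⟨w, hwE⟩
      rw [hx] at hy' hw'
      obtain ⟨hi, hj⟩ := B.triv hy' hw'
      rw [hx, B.y_zpow_eq_one hi, one_mul]
      exact mul_mem (zpow_mem (mem_zpowers z) k) (B.w_pow_y_comm hj)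
    · exact mem_center_iff.2 fun v => Subtype.ext (B.zc v (B.core_le v.2)).eq.symm
  have hcle : commutator E ≤ Z₀ := by
    rw [commutator_eq_closure, closure_le]
    rintro _ ⟨u, v, rfl⟩
    refine hmemZ _ ?_
    simpa [commutatorElement_def] using B.comm u (B.core_le u.2) v (B.core_le v.2)
  have hazE : a ∈ E := zpowers_le.2 hzE B.ha
  have hcge : Z₀ ≤ commutator E := by
    have hA : (⟨a, hazE⟩ : E) ∈ commutator E := by
      have h := commutator_mem_commutator (mem_top (⟨w, hwE⟩ : E)) (mem_top (⟨y, hyE⟩ : E))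
      have e : ⁅(⟨w, hwE⟩ : E), (⟨y, hyE⟩ : E)⁆ = ⟨a, hazE⟩ := by
        apply Subtype.ext
        show w * y * w⁻¹ * y⁻¹ = a
        rw [B.wy, ← (B.ac B.hy).eq, mul_inv_cancel_right]
      rw [e] at h
      exact h
    refine zpowers_le.2 ?_
    obtain ⟨n, hn⟩ := mem_zpowers_iff.1 (gen B.zp B.ha B.a1)
    rw [show (⟨z, hzE⟩ : E) = (⟨a, hazE⟩ : E) ^ n from Subtype.ext hn.symm]
    exact zpow_mem hA n
  have hfle : frattini E ≤ Z₀ := CfsgLib.Core.frattini_le_of_elementary (p := p) hcle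
    fun x => hmemZ _ (by simpa using B.pow x (B.core_le x.2))
  refine ⟨⟨hpE, ?_, ?_⟩, ?_⟩
  · rw [hcen]
    exact le_antisymm hfle (hcge.trans (CfsgLib.Core.pgroup_commutator_le_frattini hpE))
  · rw [hcen]
    exact le_antisymm hcle hcge
  · rw [hcen, hZ₀, Nat.card_zpowers, ← Subgroup.orderOf_coe]
    exact orderOf_eq_prime B.zp B.z1

theorem core_exponent [Finite P] (B : Bad p P z y w a) (hp2 : p ≠ 2) (hw : w ^ p = 1) :
    Monoid.exponent ↥(core z y w) = p := by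
  have hpow : ∀ x ∈ core z y w, x ^ p = 1 := by
    intro x hx
    obtain ⟨i, k, j, rfl⟩ := B.mem_core.1 hx
    set c := y ^ i * z ^ k with hc
    have hcP : c ∈ P := P.mul_mem (P.zpow_mem B.hy i) (P.zpow_mem B.hz k)
    have hjP : w ^ j ∈ P := P.zpow_mem B.hw j
    have hcm := B.comm _ hjP _ hcP
    rw [← commutatorElement_def] at hcm
    have hcomm : ∀ v ∈ P, Commute ⁅w ^ j, c⁆ v := fun v hv => by
      obtain ⟨n, hn⟩ := mem_zpowers_iff.1 hcm
      rw [← hn]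
      exact (B.zc v hv).zpow_left n
    rw [CfsgLib.Core.mul_pow_of_central (hcomm c hcP) (hcomm _ hjP),
      hc, ((B.zc _ (P.zpow_mem B.hy i)).zpow_left k).symm.mul_pow,
      ← zpow_natCast (y ^ i), ← zpow_mul, mul_comm i, zpow_mul, zpow_natCast, B.yp, one_zpow,
      ← zpow_natCast (z ^ k), ← zpow_mul, mul_comm k, zpow_mul, zpow_natCast, B.zp, one_zpow,
      ← zpow_natCast (w ^ j), ← zpow_mul, mul_comm j, zpow_mul, zpow_natCast, hw, one_zpow,
      one_mul, one_mul, one_mul]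
    obtain ⟨n, hn⟩ := natexp B.zp hcm
    obtain ⟨m, hm⟩ := hp.out.dvd_choose_self two_ne_zero
      (lt_of_le_of_ne hp.out.two_le (Ne.symm hp2))
    rw [hn, hm, ← pow_mul, mul_comm n, mul_assoc, pow_mul, B.zp, one_pow]
  have hdvd : Monoid.exponent ↥(core z y w) ∣ p :=
    Monoid.exponent_dvd_of_forall_pow_eq_one fun x => Subtype.ext (by simpa using hpow x x.2)
  refine (hp.out.eq_one_or_self_of_dvd _ hdvd).resolve_left fun h1 => ?_
  haveI := Monoid.exp_eq_one_iff.1 h1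
  have := B.card_core
  rw [Nat.card_of_subsingleton (1 : core z y w)] at this
  exact (Nat.one_lt_pow (by norm_num) hp.out.one_lt).ne this

end Bad

end CfsgLib.GenExtraspecial
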