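import Cfsg.Agent.Lib.ZStarRankOne
import Cfsg.Agent.Lib.StableZJ
import Cfsg.Agent.Lib.StableReplace

/-!
# Central elements in groups with central Sylow intersections
-/

set_option autoImplicit false
set_option linter.style.haveILetI false

namespace CfsgLib.DStarCI

open CfsgLib.Core CfsgLib.Stable

variable {G : Type*} [Group G]

theorem involution_unique {C : Type*} [Group C] [Finite C] [IsCyclic C] {a b : C}
    (ha : orderOf a = 2) (hb : orderOf b = 2) : a = b := by
  classical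
  haveI := Fintype.ofFinite C
  have h := IsCyclic.card_orderOf_eq_totient (α := C) (d := 2) (ha ▸ orderOf_dvd_card)
  rw [Nat.totient_two, Finset.card_eq_one] at h
  obtain ⟨x, hx⟩ := h
  have h1 : ∀ y : C, orderOf y = 2 → y = x := fun y hy => by
    have : y ∈ ({x} : Finset C) := hx ▸ Finset.mem_filter.2 ⟨Finset.mem_univ y, hy⟩
    simpa using this
  rw [h1 a ha, h1 b hb]

theorem conj_eq_of_ci [Finite G] [Fact (Nat.Prime 2)]
    (hCI : ∀ S T : Sylow 2 G, S ≠ T → ∃ U : Sylow 2 G,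
      (S : Subgroup G) ⊓ (T : Subgroup G) ≤
        (Subgroup.center ↥(U : Subgroup G)).map (U : Subgroup G).subtype)
    (S : Sylow 2 G) {c : G} (hcS : c ∈ Subgroup.centralizer ((S : Subgroup G) : Set G))
    (hc : c ∈ (S : Subgroup G))
    (hfix : ∀ n ∈ Subgroup.normalizer ((S : Subgroup G) : Set G), n * c * n⁻¹ = c) :
    ∀ g : G, g * c * g⁻¹ ∈ (S : Subgroup G) → g * c * g⁻¹ = c := by
  have hcoe : ∀ g : G, ((g • S : Sylow 2 G) : Subgroup G) =
      (S : Subgroup G).map (MulAut.conj g).toMonoidHom := fun g => Sylow.coe_subgroup_smul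
  have hmem : ∀ (g y : G), y ∈ ((g • S : Sylow 2 G) : Subgroup G) ↔
      g⁻¹ * y * g ∈ (S : Subgroup G) := by
    intro g y
    rw [hcoe]
    constructor
    · rintro ⟨x, hx, rfl⟩
      show g⁻¹ * (g * x * g⁻¹) * g ∈ _
      rwa [show g⁻¹ * (g * x * g⁻¹) * g = x by group]
    · intro h
      exact ⟨_, h, by show g * (g⁻¹ * y * g) * g⁻¹ = y; group⟩
  have key : ∀ n : ℕ, ∀ g h : G,
      Nat.card (S : Subgroup G) ≤
        Nat.card ↥(((g • S : Sylow 2 G) : Subgroup G) ⊓ ((h • S : Sylow 2 G) : Subgroup G)) + n →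
      h * c * h⁻¹ ∈ ((g • S : Sylow 2 G) : Subgroup G) → g * c * g⁻¹ = h * c * h⁻¹ := by
    intro n
    induction n using Nat.strong_induction_on with
    | h n ih =>
    intro g h hn hh
    by_cases hgh : (g • S : Sylow 2 G) = h • S
    · have hN : h⁻¹ * g ∈ Subgroup.normalizer ((S : Subgroup G) : Set G) := by
        apply Sylow.smul_eq_iff_mem_normalizer.1
        rw [mul_smul, hgh, inv_smul_smul]
      have h1 := hfix _ hN
      calc g * c * g⁻¹ = h * (h⁻¹ * g * c * (h⁻¹ * g)⁻¹) * h⁻¹ := by group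
        _ = _ := by rw [h1]
    obtain ⟨U, hU⟩ := hCI _ _ hgh
    obtain ⟨D, hD⟩ : ∃ D, D = ((g • S : Sylow 2 G) : Subgroup G) ⊓ ((h • S : Sylow 2 G) : Subgroup G) :=
      ⟨_, rfl⟩
    rw [← hD] at hU hn
    have hUD : (U : Subgroup G) ≤ Subgroup.centralizer (D : Set G) := by
      intro x hx
      rw [Subgroup.mem_centralizer_iff]
      intro d hd
      obtain ⟨z, hz, rfl⟩ := hU hd
      exact congrArg Subtype.val (Subgroup.mem_center_iff.1 hz ⟨x, hx⟩).symm
    have hUN : (U : Subgroup G) ≤ Subgroup.normalizer (D : Set G) :=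
      hUD.trans (Subgroup.centralizer_le_normalizer _)
    have hDlt : D < ((g • S : Sylow 2 G) : Subgroup G) := by
      refine lt_of_le_of_ne (hD.le.trans inf_le_left) fun e => hgh ?_
      have hle : ((g • S : Sylow 2 G) : Subgroup G) ≤ ((h • S : Sylow 2 G) : Subgroup G) :=
        e ▸ (hD.le.trans inf_le_right)
      exact Sylow.ext ((g • S : Sylow 2 G).3 (h • S : Sylow 2 G).2 hle).symm
    obtain ⟨a, haS, haD, haN⟩ := exists_normalizer_gt (p := 2) hDlt (g • S : Sylow 2 G).2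
    obtain ⟨A, hA⟩ : ∃ A, A = D ⊔ Subgroup.zpowers a := ⟨_, rfl⟩
    have hAg : A ≤ ((g • S : Sylow 2 G) : Subgroup G) :=
      hA ▸ sup_le hDlt.le (Subgroup.zpowers_le.2 haS)
    have hAN : A ≤ Subgroup.normalizer (D : Set G) :=
      hA ▸ sup_le Subgroup.le_normalizer (Subgroup.zpowers_le.2 haN)
    -- a conjugate of `U` in the normalizer containing `A`
    obtain ⟨u, hu⟩ := MulAction.exists_smul_eq G S U
    obtain ⟨T, hT⟩ := (((g • S : Sylow 2 G).2.to_le hAg).comap_of_injective _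
      (Subgroup.subtype_injective (Subgroup.normalizer (D : Set G)))).exists_le_sylow
    obtain ⟨m, hm⟩ := MulAction.exists_smul_eq ↥(Subgroup.normalizer (D : Set G)) (U.subtype hUN) T
    obtain ⟨v, hv⟩ : ∃ v, v = (m : G) * u := ⟨_, rfl⟩
    have hAv : A ≤ ((v • S : Sylow 2 G) : Subgroup G) := by
      intro x hx
      rw [hv, mul_smul, hu, Sylow.coe_subgroup_smul]
      have h1 : (⟨x, hAN hx⟩ : ↥(Subgroup.normalizer (D : Set G))) ∈
          (T : Subgroup ↥(Subgroup.normalizer (D : Set G))) := hT hx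
      rw [← hm, Sylow.coe_subgroup_smul] at h1
      obtain ⟨y, hy, hye⟩ := h1
      exact ⟨(y : G), hy, congrArg Subtype.val hye⟩
    have hcT : h * c * h⁻¹ ∈ D := by
      rw [hD]
      refine ⟨hh, (hmem h _).2 ?_⟩
      rwa [show h⁻¹ * (h * c * h⁻¹) * h = c by group]
    -- `h c h⁻¹` is central in the new Sylow subgroup
    have hcen : v⁻¹ * (h * c * h⁻¹) * v ∈ Subgroup.centralizer ((S : Subgroup G) : Set G) := by
      rw [Subgroup.mem_centralizer_iff]
      intro s hs
      have hs' : u * s * u⁻¹ ∈ (U : Subgroup G) := by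
        rw [← hu, hcoe]; exact ⟨s, hs, rfl⟩
      have hd : (m : G)⁻¹ * (h * c * h⁻¹) * m ∈ D := by
        have := (Subgroup.mem_normalizer_iff''.1 m.2 _).1 hcT
        exact this
      have hcomm := Subgroup.mem_centralizer_iff.1 (hUD hs') _ hd
      calc s * (v⁻¹ * (h * c * h⁻¹) * v)
          = u⁻¹ * ((u * s * u⁻¹) * ((m : G)⁻¹ * (h * c * h⁻¹) * m)) * u := by rw [hv]; group
        _ = u⁻¹ * (((m : G)⁻¹ * (h * c * h⁻¹) * m) * (u * s * u⁻¹)) * u := by rw [hcomm]
        _ = _ := by rw [hv]; group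
    obtain ⟨n₀, hn₀, he⟩ := Sylow.conj_eq_normalizer_conj_of_mem_centralizer S c (h⁻¹ * v) hcS
      (by rwa [show (h⁻¹ * v)⁻¹ * c * (h⁻¹ * v) = v⁻¹ * (h * c * h⁻¹) * v by group])
    have hn₀' := hfix n₀⁻¹ (Subgroup.inv_mem _ hn₀)
    rw [inv_inv] at hn₀'
    rw [hn₀'] at he
    have hvc : v * c * v⁻¹ = h * c * h⁻¹ := by
      calc v * c * v⁻¹ = v * ((h⁻¹ * v)⁻¹ * c * (h⁻¹ * v)) * v⁻¹ := by rw [he]
        _ = _ := by group
    have hle : D < A := lt_of_le_of_ne (hA ▸ le_sup_left) fun e => haD (by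
      rw [e, hA]; exact Subgroup.mem_sup_right (Subgroup.mem_zpowers a))
    have hcard1 : Nat.card D < Nat.card A := by
      refine lt_of_le_of_ne (Subgroup.card_le_of_le hle.le) fun e => hle.ne ?_
      exact Subgroup.eq_of_le_of_card_ge hle.le e.ge
    have hcard2 : Nat.card A ≤
        Nat.card ↥(((g • S : Sylow 2 G) : Subgroup G) ⊓ ((v • S : Sylow 2 G) : Subgroup G)) :=
      Subgroup.card_le_of_le (le_inf hAg hAv)
    have hcard3 : Nat.card A ≤ Nat.card (S : Subgroup G) := by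
      refine (Subgroup.card_le_of_le hAg).trans ?_
      rw [hcoe, card_conj]
    rw [← hvc]
    exact ih (n - 1) (by omega) g v (by omega) (by rw [hvc]; exact hh)
  intro g hg
  have h1 := key (Nat.card (S : Subgroup G)) 1 g (Nat.le_add_left _ _) (by rwa [one_smul])
  rw [← h1]
  group

end CfsgLib.DStarCI
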