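import Cfsg.Agent.Lib.InvolDihedral

set_option autoImplicit false

namespace CfsgLib.Invol

variable {G : Type*} [Group G]

theorem conj_mem_of_smul_eq {p : ℕ} {P Q : Sylow p G} {g : G} (h : g • Q = P) {z : G} (hz : z ∈ Q) :
    g * z * g⁻¹ ∈ P := by rw [← h]; exact ⟨z, hz, rfl⟩

theorem exists_conj_mem_sylow [Finite G] {p : ℕ} [Fact p.Prime] (P : Sylow p G) {x : G} {k : ℕ}
    (hx : orderOf x = p ^ k) : ∃ g : G, g * x * g⁻¹ ∈ P := by
  have hp : IsPGroup p (Subgroup.zpowers x) :=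
    IsPGroup.of_card (n := k) (by rw [Nat.card_zpowers, hx])
  obtain ⟨Q, hQ⟩ := hp.exists_le_sylow
  obtain ⟨g, hg⟩ := MulAction.exists_smul_eq G Q P
  exact ⟨g, conj_mem_of_smul_eq hg (hQ (Subgroup.mem_zpowers x))⟩

theorem exists_conj_mem_sylow_two [Finite G] (P : Sylow 2 G) {x : G} (hx : orderOf x = 2) :
    ∃ g : G, g * x * g⁻¹ ∈ P :=
  haveI : Fact (Nat.Prime 2) := ⟨Nat.prime_two⟩
  exists_conj_mem_sylow P (k := 1) (by rw [pow_one, hx])

theorem exists_involution_mem [Finite G] {H : Subgroup G} (h : Even (Nat.card H)) :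
    ∃ t ∈ H, orderOf t = 2 := by
  obtain ⟨t, ht⟩ := exists_orderOf_two_of_even h
  exact ⟨t, t.2, by rw [orderOf_submonoid t]; exact ht⟩

theorem exists_involution_mem_of_isPGroup [Finite G] {X : Subgroup G} (h : IsPGroup 2 X) (hX : X ≠ ⊥) :
    ∃ t ∈ X, orderOf t = 2 := by
  haveI : Fact (Nat.Prime 2) := ⟨Nat.prime_two⟩
  refine exists_involution_mem ?_
  rcases h.card_eq_or_dvd with h1 | h1
  · exact absurd (Subgroup.card_eq_one.mp h1) hX
  · exact even_iff_two_dvd.mpr h1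

theorem conj_mem_map_iff {H : Subgroup G} {g x : G} :
    x ∈ H.map (MulAut.conj g).toMonoidHom ↔ g⁻¹ * x * g ∈ H := by
  rw [Subgroup.mem_map_equiv, MulAut.conj_symm_apply]

/-- The working form of strong embedding. -/
theorem embedded_iff [Finite G] (H : Subgroup G) :
    (∀ g : G, g ∉ H → Odd (Nat.card ↥(H ⊓ H.map (MulAut.conj g).toMonoidHom))) ↔
      ∀ t ∈ H, orderOf t = 2 → ∀ g : G, g⁻¹ * t * g ∈ H → g ∈ H := by
  constructor
  · intro h t ht ho g hg
    by_contra hgH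
    have hd : orderOf t ∣ Nat.card ↥(H ⊓ H.map (MulAut.conj g).toMonoidHom) := by
      have hm : t ∈ H ⊓ H.map (MulAut.conj g).toMonoidHom := ⟨ht, conj_mem_map_iff.mpr hg⟩
      have := orderOf_dvd_natCard (⟨t, hm⟩ : ↥(H ⊓ H.map (MulAut.conj g).toMonoidHom))
      rwa [Subgroup.orderOf_mk] at this
    exact absurd ((h g hgH).of_dvd_nat hd) (by rw [ho]; decide)
  · intro h g hg
    rw [← Nat.not_even_iff_odd]
    intro hev
    obtain ⟨t, ⟨ht1, ht2⟩, ho⟩ := exists_involution_mem hev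
    exact hg (h t ht1 ho g (conj_mem_map_iff.mp ht2))

theorem le_normalizer_conj {X : Subgroup G} {g : G} (hg : g ∈ Subgroup.normalizer (X : Set G)) {x : G}
    (hx : x ∈ X) : g⁻¹ * x * g ∈ X := by
  have h := (Subgroup.mem_normalizer_iff.mp (inv_mem hg) x).mp hx
  rwa [inv_inv] at h

end CfsgLib.Invol
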