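/-
Packed tables for the Chevalley datum of type D4 (generated from the table in Def_ChevD4).
-/
import Cfsg.Prelude.Def_ChevD4
import Cfsg.Agent.Lib.LieChevTab

set_option autoImplicit false
set_option maxRecDepth 20000
set_option maxHeartbeats 4000000

namespace CfsgLib.Lie

open Cfsg.Lie

def rawD4_nx : NT := (.br 12 (.br 6 (.br 3 (.br 1 (.lf 0xa09080700050403020000000000000000000000000000) (.br 2 (.lf 0xf000c0b0007060000000403000001000000000000000000) (.lf 0x100d00000b08000600000500020000010000000000000000))) (.br 4 (.lf 0x110e00000c09000006000005000200000100000000000000) (.br 5 (.lf 0x12000e0d000a000000060000040300000001000000000000) (.lf 0x1211100f00000000000000000005040302000000000000)))) (.br 9 (.br 7 (.lf 0x141300000000000c0b000908000000000000020100000000) (.br 8 (.lf 0x1500130000000d00000b0a00070000000000030001000000) (.lf 0x1600001300000e00000c000a000700000000040000010000))) (.br 10 (.lf 0x170000001300000e0d000000090800000000050000000100) (.br 11 (.lf 0x1514000000100f00000000000008070000000302000000)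 (.lf 0x160014000011000f000000000009000700000400020000))))) (.br 18 (.br 15 (.br 13 (.lf 0x170015000012001000000000000a0008000005000300) (.br 14 (.lf 0x171600000012110000000000000a09000000050400) (.lf 0x18000000140000000011100000000c0b00000600000002))) (.br 16 (.lf 0x180000150000000012000f000d00000b000006000003) (.br 17 (.lf 0x180016000000000012000f0e00000c000000060004) (.lf 0x18170000000000001110000e0d00000000000605)))) (.br 21 (.br 19 (.lf 0x171615140000000000000000000a09080700) (.br 20 (.lf 0x1800000016150000130000000f000c0b0007) (.lf 0x1800001700140000130000100d00000b08))) (.br 22 (.lf 0x18000017001400001300110e00000c09) (.br 23 (.lf 0x18000016150000001312000e0d000a) (.lf 0x17161514001211100f00))))))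
def rawD4_c1 : NT := (.br 12 (.br 6 (.br 3 (.br 1 (.lf 0x879978977988888888888888) (.br 2 (.lf 0x787787988899889888888888) (.lf 0x978877898898988788888888))) (.br 4 (.lf 0x978877889889898878888888) (.br 5 (.lf 0x787787888988998889888888) (.lf 0x877778888888889999888888)))) (.br 9 (.br 7 (.lf 0x998888877899888888778888) (.br 8 (.lf 0x789888788798988888789888) (.lf 0x788988788789898888788988))) (.br 10 (.lf 0x988898877888998888788878) (.br 11 (.lf 0x899888998888887788877888) (.lf 0x898988989888887878878788))))) (.br 18 (.br 15 (.br 13 (.lf 0x889898898988888787887878) (.br 14 (.lf 0x888998889988888877888778) (.lf 0x898889888877888998878887))) (.br 16 (.lf 0x887889888878789889887889) (.br 17 (.lf 0x888789888887879889888789) (.lf 0x888899888888778998888877)))) (.br 21 (.br 19 (.lf 0x888888777788888888899998) (.br 20 (.lf 0x888888788877887888989989) (.lf 0x888888898878788788998897))) (.br 22 (.lf 0x888888889887878878998897) (.br 23 (.lf 0x888888888788778887989989) (.lf 0x888888888888887997897798))))))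
def rawD4_c2 : NT := (.br 12 (.br 6 (.br 3 (.br 1 (.lf 0x888888888888888888888888) (.br 2 (.lf 0x888888888888888888888888) (.lf 0x888888888888888888888888))) (.br 4 (.lf 0x888888888888888888888888) (.br 5 (.lf 0x888888888888888888888888) (.lf 0x888888888888888888888888)))) (.br 9 (.br 7 (.lf 0x888888888888888888888888) (.br 8 (.lf 0x888888888888888888888888) (.lf 0x888888888888888888888888))) (.br 10 (.lf 0x888888888888888888888888) (.br 11 (.lf 0x888888888888888888888888) (.lf 0x888888888888888888888888))))) (.br 18 (.br 15 (.br 13 (.lf 0x888888888888888888888888) (.br 14 (.lf 0x888888888888888888888888) (.lf 0x888888888888888888888888))) (.br 16 (.lf 0x888888888888888888888888) (.br 17 (.lf 0x888888888888888888888888) (.lf 0x888888888888888888888888)))) (.br 21 (.br 19 (.lf 0x888888888888888888888888) (.br 20 (.lf 0x888888888888888888888888) (.lf 0x888888888888888888888888))) (.br 22 (.lf 0x888888888888888888888888) (.br 23 (.lf 0x888888888888888888888888) (.lf 0x888888888888888888888888))))))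
def rawD4_c3 : NT := (.br 12 (.br 6 (.br 3 (.br 1 (.lf 0x888888888888888888888888) (.br 2 (.lf 0x888888888888888888888888) (.lf 0x888888888888888888888888))) (.br 4 (.lf 0x888888888888888888888888) (.br 5 (.lf 0x888888888888888888888888) (.lf 0x888888888888888888888888)))) (.br 9 (.br 7 (.lf 0x888888888888888888888888) (.br 8 (.lf 0x888888888888888888888888) (.lf 0x888888888888888888888888))) (.br 10 (.lf 0x888888888888888888888888) (.br 11 (.lf 0x888888888888888888888888) (.lf 0x888888888888888888888888))))) (.br 18 (.br 15 (.br 13 (.lf 0x888888888888888888888888) (.br 14 (.lf 0x888888888888888888888888) (.lf 0x888888888888888888888888))) (.br 16 (.lf 0x888888888888888888888888) (.br 17 (.lf 0x888888888888888888888888) (.lf 0x888888888888888888888888)))) (.br 21 (.br 19 (.lf 0x888888888888888888888888) (.br 20 (.lf 0x888888888888888888888888) (.lf 0x888888888888888888888888))) (.br 22 (.lf 0x888888888888888888888888) (.br 23 (.lf 0x888888888888888888888888) (.lf 0x888888888888888888888888))))))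
def rawD4_wt : NT := (.br 12 (.br 6 (.br 3 (.br 1 (.lf 0x100) (.br 2 (.lf 0x2030006) (.lf 0x1040207))) (.br 4 (.lf 0x4010308) (.br 5 (.lf 0x3020509) (.lf 0x5050412)))) (.br 9 (.br 7 (.lf 0x7080601) (.br 8 (.lf 0x6090a02) (.lf 0x9060b03))) (.br 10 (.lf 0x8070e04) (.br 11 (.lf 0xa0d070a) (.lf 0xc0b080b))))) (.br 18 (.br 15 (.br 13 (.lf 0xb0c0f0c) (.br 14 (.lf 0xd0a100d) (.lf 0xf100913))) (.br 16 (.lf 0xe110c14) (.br 17 (.lf 0x110e0d15) (.lf 0x100f1116)))) (.br 21 (.br 19 (.lf 0x12121305) (.br 20 (.lf 0x1415120e) (.lf 0x1316140f))) (.br 22 (.lf 0x16131510) (.br 23 (.lf 0x15141711) (.lf 0x17171617))))))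
def rawD4_et : NT := (.br 12 (.br 6 (.br 3 (.br 1 (.lf 0x2) (.br 2 (.lf 0xc) (.lf 0x4))) (.br 4 (.lf 0x8) (.br 5 (.lf 0x2) (.lf 0x1)))) (.br 9 (.br 7 (.lf 0xd) (.br 8 (.lf 0x5) (.lf 0x9))) (.br 10 (.lf 0x3) (.br 11 (.lf 0x6) (.lf 0xa))))) (.br 18 (.br 15 (.br 13 (.lf 0xa) (.br 14 (.lf 0x6) (.lf 0x3))) (.br 16 (.lf 0x9) (.br 17 (.lf 0x5) (.lf 0xd)))) (.br 21 (.br 19 (.lf 0x1) (.br 20 (.lf 0x2) (.lf 0x8))) (.br 22 (.lf 0x4) (.br 23 (.lf 0xc) (.lf 0x2))))))
def rawD4_co : NT := (.br 12 (.br 6 (.br 3 (.br 1 (.lf 0x7767) (.br 2 (.lf 0x7777) (.lf 0x8777))) (.br 4 (.lf 0x7877) (.br 5 (.lf 0x8877) (.lf 0x8887)))) (.br 9 (.br 7 (.lf 0x7778) (.br 8 (.lf 0x8778) (.lf 0x7878))) (.br 10 (.lf 0x8878) (.br 11 (.lf 0x8788) (.lf 0x7888))))) (.br 18 (.br 15 (.br 13 (.lf 0x9888) (.br 14 (.lf 0x8988) (.lf 0x8898))) (.br 16 (.lf 0x9898) (.br 17 (.lf 0x8998) (.lf 0x9998)))) (.br 21 (.br 19 (.lf 0x8889) (.br 20 (.lf 0x8899) (.lf 0x9899))) (.br 22 (.lf 0x8999) (.br 23 (.lf 0x9999) (.lf 0x99a9))))))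
def rawD4_ca : NT := (.br 12 (.br 6 (.br 3 (.br 1 (.lf 0x8878) (.br 2 (.lf 0x7797) (.lf 0x9787))) (.br 4 (.lf 0x7987) (.br 5 (.lf 0x9977) (.lf 0x8896)))) (.br 9 (.br 7 (.lf 0x7789) (.br 8 (.lf 0x9779) (.lf 0x7979))) (.br 10 (.lf 0x9969) (.br 11 (.lf 0x8698) (.lf 0x6898))))) (.br 18 (.br 15 (.br 13 (.lf 0xa878) (.br 14 (.lf 0x8a78) (.lf 0x77a7))) (.br 16 (.lf 0x9797) (.br 17 (.lf 0x7997) (.lf 0x9987)))) (.br 21 (.br 19 (.lf 0x887a) (.br 20 (.lf 0x7799) (.lf 0x9789))) (.br 22 (.lf 0x7989) (.br 23 (.lf 0x9979) (.lf 0x8898))))))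
def rawD4_cr : NT := (.br 12 (.br 6 (.br 3 (.br 1 (.lf 0x7767) (.br 2 (.lf 0x7777) (.lf 0x8777))) (.br 4 (.lf 0x7877) (.br 5 (.lf 0x8877) (.lf 0x8887)))) (.br 9 (.br 7 (.lf 0x7778) (.br 8 (.lf 0x8778) (.lf 0x7878))) (.br 10 (.lf 0x8878) (.br 11 (.lf 0x8788) (.lf 0x7888))))) (.br 18 (.br 15 (.br 13 (.lf 0x9888) (.br 14 (.lf 0x8988) (.lf 0x8898))) (.br 16 (.lf 0x9898) (.br 17 (.lf 0x8998) (.lf 0x9998)))) (.br 21 (.br 19 (.lf 0x8889) (.br 20 (.lf 0x8899) (.lf 0x9899))) (.br 22 (.lf 0x8999) (.br 23 (.lf 0x9999) (.lf 0x99a9))))))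
def rawD4 : Raw := ⟨0xc0d0e12, rawD4_nx, rawD4_c1, rawD4_c2, rawD4_c3, rawD4_wt, rawD4_et, rawD4_co, rawD4_ca, rawD4_cr⟩

theorem pos_D4 : 0 < chevD4.nroots := by decide +kernel

noncomputable def tabD4 : Tab chevD4 := rawD4.tab chevD4 pos_D4

theorem D4_link : tabD4.linkB = true := by decide +kernel

theorem D4_root : tabD4.rootB = true := by decide +kernel

theorem D4_refl : tabD4.reflB = true := by decide +kernel

theorem D4_jac : tabD4.jacB = true := by decide +kernel

theorem D4_rep : tabD4.repB = true := by decide +kernel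

theorem D4_chain0 : (((List.finRange chevD4.nroots).drop 0).take (24 - 0)).all tabD4.chainB = true := by decide +kernel

theorem D4_chain : ∀ r, tabD4.chainB r = true := by
  intro r
  have hr : r.val < 24 := r.isLt
  exact forall_fin_of_range _ _ D4_chain0 r (by omega) hr

theorem D4_sum0 : (((List.finRange chevD4.nroots).drop 0).take (24 - 0)).all tabD4.sumB = true := by decide +kernel

theorem D4_sum : ∀ r, tabD4.sumB r = true := by
  intro r
  have hr : r.val < 24 := r.isLt
  exact forall_fin_of_range _ _ D4_sum0 r (by omega) hr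

theorem D4_n0 : (List.finRange chevD4.rank)[0]?.all tabD4.nB = true := by decide +kernel

theorem D4_n1 : (List.finRange chevD4.rank)[1]?.all tabD4.nB = true := by decide +kernel

theorem D4_n2 : (List.finRange chevD4.rank)[2]?.all tabD4.nB = true := by decide +kernel

theorem D4_n3 : (List.finRange chevD4.rank)[3]?.all tabD4.nB = true := by decide +kernel

theorem D4_n : ∀ i, tabD4.nB i = true := by
  intro i
  have hi : i.val < 4 := i.isLt
  have h : ∀ k, k < 4 → (List.finRange chevD4.rank)[k]?.all tabD4.nB = true := by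
    intro k hk
    interval_cases k
    · exact D4_n0
    · exact D4_n1
    · exact D4_n2
    · exact D4_n3
  have := h i.val hi
  rw [List.getElem?_eq_getElem (by rw [List.length_finRange]; exact i.isLt)] at this
  simpa using this

theorem checkedD4 : tabD4.Checked :=
  ⟨D4_link, D4_chain, D4_root, D4_refl, D4_sum, D4_n, D4_jac, D4_rep⟩

end CfsgLib.Lie
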