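/-
Executable checks for simplicity: connectedness, generation of the roots by commutators, Coxeter element.
-/
import Cfsg.Agent.Lib.LieChevTab2

set_option autoImplicit false

namespace CfsgLib.Lie

open Cfsg.Lie

namespace Tab

variable {D : ChevalleyDatum} (T : Tab D)

/-- The two reflections do not commute. -/
def adjB (i j : Fin D.rank) : Bool :=
  (List.finRange D.nroots).any fun r => decide (T.w i (T.w j r) ≠ T.w j (T.w i r))

def reach : ℕ → List (Fin D.rank)
  | 0 => (List.finRange D.rank).take 1
  | k + 1 =>
    let R := reach k
    (List.finRange D.rank).filter fun j => R.contains j || R.any fun i => T.adjB i j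

def connB : Bool := (List.finRange D.rank).all fun j => (T.reach D.rank).contains j

def oddB (r : Fin D.nroots) : Bool :=
  (List.finRange D.rank).any fun i => decide (T.A i r % 2 ≠ 0)

/-- Roots obtained directly: as a commutator without further terms, or (if allowed) through a torus element. -/
def perf0 (odd : Bool) (r : Fin D.nroots) : Bool :=
  (odd && T.oddB r) ||
  (List.finRange D.nroots).any fun a => match T.nx (T.ng a) r with
    | none => false
    | some s => decide (T.nx a s = some r) && decide (D.commTerms a s = [(r.val, T.M 1 a s, 1, 1)]) &&
        decide ((T.M 1 a s).natAbs = 1)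

/-- `r` is the only term of the commutator of `a` and `s` not yet known, and its coefficient is `±1`. -/
def perfTerm (odd : Bool) (r a s : Fin D.nroots) : Bool :=
  (T.nx a s).isSome && decide (s ≠ a) && decide (s ≠ T.ng a) &&
    let L := D.commTerms a s
    L.any (fun c => decide (c.1 = r.val) && decide (c.2.1.natAbs = 1)) &&
      decide ((L.filter fun c => decide (c.1 = r.val)).length = 1) &&
      L.all fun e => decide (e.1 = r.val) || if h : e.1 < D.nroots then T.perf0 odd ⟨e.1, h⟩ else false

/-- Roots obtained in two steps. -/
def perf1 (odd : Bool) (r : Fin D.nroots) : Bool :=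
  T.perf0 odd r || (List.finRange D.nroots).any fun a => (List.finRange D.nroots).any fun s =>
    (match T.nx a s with
    | none => false
    | some z => decide (D.chainRoot a s 2 = some r.val) || decide (D.chainRoot s a 2 = some r.val) || decide (z = r)) &&
      T.perfTerm odd r a s

def perfB (odd : Bool) : Bool := (List.finRange D.nroots).all fun r => T.perf1 odd r

def coxPow : ℕ → Fin D.nroots → Fin D.nroots
  | 0, r => r
  | k + 1, r => (List.finRange D.rank).foldr (fun i x => T.w i x) (coxPow k r)

def coxEltB (h : ℕ) : Bool :=
  decide (0 < h) &&
  ((List.finRange D.nroots).all fun r => decide (T.coxPow h r = r)) &&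
  ((List.range h).all fun k => decide (k = 0) ||
    (List.finRange D.nroots).any fun r => decide (T.coxPow k r ≠ r))

end Tab

end CfsgLib.Lie
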