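import Cfsg.Agent.Lib.LieBN

/-!
The Weyl group of a (B,N)-pair is a Coxeter group: word lemmas.
-/

set_option autoImplicit false

namespace CfsgLib.BN

variable {G : Type*} [Group G] (P : Cfsg.BNPair G)

theorem mul_pow_reassoc {K : Type*} [Group K] (a b : K) (n : ℕ) :
    a * (b * a) ^ n = (a * b) ^ n * a :=
  (mul_pow_mul a b n).symm

/-- A matrix records the orders of products of generators modulo the torus. -/
def IsWeylMatrix (M : CoxeterMatrix P.S) : Prop :=
  ∀ (s t : P.S) (i : ℕ), Sim P (((s : G) * (t : G)) ^ i) 1 ↔ M.M s t ∣ i

/-- Value in `G` of a word in the distinguished generators. -/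
def wordVal (l : List P.S) : G := (l.map Subtype.val).prod

theorem wordVal_cons (s : P.S) (l : List P.S) : wordVal P (s :: l) = (s : G) * wordVal P l := by
  simp [wordVal]

theorem wordVal_append (l l' : List P.S) : wordVal P (l ++ l') = wordVal P l * wordVal P l' := by
  simp [wordVal]

theorem wordVal_mem (l : List P.S) : wordVal P l ∈ P.N :=
  list_prod_mem fun x hx => by
    obtain ⟨y, _, rfl⟩ := List.mem_map.1 hx
    exact mem_N P y.2

theorem over_map (l : List P.S) : Over P (l.map Subtype.val) := fun x hx => by
  obtain ⟨y, _, rfl⟩ := List.mem_map.1 hx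
  exact y.2

theorem len_wordVal_le (l : List P.S) : len P (wordVal P l) ≤ l.length := by
  simpa using len_le P (n := wordVal P l) (over_map P l) (sim_refl P _)

theorem wordVal_reverse (l : List P.S) : Sim P (wordVal P l.reverse) (wordVal P l)⁻¹ := by
  have := reverse_sim P (over_map P l)
  simpa [wordVal, List.map_reverse] using this

theorem exists_reduced_sub' {n : G} (hn : n ∈ P.N) :
    ∃ l : List P.S, l.length = len P n ∧ Sim P (wordVal P l) n := by
  obtain ⟨l, hl, hk, hs⟩ := exists_reduced P hn
  refine ⟨l.attach.map (fun x => ⟨x.1, hl x.1 x.2⟩), by simpa using hk, ?_⟩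
  simpa [wordVal, List.map_map, Function.comp_def] using hs

variable {H : Type*} [Group H] (f : P.S → H)

/-- `f` satisfies the Coxeter relations of `M`. -/
def IsLiftable (M : CoxeterMatrix P.S) : Prop := ∀ s t : P.S, (f s * f t) ^ M.M s t = 1

theorem f_sq {M : CoxeterMatrix P.S} (hf : IsLiftable P f M) (s : P.S) : f s * f s = 1 := by
  simpa [M.diagonal s] using hf s s

theorem dihedral_form {M : CoxeterMatrix P.S} (hf : IsLiftable P f M) (s t : P.S) :
    ∀ l : List P.S, (∀ x ∈ l, x = s ∨ x = t) → ∃ i : ℕ,
      ((l.map f).prod = (f s * f t) ^ i ∧ Sim P (wordVal P l) (((s : G) * t) ^ i)) ∨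
      ((l.map f).prod = (f t * f s) ^ i ∧ Sim P (wordVal P l) (((t : G) * s) ^ i)) ∨
      ((l.map f).prod = (f s * f t) ^ i * f s ∧ Sim P (wordVal P l) (((s : G) * t) ^ i * s)) ∨
      ((l.map f).prod = (f t * f s) ^ i * f t ∧ Sim P (wordVal P l) (((t : G) * s) ^ i * t)) := by
  intro l
  induction l with
  | nil => intro _; exact ⟨0, Or.inl ⟨by simp, by simpa [wordVal] using sim_refl P (1 : G)⟩⟩
  | cons x l ih =>
    intro hl
    obtain ⟨i, hi⟩ := ih fun y hy => hl y (by simp [hy])
    have step : ∀ (h : H) (g : G), (l.map f).prod = h → Sim P (wordVal P l) g →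
        ((x :: l).map f).prod = f x * h ∧ Sim P (wordVal P (x :: l)) ((x : G) * g) := by
      intro h g h1 h2
      exact ⟨by simp [h1], by rw [wordVal_cons]; exact sim_mul_left P _ h2⟩
    have hsN := mem_N P s.2
    have htN := mem_N P t.2
    rcases hl x (by simp) with rfl | rfl
    · rcases hi with ⟨h1, h2⟩ | ⟨h1, h2⟩ | ⟨h1, h2⟩ | ⟨h1, h2⟩
      all_goals obtain ⟨e1, e2⟩ := step _ _ h1 h2
      · -- x (x t)^i
        cases i with
        | zero => exact ⟨0, Or.inr (Or.inr (Or.inl ⟨by simpa using e1, by simpa using e2⟩))⟩
        | succ j =>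
          refine ⟨j, Or.inr (Or.inr (Or.inr ⟨?_, ?_⟩))⟩
          · rw [e1, pow_succ', ← mul_assoc, ← mul_assoc, f_sq P f hf, one_mul, mul_pow_reassoc]
          · refine sim_trans P e2 ?_
            rw [pow_succ', mul_assoc, mul_pow_reassoc]
            exact sim_cancel P x.2 (mul_mem (pow_mem (mul_mem htN hsN) j) htN)
      · exact ⟨i, Or.inr (Or.inr (Or.inl ⟨by rw [e1, mul_pow_reassoc], by rw [mul_pow_reassoc] at e2; exact e2⟩))⟩
      · cases i with
        | zero => exact ⟨0, Or.inl ⟨by simpa [f_sq P f hf] using e1,
            sim_trans P e2 (by simpa using sq_sim P x.2)⟩⟩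
        | succ j =>
          refine ⟨j + 1, Or.inr (Or.inl ⟨?_, ?_⟩)⟩
          · rw [e1, pow_succ', ← mul_assoc, ← mul_assoc, ← mul_assoc, f_sq P f hf, one_mul,
              mul_pow_reassoc, mul_assoc, ← pow_succ]
          · refine sim_trans P e2 ?_
            rw [pow_succ', mul_assoc ((x : G) * t), mul_assoc (x : G), ← mul_assoc (t : G), mul_pow_reassoc,
              mul_assoc _ (t : G), ← pow_succ]
            exact sim_cancel P x.2 (pow_mem (mul_mem htN hsN) _)
      · refine ⟨i + 1, Or.inl ⟨?_, ?_⟩⟩
        · rw [e1, ← mul_assoc, mul_pow_reassoc, mul_assoc, ← pow_succ]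
        · rw [← mul_assoc, mul_pow_reassoc, mul_assoc, ← pow_succ] at e2; exact e2
    · rcases hi with ⟨h1, h2⟩ | ⟨h1, h2⟩ | ⟨h1, h2⟩ | ⟨h1, h2⟩
      all_goals obtain ⟨e1, e2⟩ := step _ _ h1 h2
      · exact ⟨i, Or.inr (Or.inr (Or.inr ⟨by rw [e1, mul_pow_reassoc], by rw [mul_pow_reassoc] at e2; exact e2⟩))⟩
      · cases i with
        | zero => exact ⟨0, Or.inr (Or.inr (Or.inr ⟨by simpa using e1, by simpa using e2⟩))⟩
        | succ j =>
          refine ⟨j, Or.inr (Or.inr (Or.inl ⟨?_, ?_⟩))⟩
          · rw [e1, pow_succ', ← mul_assoc, ← mul_assoc, f_sq P f hf, one_mul, mul_pow_reassoc]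
          · refine sim_trans P e2 ?_
            rw [pow_succ', mul_assoc, mul_pow_reassoc]
            exact sim_cancel P x.2 (mul_mem (pow_mem (mul_mem hsN htN) j) hsN)
      · refine ⟨i + 1, Or.inr (Or.inl ⟨?_, ?_⟩)⟩
        · rw [e1, ← mul_assoc, mul_pow_reassoc, mul_assoc, ← pow_succ]
        · rw [← mul_assoc, mul_pow_reassoc, mul_assoc, ← pow_succ] at e2; exact e2
      · cases i with
        | zero => exact ⟨0, Or.inl ⟨by simpa [f_sq P f hf] using e1,
            sim_trans P e2 (by simpa using sq_sim P x.2)⟩⟩
        | succ j =>
          refine ⟨j + 1, Or.inl ⟨?_, ?_⟩⟩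
          · rw [e1, pow_succ', ← mul_assoc, ← mul_assoc, ← mul_assoc, f_sq P f hf, one_mul,
              mul_pow_reassoc, mul_assoc, ← pow_succ]
          · refine sim_trans P e2 ?_
            rw [pow_succ', mul_assoc ((x : G) * s), mul_assoc (x : G), ← mul_assoc (s : G), mul_pow_reassoc,
              mul_assoc _ (s : G), ← pow_succ]
            exact sim_cancel P x.2 (pow_mem (mul_mem hsN htN) _)

theorem sim_gen_eq {s t : P.S} (h : Sim P (s : G) t) : s = t :=
  Subtype.ext (P.inj s s.2 t t.2 h.1)

/-- A reflection of the dihedral group of two generators is not trivial. -/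
theorem reflection_not_sim {s t : P.S} (i : ℕ) : ¬ Sim P (((s : G) * t) ^ i * s) 1 := by
  induction i using Nat.strong_induction_on generalizing s t with
  | _ i ih =>
    intro h
    rcases i with _ | j
    · exact gen_not_sim_one P s.2 (sim_symm P (by simpa using h))
    -- conjugate by `s`
    have hsN := mem_N P s.2
    have h2 := sim_mul_right P hsN (sim_mul_left P (s : G) h)
    have e : (s : G) * (((s : G) * t) ^ (j + 1) * s) * s
        = ((s : G) * s) * (((t : G) * s) ^ j * t) * ((s : G) * s) := by
      rw [pow_succ, ← mul_assoc (((s : G) * t) ^ j), ← mul_pow_reassoc]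
      simp only [mul_assoc]
    rw [e, mul_one] at h2
    have hX : ((t : G) * s) ^ j * t ∈ P.N :=
      mul_mem (pow_mem (mul_mem (mem_N P t.2) hsN) j) (mem_N P t.2)
    have hq := sq_sim P s.2
    have h3 : Sim P ((s : G) * s * (((t : G) * s) ^ j * t) * ((s : G) * s))
        (1 * (((t : G) * s) ^ j * t) * 1) :=
      sim_mul P (mul_mem hsN hsN) (sim_mul_right P hX hq) hq
    rw [one_mul, mul_one] at h3
    exact ih j (by omega) (sim_trans P (sim_symm P h3) (sim_trans P h2 hq))

theorem dihedral_trivial {M : CoxeterMatrix P.S} (hM : IsWeylMatrix P M) (hf : IsLiftable P f M)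
    (s t : P.S) {l : List P.S} (hl : ∀ x ∈ l, x = s ∨ x = t) (h : Sim P (wordVal P l) 1) :
    (l.map f).prod = 1 := by
  obtain ⟨i, hi⟩ := dihedral_form P f hf s t l hl
  rcases hi with ⟨h1, h2⟩ | ⟨h1, h2⟩ | ⟨h1, h2⟩ | ⟨h1, h2⟩
  · obtain ⟨k, rfl⟩ := (hM s t i).1 (sim_trans P (sim_symm P h2) h)
    rw [h1, pow_mul, hf s t, one_pow]
  · obtain ⟨k, rfl⟩ := (hM t s i).1 (sim_trans P (sim_symm P h2) h)
    rw [h1, pow_mul, hf t s, one_pow]
  · exact absurd (sim_trans P (sim_symm P h2) h) (reflection_not_sim P i)
  · exact absurd (sim_trans P (sim_symm P h2) h) (reflection_not_sim P i)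

theorem cons_reduced {s : P.S} {u : List P.S} {n : G}
    (hr : (s :: u).length = len P n) (hsim : Sim P (wordVal P (s :: u)) n) :
    Sim P ((s : G) * n) (wordVal P u) ∧ u.length = len P (wordVal P u) := by
  rw [wordVal_cons] at hsim
  refine ⟨sim_trans P (sim_mul_left P _ (sim_symm P hsim)) (sim_cancel P s.2 (wordVal_mem P u)), ?_⟩
  have h1 := len_wordVal_le P u
  have h2 := len_gen_mul_le P s.2 (wordVal_mem P u)
  have h3 := len_congr P hsim
  simp only [List.length_cons] at hr
  omega

/-- Two reduced words of the same Weyl group element have the same image. -/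
theorem matsumoto {M : CoxeterMatrix P.S} (hM : IsWeylMatrix P M) (hf : IsLiftable P f M) :
    ∀ a b : List P.S, a.length = len P (wordVal P a) → b.length = len P (wordVal P b) →
      Sim P (wordVal P a) (wordVal P b) → (a.map f).prod = (b.map f).prod := by
  intro a
  induction hL : a.length using Nat.strong_induction_on generalizing a with
  | _ L ih =>
    subst hL
    intro b ha hb hab
    have hlen : a.length = b.length := by rw [ha, hb]; exact len_congr P hab
    match a, b, ha, hb, hab, hlen, ih with
    | [], b, _, _, _, hlen, _ => simp [List.length_eq_zero_iff.1 hlen.symm]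
    | s :: u, [], _, _, _, hlen, _ => simp at hlen
    | s :: u, t :: v, ha, hb, hab, hlen, ih =>
      set n := wordVal P (s :: u) with hn
      have hnN : n ∈ P.N := wordVal_mem P _
      obtain ⟨hsu, hu⟩ := cons_reduced P ha (sim_refl P n)
      obtain ⟨htv, hv⟩ := cons_reduced P (n := n) (hb.trans (len_congr P hab).symm) (sim_symm P hab)
      -- words with the same head have the same image
      have same : ∀ (x : P.S) (w w' : List P.S), w.length = u.length → (x :: w).length = len P n →
          (x :: w').length = len P n → Sim P (wordVal P (x :: w)) n →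
          Sim P (wordVal P (x :: w')) n → ((x :: w).map f).prod = ((x :: w').map f).prod := by
        intro x w w' hwu hw hw' hws hws'
        obtain ⟨h1, h2⟩ := cons_reduced P hw hws
        obtain ⟨h3, h4⟩ := cons_reduced P hw' hws'
        simp only [List.map_cons, List.prod_cons]
        rw [ih w.length (by simp [hwu]) w rfl w' h2 h4 (sim_trans P (sim_symm P h1) h3)]
      by_cases hst : s = t
      · subst hst
        exact same s u v rfl ha (hb.trans (len_congr P hab).symm) (sim_refl P n) (sim_symm P hab)
      have hdesc : ∀ x : P.S, x = s ∨ x = t → len P ((x : G) * n) < len P n := by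
        intro x hx
        simp only [List.length_cons] at ha hb hlen
        have e := len_congr P hab
        rcases hx with rfl | rfl
        · rw [len_congr P hsu, ← hu]; omega
        · rw [len_congr P htv, ← hv]; omega
      have toAB : ∀ (x : P.S) (w : List P.S), x = s ∨ x = t → (x :: w).length = len P n →
          Sim P (wordVal P (x :: w)) n →
          (x = s → ((x :: w).map f).prod = ((s :: u).map f).prod) ∧
          (x = t → ((x :: w).map f).prod = ((t :: v).map f).prod) := by
        intro x w _ hw hws
        have hwu : w.length = u.length := by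
          have := hw.trans ha.symm; simpa using this
        refine ⟨?_, ?_⟩ <;> intro hxe <;> subst hxe
        · exact same _ w u hwu hw ha hws (sim_refl P n)
        · exact same _ w v hwu hw (hb.trans (len_congr P hab).symm) hws (sim_symm P hab)
      suffices H : ∀ k : ℕ, ∀ p r : List P.S, p ≠ [] → (∀ x ∈ p, x = s ∨ x = t) →
          (p ++ r).length = len P n → Sim P (wordVal P (p ++ r)) n → r.length = k →
          ((s :: u).map f).prod = ((t :: v).map f).prod from
        H u.length [s] u (by simp) (by simp) (by simpa using ha) (sim_refl P n) rfl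
      intro k
      induction k using Nat.strong_induction_on with
      | _ k ihk =>
        intro p r hp hps hlc hsc hrk
        obtain ⟨x, p', rfl⟩ := List.exists_cons_of_ne_nil hp
        have hx : x = s ∨ x = t := hps x (by simp)
        obtain ⟨y, hy, hxy⟩ : ∃ y : P.S, (y = s ∨ y = t) ∧ y ≠ x := by
          rcases hx with rfl | rfl
          · exact ⟨t, Or.inr rfl, Ne.symm hst⟩
          · exact ⟨s, Or.inl rfl, hst⟩
        have hlt : len P ((y : G) * (((x :: p') ++ r).map Subtype.val).prod)
            < len P (((x :: p') ++ r).map Subtype.val).prod := by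
          change len P ((y : G) * wordVal P _) < len P (wordVal P _)
          rw [len_congr P hsc, len_congr P (sim_mul_left P (y : G) hsc)]
          exact hdesc y hy
        obtain ⟨i, hi, hsim⟩ := exchange P y.2 (over_map P _) hlt
        rw [List.length_map] at hi
        rw [List.eraseIdx_map] at hsim
        change Sim P ((y : G) * wordVal P _) (wordVal P _) at hsim
        have hc' : Sim P (wordVal P (y :: ((x :: p') ++ r).eraseIdx i)) n := by
          rw [wordVal_cons]
          exact sim_trans P (sim_mul_left P _ (sim_symm P hsim))
            (sim_trans P (sim_cancel P y.2 (wordVal_mem P _)) hsc)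
        have hl' : (y :: ((x :: p') ++ r).eraseIdx i).length = len P n := by
          rw [List.length_cons, List.length_eraseIdx_of_lt hi, ← hlc]; omega
        by_cases hip : i < (x :: p').length
        · rw [List.eraseIdx_append_of_lt_length hip] at hsim hc' hl'
          set q := (x :: p').eraseIdx i
          have hq : ∀ z ∈ q, z = s ∨ z = t := fun z hz => hps z (List.mem_of_mem_eraseIdx hz)
          have htriv : Sim P (wordVal P (y :: (x :: p') ++ q.reverse)) 1 := by
            rw [wordVal_append, wordVal_append, ← mul_assoc] at hsim
            have h1 := sim_mul_right P (inv_mem (wordVal_mem P r)) hsim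
            simp only [mul_inv_cancel_right] at h1
            rw [wordVal_append, wordVal_cons]
            refine sim_trans P (sim_mul P (wordVal_mem P _) h1 (wordVal_reverse P q)) ?_
            simpa using sim_refl P (1 : G)
          have hd := dihedral_trivial P f hM hf s t (l := y :: (x :: p') ++ q.reverse) (by
            intro z hz
            simp only [List.mem_cons, List.mem_append, List.mem_reverse] at hz
            rcases hz with (rfl | rfl | hz) | hz
            · exact hy
            · exact hx
            · exact hps z (by simp [hz])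
            · exact hq z hz) htriv
          have hqq : ∀ l : List P.S, (l.reverse.map f).prod = ((l.map f).prod)⁻¹ := by
            intro l
            induction l with
            | nil => simp
            | cons z l ihl =>
              simp only [List.reverse_cons, List.map_append, List.prod_append, ihl, List.map_cons,
                List.map_nil, List.prod_cons, List.prod_nil, mul_one, mul_inv_rev]
              rw [inv_eq_of_mul_eq_one_right (f_sq P f hf z)]
          rw [List.map_append, List.prod_append, hqq, mul_inv_eq_one, List.map_cons, List.prod_cons]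
            at hd
          have hyx : ((y :: (q ++ r)).map f).prod = (((x :: p') ++ r).map f).prod := by
            rw [List.map_cons, List.prod_cons, List.map_append, List.prod_append, List.map_append,
              List.prod_append, ← hd, ← mul_assoc, ← mul_assoc (f y) (f y), f_sq P f hf, one_mul]
          have e1 := toAB y _ hy hl' hc'
          have e2 := toAB x (p' ++ r) hx (by simpa using hlc) (by simpa using hsc)
          simp only [List.cons_append] at hyx
          rcases hx with hxs | hxt
          · have hyt : y = t := by
              rcases hy with h | h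
              · exact absurd (h.trans hxs.symm) hxy
              · exact h
            exact (e2.1 hxs).symm.trans (hyx.symm.trans (e1.2 hyt))
          · have hys : y = s := by
              rcases hy with h | h
              · exact h
              · exact absurd (h.trans hxt.symm) hxy
            exact (e1.1 hys).symm.trans (hyx.trans (e2.2 hxt))
        · push Not at hip
          rw [List.eraseIdx_append_of_length_le hip, ← List.cons_append] at hc' hl'
          have hi' : i - (x :: p').length < r.length := by
            rw [List.length_append] at hi; omega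
          refine ihk (r.eraseIdx (i - (x :: p').length)).length ?_ (y :: x :: p') _ (by simp) ?_ hl' hc' rfl
          · rw [List.length_eraseIdx_of_lt hi']; omega
          · intro z hz
            rcases List.mem_cons.1 hz with rfl | hz
            · exact hy
            · exact hps z hz

/-- Every word has the image of some reduced word of the same element. -/
theorem exists_reduced_image {M : CoxeterMatrix P.S} (hM : IsWeylMatrix P M) (hf : IsLiftable P f M) :
    ∀ l : List P.S, ∃ l' : List P.S, l'.length = len P (wordVal P l') ∧
      Sim P (wordVal P l') (wordVal P l) ∧ (l'.map f).prod = (l.map f).prod := by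
  intro l
  induction l with
  | nil => exact ⟨[], by simp [wordVal, len_one], sim_refl P _, rfl⟩
  | cons r l ih =>
    obtain ⟨w, hw, hws, hwf⟩ := ih
    have hwN := wordVal_mem P w
    have hne := len_gen_mul_ne P r.2 hwN
    have hle := len_gen_mul_le P r.2 hwN
    have hge := len_le_gen_mul P r.2 hwN
    by_cases hlt : len P ((r : G) * wordVal P w) < len P (wordVal P w)
    · obtain ⟨v, hv, hvs⟩ := exists_reduced_sub' P (mul_mem (mem_N P r.2) hwN)
      have hv' : v.length = len P (wordVal P v) := hv.trans (len_congr P hvs).symm
      have hrv : Sim P (wordVal P (r :: v)) (wordVal P w) := by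
        rw [wordVal_cons]
        exact sim_trans P (sim_mul_left P _ hvs) (sim_cancel P r.2 hwN)
      have hr' : (r :: v).length = len P (wordVal P (r :: v)) := by
        rw [List.length_cons, len_congr P hrv, hv]; omega
      refine ⟨v, hv', sim_trans P hvs (by rw [wordVal_cons]; exact sim_mul_left P _ hws), ?_⟩
      have e := matsumoto P f hM hf (r :: v) w hr' hw hrv
      rw [List.map_cons, List.prod_cons, ← hwf, ← e, List.map_cons, List.prod_cons, ← mul_assoc,
        f_sq P f hf, one_mul]
    · refine ⟨r :: w, ?_, by rw [wordVal_cons, wordVal_cons]; exact sim_mul_left P _ hws, by simp [hwf]⟩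
      rw [List.length_cons, wordVal_cons]; omega

end CfsgLib.BN
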