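/-
The Weyl group as a Coxeter group.
-/
import Cfsg.Agent.S0320
import Cfsg.Agent.Lib.LieChevOrder
import Cfsg.Agent.Lib.LieChevTab5

set_option autoImplicit false
set_option maxHeartbeats 400000

namespace CfsgLib.Lie

open Cfsg.Lie Finset

namespace Tab

variable {D : ChevalleyDatum} {T : Tab D} {F : Type*} [Field F] {M : CoxeterMatrix (Fin D.rank)}
variable (hT : T.Checked) (hE : ∀ r, T.extraB r = true) (hM : T.coxB (fun i j => M.M i j) = true)

include hT in
theorem pow_apply_eq_powW (i j : Fin D.rank) : ∀ (k : ℕ) (r : Fin D.nroots),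
    ((wp hT i * wp hT j) ^ k) r = T.powW i j k r
  | 0, r => rfl
  | k + 1, r => by
    rw [pow_succ', Equiv.Perm.mul_apply, pow_apply_eq_powW i j k r]
    rfl

include hT hM in
theorem coxFacts (i j : Fin D.rank) : (wp hT i * wp hT j) ^ M.M i j = 1 ∧
    ∀ k, (wp hT i * wp hT j) ^ k = 1 → M.M i j ∣ k := by
  have h := hM
  simp only [coxB, Bool.and_eq_true, List.all_eq_true, List.any_eq_true, Bool.or_eq_true,
    decide_eq_true_eq, List.mem_finRange, forall_const, List.mem_range, true_and] at h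
  obtain ⟨⟨h0, h1⟩, h2⟩ := h i j
  have e1 : (wp hT i * wp hT j) ^ M.M i j = 1 :=
    Equiv.ext fun r => by rw [pow_apply_eq_powW hT, h1]; rfl
  refine ⟨e1, fun k hk => ?_⟩
  have hmod : (wp hT i * wp hT j) ^ (k % M.M i j) = 1 := by
    rw [← Nat.mod_add_div k (M.M i j), pow_add, pow_mul, e1, one_pow, mul_one] at hk
    exact hk
  rcases h2 (k % M.M i j) (Nat.mod_lt _ (Nat.pos_of_ne_zero h0)) with h3 | ⟨r, hr⟩
  · exact Nat.dvd_of_mod_eq_zero h3
  · exact absurd (by rw [← pow_apply_eq_powW hT, hmod]; rfl) hr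

include hT hM in
/-- The action of the Coxeter group on the roots. -/
theorem exists_coxAction : ∃ χ : M.Group →* Equiv.Perm (Fin D.nroots), ∀ i, χ (M.simple i) = wp hT i := by
  have hl : M.IsLiftable (wp hT) := fun i j => (coxFacts hT hM i j).1
  exact ⟨M.toCoxeterSystem.lift ⟨wp hT, hl⟩, fun i => M.toCoxeterSystem.lift_apply_simple hl i⟩

include hT hE hM in
/-- The homomorphism from the monomial subgroup onto the Coxeter group. -/
theorem exists_coxHom : ∃ φ : ↥(D.monomialSubgroup F) →* M.Group, Function.Surjective φ ∧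
    φ.ker = (D.diagonalSubgroup F).subgroupOf (D.monomialSubgroup F) ∧
    ∀ (i : Fin D.rank), φ ⟨sg hT i, sg_mem_monomial hT i⟩ = M.simple i := by
  classical
  set P := bnPair hT hE F with hP
  haveI hN : ((P.B ⊓ P.N).subgroupOf P.N).Normal := by
    refine ⟨fun n hn g => ?_⟩
    rw [Subgroup.mem_subgroupOf, Subgroup.mem_inf] at hn ⊢
    refine ⟨P.conj_mem g g.2 n (Subgroup.mem_inf.2 hn), ?_⟩
    exact mul_mem (mul_mem g.2 n.2) (inv_mem g.2)
  obtain ⟨M', cs, hcs⟩ := Cfsg.Agent.S0320.result P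
  have hidx : ∀ s : P.S, ∃ i : Fin D.rank, ((s : ↥(D.group F)) : GL D.Idx F) = sg hT i :=
    fun s => (gen_iff hT).1 s.2
  choose idx hidx using hidx
  have hlift : M'.IsLiftable fun s => M.simple (idx s) := by
    intro s t
    have h1 := cs.simple_mul_simple_pow s t
    rw [hcs, hcs, ← QuotientGroup.mk_mul, ← QuotientGroup.mk_pow, QuotientGroup.eq_one_iff,
      Subgroup.mem_subgroupOf, Subgroup.mem_inf] at h1
    have h2 : (sg hT (idx s) * sg hT (idx t)) ^ M'.M s t ∈ D.diagonalSubgroup F := by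
      have e : (((⟨(s : ↥(D.group F)), P.subset s.2⟩ : P.N) * ⟨(t : ↥(D.group F)), P.subset t.2⟩) ^ M'.M s t : P.N).1.1 =
          (sg hT (idx s) * sg hT (idx t)) ^ M'.M s t := by
        rw [← hidx, ← hidx]; rfl
      rw [← e]
      exact (borel_inf_monomial hT).le
        (Subgroup.mem_inf.2 ⟨Subgroup.mem_subgroupOf.1 h1.1, Subgroup.mem_subgroupOf.1 h1.2⟩)
    have h3 : (wp hT (idx s) * wp hT (idx t)) ^ M'.M s t = 1 := by
      have : ∀ k : ℕ, Acts hT ((sg (F := F) hT (idx s) * sg hT (idx t)) ^ k) ((wp hT (idx s) * wp hT (idx t)) ^ k) := by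
        intro k
        induction k with
        | zero => simpa using acts_one hT
        | succ k ih => rw [pow_succ, pow_succ]; exact ih.mul hT ((acts_sg hT _).mul hT (acts_sg hT _))
      exact Acts.unique hT (this _) (acts_diagonal hT h2)
    obtain ⟨c, hc⟩ := (coxFacts hT hM (idx s) (idx t)).2 _ h3
    show (M.simple (idx s) * M.simple (idx t)) ^ M'.M s t = 1
    rw [hc, pow_mul]
    have h4 := M.toCoxeterSystem.simple_mul_simple_pow (idx s) (idx t)
    simp only [CoxeterMatrix.toCoxeterSystem_simple] at h4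
    rw [h4, one_pow]
  set f := cs.lift ⟨_, hlift⟩ with hf
  set e : ↥(D.monomialSubgroup F) ≃* ↥P.N :=
    (Subgroup.subgroupOfEquivOfLe (monomial_le_group hT)).symm with he
  set φ : ↥(D.monomialSubgroup F) →* M.Group :=
    (f.comp (QuotientGroup.mk' ((P.B ⊓ P.N).subgroupOf P.N))).comp e.toMonoidHom with hφ
  have hsg : ∀ i : Fin D.rank, φ ⟨sg hT i, sg_mem_monomial hT i⟩ = M.simple i := by
    intro i
    set s : P.S := ⟨⟨sg hT i, monomial_le_group hT (sg_mem_monomial hT i)⟩, (gen_iff hT).2 ⟨i, rfl⟩⟩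
    have hi : idx s = i := sg_inj (F := F) hT (by rw [← hidx s]; simp [s])
    have : φ ⟨sg hT i, sg_mem_monomial hT i⟩ = f (cs.simple s) := by rw [hcs]; rfl
    rw [this, hf, cs.lift_apply_simple hlift, hi]
  obtain ⟨χ, hχ⟩ := exists_coxAction hT hM
  have hker1 : ∀ g : ↥(D.monomialSubgroup F), (g : GL D.Idx F) ∈ D.diagonalSubgroup F → φ g = 1 := by
    intro g hg
    have : (QuotientGroup.mk' ((P.B ⊓ P.N).subgroupOf P.N)) (e g) = 1 := by
      rw [QuotientGroup.mk'_apply, QuotientGroup.eq_one_iff, Subgroup.mem_subgroupOf, Subgroup.mem_inf]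
      exact ⟨Subgroup.mem_subgroupOf.2 (Subgroup.mem_sup_right hg), (e g).2⟩
    show f _ = 1
    rw [show (QuotientGroup.mk' ((P.B ⊓ P.N).subgroupOf P.N)) (e.toMonoidHom g) = 1 from this, map_one]
  have hcomp : ∀ g : ↥(D.monomialSubgroup F), χ (φ g) = toPerm hT g := by
    intro g
    obtain ⟨L, h, hh, e'⟩ := exists_word hT g.2
    obtain rfl : g = ⟨h, diagonal_le_monomial hT hh⟩ * ⟨gw hT L, gw_mem_monomial hT L⟩ := Subtype.ext e'
    rw [map_mul, map_mul, map_mul, hker1 ⟨h, diagonal_le_monomial hT hh⟩ hh, map_one, one_mul,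
      (toPerm_eq_one_iff hT ⟨h, diagonal_le_monomial hT hh⟩).2 hh, one_mul,
      toPerm_eq hT (g := ⟨gw hT L, gw_mem_monomial hT L⟩) (acts_gw hT L)]
    clear e'
    induction L with
    | nil =>
      have : (⟨gw hT [], gw_mem_monomial (F := F) hT []⟩ : ↥(D.monomialSubgroup F)) = 1 := Subtype.ext rfl
      rw [this, map_one, map_one]; rfl
    | cons i L ih =>
      have : (⟨gw hT (i :: L), gw_mem_monomial (F := F) hT _⟩ : ↥(D.monomialSubgroup F)) =
          ⟨sg hT i, sg_mem_monomial hT i⟩ * ⟨gw hT L, gw_mem_monomial hT L⟩ := Subtype.ext rfl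
      rw [this, map_mul, map_mul, ih, hsg, hχ, pw_cons]
  refine ⟨φ, ?_, ?_, hsg⟩
  · rw [← MonoidHom.range_eq_top, eq_top_iff, ← M.toCoxeterSystem.subgroup_closure_range_simple,
      Subgroup.closure_le]
    rintro _ ⟨i, rfl⟩
    exact ⟨_, (hsg i).trans (by simp)⟩
  · ext g
    rw [MonoidHom.mem_ker, Subgroup.mem_subgroupOf]
    refine ⟨fun h => (toPerm_eq_one_iff hT g).1 (by rw [← hcomp g, h, map_one]), hker1 g⟩

include hT hE hM in
/-- The Coxeter group acts faithfully on the roots. -/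
theorem coxAction_injective {χ : M.Group →* Equiv.Perm (Fin D.nroots)}
    (hχ : ∀ i, χ (M.simple i) = wp hT i) : Function.Injective χ := by
  obtain ⟨φ, hsurj, hker, hsg⟩ := exists_coxHom (F := ℚ) hT hE hM
  rw [injective_iff_map_eq_one]
  intro x hx
  obtain ⟨g, rfl⟩ := hsurj x
  obtain ⟨L, h, hh, e'⟩ := exists_word hT g.2
  have hcomp : ∀ L : List (Fin D.rank),
      χ (φ ⟨gw hT L, gw_mem_monomial (F := ℚ) hT L⟩) = pw hT L := by
    intro L
    induction L with
    | nil =>
      have : (⟨gw hT [], gw_mem_monomial (F := ℚ) hT []⟩ : ↥(D.monomialSubgroup ℚ)) = 1 := Subtype.ext rfl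
      rw [this, map_one, map_one]; rfl
    | cons i L ih =>
      have : (⟨gw hT (i :: L), gw_mem_monomial (F := ℚ) hT _⟩ : ↥(D.monomialSubgroup ℚ)) =
          ⟨sg hT i, sg_mem_monomial hT i⟩ * ⟨gw hT L, gw_mem_monomial hT L⟩ := Subtype.ext rfl
      rw [this, map_mul, map_mul, ih, hsg, hχ, pw_cons]
  obtain rfl : g = ⟨h, diagonal_le_monomial hT hh⟩ * ⟨gw hT L, gw_mem_monomial hT L⟩ := Subtype.ext e'
  have h0 : φ ⟨h, diagonal_le_monomial hT hh⟩ = 1 := by
    rw [← MonoidHom.mem_ker, hker, Subgroup.mem_subgroupOf]; exact hh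
  rw [map_mul, h0, one_mul] at hx ⊢
  rw [hcomp] at hx
  rw [← MonoidHom.mem_ker, hker, Subgroup.mem_subgroupOf]
  exact gw_mem_diagonal hT L hx

include hT hE hM in
/-- The order of the Coxeter group. -/
theorem card_coxeter {ds : List ℕ} (hP : T.polyB ds = true) : Nat.card M.Group = ds.prod := by
  classical
  obtain ⟨χ, hχ⟩ := exists_coxAction hT hM
  rw [← card_weyl hT hP, ← Nat.card_range_of_injective (coxAction_injective hT hE hM hχ)]
  have hr : ∀ L : List (Fin D.rank), pw hT L ∈ χ.range := by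
    intro L
    induction L with
    | nil => exact one_mem _
    | cons i L ih => rw [pw_cons]; exact mul_mem ⟨_, hχ i⟩ ih
  have hset : Set.range χ = (WJ hT (List.finRange D.rank) : Set (Equiv.Perm (Fin D.nroots))) := by
    ext π
    rw [Finset.mem_coe, mem_WJ]
    constructor
    · rintro ⟨x, rfl⟩
      induction x using M.toCoxeterSystem.simple_induction with
      | simple i => exact ⟨[i], fun x _ => List.mem_finRange x, by simp [hχ]⟩
      | one => exact ⟨[], by simp, by simp⟩
      | mul a b ha hb =>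
        obtain ⟨La, _, ha⟩ := ha
        obtain ⟨Lb, _, hb⟩ := hb
        exact ⟨La ++ Lb, fun x _ => List.mem_finRange x, by rw [pw_append, ha, hb, map_mul]⟩
    · rintro ⟨L, _, rfl⟩
      exact hr L
  rw [hset]
  simp

include hT in
theorem coxPow_apply : ∀ (k : ℕ) (r : Fin D.nroots),
    (((List.finRange D.rank).map (wp hT)).prod ^ k) r = T.coxPow k r
  | 0, r => rfl
  | k + 1, r => by
    rw [pow_succ', Equiv.Perm.mul_apply, coxPow_apply k r]
    show _ = (List.finRange D.rank).foldr (fun i x => T.w i x) (T.coxPow k r)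
    induction List.finRange D.rank with
    | nil => rfl
    | cons i L ih => rw [List.map_cons, List.prod_cons, Equiv.Perm.mul_apply, List.foldr_cons, ih]; rfl

include hT hE hM in
/-- The order of a Coxeter element. -/
theorem orderOf_coxElt {h : ℕ} (hc : T.coxEltB h = true) :
    orderOf ((List.finRange D.rank).map M.simple).prod = h := by
  obtain ⟨χ, hχ⟩ := exists_coxAction hT hM
  rw [← orderOf_injective χ (coxAction_injective hT hE hM hχ), map_list_prod, List.map_map]
  have e : χ ∘ M.simple = wp hT := funext hχ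
  rw [e]
  simp only [coxEltB, Bool.and_eq_true, List.all_eq_true, List.any_eq_true, Bool.or_eq_true, decide_eq_true_eq,
    List.mem_finRange, forall_const, List.mem_range, true_and] at hc
  obtain ⟨⟨h0, h1⟩, h2⟩ := hc
  rw [orderOf_eq_iff h0]
  refine ⟨Equiv.ext fun r => by rw [coxPow_apply hT, h1]; rfl, fun m hm hm0 hpow => ?_⟩
  rcases h2 m hm with h3 | ⟨r, hr⟩
  · omega
  · exact hr (by rw [← coxPow_apply hT, hpow]; rfl)

end Tab

end CfsgLib.Lie
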