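/-
Perfectness and simplicity of the Chevalley groups.
-/
import Cfsg.Agent.S0319
import Cfsg.Agent.Lib.LieChevStruct
import Cfsg.Agent.Lib.LieChevTab5

set_option autoImplicit false
set_option maxHeartbeats 400000

namespace CfsgLib.Lie

open Cfsg.Lie Finset

open scoped commutatorElement

namespace Tab

variable {D : ChevalleyDatum} {T : Tab D} {F : Type*} [Field F]
variable (hT : T.Checked) (hE : ∀ r, T.extraB r = true)

/-- The root subgroup of `r` lies in the derived subgroup. -/
def InDerived (hT : T.Checked) (F : Type*) [Field F] (r : Fin D.nroots) : Prop :=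
  ∀ t : F, u hT r t ∈ (commutator ↥(D.group F)).map (D.group F).subtype

include hT in
theorem comm_mem_derived {a b : GL D.Idx F} (ha : a ∈ D.group F) (hb : b ∈ D.group F) :
    a * b * a⁻¹ * b⁻¹ ∈ (commutator ↥(D.group F)).map (D.group F).subtype := by
  refine ⟨⁅(⟨a, ha⟩ : ↥(D.group F)), ⟨b, hb⟩⁆, ?_, rfl⟩
  rw [commutator_def]
  exact Subgroup.commutator_mem_commutator (Subgroup.mem_top _) (Subgroup.mem_top _)

include hT in
theorem derived_of_torus {r : Fin D.nroots} {f : Fin D.nroots → Fˣ}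
    (hf : dg (D := D) f ∈ D.diagonalSubgroup F) (hχ : T.IsChar f) (hne : (f r : F) ≠ 1) :
    InDerived hT F r := by
  intro t
  have h := comm_mem_derived hT (monomial_le_group hT (diagonal_le_monomial hT hf))
    (u_mem_group hT r (t / ((f r : F) - 1)))
  rw [dg_conj_u hT hχ, ← u_neg, u_add] at h
  have e : (f r : F) * (t / ((f r : F) - 1)) + -(t / ((f r : F) - 1)) = t := by
    have := sub_ne_zero.2 hne
    field_simp
    ring
  rwa [e] at h

include hT in
theorem derived_of_odd {r : Fin D.nroots} (h : T.oddB r = true) (h2 : (-1 : F) ≠ 1) :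
    InDerived hT F r := by
  simp only [oddB, List.any_eq_true, decide_eq_true_eq, List.mem_finRange, true_and] at h
  obtain ⟨i, hi⟩ := h
  refine derived_of_torus hT (dg_hc_mem hT (T.p i) (-1 : Fˣ)) (hc_isChar hT _ _) ?_
  simp only [hc, pair_p hT, Units.val_zpow_eq_zpow_val, Units.val_neg, Units.val_one]
  rw [Odd.neg_one_zpow (Int.odd_iff.2 (by omega))]
  exact h2

theorem termsMat_one {R : Type*} [CommRing R] (a b : R) (k : Fin D.nroots) (C : ℤ) :
    T.termsMat a b [(k.val, C, 1, 1)] = T.X R k ((C : R) * (-a) ^ 1 * b ^ 1) := by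
  rw [termsMat, dif_pos k.isLt, termsMat, mul_one]

include hT hE in
/-- The word of the commutator formula lies in the derived subgroup. -/
theorem word_mem_derived {a s : Fin D.nroots} (hne : s ≠ T.ng a) (x y : F) :
    ∃ g ∈ (commutator ↥(D.group F)).map (D.group F).subtype,
      (g : Matrix D.Idx D.Idx F) = T.termsMat x y (D.commTerms a s) := by
  refine ⟨_, comm_mem_derived hT (inv_mem (u_mem_group hT s y)) (inv_mem (u_mem_group hT a x)), ?_⟩
  have h := comm_formula (F := F) hT hE hne x y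
  rw [inv_inv, inv_inv, ← u_neg, ← u_neg, mul_assoc ((u hT s (-y) * u hT a (-x)))]
  simp only [Units.val_mul, coe_u]
  rw [h]
  simp only [← mul_assoc]
  rw [mul_assoc (T.X F s (-y)) (T.X F a (-x)), X_add hT, neg_add_cancel, X_zero hT, mul_one, X_add hT,
    neg_add_cancel, X_zero hT, one_mul]

include hT hE in
theorem derived_of_perf0 {r : Fin D.nroots} {odd : Bool} (hodd : odd = true → (-1 : F) ≠ 1)
    (h : T.perf0 odd r = true) : InDerived hT F r := by
  simp only [perf0, Bool.or_eq_true, Bool.and_eq_true, List.any_eq_true, List.mem_finRange, true_and] at h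
  rcases h with ⟨h1, h2⟩ | ⟨a, h⟩
  · exact derived_of_odd hT h2 (hodd h1)
  · cases hs : T.nx (T.ng a) r with
    | none => simp [hs] at h
    | some s =>
      simp [hs] at h
      obtain ⟨⟨hnx, hterms⟩, hM⟩ := h
      intro t
      obtain ⟨g, hg, e⟩ := word_mem_derived (F := F) hT hE (nx_ne_ng hT hnx) (-1) ((T.M 1 a s : F) * t)
      rw [hterms, termsMat_one] at e
      have he : (T.M 1 a s : F) * (-(-1 : F)) ^ 1 * ((T.M 1 a s : F) * t) ^ 1 = t := by
        rcases Int.natAbs_eq (T.M 1 a s) with hh | hh <;> rw [hh, hM] <;> simp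
      rw [he] at e
      rwa [show u hT r t = g from Units.ext e.symm]

include hT hE in
theorem derived_of_perf1 {r : Fin D.nroots} {odd : Bool} (hodd : odd = true → (-1 : F) ≠ 1)
    (h : T.perf1 odd r = true) : InDerived hT F r := by
  simp only [perf1, Bool.or_eq_true, List.any_eq_true, List.mem_finRange, true_and, Bool.and_eq_true] at h
  rcases h with h0 | ⟨a, s, _, h⟩
  · exact derived_of_perf0 hT hE hodd h0
  simp only [perfTerm, Bool.and_eq_true, List.any_eq_true, List.all_eq_true, decide_eq_true_eq,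
    Bool.or_eq_true] at h
  obtain ⟨⟨⟨_, _⟩, hne⟩, ⟨⟨c₀, hc₀, hcr, hC⟩, hlen⟩, hall⟩ := h
  intro t
  -- choose the parameters so that the coefficient of `r` is `t`
  have hgen : ∀ (x y : F) (L : List (ℕ × ℤ × ℕ × ℕ)), (∀ c ∈ L, c ∈ D.commTerms a s) →
      ∀ g : GL D.Idx F, (g : Matrix D.Idx D.Idx F) = T.termsMat x y L →
        (∀ c ∈ L, c.1 ≠ r.val) → g ∈ (commutator ↥(D.group F)).map (D.group F).subtype := by
    intro x y L
    induction L with
    | nil => intro _ g hg _; rw [show g = 1 from Units.ext hg]; exact one_mem _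
    | cons c L ih =>
      intro hsub g hg hr'
      have hc := hsub c (by simp)
      obtain ⟨hk, hcomb⟩ := commTerms_comb hT a s c hc
      rw [termsMat, dif_pos hk] at hg
      have h0 : T.perf0 odd ⟨c.1, hk⟩ = true := by
        rcases hall c hc with h1 | h1
        · exact absurd h1 (hr' c (by simp))
        · simpa [hk] using h1
      obtain ⟨g', hg'⟩ : ∃ g' : GL D.Idx F, (g' : Matrix D.Idx D.Idx F) = T.termsMat x y L :=
        ⟨(u hT ⟨c.1, hk⟩ ((c.2.1 : F) * (-x) ^ c.2.2.1 * y ^ c.2.2.2))⁻¹ * g, by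
          rw [Units.val_mul, hg, ← u_neg, coe_u, ← mul_assoc, X_add hT, neg_add_cancel, X_zero hT, one_mul]⟩
      have he : g = u hT ⟨c.1, hk⟩ ((c.2.1 : F) * (-x) ^ c.2.2.1 * y ^ c.2.2.2) * g' :=
        Units.ext (by rw [Units.val_mul, hg, hg']; rfl)
      rw [he]
      exact mul_mem (derived_of_perf0 hT hE hodd h0 _)
        (ih (fun c' h' => hsub c' (List.mem_cons_of_mem _ h')) g' hg'
          (fun c' h' => hr' c' (List.mem_cons_of_mem _ h')))
  have hsplit : ∀ (x y : F) (L : List (ℕ × ℤ × ℕ × ℕ)), (∀ c ∈ L, c ∈ D.commTerms a s) →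
      ∀ g : GL D.Idx F, g ∈ (commutator ↥(D.group F)).map (D.group F).subtype →
      (g : Matrix D.Idx D.Idx F) = T.termsMat x y L →
        ∀ c, L.filter (fun c => decide (c.1 = r.val)) = [c] →
          u hT r ((c.2.1 : F) * (-x) ^ c.2.2.1 * y ^ c.2.2.2) ∈
            (commutator ↥(D.group F)).map (D.group F).subtype := by
    intro x y L
    induction L with
    | nil => intro _ g _ _ c hc; simp at hc
    | cons d L ih =>
      intro hsub g hgm hg c hc
      have hd := hsub d (by simp)
      obtain ⟨hk, _⟩ := commTerms_comb hT a s d hd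
      rw [termsMat, dif_pos hk] at hg
      obtain ⟨g', hg'⟩ : ∃ g' : GL D.Idx F, (g' : Matrix D.Idx D.Idx F) = T.termsMat x y L :=
        ⟨(u hT ⟨d.1, hk⟩ ((d.2.1 : F) * (-x) ^ d.2.2.1 * y ^ d.2.2.2))⁻¹ * g, by
          rw [Units.val_mul, hg, ← u_neg, coe_u, ← mul_assoc, X_add hT, neg_add_cancel, X_zero hT, one_mul]⟩
      have he : g = u hT ⟨d.1, hk⟩ ((d.2.1 : F) * (-x) ^ d.2.2.1 * y ^ d.2.2.2) * g' :=
        Units.ext (by rw [Units.val_mul, hg, hg']; rfl)
      have hsub' : ∀ c ∈ L, c ∈ D.commTerms a s := fun c' h' => hsub c' (List.mem_cons_of_mem _ h')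
      by_cases hdr : d.1 = r.val
      · rw [List.filter_cons_of_pos (by simpa using hdr)] at hc
        obtain ⟨rfl, hnil⟩ := List.cons.inj hc
        have hr' : ∀ c ∈ L, c.1 ≠ r.val := fun c' h' hc' => by
          have := List.filter_eq_nil_iff.1 hnil c' h'
          simp [hc'] at this
        have := hgen x y L hsub' g' hg' hr'
        rw [he] at hgm
        have h2 := mul_mem hgm (inv_mem this)
        rw [mul_inv_cancel_right, show (⟨d.1, hk⟩ : Fin D.nroots) = r from Fin.ext hdr] at h2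
        exact h2
      · rw [List.filter_cons_of_neg (by simpa using hdr)] at hc
        have h0 : T.perf0 odd ⟨d.1, hk⟩ = true := by
          rcases hall d hd with h1 | h1
          · exact absurd h1 hdr
          · simpa [hk] using h1
        refine ih hsub' g' ?_ hg' c hc
        rw [he] at hgm
        have h2 := mul_mem (inv_mem (derived_of_perf0 hT hE hodd h0
          ((d.2.1 : F) * (-x) ^ d.2.2.1 * y ^ d.2.2.2))) hgm
        rwa [inv_mul_cancel_left] at h2
  obtain ⟨c, hc⟩ := List.length_eq_one_iff.1 hlen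
  have hcc : c₀ = c := by
    have : c₀ ∈ (D.commTerms a s).filter fun c => decide (c.1 = r.val) := by simp [hc₀, hcr]
    rw [hc] at this
    simpa using this
  subst hcc
  obtain ⟨hk, i', j', hi', hj', hco⟩ := commTerms_comb hT a s c₀ hc₀
  -- the two exponents are not both greater than one
  have hexp : c₀.2.2.1 = 1 ∨ c₀.2.2.2 = 1 ∨ (c₀.2.2.1 = 2 ∧ c₀.2.2.2 = 3) ∨ (c₀.2.2.1 = 3 ∧ c₀.2.2.2 = 2) := by
    simp only [ChevalleyDatum.commTerms, List.mem_filterMap, List.mem_cons, List.not_mem_nil, or_false,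
      Option.map_eq_some_iff] at hc₀
    obtain ⟨e, he, k, _, rfl⟩ := hc₀
    rcases he with rfl | rfl | rfl | rfl | rfl | rfl | rfl <;> simp
  have hC2 : (c₀.2.1 : F) * c₀.2.1 = 1 := by
    rcases Int.natAbs_eq c₀.2.1 with h1 | h1 <;> rw [h1, hC] <;> simp
  obtain ⟨x, y, hxy⟩ : ∃ x y : F, (c₀.2.1 : F) * (-x) ^ c₀.2.2.1 * y ^ c₀.2.2.2 = t := by
    rcases hexp with h | h | ⟨h, h'⟩ | ⟨h, h'⟩
    · exact ⟨-((c₀.2.1 : F) * t), 1, by rw [h, neg_neg, pow_one, one_pow, mul_one, ← mul_assoc, hC2, one_mul]⟩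
    · exact ⟨-1, (c₀.2.1 : F) * t, by rw [h, neg_neg, one_pow, pow_one, mul_one, ← mul_assoc, hC2, one_mul]⟩
    · by_cases ht : t = 0
      · exact ⟨0, 0, by simp [h, ht]⟩
      · refine ⟨-((c₀.2.1 : F) * t)⁻¹, (c₀.2.1 : F) * t, ?_⟩
        have hne' : (c₀.2.1 : F) * t ≠ 0 := mul_ne_zero (left_ne_zero_of_mul_eq_one hC2) ht
        rw [h, h', neg_neg]
        field_simp
        rw [pow_two, hC2]
    · by_cases ht : t = 0
      · exact ⟨0, 0, by simp [h', ht]⟩
      · refine ⟨-((c₀.2.1 : F) * t), ((c₀.2.1 : F) * t)⁻¹, ?_⟩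
        have hne' : (c₀.2.1 : F) * t ≠ 0 := mul_ne_zero (left_ne_zero_of_mul_eq_one hC2) ht
        rw [h, h', neg_neg]
        field_simp
        rw [pow_two, hC2]
  obtain ⟨g, hg, e⟩ := word_mem_derived (F := F) hT hE hne x y
  have := hsplit x y _ (fun c h => h) g hg e c₀ hc
  rwa [hxy] at this

include hT hE in
theorem perfect {odd : Bool} (hP : T.perfB odd = true) (hF : odd = true → ∃ a : F, a ≠ 0 ∧ a ≠ 1) :
    commutator ↥(D.group F) = ⊤ := by
  have hall : ∀ r, InDerived hT F r := by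
    intro r
    by_cases hsq : ∃ c : F, c ≠ 0 ∧ c ^ 2 ≠ 1
    · obtain ⟨c, hc0, hc2⟩ := hsq
      refine derived_of_torus hT (dg_hc_mem hT r (Units.mk0 c hc0)) (hc_isChar hT _ _) ?_
      simpa [hc, pair_self hT] using hc2
    · push Not at hsq
      refine derived_of_perf1 hT hE (odd := odd) (fun ho h1 => ?_) (List.all_eq_true.1 hP r (List.mem_finRange r))
      obtain ⟨a, ha0, ha1⟩ := hF ho
      rcases sq_eq_one_iff.1 (hsq a ha0) with h | h
      · exact ha1 h
      · exact ha1 (h.trans h1)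
  rw [eq_top_iff]
  intro g _
  have hle : D.group F ≤ (commutator ↥(D.group F)).map (D.group F).subtype := by
    conv_lhs => rw [group_eq hT]
    exact Ugrp_le hT fun r _ t => hall r t
  obtain ⟨g', hg', e⟩ := hle g.2
  obtain rfl : g' = g := Subtype.ext e
  exact hg'

include hT hE in
theorem nontrivial_group (hl : 0 < D.rank) : Nontrivial ↥(D.group F) := by
  refine ⟨⟨⟨u hT (T.p ⟨0, hl⟩) 1, u_mem_group hT _ _⟩, 1, fun h => ?_⟩⟩
  have := (X_eq_one_iff hT).1 (congrArg (fun g : ↥(D.group F) => ((g : GL D.Idx F) : Matrix D.Idx D.Idx F)) h)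
  exact one_ne_zero this

include hT hE in
theorem not_comm (hl : 0 < D.rank) (hp : commutator ↥(D.group F) = ⊤) :
    ¬ IsMulCommutative ↥(D.group F) := by
  intro h
  haveI := nontrivial_group (F := F) hT hE hl
  have : commutator ↥(D.group F) = ⊥ := by
    rw [commutator_def, Subgroup.commutator_eq_bot_iff_le_centralizer]
    intro x _
    rw [Subgroup.mem_centralizer_iff]
    exact fun y _ => h.is_comm.comm y x
  exact bot_ne_top (this.symm.trans hp)

include hT hE in
theorem irreducible (hconn : T.connB = true) : (bnPair hT hE F).Irreducible := by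
  intro J hJ hne hne'
  by_contra hh
  push Not at hh
  set inJ : Fin D.rank → Prop := fun i =>
    (⟨sg hT i, monomial_le_group hT (sg_mem_monomial hT i)⟩ : ↥(D.group F)) ∈ J with hinJ
  have hS : ∀ i, (⟨sg hT i, monomial_le_group hT (sg_mem_monomial hT i)⟩ : ↥(D.group F)) ∈ (bnPair hT hE F).S :=
    fun i => (gen_iff hT).2 ⟨i, rfl⟩
  have hedge : ∀ i j, T.adjB i j = true → (inJ i ↔ inJ j) := by
    intro i j hadj
    by_contra hne2
    have key : ∀ i j, inJ i → ¬ inJ j → T.adjB i j = true ∨ T.adjB j i = true → False := by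
      intro i j hi hj hor
      have h := Subgroup.mem_subgroupOf.1 (hh _ hi _ ⟨hS j, hj⟩)
      simp only [Subgroup.coe_mul, Subgroup.coe_inv] at h
      have hN : sg (F := F) hT i * sg hT j * (sg hT i)⁻¹ * (sg hT j)⁻¹ ∈ D.monomialSubgroup F :=
        mul_mem (mul_mem (mul_mem (sg_mem_monomial hT i) (sg_mem_monomial hT j)) (inv_mem (sg_mem_monomial hT i)))
          (inv_mem (sg_mem_monomial hT j))
      have hH := (borel_inf_monomial hT).le (Subgroup.mem_inf.2 ⟨h, hN⟩)
      have hp := Acts.unique hT (acts_diagonal hT hH)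
        ((((acts_sg hT i).mul hT (acts_sg hT j)).mul hT ((acts_sg hT i).inv hT)).mul hT ((acts_sg hT j).inv hT))
      rw [eq_comm, mul_inv_eq_one, mul_inv_eq_iff_eq_mul] at hp
      simp only [adjB, List.any_eq_true, decide_eq_true_eq, List.mem_finRange, true_and] at hor
      have hr := fun r => congrArg (fun π : Equiv.Perm (Fin D.nroots) => π r) hp
      simp only [Equiv.Perm.mul_apply, wp_apply] at hr
      rcases hor with ⟨r, h1⟩ | ⟨r, h1⟩
      · exact h1 (hr r)
      · exact h1 (hr r).symm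
    by_cases hi : inJ i
    · exact key i j hi (fun hj => hne2 ⟨fun _ => hj, fun _ => hi⟩) (Or.inl hadj)
    · by_cases hj : inJ j
      · exact key j i hj hi (Or.inr hadj)
      · exact hne2 ⟨fun h => absurd h hi, fun h => absurd h hj⟩
  have hreach : ∀ k, ∀ i ∈ T.reach k, ∀ j ∈ T.reach k, (inJ i ↔ inJ j) := by
    intro k
    induction k with
    | zero =>
      intro i hi j hj
      simp only [reach] at hi hj
      cases hl : List.finRange D.rank with
      | nil => simp [hl] at hi
      | cons a L =>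
        simp [hl] at hi hj
        rw [hi, hj]
    | succ k ih =>
      intro i hi j hj
      simp only [reach, List.mem_filter, Bool.or_eq_true, List.contains_iff_mem, List.any_eq_true] at hi hj
      have hrep : ∀ x, (x ∈ T.reach k ∨ ∃ y ∈ T.reach k, T.adjB y x = true) → ∃ y ∈ T.reach k, (inJ x ↔ inJ y) := by
        rintro x (hx | ⟨y, hy, hyx⟩)
        · exact ⟨x, hx, Iff.rfl⟩
        · exact ⟨y, hy, (hedge y x hyx).symm⟩
      obtain ⟨a, ha, hia⟩ := hrep i hi.2
      obtain ⟨b, hb, hjb⟩ := hrep j hj.2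
      exact hia.trans ((ih a ha b hb).trans hjb.symm)
  have hall : ∀ i, i ∈ T.reach D.rank := fun i => by
    simp only [connB, List.all_eq_true, List.contains_iff_mem] at hconn
    exact hconn i (List.mem_finRange i)
  obtain ⟨s, hs⟩ := hne
  obtain ⟨s', hs'S, hs'J⟩ := hne'
  obtain ⟨i, ei⟩ := (gen_iff hT).1 (hJ hs)
  obtain ⟨j, ej⟩ := (gen_iff hT).1 hs'S
  have e1 : s = ⟨sg hT i, monomial_le_group hT (sg_mem_monomial hT i)⟩ := Subtype.ext ei
  have e2 : s' = ⟨sg hT j, monomial_le_group hT (sg_mem_monomial hT j)⟩ := Subtype.ext ej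
  have h1 : inJ i := by rw [e1] at hs; exact hs
  exact hs'J (e2 ▸ (hreach _ i (hall i) j (hall j)).1 h1)

include hT hE in
theorem simple (hl : 0 < D.rank) (hconn : T.connB = true) {odd : Bool} (hP : T.perfB odd = true)
    (hF : odd = true → ∃ a : F, a ≠ 0 ∧ a ≠ 1) :
    IsSimpleGroup ↥(D.group F) ∧ ¬ IsMulCommutative ↥(D.group F) := by
  haveI := nontrivial_group (F := F) hT hE hl
  have hp := perfect hT hE hP hF
  haveI := solvable_borel (F := F) hT
  have hsol : Group.IsSolvable ↥((D.borelSubgroup F).subgroupOf (D.group F)) :=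
    Group.isSolvable_of_isSolvable_injective (G' := ↥(D.borelSubgroup F))
      (f := (Subgroup.subgroupOfEquivOfLe (borel_le_group (F := F) hT)).toMonoidHom)
      (Subgroup.subgroupOfEquivOfLe (borel_le_group (F := F) hT)).injective
  exact ⟨Cfsg.Agent.S0319.result (bnPair hT hE F) (irreducible hT hE hconn)
    hsol hp
    (borel_core hT), not_comm hT hE hl hp⟩

end Tab

end CfsgLib.Lie
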