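/-
Simplicity checks for the table of type D4.
-/
import Cfsg.Agent.Lib.LieDataD4
import Cfsg.Agent.Lib.LieChevTab5

set_option autoImplicit false
set_option maxRecDepth 20000
set_option maxHeartbeats 1000000

namespace CfsgLib.Lie

open Cfsg.Lie

theorem D4_conn : tabD4.connB = true := by decide +kernel

theorem D4_perf : tabD4.perfB false = true := by decide +kernel

theorem D4_coxElt : tabD4.coxEltB 6 = true := by decide +kernel

end CfsgLib.Lie
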