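/-
Simplicity checks for the table of type E8.
-/
import Cfsg.Agent.Lib.LieDataE8
import Cfsg.Agent.Lib.LieChevTab5

set_option autoImplicit false
set_option maxRecDepth 20000
set_option maxHeartbeats 1000000

namespace CfsgLib.Lie

open Cfsg.Lie

theorem E8_conn : tabE8.connB = true := by decide +kernel

theorem E8_perf : tabE8.perfB false = true := by decide +kernel

theorem E8_coxElt : tabE8.coxEltB 30 = true := by decide +kernel

end CfsgLib.Lie
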