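/-
Simplicity checks for the table of type F4.
-/
import Cfsg.Agent.Lib.LieDataF4
import Cfsg.Agent.Lib.LieChevTab5

set_option autoImplicit false
set_option maxRecDepth 20000
set_option maxHeartbeats 1000000

namespace CfsgLib.Lie

open Cfsg.Lie

theorem F4_conn : tabF4.connB = true := by decide +kernel

theorem F4_perf : tabF4.perfB false = true := by decide +kernel

theorem F4_coxElt : tabF4.coxEltB 12 = true := by decide +kernel

end CfsgLib.Lie
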