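/-
Simplicity checks for the table of type G2.
-/
import Cfsg.Agent.Lib.LieDataG2
import Cfsg.Agent.Lib.LieChevTab5

set_option autoImplicit false
set_option maxRecDepth 20000
set_option maxHeartbeats 1000000

namespace CfsgLib.Lie

open Cfsg.Lie

theorem G2_conn : tabG2.connB = true := by decide +kernel

theorem G2_perf : tabG2.perfB true = true := by decide +kernel

theorem G2_coxElt : tabG2.coxEltB 6 = true := by decide +kernel

end CfsgLib.Lie
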