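/-
Weyl group checks for the table of type D4.
-/
import Cfsg.Agent.Lib.LieDataD4
import Cfsg.Agent.Lib.LieChevTab3

set_option autoImplicit false
set_option maxRecDepth 20000
set_option maxHeartbeats 1000000

namespace CfsgLib.Lie

open Cfsg.Lie

theorem D4_poly : tabD4.polyB [2, 4, 4, 6] = true := by decide +kernel

theorem D4_cox : tabD4.coxB (fun i j => coxeterD4.M i j) = true := by decide +kernel

theorem D4_etap : tabD4.ηpB = true := by decide +kernel

end CfsgLib.Lie
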