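/-
Weyl group checks for the table of type E8.
-/
import Cfsg.Agent.Lib.LieDataE8
import Cfsg.Agent.Lib.LieChevTab3

set_option autoImplicit false
set_option maxRecDepth 20000
set_option maxHeartbeats 1000000

namespace CfsgLib.Lie

open Cfsg.Lie

theorem E8_poly : tabE8.polyB [2, 8, 12, 14, 18, 20, 24, 30] = true := by decide +kernel

theorem E8_cox : tabE8.coxB (fun i j => CoxeterMatrix.E₈.M i j) = true := by decide +kernel

theorem E8_etap : tabE8.ηpB = true := by decide +kernel

end CfsgLib.Lie
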