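/-
Weyl group checks for the table of type F4.
-/
import Cfsg.Agent.Lib.LieDataF4
import Cfsg.Agent.Lib.LieChevTab3

set_option autoImplicit false
set_option maxRecDepth 20000
set_option maxHeartbeats 1000000

namespace CfsgLib.Lie

open Cfsg.Lie

theorem F4_poly : tabF4.polyB [2, 6, 8, 12] = true := by decide +kernel

theorem F4_cox : tabF4.coxB (fun i j => CoxeterMatrix.F₄.M i j) = true := by decide +kernel

theorem F4_etap : tabF4.ηpB = true := by decide +kernel

end CfsgLib.Lie
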