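/-
The checks for the seven types, collected.
-/
import Cfsg.Agent.Lib.LieChevSimple
import Cfsg.Agent.Lib.LieChevCox
import Cfsg.Agent.Lib.LieSimpleG2
import Cfsg.Agent.Lib.LieSimpleB2
import Cfsg.Agent.Lib.LieSimpleD4
import Cfsg.Agent.Lib.LieSimpleF4
import Cfsg.Agent.Lib.LieSimpleE6
import Cfsg.Agent.Lib.LieSimpleE7
import Cfsg.Agent.Lib.LieSimpleE8
import Cfsg.Agent.Lib.LieExtraG2
import Cfsg.Agent.Lib.LieExtraB2
import Cfsg.Agent.Lib.LieExtraD4
import Cfsg.Agent.Lib.LieExtraF4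
import Cfsg.Agent.Lib.LieExtraE6
import Cfsg.Agent.Lib.LieExtraE7
import Cfsg.Agent.Lib.LieExtraE8
import Cfsg.Agent.Lib.LieWeylG2
import Cfsg.Agent.Lib.LieWeylB2
import Cfsg.Agent.Lib.LieWeylD4
import Cfsg.Agent.Lib.LieWeylF4
import Cfsg.Agent.Lib.LieWeylE6
import Cfsg.Agent.Lib.LieWeylE7
import Cfsg.Agent.Lib.LieWeylE8

set_option autoImplicit false
set_option maxHeartbeats 400000

namespace CfsgLib.Lie

open Cfsg.Lie

namespace Tab

variable {D : ChevalleyDatum} {T : Tab D} {F : Type*} [Field F]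

/-- The matrix of the simple monomial element. -/
theorem eq_sg (hT : T.Checked) (i : Fin D.rank) {g : GL D.Idx F}
    (hg : (g : Matrix D.Idx D.Idx F) = D.nMat F (D.simple i) 1) : g = sg hT i := by
  apply Units.ext
  rw [hg, sg_eq_nel hT, coe_nel hT, simple_eq hT, Units.val_one]

theorem nMat_simple (hT : T.Checked) (i : Fin D.rank) :
    D.nMat F (D.simple i) 1 = (sg (F := F) hT i : Matrix D.Idx D.Idx F) := by
  rw [sg_eq_nel hT, coe_nel hT, simple_eq hT, Units.val_one]

end Tab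

/-- The data needed for the simplicity of the group. -/
theorem exists_simple_data {D : ChevalleyDatum}
    (hD : D ∈ [chevG2, chevB2, chevD4, chevF4, chevE6, chevE7, chevE8]) :
    ∃ (T : Tab D) (odd : Bool), T.Checked ∧ (∀ r, T.extraB r = true) ∧ T.connB = true ∧
      T.perfB odd = true ∧ 0 < D.rank ∧ T.ηpB = true ∧ (odd = true → D = chevG2 ∨ D = chevB2) := by
  simp only [List.mem_cons, List.not_mem_nil, or_false] at hD
  rcases hD with rfl | rfl | rfl | rfl | rfl | rfl | rfl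
  · exact ⟨tabG2, true, checkedG2, G2_extra, G2_conn, G2_perf, by decide, G2_etap, fun _ => Or.inl rfl⟩
  · exact ⟨tabB2, true, checkedB2, B2_extra, B2_conn, B2_perf, by decide, B2_etap, fun _ => Or.inr rfl⟩
  · exact ⟨tabD4, false, checkedD4, D4_extra, D4_conn, D4_perf, by decide, D4_etap, by simp⟩
  · exact ⟨tabF4, false, checkedF4, F4_extra, F4_conn, F4_perf, by decide, F4_etap, by simp⟩
  · exact ⟨tabE6, false, checkedE6, E6_extra, E6_conn, E6_perf, by decide, E6_etap, by simp⟩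
  · exact ⟨tabE7, false, checkedE7, E7_extra, E7_conn, E7_perf, by decide, E7_etap, by simp⟩
  · exact ⟨tabE8, false, checkedE8, E8_extra, E8_conn, E8_perf, by decide, E8_etap, by simp⟩

end CfsgLib.Lie
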