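import Mathlib

/-!
Linear maps of order prime to the characteristic are classified by their characteristic polynomial.
-/

set_option autoImplicit false

namespace CfsgLib.Lie.GLSemisimple

open Polynomial Module
open scoped DirectSum

universe u v w

variable {F : Type u} [Field F]

/-- The component attached to a polynomial. -/
abbrev Q (p : F[X]) : Type u := F[X] ⧸ F[X] ∙ p

/-- Multiplication by the variable. -/
noncomputable def mulX (p : F[X]) : Module.End F (Q p) :=
  ((X : F[X]) • (LinearMap.id : Q p →ₗ[F[X]] Q p)).restrictScalars F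

theorem mulX_apply (p : F[X]) (w : Q p) : mulX p w = (X : F[X]) • w := rfl

theorem finite_Q {p : F[X]} (hp : p ≠ 0) : Module.Finite F (Q p) :=
  (AdjoinRoot.powerBasis hp).finite

theorem charpoly_mulX {p : F[X]} (hp : p.Monic) [Module.Finite F (Q p)] :
    (mulX p).charpoly = p := by
  classical
  have h := charpoly_leftMulMatrix (AdjoinRoot.powerBasis (f := p) hp.ne_zero)
  rw [AdjoinRoot.powerBasis_gen, AdjoinRoot.minpoly_root hp.ne_zero, hp.leadingCoeff, inv_one,
    map_one, mul_one, Algebra.leftMulMatrix_apply] at h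
  rw [← LinearMap.charpoly_toMatrix (mulX p) (AdjoinRoot.powerBasis (f := p) hp.ne_zero).basis]
  refine Eq.trans ?_ h
  congr 2

theorem charpoly_pi : ∀ (ι : Type v) [Fintype ι], ∀ (M : ι → Type w) [∀ i, AddCommGroup (M i)]
    [∀ i, Module F (M i)] [∀ i, Module.Finite F (M i)] (φ : ∀ i, Module.End F (M i)),
    (LinearMap.pi fun i => φ i ∘ₗ LinearMap.proj i).charpoly = ∏ i, (φ i).charpoly := by
  refine Fintype.induction_empty_option (fun α β _ e ih M _ _ _ φ => ?_) (fun M _ _ _ φ => ?_)
    (fun α _ ih M _ _ _ φ => ?_)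
  · letI : Fintype α := Fintype.ofEquiv β e.symm
    have h := LinearEquiv.charpoly_conj (LinearEquiv.piCongrLeft F M e)
      (LinearMap.pi fun i => φ (e i) ∘ₗ LinearMap.proj i)
    rw [ih (fun a => M (e a)) (fun a => φ (e a)), Equiv.prod_comp e (fun b => (φ b).charpoly)] at h
    rw [← h]
    congr 1
    refine LinearMap.ext fun x => funext fun b => ?_
    obtain ⟨a, rfl⟩ := e.surjective b
    rw [LinearEquiv.conj_apply_apply]
    show _ = Equiv.piCongrLeft M e _ (e a)
    rw [Equiv.piCongrLeft_apply_apply]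
    rfl
  · rw [Finset.prod_of_isEmpty]
    refine eq_one_of_monic_natDegree_zero (LinearMap.charpoly_monic _) ?_
    rw [LinearMap.charpoly_natDegree]
    exact Module.finrank_zero_of_subsingleton
  · rw [Fintype.prod_option, ← ih (fun a => M (some a)) (fun a => φ (some a)),
      ← LinearMap.charpoly_prodMap, ← LinearEquiv.charpoly_conj (LinearEquiv.piOptionEquivProd (M := M) F)]
    congr 1

/-- The decomposition of a map of order prime to the characteristic. -/
theorem decomp {V : Type u} [AddCommGroup V] [Module F V] [FiniteDimensional F V]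
    (f : Module.End F V) {N : ℕ} (hN : (N : F) ≠ 0) (hf : f ^ N = 1) :
    ∃ (ι : Type u) (_ : Fintype ι) (p : ι → F[X]) (_ : ∀ i, Irreducible (p i) ∧ (p i).Monic),
      Nonempty (Module.AEval' f ≃ₗ[F[X]] (∀ i, Q (p i))) ∧ f.charpoly = ∏ i, p i := by
  classical
  obtain ⟨ι, _, p, hp, e, ⟨φ⟩⟩ :=
    Module.equiv_directSum_of_isTorsion (R := F[X]) (M := Module.AEval' f)
      (Module.AEval.isTorsion_of_finiteDimensional F V f)
  have he : ∀ i, e i ≤ 1 := by
    intro i
    have h0 : ∀ y : Module.AEval' f, ((X : F[X]) ^ N - 1) • y = 0 := by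
      intro y
      obtain ⟨v, rfl⟩ := (Module.AEval'.of f).surjective y
      rw [sub_smul, one_smul, Module.AEval'.X_pow_smul_of, hf]
      simp
    have h1 := congrArg (DirectSum.component F[X] ι (fun i => F[X] ⧸ F[X] ∙ p i ^ e i) i)
      (show ((X : F[X]) ^ N - 1) • DirectSum.lof F[X] ι (fun i => F[X] ⧸ F[X] ∙ p i ^ e i) i (Ideal.Quotient.mk _ 1) = 0 by
        obtain ⟨y, hy⟩ := φ.surjective (DirectSum.lof F[X] ι (fun i => F[X] ⧸ F[X] ∙ p i ^ e i) i (Ideal.Quotient.mk _ 1))
        rw [← hy, ← map_smul, h0, map_zero])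
    rw [map_smul, DirectSum.component.lof_self, map_zero] at h1
    change Ideal.Quotient.mk (F[X] ∙ p i ^ e i) (((X : F[X]) ^ N - 1) * 1) = 0 at h1
    rw [mul_one, Ideal.Quotient.eq_zero_iff_mem] at h1
    have h2 := Ideal.mem_span_singleton.1 h1
    have hsq : Squarefree ((X : F[X]) ^ N - 1) := (Polynomial.X_pow_sub_one_separable_iff.2 hN).squarefree
    by_contra hlt
    exact (hp i).not_isUnit (hsq (p i) (((pow_dvd_pow (p i) (by omega : 2 ≤ e i)).trans h2) |> fun h => by rwa [← pow_two]))
  -- keep the indices with exponent one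
  haveI : ∀ j : {i // ¬ e i = 1}, Subsingleton (Q (p j.1 ^ e j.1)) := fun j => by
    rw [Ideal.Quotient.subsingleton_iff]
    have := he j.1; have := j.2
    simp [show e j.1 = 0 by omega]
  let q : {i // e i = 1} → F[X] := fun i => normalize (p i.1)
  have hspan : ∀ i : {i // e i = 1}, (F[X] ∙ p i.1 ^ e i.1) = F[X] ∙ q i := by
    intro i
    rw [i.2, pow_one]
    exact Ideal.span_singleton_eq_span_singleton.2 (associated_normalize _)
  let ψ : Module.AEval' f ≃ₗ[F[X]] (∀ i, Q (q i)) :=
    (φ.trans (DirectSum.linearEquivFunOnFintype F[X] ι _)).trans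
      (((LinearEquiv.ofBijective (LinearMap.pi fun i : {i // e i = 1} =>
        (LinearMap.proj i.1 : (∀ j, Q (p j ^ e j)) →ₗ[F[X]] _)) (by
          refine ⟨fun x y h => funext fun j => ?_, fun z => ?_⟩
          · by_cases hj : e j = 1
            · exact congrFun h ⟨j, hj⟩
            · haveI := (inferInstance : ∀ j : {i // ¬ e i = 1}, Subsingleton (Q (p j.1 ^ e j.1))) ⟨j, hj⟩
              exact Subsingleton.elim _ _
          · exact ⟨fun j => if hj : e j = 1 then z ⟨j, hj⟩ else 0, funext fun i => dif_pos i.2⟩))).trans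
        (LinearEquiv.piCongrRight fun i => Submodule.quotEquivOfEq _ _ (hspan i)))
  have hq : ∀ i, Irreducible (q i) ∧ (q i).Monic := fun i =>
    ⟨(associated_normalize _).irreducible (hp i.1), Polynomial.monic_normalize (hp i.1).ne_zero⟩
  haveI : ∀ i, Module.Finite F (Q (q i)) := fun i => finite_Q (hq i).1.ne_zero
  refine ⟨_, inferInstance, q, hq, ⟨ψ⟩, ?_⟩
  rw [← LinearEquiv.charpoly_conj ((Module.AEval'.of f).trans (ψ.restrictScalars F)) f,
    ← Finset.prod_congr rfl fun i _ => charpoly_mulX (hq i).2,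
    ← charpoly_pi _ (fun i => Q (q i)) fun i => mulX (q i)]
  congr 1
  refine LinearMap.ext fun x => funext fun i => ?_
  rw [LinearEquiv.conj_apply_apply]
  show ψ (Module.AEval'.of f (f ((Module.AEval'.of f).symm (ψ.symm x)))) i = (X : F[X]) • x i
  rw [← Module.AEval'.X_smul_of, LinearEquiv.apply_symm_apply, map_smul, LinearEquiv.apply_symm_apply]
  rfl

theorem exists_equiv_of_map_eq {ι κ : Type u} [Fintype ι] [Fintype κ] {α : Type v}
    (a : ι → α) (b : κ → α)
    (h : (Finset.univ : Finset ι).val.map a = (Finset.univ : Finset κ).val.map b) :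
    ∃ σ : ι ≃ κ, ∀ i, b (σ i) = a i := by
  classical
  have hc : ∀ v, Fintype.card {i // a i = v} = Fintype.card {j // b j = v} := by
    intro v
    have h' := congrArg (Multiset.count v) h
    rw [Multiset.count_map, Multiset.count_map] at h'
    rw [Fintype.card_subtype, Fintype.card_subtype]
    convert h' using 1 <;>
      simp only [Finset.card, Finset.filter_val, eq_comm]
  let σ := (Equiv.sigmaFiberEquiv a).symm.trans
    ((Equiv.sigmaCongrRight fun v => Fintype.equivOfCardEq (hc v)).trans (Equiv.sigmaFiberEquiv b))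
  exact ⟨σ, fun i => (Fintype.equivOfCardEq (hc (a i)) ⟨i, rfl⟩).2⟩

/-- Maps of order prime to the characteristic with equal characteristic polynomials are similar. -/
theorem exists_conj {V : Type u} [AddCommGroup V] [Module F V] [FiniteDimensional F V]
    (f g : Module.End F V) {N M : ℕ} (hN : (N : F) ≠ 0) (hM : (M : F) ≠ 0) (hf : f ^ N = 1)
    (hg : g ^ M = 1) (hc : f.charpoly = g.charpoly) : ∃ P : V ≃ₗ[F] V, ∀ x, P (f x) = g (P x) := by
  classical
  obtain ⟨ι, _, p, hp, ⟨φ⟩, hφ⟩ := decomp f hN hf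
  obtain ⟨κ, _, q, hq, ⟨ψ⟩, hψ⟩ := decomp g hM hg
  have hkey : ∀ (α : Type u) [Fintype α] (r : α → F[X]), (∀ i, Irreducible (r i) ∧ (r i).Monic) →
      UniqueFactorizationMonoid.normalizedFactors (∏ i, r i) = Finset.univ.val.map r := by
    intro α _ r hr
    rw [Finset.prod, UniqueFactorizationMonoid.normalizedFactors_prod_eq _ (fun x hx => by
      obtain ⟨i, _, rfl⟩ := Multiset.mem_map.1 hx
      exact (hr i).1)]
    refine (Multiset.map_map _ _ _).trans (Multiset.map_congr rfl fun i _ => ?_)
    exact (hr i).2.normalize_eq_self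
  have hm : (Finset.univ : Finset ι).val.map p = (Finset.univ : Finset κ).val.map q := by
    rw [← hkey ι p hp, ← hkey κ q hq, ← hφ, ← hψ, hc]
  obtain ⟨σ, hσ⟩ := exists_equiv_of_map_eq p q hm
  let R : Module.AEval' f ≃ₗ[F[X]] Module.AEval' g :=
    φ.trans ((LinearEquiv.piCongrRight fun i =>
      Submodule.quotEquivOfEq _ _ (congrArg (fun r => F[X] ∙ r) (hσ i).symm)).trans
      ((LinearEquiv.piCongrLeft F[X] (fun j => Q (q j)) σ).trans ψ.symm))
  refine ⟨(Module.AEval'.of f).trans ((R.restrictScalars F).trans (Module.AEval'.of g).symm),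
    fun x => ?_⟩
  show (Module.AEval'.of g).symm (R (Module.AEval'.of f (f x))) = _
  rw [← Module.AEval'.X_smul_of, map_smul, Module.AEval'.of_symm_X_smul]
  rfl

end CfsgLib.Lie.GLSemisimple
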