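/-
Executable checks for symmetries, orbits and the centralised part of the Weyl group.
-/
import Cfsg.Agent.Lib.LieChevTab

set_option autoImplicit false

namespace CfsgLib.Lie

open Cfsg.Lie

namespace Tab

variable {D : ChevalleyDatum} (T : Tab D)

/-- Tables of a symmetry and of its orbits. -/
structure TwData (D : ChevalleyDatum) where
  rho : Fin D.nroots → Fin D.nroots
  rhoInv : Fin D.nroots → Fin D.nroots
  rhoi : Fin D.rank → Fin D.rank
  rhoiInv : Fin D.rank → Fin D.rank
  n : ℕ
  J : Fin n → List (Fin D.rank)
  wl : Fin n → List (Fin D.rank)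

/-- The permutation of a word as a function. -/
def pwf (L : List (Fin D.rank)) (r : Fin D.nroots) : Fin D.nroots := L.foldr (fun i x => T.w i x) r

def posB (_T : Tab D) (r : Fin D.nroots) : Bool := Nat.ble D.nroots (2 * r.val)

/-- Iteration. -/
def iterF {α : Type} (f : α → α) : ℕ → α → α
  | 0, x => x
  | k + 1, x => f (iterF f k x)

def symB (Z : TwData D) : Bool :=
  ((List.finRange D.nroots).all fun r => decide (Z.rhoInv (Z.rho r) = r) && decide (Z.rho (Z.rhoInv r) = r) &&
    decide (Z.rho (T.ng r) = T.ng (Z.rho r)) && (T.posB (Z.rho r) == T.posB r) &&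
    ((List.finRange D.rank).all fun i => decide (Z.rho (T.w i r) = T.w (Z.rhoi i) (Z.rho r)))) &&
  ((List.finRange D.rank).all fun i => decide (Z.rhoiInv (Z.rhoi i) = i) && decide (Z.rhoi (Z.rhoiInv i) = i) &&
    decide (Z.rho (T.p i) = T.p (Z.rhoi i)))

def orbB (Z : TwData D) : Bool :=
  ((List.finRange D.rank).all fun i => (List.finRange Z.n).any fun o => (Z.J o).contains i) &&
  ((List.finRange Z.n).all fun o =>
    !(Z.J o).isEmpty &&
    ((List.finRange Z.n).all fun o' => decide (o = o') || (Z.J o).all fun i => !(Z.J o').contains i) &&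
    ((Z.J o).all fun i => (Z.J o).contains (Z.rhoi i) && !(T.posB (T.pwf (Z.wl o) (T.p i))) &&
      (Z.J o).all fun j => (List.range D.rank).any fun k => decide (iterF Z.rhoi k i = j)) &&
    ((Z.wl o).all fun i => (Z.J o).contains i) &&
    ((List.finRange D.nroots).all fun r =>
      decide (Z.rho (T.pwf (Z.wl o) r) = T.pwf (Z.wl o) (Z.rho r)) &&
      decide (T.pwf (Z.wl o) (T.pwf (Z.wl o) r) = r)))

/-- Enumeration of the centralised part of the Weyl group by breadth-first search. -/
structure WCert (D : ChevalleyDatum) (Z : TwData D) where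
  N : ℕ
  /-- images of the fundamental roots, in base `256` -/
  el : ℕ → ℕ
  nxt : ℕ → ℕ
  par : ℕ → ℕ
  pos : ℕ → ℕ
  srt : ℕ → ℕ

/-- Entry of a table packed in chunks of `64` entries of `64` bits. -/
noncomputable def chunkAt (t : NT) (k : ℕ) : ℕ :=
  Nat.mod (Nat.shiftRight (t.get (Nat.div k 64)) (Nat.mul 64 (Nat.mod k 64))) 18446744073709551616

def encR : List (Fin D.nroots) → ℕ
  | [] => 0
  | r :: l => r.val + 256 * encR l

def decR (h : 0 < D.nroots) (x : ℕ) : List (Fin D.nroots) :=
  (List.finRange D.rank).map fun i => ⟨Nat.mod (byteAt x i.val) D.nroots, Nat.mod_lt _ h⟩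

def lenC (img : List (Fin D.nroots)) : ℕ :=
  let keys := img.map fun r => T.key r
  ((List.finRange D.nroots).filter fun r => T.posB r &&
    decide (((((List.finRange D.rank).map fun m => T.co r m).zip keys).map fun e => e.1 * e.2).sum < 0)).length

noncomputable def certB (Z : TwData D) (C : WCert D Z) : Bool :=
  decide (0 < C.N) && decide (C.el 0 = encR ((List.finRange D.rank).map T.p)) &&
  ((List.range C.N).all fun k =>
    decide (C.pos k < C.N) && decide (C.srt (C.pos k) = k) &&
    (decide (C.N ≤ k + 1) || Nat.blt (C.el (C.srt k)) (C.el (C.srt (k + 1)))) &&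
    ((List.finRange Z.n).all fun o =>
      if h : 0 < D.nroots then
        let m := Nat.mod (Nat.shiftRight (C.nxt k) (Nat.mul 16 o.val)) 65536
        decide (m < C.N) && decide (C.el m = encR ((decR h (C.el k)).map (T.pwf (Z.wl o))))
      else false) &&
    (decide (k = 0) ||
      let j := Nat.div (C.par k) 8
      (List.finRange Z.n).any fun o => decide (o.val = Nat.mod (C.par k) 8) && decide (j < k) &&
        decide (Nat.mod (Nat.shiftRight (C.nxt j) (Nat.mul 16 o.val)) 65536 = k)))

/-- The lengths, divided by `s`, have the given distribution. -/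
noncomputable def distB (Z : TwData D) (C : WCert D Z) (s : ℕ) (P : List ℕ) : Bool :=
  if h : 0 < D.nroots then
    let ls := (List.range C.N).map fun k => T.lenC (decR h (C.el k))
    (ls.all fun l => decide (l = s * (l / s)) && decide (l / s < P.length)) &&
    ((List.range P.length).all fun j => decide ((ls.filter fun l => decide (l / s = j)).length = P.getD j 0))
  else false

/-- Powers of products of two orbit reflections. -/
def powO (Z : TwData D) (a b : Fin Z.n) : ℕ → Fin D.nroots → Fin D.nroots
  | 0, r => r
  | k + 1, r => T.pwf (Z.wl a) (T.pwf (Z.wl b) (powO Z a b k r))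

def coxOB (Z : TwData D) (M : Fin Z.n → Fin Z.n → ℕ) : Bool :=
  (List.finRange Z.n).all fun a => (List.finRange Z.n).all fun b =>
    (List.finRange D.nroots).all fun r => decide (T.powO Z a b (M a b) r = r)

def connOB (Z : TwData D) : Bool :=
  (List.range (2 ^ Z.n)).all fun x => decide (x = 0) || decide (x = 2 ^ Z.n - 1) ||
    (List.finRange Z.n).any fun a => (List.finRange Z.n).any fun b =>
      Nat.testBit x a.val && !(Nat.testBit x b.val) &&
        (List.finRange D.nroots).any fun r =>
          decide (T.pwf (Z.wl a) (T.pwf (Z.wl b) r) ≠ T.pwf (Z.wl b) (T.pwf (Z.wl a) r))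

end Tab

end CfsgLib.Lie
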