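/-
Executable check of an isogeny between the quotient by, and the restriction to, the ideal of short roots.
-/
import Cfsg.Agent.Lib.LieTwistTab

set_option autoImplicit false

namespace CfsgLib.Lie

open Cfsg.Lie

namespace Tab

variable {D : ChevalleyDatum} (T : Tab D)

/-- Tables of an exceptional isogeny in characteristic `p`. -/
structure IsoData (D : ChevalleyDatum) where
  p : ℕ
  k : ℕ
  eI : Fin k → D.Idx
  eQ : Fin k → D.Idx
  rho : Fin D.nroots → Fin D.nroots
  rhoi : Fin D.rank → Fin D.rank
  ex : Fin D.rank → ℕ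
  short : Fin D.nroots → Bool

/-- An entry of a sparse column. -/
def ent (L : List (D.Idx × ℤ)) (a : D.Idx) : ℤ := ((L.filter fun e => decide (e.1 = a)).map Prod.snd).sum

/-- The coefficient of degree `k`, zero unless `e` divides `k`. -/
def coI (k e : ℕ) (r : Fin D.nroots) (a b : D.Idx) : ℤ :=
  if Nat.mod k e = 0 then ent (T.acol (Nat.div k e) r b) a else 0

/-- The coordinates split into two halves and the ideal is stable under the generators. -/
def idealB (Z : IsoData D) : Bool :=
  ((List.finRange Z.k).map Z.eI ++ (List.finRange Z.k).map Z.eQ).Nodup &&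
  decide (Z.k + Z.k = D.rank + D.nroots) &&
  (List.finRange D.rank).all fun i => [T.p i, T.ng (T.p i)].all fun r => [1, 2, 3].all fun k =>
    (List.finRange Z.k).all fun x => (List.finRange Z.k).all fun y =>
      decide (ent (T.acol k r (Z.eI y)) (Z.eQ x) % (Z.p : ℤ) = 0)

/-- The images of the generators. -/
def genB (Z : IsoData D) : Bool :=
  (List.finRange D.rank).all fun i =>
    decide (Z.rho (T.p i) = T.p (Z.rhoi i)) && decide (Z.rho (T.ng (T.p i)) = T.ng (T.p (Z.rhoi i))) &&
    decide (Z.rhoi (Z.rhoi i) = i) && decide (Z.ex i * Z.ex (Z.rhoi i) = Z.p) &&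
    decide (1 ≤ Z.ex i) && decide (Z.ex i ≤ 3) &&
    [T.p i, T.ng (T.p i)].all fun r =>
      (List.finRange Z.k).all fun x => (List.finRange Z.k).all fun y => [0, 1, 2, 3].all fun k =>
        decide ((ent (T.acol k r (Z.eQ y)) (Z.eQ x) - T.coI k (Z.ex i) (Z.rho r) (Z.eI x) (Z.eI y)) % (Z.p : ℤ) = 0) &&
          (decide (Z.ex i * k < 4) || decide (ent (T.acol k (Z.rho r) (Z.eI y)) (Z.eI x) % (Z.p : ℤ) = 0))

/-- The short roots lie in the ideal and span. -/
def spanB (Z : IsoData D) : Bool :=
  (List.finRange D.nroots).all fun r =>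
    (!(Z.short r) || (List.finRange Z.k).any fun x => decide (Z.eI x = Sum.inr r)) &&
    (Z.short r || (List.finRange D.nroots).any fun a => (List.finRange D.nroots).any fun b =>
      Z.short a && Z.short b && (List.finRange D.rank).all fun m => decide (T.co r m = T.co a m + T.co b m))

end Tab

end CfsgLib.Lie
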