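/-
Twisting endomorphisms of Chevalley groups: action on root subgroups, torus and monomial subgroup.
-/
import Cfsg.Agent.Lib.LieChevField

set_option autoImplicit false
set_option maxHeartbeats 400000

namespace CfsgLib.Lie

open Cfsg.Lie

namespace Tab

variable {D : ChevalleyDatum} {T : Tab D}

/-- A symmetry of the table preserving the fundamental roots. -/
structure Sym (T : Tab D) where
  ρ : Equiv.Perm (Fin D.nroots)
  ρi : Equiv.Perm (Fin D.rank)
  ρ_p : ∀ i, ρ (T.p i) = T.p (ρi i)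
  ρ_ng : ∀ r, ρ (T.ng r) = T.ng (ρ r)
  ρ_w : ∀ i r, ρ (T.w i r) = T.w (ρi i) (ρ r)
  ρ_pos : ∀ r, T.Pos (ρ r) ↔ T.Pos r

/-- An endomorphism of the group moving the simple root elements along a symmetry. -/
structure Twist (hT : T.Checked) (K : Type*) [Field K] extends Sym T where
  τ : GL D.Idx K → GL D.Idx K
  φ : Fin D.rank → K ≃+* K
  τ_mem : ∀ g ∈ D.group K, τ g ∈ D.group K
  τ_mul : ∀ g ∈ D.group K, ∀ g' ∈ D.group K, τ (g * g') = τ g * τ g'
  τ_p : ∀ i (t : K), τ (u hT (T.p i) t) = u hT (T.p (ρi i)) (φ i t)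
  τ_n : ∀ i (t : K), τ (u hT (T.ng (T.p i)) t) = u hT (T.ng (T.p (ρi i))) (φ i t)

namespace Twist

variable {K : Type*} [Field K] {hT : T.Checked} (W : Twist hT K)

theorem τ_one : W.τ 1 = 1 := by
  have h := W.τ_mul 1 (one_mem _) 1 (one_mem _)
  rw [one_mul] at h
  exact left_eq_mul.1 h

theorem τ_inv {g : GL D.Idx K} (hg : g ∈ D.group K) : W.τ g⁻¹ = (W.τ g)⁻¹ := by
  have h := W.τ_mul g hg g⁻¹ (inv_mem hg)
  rw [mul_inv_cancel, τ_one] at h
  exact (inv_eq_of_mul_eq_one_right h.symm).symm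

theorem τ_conj {g x : GL D.Idx K} (hg : g ∈ D.group K) (hx : x ∈ D.group K) :
    W.τ (g * x * g⁻¹) = W.τ g * W.τ x * (W.τ g)⁻¹ := by
  rw [W.τ_mul _ (mul_mem hg hx) _ (inv_mem hg), W.τ_mul _ hg _ hx, τ_inv W hg]

/-- The twisting endomorphism on the group. -/
def hom : ↥(D.group K) →* ↥(D.group K) where
  toFun g := ⟨W.τ g, W.τ_mem g g.2⟩
  map_one' := Subtype.ext W.τ_one
  map_mul' g g' := Subtype.ext (W.τ_mul g g.2 g' g'.2)

/-- The fixed points. -/
def fixed : Subgroup (GL D.Idx K) where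
  carrier := {g | g ∈ D.group K ∧ W.τ g = g}
  one_mem' := ⟨one_mem _, W.τ_one⟩
  mul_mem' {a b} ha hb := ⟨mul_mem ha.1 hb.1, by rw [W.τ_mul a ha.1 b hb.1, ha.2, hb.2]⟩
  inv_mem' {a} ha := ⟨inv_mem ha.1, by rw [W.τ_inv ha.1, ha.2]⟩

theorem mem_fixed {g : GL D.Idx K} : g ∈ W.fixed ↔ g ∈ D.group K ∧ W.τ g = g := Iff.rfl

theorem fixed_le : W.fixed ≤ D.group K := fun _ h => h.1

theorem τ_sg (i : Fin D.rank) : W.τ (sg hT i) = sg hT (W.ρi i) := by
  rw [sg_eq, W.τ_mul _ (mul_mem (u_mem_group hT _ _) (u_mem_group hT _ _)) _ (u_mem_group hT _ _),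
    W.τ_mul _ (u_mem_group hT _ _) _ (u_mem_group hT _ _), W.τ_p, W.τ_n, sg_eq]
  simp

theorem sg_mem (i : Fin D.rank) : sg hT i ∈ D.group K := monomial_le_group hT (sg_mem_monomial hT i)

theorem gw_mem (L : List (Fin D.rank)) : gw hT L ∈ D.group K := monomial_le_group hT (gw_mem_monomial hT L)

theorem τ_gw : ∀ L : List (Fin D.rank), W.τ (gw hT L) = gw hT (L.map W.ρi)
  | [] => W.τ_one
  | i :: L => by
    rw [gw_cons, W.τ_mul _ (sg_mem i) _ (gw_mem L), τ_sg, τ_gw L, List.map_cons, gw_cons]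

theorem pw_map_apply : ∀ (L : List (Fin D.rank)) (r : Fin D.nroots),
    pw hT (L.map W.ρi) (W.ρ r) = W.ρ (pw hT L r)
  | [], r => rfl
  | i :: L, r => by
    simp only [List.map_cons, pw_cons, Equiv.Perm.mul_apply, wp_apply, pw_map_apply L r, W.ρ_w]

theorem pw_map (L : List (Fin D.rank)) : pw hT (L.map W.ρi) = W.ρ * pw hT L * W.ρ⁻¹ := by
  ext r
  have := W.pw_map_apply L (W.ρ⁻¹ r)
  rw [Equiv.Perm.coe_inv, Equiv.apply_symm_apply] at this
  rw [this]
  rfl

/-- The action on a root subgroup. -/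
theorem exists_τ_u (r : Fin D.nroots) :
    ∃ (c : Kˣ) (f : K ≃+* K), ∀ t : K, W.τ (u hT r t) = u hT (W.ρ r) ((c : K) * f t) := by
  refine root_induction hT (P := fun r => ∃ (c : Kˣ) (f : K ≃+* K),
    ∀ t : K, W.τ (u hT r t) = u hT (W.ρ r) ((c : K) * f t)) (fun i => ⟨1, W.φ i, fun t => ?_⟩) ?_ r
  · rw [W.τ_p, W.ρ_p, Units.val_one, one_mul]
  · rintro i r ⟨c, f, h⟩
    obtain ⟨e, he⟩ := exists_η_unit (F := K) hT i r
    obtain ⟨e', he'⟩ := exists_η_unit (F := K) hT (W.ρi i) (W.ρ r)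
    refine ⟨e' * c * (Units.map (f : K →* K) e)⁻¹, f, fun t => ?_⟩
    have h1 : u hT (T.w i r) t = sg hT i * u hT r ((e⁻¹ : Kˣ) * t) * (sg hT i)⁻¹ := by
      rw [sg_conj_u, ← he, ← mul_assoc, ← Units.val_mul, mul_inv_cancel, Units.val_one, one_mul]
    rw [h1, W.τ_conj (sg_mem i) (u_mem_group hT _ _), τ_sg, h, sg_conj_u, W.ρ_w, ← he', map_mul]
    congr 1
    simp only [Units.val_mul, map_inv₀, Units.coe_map, MonoidHom.coe_coe, Units.val_inv_eq_inv_val]
    ring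

theorem τ_Ugrp {S S' : Set (Fin D.nroots)} (hS : ∀ r ∈ S, W.ρ r ∈ S') {g : GL D.Idx K}
    (hg : g ∈ Ugrp hT K S) : W.τ g ∈ Ugrp hT K S' := by
  have hle : Ugrp hT K S ≤ D.group K := Ugrp_le hT fun r _ t => u_mem_group hT r t
  induction hg using Subgroup.closure_induction with
  | mem g hg =>
    obtain ⟨r, hr, t, rfl⟩ := hg
    obtain ⟨c, f, h⟩ := W.exists_τ_u r
    rw [h]
    exact u_mem_Ugrp hT (hS r hr) _
  | one => rw [τ_one]; exact one_mem _
  | mul a b ha hb iha ihb => rw [W.τ_mul a (hle ha) b (hle hb)]; exact mul_mem iha ihb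
  | inv a ha iha => rw [W.τ_inv (hle ha)]; exact inv_mem iha

theorem τ_pos {g : GL D.Idx K} (hg : g ∈ D.posUnipotent K) : W.τ g ∈ D.posUnipotent K := by
  rw [posUnipotent_eq hT] at hg ⊢
  exact W.τ_Ugrp (fun r hr => (W.ρ_pos r).2 hr) hg

/-- The action on the parameters of the torus. -/
def hatC (c : Fin D.rank → Kˣ) : Fin D.rank → Kˣ :=
  fun j => Units.map (W.φ (W.ρi⁻¹ j) : K →* K) (c (W.ρi⁻¹ j))

theorem nel_mem (r : Fin D.nroots) (t : Kˣ) : nel hT r t ∈ D.group K :=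
  mul_mem (mul_mem (u_mem_group hT _ _) (u_mem_group hT _ _)) (u_mem_group hT _ _)

theorem τ_nel (i : Fin D.rank) (t : Kˣ) :
    W.τ (nel hT (T.p i) t) = nel hT (T.p (W.ρi i)) (Units.map (W.φ i : K →* K) t) := by
  unfold nel
  rw [W.τ_mul _ (mul_mem (u_mem_group hT _ _) (u_mem_group hT _ _)) _ (u_mem_group hT _ _),
    W.τ_mul _ (u_mem_group hT _ _) _ (u_mem_group hT _ _), W.τ_p, W.τ_n]
  simp

theorem τ_hel (i : Fin D.rank) (t : Kˣ) :
    W.τ (hel hT (T.p i) t) = hel hT (T.p (W.ρi i)) (Units.map (W.φ i : K →* K) t) := by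
  rw [hel, W.τ_mul _ (nel_mem _ _) _ (nel_mem _ _), τ_nel, τ_nel, hel]
  congr 2
  ext
  simp

theorem τ_torus (c : Fin D.rank → Kˣ) : W.τ (torus T c) = torus T (W.hatC c) := by
  classical
  have hhom : ∀ L : List (Fin D.rank), W.τ (L.map fun i => hel hT (T.p i) (c i)).prod =
      ((L.map W.ρi).map fun j => hel hT (T.p j) (W.hatC c j)).prod := by
    intro L
    induction L with
    | nil => exact W.τ_one
    | cons i L ih =>
      have hmem : ∀ x ∈ L.map (fun i => hel (F := K) hT (T.p i) (c i)), x ∈ D.group K := by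
        intro x hx
        simp only [List.mem_map] at hx
        obtain ⟨j, _, rfl⟩ := hx
        exact monomial_le_group hT (diagonal_le_monomial hT (hel_mem_diagonal hT _ _))
      rw [List.map_cons, List.prod_cons,
        W.τ_mul _ (monomial_le_group hT (diagonal_le_monomial hT (hel_mem_diagonal hT _ _))) _
          (Subgroup.list_prod_mem _ hmem), ih, τ_hel]
      simp [hatC]
  have hh : ∀ L : List (Fin D.rank), (L.map fun i => hel (F := K) hT (T.p i) (W.hatC c i)).prod =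
      dg (D := D) (fun r => (L.map fun i => hc T (T.p i) (W.hatC c i) r).prod) := by
    intro L
    induction L with
    | nil => exact (map_one (dg (D := D) (F := K))).symm
    | cons i L ih =>
      rw [List.map_cons, List.prod_cons, ih, hel_eq, ← map_mul]
      rfl
  rw [torus_eq_prod_hel hT, hhom, torus_eq_prod_hel hT, hh, hh]
  congr 1
  funext r
  refine List.Perm.prod_eq (List.Perm.map _ ?_)
  refine (List.perm_ext_iff_of_nodup ((List.nodup_finRange _).map W.ρi.injective) (List.nodup_finRange _)).2 ?_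
  intro j
  simp only [List.mem_map, List.mem_finRange, iff_true, true_and]
  exact ⟨W.ρi.symm j, W.ρi.apply_symm_apply j⟩

theorem τ_diagonal {g : GL D.Idx K} (hg : g ∈ D.diagonalSubgroup K) : W.τ g ∈ D.diagonalSubgroup K := by
  rw [diagonal_eq hT] at hg ⊢
  obtain ⟨c, rfl⟩ := hg
  exact ⟨_, (W.τ_torus c).symm⟩

theorem τ_borel {g : GL D.Idx K} (hg : g ∈ D.borelSubgroup K) : W.τ g ∈ D.borelSubgroup K := by
  obtain ⟨v, hv, h, hh, rfl⟩ := (mem_borel hT).1 hg
  rw [W.τ_mul _ (borel_le_group hT (Subgroup.mem_sup_left hv)) _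
    (borel_le_group hT (Subgroup.mem_sup_right hh))]
  exact mul_mem (Subgroup.mem_sup_left (W.τ_pos hv)) (Subgroup.mem_sup_right (W.τ_diagonal hh))

theorem τ_monomial {g : GL D.Idx K} (hg : g ∈ D.monomialSubgroup K) :
    W.τ g ∈ D.monomialSubgroup K := by
  obtain ⟨L, h, hh, rfl⟩ := exists_word hT hg
  rw [W.τ_mul _ (monomial_le_group hT (diagonal_le_monomial hT hh)) _ (gw_mem L), τ_gw]
  exact mul_mem (diagonal_le_monomial hT (W.τ_diagonal hh)) (gw_mem_monomial hT _)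

theorem τ_acts {g : GL D.Idx K} (hg : g ∈ D.monomialSubgroup K) {π : Equiv.Perm (Fin D.nroots)}
    (h : Acts hT g π) : Acts hT (W.τ g) (W.ρ * π * W.ρ⁻¹) := by
  obtain ⟨L, d, hd, rfl⟩ := exists_word hT hg
  have hπ : π = pw hT L := by
    have h' := (acts_diagonal hT hd).mul hT (acts_gw (F := K) hT L)
    rw [one_mul] at h'
    exact h.unique hT h'
  rw [W.τ_mul _ (monomial_le_group hT (diagonal_le_monomial hT hd)) _ (gw_mem L), τ_gw, hπ, ← pw_map]
  have := (acts_diagonal hT (W.τ_diagonal hd)).mul hT (acts_gw (F := K) hT (L.map W.ρi))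
  rwa [one_mul] at this

variable (hE : ∀ r, T.extraB r = true)
include hE

/-- A fixed element has a decomposition into fixed factors. -/
theorem fixed_decomp {g : GL D.Idx K} (hg : g ∈ W.fixed) :
    ∃ v ∈ D.posUnipotent K, ∃ m ∈ D.monomialSubgroup K, ∃ L, ∃ c ∈ Ugrp hT K (negSet T (pw hT L)),
      Acts hT m (pw hT L) ∧ W.ρ * pw hT L * W.ρ⁻¹ = pw hT L ∧ W.τ v = v ∧ W.τ m = m ∧ W.τ c = c ∧
        g = v * m * c := by
  obtain ⟨b, hb, n, hn, L, hL, c, hc, e⟩ := canonical_exists hT hE hg.1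
  have hcp : c ∈ D.posUnipotent K := by
    rw [posUnipotent_eq hT]; exact Ugrp_mono hT (fun r hr => hr.1) hc
  have hcg : c ∈ D.group K := borel_le_group hT (Subgroup.mem_sup_left hcp)
  have hbg := borel_le_group hT hb
  have hng := monomial_le_group hT hn
  have hs : W.τ b * W.τ n * W.τ c = b * n * c := by
    rw [← W.τ_mul _ hbg _ hng, ← W.τ_mul _ (mul_mem hbg hng) _ hcg, ← e]
    exact hg.2
  have hh1 : (W.τ n)⁻¹ * n ∈ D.diagonalSubgroup K :=
    canonical_class hT hE (W.τ_borel hb) hb (W.τ_monomial hn) hn (W.τ_pos hcp) hcp hs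
  have hπ : W.ρ * pw hT L * W.ρ⁻¹ = pw hT L := by
    refine Acts.unique hT ?_ hL
    have h1 := (W.τ_acts hn hL).mul hT (acts_diagonal hT hh1)
    rwa [mul_inv_cancel_left, mul_one] at h1
  have hh2 : W.τ n * n⁻¹ ∈ D.diagonalSubgroup K := by
    have := diagonal_normal_monomial hT hn (inv_mem hh1)
    rwa [mul_inv_rev, inv_inv, ← mul_assoc, mul_inv_cancel, one_mul] at this
  have hc' : W.τ c ∈ Ugrp hT K (negSet T (pw hT L)) := by
    refine W.τ_Ugrp (fun r hr => (And.intro ((W.ρ_pos r).2 hr.1) fun hp => hr.2 ?_ : W.ρ r ∈ negSet T (pw hT L))) hc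
    have h1 : pw hT L (W.ρ r) = W.ρ (pw hT L r) := by
      conv_lhs => rw [← hπ]
      simp
    rw [h1] at hp
    exact (W.ρ_pos _).1 hp
  have hs' : W.τ b * (W.τ n * n⁻¹) * n * W.τ c = b * n * c := by
    rw [← hs]; group
  obtain ⟨eb, ec⟩ := canonical_unique hT (mul_mem (W.τ_borel hb) (Subgroup.mem_sup_right hh2)) hb hL hc' hc hs'
  obtain ⟨v, hv, h, hh, ev⟩ := (mem_borel hT).1 hb
  have hvg := borel_le_group hT (Subgroup.mem_sup_left hv : v ∈ D.borelSubgroup K)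
  have hhg := borel_le_group hT (Subgroup.mem_sup_right hh : h ∈ D.borelSubgroup K)
  subst ev
  rw [W.τ_mul _ hvg _ hhg, mul_assoc] at eb
  obtain ⟨evv, ehh⟩ := borel_unique hT (W.τ_pos hv) hv (mul_mem (W.τ_diagonal hh) hh2) hh eb
  refine ⟨v, hv, h * n, mul_mem (diagonal_le_monomial hT hh) hn, L, c, hc, ?_, hπ, evv, ?_, ec, ?_⟩
  · simpa using (acts_diagonal hT hh).mul hT hL
  · rw [W.τ_mul _ hhg _ hng]
    calc W.τ h * W.τ n = W.τ h * (W.τ n * n⁻¹) * n := by group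
      _ = _ := by rw [ehh]
  · rw [e]; group

end Twist

end Tab

end CfsgLib.Lie
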