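/-
Orbits of a symmetry on the fundamental roots and the centralised part of the Weyl group.
-/
import Cfsg.Agent.Lib.LieTwist

set_option autoImplicit false
set_option maxHeartbeats 400000

namespace CfsgLib.Lie

open Cfsg.Lie

namespace Tab

variable {D : ChevalleyDatum} {T : Tab D}

/-- The positive roots with support in `J`. -/
def rootsOf (T : Tab D) (J : List (Fin D.rank)) : Set (Fin D.nroots) :=
  {r | T.Pos r ∧ ∀ m, m ∉ J → T.co r m = 0}

/-- The orbits on the fundamental roots, with the longest word of each. -/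
structure Orbs (hT : T.Checked) (S : Sym T) where
  n : ℕ
  J : Fin n → List (Fin D.rank)
  wl : Fin n → List (Fin D.rank)
  cover : ∀ i, ∃ o, i ∈ J o
  disj : ∀ o o' i, i ∈ J o → i ∈ J o' → o = o'
  nonempty : ∀ o, ∃ i, i ∈ J o
  closed : ∀ o i, i ∈ J o → S.ρi i ∈ J o
  trans : ∀ o, ∀ i ∈ J o, ∀ j ∈ J o, ∃ k : ℕ, (S.ρi ^ k) i = j
  wl_mem : ∀ o, ∀ i ∈ wl o, i ∈ J o
  wl_neg : ∀ o, ∀ i ∈ J o, ¬ T.Pos (pw hT (wl o) (T.p i))
  wl_comm : ∀ o, S.ρ * pw hT (wl o) = pw hT (wl o) * S.ρ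
  wl_sq : ∀ o, pw hT (wl o) * pw hT (wl o) = 1

variable (hT : T.Checked)
include hT

theorem neg_of_J {J : List (Fin D.rank)} {L : List (Fin D.rank)}
    (h : ∀ i ∈ J, ¬ T.Pos (pw hT L (T.p i))) {r : Fin D.nroots} (hr : r ∈ rootsOf T J) :
    ¬ T.Pos (pw hT L r) := by
  rw [pos_iff_key hT, key_pw hT L r, not_lt]
  refine Finset.sum_nonpos fun m _ => ?_
  by_cases hm : m ∈ J
  · exact mul_nonpos_of_nonneg_of_nonpos (co_nonneg hT hr.1 m) (key_neg hT (h m hm)).le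
  · rw [hr.2 m hm, zero_mul]

theorem pos_of_J {J : List (Fin D.rank)} {L : List (Fin D.rank)}
    (h : ∀ i ∈ J, T.Pos (pw hT L (T.p i))) {r : Fin D.nroots} (hr : r ∈ rootsOf T J) :
    T.Pos (pw hT L r) := by
  rw [pos_iff_key hT, key_pw hT L r]
  refine lt_of_le_of_ne (Finset.sum_nonneg fun m _ => ?_) fun h0 => ?_
  · by_cases hm : m ∈ J
    · exact mul_nonneg (co_nonneg hT hr.1 m) (key_pos hT (h m hm)).le
    · rw [hr.2 m hm, zero_mul]
  · rw [← key_pw hT L r] at h0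
    have hh : pw hT L r = T.ng (pw hT L r) := (key_strictMono hT).injective (by rw [key_ng hT]; omega)
    exact ng_ne hT _ hh.symm

theorem negSet_of_WJ {J : List (Fin D.rank)} {L : List (Fin D.rank)} (hL : ∀ x ∈ L, x ∈ J) :
    negSet T (pw hT L) ⊆ rootsOf T J := by
  intro r hr
  refine ⟨hr.1, fun m hm => ?_⟩
  have h1 := (co_pw_of_not_mem hT hL r hm).1
  have h2 := co_nonneg hT hr.1 m
  have h3 := co_nonpos hT hr.2 m
  omega

theorem inv'_eq_zero {π : Equiv.Perm (Fin D.nroots)} (h : π ∈ WJ hT (List.finRange D.rank))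
    (h0 : (inv' T π).card = 0) : π = 1 := by
  by_contra hne
  obtain ⟨i, _, hi⟩ := exists_descent hT h hne
  have := Finset.card_pos.2 ⟨_, mem_inv'.2 ⟨pos_p hT i, hi⟩⟩
  omega

namespace Orbs

variable {hT} {S : Sym T} (O : Orbs hT S)

/-- The longest element of an orbit. -/
def wO (o : Fin O.n) : Equiv.Perm (Fin D.nroots) := pw hT (O.wl o)

/-- The centralised part of the Weyl group. -/
noncomputable def WF (_O : Orbs hT S) : Finset (Equiv.Perm (Fin D.nroots)) := by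
  classical
  exact (WJ hT (List.finRange D.rank)).filter fun π => S.ρ * π = π * S.ρ

theorem mem_WF {π : Equiv.Perm (Fin D.nroots)} :
    π ∈ O.WF ↔ π ∈ WJ hT (List.finRange D.rank) ∧ S.ρ * π = π * S.ρ := by
  classical
  simp [WF]

theorem WF_mk {L : List (Fin D.rank)} (h : S.ρ * pw hT L = pw hT L * S.ρ) : pw hT L ∈ O.WF :=
  O.mem_WF.2 ⟨(mem_WJ hT).2 ⟨L, fun x _ => List.mem_finRange x, rfl⟩, h⟩

theorem wO_mem (o : Fin O.n) : O.wO o ∈ O.WF := O.WF_mk (O.wl_comm o)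

theorem one_mem_WF : (1 : Equiv.Perm (Fin D.nroots)) ∈ O.WF :=
  O.mem_WF.2 ⟨WJ_one hT _, by simp⟩

theorem WF_mul {π π' : Equiv.Perm (Fin D.nroots)} (h : π ∈ O.WF) (h' : π' ∈ O.WF) : π * π' ∈ O.WF := by
  obtain ⟨h1, h2⟩ := O.mem_WF.1 h
  obtain ⟨h1', h2'⟩ := O.mem_WF.1 h'
  exact O.mem_WF.2 ⟨WJ_mul hT h1 h1', by rw [← mul_assoc, h2, mul_assoc, h2', mul_assoc]⟩

theorem WF_ng {π : Equiv.Perm (Fin D.nroots)} (h : π ∈ O.WF) (r : Fin D.nroots) : π (T.ng r) = T.ng (π r) :=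
  WJ_ng hT (O.mem_WF.1 h).1 r

theorem negSet_wO (o : Fin O.n) : negSet T (O.wO o) = rootsOf T (O.J o) :=
  Set.Subset.antisymm (negSet_of_WJ hT (O.wl_mem o)) fun r hr => ⟨hr.1, neg_of_J hT (O.wl_neg o) hr⟩

theorem wO_wO (o : Fin O.n) (r : Fin D.nroots) : O.wO o (O.wO o r) = r := by
  have := congrArg (fun π : Equiv.Perm (Fin D.nroots) => π r) (O.wl_sq o)
  simpa [wO] using this

theorem p_mem_rootsOf {o : Fin O.n} {i : Fin D.rank} (hi : i ∈ O.J o) : T.p i ∈ rootsOf T (O.J o) := by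
  refine ⟨pos_p hT i, fun m hm => ?_⟩
  rw [co_p hT, if_neg]
  rintro rfl
  exact hm hi

omit hT in
theorem pos_comm {π : Equiv.Perm (Fin D.nroots)} (h : S.ρ * π = π * S.ρ) (r : Fin D.nroots) :
    T.Pos (π (S.ρ r)) ↔ T.Pos (π r) := by
  have := congrArg (fun σ : Equiv.Perm (Fin D.nroots) => σ r) h
  simp only [Equiv.Perm.mul_apply] at this
  rw [← this, S.ρ_pos]

/-- The sign on an orbit is constant. -/
theorem sign_orbit {π : Equiv.Perm (Fin D.nroots)} (h : π ∈ O.WF) {o : Fin O.n} {i j : Fin D.rank}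
    (hi : i ∈ O.J o) (hj : j ∈ O.J o) : T.Pos (π (T.p i)) ↔ T.Pos (π (T.p j)) := by
  obtain ⟨k, rfl⟩ := O.trans o i hi j hj
  clear hj
  induction k with
  | zero => simp
  | succ k ih => rw [ih, pow_succ', Equiv.Perm.mul_apply, ← S.ρ_p, pos_comm (O.mem_WF.1 h).2]

/-- Multiplying by a longest orbit element on an ascent adds the lengths. -/
theorem card_mul_wO {π : Equiv.Perm (Fin D.nroots)} (h : π ∈ O.WF) {o : Fin O.n}
    (hpos : ∀ i ∈ O.J o, T.Pos (π (T.p i))) :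
    (inv' T (π * O.wO o)).card = (inv' T π).card + (inv' T (O.wO o)).card :=
  card_inv'_mul hT (O.mem_WF.1 h).1 hpos ((mem_WJ hT).2 ⟨O.wl o, O.wl_mem o, rfl⟩)

theorem exists_step {π : Equiv.Perm (Fin D.nroots)} (h : π ∈ O.WF) (hne : π ≠ 1) :
    ∃ o, (∀ i ∈ O.J o, ¬ T.Pos (π (T.p i))) ∧ (∀ i ∈ O.J o, T.Pos ((π * O.wO o) (T.p i))) ∧
      π * O.wO o ∈ O.WF ∧ (inv' T π).card = (inv' T (π * O.wO o)).card + (inv' T (O.wO o)).card ∧
        0 < (inv' T (O.wO o)).card := by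
  obtain ⟨i, _, hi⟩ := exists_descent hT (O.mem_WF.1 h).1 hne
  obtain ⟨o, ho⟩ := O.cover i
  have h1 : ∀ j ∈ O.J o, ¬ T.Pos (π (T.p j)) := fun j hj hp => hi ((O.sign_orbit h ho hj).2 hp)
  have h2 : ∀ j ∈ O.J o, T.Pos ((π * O.wO o) (T.p j)) := by
    intro j hj
    have hneg := O.wl_neg o j hj
    have hr : T.ng (O.wO o (T.p j)) ∈ rootsOf T (O.J o) := by
      refine ⟨(pos_ng hT).2 hneg, fun m hm => ?_⟩
      rw [co_ng hT, wO, (co_pw_of_not_mem hT (O.wl_mem o) _ hm).1, (O.p_mem_rootsOf hj).2 m hm, neg_zero]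
    obtain ⟨L, _, hL⟩ := (mem_WJ hT).1 (O.mem_WF.1 h).1
    have := neg_of_J hT (L := L) (fun k hk => by rw [hL]; exact h1 k hk) hr
    rw [hL, O.WF_ng h, pos_ng hT, not_not] at this
    exact this
  have hmem := O.WF_mul h (O.wO_mem o)
  have e : π * O.wO o * O.wO o = π := by rw [mul_assoc, wO, O.wl_sq, mul_one]
  refine ⟨o, h1, h2, hmem, ?_, Finset.card_pos.2 ⟨T.p i, mem_inv'.2 ⟨pos_p hT i, O.wl_neg o i ho⟩⟩⟩
  have := O.card_mul_wO hmem h2
  rwa [e] at this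

/-- Induction on the centralised part of the Weyl group. -/
theorem WF_induction {P : Equiv.Perm (Fin D.nroots) → Prop} (h1 : P 1)
    (hstep : ∀ π o, π ∈ O.WF → (∀ i ∈ O.J o, T.Pos (π (T.p i))) → P π → P (π * O.wO o))
    {π : Equiv.Perm (Fin D.nroots)} (h : π ∈ O.WF) : P π := by
  induction hm : (inv' T π).card using Nat.strong_induction_on generalizing π with
  | _ m ih =>
    by_cases hne : π = 1
    · rw [hne]; exact h1
    obtain ⟨o, _, h2, h3, h4, h5⟩ := O.exists_step h hne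
    have := hstep _ o h3 h2 (ih _ (by omega) h3 rfl)
    rwa [mul_assoc, wO, O.wl_sq, mul_one] at this

/-- A centralised element supported on an orbit. -/
theorem eq_wO_of_supp {π : Equiv.Perm (Fin D.nroots)} (h : π ∈ O.WF) {o : Fin O.n}
    (hsupp : negSet T π ⊆ rootsOf T (O.J o)) : π = 1 ∨ π = O.wO o := by
  by_cases hne : π = 1
  · exact Or.inl hne
  obtain ⟨o', h1, _, hmem, hcard, _⟩ := O.exists_step h hne
  obtain ⟨i, hi⟩ := O.nonempty o'
  have hio : i ∈ O.J o := by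
    by_contra hn
    have := (hsupp (show T.p i ∈ negSet T π from ⟨pos_p hT i, h1 i hi⟩)).2 i hn
    rw [co_p hT, if_pos rfl] at this
    exact one_ne_zero this
  obtain rfl := O.disj o' o i hi hio
  have hle : (inv' T π).card ≤ (inv' T (O.wO o')).card := by
    refine Finset.card_le_card fun r hr => ?_
    rw [mem_inv'] at hr ⊢
    have := hsupp (show r ∈ negSet T π from hr)
    rw [← O.negSet_wO] at this
    exact this
  have h0 := inv'_eq_zero hT (O.mem_WF.1 hmem).1 (by omega)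
  refine Or.inr ?_
  have := congrArg (· * O.wO o') h0
  simpa [mul_assoc, wO, O.wl_sq] using this

end Orbs

end Tab

end CfsgLib.Lie
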