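/-
Fixed points of a twisting endomorphism in the unipotent subgroups attached to the Weyl group.
-/
import Cfsg.Agent.Lib.LieTwistWeyl
import Cfsg.Agent.Lib.LieChevOrder
import Mathlib.FieldTheory.RatFunc.Basic
import Mathlib.FieldTheory.RatFunc.Degree

set_option autoImplicit false
set_option maxHeartbeats 400000

namespace CfsgLib.Lie

open Cfsg.Lie

namespace Tab

variable {D : ChevalleyDatum} {T : Tab D} {K : Type*} [Field K] (hT : T.Checked) (hE : ∀ r, T.extraB r = true)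

/-- The roots supported in `J`. -/
def suppSet (T : Tab D) (J : List (Fin D.rank)) : Set (Fin D.nroots) :=
  {r | ∀ m, m ∉ J → T.co r m = 0}

/-- The Levi subgroup of a set of nodes. -/
def levi (hT : T.Checked) (K : Type*) [Field K] (J : List (Fin D.rank)) : Subgroup (GL D.Idx K) :=
  Ugrp hT K (suppSet T J) ⊔ D.diagonalSubgroup K

include hT

theorem gw_mem_levi {J L : List (Fin D.rank)} (hL : ∀ x ∈ L, x ∈ J) : gw hT L ∈ levi hT K J := by
  refine Subgroup.list_prod_mem _ fun x hx => ?_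
  simp only [List.mem_map] at hx
  obtain ⟨i, hi, rfl⟩ := hx
  have h1 : T.p i ∈ suppSet T J := fun m hm => by
    rw [co_p hT, if_neg]; rintro rfl; exact hm (hL _ hi)
  have h2 : T.ng (T.p i) ∈ suppSet T J := fun m hm => by rw [co_ng hT, h1 m hm, neg_zero]
  rw [sg_eq]
  exact Subgroup.mem_sup_left (mul_mem (mul_mem (u_mem_Ugrp hT h1 _) (u_mem_Ugrp hT h2 _)) (u_mem_Ugrp hT h1 _))

include hE in
theorem coords_of_closed {S : Set (Fin D.nroots)} (hS : S ⊆ {r | T.Pos r}) (hcl : Closed T S)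
    {g : GL D.Idx K} (hg : g ∈ Ugrp hT K S) :
    ∃ t : Fin D.nroots → K, (∀ r, r ∉ S → t r = 0) ∧ g = uprod hT (posFrom T 0) t := by
  have h := mem_Ugrp_closed (F := K) hT hE S hS hcl D.nroots 0 (by omega) g
  exact h.1 (by simpa using hg)

include hE in
/-- A Levi subgroup meets the radical trivially. -/
theorem levi_radical {J L : List (Fin D.rank)}
    (hL : ∀ r, T.Pos r → T.Pos (pw hT L r) → ∃ m, m ∉ J ∧ T.co r m ≠ 0)
    {a : GL D.Idx K} (ha : a ∈ levi hT K J) (ha' : a ∈ Ugrp hT K (posSet T (pw hT L))) : a = 1 := by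
  classical
  let K' := RatFunc K
  let ι : K →+* K' := algebraMap K K'
  have hX : (RatFunc.X : K') ≠ 0 := RatFunc.X_ne_zero
  let x : K'ˣ := Units.mk0 RatFunc.X hX
  have hpow : ∀ n : ℤ, x ^ n = 1 → n = 0 := by
    intro n hn
    have hd : ∀ k : ℕ, RatFunc.intDegree ((RatFunc.X : K') ^ k) = k := by
      intro k
      induction k with
      | zero => simp
      | succ k ih =>
        rw [pow_succ, RatFunc.intDegree_mul (pow_ne_zero _ hX) hX, ih, RatFunc.intDegree_X]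
        push_cast; ring
    have hn' : (RatFunc.X : K') ^ n.natAbs = 1 := by
      obtain ⟨k, rfl | rfl⟩ := Int.eq_nat_or_neg n
      · rw [zpow_natCast] at hn
        rw [Int.natAbs_natCast]
        exact congrArg Units.val hn
      · rw [zpow_neg, inv_eq_one, zpow_natCast] at hn
        rw [Int.natAbs_neg, Int.natAbs_natCast]
        exact congrArg Units.val hn
    have := congrArg RatFunc.intDegree hn'
    rw [hd, RatFunc.intDegree_one] at this
    omega
  let gr : Fin D.nroots → ℤ := fun r => ∑ m ∈ Finset.univ.filter (fun m => m ∉ J), T.co r m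
  let f : Fin D.nroots → K'ˣ := fun r => x ^ gr r
  have hf : T.IsChar f := by
    refine ⟨fun r => ?_, fun r s v hv => ?_⟩
    · simp [f, gr, co_ng hT, ← zpow_neg]
    · simp [f, gr, co_nx hT hv, Finset.sum_add_distrib, zpow_add]
  have hcomm : ∀ g ∈ levi hT K J, dg f * fmap D ι g * (dg f)⁻¹ = fmap D ι g := by
    intro g hg
    have hle : levi hT K J ≤
        ((Subgroup.centralizer {dg f}).comap (fmap D ι)) := by
      refine sup_le (Ugrp_le hT fun r hr t => ?_) fun h hh => ?_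
      · rw [Subgroup.mem_comap, Subgroup.mem_centralizer_singleton_iff, fmap_u hT]
        have h1 := dg_conj_u hT hf r (ι t)
        have h2 : f r = 1 := by
          have : gr r = 0 := Finset.sum_eq_zero fun m hm => hr m (Finset.mem_filter.1 hm).2
          simp [f, this]
        rw [h2, Units.val_one, one_mul, mul_inv_eq_iff_eq_mul] at h1
        exact h1.symm
      · rw [Subgroup.mem_comap, Subgroup.mem_centralizer_singleton_iff]
        obtain ⟨c, _, hc⟩ := exists_of_mem_diagonal hT (fmap_diagonal hT ι hh)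
        rw [hc, ← map_mul, ← map_mul, mul_comm]
    have h1 := Subgroup.mem_centralizer_singleton_iff.1 (Subgroup.mem_comap.1 (hle hg))
    rw [mul_inv_eq_iff_eq_mul]
    exact h1.symm
  obtain ⟨t, ht0, ht⟩ := coords_of_closed hT hE (fun r hr => hr.1) (closed_posSet hT L) ha'
  have h1 := hcomm a ha
  rw [ht, fmap_uprod hT] at h1
  have h2 : ∀ L' : List (Fin D.nroots), dg f * uprod hT L' (fun r => ι (t r)) * (dg f)⁻¹ =
      uprod hT L' fun r => (f r : K') * ι (t r) := by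
    intro L'
    induction L' with
    | nil => simp [uprod]
    | cons r L' ih =>
      simp only [uprod, List.map_cons, List.prod_cons] at ih ⊢
      rw [← ih, ← dg_conj_u hT hf]
      group
  rw [h2] at h1
  have ht' : ∀ r ∈ posFrom T 0, t r = 0 := by
    intro r hr
    by_cases hrS : r ∈ posSet T (pw hT L)
    · obtain ⟨m, hmJ, hm⟩ := hL r hrS.1 hrS.2
      have hgr : 0 < gr r := by
        refine Finset.sum_pos' (fun k _ => co_nonneg hT hrS.1 k) ⟨m, by simp [hmJ], ?_⟩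
        exact lt_of_le_of_ne (co_nonneg hT hrS.1 m) (Ne.symm hm)
      have h3 := uprod_injective hT h1 r (mem_posFrom.1 hr).1
      by_contra hne
      have hne' : ι (t r) ≠ 0 := (map_ne_zero ι).2 hne
      rw [mul_left_eq_self₀] at h3
      rcases h3 with h3 | h3
      · exact absurd (hpow (gr r) (Units.ext h3)) (by omega)
      · exact hne' h3
    · exact ht0 r hrS
  rw [ht, uprod_congr hT (g := fun _ => (0 : K)) ht']
  simp [uprod, u_zero]

theorem pos_neg_trivial {g : GL D.Idx K} (h : g ∈ D.posUnipotent K) (h' : g ∈ D.negUnipotent K) : g = 1 := by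
  have h0 := borel_inf_neg (F := K) hT
  rw [eq_bot_iff] at h0
  exact Subgroup.mem_bot.1 (h0 ⟨Subgroup.mem_sup_left h, h'⟩)

theorem posSet_negSet_trivial {L : List (Fin D.rank)} {g : GL D.Idx K}
    (h : g ∈ Ugrp hT K (posSet T (pw hT L))) (h' : g ∈ Ugrp hT K (negSet T (pw hT L))) : g = 1 := by
  have := pos_neg_trivial hT (conj_posSet hT (acts_gw (F := K) hT L) h) (conj_negSet hT (acts_gw hT L) h')
  rwa [mul_inv_eq_one, mul_eq_left] at this

include hE in
theorem mem_negSet_of_conj {L : List (Fin D.rank)} {n x : GL D.Idx K} (hn : Acts hT n (pw hT L))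
    (hx : x ∈ D.posUnipotent K) (hx' : n * x * n⁻¹ ∈ D.negUnipotent K) :
    x ∈ Ugrp hT K (negSet T (pw hT L)) := by
  obtain ⟨a, ha, c, hc, rfl⟩ := pos_split hT hE (pw hT L) hx
  have h1 : n * a * n⁻¹ = (n * (a * c) * n⁻¹) * (n * c * n⁻¹)⁻¹ := by group
  have h2 := pos_neg_trivial hT (conj_posSet hT hn ha) (h1 ▸ mul_mem hx' (inv_mem (conj_negSet hT hn hc)))
  rw [mul_inv_eq_one, mul_eq_left] at h2
  rw [h2, one_mul]
  exact hc

namespace Twist

variable {hT} (W : Twist hT K)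

/-- Fixed elements of the unipotent subgroup of a centralised Weyl element. -/
def Ufix (π : Equiv.Perm (Fin D.nroots)) : Subgroup (GL D.Idx K) := Ugrp hT K (negSet T π) ⊓ W.fixed

theorem Ufix_le_pos (π : Equiv.Perm (Fin D.nroots)) : W.Ufix π ≤ D.posUnipotent K := by
  refine inf_le_left.trans ?_
  rw [posUnipotent_eq hT]
  exact Ugrp_mono hT fun r hr => hr.1

theorem τ_negSet {π : Equiv.Perm (Fin D.nroots)} (h : W.ρ * π = π * W.ρ) {g : GL D.Idx K}
    (hg : g ∈ Ugrp hT K (negSet T π)) : W.τ g ∈ Ugrp hT K (negSet T π) :=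
  W.τ_Ugrp (fun r hr => (And.intro ((W.ρ_pos r).2 hr.1) fun hp => hr.2 ((Orbs.pos_comm h r).1 hp) :
    W.ρ r ∈ negSet T π)) hg

theorem τ_posSet {π : Equiv.Perm (Fin D.nroots)} (h : W.ρ * π = π * W.ρ) {g : GL D.Idx K}
    (hg : g ∈ Ugrp hT K (posSet T π)) : W.τ g ∈ Ugrp hT K (posSet T π) :=
  W.τ_Ugrp (fun r hr => (And.intro ((W.ρ_pos r).2 hr.1) ((Orbs.pos_comm h r).2 hr.2) :
    W.ρ r ∈ posSet T π)) hg

include hE in
/-- Fixed positive elements split into fixed factors. -/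
theorem fixed_split {L : List (Fin D.rank)} (hL : W.ρ * pw hT L = pw hT L * W.ρ) {v : GL D.Idx K}
    (hv : v ∈ D.posUnipotent K) (hfix : W.τ v = v) :
    ∃ a ∈ Ugrp hT K (posSet T (pw hT L)) ⊓ W.fixed, ∃ c ∈ W.Ufix (pw hT L), v = a * c := by
  obtain ⟨a, ha, c, hc, rfl⟩ := pos_split hT hE (pw hT L) hv
  have hag : a ∈ D.group K := Ugrp_le hT (fun r _ t => u_mem_group hT r t) ha
  have hcg : c ∈ D.group K := Ugrp_le hT (fun r _ t => u_mem_group hT r t) hc
  rw [W.τ_mul a hag c hcg] at hfix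
  have e : a⁻¹ * W.τ a = c * (W.τ c)⁻¹ := by
    rw [eq_mul_inv_iff_mul_eq, mul_assoc, hfix, inv_mul_cancel_left]
  have h1 := posSet_negSet_trivial hT (mul_mem (inv_mem ha) (W.τ_posSet hL ha))
    (e ▸ mul_mem hc (inv_mem (W.τ_negSet hL hc)))
  have h2 : W.τ a = a := (inv_mul_eq_one.1 h1).symm
  have h3 : W.τ c = c := by rw [e, mul_inv_eq_one] at h1; exact h1.symm
  exact ⟨a, ⟨ha, hag, h2⟩, c, ⟨hc, hcg, h3⟩, rfl⟩

variable (O : Orbs hT W.toSym)

include hE in
theorem Ufix_step {π : Equiv.Perm (Fin D.nroots)} (hπ : π ∈ O.WF) {o : Fin O.n}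
    (hpos : ∀ i ∈ O.J o, T.Pos (π (T.p i))) {m : GL D.Idx K} (hm : m ∈ W.fixed)
    (hma : Acts hT m (O.wO o)) {v : GL D.Idx K} :
    v ∈ W.Ufix (π * O.wO o) ↔
      ∃ a ∈ W.Ufix π, ∃ c ∈ W.Ufix (O.wO o), v = m⁻¹ * a * m * c := by
  obtain ⟨L, _, hL⟩ := (mem_WJ hT).1 (O.mem_WF.1 hπ).1
  have hπwO : pw hT (L ++ O.wl o) = π * O.wO o := by rw [pw_append, hL]; rfl
  have hsub : negSet T (O.wO o) ⊆ negSet T (π * O.wO o) := by
    intro r hr
    have hr' : T.ng (O.wO o r) ∈ rootsOf T (O.J o) := by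
      refine ⟨(pos_ng hT).2 hr.2, fun k hk => ?_⟩
      rw [co_ng hT, Orbs.wO, (co_pw_of_not_mem hT (O.wl_mem o) r hk).1, ((O.negSet_wO o).subset hr).2 k hk,
        neg_zero]
    have := pos_of_J hT (L := L) (fun i hi => by rw [hL]; exact hpos i hi) hr'
    rw [hL, O.WF_ng hπ, pos_ng hT] at this
    exact ⟨hr.1, this⟩
  have hback : ∀ r ∈ negSet T π, O.wO o r ∈ negSet T (π * O.wO o) := by
    intro r hr
    refine ⟨by_contra fun hn => ?_, ?_⟩
    · have : r ∈ rootsOf T (O.J o) := (O.negSet_wO o).subset ⟨hr.1, hn⟩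
      have := pos_of_J hT (L := L) (fun i hi => by rw [hL]; exact hpos i hi) this
      rw [hL] at this
      exact hr.2 this
    · rw [Equiv.Perm.mul_apply, O.wO_wO]; exact hr.2
  have hwinv : (O.wO o)⁻¹ = O.wO o := inv_eq_of_mul_eq_one_right (O.wl_sq o)
  constructor
  · intro hv
    obtain ⟨a, ha, c, hc, rfl⟩ := W.fixed_split hE (O.wl_comm o) (W.Ufix_le_pos _ hv) hv.2.2
    refine ⟨m * a * m⁻¹, Subgroup.mem_inf.2
      ⟨?_, mul_mem (mul_mem hm (Subgroup.mem_inf.1 ha).2) (inv_mem hm)⟩, c, hc, by group⟩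
    obtain ⟨n, hn⟩ : ∃ n, n = gw (F := K) hT L := ⟨_, rfl⟩
    have hnm : Acts hT (n * m) (pw hT (L ++ O.wl o)) := by
      rw [hπwO, hn, ← hL]; exact (acts_gw hT L).mul hT hma
    have ha1 : a * c * c⁻¹ ∈ Ugrp hT K (negSet T (π * O.wO o)) :=
      mul_mem hv.1 (inv_mem (Ugrp_mono hT hsub hc.1))
    rw [mul_inv_cancel_right, ← hπwO] at ha1
    have h1 := conj_negSet hT hnm ha1
    rw [← hL]
    refine mem_negSet_of_conj hT hE (n := n) (hn ▸ acts_gw hT L) (conj_posSet hT hma ha.1) ?_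
    rw [show n * (m * a * m⁻¹) * n⁻¹ = n * m * a * (n * m)⁻¹ by group]
    exact h1
  · rintro ⟨a, ha, c, hc, rfl⟩
    refine Subgroup.mem_inf.2 ⟨mul_mem ?_ (Ugrp_mono hT hsub hc.1),
      mul_mem (mul_mem (mul_mem (inv_mem hm) (Subgroup.mem_inf.1 ha).2) hm) (Subgroup.mem_inf.1 hc).2⟩
    have h := Subgroup.mem_map_of_mem (MulAut.conj m⁻¹).toMonoidHom ha.1
    rw [map_Ugrp hT (hma.inv hT), hwinv] at h
    have h' : m⁻¹ * a * (m⁻¹)⁻¹ ∈ Ugrp hT K (negSet T (π * O.wO o)) := by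
      refine Ugrp_mono hT ?_ h
      rintro _ ⟨r, hr, rfl⟩
      exact hback r hr
    rwa [inv_inv] at h'

include hE in
theorem card_Ufix_step {π : Equiv.Perm (Fin D.nroots)} (hπ : π ∈ O.WF) {o : Fin O.n}
    (hpos : ∀ i ∈ O.J o, T.Pos (π (T.p i))) {m : GL D.Idx K} (hm : m ∈ W.fixed)
    (hma : Acts hT m (O.wO o)) :
    Nat.card ↥(W.Ufix (π * O.wO o)) = Nat.card ↥(W.Ufix π) * Nat.card ↥(W.Ufix (O.wO o)) := by
  rw [← Nat.card_prod]
  refine (Nat.card_eq_of_bijective (fun x : ↥(W.Ufix π) × ↥(W.Ufix (O.wO o)) =>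
    (⟨m⁻¹ * x.1 * m * x.2, (W.Ufix_step hE O hπ hpos hm hma).2 ⟨_, x.1.2, _, x.2.2, rfl⟩⟩ :
      ↥(W.Ufix (π * O.wO o)))) ⟨?_, ?_⟩).symm
  · intro x y h
    have h' : m⁻¹ * (x.1 : GL D.Idx K) * m * (x.2 : GL D.Idx K) = m⁻¹ * y.1 * m * y.2 := Subtype.ext_iff.1 h
    obtain ⟨L, _, hL⟩ := (mem_WJ hT).1 (O.mem_WF.1 hπ).1
    have hw : Acts hT m⁻¹ (pw hT (O.wl o)) := by
      have := hma.inv hT
      rwa [inv_eq_of_mul_eq_one_right (show O.wO o * O.wO o = 1 from O.wl_sq o)] at this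
    have hx : ∀ z : ↥(W.Ufix π), m⁻¹ * (z : GL D.Idx K) * m ∈ Ugrp hT K (posSet T (O.wO o)) := by
      intro z
      have h1 := Subgroup.mem_map_of_mem (MulAut.conj m⁻¹).toMonoidHom z.2.1
      rw [map_Ugrp hT hw] at h1
      have h2 : m⁻¹ * (z : GL D.Idx K) * (m⁻¹)⁻¹ ∈ Ugrp hT K (posSet T (O.wO o)) := by
        refine Ugrp_mono hT ?_ h1
        rintro _ ⟨r, hr, rfl⟩
        refine ⟨by_contra fun hn => ?_, ?_⟩
        · have : r ∈ rootsOf T (O.J o) := (O.negSet_wO o).subset ⟨hr.1, hn⟩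
          have := pos_of_J hT (L := L) (fun i hi => by rw [hL]; exact hpos i hi) this
          rw [hL] at this
          exact hr.2 this
        · show T.Pos (O.wO o (O.wO o r))
          rw [O.wO_wO]; exact hr.1
      rwa [inv_inv] at h2
    have e : (m⁻¹ * (y.1 : GL D.Idx K) * m)⁻¹ * (m⁻¹ * x.1 * m) = y.2 * (x.2 : GL D.Idx K)⁻¹ := by
      rw [inv_mul_eq_iff_eq_mul, ← mul_assoc, eq_mul_inv_iff_mul_eq]
      exact h'
    have h3 := posSet_negSet_trivial hT (mul_mem (inv_mem (hx y.1)) (hx x.1))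
      (e ▸ mul_mem y.2.2.1 (inv_mem x.2.2.1))
    have h4 : (x.2 : GL D.Idx K) = y.2 := by rw [e, mul_inv_eq_one] at h3; exact h3.symm
    rw [inv_mul_eq_one] at h3
    exact Prod.ext (Subtype.ext (mul_left_cancel (mul_right_cancel h3)).symm) (Subtype.ext h4)
  · rintro ⟨v, hv⟩
    obtain ⟨a, ha, c, hc, rfl⟩ := (W.Ufix_step hE O hπ hpos hm hma).1 hv
    exact ⟨(⟨a, ha⟩, ⟨c, hc⟩), rfl⟩

include hE in
/-- The class of an element of the opposite orbit subgroup is supported on the orbit. -/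
theorem class_supp {o : Fin O.n} {x v m c : GL D.Idx K} {L : List (Fin D.rank)} (hxg : x ∈ D.group K)
    (hxn : x ∈ Ugrp hT K (T.ng '' rootsOf T (O.J o))) (hv : v ∈ D.posUnipotent K)
    (hm : m ∈ D.monomialSubgroup K) (hc : c ∈ Ugrp hT K (negSet T (pw hT L))) (hma : Acts hT m (pw hT L))
    (e : x = v * m * c) : negSet T (pw hT L) ⊆ rootsOf T (O.J o) := by
  classical
  set P := bnPair hT hE K
  set J' : Set ↥(D.group K) := {n | ∃ i ∈ O.J o, (n : GL D.Idx K) = sg hT i}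
  have hJ' : J' ⊆ P.S := fun n ⟨i, _, hn⟩ => (gen_iff hT).2 ⟨i, hn⟩
  set xg : ↥(D.group K) := ⟨x, hxg⟩
  have hclo : ∀ L' : List (Fin D.rank), (∀ i ∈ L', i ∈ O.J o) →
      (⟨gw hT L', monomial_le_group hT (gw_mem_monomial hT L')⟩ : ↥(D.group K)) ∈ Subgroup.closure J' := by
    intro L' hL'
    induction L' with
    | nil =>
      exact (show (⟨gw hT [], monomial_le_group hT (gw_mem_monomial (F := K) hT [])⟩ : ↥(D.group K)) = 1
        from Subtype.ext rfl) ▸ one_mem _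
    | cons i L' ih =>
      refine (show (⟨gw hT (i :: L'), monomial_le_group hT (gw_mem_monomial (F := K) hT _)⟩ : ↥(D.group K)) =
        ⟨sg hT i, monomial_le_group hT (sg_mem_monomial hT i)⟩ *
          ⟨gw hT L', monomial_le_group hT (gw_mem_monomial hT _)⟩ from Subtype.ext rfl) ▸ ?_
      exact mul_mem (Subgroup.subset_closure ⟨i, hL' i (by simp), rfl⟩)
        (ih fun j hj => hL' j (List.mem_cons_of_mem _ hj))
  set nw : ↥(D.group K) := ⟨gw hT (O.wl o), monomial_le_group hT (gw_mem_monomial hT _)⟩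
  have hy : (nw * xg * nw⁻¹ : ↥(D.group K)) ∈ P.B := by
    refine Subgroup.mem_subgroupOf.2 (Subgroup.mem_sup_left ?_)
    have h1 := Subgroup.mem_map_of_mem (MulAut.conj (gw hT (O.wl o))).toMonoidHom hxn
    rw [map_Ugrp hT (acts_gw hT _)] at h1
    rw [posUnipotent_eq hT]
    refine Ugrp_mono hT ?_ h1
    rintro _ ⟨_, ⟨r, hr, rfl⟩, rfl⟩
    show T.Pos _
    rw [pw_ng, pos_ng hT]
    exact ((O.negSet_wO o).symm.subset hr).2
  have hxP : xg ∈ P.parabolic J' := by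
    have hn := (le_sup_right : _ ≤ P.parabolic J') (hclo (O.wl o) (O.wl_mem o))
    have := mul_mem (mul_mem (inv_mem hn) ((le_sup_left : _ ≤ P.parabolic J') hy)) hn
    have e3 : nw⁻¹ * (nw * xg * nw⁻¹) * nw = xg := by group
    rw [← e3]; exact this
  obtain ⟨n, hn, hdc⟩ := (CfsgLib.BN.mem_parabolic P hJ').1 hxP
  have hnN := CfsgLib.BN.mem_N_of_closure P hJ' hn
  have hmg : m ∈ D.group K := monomial_le_group hT hm
  set mg : ↥(D.group K) := ⟨m, hmg⟩
  have hdc' : xg ∈ CfsgLib.BN.dc P mg := by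
    refine (CfsgLib.BN.mem_dc P).2 ⟨⟨v, borel_le_group hT (Subgroup.mem_sup_left hv)⟩,
      Subgroup.mem_subgroupOf.2 (Subgroup.mem_sup_left hv),
      ⟨c, borel_le_group hT (Subgroup.mem_sup_left ?_)⟩, Subgroup.mem_subgroupOf.2 (Subgroup.mem_sup_left ?_),
      Subtype.ext e⟩ <;>
    · show c ∈ D.posUnipotent K
      rw [posUnipotent_eq hT]; exact Ugrp_mono hT (fun r hr => hr.1) hc
  have hsim := CfsgLib.BN.sim_of_mem_dc P hnN (Subgroup.mem_subgroupOf.2 hm) hdc hdc'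
  obtain ⟨π', hπ', hact⟩ : ∃ π' ∈ WJ hT (O.J o), Acts hT (n : GL D.Idx K) π' := by
    clear hdc hsim hnN
    induction hn using Subgroup.closure_induction with
    | mem z hz =>
      obtain ⟨i, hi, ez⟩ := hz
      exact ⟨wp hT i, WJ_wp hT hi, ez ▸ acts_sg hT i⟩
    | one => exact ⟨1, WJ_one hT _, acts_one hT⟩
    | mul a b _ _ iha ihb =>
      obtain ⟨πa, ha, ha'⟩ := iha
      obtain ⟨πb, hb, hb'⟩ := ihb
      exact ⟨_, WJ_mul hT ha hb, ha'.mul hT hb'⟩
    | inv a _ iha =>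
      obtain ⟨πa, ha, ha'⟩ := iha
      exact ⟨_, WJ_inv hT ha, ha'.inv hT⟩
  have hd : (n : GL D.Idx K)⁻¹ * m ∈ D.diagonalSubgroup K := by
    obtain ⟨h1, h2⟩ := Subgroup.mem_inf.1 hsim
    exact (borel_inf_monomial hT).le ⟨Subgroup.mem_subgroupOf.1 h1, Subgroup.mem_subgroupOf.1 h2⟩
  have hpe : pw hT L = π' := by
    refine Acts.unique hT hma ?_
    have := hact.mul hT (acts_diagonal hT hd)
    simpa using this
  obtain ⟨L', hL', hL''⟩ := (mem_WJ hT).1 hπ'
  rw [hpe, ← hL'']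
  exact negSet_of_WJ hT hL'

include hE in
/-- A nontrivial fixed element of the opposite orbit subgroup gives a representative of the orbit reflection. -/
theorem exists_rep {o : Fin O.n} {H : Subgroup (GL D.Idx K)} (hUH : W.Ufix (O.wO o) ≤ H)
    {x : GL D.Idx K} (hxH : x ∈ H) (hx : x ∈ W.fixed) (hx1 : x ≠ 1)
    (hxn : x ∈ Ugrp hT K (T.ng '' rootsOf T (O.J o))) :
    ∃ m ∈ D.monomialSubgroup K, m ∈ H ∧ m ∈ W.fixed ∧ Acts hT m (O.wO o) := by
  classical
  obtain ⟨v, hv, m, hm, L, c, hc, hma, hcomm, hvf, hmf, hcf, e⟩ := W.fixed_decomp hE hx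
  have hLF : pw hT L ∈ O.WF := by
    refine O.WF_mk ?_
    show W.ρ * pw hT L = pw hT L * W.ρ
    exact mul_inv_eq_iff_eq_mul.1 hcomm
  have hsupp := W.class_supp hE O hx.1 hxn hv hm hc hma e
  have hcf' : c ∈ W.fixed := ⟨Ugrp_le hT (fun r _ t => u_mem_group hT r t) hc, hcf⟩
  have hwo : pw hT L = O.wO o := by
    refine (O.eq_wO_of_supp hLF hsupp).resolve_left fun h1 => hx1 ?_
    have hmd : m ∈ D.diagonalSubgroup K :=
      (toPerm_eq_one_iff hT ⟨m, hm⟩).1 ((toPerm_eq hT (g := ⟨m, hm⟩) hma).trans h1)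
    have hxB : x ∈ D.borelSubgroup K := by
      rw [e]
      refine mul_mem (mul_mem (Subgroup.mem_sup_left hv) (Subgroup.mem_sup_right hmd)) (Subgroup.mem_sup_left ?_)
      rw [posUnipotent_eq hT]; exact Ugrp_mono hT (fun r hr => hr.1) hc
    have hxN : x ∈ D.negUnipotent K := by
      rw [negUnipotent_eq hT]
      refine Ugrp_mono hT ?_ hxn
      rintro _ ⟨r, hr, rfl⟩
      exact fun h => (pos_ng hT).1 h hr.1
    have h0 := borel_inf_neg (F := K) hT
    rw [eq_bot_iff] at h0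
    exact Subgroup.mem_bot.1 (h0 ⟨hxB, hxN⟩)
  rw [hwo] at hma hc
  -- the first factor lies in the orbit subgroup
  obtain ⟨a, ha, c', hc', ev⟩ := W.fixed_split hE (O.wl_comm o) hv hvf
  have hlev : ∀ z ∈ Ugrp hT K (negSet T (O.wO o)), z ∈ levi hT K (O.J o) := by
    intro z hz
    refine Subgroup.mem_sup_left (Ugrp_mono hT ?_ hz)
    exact fun r hr => ((O.negSet_wO o).subset hr).2
  have hml : m ∈ levi hT K (O.J o) := by
    have hd : m * (gw hT (O.wl o))⁻¹ ∈ D.diagonalSubgroup K := by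
      have hmem := mul_mem hm (inv_mem (gw_mem_monomial (F := K) hT (O.wl o)))
      refine (toPerm_eq_one_iff hT ⟨_, hmem⟩).1 (toPerm_eq hT ?_)
      have := hma.mul hT ((acts_gw (F := K) hT (O.wl o)).inv hT)
      rwa [Orbs.wO, mul_inv_cancel] at this
    have := mul_mem (Subgroup.mem_sup_right hd : _ ∈ levi hT K (O.J o)) (gw_mem_levi hT (O.wl_mem o))
    rwa [inv_mul_cancel_right] at this
  have hxl : x ∈ levi hT K (O.J o) := by
    refine Subgroup.mem_sup_left (Ugrp_mono hT ?_ hxn)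
    rintro _ ⟨r, hr, rfl⟩ k hk
    rw [co_ng hT, hr.2 k hk, neg_zero]
  have hal : a ∈ levi hT K (O.J o) := by
    have : a = x * c⁻¹ * m⁻¹ * c'⁻¹ := by rw [e, ev]; group
    rw [this]
    exact mul_mem (mul_mem (mul_mem hxl (inv_mem (hlev c hc))) (inv_mem hml)) (inv_mem (hlev c' hc'.1))
  have ha1 : a = 1 := by
    refine levi_radical hT hE (fun r hr hr' => ?_) hal ha.1
    by_contra hcon
    push Not at hcon
    exact ((O.negSet_wO o).symm.subset ⟨hr, hcon⟩).2 hr'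
  refine ⟨m, hm, ?_, ⟨monomial_le_group hT hm, hmf⟩, hma⟩
  have : m = c'⁻¹ * x * c⁻¹ := by rw [e, ev, ha1]; group
  rw [this]
  exact mul_mem (mul_mem (inv_mem (hUH hc')) hxH) (inv_mem (hUH ⟨hc, hcf'⟩))

end Twist

end Tab

end CfsgLib.Lie
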