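/-
Twisted groups: fixed points, order, (B, N)-pair.
-/
import Cfsg.Agent.Lib.LieTwistFix

set_option autoImplicit false
set_option maxHeartbeats 400000

namespace CfsgLib.Lie

open Cfsg.Lie

namespace Tab

variable {D : ChevalleyDatum} {T : Tab D} {K : Type*} [Field K] {hT : T.Checked}

/-- What is needed to identify a subgroup with the fixed points of a twisting endomorphism. -/
structure Twist.Gen (W : Twist hT K) (O : Orbs hT W.toSym) (G : Subgroup (GL D.Idx K)) : Prop where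
  hE : ∀ r, T.extraB r = true
  le : G ≤ W.fixed
  hU : ∀ o, W.Ufix (O.wO o) ≤ G
  hV : ∀ o, ∃ x ∈ G, x ≠ 1 ∧ x ∈ Ugrp hT K (T.ng '' rootsOf T (O.J o))
  hH : ∀ h ∈ D.diagonalSubgroup K, W.τ h = h → h ∈ G
  hreg : ∀ o, ∃ t, uprod hT (posFrom T 0) t ∈ W.Ufix (O.wO o) ∧ ∀ j ∈ O.J o, t (T.p j) ≠ 0

namespace Twist.Gen

variable {W : Twist hT K} {O : Orbs hT W.toSym} {G : Subgroup (GL D.Idx K)} (hG : W.Gen O G)
include hG

theorem rep (o : Fin O.n) :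
    ∃ m ∈ D.monomialSubgroup K, m ∈ G ∧ m ∈ W.fixed ∧ Acts hT m (O.wO o) := by
  obtain ⟨x, hx, hx1, hxn⟩ := hG.hV o
  exact W.exists_rep hG.hE O (hG.hU o) hx (hG.le hx) hx1 hxn

theorem exists_of_WF {π : Equiv.Perm (Fin D.nroots)} (h : π ∈ O.WF) :
    (∃ m ∈ D.monomialSubgroup K, m ∈ G ∧ m ∈ W.fixed ∧ Acts hT m π) ∧ W.Ufix π ≤ G := by
  refine O.WF_induction (P := fun π => (∃ m ∈ D.monomialSubgroup K, m ∈ G ∧ m ∈ W.fixed ∧ Acts hT m π) ∧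
    W.Ufix π ≤ G) ⟨⟨1, one_mem _, one_mem _, one_mem _, acts_one hT⟩, ?_⟩ ?_ h
  · intro v hv
    have h0 : negSet T (1 : Equiv.Perm (Fin D.nroots)) = ∅ := by
      ext r; simp [negSet]
    have h1 := (Subgroup.mem_inf.1 hv).1
    rw [h0] at h1
    have : v = 1 := (Subgroup.mem_bot.1 (Ugrp_le hT (K := ⊥) (fun r hr => absurd hr id) h1))
    rw [this]; exact one_mem _
  · rintro π o hπ hpos ⟨⟨m, hm, hmG, hmf, hma⟩, hle⟩
    obtain ⟨n, hn, hnG, hnf, hna⟩ := hG.rep o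
    refine ⟨⟨m * n, mul_mem hm hn, mul_mem hmG hnG, mul_mem hmf hnf, hma.mul hT hna⟩, fun v hv => ?_⟩
    obtain ⟨a, ha, c, hc, rfl⟩ := (W.Ufix_step hG.hE O hπ hpos hnf hna).1 hv
    exact mul_mem (mul_mem (mul_mem (inv_mem hnG) (hle ha)) hnG) (hG.hU o hc)

omit hG in
theorem exists_w0 (O : Orbs hT W.toSym) : ∃ π ∈ O.WF, ∀ r, T.Pos (π r) ↔ ¬ T.Pos r := by
  obtain ⟨L, hL⟩ := exists_longest hT
  refine ⟨pw hT L, O.WF_mk ?_, hL⟩
  have hp : ∀ r, T.Pos (pw hT (L.map W.ρi) r) ↔ ¬ T.Pos r := by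
    intro r
    rw [W.pw_map, Equiv.Perm.mul_apply, Equiv.Perm.mul_apply, W.ρ_pos, hL]
    conv_rhs => rw [show r = W.ρ (W.ρ⁻¹ r) from (W.ρ.apply_symm_apply r).symm, W.ρ_pos]
  have hd : pw hT (L.map W.ρi ++ L.reverse) = 1 := by
    refine inv'_eq_zero hT (pw_mem_WJ hT _) (Finset.card_eq_zero.2 (Finset.eq_empty_iff_forall_notMem.2 ?_))
    intro r hr
    rw [mem_inv', pw_append, pw_reverse, Equiv.Perm.mul_apply, hp, not_not] at hr
    have := hL ((pw hT L)⁻¹ r)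
    rw [Equiv.Perm.coe_inv, Equiv.apply_symm_apply] at this
    exact (this.1 hr.1) (by rw [Equiv.Perm.coe_inv] at hr; exact hr.2)
  rw [pw_append, pw_reverse, mul_inv_eq_one, W.pw_map, mul_inv_eq_iff_eq_mul] at hd
  exact hd

omit hG in
theorem Ufix_w0 {π : Equiv.Perm (Fin D.nroots)} (h : ∀ r, T.Pos (π r) ↔ ¬ T.Pos r) :
    W.Ufix π = D.posUnipotent K ⊓ W.fixed := by
  have : negSet T π = {r | T.Pos r} := by
    ext r
    simp only [negSet, Set.mem_setOf_eq, h, not_not, and_self]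
  rw [Twist.Ufix, this, posUnipotent_eq hT]

theorem pos_fixed_le : D.posUnipotent K ⊓ W.fixed ≤ G := by
  obtain ⟨π, hπ, h⟩ := exists_w0 O
  rw [← Ufix_w0 h]
  exact (hG.exists_of_WF hπ).2

theorem mem_of_fixed_monomial {m : GL D.Idx K} (hm : m ∈ D.monomialSubgroup K) (hmf : m ∈ W.fixed)
    {π : Equiv.Perm (Fin D.nroots)} (hma : Acts hT m π) : π ∈ O.WF ∧ m ∈ G := by
  have h1 := W.τ_acts hm hma
  rw [hmf.2] at h1
  have hc := mul_inv_eq_iff_eq_mul.1 (Acts.unique hT h1 hma)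
  obtain ⟨L, hL⟩ := exists_acts hT hm
  have hπ : π = pw hT L := hma.unique hT hL
  have hWF : π ∈ O.WF := by rw [hπ] at hc ⊢; exact O.WF_mk hc
  refine ⟨hWF, ?_⟩
  obtain ⟨n, hn, hnG, hnf, hna⟩ := (hG.exists_of_WF hWF).1
  have hd : m * n⁻¹ ∈ D.diagonalSubgroup K := by
    refine (toPerm_eq_one_iff hT ⟨_, mul_mem hm (inv_mem hn)⟩).1 (toPerm_eq hT ?_)
    have := hma.mul hT (hna.inv hT)
    rwa [mul_inv_cancel] at this
  have := mul_mem (hG.hH _ hd (mul_mem hmf (inv_mem hnf)).2) hnG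
  rwa [inv_mul_cancel_right] at this

theorem eq_fixed : G = W.fixed := by
  refine le_antisymm hG.le fun g hg => ?_
  obtain ⟨v, hv, m, hm, L, c, hc, hma, _, hvf, hmf, hcf, rfl⟩ := W.fixed_decomp hG.hE hg
  have hcp : c ∈ D.posUnipotent K := by
    rw [posUnipotent_eq hT]; exact Ugrp_mono hT (fun r hr => hr.1) hc
  refine mul_mem (mul_mem (hG.pos_fixed_le (Subgroup.mem_inf.2 ⟨hv, ?_, hvf⟩))
    (hG.mem_of_fixed_monomial hm ⟨monomial_le_group hT hm, hmf⟩ hma).2)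
    (hG.pos_fixed_le (Subgroup.mem_inf.2 ⟨hcp, ?_, hcf⟩))
  · exact borel_le_group hT (Subgroup.mem_sup_left hv)
  · exact borel_le_group hT (Subgroup.mem_sup_left hcp)

theorem mem_iff {g : GL D.Idx K} : g ∈ G ↔ g ∈ D.group K ∧ W.τ g = g := by
  rw [hG.eq_fixed]; rfl

theorem pos_inf : D.posUnipotent K ⊓ G = D.posUnipotent K ⊓ W.fixed := by rw [hG.eq_fixed]

theorem borel_decomp {g : GL D.Idx K} (hg : g ∈ D.borelSubgroup K) (hgG : g ∈ G) :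
    ∃ v ∈ D.posUnipotent K ⊓ G, ∃ h ∈ D.diagonalSubgroup K ⊓ G, g = v * h := by
  obtain ⟨v, hv, h, hh, rfl⟩ := (mem_borel hT).1 hg
  have hvg := borel_le_group hT (Subgroup.mem_sup_left hv : v ∈ D.borelSubgroup K)
  have hhg := borel_le_group hT (Subgroup.mem_sup_right hh : h ∈ D.borelSubgroup K)
  have e := (hG.mem_iff.1 hgG).2
  rw [W.τ_mul _ hvg _ hhg] at e
  obtain ⟨e1, e2⟩ := borel_unique hT (W.τ_pos hv) hv (W.τ_diagonal hh) hh e
  exact ⟨v, Subgroup.mem_inf.2 ⟨hv, hG.mem_iff.2 ⟨hvg, e1⟩⟩, h, Subgroup.mem_inf.2 ⟨hh, hG.mem_iff.2 ⟨hhg, e2⟩⟩, rfl⟩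

theorem card_borel : Nat.card ↥(D.borelSubgroup K ⊓ G) =
    Nat.card ↥(D.posUnipotent K ⊓ G) * Nat.card ↥(D.diagonalSubgroup K ⊓ G) := by
  rw [← Nat.card_prod]
  refine (Nat.card_eq_of_bijective (fun x : ↥(D.posUnipotent K ⊓ G) × ↥(D.diagonalSubgroup K ⊓ G) =>
    (⟨x.1 * x.2, Subgroup.mem_inf.2 ⟨mul_mem (Subgroup.mem_sup_left (Subgroup.mem_inf.1 x.1.2).1)
      (Subgroup.mem_sup_right (Subgroup.mem_inf.1 x.2.2).1),
      mul_mem (Subgroup.mem_inf.1 x.1.2).2 (Subgroup.mem_inf.1 x.2.2).2⟩⟩ : ↥(D.borelSubgroup K ⊓ G)))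
    ⟨?_, ?_⟩).symm
  · intro x y h
    obtain ⟨h1, h2⟩ := borel_unique hT (Subgroup.mem_inf.1 x.1.2).1 (Subgroup.mem_inf.1 y.1.2).1
      (Subgroup.mem_inf.1 x.2.2).1 (Subgroup.mem_inf.1 y.2.2).1 (Subtype.ext_iff.1 h)
    exact Prod.ext (Subtype.ext h1) (Subtype.ext h2)
  · rintro ⟨g, hg⟩
    obtain ⟨v, hv, h, hh, rfl⟩ := hG.borel_decomp (Subgroup.mem_inf.1 hg).1 (Subgroup.mem_inf.1 hg).2
    exact ⟨(⟨v, hv⟩, ⟨h, hh⟩), rfl⟩

theorem card_group [Finite K] : Nat.card ↥G =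
    Nat.card ↥(D.borelSubgroup K ⊓ G) * ∑ π ∈ O.WF, Nat.card ↥(W.Ufix π) := by
  classical
  choose n hn hnG hnf hna using fun π : ↥O.WF => (hG.exists_of_WF π.2).1
  let Φ : (Σ π : ↥O.WF, ↥(D.borelSubgroup K ⊓ G) × ↥(W.Ufix π.1)) → ↥G := fun x =>
    ⟨x.2.1 * n x.1 * x.2.2, mul_mem (mul_mem (Subgroup.mem_inf.1 x.2.1.2).2 (hnG x.1))
      ((hG.exists_of_WF x.1.2).2 x.2.2.2)⟩
  have hb : Function.Bijective Φ := by
    refine ⟨?_, ?_⟩
    · rintro ⟨π, b, c⟩ ⟨π', b', c'⟩ h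
      have e := congrArg Subtype.val h
      simp only [Φ] at e
      have hcl := canonical_class hT hG.hE (Subgroup.mem_inf.1 b.2).1 (Subgroup.mem_inf.1 b'.2).1
        (hn π) (hn π') (W.Ufix_le_pos _ c.2) (W.Ufix_le_pos _ c'.2) e
      have hp := Acts.unique hT (acts_diagonal hT hcl) (((hna π).inv hT).mul hT (hna π'))
      rw [eq_comm, inv_mul_eq_one] at hp
      obtain rfl : π = π' := Subtype.ext hp
      obtain ⟨L, _, hL⟩ := (mem_WJ hT).1 (O.mem_WF.1 π.2).1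
      obtain ⟨h1, h2⟩ := canonical_unique hT (Subgroup.mem_inf.1 b.2).1 (Subgroup.mem_inf.1 b'.2).1
        (hna π) (Subgroup.mem_inf.1 c.2).1 (Subgroup.mem_inf.1 c'.2).1 e
      obtain rfl := Subtype.ext h1
      obtain rfl := Subtype.ext h2
      rfl
    · rintro ⟨g, hg⟩
      obtain ⟨v, hv, m, hm, L, c, hc, hma, _, hvf, hmf, hcf, rfl⟩ := W.fixed_decomp hG.hE (hG.le hg)
      obtain ⟨hWF, hmG⟩ := hG.mem_of_fixed_monomial hm ⟨monomial_le_group hT hm, hmf⟩ hma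
      set π : ↥O.WF := ⟨pw hT L, hWF⟩
      have hd : m * (n π)⁻¹ ∈ D.diagonalSubgroup K := by
        refine (toPerm_eq_one_iff hT ⟨_, mul_mem hm (inv_mem (hn π))⟩).1 (toPerm_eq hT ?_)
        have := hma.mul hT ((hna π).inv hT)
        rwa [mul_inv_cancel] at this
      have hvG : v ∈ G := hG.mem_iff.2 ⟨borel_le_group hT (Subgroup.mem_sup_left hv), hvf⟩
      refine ⟨⟨π, ⟨v * (m * (n π)⁻¹), Subgroup.mem_inf.2 ⟨mul_mem (Subgroup.mem_sup_left hv) (Subgroup.mem_sup_right hd),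
        mul_mem hvG (mul_mem hmG (inv_mem (hnG π)))⟩⟩,
        ⟨c, Subgroup.mem_inf.2 ⟨hc, Ugrp_le hT (fun r _ t => u_mem_group hT r t) hc, hcf⟩⟩⟩, Subtype.ext ?_⟩
      simp only [Φ]
      group
  rw [← Nat.card_eq_of_bijective Φ hb, Nat.card_sigma, Finset.mul_sum,
    ← Finset.sum_coe_sort O.WF]
  exact Finset.sum_congr rfl fun π _ => Nat.card_prod _ _

theorem card_Ufix_pow {k N : ℕ}
    (hk : ∀ o, Nat.card ↥(W.Ufix (O.wO o)) ^ k = N ^ (inv' T (O.wO o)).card)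
    {π : Equiv.Perm (Fin D.nroots)} (h : π ∈ O.WF) :
    Nat.card ↥(W.Ufix π) ^ k = N ^ (inv' T π).card := by
  refine O.WF_induction (P := fun π => Nat.card ↥(W.Ufix π) ^ k = N ^ (inv' T π).card) ?_ ?_ h
  · have hb : W.Ufix 1 = ⊥ := by
      refine le_bot_iff.1 (inf_le_left.trans (Ugrp_le hT fun r hr => ?_))
      exact absurd hr.1 (by simpa using hr.2)
    rw [hb, inv'_one hT]
    simp
  · intro π o hπ hpos ih
    obtain ⟨n, _, _, hnf, hna⟩ := hG.rep o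
    rw [W.card_Ufix_step hG.hE O hπ hpos hnf hna, mul_pow, ih, hk, O.card_mul_wO hπ hpos, pow_add]

theorem card_pos {k N : ℕ} (hk : ∀ o, Nat.card ↥(W.Ufix (O.wO o)) ^ k = N ^ (inv' T (O.wO o)).card) :
    Nat.card ↥(D.posUnipotent K ⊓ G) ^ k = N ^ (D.nroots / 2) := by
  classical
  obtain ⟨π, hπ, h⟩ := exists_w0 O
  rw [hG.pos_inf, ← Ufix_w0 h, hG.card_Ufix_pow hk hπ, ← Tab.card_pos hT, Fintype.card_subtype]
  congr 2
  ext r
  simp only [mem_inv', h, not_not, and_self, Finset.mem_filter, Finset.mem_univ, true_and]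
  rfl

end Twist.Gen

end Tab

end CfsgLib.Lie
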