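/-
The (B, N)-pair of a twisted group; core of the Borel subgroup; simplicity.
-/
import Cfsg.Agent.Lib.LieTwistGroup
import Cfsg.Agent.Lib.LieChevStruct
import Cfsg.Agent.S0319

set_option autoImplicit false
set_option maxHeartbeats 400000

namespace CfsgLib.Lie

open Cfsg.Lie

namespace Tab

variable {D : ChevalleyDatum} {T : Tab D} {K : Type*} [Field K] {hT : T.Checked}

namespace Twist.Gen

variable {W : Twist hT K} {O : Orbs hT W.toSym} {G : Subgroup (GL D.Idx K)} (hG : W.Gen O G)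

/-- A representative of an orbit reflection. -/
noncomputable def nO (o : Fin O.n) : GL D.Idx K := (hG.rep o).choose

theorem nO_spec (o : Fin O.n) : hG.nO o ∈ D.monomialSubgroup K ∧ hG.nO o ∈ G ∧ hG.nO o ∈ W.fixed ∧
    Acts hT (hG.nO o) (O.wO o) := (hG.rep o).choose_spec

theorem nO_sq (o : Fin O.n) : hG.nO o * hG.nO o ∈ D.diagonalSubgroup K := by
  obtain ⟨h1, _, _, h4⟩ := hG.nO_spec o
  refine (toPerm_eq_one_iff hT ⟨_, mul_mem h1 h1⟩).1 (toPerm_eq hT ?_)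
  have := h4.mul hT h4
  rwa [show O.wO o * O.wO o = 1 from O.wl_sq o] at this

theorem wO_inj {o o' : Fin O.n} (h : O.wO o = O.wO o') : o = o' := by
  obtain ⟨i, hi⟩ := O.nonempty o
  have h1 := (O.negSet_wO o).symm.subset (O.p_mem_rootsOf hi)
  rw [h] at h1
  have h2 := ((O.negSet_wO o').subset h1).2
  refine O.disj o o' i hi (by_contra fun hn => ?_)
  have := h2 i hn
  rw [co_p hT, if_pos rfl] at this
  exact one_ne_zero this

include hG in
theorem pos_of_fixed_monomial {n : GL D.Idx K} {π : Equiv.Perm (Fin D.nroots)} (hn : Acts hT n π)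
    {o : Fin O.n} (hπ : π ∈ O.WF) (hpos : ∀ i ∈ O.J o, T.Pos (π⁻¹ (T.p i))) {c : GL D.Idx K}
    (hc : c ∈ Ugrp hT K (negSet T (O.wO o))) : n⁻¹ * c * n ∈ D.posUnipotent K := by
  obtain ⟨L, _, hL⟩ := (mem_WJ hT).1 (O.mem_WF.1 hπ).1
  have hinv : π⁻¹ = pw hT L.reverse := by rw [pw_reverse, hL]
  have h1 := conj_posSet hT (n := n⁻¹) (π := π⁻¹) (hn.inv hT) (a := c) ?_
  · rwa [inv_inv] at h1
  · refine Ugrp_mono hT ?_ hc
    intro r hr
    refine ⟨hr.1, ?_⟩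
    rw [hinv]
    exact pos_of_J hT (fun i hi => by rw [← hinv]; exact hpos i hi) ((O.negSet_wO o).subset hr)

/-- The double coset condition. -/
theorem bnb (o : Fin O.n) {n b : GL D.Idx K} (hn : n ∈ D.monomialSubgroup K) (hnG : n ∈ G)
    (hb : b ∈ D.borelSubgroup K) (hbG : b ∈ G) :
    (∃ b₁ ∈ D.borelSubgroup K ⊓ G, ∃ b₂ ∈ D.borelSubgroup K ⊓ G, hG.nO o * b * n = b₁ * (hG.nO o * n) * b₂) ∨
      ∃ b₁ ∈ D.borelSubgroup K ⊓ G, ∃ b₂ ∈ D.borelSubgroup K ⊓ G, hG.nO o * b * n = b₁ * n * b₂ := by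
  obtain ⟨π, hπa⟩ : ∃ π, Acts hT n π := ⟨_, acts_toPerm hT ⟨n, hn⟩⟩
  have hπ : π ∈ O.WF := (hG.mem_of_fixed_monomial hn (hG.le hnG) hπa).1
  obtain ⟨hs, hsG, hsf, hsa⟩ := hG.nO_spec o
  set s := hG.nO o with hsdef
  obtain ⟨v, hv, h, hh, rfl⟩ := hG.borel_decomp hb hbG
  obtain ⟨hvU, hvG⟩ := Subgroup.mem_inf.1 hv
  obtain ⟨hhH, hhG⟩ := Subgroup.mem_inf.1 hh
  obtain ⟨a, ha, c, hc, rfl⟩ := W.fixed_split hG.hE (O.wl_comm o) hvU (hG.le hvG).2
  obtain ⟨haU, haf⟩ := Subgroup.mem_inf.1 ha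
  obtain ⟨hcU, hcf⟩ := Subgroup.mem_inf.1 hc
  have haG : a ∈ G := by rw [hG.eq_fixed]; exact haf
  have hcG : c ∈ G := hG.hU o hc
  -- the part normalised by the reflection
  have hp : s * a * s⁻¹ * (s * h * s⁻¹) ∈ D.borelSubgroup K ⊓ G :=
    Subgroup.mem_inf.2 ⟨mul_mem (Subgroup.mem_sup_left (conj_posSet hT hsa haU))
      (Subgroup.mem_sup_right (diagonal_normal_monomial hT hs hhH)),
      mul_mem (mul_mem (mul_mem hsG haG) (inv_mem hsG)) (mul_mem (mul_mem hsG hhG) (inv_mem hsG))⟩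
  have hc' : h⁻¹ * c * h ∈ Ugrp hT K (negSet T (O.wO o)) := by
    have := (Subgroup.mem_normalizer_iff.1 (diagonal_le_normalizer_Ugrp hT (negSet T (O.wO o)) (inv_mem hhH)) c).1 hcU
    simpa using this
  have hc'G : h⁻¹ * c * h ∈ G := mul_mem (mul_mem (inv_mem hhG) hcG) hhG
  set c' := h⁻¹ * c * h with hc'def
  have e0 : s * (a * c * h) * n = s * a * s⁻¹ * (s * h * s⁻¹) * (s * c' * n) := by
    rw [hc'def]; group
  have hU : ∀ {x : GL D.Idx K}, x ∈ D.posUnipotent K → x ∈ G → x ∈ D.borelSubgroup K ⊓ G :=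
    fun h1 h2 => Subgroup.mem_inf.2 ⟨Subgroup.mem_sup_left h1, h2⟩
  obtain ⟨i₀, hi₀⟩ := O.nonempty o
  have hsign : ∀ j ∈ O.J o, T.Pos (π⁻¹ (T.p i₀)) ↔ T.Pos (π⁻¹ (T.p j)) := fun j hj =>
    O.sign_orbit (O.mem_WF.2 ⟨WJ_inv hT (O.mem_WF.1 hπ).1, by
      rw [eq_inv_mul_iff_mul_eq, ← mul_assoc, ← (O.mem_WF.1 hπ).2, mul_inv_cancel_right]⟩) hi₀ hj
  by_cases hpos : T.Pos (π⁻¹ (T.p i₀))
  · left
    refine ⟨_, hp, n⁻¹ * c' * n, hU (hG.pos_of_fixed_monomial hπa hπ (fun j hj => (hsign j hj).1 hpos) hc')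
      (mul_mem (mul_mem (inv_mem hnG) hc'G) hnG), ?_⟩
    rw [e0]; group
  by_cases hc1 : c' = 1
  · left
    exact ⟨_, hp, 1, one_mem _, by rw [e0, hc1]; group⟩
  right
  have hyn : s * c' * s⁻¹ ∈ Ugrp hT K (T.ng '' rootsOf T (O.J o)) := by
    have h1 := Subgroup.mem_map_of_mem (MulAut.conj s).toMonoidHom hc'
    rw [map_Ugrp hT hsa] at h1
    refine Ugrp_mono hT ?_ h1
    rintro _ ⟨r, hr, rfl⟩
    refine ⟨T.ng (O.wO o r), ⟨(pos_ng hT).2 hr.2, fun m hm => ?_⟩, ng_ng hT _⟩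
    rw [co_ng hT, Orbs.wO, (co_pw_of_not_mem hT (O.wl_mem o) r hm).1, ((O.negSet_wO o).subset hr).2 m hm,
      neg_zero]
  have hyG : s * c' * s⁻¹ ∈ G := mul_mem (mul_mem hsG hc'G) (inv_mem hsG)
  obtain ⟨v₁, hv₁, m, hm, L, c₁, hc₁, hma, hcomm, hvf, hmf, hcf₁, e⟩ := W.fixed_decomp hG.hE (hG.le hyG)
  have hsupp := W.class_supp hG.hE O (hG.le hyG).1 hyn hv₁ hm hc₁ hma e
  have hLF : pw hT L ∈ O.WF := O.WF_mk (mul_inv_eq_iff_eq_mul.1 hcomm)
  have hmG : m ∈ G := (hG.mem_of_fixed_monomial hm ⟨monomial_le_group hT hm, hmf⟩ hma).2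
  have hwo : pw hT L = O.wO o := by
    refine (O.eq_wO_of_supp hLF hsupp).resolve_left fun h1 => hc1 ?_
    have hmd : m ∈ D.diagonalSubgroup K :=
      (toPerm_eq_one_iff hT ⟨m, hm⟩).1 ((toPerm_eq hT (g := ⟨m, hm⟩) hma).trans h1)
    have hxB : s * c' * s⁻¹ ∈ D.borelSubgroup K := by
      rw [e]
      refine mul_mem (mul_mem (Subgroup.mem_sup_left hv₁) (Subgroup.mem_sup_right hmd)) (Subgroup.mem_sup_left ?_)
      rw [posUnipotent_eq hT]; exact Ugrp_mono hT (fun r hr => hr.1) hc₁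
    have hxN : s * c' * s⁻¹ ∈ D.negUnipotent K := by
      rw [negUnipotent_eq hT]
      refine Ugrp_mono hT ?_ hyn
      rintro _ ⟨r, hr, rfl⟩
      exact fun h => (pos_ng hT).1 h hr.1
    have h0 := borel_inf_neg (F := K) hT
    rw [eq_bot_iff] at h0
    have h2 := Subgroup.mem_bot.1 (h0 ⟨hxB, hxN⟩)
    rwa [mul_inv_eq_one, mul_eq_left] at h2
  rw [hwo] at hma hc₁
  have hc₁G : c₁ ∈ G := hG.hU o (Subgroup.mem_inf.2
    ⟨hc₁, Ugrp_le hT (fun r _ t => u_mem_group hT r t) hc₁, hcf₁⟩)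
  have hd : m * s⁻¹ ∈ D.diagonalSubgroup K := by
    refine (toPerm_eq_one_iff hT ⟨_, mul_mem hm (inv_mem hs)⟩).1 (toPerm_eq hT ?_)
    have := hma.mul hT (hsa.inv hT)
    rwa [mul_inv_cancel] at this
  have hv₁G : v₁ ∈ G := hG.mem_iff.2 ⟨borel_le_group hT (Subgroup.mem_sup_left hv₁), hvf⟩
  have hwπ : O.wO o * π ∈ O.WF := O.WF_mul (O.wO_mem o) hπ
  have hpos' : ∀ j ∈ O.J o, T.Pos ((O.wO o * π)⁻¹ (T.p j)) := by
    intro j hj
    have hr : T.ng (O.wO o (T.p j)) ∈ rootsOf T (O.J o) := by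
      refine ⟨(pos_ng hT).2 (O.wl_neg o j hj), fun k hk => ?_⟩
      rw [co_ng hT, Orbs.wO, (co_pw_of_not_mem hT (O.wl_mem o) _ hk).1, (O.p_mem_rootsOf hj).2 k hk, neg_zero]
    obtain ⟨L', _, hL'⟩ := (mem_WJ hT).1 (WJ_inv hT (O.mem_WF.1 hπ).1)
    have h1 := neg_of_J hT (L := L') (fun k hk => by rw [hL']; exact fun hp' => hpos ((hsign k hk).2 hp')) hr
    rw [hL', WJ_ng hT (WJ_inv hT (O.mem_WF.1 hπ).1), pos_ng hT, not_not] at h1
    rw [mul_inv_rev, inv_eq_of_mul_eq_one_right (show O.wO o * O.wO o = 1 from O.wl_sq o), Equiv.Perm.mul_apply]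
    exact h1
  refine ⟨s * a * s⁻¹ * (s * h * s⁻¹) * (v₁ * (m * s⁻¹) * (s * s)), ?_, (s * n)⁻¹ * c₁ * (s * n), ?_, ?_⟩
  · refine mul_mem hp (Subgroup.mem_inf.2 ⟨mul_mem (mul_mem (Subgroup.mem_sup_left hv₁) (Subgroup.mem_sup_right hd))
      (Subgroup.mem_sup_right (hG.nO_sq o)), mul_mem (mul_mem hv₁G (mul_mem hmG (inv_mem hsG))) (mul_mem hsG hsG)⟩)
  · exact hU (hG.pos_of_fixed_monomial (hsa.mul hT hπa) hwπ hpos' hc₁)
      (mul_mem (mul_mem (inv_mem (mul_mem hsG hnG)) hc₁G) (mul_mem hsG hnG))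
  · rw [e0]
    have : s * c' * n = v₁ * m * c₁ * s * n := by rw [← e]; group
    rw [this]; group

include hG in
theorem monomial_word {n : GL D.Idx K} (hn : n ∈ D.monomialSubgroup K) (hnG : n ∈ G) :
    n ∈ Subgroup.closure (Set.range hG.nO) ⊔ (D.diagonalSubgroup K ⊓ G) := by
  obtain ⟨π, hπa⟩ : ∃ π, Acts hT n π := ⟨_, acts_toPerm hT ⟨n, hn⟩⟩
  have hπ : π ∈ O.WF := (hG.mem_of_fixed_monomial hn (hG.le hnG) hπa).1
  obtain ⟨m, hm, hmG, hma⟩ : ∃ m ∈ Subgroup.closure (Set.range hG.nO), m ∈ D.monomialSubgroup K ⊓ G ∧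
      Acts hT m π := by
    refine O.WF_induction (P := fun π => ∃ m ∈ Subgroup.closure (Set.range hG.nO),
      m ∈ D.monomialSubgroup K ⊓ G ∧ Acts hT m π) ⟨1, one_mem _, one_mem _, acts_one hT⟩ ?_ hπ
    rintro π' o _ _ ⟨m, hm, hmG, hma⟩
    obtain ⟨hs, hsG, _, hsa⟩ := hG.nO_spec o
    exact ⟨m * hG.nO o, mul_mem hm (Subgroup.subset_closure ⟨o, rfl⟩),
      mul_mem hmG (Subgroup.mem_inf.2 ⟨hs, hsG⟩), hma.mul hT hsa⟩
  obtain ⟨hmN, hmG'⟩ := Subgroup.mem_inf.1 hmG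
  have hd : n * m⁻¹ ∈ D.diagonalSubgroup K ⊓ G := by
    refine Subgroup.mem_inf.2 ⟨(toPerm_eq_one_iff hT ⟨_, mul_mem hn (inv_mem hmN)⟩).1 (toPerm_eq hT ?_),
      mul_mem hnG (inv_mem hmG')⟩
    have := hπa.mul hT (hma.inv hT)
    rwa [mul_inv_cancel] at this
  have := mul_mem (Subgroup.mem_sup_right (S := Subgroup.closure (Set.range hG.nO)) hd) (Subgroup.mem_sup_left hm)
  rwa [inv_mul_cancel_right] at this

/-- The (B, N)-pair of the twisted group. -/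
noncomputable def pair : Cfsg.BNPair ↥G where
  B := (D.borelSubgroup K ⊓ G).subgroupOf G
  N := (D.monomialSubgroup K ⊓ G).subgroupOf G
  S := Set.range fun o => (⟨hG.nO o, (hG.nO_spec o).2.1⟩ : ↥G)
  sup_eq_top := by
    rw [← Subgroup.subgroupOf_sup inf_le_right inf_le_right, Subgroup.subgroupOf_eq_top]
    intro g hg
    obtain ⟨v, hv, m, hm, L, c, hc, hma, _, hvf, hmf, hcf, rfl⟩ := W.fixed_decomp hG.hE (hG.le hg)
    have hcp : c ∈ D.posUnipotent K := by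
      rw [posUnipotent_eq hT]; exact Ugrp_mono hT (fun r hr => hr.1) hc
    have hmG : m ∈ G := hG.mem_iff.2 ⟨monomial_le_group hT hm, hmf⟩
    have hvG : v ∈ G := hG.mem_iff.2 ⟨borel_le_group hT (Subgroup.mem_sup_left hv), hvf⟩
    have hcG : c ∈ G := hG.mem_iff.2 ⟨borel_le_group hT (Subgroup.mem_sup_left hcp), hcf⟩
    exact mul_mem (mul_mem (Subgroup.mem_sup_left (Subgroup.mem_inf.2 ⟨Subgroup.mem_sup_left hv, hvG⟩))
      (Subgroup.mem_sup_right (Subgroup.mem_inf.2 ⟨hm, hmG⟩)))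
      (Subgroup.mem_sup_left (Subgroup.mem_inf.2 ⟨Subgroup.mem_sup_left hcp, hcG⟩))
  conj_mem := by
    intro n hn t ht
    obtain ⟨h1, h2⟩ := Subgroup.mem_inf.1 ht
    rw [Subgroup.mem_subgroupOf] at hn h1 h2 ⊢
    refine Subgroup.mem_inf.2 ⟨Subgroup.mem_sup_right (diagonal_normal_monomial hT (Subgroup.mem_inf.1 hn).1
      ((borel_inf_monomial hT).le ⟨(Subgroup.mem_inf.1 h1).1, (Subgroup.mem_inf.1 h2).1⟩)), SetLike.coe_mem _⟩
  subset := by
    rintro _ ⟨o, rfl⟩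
    exact Subgroup.mem_subgroupOf.2 (Subgroup.mem_inf.2 ⟨(hG.nO_spec o).1, (hG.nO_spec o).2.1⟩)
  sq_mem := by
    rintro _ ⟨o, rfl⟩
    exact Subgroup.mem_subgroupOf.2 (Subgroup.mem_inf.2
      ⟨Subgroup.mem_sup_right (hG.nO_sq o), SetLike.coe_mem _⟩)
  inj := by
    rintro _ ⟨o, rfl⟩ _ ⟨o', rfl⟩ h
    obtain ⟨h1, _, _, h4⟩ := hG.nO_spec o
    obtain ⟨h1', _, _, h4'⟩ := hG.nO_spec o'
    have hB := (Subgroup.mem_inf.1 (Subgroup.mem_subgroupOf.1 h)).1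
    have hd : (hG.nO o)⁻¹ * hG.nO o' ∈ D.diagonalSubgroup K :=
      (borel_inf_monomial hT).le (Subgroup.mem_inf.2 ⟨hB, mul_mem (inv_mem h1) h1'⟩)
    have := Acts.unique hT (acts_diagonal hT hd) ((h4.inv hT).mul hT h4')
    rw [eq_comm, inv_mul_eq_one] at this
    rw [wO_inj this]
  closure_sup := by
    refine le_antisymm (sup_le ((Subgroup.closure_le _).2 ?_) inf_le_right) fun n hn => ?_
    · rintro _ ⟨o, rfl⟩
      exact Subgroup.mem_subgroupOf.2 (Subgroup.mem_inf.2 ⟨(hG.nO_spec o).1, (hG.nO_spec o).2.1⟩)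
    rw [Subgroup.mem_subgroupOf, Subgroup.mem_inf] at hn
    have h := hG.monomial_word hn.1 hn.2
    have hle : Subgroup.closure (Set.range hG.nO) ⊔ (D.diagonalSubgroup K ⊓ G) ≤
        Subgroup.map G.subtype (Subgroup.closure (Set.range fun o => (⟨hG.nO o, (hG.nO_spec o).2.1⟩ : ↥G)) ⊔
          ((D.borelSubgroup K ⊓ G).subgroupOf G ⊓ (D.monomialSubgroup K ⊓ G).subgroupOf G)) := by
      refine sup_le ((Subgroup.closure_le _).2 ?_) fun d hd => ?_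
      · rintro _ ⟨o, rfl⟩
        exact ⟨⟨hG.nO o, (hG.nO_spec o).2.1⟩, Subgroup.mem_sup_left (Subgroup.subset_closure ⟨o, rfl⟩), rfl⟩
      · obtain ⟨hd1, hd2⟩ := Subgroup.mem_inf.1 hd
        exact ⟨⟨d, hd2⟩, Subgroup.mem_sup_right (Subgroup.mem_inf.2
          ⟨Subgroup.mem_subgroupOf.2 (Subgroup.mem_inf.2 ⟨Subgroup.mem_sup_right hd1, hd2⟩),
            Subgroup.mem_subgroupOf.2 (Subgroup.mem_inf.2 ⟨diagonal_le_monomial hT hd1, hd2⟩)⟩), rfl⟩
    obtain ⟨x, hx, e⟩ := hle h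
    rwa [show n = x from Subtype.ext e.symm]
  mul_mem_union := by
    rintro _ ⟨o, rfl⟩ n hn b hb
    rw [Subgroup.mem_subgroupOf, Subgroup.mem_inf] at hn hb
    simp only [Set.mem_union, DoubleCoset.mem_doubleCoset, SetLike.mem_coe]
    rcases hG.bnb o hn.1 hn.2 hb.1 hb.2 with ⟨b₁, h₁, b₂, h₂, eq⟩ | ⟨b₁, h₁, b₂, h₂, eq⟩
    · exact Or.inl ⟨⟨b₁, (Subgroup.mem_inf.1 h₁).2⟩, Subgroup.mem_subgroupOf.2 h₁,
        ⟨b₂, (Subgroup.mem_inf.1 h₂).2⟩, Subgroup.mem_subgroupOf.2 h₂, Subtype.ext eq⟩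
    · exact Or.inr ⟨⟨b₁, (Subgroup.mem_inf.1 h₁).2⟩, Subgroup.mem_subgroupOf.2 h₁,
        ⟨b₂, (Subgroup.mem_inf.1 h₂).2⟩, Subgroup.mem_subgroupOf.2 h₂, Subtype.ext eq⟩
  conj_ne := by
    rintro _ ⟨o, rfl⟩ heq
    obtain ⟨t, ht, htne⟩ := hG.hreg o
    set u₀ := uprod hT (posFrom T 0) t with hu₀
    obtain ⟨h1, h2, _, h4⟩ := hG.nO_spec o
    have hu₀G : u₀ ∈ G := hG.hU o ht
    have hx : (⟨u₀, hu₀G⟩ : ↥G) ∈ (D.borelSubgroup K ⊓ G).subgroupOf G :=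
      Subgroup.mem_subgroupOf.2 (Subgroup.mem_inf.2 ⟨Subgroup.mem_sup_left (W.Ufix_le_pos _ ht), hu₀G⟩)
    have h3 : (⟨hG.nO o, h2⟩ : ↥G) * ⟨u₀, hu₀G⟩ * ⟨hG.nO o, h2⟩ ∈ (D.borelSubgroup K ⊓ G).subgroupOf G := by
      rw [← SetLike.mem_coe, ← heq]; exact ⟨_, hx, rfl⟩
    have h5 := (Subgroup.mem_inf.1 (Subgroup.mem_subgroupOf.1 h3)).1
    have h6 := mul_mem h5 (inv_mem (Subgroup.mem_sup_right (hG.nO_sq o) :
      hG.nO o * hG.nO o ∈ D.borelSubgroup K))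
    simp only [Subgroup.coe_mul] at h6
    rw [show hG.nO o * u₀ * hG.nO o * (hG.nO o * hG.nO o)⁻¹ = hG.nO o * u₀ * (hG.nO o)⁻¹ by group] at h6
    have hb := borel_inf_neg (F := K) hT
    rw [eq_bot_iff] at hb
    have h7 := Subgroup.mem_bot.1 (hb ⟨h6, conj_negSet hT h4 (Subgroup.mem_inf.1 ht).1⟩)
    rw [mul_inv_eq_one, mul_eq_left] at h7
    obtain ⟨i, hi⟩ := O.nonempty o
    have h8 : uprod hT (posFrom T 0) t = uprod hT (posFrom T 0) fun _ => (0 : K) := by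
      rw [← hu₀, h7]; simp [uprod, u_zero]
    exact htne i hi (uprod_injective hT h8 _ (pos_p hT i))

include hG in
/-- The Borel subgroup has trivial core. -/
theorem core : ((D.borelSubgroup K ⊓ G).subgroupOf G).normalCore = ⊥ := by
  rw [eq_bot_iff]
  intro g hg
  obtain ⟨π, hπ, hw0⟩ := exists_w0 O
  obtain ⟨n, hn, hnG, _, hna⟩ := (hG.exists_of_WF hπ).1
  have hcore : ∀ x ∈ G, x * (g : GL D.Idx K) * x⁻¹ ∈ D.borelSubgroup K := fun x hx => by
    have := (Subgroup.mem_inf.1 (Subgroup.mem_subgroupOf.1 (hg ⟨x, hx⟩))).1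
    simpa using this
  have hH : ∀ x ∈ G, x * (g : GL D.Idx K) * x⁻¹ ∈ D.diagonalSubgroup K := by
    intro x hx
    refine (borel_inf_negH (F := K) hT).le (Subgroup.mem_inf.2 ⟨hcore x hx, ?_⟩)
    obtain ⟨v, hv, h, hh, e⟩ := (mem_borel hT).1 (hcore (n⁻¹ * x) (mul_mem (inv_mem hnG) hx))
    have e2 : x * (g : GL D.Idx K) * x⁻¹ = (n * v * n⁻¹) * (n * h * n⁻¹) := by
      calc x * (g : GL D.Idx K) * x⁻¹ = n * (n⁻¹ * x * (g : GL D.Idx K) * (n⁻¹ * x)⁻¹) * n⁻¹ := by group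
        _ = _ := by rw [e]; group
    rw [e2]
    refine mul_mem (Subgroup.mem_sup_left (conj_negSet hT hna ?_))
      (Subgroup.mem_sup_right (diagonal_normal_monomial hT hn hh))
    rw [posUnipotent_eq hT] at hv
    refine Ugrp_mono hT ?_ hv
    exact fun r hr => ⟨hr, fun hp => (hw0 r).1 hp hr⟩
  have hg0 : (g : GL D.Idx K) ∈ D.diagonalSubgroup K := by simpa using hH 1 (one_mem _)
  have hfix : ∀ o, ∀ u ∈ W.Ufix (O.wO o), (g : GL D.Idx K) * u * (g : GL D.Idx K)⁻¹ = u := by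
    intro o u hu
    have h1 := mul_mem hg0 (inv_mem (hH u (hG.hU o hu)))
    have h2 : (g : GL D.Idx K) * (u * g * u⁻¹)⁻¹ ∈ D.posUnipotent K := by
      have hn' := Subgroup.mem_normalizer_iff.1 (diagonal_le_normalizer_pos (F := K) hT hg0) u
      rw [mul_inv_rev, mul_inv_rev, inv_inv, ← mul_assoc, ← mul_assoc]
      rw [show (g : GL D.Idx K) * u * (g : GL D.Idx K)⁻¹ * u⁻¹ = (g * u * (g : GL D.Idx K)⁻¹) * u⁻¹ from rfl]
      exact mul_mem (hn'.1 (W.Ufix_le_pos _ hu)) (inv_mem (W.Ufix_le_pos _ hu))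
    have h0 := pos_inf_diagonal (F := K) hT
    rw [eq_bot_iff] at h0
    have h3 := Subgroup.mem_bot.1 (h0 ⟨h2, h1⟩)
    rw [mul_inv_rev, mul_inv_rev, inv_inv, ← mul_assoc, ← mul_assoc, mul_inv_eq_one] at h3
    exact h3
  rw [diagonal_eq hT] at hg0
  obtain ⟨c, hc⟩ := hg0
  have hker : c ∈ (torus (F := K) T).ker := by
    rw [mem_ker_torus hT]
    intro i
    obtain ⟨o, ho⟩ := O.cover i
    obtain ⟨t, ht, htne⟩ := hG.hreg o
    have h1 := hfix o _ ht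
    rw [← hc, torus_apply] at h1
    have hconj : ∀ L : List (Fin D.nroots), dg (torChar T c) * uprod hT L t * (dg (torChar T c))⁻¹ =
        uprod hT L fun r => (torChar T c r : K) * t r := by
      intro L
      induction L with
      | nil => simp [uprod]
      | cons r L ih =>
        simp only [uprod, List.map_cons, List.prod_cons] at ih ⊢
        rw [← ih, ← dg_conj_u hT (torChar_isChar hT c)]
        group
    rw [hconj] at h1
    have h2 := uprod_injective hT h1 _ (pos_p hT i)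
    rw [mul_left_eq_self₀, or_iff_left (htne i ho)] at h2
    exact Units.ext h2
  rw [Subgroup.mem_bot]
  exact Subtype.ext (hc.symm.trans (MonoidHom.mem_ker.1 hker))

include hG in
theorem solvable : Group.IsSolvable ↥((D.borelSubgroup K ⊓ G).subgroupOf G) := by
  haveI := solvable_borel (F := K) hT
  haveI : Group.IsSolvable ↥(D.borelSubgroup K ⊓ G) :=
    Group.isSolvable_of_isSolvable_injective (G' := ↥(D.borelSubgroup K))
      (f := Subgroup.inclusion inf_le_left) (Subgroup.inclusion_injective _)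
  exact Group.isSolvable_of_isSolvable_injective (G' := ↥(D.borelSubgroup K ⊓ G))
    (f := (Subgroup.subgroupOfEquivOfLe (inf_le_right : D.borelSubgroup K ⊓ G ≤ G)).toMonoidHom)
    (Subgroup.subgroupOfEquivOfLe (inf_le_right : D.borelSubgroup K ⊓ G ≤ G)).injective

/-- Every splitting of the orbits has two non-commuting orbit reflections. -/
def Conn (O : Orbs hT W.toSym) : Prop :=
  ∀ A : Finset (Fin O.n), A.Nonempty → Aᶜ.Nonempty → ∃ a ∈ A, ∃ b ∈ Aᶜ, O.wO a * O.wO b ≠ O.wO b * O.wO a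

theorem irreducible (hconn : Conn O) : (hG.pair).Irreducible := by
  classical
  intro J hJ hne hne'
  obtain ⟨x, hx⟩ := hne
  obtain ⟨y, hy⟩ := hne'
  obtain ⟨ox, rfl⟩ := hJ hx
  obtain ⟨oy, rfl⟩ := hy.1
  obtain ⟨a, ha, b, hb, hab⟩ := hconn
    (Finset.univ.filter fun o => (⟨hG.nO o, (hG.nO_spec o).2.1⟩ : ↥G) ∈ J)
    ⟨ox, by simpa using hx⟩ ⟨oy, by simpa using hy.2⟩
  simp only [Finset.mem_filter, Finset.mem_univ, true_and] at ha
  simp only [Finset.mem_compl, Finset.mem_filter, Finset.mem_univ, true_and] at hb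
  refine ⟨_, ha, ⟨hG.nO b, (hG.nO_spec b).2.1⟩, ⟨⟨b, rfl⟩, hb⟩, fun hmem => hab ?_⟩
  obtain ⟨h1, _, _, h4⟩ := hG.nO_spec a
  obtain ⟨h1', _, _, h4'⟩ := hG.nO_spec b
  have hB := (Subgroup.mem_inf.1 (Subgroup.mem_subgroupOf.1 hmem)).1
  simp only [Subgroup.coe_mul, Subgroup.coe_inv] at hB
  have hd : hG.nO a * hG.nO b * (hG.nO a)⁻¹ * (hG.nO b)⁻¹ ∈ D.diagonalSubgroup K :=
    (borel_inf_monomial hT).le (Subgroup.mem_inf.2 ⟨hB, mul_mem (mul_mem (mul_mem h1 h1') (inv_mem h1)) (inv_mem h1')⟩)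
  have := Acts.unique hT (acts_diagonal hT hd) (((h4.mul hT h4').mul hT (h4.inv hT)).mul hT (h4'.inv hT))
  rw [eq_comm, mul_inv_eq_one, mul_inv_eq_iff_eq_mul] at this
  exact this

include hG in
/-- Perfectness from the orbit subgroups and the generators. -/
theorem perfect (hder : ∀ o, W.Ufix (O.wO o) ≤ ⁅G, G⁆)
    (hcl : ∀ H : Subgroup (GL D.Idx K), (∀ o, W.Ufix (O.wO o) ≤ H) →
      (∀ o, Ugrp hT K (T.ng '' rootsOf T (O.J o)) ⊓ W.fixed ≤ H) → G ≤ H) :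
    commutator ↥G = ⊤ := by
  have key : G ≤ ⁅G, G⁆ := by
    refine hcl _ hder fun o y hy => ?_
    obtain ⟨hyU, hyf⟩ := Subgroup.mem_inf.1 hy
    obtain ⟨hs, hsG, hsf, hsa⟩ := hG.nO_spec o
    have hyG : y ∈ G := by rw [hG.eq_fixed]; exact hyf
    have h1 := Subgroup.mem_map_of_mem (MulAut.conj (hG.nO o)).toMonoidHom hyU
    rw [map_Ugrp hT hsa] at h1
    have hc : hG.nO o * y * (hG.nO o)⁻¹ ∈ W.Ufix (O.wO o) := by
      refine Subgroup.mem_inf.2 ⟨Ugrp_mono hT ?_ h1, mul_mem (mul_mem hsf hyf) (inv_mem hsf)⟩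
      rintro _ ⟨_, ⟨r, hr, rfl⟩, rfl⟩
      have h := (O.negSet_wO o).symm.subset hr
      refine ⟨?_, ?_⟩
      · rw [Orbs.wO, pw_ng, pos_ng hT]; exact h.2
      · rw [O.wO_wO, pos_ng hT, not_not]; exact h.1
    have hmap : G.map (MulAut.conj (hG.nO o)⁻¹).toMonoidHom = G := by
      ext z
      refine ⟨?_, fun hz => ⟨hG.nO o * z * (hG.nO o)⁻¹, mul_mem (mul_mem hsG hz) (inv_mem hsG), ?_⟩⟩
      · rintro ⟨w, hw, rfl⟩
        simpa using mul_mem (mul_mem (inv_mem hsG) hw) hsG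
      · simp [mul_assoc]
    have h2 := Subgroup.mem_map_of_mem (MulAut.conj (hG.nO o)⁻¹).toMonoidHom (hder o hc)
    rw [Subgroup.map_commutator, hmap] at h2
    simpa [mul_assoc] using h2
  rw [eq_top_iff]
  intro g _
  have h := key g.2
  rw [← Subgroup.map_subtype_commutator] at h
  obtain ⟨g', hg', e⟩ := h
  obtain rfl : g' = g := Subtype.ext e
  exact hg'

include hG in
/-- Simplicity. -/
theorem simple (hn : 0 < O.n) (hconn : Conn O) (hp : commutator ↥G = ⊤) :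
    IsSimpleGroup ↥G ∧ ¬ IsMulCommutative ↥G := by
  obtain ⟨x, hx, hx1, _⟩ := hG.hV ⟨0, hn⟩
  haveI : Nontrivial ↥G := ⟨⟨⟨x, hx⟩, 1, fun h => hx1 (congrArg Subtype.val h)⟩⟩
  refine ⟨Cfsg.Agent.S0319.result hG.pair (hG.irreducible hconn) hG.solvable hp hG.core, fun h => ?_⟩
  have : commutator ↥G = ⊥ := by
    rw [commutator_def, Subgroup.commutator_eq_bot_iff_le_centralizer]
    intro x _
    rw [Subgroup.mem_centralizer_iff]
    exact fun y _ => h.is_comm.comm y x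
  exact bot_ne_top (this.symm.trans hp)

include hG in
/-- A torus element without fixed roots puts the orbit subgroup in the derived subgroup. -/
theorem derived_of_torus [Finite K] {o : Fin O.n} {f : Fin D.nroots → Kˣ} (hf : dg (D := D) f ∈ G)
    (hfd : dg (D := D) f ∈ D.diagonalSubgroup K) (hχ : T.IsChar f)
    (hne : ∀ r ∈ rootsOf T (O.J o), f r ≠ 1) : W.Ufix (O.wO o) ≤ ⁅G, G⁆ := by
  classical
  set h := dg (D := D) f with hdef
  have hnorm : ∀ c ∈ W.Ufix (O.wO o), h * c * h⁻¹ * c⁻¹ ∈ W.Ufix (O.wO o) := by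
    intro c hc
    obtain ⟨hcU, hcf⟩ := Subgroup.mem_inf.1 hc
    refine Subgroup.mem_inf.2 ⟨mul_mem ?_ (inv_mem hcU),
      mul_mem (mul_mem (mul_mem (hG.le hf) hcf) (inv_mem (hG.le hf))) (inv_mem hcf)⟩
    exact (Subgroup.mem_normalizer_iff.1 (diagonal_le_normalizer_Ugrp hT _ hfd) c).1 hcU
  let F : ↥(W.Ufix (O.wO o)) → ↥(W.Ufix (O.wO o)) := fun c => ⟨_, hnorm c c.2⟩
  have hinj : Function.Injective F := by
    intro c c' e
    have e' : h * (c : GL D.Idx K) * h⁻¹ * (c : GL D.Idx K)⁻¹ = h * c' * h⁻¹ * (c' : GL D.Idx K)⁻¹ :=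
      congrArg Subtype.val e
    have hz : h * ((c' : GL D.Idx K)⁻¹ * c) * h⁻¹ = (c' : GL D.Idx K)⁻¹ * c := by
      rw [mul_inv_eq_iff_eq_mul] at e'
      calc h * ((c' : GL D.Idx K)⁻¹ * c) * h⁻¹
          = (h * (c' : GL D.Idx K)⁻¹ * h⁻¹) * (h * c * h⁻¹) := by group
        _ = _ := by rw [e']; group
    obtain ⟨t, ht0, ht⟩ := coords_of_closed hT hG.hE (fun r hr => hr.1) (closed_negSet hT (O.wl o))
      (Subgroup.mem_inf.1 (mul_mem (inv_mem c'.2) c.2)).1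
    have hconj : ∀ L : List (Fin D.nroots), h * uprod hT L t * h⁻¹ =
        uprod hT L fun r => (f r : K) * t r := by
      intro L
      induction L with
      | nil => simp [uprod]
      | cons r L ih =>
        simp only [uprod, List.map_cons, List.prod_cons] at ih ⊢
        rw [← ih, hdef, ← dg_conj_u hT hχ]
        group
    rw [ht, hconj] at hz
    have ht' : ∀ r ∈ posFrom T 0, t r = 0 := by
      intro r hr
      by_cases hrS : r ∈ negSet T (O.wO o)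
      · have h3 := uprod_injective hT hz r (mem_posFrom.1 hr).1
        by_contra hne'
        rw [mul_left_eq_self₀, or_iff_left hne'] at h3
        exact hne r ((O.negSet_wO o).subset hrS) (Units.ext h3)
      · exact ht0 r hrS
    rw [uprod_congr hT (g := fun _ => (0 : K)) ht'] at ht
    have : (c' : GL D.Idx K)⁻¹ * c = 1 := by rw [ht]; simp [uprod, u_zero]
    exact Subtype.ext (inv_mul_eq_one.1 this).symm
  intro c hc
  obtain ⟨c₀, hc₀⟩ := (Finite.injective_iff_surjective.1 hinj) ⟨c, hc⟩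
  have e : h * (c₀ : GL D.Idx K) * h⁻¹ * (c₀ : GL D.Idx K)⁻¹ = c := congrArg Subtype.val hc₀
  rw [← e]
  exact Subgroup.commutator_mem_commutator hf (hG.hU o c₀.2)

end Twist.Gen

end Tab

end CfsgLib.Lie
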