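/-
Soundness of the checks on symmetries, orbits and the centralised part of the Weyl group.
-/
import Cfsg.Agent.Lib.LieTwistBN
import Cfsg.Agent.Lib.LieTwistTab

set_option autoImplicit false
set_option maxHeartbeats 400000

namespace CfsgLib.Lie

open Cfsg.Lie

namespace Tab

variable {D : ChevalleyDatum} {T : Tab D} (hT : T.Checked) {Z : TwData D}

theorem posB_iff (r : Fin D.nroots) : T.posB r = true ↔ T.Pos r := by
  rw [posB, Nat.ble_eq]; rfl

theorem iterF_eq_pow {α : Type} (e : Equiv.Perm α) : ∀ (k : ℕ) (x : α), iterF e k x = (e ^ k) x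
  | 0, x => rfl
  | k + 1, x => by rw [iterF, iterF_eq_pow e k x, pow_succ', Equiv.Perm.mul_apply]

include hT in
theorem pwf_eq : ∀ (L : List (Fin D.rank)) (r : Fin D.nroots), T.pwf L r = pw hT L r
  | [], r => rfl
  | i :: L, r => by
    show T.w i (T.pwf L r) = _
    rw [pwf_eq L r]; rfl

/-- The symmetry of checked tables. -/
def symOf (h : T.symB Z = true) : Sym T :=
  have h' := h
  { ρ := ⟨Z.rho, Z.rhoInv,
      fun r => by
        simp only [symB, Bool.and_eq_true, List.all_eq_true, decide_eq_true_eq, beq_iff_eq, List.mem_finRange,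
          forall_const] at h'
        exact (h'.1 r).1.1.1.1,
      fun r => by
        simp only [symB, Bool.and_eq_true, List.all_eq_true, decide_eq_true_eq, beq_iff_eq, List.mem_finRange,
          forall_const] at h'
        exact (h'.1 r).1.1.1.2⟩
    ρi := ⟨Z.rhoi, Z.rhoiInv,
      fun i => by
        simp only [symB, Bool.and_eq_true, List.all_eq_true, decide_eq_true_eq, beq_iff_eq, List.mem_finRange,
          forall_const] at h'
        exact (h'.2 i).1.1,
      fun i => by
        simp only [symB, Bool.and_eq_true, List.all_eq_true, decide_eq_true_eq, beq_iff_eq, List.mem_finRange,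
          forall_const] at h'
        exact (h'.2 i).1.2⟩
    ρ_p := fun i => by
      simp only [symB, Bool.and_eq_true, List.all_eq_true, decide_eq_true_eq, beq_iff_eq, List.mem_finRange,
        forall_const] at h'
      exact (h'.2 i).2
    ρ_ng := fun r => by
      simp only [symB, Bool.and_eq_true, List.all_eq_true, decide_eq_true_eq, beq_iff_eq, List.mem_finRange,
        forall_const] at h'
      exact (h'.1 r).1.1.2
    ρ_w := fun i r => by
      simp only [symB, Bool.and_eq_true, List.all_eq_true, decide_eq_true_eq, beq_iff_eq, List.mem_finRange,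
        forall_const] at h'
      exact (h'.1 r).2 i
    ρ_pos := fun r => by
      simp only [symB, Bool.and_eq_true, List.all_eq_true, decide_eq_true_eq, beq_iff_eq, List.mem_finRange,
        forall_const] at h'
      rw [← posB_iff, ← posB_iff]
      exact iff_of_eq (congrArg (· = true) (h'.1 r).1.2) }

theorem symOf_ρi (h : T.symB Z = true) (i : Fin D.rank) : (symOf h).ρi i = Z.rhoi i := rfl

theorem symOf_ρ (h : T.symB Z = true) (r : Fin D.nroots) : (symOf h).ρ r = Z.rho r := rfl

include hT in
theorem orbFacts (ho : T.orbB Z = true) : (∀ i, ∃ o, i ∈ Z.J o) ∧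
    ∀ o, ((((∃ i, i ∈ Z.J o) ∧ ∀ o' i, i ∈ Z.J o → i ∈ Z.J o' → o = o') ∧
      ∀ i ∈ Z.J o, (Z.rhoi i ∈ Z.J o ∧ ¬ T.Pos (pw hT (Z.wl o) (T.p i))) ∧
        ∀ j ∈ Z.J o, ∃ k, iterF Z.rhoi k i = j) ∧
      (∀ i ∈ Z.wl o, i ∈ Z.J o)) ∧
      ∀ r, Z.rho (pw hT (Z.wl o) r) = pw hT (Z.wl o) (Z.rho r) ∧ pw hT (Z.wl o) (pw hT (Z.wl o) r) = r := by
  simp only [orbB, Bool.and_eq_true, List.all_eq_true, List.any_eq_true, decide_eq_true_eq,
    List.mem_finRange, forall_const, Bool.or_eq_true, List.contains_iff_mem, Bool.not_eq_true',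
    List.isEmpty_eq_false_iff, true_and, ← Bool.not_eq_true, posB_iff, pwf_eq hT] at ho
  refine ⟨ho.1, fun o => ⟨⟨⟨⟨?_, fun o' i hi hi' => ?_⟩, fun i hi => ⟨((ho.2 o).1.1.2 i hi).1, fun j hj => ?_⟩⟩,
    (ho.2 o).1.2⟩, (ho.2 o).2⟩⟩
  · exact List.exists_mem_of_ne_nil _ (by simpa [List.isEmpty_iff] using (ho.2 o).1.1.1.1)
  · exact ((ho.2 o).1.1.1.2 o').resolve_right fun h => h i hi hi'
  · obtain ⟨k, _, hk⟩ := ((ho.2 o).1.1.2 i hi).2 j hj
    exact ⟨k, hk⟩

/-- The orbits of checked tables. -/
def orbsOf (h : T.symB Z = true) (ho : T.orbB Z = true) : Orbs hT (symOf h) where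
  n := Z.n
  J := Z.J
  wl := Z.wl
  cover := (orbFacts hT ho).1
  disj o o' i hi hi' := (((orbFacts hT ho).2 o).1.1.1).2 o' i hi hi'
  nonempty o := (((orbFacts hT ho).2 o).1.1.1).1
  closed o i hi := ((((orbFacts hT ho).2 o).1.1).2 i hi).1.1
  trans o i hi j hj := by
    obtain ⟨k, hk⟩ := ((((orbFacts hT ho).2 o).1.1).2 i hi).2 j hj
    exact ⟨k, (iterF_eq_pow (symOf h).ρi k i).symm.trans hk⟩
  wl_mem o := ((orbFacts hT ho).2 o).1.2
  wl_neg o i hi := ((((orbFacts hT ho).2 o).1.1).2 i hi).1.2
  wl_comm o := Equiv.ext fun r => (((orbFacts hT ho).2 o).2 r).1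
  wl_sq o := Equiv.ext fun r => (((orbFacts hT ho).2 o).2 r).2

variable {h : T.symB Z = true} {ho : T.orbB Z = true} {C : WCert D Z}

/-- The code of an element. -/
def codeOf (π : Equiv.Perm (Fin D.nroots)) : ℕ := encR ((List.finRange D.rank).map fun i => π (T.p i))

theorem encR_inj : ∀ {l l' : List (Fin D.nroots)}, D.nroots ≤ 256 → l.length = l'.length →
    encR l = encR l' → l = l'
  | [], [], _, _, _ => rfl
  | [], _ :: _, _, h, _ => by simp at h
  | _ :: _, [], _, h, _ => by simp at h
  | r :: l, r' :: l', hn, hlen, e => by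
    simp only [encR] at e
    have := r.isLt
    have := r'.isLt
    have h1 : r.val = r'.val := by omega
    have h2 : encR l = encR l' := by omega
    rw [Fin.ext h1, encR_inj hn (by simpa using hlen) h2]

theorem byteAt_succ (a x i : ℕ) (ha : a < 256) : byteAt (a + 256 * x) (i + 1) = byteAt x i := by
  show ((a + 256 * x) >>> (8 * (i + 1))) % 256 = (x >>> (8 * i)) % 256
  rw [Nat.shiftRight_eq_div_pow, Nat.shiftRight_eq_div_pow]
  rw [Nat.mul_succ, Nat.pow_add, Nat.mul_comm (2 ^ (8 * i)), ← Nat.div_div_eq_div_mul]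
  congr 2
  omega

theorem byteAt_encR : ∀ (l : List (Fin D.nroots)), D.nroots ≤ 256 → ∀ (i : ℕ) (hi : i < l.length),
    byteAt (encR l) i = (l[i]).val
  | [], _, i, hi => by simp at hi
  | r :: l, hn, 0, _ => by
    have := r.isLt
    simp only [encR, byteAt, List.getElem_cons_zero]
    show ((r.val + 256 * encR l) >>> (8 * 0)) % 256 = r.val
    rw [Nat.shiftRight_eq_div_pow]
    omega
  | r :: l, hn, i + 1, hi => by
    have := r.isLt
    rw [encR, byteAt_succ _ _ _ (by omega), byteAt_encR l hn i (by simpa using hi), List.getElem_cons_succ]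

theorem decR_code (h0 : 0 < D.nroots) (hn : D.nroots ≤ 256) (π : Equiv.Perm (Fin D.nroots)) :
    decR h0 (codeOf (T := T) π) = (List.finRange D.rank).map fun i => π (T.p i) := by
  refine List.map_congr_left fun i _ => Fin.ext ?_
  show (byteAt (codeOf (T := T) π) i.val) % D.nroots = _
  rw [codeOf, byteAt_encR _ hn i.val (by simp), List.getElem_map, List.getElem_finRange,
    Nat.mod_eq_of_lt (π (T.p _)).isLt]
  rfl

include hT in
theorem code_inj (hn : D.nroots ≤ 256) {π π' : Equiv.Perm (Fin D.nroots)}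
    (hπ : π ∈ WJ hT (List.finRange D.rank)) (hπ' : π' ∈ WJ hT (List.finRange D.rank))
    (e : codeOf (T := T) π = codeOf (T := T) π') : π = π' := by
  have h1 := encR_inj hn (by simp) e
  obtain ⟨L, _, rfl⟩ := (mem_WJ hT).1 hπ
  obtain ⟨L', _, rfl⟩ := (mem_WJ hT).1 hπ'
  ext r
  congr 1
  refine (key_strictMono hT).injective ?_
  rw [key_pw hT L r, key_pw hT L' r]
  refine Finset.sum_congr rfl fun m _ => ?_
  rw [List.map_inj_left.1 h1 m (List.mem_finRange m)]

include hT in
theorem lenC_code (π : Equiv.Perm (Fin D.nroots)) (hπ : π ∈ WJ hT (List.finRange D.rank)) :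
    T.lenC ((List.finRange D.rank).map fun i => π (T.p i)) = (inv' T π).card := by
  classical
  obtain ⟨L, _, rfl⟩ := (mem_WJ hT).1 hπ
  simp only [lenC, List.map_map]
  rw [← List.toFinset_card_of_nodup ((List.nodup_finRange _).filter _)]
  congr 1
  ext r
  simp only [List.mem_toFinset, List.mem_filter, List.mem_finRange, true_and, Bool.and_eq_true,
    decide_eq_true_eq, posB_iff, mem_inv', List.zip_map', List.map_map]
  refine and_congr_right fun hr => ?_
  rw [pos_iff_key hT (r := pw hT L r), key_pw hT L r, Fin.sum_univ_def]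
  constructor
  · intro h1 h2
    exact absurd h1 (not_lt.2 h2.le)
  · intro h1
    rcases lt_trichotomy (((List.finRange D.rank).map fun m => T.co r m * T.key (pw hT L (T.p m))).sum) 0 with
      h2 | h2 | h2
    · exact h2
    · exfalso
      rw [← Fin.sum_univ_def, ← key_pw hT L r] at h2
      have := ng_ne hT (pw hT L r) ((key_strictMono hT).injective (by rw [key_ng hT, h2]; rfl))
      exact this
    · exact absurd h2 h1

theorem code_wO_mul (o : Fin Z.n) (π : Equiv.Perm (Fin D.nroots)) :
    codeOf (T := T) ((orbsOf hT h ho).wO o * π) =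
      encR (((List.finRange D.rank).map fun i => π (T.p i)).map (T.pwf (Z.wl o))) := by
  rw [codeOf, List.map_map]
  congr 1
  exact List.map_congr_left fun i _ => (pwf_eq hT _ _).symm

/-- The enumeration is exact. -/
theorem cert_spec (h0 : 0 < D.nroots) (hn : D.nroots ≤ 256) (hC : T.certB Z C = true) :
    ∃ e : ℕ → Equiv.Perm (Fin D.nroots), (orbsOf hT h ho).WF = (Finset.range C.N).image e ∧
      Set.InjOn e (Finset.range C.N : Set ℕ) ∧ ∀ k < C.N, codeOf (T := T) (e k) = C.el k := by
  classical
  simp only [certB, Bool.and_eq_true, List.all_eq_true, List.any_eq_true, decide_eq_true_eq, List.mem_range,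
    Bool.or_eq_true, List.mem_finRange, forall_const, dif_pos h0, true_and, Nat.blt_eq] at hC
  obtain ⟨⟨hN, hid⟩, hall⟩ := hC
  set O := orbsOf hT h ho with hO
  have hreach : ∀ k, k < C.N → ∃ π ∈ O.WF, codeOf (T := T) π = C.el k := by
    intro k
    induction k using Nat.strong_induction_on with
    | _ k ih =>
      intro hk
      rcases (hall k hk).2 with h1 | ⟨o, ⟨_, hj⟩, h2⟩
      · exact ⟨1, O.one_mem_WF, by rw [h1, hid]; rfl⟩
      · obtain ⟨π, hπ, hc⟩ := ih _ hj (hj.trans hk)
        refine ⟨O.wO o * π, O.WF_mul (O.wO_mem o) hπ, ?_⟩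
        have h3 := ((hall _ (hj.trans hk)).1.2 o).2
        rw [h2, ← hc, decR_code h0 hn] at h3
        rw [code_wO_mul, h3]
  have hreach' : ∀ k : ℕ, ∃ π : Equiv.Perm (Fin D.nroots),
      k < C.N → π ∈ O.WF ∧ codeOf (T := T) π = C.el k := by
    intro k
    by_cases hk : k < C.N
    · obtain ⟨π, h1, h2⟩ := hreach k hk
      exact ⟨π, fun _ => ⟨h1, h2⟩⟩
    · exact ⟨1, fun h' => absurd h' hk⟩
  choose e he using hreach'
  have hinj : Set.InjOn e (Finset.range C.N : Set ℕ) := by
    intro a ha b hb e'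
    simp only [Finset.coe_range, Set.mem_Iio] at ha hb
    have hc : C.el a = C.el b := by rw [← (he a ha).2, ← (he b hb).2, e']
    have hmono : ∀ i j, i < j → j < C.N → C.el (C.srt i) < C.el (C.srt j) := by
      intro i j hij hj
      induction j with
      | zero => omega
      | succ j ihj =>
        have h1 : C.el (C.srt j) < C.el (C.srt (j + 1)) :=
          ((hall j (by omega)).1.1.2).resolve_left (by omega)
        rcases eq_or_lt_of_le (Nat.le_of_lt_succ hij) with rfl | h2
        · exact h1
        · exact (ihj h2 (by omega)).trans h1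
    obtain ⟨⟨hpa, hsa⟩, -⟩ := (hall a ha).1.1
    obtain ⟨⟨hpb, hsb⟩, -⟩ := (hall b hb).1.1
    rcases lt_trichotomy (C.pos a) (C.pos b) with h' | h' | h'
    · have := hmono _ _ h' hpb
      rw [hsa, hsb, hc] at this; omega
    · rw [← hsa, ← hsb, h']
    · have := hmono _ _ h' hpa
      rw [hsa, hsb, hc] at this; omega
  refine ⟨e, ?_, hinj, fun k hk => (he k hk).2⟩
  have hclosed : ∀ π ∈ O.WF, ∀ k < C.N, ∃ k' < C.N, π * e k = e k' := by
    intro π hπ
    refine O.WF_induction (P := fun π => ∀ k < C.N, ∃ k' < C.N, π * e k = e k')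
      (fun k hk => ⟨k, hk, one_mul _⟩) (fun π' o _ _ ih k hk => ?_) hπ
    obtain ⟨hm, hcode⟩ := (hall k hk).1.2 o
    set m := Nat.mod (Nat.shiftRight (C.nxt k) (Nat.mul 16 o.val)) 65536
    obtain ⟨k', hk', hk''⟩ := ih m hm
    have hem : e m = O.wO o * e k := by
      refine code_inj hT hn (O.mem_WF.1 (he m hm).1).1
        (O.mem_WF.1 (O.WF_mul (O.wO_mem o) (he k hk).1)).1 ?_
      rw [(he m hm).2, hcode, ← (he k hk).2, decR_code h0 hn]
      exact (code_wO_mul hT o (e k)).symm
    exact ⟨k', hk', by rw [mul_assoc, ← hem, hk'']⟩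
  ext π
  simp only [Finset.mem_image, Finset.mem_range]
  refine ⟨fun hπ => ?_, fun ⟨k, hk, hk'⟩ => hk' ▸ (he k hk).1⟩
  have he0 : e 0 = 1 := code_inj hT hn (O.mem_WF.1 (he 0 hN).1).1 (WJ_one hT _) (by rw [(he 0 hN).2, hid]; rfl)
  obtain ⟨k, hk, hk'⟩ := hclosed π hπ 0 hN
  exact ⟨k, hk, by rw [← hk', he0, mul_one]⟩

theorem card_WF (h0 : 0 < D.nroots) (hn : D.nroots ≤ 256) (hC : T.certB Z C = true) :
    (orbsOf hT h ho).WF.card = C.N := by
  obtain ⟨e, he, hinj, _⟩ := cert_spec hT (h := h) (ho := ho) h0 hn hC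
  rw [he, Finset.card_image_of_injOn hinj, Finset.card_range]

omit hT in
theorem sum_group : ∀ (P : List ℕ) (ls : List ℕ) (q : ℕ),
    (∀ l ∈ ls, l < P.length) → (∀ j < P.length, (ls.filter fun l => decide (l = j)).length = P.getD j 0) →
      (ls.map fun l => q ^ l).sum = evalL P q := by
  intro P
  induction P with
  | nil =>
    intro ls q h _
    cases ls with
    | nil => simp [evalL]
    | cons a l => simpa using h a (by simp)
  | cons a P ih =>
    intro ls q h hc
    have h1 := ih ((ls.filter fun l => !decide (l = 0)).map fun l => l - 1) q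
      (by
        intro l hl
        obtain ⟨l', hl', rfl⟩ := List.mem_map.1 hl
        obtain ⟨hl'', hne⟩ := List.mem_filter.1 hl'
        have h2 := h l' hl''
        rw [List.length_cons] at h2
        have h3 : l' ≠ 0 := by simpa using hne
        omega)
      (by
        intro j hj
        have h2 := hc (j + 1) (by rw [List.length_cons]; omega)
        rw [List.getD_cons_succ] at h2
        rw [← h2]
        clear h2 hc h ih
        induction ls with
        | nil => rfl
        | cons b ls ihl =>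
          rcases b with _ | b
          · simpa using ihl
          · by_cases hb : b = j
            · simp [hb, ihl]
            · simp [hb, ihl])
    have h0 := hc 0 (by simp)
    simp only [List.getD_cons_zero] at h0
    have hsplit : ∀ ls : List ℕ, (ls.map fun l => q ^ l).sum =
        (ls.filter fun l => decide (l = 0)).length +
          q * (((ls.filter fun l => !decide (l = 0)).map fun l => l - 1).map fun l => q ^ l).sum := by
      intro ls
      induction ls with
      | nil => simp
      | cons b ls ihl =>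
        rcases b with _ | b
        · simp [ihl]; ring
        · simp [ihl, pow_succ]; ring
    rw [hsplit, h1, h0, evalL]

/-- The sum over the centralised part of the Weyl group. -/
theorem sum_dist (h0 : 0 < D.nroots) (hn : D.nroots ≤ 256) (hC : T.certB Z C = true) {s : ℕ} {P : List ℕ}
    (hD : T.distB Z C s P = true) {g : Equiv.Perm (Fin D.nroots) → ℕ} {q : ℕ}
    (hg : ∀ π ∈ (orbsOf hT h ho).WF, ∀ j, (inv' T π).card = s * j → g π = q ^ j) :
    ∑ π ∈ (orbsOf hT h ho).WF, g π = evalL P q := by
  classical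
  simp only [distB, dif_pos h0, Bool.and_eq_true, List.all_eq_true, decide_eq_true_eq, List.mem_map,
    List.mem_range, forall_exists_index, and_imp, forall_apply_eq_imp_iff₂] at hD
  obtain ⟨hl, hcnt⟩ := hD
  obtain ⟨e, he, hinj, hcode⟩ := cert_spec hT (h := h) (ho := ho) h0 hn hC
  rw [he, Finset.sum_image hinj]
  have hlen : ∀ k < C.N, T.lenC (decR h0 (C.el k)) = (inv' T (e k)).card := by
    intro k hk
    rw [← hcode k hk, decR_code h0 hn, lenC_code hT]
    exact ((orbsOf hT h ho).mem_WF.1 (by rw [he]; exact Finset.mem_image_of_mem _ (Finset.mem_range.2 hk))).1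
  have h1 := sum_group P ((List.range C.N).map fun k => T.lenC (decR h0 (C.el k)) / s) q
    (by
      intro l hl'
      simp only [List.mem_map, List.mem_range] at hl'
      obtain ⟨k, hk, rfl⟩ := hl'
      exact (hl k hk).2)
    (fun j hj => by
      have h2 := hcnt j hj
      simp only [List.filter_map, List.length_map] at h2 ⊢
      exact h2)
  rw [← h1, List.map_map, ← List.sum_toFinset _ List.nodup_range, List.toFinset_range]
  refine Finset.sum_congr rfl fun k hk => ?_
  rw [Finset.mem_range] at hk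
  refine hg _ (by rw [he]; exact Finset.mem_image_of_mem _ (Finset.mem_range.2 hk)) _ ?_
  rw [← hlen k hk]
  exact (hl k hk).1

theorem conn_of_check (hc : T.connOB Z = true) (hT' : T.Checked) :
    ∀ A : Finset (Fin Z.n), A.Nonempty → Aᶜ.Nonempty →
      ∃ a ∈ A, ∃ b ∈ Aᶜ, pw hT' (Z.wl a) * pw hT' (Z.wl b) ≠ pw hT' (Z.wl b) * pw hT' (Z.wl a) := by
  classical
  intro A hA hA'
  set x : ℕ := ∑ a ∈ A.image Fin.val, 2 ^ a with hx
  have hbit : ∀ a : Fin Z.n, Nat.testBit x a.val = decide (a ∈ A) := by
    intro a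
    have h1 := Finset.toFinset_bitIndices_twoPowSum (A.image Fin.val)
    have h2 : a.val ∈ x.bitIndices.toFinset ↔ a.val ∈ A.image Fin.val := by rw [hx, h1]
    rw [List.mem_toFinset, Nat.mem_bitIndices] at h2
    rw [Bool.eq_iff_iff, decide_eq_true_iff, h2]
    simp [Fin.val_inj]
  have hlt : x < 2 ^ Z.n := by
    refine lt_of_le_of_lt (Finset.sum_le_sum_of_subset (t := Finset.range Z.n) ?_) ?_
    · intro a ha
      simp only [Finset.mem_image] at ha
      obtain ⟨a', _, rfl⟩ := ha
      exact Finset.mem_range.2 a'.isLt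
    · exact Nat.geomSum_lt le_rfl fun k hk => Finset.mem_range.1 hk
  have hne0 : x ≠ 0 := by
    intro h0
    obtain ⟨a, ha⟩ := hA
    have := hbit a
    simp [h0, ha] at this
  have hne1 : x ≠ 2 ^ Z.n - 1 := by
    intro h1
    obtain ⟨a, ha⟩ := hA'
    have := hbit a
    simp [h1, Nat.testBit_two_pow_sub_one, Finset.mem_compl.1 ha] at this
  simp only [connOB, List.all_eq_true, List.mem_range, Bool.or_eq_true, decide_eq_true_eq, List.any_eq_true,
    List.mem_finRange, true_and, Bool.and_eq_true, Bool.not_eq_true'] at hc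
  rcases hc x hlt with (h' | h') | ⟨a, b, ⟨ha, hb⟩, r, hr⟩
  · exact absurd h' hne0
  · exact absurd h' hne1
  · rw [hbit, decide_eq_true_iff] at ha
    rw [hbit, decide_eq_false_iff_not] at hb
    refine ⟨a, ha, b, Finset.mem_compl.2 hb, fun e => hr ?_⟩
    simp only [pwf_eq hT']
    exact congrArg (fun π : Equiv.Perm (Fin D.nroots) => π r) e

end Tab

end CfsgLib.Lie
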