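/-
The exceptional isogenies in characteristics two and three.
-/
import Cfsg.Agent.Lib.LieTwistCheck
import Cfsg.Agent.Lib.LieIsoTab

set_option autoImplicit false
set_option maxHeartbeats 400000

namespace CfsgLib.Lie

open Cfsg.Lie

namespace Tab

variable {D : ChevalleyDatum} {T : Tab D} {K : Type*} [Field K] (hT : T.Checked) (hE : ∀ r, T.extraB r = true)
  {Z : IsoData D}

theorem vec_eq_ent (L : List (D.Idx × ℤ)) (a : D.Idx) : vec L a = ent L a := by
  unfold vec ent
  induction L with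
  | nil => rfl
  | cons e L ih =>
    by_cases h : e.1 = a <;> simp [h, ih]

theorem A'_apply (k : ℕ) (r : Fin D.nroots) (a b : D.Idx) : T.A' K k r a b = ((ent (T.acol k r b) a : ℤ) : K) := by
  rw [← vec_eq_ent]; rfl

theorem X_apply (r : Fin D.nroots) (t : K) (a b : D.Idx) :
    T.X K r t a b = (ent (T.acol 0 r b) a : K) + t * (ent (T.acol 1 r b) a : K) + t ^ 2 * (ent (T.acol 2 r b) a : K) +
      t ^ 3 * (ent (T.acol 3 r b) a : K) := by
  simp [X, Finset.sum_range_succ, Matrix.add_apply, A'_apply]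

theorem ent_zero_ne {r : Fin D.nroots} {a b : D.Idx} (h : a ≠ b) : ent (T.acol 0 r b) a = 0 := by
  simp [acol_zero, ent, Ne.symm h]

theorem cast_mod [CharP K Z.p] {x : ℤ} (h : x % (Z.p : ℤ) = 0) : (x : K) = 0 :=
  (CharP.intCast_eq_zero_iff K Z.p x).2 (Int.dvd_of_emod_eq_zero h)

section split

variable (hs : T.idealB Z = true)

theorem split_facts (hs : T.idealB Z = true) :
    Function.Injective (Sum.elim Z.eI Z.eQ) ∧ Function.Surjective (Sum.elim Z.eI Z.eQ) ∧
      (∀ i : Fin D.rank, ∀ r ∈ [T.p i, T.ng (T.p i)], ∀ k ∈ [1, 2, 3], ∀ x y,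
        ent (T.acol k r (Z.eI y)) (Z.eQ x) % (Z.p : ℤ) = 0) := by
  simp only [idealB, Bool.and_eq_true, List.all_eq_true, decide_eq_true_eq, List.mem_finRange, forall_const] at hs
  obtain ⟨⟨hnd, hcard⟩, h3⟩ := hs
  rw [List.nodup_append] at hnd
  obtain ⟨h1, h2, h12⟩ := hnd
  have hinj : Function.Injective (Sum.elim Z.eI Z.eQ) := by
    rintro (x | x) (y | y) h <;> simp only [Sum.elim_inl, Sum.elim_inr] at h
    · exact congrArg Sum.inl (List.inj_on_of_nodup_map h1 (List.mem_finRange _) (List.mem_finRange _) h)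
    · exact absurd h (h12 _ (List.mem_map.2 ⟨x, List.mem_finRange _, rfl⟩) _ (List.mem_map.2 ⟨y, List.mem_finRange _, rfl⟩))
    · exact absurd h.symm (h12 _ (List.mem_map.2 ⟨y, List.mem_finRange _, rfl⟩) _ (List.mem_map.2 ⟨x, List.mem_finRange _, rfl⟩))
    · exact congrArg Sum.inr (List.inj_on_of_nodup_map h2 (List.mem_finRange _) (List.mem_finRange _) h)
  refine ⟨hinj, ?_, h3⟩
  refine ((Fintype.bijective_iff_injective_and_card _).2 ⟨hinj, ?_⟩).2
  simp [ChevalleyDatum.Idx, hcard]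

/-- The ideal of short roots is preserved. -/
def Pres (Z : IsoData D) (g : Matrix D.Idx D.Idx K) : Prop := ∀ x y, g (Z.eQ x) (Z.eI y) = 0

/-- The restriction to the ideal. -/
def resI (Z : IsoData D) (g : Matrix D.Idx D.Idx K) : Matrix (Fin Z.k) (Fin Z.k) K := g.submatrix Z.eI Z.eI

/-- The action on the quotient. -/
def resQ (Z : IsoData D) (g : Matrix D.Idx D.Idx K) : Matrix (Fin Z.k) (Fin Z.k) K := g.submatrix Z.eQ Z.eQ

include hs in
theorem sum_split (f : D.Idx → K) : ∑ c, f c = ∑ x, f (Z.eI x) + ∑ x, f (Z.eQ x) := by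
  obtain ⟨h1, h2, -⟩ := split_facts hs
  rw [← Fintype.sum_bijective _ ⟨h1, h2⟩ (fun s => f (Sum.elim Z.eI Z.eQ s)) f fun _ => rfl]
  exact Fintype.sum_sum_type _

include hs in
theorem Pres.mul {g h : Matrix D.Idx D.Idx K} (hg : Pres Z g) (hh : Pres Z h) :
    Pres Z (g * h) ∧ resI Z (g * h) = resI Z g * resI Z h ∧ resQ Z (g * h) = resQ Z g * resQ Z h := by
  refine ⟨fun x y => ?_, ?_, ?_⟩
  · rw [Matrix.mul_apply, sum_split hs]
    simp [hg x, fun z => hh z y]
  · ext x y
    simp only [resI, Matrix.submatrix_apply, Matrix.mul_apply]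
    rw [sum_split hs]
    simp [fun z => hh z y]
  · ext x y
    simp only [resQ, Matrix.submatrix_apply, Matrix.mul_apply]
    rw [sum_split hs]
    simp [hg x]

include hs in
theorem Pres.one : Pres Z (1 : Matrix D.Idx D.Idx K) ∧ resI Z (1 : Matrix D.Idx D.Idx K) = 1 ∧
    resQ Z (1 : Matrix D.Idx D.Idx K) = 1 := by
  obtain ⟨h1, -, -⟩ := split_facts hs
  refine ⟨fun x y => Matrix.one_apply_ne fun h => ?_, ?_, ?_⟩
  · exact Sum.inl_ne_inr (h1 (a₁ := Sum.inl y) (a₂ := Sum.inr x) h.symm)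
  · exact Matrix.submatrix_one _ (fun a b h => Sum.inl_injective (h1 h))
  · exact Matrix.submatrix_one _ (fun a b h => Sum.inr_injective (h1 h))

variable (K) in
/-- The elements preserving the ideal. -/
def presGroup (hs : T.idealB Z = true) : Subgroup (GL D.Idx K) where
  carrier := {g | Pres Z (g : Matrix D.Idx D.Idx K) ∧ Pres Z ((g⁻¹ : GL D.Idx K) : Matrix D.Idx D.Idx K)}
  one_mem' := by simpa using (Pres.one hs).1
  mul_mem' {a b} ha hb := ⟨by simpa using (ha.1.mul hs hb.1).1, by simpa using (hb.2.mul hs ha.2).1⟩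
  inv_mem' {a} ha := ⟨ha.2, by simpa using ha.1⟩

include hT hs in
theorem u_pres [CharP K Z.p] (i : Fin D.rank) {r : Fin D.nroots} (hr : r = T.p i ∨ r = T.ng (T.p i)) (t : K) :
    Pres Z (T.X K r t) := by
  intro x y
  obtain ⟨h1, -, h3⟩ := split_facts hs
  have hr' : r ∈ [T.p i, T.ng (T.p i)] := by simpa using hr
  have hz : ∀ k ∈ [1, 2, 3], (ent (T.acol k r (Z.eI y)) (Z.eQ x) : K) = 0 := fun k hk => cast_mod (h3 i r hr' k hk x y)
  have hne : Z.eQ x ≠ Z.eI y := fun h => Sum.inl_ne_inr (h1 (a₁ := Sum.inl y) (a₂ := Sum.inr x) h.symm)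
  rw [X_apply, hz 1 (by simp), hz 2 (by simp), hz 3 (by simp), ent_zero_ne hne]
  simp

include hT hs in
theorem group_le_pres [CharP K Z.p] : D.group K ≤ presGroup K hs := by
  have hgen : ∀ i (t : K), u hT (T.p i) t ∈ presGroup K hs ∧ u hT (T.ng (T.p i)) t ∈ presGroup K hs := by
    intro i t
    refine ⟨⟨u_pres hT hs i (Or.inl rfl) t, ?_⟩, ⟨u_pres hT hs i (Or.inr rfl) t, ?_⟩⟩
    · rw [← u_neg]; exact u_pres hT hs i (Or.inl rfl) _
    · rw [← u_neg]; exact u_pres hT hs i (Or.inr rfl) _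
  rw [group_eq hT]
  refine Ugrp_le hT fun r _ t => u_mem_of hT (fun i t => (hgen i t).1) (fun i => ?_) r t
  rw [sg_eq]
  exact mul_mem (mul_mem (hgen i _).1 (hgen i _).2) (hgen i _).1

end split

include hT in
theorem co_pw_add {a b r : Fin D.nroots} (h : ∀ m, T.co r m = T.co a m + T.co b m) :
    ∀ (L : List (Fin D.rank)) m, T.co (pw hT L r) m = T.co (pw hT L a) m + T.co (pw hT L b) m
  | [], m => h m
  | i :: L, m => by
    have ih := co_pw_add h L
    simp only [pw_cons, Equiv.Perm.mul_apply, wp_apply, co_w hT]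
    rw [A_co hT i (pw hT L r), A_co hT i (pw hT L a), A_co hT i (pw hT L b)]
    have hs : ∑ j, T.co (pw hT L r) j * T.A i (T.p j) =
        ∑ j, T.co (pw hT L a) j * T.A i (T.p j) + ∑ j, T.co (pw hT L b) j * T.A i (T.p j) := by
      rw [← Finset.sum_add_distrib]
      exact Finset.sum_congr rfl fun j _ => by rw [ih j, add_mul]
    rw [ih m, hs]
    split_ifs <;> ring

section inj

variable (hs : T.idealB Z = true) (hp : T.spanB Z = true)

include hT hE hs hp in
/-- The restriction to the ideal is faithful. -/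
theorem resI_inj [CharP K Z.p] {g : GL D.Idx K} (hg : g ∈ D.group K)
    (h : resI Z (g : Matrix D.Idx D.Idx K) = 1) : g = 1 := by
  classical
  simp only [spanB, Bool.and_eq_true, Bool.or_eq_true, List.all_eq_true, List.any_eq_true, decide_eq_true_eq,
    List.mem_finRange, true_and, forall_const, Bool.not_eq_true'] at hp
  let N : Subgroup ↥(D.group K) :=
    { carrier := {x | resI Z ((x : GL D.Idx K) : Matrix D.Idx D.Idx K) = 1}
      one_mem' := (Pres.one hs).2.1
      mul_mem' := fun {a b} ha hb => by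
        show resI Z ((a : GL D.Idx K) * (b : GL D.Idx K) : Matrix D.Idx D.Idx K) = 1
        rw [((group_le_pres hT hs a.2).1.mul hs (group_le_pres hT hs b.2).1).2.1, ha, hb, one_mul]
      inv_mem' := fun {a} ha => by
        have h1 := ((group_le_pres hT hs a.2).2.mul hs (group_le_pres hT hs a.2).1).2.1
        rw [← Units.val_mul, inv_mul_cancel, Units.val_one, (Pres.one hs).2.1, ha, mul_one] at h1
        exact h1.symm }
  haveI hN : N.Normal := ⟨fun n hn x => by
    have hm := (group_le_pres hT hs x.2).1.mul hs (group_le_pres hT hs n.2).1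
    show resI Z ((x : GL D.Idx K) * (n : GL D.Idx K) * ((x : GL D.Idx K)⁻¹ : GL D.Idx K) : Matrix D.Idx D.Idx K) = 1
    rw [(hm.1.mul hs (group_le_pres hT hs x.2).2).2.1, hm.2.1, hn, mul_one,
      ← ((group_le_pres hT hs x.2).1.mul hs (group_le_pres hT hs x.2).2).2.1, ← Units.val_mul, mul_inv_cancel,
      Units.val_one, (Pres.one hs).2.1]⟩
  have hle : N ≤ (D.borelSubgroup K).subgroupOf (D.group K) := by
    rintro ⟨x, hx⟩ hxN
    obtain ⟨b, hb, n, hn, L, hL, c, hc, rfl⟩ := canonical_exists hT hE hx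
    have hcp : c ∈ D.posUnipotent K := by
      rw [posUnipotent_eq hT]; exact Ugrp_mono hT (fun r hr => hr.1) hc
    have hcb : c ∈ D.borelSubgroup K := Subgroup.mem_sup_left hcp
    have hbg := borel_le_group hT hb
    have hng := monomial_le_group hT hn
    have hy : b⁻¹ * c⁻¹ ∈ D.borelSubgroup K := mul_mem (inv_mem hb) (inv_mem hcb)
    have hny : resI Z (n : Matrix D.Idx D.Idx K) = resI Z ((b⁻¹ * c⁻¹ : GL D.Idx K) : Matrix D.Idx D.Idx K) := by
      have hm : b⁻¹ * (b * n * c) * c⁻¹ = n := by group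
      conv_lhs => rw [← hm]
      have hpb := (group_le_pres hT hs (inv_mem hbg)).1
      have hpx := (group_le_pres hT hs hx).1
      have hpc := (group_le_pres hT hs (inv_mem (borel_le_group hT hcb))).1
      rw [Units.val_mul, Units.val_mul (b⁻¹) (b * n * c), ((hpb.mul hs hpx).1.mul hs hpc).2.1, (hpb.mul hs hpx).2.1,
        (show resI Z ((b * n * c : GL D.Idx K) : Matrix D.Idx D.Idx K) = 1 from hxN), mul_one, Units.val_mul,
        (hpb.mul hs hpc).2.1]
    obtain ⟨v, hv, d, hd, hvd⟩ := (mem_borel hT).1 hy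
    obtain ⟨f, hf, rfl⟩ := exists_of_mem_diagonal hT hd
    obtain ⟨L', h', hh', rfl⟩ := exists_word hT hn
    obtain ⟨f', hf', rfl⟩ := exists_of_mem_diagonal hT hh'
    have hfix : ∀ s, Z.short s = true → pw hT L' s = s := by
      intro s hsS
      obtain ⟨z, hz⟩ := (hp s).1.resolve_left (by simp [hsS])
      have e := congrFun (congrFun hny z) z
      simp only [resI, Matrix.submatrix_apply, hz] at e
      obtain ⟨cc, hcc⟩ := gw_col (F := K) hT L' s
      rw [hvd, Units.val_mul, Units.val_mul, coe_dg, coe_dg, Matrix.diagonal_mul, Matrix.mul_diagonal, hcc] at e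
      by_contra hne
      rw [if_neg (fun h => hne (Sum.inr_injective h).symm), mul_zero] at e
      have hv1 : (v : Matrix D.Idx D.Idx K) (Sum.inr s) (Sum.inr s) = 1 := by
        by_contra hne1
        have := upper_of_mem_posUnipotent hT hv (Sum.inr s) (Sum.inr s)
          (by simp [Matrix.sub_apply, sub_ne_zero, hne1])
        omega
      rw [hv1, one_mul] at e
      exact (f s).ne_zero (by simpa using e.symm)
    have hpw : pw hT L' = 1 := by
      ext r
      show ((pw hT L' r : Fin D.nroots) : ℕ) = (r : ℕ)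
      refine congrArg Fin.val ?_
      rcases (hp r).2 with hr | ⟨a, b, ⟨hsa, hsb⟩, hm⟩
      · exact hfix r hr
      · refine co_inj hT fun m => ?_
        rw [co_pw_add hT hm L' m, hfix a hsa, hfix b hsb, ← hm m]
    have hnd : dg f' * gw hT L' ∈ D.diagonalSubgroup K := mul_mem hh' (gw_mem_diagonal hT L' hpw)
    exact Subgroup.mem_subgroupOf.2 (mul_mem (mul_mem hb (Subgroup.mem_sup_right hnd)) hcb)
  have h1 : (⟨g, hg⟩ : ↥(D.group K)) ∈ ((D.borelSubgroup K).subgroupOf (D.group K)).normalCore :=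
    Subgroup.normal_le_normalCore.2 hle h
  rw [borel_core hT] at h1
  exact congrArg Subtype.val (Subgroup.mem_bot.1 h1)

end inj

section iso

variable [CharP K Z.p] (hs : T.idealB Z = true) (hp : T.spanB Z = true) (hgen : T.genB Z = true)

/-- The image is determined by the action on the ideal. -/
def Rel (Z : IsoData D) (g h : GL D.Idx K) : Prop :=
  h ∈ D.group K ∧ resI Z (h : Matrix D.Idx D.Idx K) = resQ Z (g : Matrix D.Idx D.Idx K)

include hT hE hs hp in
theorem Rel.unique {g h h' : GL D.Idx K} (h1 : Rel Z g h) (h2 : Rel Z g h') : h = h' := by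
  have hm := ((group_le_pres hT hs h1.1).1.mul hs (group_le_pres hT hs h2.1).2).2.1
  have hi := ((group_le_pres hT hs h2.1).1.mul hs (group_le_pres hT hs h2.1).2).2.1
  rw [← Units.val_mul, mul_inv_cancel, Units.val_one, (Pres.one hs).2.1] at hi
  have := resI_inj hT hE hs hp (mul_mem h1.1 (inv_mem h2.1))
    (by rw [Units.val_mul, hm, h1.2, ← h2.2, ← hi])
  exact mul_inv_eq_one.1 this

include hT hs in
theorem Rel.mul {g g' h h' : GL D.Idx K} (hg : g ∈ D.group K) (hg' : g' ∈ D.group K) (h1 : Rel Z g h)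
    (h2 : Rel Z g' h') : Rel Z (g * g') (h * h') :=
  ⟨mul_mem h1.1 h2.1, by
    rw [Units.val_mul, Units.val_mul, ((group_le_pres hT hs h1.1).1.mul hs (group_le_pres hT hs h2.1).1).2.1,
      ((group_le_pres hT hs hg).1.mul hs (group_le_pres hT hs hg').1).2.2, h1.2, h2.2]⟩

include hT hgen in
theorem Rel.gen (i : Fin D.rank) {r : Fin D.nroots} (hr : r = T.p i ∨ r = T.ng (T.p i)) (t : K) :
    Rel Z (u hT r t) (u hT (Z.rho r) (t ^ Z.ex i)) := by
  refine ⟨u_mem_group hT _ _, ?_⟩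
  ext x y
  simp only [genB, Bool.and_eq_true, Bool.or_eq_true, List.all_eq_true, decide_eq_true_eq, List.mem_finRange,
    forall_const] at hgen
  obtain ⟨⟨⟨_, hlo⟩, hhi⟩, hc⟩ := hgen i
  have hr' : r ∈ [T.p i, T.ng (T.p i)] := by simpa using hr
  have hk : ∀ k ∈ [0, 1, 2, 3],
      ((ent (T.acol k r (Z.eQ y)) (Z.eQ x) : ℤ) : K) = (T.coI k (Z.ex i) (Z.rho r) (Z.eI x) (Z.eI y) : K) ∧
      (4 ≤ Z.ex i * k → ((ent (T.acol k (Z.rho r) (Z.eI y)) (Z.eI x) : ℤ) : K) = 0) := by
    intro k hk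
    obtain ⟨e1, e2⟩ := hc r hr' x y k hk
    refine ⟨?_, fun h4 => cast_mod (e2.resolve_left (by omega))⟩
    rw [← sub_eq_zero, ← Int.cast_sub]
    exact cast_mod e1
  obtain ⟨a0, b0⟩ := hk 0 (by simp)
  obtain ⟨a1, b1⟩ := hk 1 (by simp)
  obtain ⟨a2, b2⟩ := hk 2 (by simp)
  obtain ⟨a3, b3⟩ := hk 3 (by simp)
  simp only [resI, resQ, Matrix.submatrix_apply, coe_u, X_apply, a0, a1, a2, a3]
  obtain he | he | he : Z.ex i = 1 ∨ Z.ex i = 2 ∨ Z.ex i = 3 := by omega
  · simp [he, coI]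
  · rw [b2 (by omega), b3 (by omega)]
    simp [he, coI]
  · rw [b2 (by omega), b3 (by omega)]
    simp [he, coI]

include hT hs hgen in
theorem exists_rel {g : GL D.Idx K} (hg : g ∈ D.group K) : ∃ h, Rel Z g h := by
  let S : Subgroup (GL D.Idx K) :=
    { carrier := {g | g ∈ D.group K ∧ ∃ h, Rel Z g h}
      one_mem' := ⟨one_mem _, 1, one_mem _, by rw [Units.val_one, (Pres.one hs).2.1, (Pres.one hs).2.2]⟩
      mul_mem' := fun {a b} ha hb => ⟨mul_mem ha.1 hb.1, _, ha.2.choose_spec.mul hT hs ha.1 hb.1 hb.2.choose_spec⟩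
      inv_mem' := fun {a} ha => ⟨inv_mem ha.1, (ha.2.choose)⁻¹, inv_mem ha.2.choose_spec.1, by
        obtain ⟨hm, he⟩ := ha.2.choose_spec
        have h1 := ((group_le_pres hT hs hm).2.mul hs (group_le_pres hT hs hm).1).2.1
        have h2 := ((group_le_pres hT hs ha.1).1.mul hs (group_le_pres hT hs ha.1).2).2.2
        rw [← Units.val_mul, inv_mul_cancel, Units.val_one, (Pres.one hs).2.1, he] at h1
        rw [← Units.val_mul, mul_inv_cancel, Units.val_one, (Pres.one hs).2.2] at h2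
        exact left_inv_eq_right_inv h1.symm h2.symm⟩ }
  have hS : D.group K ≤ S := by
    have hu : ∀ i (t : K), u hT (T.p i) t ∈ S ∧ u hT (T.ng (T.p i)) t ∈ S := fun i t =>
      ⟨⟨u_mem_group hT _ _, _, Rel.gen hT hgen i (Or.inl rfl) t⟩,
        ⟨u_mem_group hT _ _, _, Rel.gen hT hgen i (Or.inr rfl) t⟩⟩
    conv_lhs => rw [group_eq hT]
    refine Ugrp_le hT fun r _ t => u_mem_of hT (fun i t => (hu i t).1) (fun i => ?_) r t
    rw [sg_eq]
    exact mul_mem (mul_mem (hu i _).1 (hu i _).2) (hu i _).1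
  exact (hS hg).2

include hT hE hs hp hgen in
/-- The isogeny as a homomorphism. -/
theorem exists_isogeny : ∃ ψ : ↥(D.group K) →* ↥(D.group K), ∀ (i : Fin D.rank) (r : Fin D.nroots),
    (r = T.p i ∨ r = T.ng (T.p i)) → ∀ t : K,
      (ψ ⟨u hT r t, u_mem_group hT r t⟩ : GL D.Idx K) = u hT (Z.rho r) (t ^ Z.ex i) := by
  have h : ∀ g : ↥(D.group K), ∃ h, Rel Z (g : GL D.Idx K) h := fun g => exists_rel hT hs hgen g.2
  refine ⟨MonoidHom.mk' (fun g => ⟨(h g).choose, (h g).choose_spec.1⟩) fun a b => Subtype.ext ?_, fun i r hr t => ?_⟩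
  · exact (h (a * b)).choose_spec.unique hT hE hs hp ((h a).choose_spec.mul hT hs a.2 b.2 (h b).choose_spec)
  · exact (h ⟨u hT r t, u_mem_group hT r t⟩).choose_spec.unique hT hE hs hp (Rel.gen hT hgen i hr t)

end iso

end Tab

end CfsgLib.Lie
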