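/-
The exceptional isogeny of type G2 (generated).
-/
import Cfsg.Agent.Lib.LieDataG2
import Cfsg.Agent.Lib.LieIsoTab

set_option autoImplicit false
set_option maxRecDepth 100000
set_option maxHeartbeats 4000000

namespace CfsgLib.Lie

open Cfsg.Lie Tab

theorem posrk'_G2 : 0 < chevG2.rank := by decide +kernel

/-- A coordinate from its number. -/
def idxG2 (x : ℕ) : chevG2.Idx :=
  if x < chevG2.rank then Sum.inl ⟨Nat.mod x chevG2.rank, Nat.mod_lt _ posrk'_G2⟩
  else Sum.inr ⟨Nat.mod (Nat.sub x chevG2.rank) chevG2.nroots, Nat.mod_lt _ pos_G2⟩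

/-- Tables of the isogeny. -/
def isoG2 : IsoData chevG2 where
  p := 3
  k := 7
  eI x := idxG2 (byteAt 0xb0a0906050400 x.val)
  eQ x := idxG2 (byteAt 0xd0c0807030201 x.val)
  rho r := ⟨Nat.mod (byteAt 0x9080b0a0607040501000302 r.val) chevG2.nroots, Nat.mod_lt _ pos_G2⟩
  rhoi i := ⟨Nat.mod (byteAt 0x1 i.val) chevG2.rank, Nat.mod_lt _ posrk'_G2⟩
  ex i := byteAt 0x103 i.val
  short r := Nat.testBit 0x39c r.val

theorem isoG2_ideal : tabG2.idealB isoG2 = true := by decide +kernel

theorem isoG2_gen : tabG2.genB isoG2 = true := by decide +kernel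

theorem isoG2_span : tabG2.spanB isoG2 = true := by decide +kernel

end CfsgLib.Lie
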