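/-
Executable evaluation of words in root elements modulo an integer.
-/
import Cfsg.Agent.Lib.LieIsoTab

set_option autoImplicit false

namespace CfsgLib.Lie

open Cfsg.Lie

namespace Tab

variable {D : ChevalleyDatum} (T : Tab D)

/-- Dense form of a column, reduced. -/
def normC (p : ℕ) (L : List (D.Idx × ℤ)) : List (D.Idx × ℤ) :=
  (allIdx (D := D)).map fun a => (a, ent L a % (p : ℤ))

/-- Column of the product of the root elements of a word. -/
def wordModCol (p : ℕ) : List (Fin D.nroots × ℤ) → D.Idx → List (D.Idx × ℤ)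
  | [], j => [(j, 1)]
  | x :: w, j => normC p (app (T.xcol x.1 x.2) (wordModCol p w j))

/-- The product of the word is the diagonal matrix of `f`. -/
def wordModB (p : ℕ) (w : List (Fin D.nroots × ℤ)) (f : Fin D.nroots → ℤ) : Bool :=
  (allIdx (D := D)).all fun b => (allIdx (D := D)).all fun a =>
    decide ((ent (T.wordModCol p w b) a - (if a = b then Sum.elim (fun _ => 1) f a else 0)) % (p : ℤ) = 0)

/-- The exponent of the isogeny on a root. -/
def IsoData.exR (Z : IsoData D) (r : Fin D.nroots) : ℕ := bif Z.short r then Z.p else 1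

/-- The images of all root elements. -/
def rootImgB (Z : IsoData D) : Bool :=
  (List.finRange D.nroots).all fun r =>
    decide (1 ≤ Z.exR r) && decide (Z.exR r ≤ 3) &&
    (List.finRange Z.k).all fun x => (List.finRange Z.k).all fun y => [0, 1, 2, 3].all fun k =>
      decide ((ent (T.acol k r (Z.eQ y)) (Z.eQ x) - T.coI k (Z.exR r) (Z.rho r) (Z.eI x) (Z.eI y)) % (Z.p : ℤ) = 0) &&
        (decide (Z.exR r * k < 4) || decide (ent (T.acol k (Z.rho r) (Z.eI y)) (Z.eI x) % (Z.p : ℤ) = 0))

end Tab

end CfsgLib.Lie
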