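/-
Images of all root elements under the exceptional isogenies; words modulo an integer.
-/
import Cfsg.Agent.Lib.LieIso
import Cfsg.Agent.Lib.LieWordModTab

set_option autoImplicit false
set_option maxHeartbeats 400000

namespace CfsgLib.Lie

open Cfsg.Lie

namespace Tab

variable {D : ChevalleyDatum} {T : Tab D} {K : Type*} [Field K] (hT : T.Checked) (hE : ∀ r, T.extraB r = true)
  {Z : IsoData D}

include hT in
theorem Rel.root [CharP K Z.p] (hroot : T.rootImgB Z = true) (r : Fin D.nroots) (t : K) :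
    Rel Z (u hT r t) (u hT (Z.rho r) (t ^ Z.exR r)) := by
  refine ⟨u_mem_group hT _ _, ?_⟩
  ext x y
  simp only [rootImgB, Bool.and_eq_true, Bool.or_eq_true, List.all_eq_true, decide_eq_true_eq, List.mem_finRange,
    forall_const] at hroot
  obtain ⟨⟨hlo, hhi⟩, hc⟩ := hroot r
  have hk : ∀ k ∈ [0, 1, 2, 3],
      ((ent (T.acol k r (Z.eQ y)) (Z.eQ x) : ℤ) : K) = (T.coI k (Z.exR r) (Z.rho r) (Z.eI x) (Z.eI y) : K) ∧
      (4 ≤ Z.exR r * k → ((ent (T.acol k (Z.rho r) (Z.eI y)) (Z.eI x) : ℤ) : K) = 0) := by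
    intro k hk
    obtain ⟨e1, e2⟩ := hc x y k hk
    refine ⟨?_, fun h4 => cast_mod (e2.resolve_left (by omega))⟩
    rw [← sub_eq_zero, ← Int.cast_sub]
    exact cast_mod e1
  obtain ⟨a0, b0⟩ := hk 0 (by simp)
  obtain ⟨a1, b1⟩ := hk 1 (by simp)
  obtain ⟨a2, b2⟩ := hk 2 (by simp)
  obtain ⟨a3, b3⟩ := hk 3 (by simp)
  simp only [resI, resQ, Matrix.submatrix_apply, coe_u, X_apply, a0, a1, a2, a3]
  obtain he | he | he : Z.exR r = 1 ∨ Z.exR r = 2 ∨ Z.exR r = 3 := by omega
  · simp [he, coI]
  · rw [b2 (by omega), b3 (by omega)]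
    simp [he, coI]
  · rw [b2 (by omega), b3 (by omega)]
    simp [he, coI]

include hT hE in
/-- An endomorphism made of the isogeny and an automorphism of the field, with its values on root elements. -/
theorem exists_rootMap [CharP K Z.p] (hs : T.idealB Z = true) (hp : T.spanB Z = true) (hgen : T.genB Z = true)
    (hroot : T.rootImgB Z = true) (θ : K ≃+* K) :
    ∃ τ : GL D.Idx K → GL D.Idx K, (∀ g ∈ D.group K, τ g ∈ D.group K) ∧
      (∀ g ∈ D.group K, ∀ g' ∈ D.group K, τ (g * g') = τ g * τ g') ∧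
      ∀ r (t : K), τ (u hT r t) = u hT (Z.rho r) (θ t ^ Z.exR r) := by
  classical
  have h : ∀ g ∈ D.group K, ∃ h, Rel Z (fmap D (θ : K →+* K) g) h := fun g hg =>
    exists_rel hT hs hgen (fmap_group hT _ hg)
  let τ : GL D.Idx K → GL D.Idx K := fun g => if hg : g ∈ D.group K then (h g hg).choose else 1
  have hτ : ∀ g (hg : g ∈ D.group K), Rel Z (fmap D (θ : K →+* K) g) (τ g) := fun g hg => by
    simp only [τ, dif_pos hg]
    exact (h g hg).choose_spec
  refine ⟨τ, fun g hg => (hτ g hg).1, fun g hg g' hg' => ?_, fun r t => ?_⟩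
  · refine (hτ _ (mul_mem hg hg')).unique hT hE hs hp ?_
    rw [map_mul]
    exact (hτ g hg).mul hT hs (fmap_group hT _ hg) (fmap_group hT _ hg') (hτ g' hg')
  · refine (hτ _ (u_mem_group hT r t)).unique hT hE hs hp ?_
    rw [fmap_u hT]
    exact Rel.root hT hroot r _

theorem vec_mod {p : ℕ} [CharP K p] (L : List (D.Idx × ℤ)) (a : D.Idx) :
    ((vec (normC p L) a : ℤ) : K) = ((vec L a : ℤ) : K) := by
  classical
  have hv : vec (normC p L) a = ent L a % (p : ℤ) := by
    have : ∀ l : List D.Idx, l.Nodup → vec (l.map fun c => (c, ent L c % (p : ℤ))) a =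
        if a ∈ l then ent L a % (p : ℤ) else 0 := by
      intro l hl
      induction l with
      | nil => simp [vec]
      | cons c l ih =>
        obtain ⟨h1, h2⟩ := List.nodup_cons.1 hl
        simp only [List.map_cons, vec, List.sum_cons, List.mem_cons] at ih ⊢
        rw [ih h2]
        by_cases hc : c = a
        · subst hc; simp [h1]
        · simp [hc, Ne.symm hc]
    rw [normC, this _ ?_, if_pos]
    · cases a <;> simp [allIdx]
    · simp only [allIdx]
      refine List.nodup_append.2 ⟨(List.nodup_finRange _).map Sum.inl_injective,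
        (List.nodup_finRange _).map Sum.inr_injective, ?_⟩
      simp
  rw [hv, vec_eq_ent, ← sub_eq_zero, ← Int.cast_sub, CharP.intCast_eq_zero_iff K p]
  exact ⟨-(ent L a / (p : ℤ)), by rw [mul_neg, Int.emod_def]; ring⟩

include hT in
theorem wordMod_apply {p : ℕ} [CharP K p] : ∀ (w : List (Fin D.nroots × ℤ)) (a b : D.Idx),
    (((w.map fun x => u hT x.1 (x.2 : K)).prod : GL D.Idx K) : Matrix D.Idx D.Idx K) a b =
      ((vec (T.wordModCol p w b) a : ℤ) : K)
  | [], a, b => by
    by_cases h : a = b <;> simp [wordModCol, vec, h, Ne.symm]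
  | x :: w, a, b => by
    have e1 : T.X K x.1 (x.2 : K) = (Int.castRingHom K).mapMatrix (ofCols (T.xcol x.1 x.2)) := by
      rw [← X_int, X_map]
      rfl
    rw [List.map_cons, List.prod_cons, Units.val_mul, coe_u, Matrix.mul_apply, wordModCol, vec_mod, e1]
    simp only [wordMod_apply w _ b, vec_app, Int.cast_sum, Int.cast_mul, RingHom.mapMatrix_apply, Matrix.map_apply,
      ofCols_apply, eq_intCast, mul_comm]

include hT in
/-- A word is a diagonal element. -/
theorem wordMod_eq_dg {p : ℕ} [CharP K p] {w : List (Fin D.nroots × ℤ)} {f : Fin D.nroots → ℤ}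
    (h : T.wordModB p w f = true) {g : Fin D.nroots → Kˣ} (hg : ∀ r, (g r : K) = (f r : K)) :
    (w.map fun x => u hT x.1 (x.2 : K)).prod = dg (D := D) g := by
  simp only [wordModB, List.all_eq_true, decide_eq_true_eq] at h
  refine Units.ext (Matrix.ext fun a b => ?_)
  have hmem : ∀ c : D.Idx, c ∈ allIdx (D := D) := fun c => by cases c <;> simp [allIdx]
  have e := (CharP.intCast_eq_zero_iff K p _).2 (Int.dvd_of_emod_eq_zero (h b (hmem b) a (hmem a)))
  rw [Int.cast_sub, sub_eq_zero, ← vec_eq_ent] at e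
  rw [wordMod_apply hT (p := p), e, coe_dg, Matrix.diagonal_apply]
  by_cases hab : a = b
  · subst hab
    rw [if_pos rfl, if_pos rfl]
    cases a <;> simp [hg]
  · rw [if_neg hab, if_neg hab, Int.cast_zero]

end Tab

end CfsgLib.Lie
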