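/-
Conjugacy by trace in SL(2, q) and products of two elements with prescribed traces.
-/
import Cfsg.Agent.Lib.DicksonTorus
import Mathlib.FieldTheory.Finite.Basic

set_option autoImplicit false
set_option linter.unusedSectionVars false

namespace CfsgLib.Lie.SLTwoTrace

open Matrix CfsgLib.Dickson

variable {F : Type*} [Field F] [Fintype F]

/-- the trace -/
def tr (g : SL F) : F := g.1 0 0 + g.1 1 1

theorem odd_card (h2 : (2 : F) ≠ 0) : Fintype.card F % 2 = 1 :=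
  FiniteField.odd_card_of_char_ne_two fun e => h2 (by
    haveI : CharP F 2 := e ▸ ringChar.charP F
    exact_mod_cast CharP.cast_eq_zero F 2)

theorem exists_sqrt_of_two (h2 : (2 : F) = 0) (c : F) : ∃ s, s ^ 2 = c := by
  haveI : CharP F 2 := CharTwo.of_one_ne_zero_of_two_eq_zero one_ne_zero h2
  obtain ⟨s, rfl⟩ := FiniteField.isSquare_of_char_two (ringChar.eq F 2) c
  exact ⟨s, sq s⟩

/-- A quadratic `D b² + E b + G`, `D ≠ 0`, takes some value which is `k` times a square, for `k ≠ 0`. -/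
theorem exists_quadratic (h2 : (2 : F) ≠ 0) {k D : F} (hk : k ≠ 0) (hD : D ≠ 0) (E G : F) :
    ∃ b y : F, k * y ^ 2 = D * b ^ 2 + E * b + G := by
  open Polynomial in
  obtain ⟨y, b, h⟩ := FiniteField.exists_root_sum_quadratic (f := C k * X ^ 2 + C 0 * X + C 0)
    (g := C (-D) * X ^ 2 + C (-E) * X + C (-G)) (degree_quadratic hk) (degree_quadratic (neg_ne_zero.2 hD)) (odd_card h2)
  simp at h
  exact ⟨b, y, by linear_combination h⟩

/-- The norm form of a torus is surjective. -/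
theorem norm_surj (t : F) (h : (2 : F) = 0 ∨ t ^ 2 ≠ 4) (c : F) : ∃ a b : F, a ^ 2 + a * b * t + b ^ 2 = c := by
  by_cases h2 : (2 : F) = 0
  · obtain ⟨s, hs⟩ := exists_sqrt_of_two h2 c
    exact ⟨s, 0, by linear_combination hs⟩
  · obtain ⟨b, y, hy⟩ := exists_quadratic h2 (one_ne_zero (α := F))
      (sub_ne_zero.2 (h.resolve_left h2) : t ^ 2 - 4 ≠ 0) 0 (4 * c)
    refine ⟨(y - b * t) / 2, b, ?_⟩
    field_simp
    linear_combination hy

/-- companion matrix -/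
def comp (t : F) : SL F := ⟨!![0, -1; 1, t], by simp [Matrix.det_fin_two]⟩

theorem tr_comp (t : F) : tr (comp t) = t := by simp [tr, comp]

theorem tr_conj (P C : SL F) : tr (P * C * P⁻¹) = tr C := by
  have e : Matrix.trace (P * C * P⁻¹).1 = Matrix.trace C.1 := by
    rw [Matrix.SpecialLinearGroup.coe_mul, Matrix.trace_mul_comm, ← Matrix.SpecialLinearGroup.coe_mul, ← mul_assoc,
      inv_mul_cancel, one_mul]
  simpa [Matrix.trace, Fin.sum_univ_two, tr] using e

theorem tr_neg (g : SL F) : tr (-g) = -tr g := by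
  simp [tr]; ring

theorem tr_isConj {a b : SL F} (h : IsConj a b) : tr a = tr b := by
  obtain ⟨x, rfl⟩ := isConj_iff.1 h
  exact (tr_conj x a).symm

/-- A non-scalar element is similar to the companion matrix. -/
theorem exists_similar {C : SL F} (hC : ¬ IsScal C) :
    ∃ P : Matrix (Fin 2) (Fin 2) F, P.det ≠ 0 ∧ C.1 * P = P * (comp (tr C)).1 := by
  obtain ⟨v0, v1, hv⟩ : ∃ v0 v1 : F, v0 * (C.1 1 0 * v0 + C.1 1 1 * v1) - (C.1 0 0 * v0 + C.1 0 1 * v1) * v1 ≠ 0 := by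
    by_contra hall
    push Not at hall
    refine hC ⟨?_, ?_, ?_⟩
    · linear_combination -(hall 0 1)
    · linear_combination hall 1 0
    · linear_combination hall 0 1 + hall 1 0 - hall 1 1
  refine ⟨!![v0, C.1 0 0 * v0 + C.1 0 1 * v1; v1, C.1 1 0 * v0 + C.1 1 1 * v1], by
    rw [Matrix.det_fin_two]; simpa using hv, ?_⟩
  have hc := det_eq C
  show C.1 * _ = _ * !![0, -1; 1, tr C]
  ext i j
  fin_cases i <;> fin_cases j <;> simp [Matrix.mul_apply, Fin.sum_univ_two, tr]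
  · linear_combination -v0 * hc
  · linear_combination -v1 * hc

theorem exists_conj_comp {C : SL F} (hC : ¬ IsScal C) (h : (2 : F) = 0 ∨ tr C ^ 2 ≠ 4) :
    ∃ P : SL F, P * comp (tr C) * P⁻¹ = C := by
  obtain ⟨P0, hd, hCP⟩ := exists_similar hC
  obtain ⟨a, b, hab⟩ := norm_surj (tr C) h P0.det⁻¹
  have hdet : (P0 * spanMat (comp (tr C)) a b).det = 1 := by
    rw [Matrix.det_mul, det_spanMat, show (comp (tr C)).1 0 0 + (comp (tr C)).1 1 1 = tr C from tr_comp _, hab,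
      mul_inv_cancel₀ hd]
  refine ⟨⟨_, hdet⟩, ?_⟩
  apply mul_inv_eq_iff_eq_mul.2
  apply Subtype.ext
  show P0 * spanMat (comp (tr C)) a b * (comp (tr C)).1 = C.1 * (P0 * spanMat (comp (tr C)) a b)
  rw [← mul_assoc C.1, hCP, mul_assoc, mul_assoc]
  congr 1
  simp [spanMat, add_mul, mul_add]

/-- Non-scalar elements with the same trace are conjugate. -/
theorem isConj_of_tr {C D : SL F} (hC : ¬ IsScal C) (hD : ¬ IsScal D) (e : tr C = tr D)
    (h : (2 : F) = 0 ∨ tr C ^ 2 ≠ 4) : IsConj C D := by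
  obtain ⟨P, hP⟩ := exists_conj_comp hC h
  obtain ⟨Q, hQ⟩ := exists_conj_comp hD (e ▸ h)
  rw [← e] at hQ
  exact ((isConj_iff.2 ⟨P, hP⟩).symm).trans (isConj_iff.2 ⟨Q, hQ⟩)

theorem not_isScal_of_tr {A : SL F} {t : F} (ht : tr A = t) (h : t ^ 2 ≠ 4) : ¬ IsScal A := fun hs => by
  obtain ⟨a, b, c⟩ := hs
  have := det_eq A
  rw [tr] at ht
  rw [a, b, ← c] at this
  exact h (by rw [← ht, ← c]; linear_combination 4 * this)

/-- The conic of the pairs of traces `r`, `s` with product of trace `τ`. -/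
theorem exists_factor {τ r s : F} (h : ∃ a b : F, a ^ 2 + b ^ 2 - τ * a * b - r * a + s * b + 1 = 0) :
    ∃ X Y : SL F, tr X = r ∧ tr Y = s ∧ X * Y = comp τ := by
  obtain ⟨a, b, hab⟩ := h
  refine ⟨⟨!![a, b; s + b - a * τ, r - a], ?_⟩, ⟨!![-b, -(r - a) - b * τ; a, (s + b - a * τ) + a * τ], ?_⟩, ?_, ?_, ?_⟩
  · rw [Matrix.det_fin_two]; simp; linear_combination -hab
  · rw [Matrix.det_fin_two]; simp; linear_combination -hab
  · simp [tr]
  · simp [tr]
  · apply Subtype.ext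
    show !![a, b; s + b - a * τ, r - a] * !![-b, -(r - a) - b * τ; a, (s + b - a * τ) + a * τ] = !![0, -1; 1, τ]
    ext i j
    fin_cases i <;> fin_cases j <;> simp [Matrix.mul_apply, Fin.sum_univ_two]
    · ring
    · linear_combination hab
    · linear_combination -hab
    · linear_combination -τ * hab

/-- Every non-scalar element of trace `τ` is a product of elements of traces `r` and `s` if the conic has a point. -/
theorem exists_factor' {C : SL F} (hC : ¬ IsScal C) {r s : F}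
    (h : ∃ a b : F, a ^ 2 + b ^ 2 - tr C * a * b - r * a + s * b + 1 = 0) :
    ∃ X Y : SL F, tr X = r ∧ tr Y = s ∧ X * Y = C := by
  obtain ⟨X, Y, hX, hY, hXY⟩ := exists_factor h
  obtain ⟨P, hd, hCP⟩ := exists_similar hC
  have hu : IsUnit P.det := isUnit_iff_ne_zero.2 hd
  have key : ∀ Z : SL F, ∃ Z' : SL F, Z'.1 = P * Z.1 * P⁻¹ ∧ tr Z' = tr Z := fun Z => by
    refine ⟨⟨P * Z.1 * P⁻¹, by rw [Matrix.det_conj ((Matrix.isUnit_iff_isUnit_det P).2 hu)]; exact Z.2⟩, rfl, ?_⟩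
    have e : Matrix.trace (P * Z.1 * P⁻¹) = Matrix.trace Z.1 := by
      rw [Matrix.trace_mul_comm, ← mul_assoc, Matrix.nonsing_inv_mul _ hu, one_mul]
    simpa [tr, Matrix.trace, Fin.sum_univ_two] using e
  obtain ⟨X', hX', htX⟩ := key X
  obtain ⟨Y', hY', htY⟩ := key Y
  refine ⟨X', Y', htX.trans hX, htY.trans hY, Subtype.ext ?_⟩
  show X'.1 * Y'.1 = C.1
  rw [hX', hY', show P * X.1 * P⁻¹ * (P * Y.1 * P⁻¹) = P * (X.1 * (P⁻¹ * P) * Y.1) * P⁻¹ by simp only [mul_assoc],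
    Matrix.nonsing_inv_mul _ hu, mul_one, show X.1 * Y.1 = (comp (tr C)).1 from congrArg Subtype.val hXY, ← hCP,
    mul_assoc, Matrix.mul_nonsing_inv _ hu, mul_one]

/-- Odd characteristic, `τ ≠ ±2`. -/
theorem conic_odd (h2 : (2 : F) ≠ 0) {τ : F} (hτ : τ ^ 2 ≠ 4) (r s : F) :
    ∃ a b : F, a ^ 2 + b ^ 2 - τ * a * b - r * a + s * b + 1 = 0 := by
  obtain ⟨b, y, hy⟩ := exists_quadratic h2 (one_ne_zero (α := F)) (sub_ne_zero.2 hτ : τ ^ 2 - 4 ≠ 0)
    (2 * τ * r - 4 * s) (r ^ 2 - 4)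
  refine ⟨(τ * b + r + y) / 2, b, ?_⟩
  field_simp
  linear_combination hy

/-- Odd characteristic, `τ = -2`. -/
theorem conic_neg_two {r s : F} (h : r + s ≠ 0) :
    ∃ a b : F, a ^ 2 + b ^ 2 - (-2) * a * b - r * a + s * b + 1 = 0 := by
  refine ⟨(r + s)⁻¹, -(r + s)⁻¹, ?_⟩
  field_simp
  ring

/-- Characteristic two, `τ ≠ 0`. -/
theorem conic_two (h2 : (2 : F) = 0) {τ : F} (hτ : τ ≠ 0) (r s : F) :
    ∃ a b : F, a ^ 2 + b ^ 2 - τ * a * b - r * a + s * b + 1 = 0 := by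
  obtain ⟨a, ha⟩ := exists_sqrt_of_two h2 (-((r / τ) ^ 2 + s * (r / τ) + 1))
  refine ⟨a, r / τ, ?_⟩
  have e : τ * (r / τ) = r := mul_div_cancel₀ r hτ
  linear_combination ha - a * e - a * r * h2

/-- Characteristic two, `τ = 0`, both traces `t`, with a fixed line. -/
theorem conic_two_zero {t u : F} (hu : u ^ 2 + u * t + 1 = 0) (h2 : (2 : F) = 0) :
    ∃ a b : F, a ^ 2 + b ^ 2 - 0 * a * b - t * a + t * b + 1 = 0 :=
  ⟨u, 0, by linear_combination hu - u * t * h2⟩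

end CfsgLib.Lie.SLTwoTrace
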