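/-
Products of two conjugacy classes and element orders in PSL(2, q).
-/
import Cfsg.Agent.Lib.LieSLTwoTrace
import Cfsg.Agent.Lib.ClassicalSLTwoClasses

set_option autoImplicit false
set_option linter.unusedSectionVars false

namespace CfsgLib.Lie.SLTwoCover

open Matrix CfsgLib.Dickson CfsgLib.Lie.SLTwoTrace

attribute [local instance] _root_.Classical.propDecidable

variable {F : Type*} [Field F] [Fintype F]

theorem prod_of_isConj {X0 X Y G : SL F} (hX : IsConj X0 X) (hY : IsConj X0 Y) (h : X * Y = G) :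
    ∃ u v : PSL F, mkP G = (u * mkP X0 * u⁻¹) * (v * mkP X0 * v⁻¹) := by
  obtain ⟨u, rfl⟩ := isConj_iff.1 hX
  obtain ⟨v, rfl⟩ := isConj_iff.1 hY
  exact ⟨mkP u, mkP v, by simp [← h]⟩

theorem trace_sq_ne_four {p : ℕ} [Fact p.Prime] [CharP F p] (hp : p ≠ 2) {X : SL F} (hX : ¬ IsScal X)
    (hxp : ¬ p ∣ orderOf (mkP X)) : tr X ^ 2 ≠ 4 := by
  intro e
  have h2 := two_ne_zero_of_char (F := F) hp
  have hpow : mkP X ^ p = 1 := by
    rcases mul_eq_zero.1 (show (tr X - 2) * (tr X + 2) = 0 by linear_combination e) with h | h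
    · rw [← map_pow, pow_eq_one_of_trace (show X.1 0 0 + X.1 1 1 = 2 from sub_eq_zero.1 h), map_one]
    · rw [← mkP_neg X, ← map_pow, pow_eq_one_of_trace (show (-X).1 0 0 + (-X).1 1 1 = 2 by
        show tr (-X) = 2
        rw [tr_neg]; linear_combination -h), map_one]
  rcases (Nat.dvd_prime (Fact.out : p.Prime)).1 (orderOf_dvd_of_pow_eq_one hpow) with h | h
  · exact hX (mkP_eq_one.1 (orderOf_eq_one_iff.1 h))
  · exact hxp h.symm.dvd

theorem tr_ne_zero {X : SL F} (hx : 2 < orderOf (mkP X)) : tr X ≠ 0 := by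
  intro e
  have h : mkP X ^ 2 = 1 := by
    rw [← map_pow, pow_two, CfsgLib.SLTwoClasses.mul_self_eq_neg_one e]
    exact mkP_eq_one.2 neg_one_isScal
  have := orderOf_le_of_pow_eq_one two_pos h
  omega

theorem cover_odd {p : ℕ} [Fact p.Prime] [CharP F p] (hp : p ≠ 2) (x : PSL F) (hx2 : 2 < orderOf x)
    (hxp : ¬ p ∣ orderOf x) (g : PSL F) (hg : g ≠ 1) : ∃ u v : PSL F, g = (u * x * u⁻¹) * (v * x * v⁻¹) := by
  obtain ⟨X0, rfl⟩ := mkP_surjective x
  obtain ⟨G, rfl⟩ := mkP_surjective g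
  have h2 := two_ne_zero_of_char (F := F) hp
  have hX0 : ¬ IsScal X0 := fun h => by rw [mkP_eq_one.2 h, orderOf_one] at hx2; omega
  set t := tr X0 with ht
  have ht4 : t ^ 2 ≠ 4 := trace_sq_ne_four hp hX0 hxp
  have ht0 : t ≠ 0 := tr_ne_zero hx2
  have hG : ¬ IsScal G := fun h => hg (mkP_eq_one.2 h)
  obtain ⟨G', hG', hcon⟩ : ∃ G' : SL F, (G' = G ∨ G' = -G) ∧
      ∃ a b : F, a ^ 2 + b ^ 2 - tr G' * a * b - t * a + t * b + 1 = 0 := by
    have hneg : t + t ≠ 0 := fun e => ht0 ((mul_eq_zero.1 (show (2 : F) * t = 0 by linear_combination e)).resolve_left h2)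
    by_cases hτ : tr G ^ 2 = 4
    · rcases mul_eq_zero.1 (show (tr G - 2) * (tr G + 2) = 0 by linear_combination hτ) with h | h
      · refine ⟨-G, Or.inr rfl, ?_⟩
        rw [tr_neg, show tr G = 2 from sub_eq_zero.1 h]
        exact conic_neg_two hneg
      · refine ⟨G, Or.inl rfl, ?_⟩
        rw [show tr G = -2 from eq_neg_of_add_eq_zero_left h]
        exact conic_neg_two hneg
    · exact ⟨G, Or.inl rfl, conic_odd h2 hτ t t⟩
  have hG'n : ¬ IsScal G' := by
    rcases hG' with rfl | rfl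
    · exact hG
    · exact fun h => hG (isScal_neg_iff.1 h)
  obtain ⟨X, Y, hX, hY, hXY⟩ := exists_factor' hG'n hcon
  have eG : mkP G = mkP G' := by
    rcases hG' with rfl | rfl
    · rfl
    · exact (mkP_neg G).symm
  rw [eG]
  exact prod_of_isConj (isConj_of_tr hX0 (not_isScal_of_tr hX ht4) hX.symm (Or.inr ht4))
    (isConj_of_tr hX0 (not_isScal_of_tr hY ht4) hY.symm (Or.inr ht4)) hXY

theorem cover_even [CharP F 2] (h4 : 4 ≤ Fintype.card F) (x : PSL F) (hx2 : 2 < orderOf x)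
    (hxq : ¬ orderOf x ∣ Fintype.card F + 1) (g : PSL F) (hg : g ≠ 1) :
    ∃ u v : PSL F, g = (u * x * u⁻¹) * (v * x * v⁻¹) := by
  obtain ⟨X0, rfl⟩ := mkP_surjective x
  obtain ⟨G, rfl⟩ := mkP_surjective g
  have h2 : (2 : F) = 0 := CharTwo.two_eq_zero
  have hX0 : ¬ IsScal X0 := fun h => by rw [mkP_eq_one.2 h, orderOf_one] at hx2; omega
  set t := tr X0 with ht
  have ht0 : t ≠ 0 := tr_ne_zero hx2
  have ht4 : t ^ 2 ≠ 4 := fun e => ht0 ((pow_eq_zero_iff two_ne_zero).1 (by linear_combination e + 2 * h2))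
  have hG : ¬ IsScal G := fun h => hg (mkP_eq_one.2 h)
  have hcon : ∃ a b : F, a ^ 2 + b ^ 2 - tr G * a * b - t * a + t * b + 1 = 0 := by
    by_cases hτ : tr G = 0
    · rw [hτ]
      obtain ⟨u, hu⟩ : ∃ u : F, u ^ 2 + u * t + 1 = 0 := by
        by_contra hall
        push Not at hall
        apply hxq
        haveI : Fact (Nat.Prime 2) := ⟨Nat.prime_two⟩
        have hord : ¬ 2 ∣ orderOf X0 := by
          intro hd
          obtain ⟨n, -, hn⟩ := FiniteField.card F 2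
          have heven : 2 ∣ Fintype.card F := hn ▸ dvd_pow_self 2 n.ne_zero
          rcases pow_cases rfl (p := 2) X0.1 (by rw [X0.2]; exact one_ne_zero) with h | h | ⟨h, -⟩
          · have := hd.trans (orderOf_dvd_of_pow_eq_one (n := Fintype.card F - 1)
              (Subtype.ext ((Matrix.SpecialLinearGroup.coe_pow X0 _).trans h)))
            omega
          · have := hd.trans (orderOf_dvd_of_pow_eq_one (n := Fintype.card F + 1)
              (Subtype.ext ((Matrix.SpecialLinearGroup.coe_pow X0 _).trans (by rw [h, X0.2, one_smul]; rfl))))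
            omega
          · exact ht4 (by rw [ht, tr, h, X0.2, mul_one])
        have hc := (torus_data rfl h4 hX0 hord).2.2.1 hall
        refine (orderOf_map_dvd (mkP : SL F →* PSL F) X0).trans (hc ▸ ?_)
        exact Subgroup.orderOf_dvd_natCard _ (Subgroup.mem_centralizer_singleton_iff.2 rfl)
      exact conic_two_zero hu h2
    · exact conic_two h2 hτ t t
  obtain ⟨X, Y, hX, hY, hXY⟩ := exists_factor' hG hcon
  exact prod_of_isConj (isConj_of_tr hX0 (not_isScal_of_tr hX ht4) hX.symm (Or.inl h2))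
    (isConj_of_tr hX0 (not_isScal_of_tr hY ht4) hY.symm (Or.inl h2)) hXY

/-- A non-scalar element has a conjugate with non-zero lower left entry. -/
theorem exists_low (h3 : 3 ≤ Fintype.card F) {B : SL F} (hB : ¬ IsScal B) :
    ∃ B' : SL F, IsConj B B' ∧ B'.1 1 0 ≠ 0 := by
  by_cases h10 : B.1 1 0 = 0
  swap
  · exact ⟨B, IsConj.refl B, h10⟩
  obtain ⟨j, hj0, hj1⟩ : ∃ j : F, j ≠ 0 ∧ j ≠ 1 := by
    by_contra hall
    push Not at hall
    have : Fintype.card F ≤ ({0, 1} : Finset F).card := Finset.card_le_card (s := Finset.univ) fun x _ => by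
      by_cases hx : x = 0
      · simp [hx]
      · simp [hall x hx]
    have := (Finset.card_le_two (a := (0 : F)) (b := 1))
    omega
  have key : ∀ k : F, (lowerU k * B * (lowerU k)⁻¹).1 1 0 = k * (B.1 0 0 - B.1 1 1 - k * B.1 0 1) := fun k => by
    simp [Matrix.mul_apply, Matrix.vecMul, dotProduct, Fin.sum_univ_two, Matrix.adjugate_fin_two, coe_lowerU, h10]
    ring
  by_contra hall
  push Not at hall
  have e1 := hall _ (isConj_iff.2 ⟨lowerU 1, rfl⟩)
  have e2 := hall _ (isConj_iff.2 ⟨lowerU j, rfl⟩)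
  rw [key] at e1 e2
  have e2' := (mul_eq_zero.1 e2).resolve_left hj0
  have h01 : B.1 0 1 = 0 :=
    (mul_eq_zero.1 (show (j - 1) * B.1 0 1 = 0 by linear_combination e1 - e2')).resolve_left (sub_ne_zero.2 hj1)
  exact hB ⟨h01, h10, by linear_combination e1 + h01⟩

/-! ### Products of two classes -/

/-- products of a conjugate of `A` and a conjugate of `B` -/
def Prods (A B : SL F) : Set (SL F) := {G | ∃ X Y, IsConj A X ∧ IsConj B Y ∧ X * Y = G}

theorem prods_swap {A B G : SL F} (h : G ∈ Prods A B) : ∃ G' ∈ Prods B A, tr G' = tr G := by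
  obtain ⟨X, Y, hX, hY, rfl⟩ := h
  exact ⟨Y * X, ⟨Y, X, hY, hX, rfl⟩, by rw [show Y * X = Y * (X * Y) * Y⁻¹ by group, tr_conj]⟩

theorem prods_of_conic {A B : SL F} (hA : ¬ IsScal A) (hB : ¬ IsScal B) (hr : (2 : F) = 0 ∨ tr A ^ 2 ≠ 4)
    (hs : (2 : F) = 0 ∨ tr B ^ 2 ≠ 4) {τ : F}
    (hns : ∀ X : SL F, tr X = tr A → ¬ IsScal X) (hns' : ∀ X : SL F, tr X = tr B → ¬ IsScal X)
    (h : ∃ a b : F, a ^ 2 + b ^ 2 - τ * a * b - tr A * a + tr B * b + 1 = 0) : ∃ G ∈ Prods A B, tr G = τ := by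
  obtain ⟨X, Y, hX, hY, hXY⟩ := exists_factor h
  exact ⟨_, ⟨X, Y, isConj_of_tr hA (hns X hX) hX.symm hr, isConj_of_tr hB (hns' Y hY) hY.symm hs, hXY⟩, tr_comp τ⟩

theorem exists_good_square {e : F} (h5 : 5 ≤ Fintype.card F) (he : e ≠ 0) :
    ∃ k : F, k ≠ 0 ∧ k ^ 2 ≠ 1 ∧ 1 + k ^ 2 ≠ e := by
  by_cases h5' : Fintype.card F = 5
  · have h : (5 : F) = 0 := by
      have := Nat.cast_card_eq_zero F
      rw [h5'] at this
      exact_mod_cast this
    have h20 : (2 : F) ≠ 0 := fun h2 => one_ne_zero (α := F) (by linear_combination h - 2 * h2)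
    have h30 : (3 : F) ≠ 0 := fun h3 => one_ne_zero (α := F) (by linear_combination 2 * h3 - h)
    exact ⟨2, h20, fun e' => h30 (by linear_combination e'), fun e' => he (by linear_combination h - e')⟩
  · obtain ⟨r, hr⟩ : ∃ r : F, ∀ k : F, 1 + k ^ 2 = e → k = r ∨ k = -r := by
      by_cases h : ∃ k : F, 1 + k ^ 2 = e
      · obtain ⟨r, hr⟩ := h
        exact ⟨r, fun k hk => eq_or_eq_neg_of_sq_eq_sq k r (by linear_combination hk - hr)⟩
      · exact ⟨0, fun k hk => absurd ⟨k, hk⟩ h⟩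
    have : ((Finset.univ : Finset F) \ {0, 1, -1, r, -r}).Nonempty := by
      rw [← Finset.card_pos]
      have h1 := Finset.le_card_sdiff ({0, 1, -1, r, -r} : Finset F) Finset.univ
      have h2 : ({0, 1, -1, r, -r} : Finset F).card ≤ 5 := Finset.card_le_five
      rw [Finset.card_univ] at h1
      omega
    obtain ⟨k, hk⟩ := this
    simp only [Finset.mem_sdiff, Finset.mem_univ, true_and, Finset.mem_insert, Finset.mem_singleton, not_or] at hk
    exact ⟨k, hk.1, fun e' => (sq_eq_one_iff.1 e').elim hk.2.1 hk.2.2.1,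
      fun e' => (hr k e').elim hk.2.2.2.1 hk.2.2.2.2⟩

theorem prods_shift {α : F} {A B : SL F} (hA : IsConj A (upperU α)) {k : F} (hk : k ≠ 0) {B' : SL F}
    (hB : IsConj B B') : ∃ G ∈ Prods A B, tr G = tr B' + α * k ^ 2 * B'.1 1 0 := by
  refine ⟨upperU (α * k ^ 2) * B', ⟨_, _, hA.trans ?_, hB, rfl⟩, ?_⟩
  · refine isConj_iff.2 ⟨⟨!![k, 0; 0, k⁻¹], by simp [Matrix.det_fin_two, hk]⟩, ?_⟩
    apply mul_inv_eq_iff_eq_mul.2
    apply Subtype.ext
    show !![k, 0; 0, k⁻¹] * !![1, α; 0, 1] = !![1, α * k ^ 2; 0, 1] * !![k, 0; 0, k⁻¹]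
    ext i j
    fin_cases i <;> fin_cases j <;> simp [Matrix.mul_apply, Fin.sum_univ_two]
    field_simp
  · simp [tr, Matrix.mul_apply, Fin.sum_univ_two, coe_upperU]
    ring

theorem two_traces {p : ℕ} [Fact p.Prime] [CharP F p] (hp : p ≠ 2) (h5 : 5 ≤ Fintype.card F) {A B : SL F}
    (hA : ¬ IsScal A) (hB : ¬ IsScal B) :
    ∃ G ∈ Prods A B, ∃ H ∈ Prods A B, tr G ^ 2 ≠ tr H ^ 2 := by
  have h2 := two_ne_zero_of_char (F := F) hp
  have h4 : (4 : F) ≠ 0 := by rw [show (4 : F) = 2 * 2 by norm_num]; exact mul_ne_zero h2 h2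
  -- the case of a unipotent first factor
  have key : ∀ A B : SL F, ¬ IsScal A → ¬ IsScal B → tr A = 2 →
      ∃ G ∈ Prods A B, ∃ H ∈ Prods A B, tr G ^ 2 ≠ tr H ^ 2 := by
    intro A B hA hB hr
    obtain ⟨α, hα, hconj⟩ := CfsgLib.SLTwoClasses.exists_conj_upperU p
      (orderOf_eq_of_pow (p := p) (k := 1) (by rw [pow_one]; exact pow_eq_one_of_trace hr)
        (fun e => hA (by rw [e]; exact isScal_one)))
    have hA' : IsConj A (upperU α) := by first | exact hconj | exact hconj.symm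
    by_cases hs : tr B = 0
    · obtain ⟨j, hj0, hj1, -⟩ := exists_good_square h5 (one_ne_zero (α := F))
      have mk : ∀ c : F, c ≠ 0 → ∃ G ∈ Prods A B, tr G = c := by
        intro c hc
        let B' : SL F := ⟨!![0, -(α / c); c / α, 0], by simp [Matrix.det_fin_two]; field_simp⟩
        have hc0 : c / α ≠ 0 := div_ne_zero hc hα
        have hB' : IsConj B B' := isConj_of_tr hB (fun h => hc0 (by simpa [B'] using h.2.1)) (by rw [hs]; simp [tr, B'])
          (Or.inr (by rw [hs]; exact fun e => h4 (by linear_combination -e)))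
        obtain ⟨G, hG, e⟩ := prods_shift hA' (one_ne_zero (α := F)) hB'
        exact ⟨G, hG, by rw [e]; simp [tr, B']; field_simp⟩
      obtain ⟨G, hG, eG⟩ := mk 1 one_ne_zero
      obtain ⟨H, hH, eH⟩ := mk j hj0
      exact ⟨G, hG, H, hH, by rw [eG, eH]; exact fun e => hj1 (by linear_combination -e)⟩
    · obtain ⟨B', hB', hc⟩ := exists_low (by omega) hB
      have hsB : tr B' = tr B := (tr_isConj hB').symm
      set c := α * B'.1 1 0 with hcdef
      have hc0 : c ≠ 0 := mul_ne_zero hα hc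
      obtain ⟨k, hk0, hk1, hke⟩ := exists_good_square h5 (e := -(2 * tr B) / c)
        (div_ne_zero (neg_ne_zero.2 (mul_ne_zero h2 hs)) hc0)
      obtain ⟨G, hG, eG⟩ := prods_shift hA' (one_ne_zero (α := F)) hB'
      obtain ⟨H, hH, eH⟩ := prods_shift hA' hk0 hB'
      refine ⟨G, hG, H, hH, fun e => ?_⟩
      rw [eG, eH, hsB] at e
      rcases mul_eq_zero.1 (show (c * (1 - k ^ 2)) * (2 * tr B + c * (1 + k ^ 2)) = 0 by
        rw [hcdef]; linear_combination e) with h | h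
      · exact hk1 (by linear_combination -((mul_eq_zero.1 h).resolve_left hc0))
      · exact hke (by rw [eq_div_iff hc0]; linear_combination h)
  have negA : ∀ A B G : SL F, G ∈ Prods (-A) B → ∃ G' ∈ Prods A B, tr G' ^ 2 = tr G ^ 2 := by
    rintro A B _ ⟨X, Y, hX, hY, rfl⟩
    obtain ⟨u, rfl⟩ := isConj_iff.1 hX
    refine ⟨u * A * u⁻¹ * Y, ⟨_, Y, isConj_iff.2 ⟨u, rfl⟩, hY, rfl⟩, ?_⟩
    rw [show u * -A * u⁻¹ * Y = -(u * A * u⁻¹ * Y) from Subtype.ext (by simp), tr_neg, neg_sq]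
  have key' : ∀ A B : SL F, ¬ IsScal A → ¬ IsScal B → tr A ^ 2 = 4 →
      ∃ G ∈ Prods A B, ∃ H ∈ Prods A B, tr G ^ 2 ≠ tr H ^ 2 := by
    intro A B hA hB hr
    rcases mul_eq_zero.1 (show (tr A - 2) * (tr A + 2) = 0 by linear_combination hr) with h | h
    · exact key A B hA hB (sub_eq_zero.1 h)
    · obtain ⟨G, hG, H, hH, hne⟩ := key (-A) B (fun h' => hA (isScal_neg_iff.1 h')) hB
        (by rw [tr_neg]; linear_combination -h)
      obtain ⟨G', hG', eG⟩ := negA A B G hG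
      obtain ⟨H', hH', eH⟩ := negA A B H hH
      exact ⟨G', hG', H', hH', by rw [eG, eH]; exact hne⟩
  by_cases hr : tr A ^ 2 = 4
  · exact key' A B hA hB hr
  by_cases hs : tr B ^ 2 = 4
  · obtain ⟨G, hG, H, hH, hne⟩ := key' B A hB hA hs
    obtain ⟨G', hG', eG⟩ := prods_swap hG
    obtain ⟨H', hH', eH⟩ := prods_swap hH
    exact ⟨G', hG', H', hH', by rw [eG, eH]; exact hne⟩
  obtain ⟨τ, hτ0, hτ4⟩ : ∃ τ : F, τ ≠ 0 ∧ τ ^ 2 ≠ 4 := by
    have : ((Finset.univ : Finset F) \ {0, 2, -2}).Nonempty := by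
      rw [← Finset.card_pos]
      have h1 := Finset.le_card_sdiff ({0, 2, -2} : Finset F) Finset.univ
      have h3 : ({0, 2, -2} : Finset F).card ≤ 3 := Finset.card_le_three
      rw [Finset.card_univ] at h1
      omega
    obtain ⟨τ, hτ⟩ := this
    simp only [Finset.mem_sdiff, Finset.mem_univ, true_and, Finset.mem_insert, Finset.mem_singleton, not_or] at hτ
    exact ⟨τ, hτ.1, fun e => (mul_eq_zero.1 (show (τ - 2) * (τ + 2) = 0 by linear_combination e)).elim
      (fun h => hτ.2.1 (sub_eq_zero.1 h)) (fun h => hτ.2.2 (eq_neg_of_add_eq_zero_left h))⟩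
  obtain ⟨G, hG, eG⟩ := prods_of_conic hA hB (Or.inr hr) (Or.inr hs) (τ := 0)
    (fun X h => not_isScal_of_tr h hr) (fun X h => not_isScal_of_tr h hs)
    (conic_odd h2 (fun e => h4 (by linear_combination -e)) _ _)
  obtain ⟨H, hH, eH⟩ := prods_of_conic hA hB (Or.inr hr) (Or.inr hs) (τ := τ)
    (fun X h => not_isScal_of_tr h hr) (fun X h => not_isScal_of_tr h hs) (conic_odd h2 hτ4 _ _)
  exact ⟨G, hG, H, hH, by rw [eG, eH, zero_pow two_ne_zero]; exact (pow_ne_zero 2 hτ0).symm⟩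

theorem two_traces_even (h2 : (2 : F) = 0) (h4 : 4 ≤ Fintype.card F) {A B : SL F}
    (hA : ¬ IsScal A) (hB : ¬ IsScal B) : ∃ G ∈ Prods A B, ∃ H ∈ Prods A B, tr G ^ 2 ≠ tr H ^ 2 := by
  obtain ⟨τ, hτ0, hτ1⟩ : ∃ τ : F, τ ≠ 0 ∧ τ ≠ 1 := by
    have : ((Finset.univ : Finset F) \ {0, 1}).Nonempty := by
      rw [← Finset.card_pos]
      have h1 := Finset.le_card_sdiff ({0, 1} : Finset F) Finset.univ
      have h3 : ({0, 1} : Finset F).card ≤ 2 := Finset.card_le_two
      rw [Finset.card_univ] at h1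
      omega
    obtain ⟨τ, hτ⟩ := this
    simp only [Finset.mem_sdiff, Finset.mem_univ, true_and, Finset.mem_insert, Finset.mem_singleton, not_or] at hτ
    exact ⟨τ, hτ⟩
  have hsq : ∀ u v : F, u ^ 2 = v ^ 2 → u = v := fun u v e =>
    sub_eq_zero.1 ((pow_eq_zero_iff two_ne_zero).1 (show (u - v) ^ 2 = 0 by linear_combination e + (v ^ 2 - u * v) * h2))
  have key : ∀ A B : SL F, ¬ IsScal A → ¬ IsScal B → tr A = 0 →
      ∃ G ∈ Prods A B, ∃ H ∈ Prods A B, tr G ^ 2 ≠ tr H ^ 2 := by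
    intro A B hA hB hr
    obtain ⟨B', hB', hc⟩ := exists_low (by omega) hB
    have mk : ∀ β : F, β ≠ 0 → ∃ G ∈ Prods A B, tr G = tr B' + β * B'.1 1 0 := fun β hβ =>
      ⟨_, ⟨upperU β, B', isConj_of_tr hA (CfsgLib.SLTwoClasses.not_isScal_upperU hβ)
          (by rw [hr]; simp [tr, coe_upperU]; linear_combination -h2) (Or.inl h2), hB', rfl⟩, by
        simp [tr, Matrix.mul_apply, Fin.sum_univ_two, coe_upperU]; ring⟩
    obtain ⟨G, hG, eG⟩ := mk 1 one_ne_zero
    obtain ⟨H, hH, eH⟩ := mk τ hτ0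
    refine ⟨G, hG, H, hH, fun e => hτ1 ?_⟩
    have e' := hsq _ _ e
    rw [eG, eH] at e'
    exact mul_right_cancel₀ hc (by linear_combination -e')
  by_cases hr : tr A = 0
  · exact key A B hA hB hr
  by_cases hs : tr B = 0
  · obtain ⟨G, hG, H, hH, hne⟩ := key B A hB hA hs
    obtain ⟨G', hG', eG⟩ := prods_swap hG
    obtain ⟨H', hH', eH⟩ := prods_swap hH
    exact ⟨G', hG', H', hH', by rw [eG, eH]; exact hne⟩
  have hns : ∀ (t : F), t ≠ 0 → ∀ X : SL F, tr X = t → ¬ IsScal X := fun t ht X hX => not_isScal_of_tr hX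
    fun e => ht (hsq t 0 (by linear_combination e + 2 * h2))
  obtain ⟨G, hG, eG⟩ := prods_of_conic hA hB (Or.inl h2) (Or.inl h2) (τ := 1) (hns _ hr) (hns _ hs)
    (conic_two h2 one_ne_zero _ _)
  obtain ⟨H, hH, eH⟩ := prods_of_conic hA hB (Or.inl h2) (Or.inl h2) (τ := τ) (hns _ hr) (hns _ hs)
    (conic_two h2 hτ0 _ _)
  refine ⟨G, hG, H, hH, fun e => hτ1 ?_⟩
  rw [eG, eH] at e
  exact (hsq _ _ e).symm

theorem not_class {A B : SL F} (h : ∃ G ∈ Prods A B, ∃ H ∈ Prods A B, tr G ^ 2 ≠ tr H ^ 2) (c : PSL F) :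
    {g : PSL F | ∃ u v : PSL F, g = (u * mkP A * u⁻¹) * (v * mkP B * v⁻¹)} ≠ {g | IsConj c g} := by
  obtain ⟨G, ⟨X, Y, hX, hY, rfl⟩, H, ⟨X', Y', hX', hY', rfl⟩, hne⟩ := h
  intro he
  have mem : ∀ X Y, IsConj A X → IsConj B Y → IsConj c (mkP (X * Y)) := fun X Y hX hY => by
    obtain ⟨u, rfl⟩ := isConj_iff.1 hX
    obtain ⟨v, rfl⟩ := isConj_iff.1 hY
    exact he.le (show mkP _ ∈ {g : PSL F | ∃ u v : PSL F, g = (u * mkP A * u⁻¹) * (v * mkP B * v⁻¹)} from
      ⟨mkP u, mkP v, by simp⟩)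
  obtain ⟨w, hw⟩ := isConj_iff.1 ((mem X Y hX hY).symm.trans (mem X' Y' hX' hY'))
  obtain ⟨W, rfl⟩ := mkP_surjective w
  have hw' : mkP (W * (X * Y) * W⁻¹) = mkP (X' * Y') := by rw [← hw]; simp
  apply hne
  rcases mkP_eq_iff.1 hw' with e | e
  · rw [← e, tr_conj]
  · rw [← tr_conj W (X * Y), e, tr_neg, neg_sq]

theorem product_not_class (h4 : 4 ≤ Fintype.card F) (a b : PSL F) (ha : a ≠ 1) (hb : b ≠ 1) (c : PSL F) :
    {g : PSL F | ∃ u v : PSL F, g = (u * a * u⁻¹) * (v * b * v⁻¹)} ≠ {g | IsConj c g} := by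
  obtain ⟨A, rfl⟩ := mkP_surjective a
  obtain ⟨B, rfl⟩ := mkP_surjective b
  have hA : ¬ IsScal A := fun h => ha (mkP_eq_one.2 h)
  have hB : ¬ IsScal B := fun h => hb (mkP_eq_one.2 h)
  obtain ⟨p, hp⟩ := CharP.exists F
  haveI : Fact p.Prime := ⟨CharP.char_is_prime F p⟩
  by_cases h2 : p = 2
  · subst h2
    exact not_class (two_traces_even CharTwo.two_eq_zero h4 hA hB) c
  · have := odd_card (two_ne_zero_of_char (F := F) h2)
    exact not_class (two_traces h2 (by omega) hA hB) c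

/-- The orders of the elements of `PSL₂(q)`. -/
theorem spectrum (p : ℕ) [Fact p.Prime] [CharP F p] (h4 : 4 ≤ Fintype.card F) :
    Set.range (orderOf : PSL F → ℕ) =
      {m : ℕ | m ∣ p ∨ m ∣ (Fintype.card F - 1) / Nat.gcd 2 (Fintype.card F - 1) ∨
        m ∣ (Fintype.card F + 1) / Nat.gcd 2 (Fintype.card F - 1)} := by
  ext m
  constructor
  · rintro ⟨x, rfl⟩
    rcases psl_pow_cases rfl (p := p) x with h | h | h
    · exact Or.inl (orderOf_dvd_of_pow_eq_one h)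
    · exact Or.inr (Or.inl (orderOf_dvd_of_pow_eq_one h))
    · exact Or.inr (Or.inr (orderOf_dvd_of_pow_eq_one h))
  · have sub : ∀ (c : PSL F) (k : ℕ), k ∣ orderOf c → k ∈ Set.range (orderOf : PSL F → ℕ) := fun c k hk =>
      ⟨c ^ (orderOf c / k), orderOf_pow_orderOf_div (orderOf_pos c).ne' hk⟩
    have tor : ∀ e, (e = Fintype.card F - 1 ∨ e = Fintype.card F + 1) →
        ∃ c : PSL F, orderOf c = e / Nat.gcd 2 (Fintype.card F - 1) := by
      intro e he
      obtain ⟨C, hC, hr, hc⟩ := exists_torus (p := p) rfl h4 e he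
      obtain ⟨n, D, hn, -, -, -, -, c, -, hco⟩ := exists_dihedral (p := p) rfl h4 hC hr
      refine ⟨c, ?_⟩
      rw [hco, ← hc, ← hn, Nat.mul_div_cancel_left _ (Nat.gcd_pos_of_pos_left _ two_pos)]
    rintro (h | h | h)
    · refine sub (mkP (upperU 1)) m ?_
      rw [orderOf_eq_prime (p := p) ?_ ?_]
      · exact h
      · rw [← map_pow, CfsgLib.Dickson.upperU_pow, CharP.cast_eq_zero, zero_mul, upperU_zero, map_one]
      · exact fun e => CfsgLib.SLTwoClasses.not_isScal_upperU (one_ne_zero (α := F)) (mkP_eq_one.1 e)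
    · obtain ⟨c, hc⟩ := tor _ (Or.inl rfl)
      exact sub c m (hc ▸ h)
    · obtain ⟨c, hc⟩ := tor _ (Or.inr rfl)
      exact sub c m (hc ▸ h)

end CfsgLib.Lie.SLTwoCover
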