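/-
Element orders of general linear groups over the field with two elements and of their direct powers.
-/
import Mathlib

set_option autoImplicit false
set_option maxHeartbeats 400000

namespace CfsgLib.Spec

open Polynomial

/-! ### Element orders of direct powers -/

theorem orderOf_pi_dvd {G : Type*} [Monoid G] {k : ℕ} (f : Fin k → G) {m : ℕ} :
    orderOf f ∣ m ↔ ∀ i, orderOf (f i) ∣ m := by
  simp [orderOf_dvd_iff_pow_eq_one, funext_iff]

/-- If the exponent is the least common multiple of `k₀` element orders then the orders in any power with at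
least `k₀` factors are the divisors of the exponent. -/
theorem range_orderOf_pi {G : Type*} [Group G] [Finite G] (E : ℕ) (hE : ∀ g : G, orderOf g ∣ E) {k₀ : ℕ}
    (w : Fin k₀ → G) (hw : E ∣ orderOf w) {k : ℕ} (hk : k₀ ≤ k) :
    Set.range (orderOf : (Fin k → G) → ℕ) = {e | e ∣ E} := by
  ext e
  constructor
  · rintro ⟨f, rfl⟩
    exact (orderOf_pi_dvd f).2 fun i => hE _
  · intro (he : e ∣ E)
    let f : Fin k → G := fun i => if h : i.val < k₀ then w ⟨i, h⟩ else 1
    have h1 : E ∣ orderOf f := hw.trans ((orderOf_pi_dvd w).2 fun i => by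
      have := (orderOf_pi_dvd f).1 dvd_rfl ⟨i, lt_of_lt_of_le i.isLt hk⟩
      simpa [f] using this)
    have h2 : orderOf f ≠ 0 := (orderOf_pos f).ne'
    exact ⟨f ^ (orderOf f / e), orderOf_pow_orderOf_div h2 (he.trans h1)⟩

/-! ### Polynomials -/

/-- A polynomial divides a high power of every polynomial divisible by all of its irreducible factors. -/
theorem dvd_pow_of_factors {K : Type*} [Field K] {μ P : K[X]} (hμ : μ ≠ 0)
    (h : ∀ f : K[X], Irreducible f → f ∣ μ → f ∣ P) {N : ℕ} (hN : μ.natDegree ≤ N) : μ ∣ P ^ N := by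
  induction μ using UniqueFactorizationMonoid.induction_on_prime generalizing N with
  | h₁ => exact absurd rfl hμ
  | h₂ x hx => exact hx.dvd
  | h₃ a p ha hp ih =>
    have hp0 : p ≠ 0 := hp.ne_zero
    rw [natDegree_mul hp0 ha] at hN
    have hdeg : 1 ≤ p.natDegree := hp.irreducible.natDegree_pos
    obtain ⟨M, rfl⟩ : ∃ M, N = M + 1 := ⟨N - 1, by omega⟩
    rw [pow_succ']
    exact mul_dvd_mul (h p hp.irreducible (dvd_mul_right p a))
      (ih ha (fun f hf hfa => h f hf (hfa.trans (dvd_mul_left a p))) (by omega))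

/-- An irreducible polynomial of degree `d` other than `X` divides `X ^ (q ^ d - 1) - 1`. -/
theorem irreducible_dvd_X_pow_sub_one {K : Type*} [Field K] [Fintype K] {f : K[X]} (hf : Irreducible f)
    (h0 : ¬ X ∣ f) {M : ℕ} (hM : Fintype.card K ^ f.natDegree - 1 ∣ M) : f ∣ X ^ M - 1 := by
  haveI := Fact.mk hf
  haveI : Fintype (AdjoinRoot f) := Module.fintypeOfFintype (AdjoinRoot.powerBasis hf.ne_zero).basis
  have hcard : Fintype.card (AdjoinRoot f) = Fintype.card K ^ f.natDegree := by
    rw [Module.card_eq_pow_finrank (K := K), (AdjoinRoot.powerBasis hf.ne_zero).finrank,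
      AdjoinRoot.powerBasis_dim]
  have hr : AdjoinRoot.root f ≠ 0 := by
    rw [AdjoinRoot.root, Ne, AdjoinRoot.mk_eq_zero]
    exact fun h => h0 (hf.associated_of_dvd irreducible_X h).symm.dvd
  obtain ⟨c, rfl⟩ := hM
  rw [← AdjoinRoot.mk_eq_zero, map_sub, map_pow, map_one, AdjoinRoot.mk_X, pow_mul, ← hcard,
    FiniteField.pow_card_sub_one_eq_one _ hr, one_pow, sub_self]

/-! ### The general linear group over the field with two elements -/

variable {F : Type*} [Field F] [Fintype F] {n : ℕ}

/-- The least common multiple of the numbers `q ^ d - 1`. -/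
def singerLcm (q n : ℕ) : ℕ := (Finset.Icc 1 n).lcm fun d => q ^ d - 1

theorem dvd_singerLcm {q n d : ℕ} (h1 : 1 ≤ d) (h2 : d ≤ n) : q ^ d - 1 ∣ singerLcm q n :=
  Finset.dvd_lcm (f := fun d => q ^ d - 1) (Finset.mem_Icc.2 ⟨h1, h2⟩)

theorem charP_two (hF : Fintype.card F = 2) : CharP F 2 := by
  haveI : Fact (Nat.Prime 2) := ⟨Nat.prime_two⟩
  exact charP_of_card_eq_prime hF

theorem units_eq_one (hF : Fintype.card F = 2) (u : Fˣ) : u = 1 := by
  classical
  have h : Fintype.card Fˣ = 1 := by rw [Fintype.card_units, hF]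
  exact (Fintype.card_le_one_iff.1 h.le) u 1

theorem orderOf_dvd_bound (hF : Fintype.card F = 2) (g : GL (Fin n) F) :
    orderOf g ∣ 2 ^ Nat.clog 2 n * singerLcm 2 n := by
  classical
  haveI := charP_two hF
  set M := singerLcm 2 n
  set g' : Matrix (Fin n) (Fin n) F := (g : Matrix (Fin n) (Fin n) F) with hg'
  have hdvd : g'.charpoly ∣ (X ^ M - 1) ^ (2 ^ Nat.clog 2 n) := by
    refine dvd_pow_of_factors g'.charpoly_monic.ne_zero (fun f hf hfd => ?_) ?_
    · refine irreducible_dvd_X_pow_sub_one hf (fun hX => ?_) ?_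
      · have h0 : g'.charpoly.coeff 0 = 0 := X_dvd_iff.1 (hX.trans hfd)
        have hdet := Matrix.det_eq_sign_charpoly_coeff g'
        rw [h0, mul_zero] at hdet
        exact (Matrix.GeneralLinearGroup.det g).ne_zero hdet
      · rw [hF]
        refine dvd_singerLcm hf.natDegree_pos ?_
        have := natDegree_le_of_dvd hfd g'.charpoly_monic.ne_zero
        rwa [Matrix.charpoly_natDegree_eq_dim, Fintype.card_fin] at this
    · rw [Matrix.charpoly_natDegree_eq_dim, Fintype.card_fin]
      exact Nat.le_pow_clog one_lt_two n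
  rw [sub_pow_char_pow, one_pow, ← pow_mul] at hdvd
  obtain ⟨c, hc⟩ := hdvd
  have h := congrArg (aeval g') hc
  rw [map_mul, Matrix.aeval_self_charpoly, zero_mul, map_sub, map_pow, aeval_X, map_one, sub_eq_zero] at h
  rw [mul_comm, orderOf_dvd_iff_pow_eq_one]
  exact Units.ext (by rw [Units.val_pow_eq_pow_val, Units.val_one]; exact h)

/-- The nilpotent Jordan block. -/
def shift (n : ℕ) (F : Type*) [Zero F] [One F] : Matrix (Fin n) (Fin n) F :=
  Matrix.of fun i j => if (j : ℕ) = i + 1 then 1 else 0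

theorem shift_pow (k : ℕ) : ∀ i j : Fin n, (shift n F ^ k) i j = if (j : ℕ) = i + k then 1 else 0 := by
  induction k with
  | zero => intro i j; simp [Matrix.one_apply, Fin.ext_iff, eq_comm]
  | succ k ih =>
    intro i j
    rw [pow_succ, Matrix.mul_apply]
    simp only [ih]
    simp only [shift, Matrix.of_apply, ite_mul, one_mul, zero_mul]
    by_cases h : (i : ℕ) + k < n
    · rw [Finset.sum_eq_single ⟨i + k, h⟩]
      · simp [add_assoc]
      · intro b _ hb
        rw [if_neg]
        exact fun e => hb (Fin.ext e)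
      · simp
    · rw [if_neg (by have := j.isLt; omega)]
      refine Finset.sum_eq_zero fun b _ => ?_
      rw [if_neg (by have := b.isLt; omega)]

theorem exists_order_two_pow (hF : Fintype.card F = 2) (hn : 2 ≤ n) :
    ∃ g : GL (Fin n) F, 2 ^ Nat.clog 2 n ∣ orderOf g := by
  haveI := charP_two hF
  haveI : Fact (Nat.Prime 2) := ⟨Nat.prime_two⟩
  haveI : CharP (Matrix (Fin n) (Fin n) F) 2 := by
    haveI : Nonempty (Fin n) := ⟨⟨0, by omega⟩⟩
    exact charP_of_injective_algebraMap (algebraMap F (Matrix (Fin n) (Fin n) F)).injective 2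
  obtain ⟨t, ht⟩ : ∃ t, Nat.clog 2 n = t + 1 :=
    ⟨Nat.clog 2 n - 1, by have := Nat.clog_pos one_lt_two hn; omega⟩
  have hpow : ∀ k, (1 + shift n F) ^ 2 ^ k = 1 + shift n F ^ 2 ^ k := fun k => by
    rw [add_pow_char_pow_of_commute _ _ (Commute.one_left _), one_pow]
  have h1 : (1 + shift n F) ^ 2 ^ (t + 1) = 1 := by
    rw [hpow, add_eq_left]
    ext i j
    have hle := Nat.le_pow_clog one_lt_two n
    rw [ht] at hle
    rw [shift_pow, if_neg (by have := j.isLt; omega)]
    rfl
  have h2 : (1 + shift n F) ^ 2 ^ t ≠ 1 := by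
    rw [hpow, Ne, add_eq_left]
    intro h
    have hlt : 2 ^ t < n := Nat.pow_lt_of_lt_clog (by omega)
    have := congrFun (congrFun h ⟨0, by omega⟩) ⟨2 ^ t, hlt⟩
    simp [shift_pow] at this
  refine ⟨Units.ofPowEqOne _ _ h1 (by positivity), ?_⟩
  rw [ht, ← orderOf_units]
  exact (orderOf_eq_prime_pow h2 h1).symm.dvd

theorem exists_order_singer {d : ℕ} (h1 : 1 ≤ d) (h2 : d ≤ n) :
    ∃ g : GL (Fin n) F, Fintype.card F ^ d - 1 ∣ orderOf g := by
  classical
  obtain ⟨p, hp⟩ := CharP.exists F
  haveI : Fact p.Prime := ⟨CharP.char_is_prime F p⟩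
  haveI : NeZero d := ⟨by omega⟩
  let E := FiniteField.Extension F p d
  haveI : Fintype E := Fintype.ofFinite E
  obtain ⟨z, hz⟩ := IsCyclic.exists_generator (α := Eˣ)
  let ρ : E →* Module.End F (E × (Fin (n - d) → F)) :=
    { toFun := fun z => (LinearMap.mulLeft F z).prodMap LinearMap.id
      map_one' := by ext <;> simp
      map_mul' := fun a b => LinearMap.ext fun x => Prod.ext (mul_assoc a b x.1) rfl }
  have hρ : Function.Injective ρ := fun a b h => by
    simpa [ρ] using congrArg Prod.fst (LinearMap.congr_fun h ((1 : E), 0))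
  have hdim : Module.finrank F (E × (Fin (n - d) → F)) = n := by
    rw [Module.finrank_prod, FiniteField.finrank_extension, Module.finrank_fintype_fun_eq_card, Fintype.card_fin]
    omega
  let b : Module.Basis (Fin n) F (E × (Fin (n - d) → F)) := Module.finBasisOfFinrankEq F _ hdim
  let φ : Eˣ →* GL (Fin n) F :=
    (Units.map (LinearMap.toMatrixAlgEquiv b).toMonoidHom).comp (Units.map ρ)
  have hφ : Function.Injective φ := fun a b h =>
    Units.map_injective hρ (Units.map_injective (LinearMap.toMatrixAlgEquiv _).injective h)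
  refine ⟨φ z, ?_⟩
  rw [orderOf_injective φ hφ, orderOf_eq_card_of_forall_mem_zpowers hz, Nat.card_units]
  have hE : Fintype.card E = Fintype.card F ^ d := by
    rw [Module.card_eq_pow_finrank (K := F) (V := E), FiniteField.finrank_extension]
  rw [Nat.card_eq_fintype_card, hE]

/-- A witness for the exponent in a power with `(n + 3) / 2` factors. -/
theorem exists_witness (hF : Fintype.card F = 2) (hn : 2 ≤ n) :
    ∃ w : Fin ((n + 3) / 2) → GL (Fin n) F, 2 ^ Nat.clog 2 n * singerLcm 2 n ∣ orderOf w := by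
  classical
  obtain ⟨u, hu⟩ := exists_order_two_pow hF hn
  have hs : ∀ d, ∃ g : GL (Fin n) F, 1 ≤ d → d ≤ n → 2 ^ d - 1 ∣ orderOf g := fun d => by
    by_cases h : 1 ≤ d ∧ d ≤ n
    · obtain ⟨g, hg⟩ := exists_order_singer (F := F) h.1 h.2
      exact ⟨g, fun _ _ => hF ▸ hg⟩
    · exact ⟨1, fun a b => absurd ⟨a, b⟩ h⟩
  choose s hs using hs
  let w : Fin ((n + 3) / 2) → GL (Fin n) F := fun i => if i.val = 0 then u else s (n / 2 + i.val)
  refine ⟨w, ?_⟩
  have hcop : Nat.Coprime (2 ^ Nat.clog 2 n) (singerLcm 2 n) := by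
    refine Nat.Coprime.pow_left _ ?_
    have h2 : ∀ s : Finset ℕ, (∀ d ∈ s, 1 ≤ d) → ¬ 2 ∣ s.lcm fun d => 2 ^ d - 1 := by
      intro s
      induction s using Finset.induction_on with
      | empty => simp
      | insert a s ha ih =>
        intro hs
        rw [Finset.lcm_insert]
        intro h
        have h' := h.trans (lcm_dvd (dvd_mul_right _ _) (dvd_mul_left _ _))
        rcases Nat.prime_two.dvd_mul.1 h' with h3 | h3
        · have : 2 ∣ 2 ^ a := dvd_pow_self 2 (by have := hs a (by simp); omega)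
          have := Nat.one_le_two_pow (n := a)
          omega
        · exact ih (fun d hd => hs d (Finset.mem_insert_of_mem hd)) h3
    exact (Nat.prime_two.coprime_iff_not_dvd).2 (h2 _ fun d hd => (Finset.mem_Icc.1 hd).1)
  refine hcop.mul_dvd_of_dvd_of_dvd ?_ (Finset.lcm_dvd fun d hd => ?_)
  · exact hu.trans ((orderOf_pi_dvd w).1 dvd_rfl ⟨0, by omega⟩)
  · obtain ⟨hd1, hd2⟩ := Finset.mem_Icc.1 hd
    -- a multiple of `d` in `(n / 2, n]`
    obtain ⟨e, ⟨c, hc⟩, he1, he2⟩ : ∃ e, d ∣ e ∧ n / 2 < e ∧ e ≤ n := by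
      refine ⟨n / d * d, dvd_mul_left d _, ?_, Nat.div_mul_le_self n d⟩
      have h1 := Nat.div_add_mod' n d
      have h2 := Nat.mod_lt n (show d > 0 by omega)
      have h3 : d ≤ n / d * d := Nat.le_mul_of_pos_left d (Nat.div_pos hd2 (by omega))
      omega
    refine ((Nat.pow_sub_one_dvd_pow_sub_one 2 (m := d) (k := e) ⟨c, hc⟩)).trans ?_
    refine (hs e (by omega) he2).trans ?_
    have := (orderOf_pi_dvd w).1 dvd_rfl ⟨e - n / 2, by omega⟩
    have h0 : ¬ (e - n / 2 = 0) := by omega
    simpa [w, h0, show n / 2 + (e - n / 2) = e by omega] using this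

/-- Over the field with two elements the projective special linear group is the general linear group. -/
theorem glEquivPSL (hF : Fintype.card F = 2) :
    Nonempty (GL (Fin n) F ≃* Matrix.ProjectiveSpecialLinearGroup (Fin n) F) := by
  have hdet : ∀ g : GL (Fin n) F, (g : Matrix (Fin n) (Fin n) F).det = 1 := fun g =>
    congrArg Units.val (units_eq_one hF (Matrix.GeneralLinearGroup.det g))
  let e : Matrix.SpecialLinearGroup (Fin n) F ≃* GL (Fin n) F :=
    MulEquiv.ofBijective Matrix.SpecialLinearGroup.toGL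
      ⟨fun a b h => Subtype.ext (congrArg Units.val h), fun g => ⟨⟨g.val, hdet g⟩, Units.ext rfl⟩⟩
  have hc : Subgroup.center (Matrix.SpecialLinearGroup (Fin n) F) = ⊥ := by
    rw [eq_bot_iff]
    intro A hA
    obtain ⟨r, hr, hA⟩ := Matrix.SpecialLinearGroup.mem_center_iff.1 hA
    rw [Subgroup.mem_bot]
    apply Subtype.ext
    rw [← hA, Matrix.SpecialLinearGroup.coe_one]
    by_cases hn : Nonempty (Fin n)
    · have : r ≠ 0 := by
        rintro rfl
        rw [Fintype.card_fin, zero_pow (by have := Fin.pos_iff_nonempty.2 hn; omega)] at hr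
        exact zero_ne_one hr
      rw [show r = 1 from congrArg Units.val (units_eq_one hF (Units.mk0 r this)), map_one]
    · ext i; exact absurd ⟨i⟩ hn
  exact ⟨e.symm.trans ((QuotientGroup.quotientBot).symm.trans (QuotientGroup.quotientMulEquivOfEq hc.symm))⟩

theorem range_orderOf_pow_psl (hF : Fintype.card F = 2) (hn : 2 ≤ n) {k : ℕ} (hk : (n + 3) / 2 ≤ k) :
    Set.range (orderOf : (Fin k → Matrix.ProjectiveSpecialLinearGroup (Fin n) F) → ℕ) =
      {e | e ∣ 2 ^ Nat.clog 2 n * singerLcm 2 n} := by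
  obtain ⟨φ⟩ := glEquivPSL (n := n) hF
  obtain ⟨w, hw⟩ := exists_witness hF hn
  refine range_orderOf_pi _ (fun g => ?_) (fun i => φ (w i)) ?_ hk
  · rw [← φ.symm.orderOf_eq g]
    exact orderOf_dvd_bound hF _
  · refine hw.trans ((orderOf_pi_dvd w).2 fun i => ?_)
    rw [← φ.orderOf_eq (w i)]
    exact (orderOf_pi_dvd fun i => φ (w i)).1 dvd_rfl i

end CfsgLib.Spec
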