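/-
Element orders of direct powers of projective special linear groups.
-/
import Cfsg.Agent.Lib.LieSpecGLTwo

set_option autoImplicit false
set_option maxHeartbeats 400000

namespace CfsgLib.Spec

open Polynomial Matrix

variable {F : Type*} [Field F] {n : ℕ}

/-! ### Idempotents -/

/-- The determinant of `1 + (t - 1) e` for an idempotent `e` is a power of `t`. -/
theorem exists_det_idem (e : Matrix (Fin n) (Fin n) F) (he : e * e = e) :
    ∃ k ≤ n, ∀ t : F, (1 + (t - 1) • e).det = t ^ k := by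
  set e' : Matrix (Fin n) (Fin n) F[X] := e.map C with he'def
  have he' : e' * e' = e' := by rw [he'def, ← Matrix.map_mul, he]
  set P : F[X] := (1 + (X - 1 : F[X]) • e').det with hP
  have h1 : (1 + (X - 1 : F[X]) • e') * ((X : F[X]) • 1 - (X - 1 : F[X]) • e') =
      (X : F[X]) • (1 : Matrix (Fin n) (Fin n) F[X]) := by
    simp only [Matrix.add_mul, Matrix.mul_sub, Matrix.one_mul, Matrix.smul_mul, Matrix.mul_smul, Matrix.mul_one,
      smul_smul, he']
    module
  have h2 : P ∣ X ^ n := ⟨((X : F[X]) • 1 - (X - 1 : F[X]) • e').det, by rw [← Matrix.det_mul, h1, Matrix.det_smul, Matrix.det_one, mul_one, Fintype.card_fin]⟩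
  obtain ⟨k, hk, u, hu⟩ := (dvd_prime_pow Polynomial.prime_X n).1 h2
  have heval : ∀ t : F, P.eval t = (1 + (t - 1) • e).det := by
    intro t
    rw [hP, ← coe_evalRingHom, RingHom.map_det]
    congr 1
    ext i j
    by_cases h : i = j <;> simp [h, e']
  have h3 : (u : F[X]).eval 1 = 1 := by
    have := congrArg (Polynomial.eval 1) hu
    rwa [eval_mul, heval, sub_self, zero_smul, add_zero, Matrix.det_one, one_mul, eval_pow, eval_X, one_pow] at this
  obtain ⟨c, -, hc⟩ := Polynomial.isUnit_iff.1 u.isUnit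
  rw [← hc, eval_C] at h3
  rw [← hc, h3, map_one, mul_one] at hu
  exact ⟨k, hk, fun t => by rw [← heval, hu, eval_pow, eval_X]⟩

theorem idem_pow (e : Matrix (Fin n) (Fin n) F) (he : e * e = e) (a b : F) :
    ∀ m : ℕ, (b • 1 + (a - b) • e) ^ m = b ^ m • 1 + (a ^ m - b ^ m) • e
  | 0 => by simp
  | m + 1 => by
    rw [pow_succ, idem_pow e he a b m]
    simp only [Matrix.add_mul, Matrix.mul_add, Matrix.one_mul, Matrix.smul_mul, Matrix.mul_smul, Matrix.mul_one,
      smul_smul, he]
    module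

/-- A scalar element of the special linear group is central. -/
theorem mem_center_of_scalar (hn : 1 ≤ n) {A : SpecialLinearGroup (Fin n) F} {c : F}
    (h : (A : Matrix (Fin n) (Fin n) F) = c • 1) : A ∈ Subgroup.center (SpecialLinearGroup (Fin n) F) := by
  rw [Matrix.SpecialLinearGroup.mem_center_iff]
  have hs : Matrix.scalar (Fin n) c = (c • 1 : Matrix (Fin n) (Fin n) F) := by
    rw [Matrix.scalar_apply, ← Matrix.smul_one_eq_diagonal]
  refine ⟨c, ?_, hs.trans h.symm⟩
  have hd := A.2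
  rw [h, Matrix.det_smul, Matrix.det_one, mul_one] at hd
  exact hd

theorem exists_scalar_of_center {A : SpecialLinearGroup (Fin n) F}
    (h : A ∈ Subgroup.center (SpecialLinearGroup (Fin n) F)) :
    ∃ c : F, (A : Matrix (Fin n) (Fin n) F) = c • 1 := by
  obtain ⟨c, -, hc⟩ := Matrix.SpecialLinearGroup.mem_center_iff.1 h
  exact ⟨c, hc.symm.trans (by rw [Matrix.scalar_apply, ← Matrix.smul_one_eq_diagonal])⟩

/-- The projection to the projective group. -/
noncomputable def toPSL : SpecialLinearGroup (Fin n) F →* ProjectiveSpecialLinearGroup (Fin n) F :=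
  QuotientGroup.mk' _

theorem toPSL_surjective : Function.Surjective (toPSL (F := F) (n := n)) := QuotientGroup.mk'_surjective _

theorem toPSL_eq_one_iff {A : SpecialLinearGroup (Fin n) F} :
    toPSL A = 1 ↔ A ∈ Subgroup.center (SpecialLinearGroup (Fin n) F) := QuotientGroup.eq_one_iff A

variable {r : ℕ}

/-- An element of projective order `r` commuting with what commutes with a nontrivial idempotent. -/
theorem exists_torus_of_idem (hr : r.Prime) {ζ : Fˣ} (hζ : orderOf ζ = r) (hrn : ¬ r ∣ n)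
    (e : Matrix (Fin n) (Fin n) F) (he : e * e = e) (h0 : e ≠ 0) (h1 : e ≠ 1) :
    ∃ z : SpecialLinearGroup (Fin n) F, orderOf (toPSL z) = r ∧
      ∀ g : SpecialLinearGroup (Fin n) F, Commute (g : Matrix (Fin n) (Fin n) F) e → Commute g z := by
  obtain ⟨k, hk, hdet⟩ := exists_det_idem e he
  set a : Fˣ := ζ ^ (n - k) with ha
  set b : Fˣ := (ζ ^ k)⁻¹ with hb
  have hab : a / b = ζ ^ n := by
    rw [ha, hb, div_inv_eq_mul, ← pow_add, Nat.sub_add_cancel hk]
  have hne : (a : F) ≠ b := by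
    intro h
    have : ζ ^ n = 1 := by rw [← hab, Units.ext h, div_self']
    exact hrn (hζ ▸ orderOf_dvd_of_pow_eq_one this)
  set M : Matrix (Fin n) (Fin n) F := (b : F) • 1 + ((a : F) - b) • e with hM
  have hMdet : M.det = 1 := by
    have : M = (b : F) • (1 + (((a / b : Fˣ) : F) - 1) • e) := by
      rw [hM, smul_add, smul_smul]
      congr 2
      rw [mul_sub, mul_one, ← Units.val_mul, mul_div_cancel]
    rw [this, Matrix.det_smul, hdet, Fintype.card_fin, ← Units.val_pow_eq_pow_val, ← Units.val_pow_eq_pow_val,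
      ← Units.val_mul, hab, hb, inv_pow, ← pow_mul, ← pow_mul, mul_comm k n, inv_mul_cancel, Units.val_one]
  let z : Matrix.SpecialLinearGroup (Fin n) F := ⟨M, hMdet⟩
  have hzM : (z : Matrix (Fin n) (Fin n) F) = M := rfl
  refine ⟨z, ?_, fun g hg => Subtype.ext ?_⟩
  · haveI := Fact.mk hr
    refine orderOf_eq_prime ?_ ?_
    · rw [← map_pow, toPSL_eq_one_iff]
      refine mem_center_of_scalar (c := (1 : F)) (Nat.one_le_iff_ne_zero.2 fun h => hrn (by rw [h]; exact dvd_zero r)) ?_
      rw [Matrix.SpecialLinearGroup.coe_pow, hzM, hM, idem_pow e he, one_smul]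
      have hz : ∀ j, ((ζ ^ j : Fˣ) : F) ^ r = 1 := fun j => by
        rw [← Units.val_pow_eq_pow_val, ← pow_mul, mul_comm, pow_mul, ← hζ, pow_orderOf_eq_one, one_pow,
          Units.val_one]
      have hbr : (b : F) ^ r = 1 := by rw [hb, Units.val_inv_eq_inv_val, inv_pow, hz, inv_one]
      rw [ha, hz, hbr, sub_self, zero_smul, add_zero, one_smul]
    · rw [Ne, toPSL_eq_one_iff]
      intro hc
      obtain ⟨c, hc⟩ := exists_scalar_of_center hc
      change M = c • 1 at hc
      have hsub : ((a : F) - b) ≠ 0 := sub_ne_zero.2 hne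
      set c' : F := (c - b) / ((a : F) - b)
      have he2 : e = c' • 1 := by
        have : ((a : F) - b) • e = (c - b) • 1 := by rw [sub_smul c, ← hc, hM]; abel
        rw [← inv_smul_smul₀ hsub e, this, smul_smul]
        congr 1
        simp only [c']
        field_simp
      rw [he2, Matrix.smul_mul, Matrix.one_mul, smul_smul] at he
      have hi : Nonempty (Fin n) := ⟨⟨0, Nat.pos_of_ne_zero fun h => hrn (by rw [h]; exact dvd_zero r)⟩⟩
      obtain ⟨i⟩ := hi
      have := congrFun (congrFun he i) i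
      simp only [Matrix.smul_apply, Matrix.one_apply_eq, smul_eq_mul, mul_one] at this
      rcases mul_left_eq_self₀.1 this with h | h
      · exact h1 (by rw [he2, h, one_smul])
      · exact h0 (by rw [he2, h, zero_smul])
  · show (g : Matrix (Fin n) (Fin n) F) * M = M * g
    simp only [hM, Matrix.mul_add, Matrix.add_mul, Matrix.mul_smul, Matrix.smul_mul, Matrix.mul_one,
      Matrix.one_mul, hg.eq]

/-- If the characteristic polynomial has two coprime factors there is a commuting nontrivial idempotent. -/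
theorem exists_idem_of_coprime (g : Matrix (Fin n) (Fin n) F) {A B : F[X]} (hAB : g.charpoly = A * B)
    (hA : 0 < A.natDegree) (hB : 0 < B.natDegree) (hcop : IsCoprime A B) :
    ∃ e : Matrix (Fin n) (Fin n) F, e * e = e ∧ e ≠ 0 ∧ e ≠ 1 ∧ Commute g e := by
  obtain ⟨u, v, huv⟩ := hcop
  have key : ∀ (C D w : F[X]), g.charpoly = C * D → 0 < D.natDegree → (∀ h, h ∣ C → h ∣ D → h ∣ 1) →
      (∀ h, h ∣ w * C → h ∣ D → h ∣ 1) → aeval g (w * C) ≠ 0 := by
    intro C D w hCD hD _ hwc h
    obtain ⟨f, hf, hfD⟩ := WfDvdMonoid.exists_irreducible_factor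
      (fun hu => by rw [Polynomial.natDegree_eq_zero_of_isUnit hu] at hD; omega)
      (fun h0 => by rw [h0, natDegree_zero] at hD; omega)
    haveI := Fact.mk hf
    refine hf.not_isUnit (isUnit_of_dvd_one (hwc f ?_ hfD))
    rw [← AdjoinRoot.mk_eq_zero]
    set K := AdjoinRoot f
    set gK : Matrix (Fin n) (Fin n) K := g.map (algebraMap F K)
    have hroot : (gK.charpoly).eval (AdjoinRoot.root f) = 0 := by
      rw [Matrix.charpoly_map, eval_map, hCD, ← aeval_def, map_mul, AdjoinRoot.aeval_eq D,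
        AdjoinRoot.mk_eq_zero.2 hfD, mul_zero]
    rw [Matrix.eval_charpoly] at hroot
    obtain ⟨x, hx0, hx⟩ := Matrix.exists_mulVec_eq_zero_iff.2 hroot
    rw [Matrix.sub_mulVec, sub_eq_zero, Matrix.scalar_apply, ← Matrix.smul_one_eq_diagonal, Matrix.smul_mulVec,
      Matrix.one_mulVec] at hx
    have hpow : ∀ m : ℕ, (gK ^ m) *ᵥ x = AdjoinRoot.root f ^ m • x := by
      intro m
      induction m with
      | zero => simp
      | succ m ih => rw [pow_succ', ← Matrix.mulVec_mulVec, ih, Matrix.mulVec_smul, ← hx, smul_smul, pow_succ]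
    have hP : ∀ P : F[X], (aeval gK P) *ᵥ x = aeval (AdjoinRoot.root f) P • x := by
      intro P
      induction P using Polynomial.induction_on' with
      | add a b ha hb => rw [map_add, map_add, Matrix.add_mulVec, ha, hb, add_smul]
      | monomial m a =>
        rw [aeval_monomial, aeval_monomial, ← Matrix.mulVec_mulVec, hpow, Algebra.algebraMap_eq_smul_one,
          Matrix.smul_mulVec, Matrix.one_mulVec, mul_smul, algebraMap_smul]
    have h2 := hP (w * C)
    have h3 : aeval gK (w * C) = 0 := by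
      have := congrArg (Algebra.ofId F K).mapMatrix h
      rw [← Polynomial.aeval_algHom_apply, map_zero] at this
      exact this
    rw [h3, Matrix.zero_mulVec, eq_comm, smul_eq_zero, AdjoinRoot.aeval_eq] at h2
    exact h2.resolve_right hx0
  have hAB' : ∀ h, h ∣ A → h ∣ B → h ∣ 1 := fun h h1 h2 =>
    huv ▸ dvd_add (Dvd.dvd.mul_left h1 u) (Dvd.dvd.mul_left h2 v)
  have hsum : aeval g (u * A) + aeval g (v * B) = 1 := by rw [← map_add, huv, map_one]
  have hmul : aeval g (u * A) * aeval g (v * B) = 0 := by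
    rw [← map_mul, show u * A * (v * B) = (u * v) * (A * B) by ring, ← hAB, map_mul,
      Matrix.aeval_self_charpoly, mul_zero]
  refine ⟨aeval g (u * A), ?_, ?_, ?_, ?_⟩
  · rw [eq_sub_of_add_eq hsum] at hmul ⊢
    rw [sub_mul, one_mul, sub_eq_zero] at hmul
    rw [mul_sub, mul_one, sub_mul, one_mul, ← hmul]
    abel
  · refine key A B u hAB hB hAB' fun h h1 h2 => ?_
    have := dvd_add h1 (Dvd.dvd.mul_left h2 v)
    rwa [huv] at this
  · intro h
    rw [h, add_eq_left] at hsum
    refine key B A v (hAB.trans (mul_comm _ _)) hA (fun h a b => hAB' h b a) (fun h h1 h2 => ?_) hsum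
    have := dvd_add (Dvd.dvd.mul_left h2 u) h1
    rwa [huv] at this
  · have h2 : Commute (X : F[X]) (u * A) := Commute.all _ _
    have := h2.map (aeval g)
    rwa [aeval_X] at this

/-! ### Single primary component -/

variable [Fintype F]

/-- `(q ^ m - 1) / (q - 1)`. -/
def geom (q m : ℕ) : ℕ := ∑ i ∈ Finset.range m, q ^ i

theorem geom_mul (q m : ℕ) (hq : 1 ≤ q) : geom q m * (q - 1) = q ^ m - 1 := by
  obtain ⟨s, rfl⟩ : ∃ s, q = s + 1 := ⟨q - 1, by omega⟩
  rw [geom, ← geom_sum_mul_add s m, Nat.add_sub_cancel, Nat.add_sub_cancel]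

theorem geom_modEq (q : ℕ) (hq : 1 ≤ q) : ∀ m, geom q m ≡ m [MOD q - 1]
  | 0 => rfl
  | m + 1 => by
    rw [geom, Finset.sum_range_succ]
    refine (geom_modEq q hq m).add ?_
    have : q ≡ 1 [MOD q - 1] := ((Nat.modEq_iff_dvd' hq).2 dvd_rfl).symm
    simpa using this.pow m

theorem gcd_geom (q m : ℕ) (hq : 1 ≤ q) : Nat.gcd (geom q m) (q - 1) = Nat.gcd m (q - 1) :=
  (geom_modEq q hq m).gcd_eq

/-- The order of the image of a norm one Singer element. -/
def sing (q m : ℕ) : ℕ := geom q m / Nat.gcd m (q - 1)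

theorem gcd_dvd_geom (q m : ℕ) (hq : 1 ≤ q) : Nat.gcd m (q - 1) ∣ geom q m := by
  rw [← gcd_geom q m hq]; exact Nat.gcd_dvd_left _ _

theorem geom_dvd_sing_mul (q m : ℕ) (hq : 1 ≤ q) : geom q m ∣ sing q m * (q - 1) := by
  rcases Nat.eq_zero_or_pos (Nat.gcd m (q - 1)) with h | h
  · rw [Nat.gcd_eq_zero_iff] at h
    rw [h.2, mul_zero]; exact dvd_zero _
  · obtain ⟨c, hc⟩ := Nat.gcd_dvd_right m (q - 1)
    refine ⟨c, ?_⟩
    calc sing q m * (q - 1) = sing q m * (Nat.gcd m (q - 1) * c) := by rw [← hc]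
      _ = _ := by rw [← mul_assoc, sing, Nat.div_mul_cancel (gcd_dvd_geom q m hq)]

theorem dvd_of_geom_dvd (q m s : ℕ) (hq : 2 ≤ q) (h : geom q m ∣ s * (q - 1)) : sing q m ∣ s := by
  obtain ⟨c, hc⟩ := Nat.gcd_dvd_right m (q - 1)
  set d := Nat.gcd m (q - 1) with hd
  have hd0 : 0 < d := Nat.gcd_pos_of_pos_right _ (by omega)
  have hS : geom q m = sing q m * d := (Nat.div_mul_cancel (gcd_dvd_geom q m (by omega))).symm
  have hcop : Nat.Coprime (sing q m) c := by
    have h1 := gcd_geom q m (by omega : 1 ≤ q)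
    rw [← hd, hS, hc, mul_comm d c, Nat.gcd_mul_right] at h1
    exact Nat.eq_of_mul_eq_mul_right hd0 (by rw [h1, one_mul])
  refine hcop.dvd_of_dvd_mul_right ?_
  rw [hS, hc, mul_comm d c, ← mul_assoc] at h
  exact Nat.dvd_of_mul_dvd_mul_right hd0 h

theorem not_dvd_geom {p a m : ℕ} (hp : p.Prime) (ha : 1 ≤ a) (hm : 1 ≤ m) : ¬ p ∣ geom (p ^ a) m := by
  obtain ⟨s, rfl⟩ : ∃ s, m = s + 1 := ⟨m - 1, by omega⟩
  rw [geom, Finset.sum_range_succ']
  intro h
  have h1 : p ∣ ∑ i ∈ Finset.range s, (p ^ a) ^ (i + 1) :=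
    Finset.dvd_sum fun i _ => dvd_pow (dvd_pow_self p (by omega)) (by omega)
  rw [pow_zero] at h
  exact hp.not_dvd_one ((Nat.dvd_add_right h1).1 h)

/-- An element with a primary characteristic polynomial has bounded order modulo scalars. -/
theorem primary_pow_scalar {p a : ℕ} [Fact p.Prime] [CharP F p] (hF : Fintype.card F = p ^ a)
    (g : SpecialLinearGroup (Fin n) F) {f : F[X]} (hfm : f.Monic) (hf : Irreducible f) {k : ℕ}
    (hχ : (g : Matrix (Fin n) (Fin n) F).charpoly = f ^ k) :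
    toPSL g ^ (sing (Fintype.card F) n * p ^ Nat.clog p n) = 1 := by
  classical
  set q := Fintype.card F with hq
  have hq2 : 2 ≤ q := Fintype.one_lt_card
  set d := f.natDegree with hd
  have hdk : n = d * k := by
    have := congrArg natDegree hχ
    rw [Matrix.charpoly_natDegree_eq_dim, Fintype.card_fin, natDegree_pow, mul_comm] at this
    exact this
  rcases Nat.eq_zero_or_pos n with hn0 | hn
  · subst hn0
    haveI : Subsingleton (SpecialLinearGroup (Fin 0) F) := ⟨fun x y => Subtype.ext (Subsingleton.elim _ _)⟩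
    rw [← map_pow, Subsingleton.elim (g ^ _) 1, map_one]
  haveI := Fact.mk hf
  haveI : Fintype (AdjoinRoot f) := Module.fintypeOfFintype (AdjoinRoot.powerBasis hf.ne_zero).basis
  set ρ := AdjoinRoot.root f with hρdef
  have hfr : Module.finrank F (AdjoinRoot f) = d := by
    rw [(AdjoinRoot.powerBasis hf.ne_zero).finrank, AdjoinRoot.powerBasis_dim]
  have hcard : Nat.card (AdjoinRoot f) = q ^ d := by
    rw [Nat.card_eq_fintype_card, Module.card_eq_pow_finrank (K := F), hfr]
  -- the norm of the root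
  have hN : algebraMap F (AdjoinRoot f) (Algebra.norm F ρ) = ρ ^ geom q d := by
    rw [FiniteField.algebraMap_norm_eq_pow, hcard, Nat.card_eq_fintype_card, ← hq, ← geom_mul q d (by omega),
      Nat.mul_div_cancel _ (by omega)]
  have hN2 : Algebra.norm F ρ = (-1) ^ d * f.coeff 0 := by
    have h := Algebra.PowerBasis.norm_gen_eq_coeff_zero_minpoly (AdjoinRoot.powerBasis hf.ne_zero)
    rw [AdjoinRoot.powerBasis_gen, AdjoinRoot.powerBasis_dim, AdjoinRoot.minpoly_root hf.ne_zero, hfm.leadingCoeff,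
      inv_one, map_one, mul_one] at h
    exact h
  have hNk : (Algebra.norm F ρ) ^ k = 1 := by
    have h := Matrix.det_eq_sign_charpoly_coeff (g : Matrix (Fin n) (Fin n) F)
    rw [g.2, hχ, coeff_zero_eq_eval_zero, eval_pow, Fintype.card_fin, hdk, pow_mul, ← mul_pow,
      ← coeff_zero_eq_eval_zero, ← hN2] at h
    exact h.symm
  have hN0 : Algebra.norm F ρ ≠ 0 := fun h => by
    rw [h, zero_pow (by rintro rfl; rw [mul_zero] at hdk; omega)] at hNk
    exact zero_ne_one hNk
  -- the root is killed by the geometric sum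
  have hρ : ρ ^ geom q n = 1 := by
    have e : geom q n = geom q d * geom (q ^ d) k := by
      refine Nat.eq_of_mul_eq_mul_right (show 0 < q - 1 by omega) ?_
      rw [geom_mul q n (by omega), mul_right_comm, geom_mul q d (by omega), mul_comm,
        geom_mul (q ^ d) k (Nat.one_le_pow _ _ (by omega)), ← pow_mul, ← hdk]
    rw [e, pow_mul, ← hN, ← map_pow]
    have hper : Algebra.norm F ρ ^ geom (q ^ d) k = Algebra.norm F ρ ^ k := by
      have hmod : geom (q ^ d) k ≡ k [MOD q - 1] :=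
        (geom_modEq (q ^ d) (Nat.one_le_pow _ _ (by omega)) k).of_dvd (Nat.sub_one_dvd_pow_sub_one q d)
      have key : ∀ i, Algebra.norm F ρ ^ i = Algebra.norm F ρ ^ (i % (q - 1)) := fun i => by
        conv_lhs => rw [← Nat.div_add_mod i (q - 1), pow_add, pow_mul,
          FiniteField.pow_card_sub_one_eq_one _ hN0, one_pow, one_mul]
      rw [key, key k, hmod]
    rw [hper, hNk, map_one]
  obtain ⟨c, hc⟩ : ∃ c : F, algebraMap F (AdjoinRoot f) c = ρ ^ sing q n := by
    set y := ρ ^ sing q n with hy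
    have hy' : y ^ q = y := by
      obtain ⟨m, hm⟩ := geom_dvd_sing_mul q n (by omega)
      have h1 : y ^ (q - 1) = 1 := by rw [hy, ← pow_mul, hm, pow_mul, hρ, one_pow]
      calc y ^ q = y ^ (q - 1) * y := by rw [← pow_succ, Nat.sub_add_cancel (by omega)]
        _ = y := by rw [h1, one_mul]
    by_contra hcon
    push Not at hcon
    have hne : (X ^ q - X : (AdjoinRoot f)[X]) ≠ 0 := FiniteField.X_pow_card_sub_X_ne_zero _ (by omega)
    have hsub : insert y (Finset.univ.image (algebraMap F (AdjoinRoot f))) ⊆ (X ^ q - X : (AdjoinRoot f)[X]).roots.toFinset := by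
      intro x hx
      rw [Multiset.mem_toFinset, mem_roots hne, IsRoot, eval_sub, eval_pow, eval_X, sub_eq_zero]
      rw [Finset.mem_insert, Finset.mem_image] at hx
      rcases hx with rfl | ⟨c, -, rfl⟩
      · exact hy'
      · rw [← map_pow, hq, FiniteField.pow_card]
    have := (Finset.card_le_card hsub).trans ((Multiset.toFinset_card_le _).trans (card_roots' _))
    rw [Finset.card_insert_of_notMem (by simpa using hcon),
      Finset.card_image_of_injective _ (algebraMap F (AdjoinRoot f)).injective, Finset.card_univ,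
      FiniteField.X_pow_card_sub_X_natDegree_eq _ (by omega), ← hq] at this
    omega
  have hdvd : f ∣ X ^ sing q n - C c := by
    rw [← AdjoinRoot.mk_eq_zero, map_sub, map_pow, AdjoinRoot.mk_X, AdjoinRoot.mk_C, ← hρdef,
      ← AdjoinRoot.algebraMap_eq, hc, sub_self]
  have hkn : k ≤ p ^ Nat.clog p n := by
    refine le_trans ?_ (Nat.le_pow_clog (Fact.out : p.Prime).one_lt n)
    rw [hdk]
    exact Nat.le_mul_of_pos_left k hf.natDegree_pos
  have hdvd' : (g : Matrix (Fin n) (Fin n) F).charpoly ∣ (X ^ sing q n - C c) ^ p ^ Nat.clog p n :=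
    hχ ▸ (pow_dvd_pow f hkn).trans (pow_dvd_pow_of_dvd hdvd _)
  rw [sub_pow_char_pow, ← pow_mul, ← map_pow] at hdvd'
  obtain ⟨B, hB⟩ := hdvd'
  have h := congrArg (aeval (g : Matrix (Fin n) (Fin n) F)) hB
  rw [map_mul, Matrix.aeval_self_charpoly, zero_mul, map_sub, map_pow, aeval_X, aeval_C, sub_eq_zero,
    Algebra.algebraMap_eq_smul_one] at h
  rw [← map_pow, toPSL_eq_one_iff]
  exact mem_center_of_scalar hn ((Matrix.SpecialLinearGroup.coe_pow g _).trans h)

/-- Either a nontrivial commuting idempotent exists or the order is bounded. -/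
theorem idem_or_bound {p a : ℕ} [Fact p.Prime] [CharP F p] (hF : Fintype.card F = p ^ a) (hn : 1 ≤ n)
    (g : SpecialLinearGroup (Fin n) F) :
    (∃ e : Matrix (Fin n) (Fin n) F, e * e = e ∧ e ≠ 0 ∧ e ≠ 1 ∧ Commute (g : Matrix (Fin n) (Fin n) F) e) ∨
      orderOf (toPSL g) ∣ sing (Fintype.card F) n * p ^ Nat.clog p n := by
  set χ := (g : Matrix (Fin n) (Fin n) F).charpoly with hχ
  have hm : χ.Monic := Matrix.charpoly_monic _
  have hdeg : χ.natDegree = n := by rw [hχ, Matrix.charpoly_natDegree_eq_dim, Fintype.card_fin]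
  obtain ⟨f, hfm, hf, hfd⟩ := Polynomial.exists_monic_irreducible_factor χ
    (fun hu => by rw [Polynomial.natDegree_eq_zero_of_isUnit hu] at hdeg; omega)
  obtain ⟨B, hB, hfB⟩ := (FiniteMultiplicity.of_prime_left hf.prime hm.ne_zero).exists_eq_pow_mul_and_not_dvd
  rcases Nat.eq_zero_or_pos B.natDegree with hB0 | hB0
  · right
    have hk0 : (f ^ multiplicity f χ).Monic := hfm.pow _
    have hBm : B.Monic := hk0.of_mul_monic_left (hB ▸ hm)
    rw [hBm.natDegree_eq_zero.1 hB0, mul_one] at hB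
    exact orderOf_dvd_of_pow_eq_one (primary_pow_scalar hF g hfm hf hB)
  · left
    refine exists_idem_of_coprime _ hB ?_ hB0 ((hf.coprime_iff_not_dvd.2 hfB).pow_left)
    rw [natDegree_pow]
    refine Nat.mul_pos (Nat.pos_of_ne_zero fun h0 => hfB ?_) hf.natDegree_pos
    rw [h0, pow_zero, one_mul] at hB
    exact hB ▸ hfd

/-! ### Witnesses -/

theorem exists_singer (hn : 1 ≤ n) :
    ∃ g : SpecialLinearGroup (Fin n) F, sing (Fintype.card F) n ∣ orderOf (toPSL g) := by
  classical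
  obtain ⟨p, hp⟩ := CharP.exists F
  haveI : Fact p.Prime := ⟨CharP.char_is_prime F p⟩
  haveI : NeZero n := ⟨by omega⟩
  let E := FiniteField.Extension F p n
  haveI : Fintype E := Fintype.ofFinite E
  set q := Fintype.card F with hq
  have hq2 : 2 ≤ q := Fintype.one_lt_card
  obtain ⟨γ, hγ⟩ := IsCyclic.exists_generator (α := Eˣ)
  let b : Module.Basis (Fin n) F E := Module.finBasisOfFinrankEq F E (FiniteField.finrank_extension F p n)
  have hcE : Fintype.card E = q ^ n := by
    rw [Module.card_eq_pow_finrank (K := F) (V := E), FiniteField.finrank_extension]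
  have hcard : orderOf γ = geom q n * (q - 1) := by
    rw [orderOf_eq_card_of_forall_mem_zpowers hγ, Nat.card_units, Nat.card_eq_fintype_card, hcE,
      geom_mul q n (by omega)]
  have hdet : (Algebra.leftMulMatrix b ((γ ^ (q - 1) : Eˣ) : E)).det = 1 := by
    rw [← Algebra.norm_eq_matrix_det b]
    apply (algebraMap F E).injective
    rw [FiniteField.algebraMap_norm_eq_pow, map_one, Nat.card_eq_fintype_card, Nat.card_eq_fintype_card, hcE,
      ← hq, ← geom_mul q n (by omega), Nat.mul_div_cancel _ (by omega), ← Units.val_pow_eq_pow_val, ← pow_mul,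
      mul_comm, ← hcard, pow_orderOf_eq_one, Units.val_one]
  let g : Matrix.SpecialLinearGroup (Fin n) F := ⟨_, hdet⟩
  refine ⟨g, ?_⟩
  set m := orderOf (toPSL g)
  have hm : toPSL (g ^ m) = 1 := by rw [map_pow, pow_orderOf_eq_one]
  obtain ⟨c, hc⟩ := exists_scalar_of_center (toPSL_eq_one_iff.1 hm)
  rw [Matrix.SpecialLinearGroup.coe_pow] at hc
  change Algebra.leftMulMatrix b ((γ ^ (q - 1) : Eˣ) : E) ^ m = _ at hc
  rw [← map_pow, ← Algebra.algebraMap_eq_smul_one, ← AlgHom.commutes (Algebra.leftMulMatrix b) c] at hc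
  have h2 := Algebra.leftMulMatrix_injective b hc
  have hc0 : c ≠ 0 := by
    rintro rfl
    rw [map_zero] at h2
    exact pow_ne_zero m (Units.ne_zero _) h2
  have h3 : γ ^ ((q - 1) * m * (q - 1)) = 1 := by
    apply Units.ext
    rw [Units.val_pow_eq_pow_val, pow_mul, pow_mul, ← Units.val_pow_eq_pow_val γ, h2, ← map_pow, hq,
      FiniteField.pow_card_sub_one_eq_one c hc0, map_one, Units.val_one]
  have h4 := orderOf_dvd_of_pow_eq_one h3
  rw [hcard] at h4
  refine dvd_of_geom_dvd q n m hq2 ?_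
  rw [mul_comm (q - 1) m] at h4
  exact Nat.dvd_of_mul_dvd_mul_right (by omega) h4

/-- The nilpotent Jordan block supported on the first `m` coordinates. -/
def shiftTo (n m : ℕ) (F : Type*) [Zero F] [One F] : Matrix (Fin n) (Fin n) F :=
  Matrix.of fun i j => if (j : ℕ) = i + 1 ∧ (j : ℕ) < m then 1 else 0

omit [Fintype F] in
theorem shiftTo_pow (m : ℕ) : ∀ (k : ℕ) (i j : Fin n),
    (shiftTo n m F ^ (k + 1)) i j = if (j : ℕ) = i + (k + 1) ∧ (j : ℕ) < m then 1 else 0 := by
  intro k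
  induction k with
  | zero => intro i j; rw [pow_one]; rfl
  | succ k ih =>
    intro i j
    rw [pow_succ, Matrix.mul_apply]
    simp only [ih]
    simp only [shiftTo, Matrix.of_apply, ite_mul, one_mul, zero_mul]
    by_cases h : (j : ℕ) = i + (k + 1 + 1) ∧ (j : ℕ) < m
    · obtain ⟨h1, h2⟩ := h
      have hb : (i : ℕ) + (k + 1) < n := by have := j.isLt; omega
      rw [Finset.sum_eq_single ⟨i + (k + 1), hb⟩]
      · rw [if_pos (⟨rfl, by show (i : ℕ) + (k + 1) < m; omega⟩), if_pos, if_pos ⟨h1, h2⟩]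
        exact ⟨by show _ = _ + (k + 1) + 1; omega, h2⟩
      · intro b _ hb'
        rw [if_neg]
        exact fun e => hb' (Fin.ext e.1)
      · simp
    · rw [if_neg h]
      refine Finset.sum_eq_zero fun b _ => ?_
      split_ifs with h1 h2
      · exact absurd ⟨by omega, h2.2⟩ h
      · rfl
      · rfl

omit [Fintype F] in
theorem det_one_add_shiftTo (m : ℕ) : (1 + shiftTo n m F).det = 1 := by
  rw [Matrix.det_of_upperTriangular]
  · refine Finset.prod_eq_one fun i _ => ?_
    simp [shiftTo]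
  · intro i j hij
    have hij' : (j : ℕ) < i := hij
    simp [shiftTo, Matrix.one_apply, Fin.ext_iff, show ¬ (i : ℕ) = j by omega, show ¬ (j : ℕ) = i + 1 by omega]

/-- A unipotent element of maximal order. -/
theorem exists_unipotent {p : ℕ} [Fact p.Prime] [CharP F p] (hn : 2 ≤ n) {m : ℕ}
    (hm : p ^ (Nat.clog p n - 1) < m) (hmn : m ≤ n) :
    ∃ g : SpecialLinearGroup (Fin n) F, (g : Matrix (Fin n) (Fin n) F) = 1 + shiftTo n m F ∧
      orderOf (toPSL g) = p ^ Nat.clog p n := by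
  have hp := (Fact.out : p.Prime)
  obtain ⟨t, ht⟩ : ∃ t, Nat.clog p n = t + 1 :=
    ⟨Nat.clog p n - 1, by have := Nat.clog_pos hp.one_lt hn; omega⟩
  haveI : CharP (Matrix (Fin n) (Fin n) F) p := by
    haveI : Nonempty (Fin n) := ⟨⟨0, by omega⟩⟩
    exact charP_of_injective_algebraMap (algebraMap F (Matrix (Fin n) (Fin n) F)).injective p
  have hpow : ∀ k, (1 + shiftTo n m F) ^ p ^ k = 1 + shiftTo n m F ^ p ^ k := fun k => by
    rw [add_pow_char_pow_of_commute _ _ (Commute.one_left _), one_pow]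
  let g : Matrix.SpecialLinearGroup (Fin n) F := ⟨_, det_one_add_shiftTo m⟩
  refine ⟨g, rfl, ?_⟩
  rw [ht]
  refine orderOf_eq_prime_pow (fun h => ?_) ?_
  · rw [← map_pow, toPSL_eq_one_iff] at h
    obtain ⟨c, hc⟩ := exists_scalar_of_center h
    rw [Matrix.SpecialLinearGroup.coe_pow] at hc
    change (1 + shiftTo n m F) ^ p ^ t = _ at hc
    rw [hpow] at hc
    rw [ht, Nat.add_sub_cancel] at hm
    obtain ⟨s, hs⟩ : ∃ s, p ^ t = s + 1 := ⟨p ^ t - 1, by have := Nat.one_le_pow t p hp.pos; omega⟩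
    rw [hs] at hc hm
    have := congrFun (congrFun hc ⟨0, by omega⟩) ⟨s + 1, by omega⟩
    rw [Matrix.add_apply, shiftTo_pow] at this
    simp [Fin.ext_iff, show s + 1 < m by omega] at this
  · rw [← map_pow, toPSL_eq_one_iff]
    refine mem_center_of_scalar (c := 1) (by omega) ?_
    rw [Matrix.SpecialLinearGroup.coe_pow, one_smul]
    show (1 + shiftTo n m F) ^ p ^ (t + 1) = 1
    rw [hpow, add_eq_left]
    have hle := Nat.le_pow_clog hp.one_lt n
    rw [ht] at hle
    obtain ⟨s, hs⟩ : ∃ s, p ^ (t + 1) = s + 1 := ⟨p ^ (t + 1) - 1, by omega⟩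
    ext i j
    rw [hs, shiftTo_pow, if_neg (by have := j.isLt; omega)]
    rfl

omit [Fintype F] in
/-- The coordinate idempotent leaving out the last coordinate. -/
theorem idem_last (hn : 2 ≤ n) : ∃ e : Matrix (Fin n) (Fin n) F, e * e = e ∧ e ≠ 0 ∧ e ≠ 1 ∧
    Commute (1 + shiftTo n (n - 1) F) e := by
  refine ⟨Matrix.diagonal fun i : Fin n => if (i : ℕ) < n - 1 then 1 else 0, ?_, ?_, ?_, ?_⟩
  · rw [Matrix.diagonal_mul_diagonal]
    congr 1
    funext i
    split_ifs <;> simp
  · intro h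
    have := congrFun (congrFun h ⟨0, by omega⟩) ⟨0, by omega⟩
    simp [show 0 < n - 1 by omega] at this
  · intro h
    have := congrFun (congrFun h ⟨n - 1, by omega⟩) ⟨n - 1, by omega⟩
    simp at this
  · refine (Commute.one_left _).add_left ?_
    show _ * _ = _ * _
    ext i j
    rw [Matrix.mul_diagonal, Matrix.diagonal_mul]
    simp only [shiftTo, Matrix.of_apply]
    split_ifs <;> simp_all
    omega

/-! ### The statements -/

theorem orderOf_prod3 {A B C : Type*} [Monoid A] [Monoid B] [Monoid C] (x : A × B × C) :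
    orderOf x = Nat.lcm (orderOf x.1) (Nat.lcm (orderOf x.2.1) (orderOf x.2.2)) := by
  rw [Prod.orderOf x, Prod.orderOf x.2]

theorem range_absorb {A B : Type*} [Group A] [Group B] [Finite A]
    (h : ∀ (a : A) (b : B), ∃ a' : A, Nat.lcm (orderOf a) (orderOf b) ∣ orderOf a') :
    Set.range (orderOf : A × B → ℕ) = Set.range (orderOf : A → ℕ) := by
  ext e
  constructor
  · rintro ⟨⟨a, b⟩, rfl⟩
    obtain ⟨a', ha'⟩ := h a b
    rw [Prod.orderOf]
    exact ⟨a' ^ (orderOf a' / Nat.lcm (orderOf a) (orderOf b)), orderOf_pow_orderOf_div (orderOf_pos a').ne' ha'⟩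
  · rintro ⟨a, rfl⟩
    exact ⟨(a, 1), by rw [Prod.orderOf, orderOf_one, Nat.lcm_one_right]⟩

section Final

variable {p a : ℕ} (hp : p.Prime) (ha : 1 ≤ a) (hF : Fintype.card F = p ^ a) (hn : 2 ≤ n) (hr : r.Prime)
  (hrq : r ∣ Fintype.card F - 1) (hrn : ¬ r ∣ n)

include hr hrq in
theorem exists_zeta : ∃ ζ : Fˣ, orderOf ζ = r := by
  classical
  haveI := Fact.mk hr
  refine exists_prime_orderOf_dvd_card r ?_
  rwa [Fintype.card_units]

include hp ha hF hn hr hrq hrn in
/-- An element either absorbs `r` or has bounded order. -/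
theorem absorb_or_bound (x : ProjectiveSpecialLinearGroup (Fin n) F) :
    (∃ y : ProjectiveSpecialLinearGroup (Fin n) F, Nat.lcm (orderOf x) r ∣ orderOf y) ∨ orderOf x ∣ sing (Fintype.card F) n * p ^ Nat.clog p n := by
  haveI := Fact.mk hp
  haveI : CharP F p := charP_of_card_eq_prime_pow hF
  by_cases hx : r ∣ orderOf x
  · exact Or.inl ⟨x, Nat.lcm_dvd dvd_rfl hx⟩
  obtain ⟨g, rfl⟩ := toPSL_surjective x
  obtain ⟨ζ, hζ⟩ := exists_zeta hr hrq
  rcases idem_or_bound hF (by omega) g with ⟨e, he, h0, h1, hc⟩ | h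
  · obtain ⟨z, hz, hcomm⟩ := exists_torus_of_idem hr hζ hrn e he h0 h1
    refine Or.inl ⟨toPSL g * toPSL z, ?_⟩
    have hcop : Nat.Coprime (orderOf (toPSL g)) (orderOf (toPSL z)) := by
      rw [hz]; exact Nat.Coprime.symm ((Nat.Prime.coprime_iff_not_dvd hr).2 hx)
    rw [((hcomm g hc).map toPSL).orderOf_mul_eq_mul_orderOf_of_coprime hcop, hz]
    exact Nat.lcm_dvd (dvd_mul_right _ _) (dvd_mul_left _ _)
  · exact Or.inr h

include hp ha hF hn in
theorem coprime_sing : Nat.Coprime (sing (Fintype.card F) n) (p ^ Nat.clog p n) := by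
  refine Nat.Coprime.pow_right _ (Nat.Coprime.symm ((Nat.Prime.coprime_iff_not_dvd hp).2 fun h => ?_))
  refine not_dvd_geom hp ha (show 1 ≤ n by omega) (h.trans ?_)
  rw [hF]
  exact Nat.div_dvd_of_dvd (gcd_dvd_geom _ _ (Nat.one_le_pow _ _ hp.pos))

include hp ha hF hn hr hrq hrn in
theorem three_absorb (x : ProjectiveSpecialLinearGroup (Fin n) F × ProjectiveSpecialLinearGroup (Fin n) F ×
    ProjectiveSpecialLinearGroup (Fin n) F) : ∃ y : ProjectiveSpecialLinearGroup (Fin n) F ×
      ProjectiveSpecialLinearGroup (Fin n) F × ProjectiveSpecialLinearGroup (Fin n) F,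
      Nat.lcm (orderOf x) r ∣ orderOf y := by
  obtain ⟨x₁, x₂, x₃⟩ := x
  rcases absorb_or_bound hp ha hF hn hr hrq hrn x₁ with ⟨y, hy⟩ | h₁
  · refine ⟨(y, x₂, x₃), ?_⟩
    simp only [orderOf_prod3]
    exact Nat.lcm_dvd (lcm_dvd_lcm ((Nat.dvd_lcm_left _ _).trans hy) dvd_rfl)
      (((Nat.dvd_lcm_right _ _).trans hy).trans (Nat.dvd_lcm_left _ _))
  rcases absorb_or_bound hp ha hF hn hr hrq hrn x₂ with ⟨y, hy⟩ | h₂
  · refine ⟨(x₁, y, x₃), ?_⟩
    simp only [orderOf_prod3]
    exact Nat.lcm_dvd (lcm_dvd_lcm dvd_rfl (lcm_dvd_lcm ((Nat.dvd_lcm_left _ _).trans hy) dvd_rfl))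
      ((((Nat.dvd_lcm_right _ _).trans hy).trans (Nat.dvd_lcm_left _ _)).trans (Nat.dvd_lcm_right _ _))
  rcases absorb_or_bound hp ha hF hn hr hrq hrn x₃ with ⟨y, hy⟩ | h₃
  · refine ⟨(x₁, x₂, y), ?_⟩
    simp only [orderOf_prod3]
    exact Nat.lcm_dvd (lcm_dvd_lcm dvd_rfl (lcm_dvd_lcm dvd_rfl ((Nat.dvd_lcm_left _ _).trans hy)))
      ((((Nat.dvd_lcm_right _ _).trans hy).trans (Nat.dvd_lcm_right _ _)).trans (Nat.dvd_lcm_right _ _))
  haveI := Fact.mk hp
  haveI : CharP F p := charP_of_card_eq_prime_pow hF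
  obtain ⟨ζ, hζ⟩ := exists_zeta hr hrq
  obtain ⟨s, hs⟩ := exists_singer (F := F) (n := n) (by omega)
  obtain ⟨u, -, hu⟩ := exists_unipotent (F := F) (p := p) hn (m := n)
    (Nat.pow_lt_of_lt_clog (by have := Nat.clog_pos hp.one_lt hn; omega)) le_rfl
  obtain ⟨e, he, h0, h1, -⟩ := idem_last (F := F) hn
  obtain ⟨z, hz, -⟩ := exists_torus_of_idem hr hζ hrn e he h0 h1
  refine ⟨(toPSL s, toPSL u, toPSL z), ?_⟩
  simp only [orderOf_prod3]
  rw [hu, hz]
  refine Nat.lcm_dvd ((Nat.lcm_dvd h₁ (Nat.lcm_dvd h₂ h₃)).trans ?_)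
    ((Nat.dvd_lcm_right _ _).trans (Nat.dvd_lcm_right _ _))
  exact (coprime_sing hp ha hF hn).mul_dvd_of_dvd_of_dvd (hs.trans (Nat.dvd_lcm_left _ _))
    ((Nat.dvd_lcm_left _ _).trans (Nat.dvd_lcm_right _ _))

include hp ha hF hn hr hrq hrn in
theorem two_absorb (hne : ¬ ∃ j : ℕ, n - 1 = p ^ j)
    (x : ProjectiveSpecialLinearGroup (Fin n) F × ProjectiveSpecialLinearGroup (Fin n) F) :
    ∃ y : ProjectiveSpecialLinearGroup (Fin n) F × ProjectiveSpecialLinearGroup (Fin n) F,
      Nat.lcm (orderOf x) r ∣ orderOf y := by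
  obtain ⟨x₁, x₂⟩ := x
  rcases absorb_or_bound hp ha hF hn hr hrq hrn x₁ with ⟨y, hy⟩ | h₁
  · refine ⟨(y, x₂), ?_⟩
    simp only [Prod.orderOf]
    exact Nat.lcm_dvd (lcm_dvd_lcm ((Nat.dvd_lcm_left _ _).trans hy) dvd_rfl)
      (((Nat.dvd_lcm_right _ _).trans hy).trans (Nat.dvd_lcm_left _ _))
  rcases absorb_or_bound hp ha hF hn hr hrq hrn x₂ with ⟨y, hy⟩ | h₂
  · refine ⟨(x₁, y), ?_⟩
    simp only [Prod.orderOf]
    exact Nat.lcm_dvd (lcm_dvd_lcm dvd_rfl ((Nat.dvd_lcm_left _ _).trans hy))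
      (((Nat.dvd_lcm_right _ _).trans hy).trans (Nat.dvd_lcm_right _ _))
  haveI := Fact.mk hp
  haveI : CharP F p := charP_of_card_eq_prime_pow hF
  obtain ⟨ζ, hζ⟩ := exists_zeta hr hrq
  obtain ⟨s, hs⟩ := exists_singer (F := F) (n := n) (by omega)
  have hlt : p ^ (Nat.clog p n - 1) < n - 1 := by
    have h1 : p ^ (Nat.clog p n - 1) < n :=
      Nat.pow_lt_of_lt_clog (by have := Nat.clog_pos hp.one_lt hn; omega)
    have h2 : p ^ (Nat.clog p n - 1) ≠ n - 1 := fun h => hne ⟨_, h.symm⟩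
    omega
  obtain ⟨u, hu', hu⟩ := exists_unipotent (F := F) (p := p) hn hlt (Nat.sub_le _ _)
  obtain ⟨e, he, h0, h1, hce⟩ := idem_last (F := F) hn
  obtain ⟨z, hz, hcomm⟩ := exists_torus_of_idem hr hζ hrn e he h0 h1
  have hrp : Nat.Coprime (p ^ Nat.clog p n) r := by
    refine Nat.Coprime.pow_left _ ((Nat.coprime_primes hp hr).2 ?_)
    rintro rfl
    have h3 : p ∣ Fintype.card F := hF ▸ dvd_pow_self p (by omega)
    have := Nat.dvd_sub h3 hrq
    rw [show Fintype.card F - (Fintype.card F - 1) = 1 by have := Fintype.card_pos (α := F); omega] at this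
    exact hp.not_dvd_one this
  refine ⟨(toPSL s, toPSL u * toPSL z), ?_⟩
  simp only [Prod.orderOf]
  rw [((hcomm u (hu' ▸ hce)).map toPSL).orderOf_mul_eq_mul_orderOf_of_coprime (by rw [hu, hz]; exact hrp), hu, hz]
  refine Nat.lcm_dvd ((Nat.lcm_dvd h₁ h₂).trans ?_) ((dvd_mul_left r _).trans (Nat.dvd_lcm_right _ _))
  exact (coprime_sing hp ha hF hn).mul_dvd_of_dvd_of_dvd (hs.trans (Nat.dvd_lcm_left _ _))
    ((dvd_mul_right _ r).trans (Nat.dvd_lcm_right _ _))

theorem orderOf_vec_dvd {m : ℕ} (v : Multiplicative (Fin m → ZMod r)) : orderOf v ∣ r := by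
  apply orderOf_dvd_of_pow_eq_one
  refine Multiplicative.toAdd.injective (funext fun i => ?_)
  show r • (Multiplicative.toAdd v) i = 0
  simp

end Final

end CfsgLib.Spec
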