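/-
The Suzuki groups as stabilisers of the Suzuki–Tits ovoid.
-/
import Cfsg.Prelude.Def_LieExceptional

set_option autoImplicit false
set_option maxHeartbeats 1000000

namespace CfsgLib.Lie.SzOvoid

open scoped Matrix Pointwise
open Cfsg MulAction

variable {F : Type*} [Field F]

/-- The parameters of a Suzuki group. -/
structure Par (F : Type*) [Field F] [Fintype F] (m : ℕ) : Prop where
  hm : 1 ≤ m
  hF : Fintype.card F = 2 ^ (2 * m + 1)
  hc : CharP F 2

theorem par_mk [Fintype F] {m : ℕ} (hm : 1 ≤ m) (hF : Fintype.card F = 2 ^ (2 * m + 1)) : Par F m := by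
  haveI : Fact (Nat.Prime 2) := ⟨Nat.prime_two⟩
  exact ⟨hm, hF, charP_of_card_eq_prime_pow hF⟩

/-- The exponent of the automorphism. -/
def ee (m : ℕ) : ℕ := 2 ^ (m + 1)

theorem ee_def (m : ℕ) : ee m = 2 ^ (m + 1) := rfl

theorem ee_ne (m : ℕ) : ee m ≠ 0 := pow_ne_zero _ two_ne_zero

/-- The form defining the ovoid. -/
def NN (m : ℕ) (x y : F) : F := x * y + x ^ (ee m + 2) + y ^ ee m

/-- The vector of an affine point of the ovoid. -/
def vec (m : ℕ) (x y : F) : Fin 4 → F := ![NN m x y, y, x, 1]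

theorem vec_ne (m : ℕ) (x y : F) : vec m x y ≠ 0 := fun h => by simpa [vec] using congrFun h 3

/-- An affine point of the ovoid. -/
def pt (m : ℕ) (x y : F) : Projectivization F (Fin 4 → F) := Projectivization.mk F (vec m x y) (vec_ne m x y)

theorem pt_ne_inf (m : ℕ) (x y : F) : pt m x y ≠ suzukiPointInfinity F := by
  intro h
  obtain ⟨a, ha⟩ := (Projectivization.mk_eq_mk_iff' F _ _ _ _).1 h
  simpa [vec] using congrFun ha 3

theorem pt_inj {m : ℕ} {x y x' y' : F} (h : pt m x y = pt m x' y') : x = x' ∧ y = y' := by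
  obtain ⟨a, ha⟩ := (Projectivization.mk_eq_mk_iff' F _ _ _ _).1 h
  have h3 := congrFun ha 3
  simp [vec] at h3
  subst h3
  have h2 := congrFun ha 2
  have h1 := congrFun ha 1
  simp [vec] at h1 h2
  exact ⟨h2.symm, h1.symm⟩

theorem mem_ovoid {m : ℕ} {p : Projectivization F (Fin 4 → F)} :
    p ∈ suzukiOvoid F m ↔ p = suzukiPointInfinity F ∨ ∃ x y, p = pt m x y := by
  constructor
  · rintro ⟨v, hv, rfl, rfl | ⟨x, y, rfl⟩⟩
    · exact Or.inl rfl
    · exact Or.inr ⟨x, y, rfl⟩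
  · rintro (rfl | ⟨x, y, rfl⟩)
    · exact ⟨_, by simp, rfl, Or.inl rfl⟩
    · exact ⟨_, vec_ne m x y, rfl, Or.inr ⟨x, y, rfl⟩⟩

theorem inf_mem (m : ℕ) : suzukiPointInfinity F ∈ suzukiOvoid F m := mem_ovoid.2 (Or.inl rfl)
theorem pt_mem (m : ℕ) (x y : F) : pt m x y ∈ suzukiOvoid F m := mem_ovoid.2 (Or.inr ⟨x, y, rfl⟩)

theorem zero_eq (m : ℕ) : suzukiPointZero F = pt m 0 0 := by
  unfold suzukiPointZero pt
  congr 1
  simp [vec, NN, ee_ne m]

theorem card_ovoid [Fintype F] (m : ℕ) : Nat.card (suzukiOvoid F m) = Fintype.card F ^ 2 + 1 := by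
  classical
  let f : Option (F × F) → suzukiOvoid F m := fun o =>
    o.elim ⟨_, inf_mem m⟩ fun p => ⟨_, pt_mem m p.1 p.2⟩
  have hb : Function.Bijective f := by
    refine ⟨?_, ?_⟩
    · rintro (_ | ⟨x, y⟩) (_ | ⟨x', y'⟩) h
      · rfl
      · exact absurd (Subtype.ext_iff.1 h).symm (pt_ne_inf m x' y')
      · exact absurd (Subtype.ext_iff.1 h) (pt_ne_inf m x y)
      · obtain ⟨rfl, rfl⟩ := pt_inj (Subtype.ext_iff.1 h); rfl
    · rintro ⟨p, hp⟩
      rcases mem_ovoid.1 hp with rfl | ⟨x, y, rfl⟩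
      · exact ⟨none, rfl⟩
      · exact ⟨some (x, y), rfl⟩
  rw [← Nat.card_eq_of_bijective f hb, Nat.card_eq_fintype_card, Fintype.card_option, Fintype.card_prod, sq]

variable [Fintype F] {m : ℕ} (P : Par F m)

include P

theorem two_eq : (2 : F) = 0 := haveI := P.hc; CharTwo.two_eq_zero

theorem sq_iter (x : F) : (x ^ ee m) ^ ee m = x ^ 2 := by
  rw [← pow_mul, show ee m * ee m = Fintype.card F * 2 by rw [P.hF, ee_def]; ring, pow_mul, FiniteField.pow_card]

theorem add_pow_ee (x y : F) : (x + y) ^ ee m = x ^ ee m + y ^ ee m := by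
  haveI := P.hc
  exact add_pow_char_pow x y 2 (m + 1)

theorem add_self (x : F) : x + x = 0 := by linear_combination x * two_eq P

theorem NN_translate (a b x y : F) :
    NN m (x + a) (y + a ^ ee m * x + b) = NN m x y + a * y + (a ^ (ee m + 1) + b) * x + NN m a b := by
  simp only [NN, pow_add, add_pow_ee P, mul_pow, sq_iter P]
  linear_combination (a ^ ee m * x ^ 2 + a ^ 2 * x ^ ee m + a * x * (x ^ ee m + a ^ ee m)) * two_eq P

theorem NN_scale (k x y : F) : NN m (k * x) (k ^ (ee m + 1) * y) = k ^ (ee m + 2) * NN m x y := by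
  simp only [NN, mul_pow, pow_add, pow_one, sq_iter P]
  ring

theorem NN_ne {x y : F} (h : x ≠ 0 ∨ y ≠ 0) : NN m x y ≠ 0 := by
  intro h0
  by_cases hx : x = 0
  · subst hx
    simp [NN, ee_ne m] at h0
    exact h.elim (fun h => h rfl) (fun h => h h0)
  · obtain ⟨u, rfl⟩ : ∃ u, y = x ^ (ee m + 1) * u := ⟨y / x ^ (ee m + 1), by field_simp⟩
    have h1 : NN m x (x ^ (ee m + 1) * u) = x ^ (ee m + 2) * NN m 1 u := by
      simpa using NN_scale P x 1 u
    rw [h1, mul_eq_zero, or_iff_right (pow_ne_zero _ hx), NN, one_mul, one_pow] at h0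
    have hu : u ^ ee m = u + 1 := by linear_combination h0 - (u + 1) * two_eq P
    have h2 : u ^ 2 = u := by
      rw [← sq_iter P, hu, add_pow_ee P, hu, one_pow]
      linear_combination two_eq P
    rcases (mul_eq_zero.1 (show u * (u - 1) = 0 by linear_combination h2)) with e | e
    · subst e; simp [zero_pow (ee_ne m)] at hu
    · rw [sub_eq_zero] at e; subst e; simp at hu

theorem NN_inv {x y : F} (h : x ≠ 0 ∨ y ≠ 0) : NN m (y / NN m x y) (x / NN m x y) = 1 / NN m x y := by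
  have hn := NN_ne P h
  have key : NN m x y * NN m x y ^ ee m =
      x * y * NN m x y ^ ee m + y ^ (ee m + 2) + x ^ ee m * NN m x y ^ 2 := by
    have e : NN m x y ^ ee m = x ^ ee m * y ^ ee m + x ^ 2 * (x ^ ee m) ^ 2 + y ^ 2 := by
      simp only [NN, pow_add, add_pow_ee P, mul_pow, sq_iter P, ← pow_mul]
      rw [mul_comm 2 (ee m)]
    rw [e]
    simp only [NN, pow_add]
    linear_combination (-(x ^ ee m) * x * y * (x ^ ee m * x ^ 2 + y ^ ee m)) * two_eq P
  generalize NN m x y = n at hn key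
  simp only [NN, div_pow, pow_add] at key ⊢
  field_simp
  linear_combination -key

theorem det_U (a b : F) :
    Matrix.det !![1, a, a ^ (ee m + 1) + b, NN m a b; 0, 1, a ^ ee m, b; 0, 0, 1, a; 0, 0, 0, 1] = 1 := by
  simp [Matrix.det_succ_column_zero, Fin.sum_univ_succ]

omit P in
theorem det_W : Matrix.det (!![0, 0, 0, 1; 0, 0, 1, 0; 0, 1, 0, 0; 1, 0, 0, 0] : Matrix (Fin 4) (Fin 4) F) = 1 := by
  simp [Matrix.det_succ_row_zero, Fin.sum_univ_succ, Fin.succAbove]
  norm_num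

omit P in
theorem det_H (k : Fˣ) : Matrix.det (Matrix.diagonal
    ![((k ^ (ee m + 1) : Fˣ) : F), (k : F), ((k⁻¹ : Fˣ) : F), (((k ^ (ee m + 1))⁻¹ : Fˣ) : F)]) = 1 := by
  simp [Matrix.det_diagonal, Fin.prod_univ_four]

/-- The unipotent matrices. -/
def mU (a b : F) : Matrix.SpecialLinearGroup (Fin 4) F := ⟨_, det_U P a b⟩

omit P in
/-- The Weyl matrix. -/
def mW : Matrix.SpecialLinearGroup (Fin 4) F := ⟨_, det_W (F := F)⟩

omit P in
/-- The diagonal matrices. -/
def mH (m : ℕ) (k : Fˣ) : Matrix.SpecialLinearGroup (Fin 4) F := ⟨_, det_H (m := m) k⟩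

omit P in
theorem smul_pt_of (g : Matrix.SpecialLinearGroup (Fin 4) F) {x y x' y' c : F} (hc : c ≠ 0)
    (h : (g : Matrix (Fin 4) (Fin 4) F) *ᵥ vec m x y = c • vec m x' y') : g • pt m x y = pt m x' y' := by
  rw [pt, Projectivization.smul_mk]
  exact (Projectivization.mk_eq_mk_iff' F _ _ _ _).2 ⟨c, h.symm⟩

theorem mU_pt (a b x y : F) : mU P a b • pt m x y = pt m (x + a) (y + a ^ ee m * x + b) := by
  refine smul_pt_of _ one_ne_zero ?_
  ext i
  fin_cases i <;> simp [mU, vec, Matrix.mulVec, dotProduct, Fin.sum_univ_four, NN_translate P] <;> ring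

theorem mU_inf (a b : F) : mU P a b • suzukiPointInfinity F = suzukiPointInfinity F := by
  rw [suzukiPointInfinity, Projectivization.smul_mk]
  refine (Projectivization.mk_eq_mk_iff' F _ _ _ _).2 ⟨1, ?_⟩
  show _ = (mU P a b : Matrix (Fin 4) (Fin 4) F) *ᵥ _
  ext i
  fin_cases i <;> simp [mU, Matrix.mulVec, dotProduct, Fin.sum_univ_four]

omit P in
theorem mW_inf : (mW : Matrix.SpecialLinearGroup (Fin 4) F) • suzukiPointInfinity F = pt m (0 : F) 0 := by
  rw [← zero_eq m, suzukiPointInfinity, suzukiPointZero, Projectivization.smul_mk]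
  refine (Projectivization.mk_eq_mk_iff' F _ _ _ _).2 ⟨1, ?_⟩
  show _ = (mW : Matrix.SpecialLinearGroup (Fin 4) F).1 *ᵥ _
  ext i
  fin_cases i <;> simp [mW, Matrix.mulVec, dotProduct, Fin.sum_univ_four]

omit P in
theorem mW_zero : (mW : Matrix.SpecialLinearGroup (Fin 4) F) • pt m (0 : F) 0 = suzukiPointInfinity F := by
  rw [← zero_eq m, suzukiPointInfinity, suzukiPointZero, Projectivization.smul_mk]
  refine (Projectivization.mk_eq_mk_iff' F _ _ _ _).2 ⟨1, ?_⟩
  show _ = (mW : Matrix.SpecialLinearGroup (Fin 4) F).1 *ᵥ _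
  ext i
  fin_cases i <;> simp [mW, Matrix.mulVec, dotProduct, Fin.sum_univ_four]

theorem mW_pt {x y : F} (h : x ≠ 0 ∨ y ≠ 0) :
    (mW : Matrix.SpecialLinearGroup (Fin 4) F) • pt m x y = pt m (y / NN m x y) (x / NN m x y) := by
  have hn := NN_ne P h
  refine smul_pt_of _ hn ?_
  ext i
  fin_cases i <;> simp [mW, vec, Matrix.mulVec, dotProduct, Fin.sum_univ_four, NN_inv P h] <;> field_simp

omit P in
theorem mH_inf (k : Fˣ) : mH m k • suzukiPointInfinity F = suzukiPointInfinity F := by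
  rw [suzukiPointInfinity, Projectivization.smul_mk]
  refine (Projectivization.mk_eq_mk_iff' F _ _ _ _).2 ⟨(k : F) ^ (ee m + 1), ?_⟩
  show _ = (mH m k).1 *ᵥ _
  ext i
  fin_cases i <;> simp [mH, Matrix.mulVec_diagonal]

theorem mH_pt (k : Fˣ) (x y : F) :
    mH m k • pt m x y = pt m ((k : F) ^ ee m * x) (((k : F) ^ ee m) ^ (ee m + 1) * y) := by
  have hk : (k : F) ≠ 0 := k.ne_zero
  refine smul_pt_of _ (inv_ne_zero (pow_ne_zero (ee m + 1) hk)) ?_
  have hs := NN_scale P ((k : F) ^ ee m) x y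
  simp only [pow_add, pow_one, sq_iter P] at hs
  have hs' : NN m ((k : F) ^ ee m * x) ((k : F) ^ ee m * (k : F) ^ 2 * y) =
      (k : F) ^ 2 * ((k : F) ^ ee m) ^ 2 * NN m x y := by rw [mul_comm ((k : F) ^ ee m) ((k : F) ^ 2)]; exact hs
  ext i
  fin_cases i <;>
    simp [mH, vec, Matrix.mulVec_diagonal, pow_add, sq_iter P] <;> field_simp
  all_goals first | linear_combination -hs' | linear_combination hs' | linear_combination -hs

theorem mem_Sz {g : Matrix.SpecialLinearGroup (Fin 4) F} (h1 : g • suzukiPointInfinity F ∈ suzukiOvoid F m)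
    (h2 : ∀ x y, g • pt m x y ∈ suzukiOvoid F m) : g ∈ Sz F m := by
  haveI : Finite (Projectivization F (Fin 4 → F)) := inferInstance
  rw [mem_stabilizer_set_iff_smul_set_subset (Set.toFinite _)]
  rintro _ ⟨p, hp, rfl⟩
  rcases mem_ovoid.1 hp with rfl | ⟨x, y, rfl⟩
  · exact h1
  · exact h2 x y

theorem mU_mem (a b : F) : mU P a b ∈ Sz F m :=
  mem_Sz P (by rw [mU_inf]; exact inf_mem m) fun x y => by rw [mU_pt]; exact pt_mem m _ _

theorem mW_mem : (mW : Matrix.SpecialLinearGroup (Fin 4) F) ∈ Sz F m :=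
  mem_Sz P (by rw [mW_inf (m := m)]; exact pt_mem m _ _) fun x y => by
    by_cases h : x = 0 ∧ y = 0
    · rw [h.1, h.2, mW_zero]; exact inf_mem m
    · rw [mW_pt P (not_and_or.1 h)]; exact pt_mem m _ _

theorem mH_mem (k : Fˣ) : mH m k ∈ Sz F m :=
  mem_Sz P (by rw [mH_inf]; exact inf_mem m) fun x y => by rw [mH_pt P]; exact pt_mem m _ _

theorem pow_ee_eq_one {k : F} (h : k ^ ee m = 1) : k = 1 := by
  have h2 : k ^ 2 = 1 := by rw [← sq_iter P, h, one_pow]
  rcases sq_eq_one_iff.1 h2 with e | e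
  · exact e
  · rw [e]; linear_combination -two_eq P

theorem pow_ee_succ_eq_one {k : F} (h : k ^ (ee m + 1) = 1) : k = 1 := by
  rw [pow_succ] at h
  have h' : k ^ 2 * k ^ ee m = 1 := by rw [← sq_iter P, ← mul_pow, h, one_pow]
  have hk : k ≠ 0 := fun e => by rw [e, mul_zero] at h; exact zero_ne_one h
  have : k * (k * k ^ ee m) = k * 1⁻¹⁻¹ * (k ^ ee m * k) := by ring
  have h3 : k * (k ^ ee m * k) = k ^ 2 * k ^ ee m := by ring
  rw [h, h', mul_one] at h3
  exact h3

theorem three_terms {A B C : F} (h : ∀ x : F, A * x ^ 2 + B * x ^ ee m + C * x ^ (ee m + 2) = 0) :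
    A = 0 ∧ B = 0 ∧ C = 0 := by
  classical
  have h4 : 4 ≤ ee m := by
    calc 4 = 2 ^ 2 := rfl
      _ ≤ 2 ^ (m + 1) := Nat.pow_le_pow_right two_pos (by have := P.hm; omega)
  have hlt : ee m + 2 < Fintype.card F := by
    have h1 : Fintype.card F = ee m * 2 ^ m := by rw [P.hF, ee_def, ← pow_add]; congr 1; omega
    have h2 : 2 ≤ 2 ^ m := by
      calc 2 = 2 ^ 1 := rfl
        _ ≤ 2 ^ m := Nat.pow_le_pow_right two_pos P.hm
    rw [h1]
    nlinarith
  set p : Polynomial F := Polynomial.C A * Polynomial.X ^ 2 + Polynomial.C B * Polynomial.X ^ ee m +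
    Polynomial.C C * Polynomial.X ^ (ee m + 2)
  have hdeg : p.natDegree < Fintype.card F :=
    lt_of_le_of_lt (Polynomial.natDegree_add_le_of_degree_le (Polynomial.natDegree_add_le_of_degree_le
      ((Polynomial.natDegree_C_mul_X_pow_le A 2).trans (by omega))
      ((Polynomial.natDegree_C_mul_X_pow_le B _).trans (by omega)))
      (Polynomial.natDegree_C_mul_X_pow_le C _)) hlt
  have hp : p = 0 := Polynomial.eq_zero_of_natDegree_lt_card_of_eval_eq_zero p
    (f := (id : F → F)) Function.injective_id (fun x => by simpa [p] using h x) hdeg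
  have c := fun n => congrArg (fun q => Polynomial.coeff q n) hp
  have c2 := c 2
  have ce := c (ee m)
  have ce2 := c (ee m + 2)
  simp only [p, Polynomial.coeff_add, Polynomial.coeff_C_mul_X_pow, Polynomial.coeff_zero] at c2 ce ce2
  simp [ show (2 : ℕ) ≠ ee m by omega, show ee m ≠ 0 by omega,
    show ee m ≠ 2 by omega] at c2 ce ce2
  exact ⟨c2, ce, ce2⟩

theorem two_point {g : Matrix.SpecialLinearGroup (Fin 4) F} (hg : g ∈ Sz F m)
    (h1 : g • suzukiPointInfinity F = suzukiPointInfinity F) (h2 : g • pt m (0 : F) 0 = pt m 0 0) :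
    ∃ k : Fˣ, g = mH m k := by
  have hS : ∀ g ∈ Sz F m, g • suzukiPointInfinity F = suzukiPointInfinity F → g • pt m (0 : F) 0 = pt m 0 0 →
      ((g.1 0 0 ≠ 0 ∧ g.1 1 0 = 0 ∧ g.1 2 0 = 0 ∧ g.1 3 0 = 0) ∧
        (g.1 0 3 = 0 ∧ g.1 1 3 = 0 ∧ g.1 2 3 = 0 ∧ g.1 3 3 ≠ 0)) ∧ g.1 3 1 = 0 ∧ g.1 3 2 = 0 := by
    intro g hg h1 h2
    have c0 : g.1 0 0 ≠ 0 ∧ g.1 1 0 = 0 ∧ g.1 2 0 = 0 ∧ g.1 3 0 = 0 := by
      rw [suzukiPointInfinity, Projectivization.smul_mk] at h1
      obtain ⟨a, ha⟩ := (Projectivization.mk_eq_mk_iff' F _ _ _ _).1 h1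
      change _ = g.1 *ᵥ _ at ha
      have e : ∀ i, g.1 i 0 = (a • (![1, 0, 0, 0] : Fin 4 → F)) i := fun i => by
        rw [ha]; simp [Matrix.mulVec, dotProduct, Fin.sum_univ_four]
      refine ⟨fun h0 => ?_, by simp [e], by simp [e], by simp [e]⟩
      have ha0 : a = 0 := by simpa [e] using h0
      have := g.2
      rw [Matrix.det_eq_zero_of_column_eq_zero 0 (fun i => by simp [e, ha0])] at this
      exact zero_ne_one this
    have c3 : g.1 0 3 = 0 ∧ g.1 1 3 = 0 ∧ g.1 2 3 = 0 ∧ g.1 3 3 ≠ 0 := by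
      rw [← zero_eq m, suzukiPointZero, Projectivization.smul_mk] at h2
      obtain ⟨a, ha⟩ := (Projectivization.mk_eq_mk_iff' F _ _ _ _).1 h2
      change _ = g.1 *ᵥ _ at ha
      have e : ∀ i, g.1 i 3 = (a • (![0, 0, 0, 1] : Fin 4 → F)) i := fun i => by
        rw [ha]; simp [Matrix.mulVec, dotProduct, Fin.sum_univ_four]
      refine ⟨by simp [e], by simp [e], by simp [e], fun h0 => ?_⟩
      have ha0 : a = 0 := by simpa [e] using h0
      have := g.2
      rw [Matrix.det_eq_zero_of_column_eq_zero 3 (fun i => by simp [e, ha0])] at this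
      exact zero_ne_one this
    have hne : ∀ x y : F, g.1 3 1 * y + g.1 3 2 * x + g.1 3 3 ≠ 0 := by
      intro x y h0
      have hmem : g • pt m x y ∈ suzukiOvoid F m := by
        rw [← mem_stabilizer_iff.1 hg]; exact Set.smul_mem_smul_set (pt_mem m x y)
      rcases mem_ovoid.1 hmem with h | ⟨x', y', h⟩
      · exact pt_ne_inf m x y (smul_left_cancel g (h.trans h1.symm))
      · rw [pt, pt, Projectivization.smul_mk] at h
        obtain ⟨a, ha⟩ := (Projectivization.mk_eq_mk_iff' F _ _ _ _).1 h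
        change _ = g.1 *ᵥ _ at ha
        have e3 := congrFun ha 3
        simp [vec, Matrix.mulVec, dotProduct, Fin.sum_univ_four, c0.2.2.2, h0] at e3
        have h4 := congrArg (g⁻¹).1.mulVec ha.symm
        rw [e3, zero_smul, Matrix.mulVec_zero, Matrix.mulVec_mulVec, ← Matrix.SpecialLinearGroup.coe_mul,
          inv_mul_cancel, Matrix.SpecialLinearGroup.coe_one, Matrix.one_mulVec] at h4
        exact vec_ne m x y h4
    refine ⟨⟨c0, c3⟩, ?_, ?_⟩
    · by_contra hn
      refine hne 0 (g.1 3 3 / g.1 3 1) ?_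
      field_simp
      linear_combination g.1 3 3 * two_eq P
    · by_contra hn
      refine hne (g.1 3 3 / g.1 3 2) 0 ?_
      field_simp
      linear_combination g.1 3 3 * two_eq P
  obtain ⟨⟨⟨a00, a10, a20, a30⟩, a03, a13, a23, a33⟩, a31, a32⟩ := hS g hg h1 h2
  obtain ⟨-, b31, b32⟩ := hS (mW * g * mW) (mul_mem (mul_mem (mW_mem P) hg) (mW_mem P))
    (by rw [mul_smul, mul_smul, mW_inf (m := m), h2, mW_zero]) (by rw [mul_smul, mul_smul, mW_zero, h1, mW_inf])
  change ((mW : Matrix.SpecialLinearGroup (Fin 4) F).1 * g.1 * (mW : Matrix.SpecialLinearGroup (Fin 4) F).1) 3 1 = 0 at b31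
  change ((mW : Matrix.SpecialLinearGroup (Fin 4) F).1 * g.1 * (mW : Matrix.SpecialLinearGroup (Fin 4) F).1) 3 2 = 0 at b32
  simp [mW, Matrix.mul_apply, Matrix.vecMul, dotProduct, Fin.sum_univ_four] at b31 b32
  set δ := g.1 3 3 with hδ
  have hmap : ∀ x y : F, δ * NN m ((g.1 2 2 / δ) * x + (g.1 2 1 / δ) * y) ((g.1 1 2 / δ) * x + (g.1 1 1 / δ) * y) =
      g.1 0 0 * NN m x y := by
    intro x y
    have hmem : g • pt m x y ∈ suzukiOvoid F m := by
      rw [← mem_stabilizer_iff.1 hg]; exact Set.smul_mem_smul_set (pt_mem m x y)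
    rcases mem_ovoid.1 hmem with h | ⟨x', y', h⟩
    · exact absurd (smul_left_cancel g (h.trans h1.symm)) (pt_ne_inf m x y)
    · rw [pt, pt, Projectivization.smul_mk] at h
      obtain ⟨a, ha⟩ := (Projectivization.mk_eq_mk_iff' F _ _ _ _).1 h
      change _ = g.1 *ᵥ _ at ha
      have e0 := congrFun ha 0
      have e1 := congrFun ha 1
      have e2 := congrFun ha 2
      have e3 := congrFun ha 3
      simp [vec, Matrix.mulVec, dotProduct, Fin.sum_univ_four, a10, a20, a30, a03, a13, a23, a31, a32, b31, b32]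
        at e0 e1 e2 e3
      rw [show g.1 2 2 / δ * x + g.1 2 1 / δ * y = x' by
          field_simp; rw [hδ, ← e3]; linear_combination -e2,
        show g.1 1 2 / δ * x + g.1 1 1 / δ * y = y' by
          field_simp; rw [hδ, ← e3]; linear_combination -e1, hδ, ← e3]
      linear_combination e0
  set p := g.1 2 2 / δ with hp
  set r := g.1 2 1 / δ with hr
  set s := g.1 1 2 / δ with hs
  set t := g.1 1 1 / δ with ht
  set a := g.1 0 0 / δ with ha
  have hmap' : ∀ x y : F, NN m (p * x + r * y) (s * x + t * y) = a * NN m x y := fun x y => by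
    apply mul_left_cancel₀ a33
    rw [hmap x y, ha]
    field_simp
  have he : ee m ≠ 0 := ee_ne m
  obtain ⟨x1, x2, x3⟩ := three_terms P (A := p * s) (B := s ^ ee m) (C := p ^ (ee m + 2) - a) fun x => by
    have := hmap' x 0
    simp [NN, zero_pow he, mul_pow] at this
    linear_combination this
  obtain ⟨y1, y2, y3⟩ := three_terms P (A := r * t) (B := t ^ ee m - a) (C := r ^ (ee m + 2)) fun y => by
    have := hmap' 0 y
    simp [NN, zero_pow he, mul_pow] at this
    linear_combination this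
  rw [pow_eq_zero_iff he] at x2
  rw [pow_eq_zero_iff (by omega)] at y3
  rw [sub_eq_zero] at x3 y2
  have h11 := hmap' 1 1
  simp [NN, x2, y3] at h11
  have hpt : p * t = a := by linear_combination h11 - x3 - y2
  have hane : a ≠ 0 := div_ne_zero a00 a33
  have hp0 : p ≠ 0 := fun e => hane (by rw [← hpt, e, zero_mul])
  have ht' : t = p ^ (ee m + 1) := mul_left_cancel₀ hp0 (by rw [hpt, ← x3]; ring)
  obtain ⟨k, hke, hk0⟩ : ∃ k : F, k ^ ee m = p ∧ k ≠ 0 := by
    refine ⟨p ^ 2 ^ m, ?_, pow_ne_zero _ hp0⟩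
    rw [← pow_mul, ee_def, ← pow_add, show m + (m + 1) = 2 * m + 1 by ring, ← P.hF, FiniteField.pow_card]
  have f2 : g.1 2 2 = δ * p := by rw [hp]; field_simp
  have f1 : g.1 1 1 = δ * t := by rw [ht]; field_simp
  have f0 : g.1 0 0 = δ * a := by rw [ha]; field_simp
  have f12 : g.1 1 2 = 0 := by simpa [hs, a33] using x2
  have f21 : g.1 2 1 = 0 := by simpa [hr, a33] using y3
  have hG : g.1 = Matrix.diagonal ![δ * a, δ * t, δ * p, δ] := by
    ext i j
    fin_cases i <;> fin_cases j <;> simp [a10, a20, a30, a03, a13, a23, a31, a32, b31, b32, f0, f1, f2, f12, f21, ← hδ]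
  have hdet := g.2
  rw [hG, Matrix.det_diagonal, Fin.prod_univ_four] at hdet
  simp at hdet
  rw [ht', ← x3] at hdet
  have hsq : (δ * k ^ (ee m + 1)) ^ 2 = 1 := by
    have e2 : (δ * k ^ (ee m + 1)) ^ 2 = δ ^ 2 * p ^ (ee m + 2) := by
      rw [← hke, pow_add (k ^ ee m), sq_iter P]
      ring
    have hZ : (δ ^ 2 * p ^ (ee m + 2)) ^ 2 = 1 := by rw [← hdet]; ring
    rw [e2]
    rcases sq_eq_one_iff.1 hZ with e | e
    · exact e
    · rw [e]; linear_combination -two_eq P
  have hδk : δ = (k ^ (ee m + 1))⁻¹ := by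
    refine eq_inv_of_mul_eq_one_left ?_
    rcases sq_eq_one_iff.1 hsq with e | e
    · exact e
    · rw [e]; linear_combination -two_eq P
  refine ⟨Units.mk0 k hk0, Subtype.ext ?_⟩
  rw [hG, ht', ← x3]
  show _ = Matrix.diagonal _
  congr 1
  have q1 : p ^ (ee m + 1) = k ^ 2 * k ^ ee m := by rw [← hke, pow_succ (k ^ ee m), sq_iter P]
  have q2 : p ^ (ee m + 2) = k ^ 2 * (k ^ ee m * k ^ ee m) := by
    rw [← hke, pow_add (k ^ ee m), sq_iter P, sq (k ^ ee m)]
  have hkp : k ^ (ee m + 1) ≠ 0 := pow_ne_zero _ hk0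
  have hke0 : k ^ ee m ≠ 0 := pow_ne_zero _ hk0
  ext i
  fin_cases i <;> simp [hδk, q1, q2]
  all_goals (rw [pow_succ k (ee m)])
  all_goals (field_simp)
  all_goals (rw [← hke])

end CfsgLib.Lie.SzOvoid
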