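/-
The Suzuki group of an ovoid: order, double transitivity, simplicity.
-/
import Cfsg.Agent.Lib.LieSuzukiOvoid

set_option autoImplicit false
set_option maxHeartbeats 1000000

namespace CfsgLib.Lie.SzOvoid

open scoped Matrix Pointwise
open Cfsg MulAction

variable {F : Type*} [Field F] [Fintype F] {m : ℕ} (P : Par F m)

include P

/-- A unipotent element of the group. -/
def sU (a b : F) : ↥(Sz F m) := ⟨mU P a b, mU_mem P a b⟩

/-- The Weyl element of the group. -/
def sW : ↥(Sz F m) := ⟨mW, mW_mem P⟩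

theorem sU_inf (a b : F) : (sU P a b : Matrix.SpecialLinearGroup (Fin 4) F) • suzukiPointInfinity F =
    suzukiPointInfinity F := mU_inf P a b

theorem sU_pt (a b x y : F) : (sU P a b : Matrix.SpecialLinearGroup (Fin 4) F) • pt m x y =
    pt m (x + a) (y + a ^ ee m * x + b) := mU_pt P a b x y

theorem sU_pt0 (a b : F) : (sU P a b : Matrix.SpecialLinearGroup (Fin 4) F) • pt m 0 0 = pt m a b := by
  rw [sU_pt]; simp

theorem eq_of_pts {g h : ↥(Sz F m)}
    (h1 : (g : Matrix.SpecialLinearGroup (Fin 4) F) • suzukiPointInfinity F =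
      (h : Matrix.SpecialLinearGroup (Fin 4) F) • suzukiPointInfinity F)
    (h2 : ∀ x y : F, (g : Matrix.SpecialLinearGroup (Fin 4) F) • pt m x y =
      (h : Matrix.SpecialLinearGroup (Fin 4) F) • pt m x y) : g = h := by
  have e1 : ((h⁻¹ * g : ↥(Sz F m)) : Matrix.SpecialLinearGroup (Fin 4) F) • suzukiPointInfinity F =
      suzukiPointInfinity F := by
    rw [Subgroup.coe_mul, Subgroup.coe_inv, mul_smul, h1, inv_smul_smul]
  have e2 : ∀ x y : F, ((h⁻¹ * g : ↥(Sz F m)) : Matrix.SpecialLinearGroup (Fin 4) F) • pt m x y = pt m x y := by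
    intro x y
    rw [Subgroup.coe_mul, Subgroup.coe_inv, mul_smul, h2, inv_smul_smul]
  obtain ⟨k, hk⟩ := two_point P (h⁻¹ * g).2 e1 (e2 0 0)
  have hk1 : k = 1 := by
    have h3 := e2 1 0
    rw [hk, mH_pt P] at h3
    exact Units.ext (pow_ee_eq_one P (by simpa using (pt_inj h3).1))
  refine (inv_mul_eq_one.1 (Subtype.ext ?_)).symm
  rw [hk, hk1]
  refine Subtype.ext ?_
  show Matrix.diagonal _ = 1
  rw [← Matrix.diagonal_one]
  congr 1
  ext i
  fin_cases i <;> simp

theorem sU_mul (a b c d : F) : sU P a b * sU P c d = sU P (a + c) (b + d + a ^ ee m * c) := by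
  refine eq_of_pts P (by rw [Subgroup.coe_mul, mul_smul, sU_inf, sU_inf, sU_inf]) fun x y => ?_
  rw [Subgroup.coe_mul, mul_smul, sU_pt, sU_pt, sU_pt, add_pow_ee P]
  congr 1 <;> ring

theorem sU_zero : sU P (0 : F) 0 = 1 :=
  eq_of_pts P (by rw [sU_inf, Subgroup.coe_one, one_smul]) fun x y => by
    rw [sU_pt, Subgroup.coe_one, one_smul]; simp [zero_pow (ee_ne m)]

theorem sU_inj {a b c d : F} (h : sU P a b = sU P c d) : a = c ∧ b = d := by
  have := congrArg (fun g : ↥(Sz F m) => (g : Matrix.SpecialLinearGroup (Fin 4) F) • pt m (0 : F) 0) h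
  simp only [sU_pt0] at this
  exact pt_inj this

theorem sU_inv (a b : F) : (sU P a b)⁻¹ = sU P a (b + a ^ (ee m + 1)) := by
  refine inv_eq_of_mul_eq_one_right ?_
  rw [sU_mul, ← sU_zero P, add_self P, ← pow_succ,
    show b + (b + a ^ (ee m + 1)) + a ^ (ee m + 1) = (b + b) + (a ^ (ee m + 1) + a ^ (ee m + 1)) by ring,
    add_self P, add_self P, add_zero]

/-- The diagonal elements of the group. -/
def sH : Fˣ →* ↥(Sz F m) where
  toFun k := ⟨mH m k, mH_mem P k⟩
  map_one' := eq_of_pts P (by rw [Subgroup.coe_one, one_smul, mH_inf]) fun x y => by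
    rw [Subgroup.coe_one, one_smul, mH_pt P]; simp
  map_mul' k l := eq_of_pts P (by rw [Subgroup.coe_mul, mul_smul, mH_inf, mH_inf, mH_inf]) fun x y => by
    rw [Subgroup.coe_mul, mul_smul, mH_pt P, mH_pt P, mH_pt P, Units.val_mul, mul_pow, mul_pow]
    congr 1 <;> ring

theorem sH_inf (k : Fˣ) : (sH P k : Matrix.SpecialLinearGroup (Fin 4) F) • suzukiPointInfinity F =
    suzukiPointInfinity F := mH_inf k

theorem sH_pt (k : Fˣ) (x y : F) : (sH P k : Matrix.SpecialLinearGroup (Fin 4) F) • pt m x y =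
    pt m ((k : F) ^ ee m * x) (((k : F) ^ ee m) ^ (ee m + 1) * y) := mH_pt P k x y

theorem sH_inj : Function.Injective (sH P) := by
  refine (injective_iff_map_eq_one _).2 fun k hk => ?_
  have h := congrArg (fun g : ↥(Sz F m) => (g : Matrix.SpecialLinearGroup (Fin 4) F) • pt m (1 : F) 0) hk
  simp only [sH_pt, Subgroup.coe_one, one_smul] at h
  exact Units.ext (pow_ee_eq_one P (by simpa using (pt_inj h).1))

theorem sH_conj (k : Fˣ) (a b : F) :
    sH P k * sU P a b * (sH P k)⁻¹ = sU P ((k : F) ^ ee m * a) (((k : F) ^ ee m) ^ (ee m + 1) * b) := by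
  rw [mul_inv_eq_iff_eq_mul]
  refine eq_of_pts P (by simp only [Subgroup.coe_mul, mul_smul, sU_inf, sH_inf]) fun x y => ?_
  simp only [Subgroup.coe_mul, mul_smul, sU_pt, sH_pt, mul_pow, pow_succ]
  congr 1 <;> ring

theorem sW_inf : (sW P : Matrix.SpecialLinearGroup (Fin 4) F) • suzukiPointInfinity F = pt m 0 0 := mW_inf (m := m)

theorem sW_zero : (sW P : Matrix.SpecialLinearGroup (Fin 4) F) • pt m 0 0 = suzukiPointInfinity F := mW_zero (m := m)

theorem sW_pt {x y : F} (h : x ≠ 0 ∨ y ≠ 0) :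
    (sW P : Matrix.SpecialLinearGroup (Fin 4) F) • pt m x y = pt m (y / NN m x y) (x / NN m x y) := mW_pt P h

theorem sW_conj (k : Fˣ) : sW P * sH P k * sW P = sH P k⁻¹ := by
  refine eq_of_pts P (by simp only [Subgroup.coe_mul, mul_smul, sW_inf, sH_pt, mul_zero, sW_zero, sH_inf]) fun x y => ?_
  simp only [Subgroup.coe_mul, mul_smul]
  by_cases h : x = 0 ∧ y = 0
  · obtain ⟨rfl, rfl⟩ := h
    simp only [sW_zero, sH_inf, sW_inf, sH_pt, mul_zero]
  · have h' := not_and_or.1 h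
    have hn := NN_ne P h'
    have hk : (k : F) ≠ 0 := k.ne_zero
    set c := (k : F) ^ ee m with hc
    have hc0 : c ≠ 0 := pow_ne_zero _ hk
    have h2 : c * (y / NN m x y) ≠ 0 ∨ c ^ (ee m + 1) * (x / NN m x y) ≠ 0 :=
      h'.symm.imp (fun h => mul_ne_zero hc0 (div_ne_zero h hn))
        (fun h => mul_ne_zero (pow_ne_zero _ hc0) (div_ne_zero h hn))
    rw [sW_pt P h', sH_pt, ← hc, sW_pt P h2, NN_scale P, NN_inv P h', sH_pt, Units.val_inv_eq_inv_val, inv_pow, ← hc]
    congr 1 <;> (simp only [inv_pow, pow_succ]; field_simp)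

theorem sW_sq : sW P * sW P = 1 := by simpa using sW_conj P 1

theorem stab_inf {g : ↥(Sz F m)}
    (h : (g : Matrix.SpecialLinearGroup (Fin 4) F) • suzukiPointInfinity F = suzukiPointInfinity F) :
    ∃ a b k, g = sU P a b * sH P k := by
  have hmem : (g : Matrix.SpecialLinearGroup (Fin 4) F) • pt m (0 : F) 0 ∈ suzukiOvoid F m := by
    rw [← mem_stabilizer_iff.1 g.2]; exact Set.smul_mem_smul_set (pt_mem m 0 0)
  rcases mem_ovoid.1 hmem with e | ⟨a, b, e⟩
  · exact absurd (smul_left_cancel _ (e.trans h.symm)) (pt_ne_inf m 0 0)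
  · have f1 : (((sU P a b)⁻¹ * g : ↥(Sz F m)) : Matrix.SpecialLinearGroup (Fin 4) F) • suzukiPointInfinity F =
        suzukiPointInfinity F := by
      rw [Subgroup.coe_mul, Subgroup.coe_inv, mul_smul, h, inv_smul_eq_iff, sU_inf]
    have f2 : (((sU P a b)⁻¹ * g : ↥(Sz F m)) : Matrix.SpecialLinearGroup (Fin 4) F) • pt m (0 : F) 0 = pt m 0 0 := by
      rw [Subgroup.coe_mul, Subgroup.coe_inv, mul_smul, e, inv_smul_eq_iff, sU_pt0]
    obtain ⟨k, hk⟩ := two_point P ((sU P a b)⁻¹ * g).2 f1 f2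
    exact ⟨a, b, k, by rw [show sH P k = (sU P a b)⁻¹ * g from Subtype.ext hk.symm, mul_inv_cancel_left]⟩

theorem decomp (g : ↥(Sz F m)) : (∃ a b k, g = sU P a b * sH P k) ∨
    ∃ c d a b k, g = sU P c d * sW P * (sU P a b * sH P k) := by
  have hmem : (g : Matrix.SpecialLinearGroup (Fin 4) F) • suzukiPointInfinity F ∈ suzukiOvoid F m := by
    rw [← mem_stabilizer_iff.1 g.2]; exact Set.smul_mem_smul_set (inf_mem m)
  rcases mem_ovoid.1 hmem with e | ⟨c, d, e⟩
  · exact Or.inl (stab_inf P e)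
  · obtain ⟨a, b, k, h⟩ := stab_inf P (g := (sU P c d * sW P)⁻¹ * g) (by
      rw [Subgroup.coe_mul, Subgroup.coe_inv, mul_smul, e, inv_smul_eq_iff, Subgroup.coe_mul, mul_smul, sW_inf, sU_pt0])
    exact Or.inr ⟨c, d, a, b, k, by rw [← h, mul_inv_cancel_left]⟩

theorem closure_gens {H : Subgroup ↥(Sz F m)} (hU : ∀ a b, sU P a b ∈ H) (hW : sW P ∈ H) (hH : ∀ k, sH P k ∈ H) :
    H = ⊤ := by
  rw [eq_top_iff]
  intro g _
  rcases decomp P g with ⟨a, b, k, rfl⟩ | ⟨c, d, a, b, k, rfl⟩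
  · exact mul_mem (hU a b) (hH k)
  · exact mul_mem (mul_mem (hU c d) hW) (mul_mem (hU a b) (hH k))

/-- The point at infinity of the ovoid. -/
def oInf (F : Type*) [Field F] (m : ℕ) : ↥(suzukiOvoid F m) := ⟨_, inf_mem m⟩
omit P in
/-- The origin of the ovoid. -/
def oZero (F : Type*) [Field F] (m : ℕ) : ↥(suzukiOvoid F m) := ⟨_, pt_mem m 0 0⟩

theorem smul_coe (g : ↥(Sz F m)) (p : ↥(suzukiOvoid F m)) :
    ((g • p : ↥(suzukiOvoid F m)) : Projectivization F (Fin 4 → F)) = (g : Matrix.SpecialLinearGroup (Fin 4) F) • p.1 :=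
  rfl

theorem to_inf (p : ↥(suzukiOvoid F m)) : ∃ g : ↥(Sz F m), g • p = oInf F m := by
  rcases mem_ovoid.1 p.2 with e | ⟨a, b, e⟩
  · exact ⟨1, by rw [one_smul]; exact Subtype.ext e⟩
  · refine ⟨(sU P a b * sW P)⁻¹, Subtype.ext ?_⟩
    rw [smul_coe P, Subgroup.coe_inv, inv_smul_eq_iff, e, Subgroup.coe_mul, mul_smul]
    exact (((congrArg _ (sW_inf P)).trans (sU_pt0 P a b))).symm

theorem to_pair {p p' : ↥(suzukiOvoid F m)} (hne : p ≠ p') :
    ∃ g : ↥(Sz F m), g • p = oInf F m ∧ g • p' = oZero F m := by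
  obtain ⟨g, hg⟩ := to_inf P p
  rcases mem_ovoid.1 (g • p').2 with e | ⟨a, b, e⟩
  · exact absurd (smul_left_cancel g (hg.trans (Subtype.ext e).symm)) hne
  · refine ⟨(sU P a b)⁻¹ * g, ?_, ?_⟩
    · rw [mul_smul, hg, inv_smul_eq_iff]
      exact Subtype.ext (sU_inf P a b).symm
    · rw [mul_smul, inv_smul_eq_iff]
      exact Subtype.ext (e.trans (sU_pt0 P a b).symm)

theorem two_trans : IsMultiplyPretransitive ↥(Sz F m) ↥(suzukiOvoid F m) 2 := by
  rw [is_two_pretransitive_iff]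
  intro a b c d hab hcd
  obtain ⟨g, g1, g2⟩ := to_pair P hab
  obtain ⟨h, h1, h2⟩ := to_pair P hcd
  exact ⟨h⁻¹ * g, by rw [mul_smul, g1, ← h1, inv_smul_smul], by rw [mul_smul, g2, ← h2, inv_smul_smul]⟩

theorem pretrans : IsPretransitive ↥(Sz F m) ↥(suzukiOvoid F m) := ⟨fun a b => by
  obtain ⟨g, hg⟩ := to_inf P a
  obtain ⟨h, hh⟩ := to_inf P b
  exact ⟨h⁻¹ * g, by rw [mul_smul, hg, ← hh, inv_smul_smul]⟩⟩

theorem stab_oInf {g : ↥(Sz F m)} : g ∈ stabilizer ↥(Sz F m) (oInf F m) ↔ ∃ a b k, g = sU P a b * sH P k := by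
  rw [mem_stabilizer_iff]
  refine ⟨fun h => stab_inf P (Subtype.ext_iff.1 h), ?_⟩
  rintro ⟨a, b, k, rfl⟩
  refine Subtype.ext ?_
  rw [smul_coe P, Subgroup.coe_mul, mul_smul]
  exact (congrArg _ (sH_inf P k)).trans (sU_inf P a b)

theorem UH_inj {a b c d : F} {k l : Fˣ} (h : sU P a b * sH P k = sU P c d * sH P l) : a = c ∧ b = d ∧ k = l := by
  have := congrArg (fun g : ↥(Sz F m) => (g : Matrix.SpecialLinearGroup (Fin 4) F) • pt m (0 : F) 0) h
  simp only [Subgroup.coe_mul, mul_smul, sH_pt, mul_zero, sU_pt0] at this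
  obtain ⟨rfl, rfl⟩ := pt_inj this
  exact ⟨rfl, rfl, sH_inj P (mul_left_cancel h)⟩

theorem card_stab : Nat.card ↥(stabilizer ↥(Sz F m) (oInf F m)) = Fintype.card F ^ 2 * (Fintype.card F - 1) := by
  classical
  let f : (F × F) × Fˣ → ↥(stabilizer ↥(Sz F m) (oInf F m)) := fun x =>
    ⟨sU P x.1.1 x.1.2 * sH P x.2, (stab_oInf P).2 ⟨_, _, _, rfl⟩⟩
  have hb : Function.Bijective f := by
    refine ⟨fun x y h => ?_, fun g => ?_⟩
    · obtain ⟨e1, e2, e3⟩ := UH_inj P (Subtype.ext_iff.1 h)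
      exact Prod.ext (Prod.ext e1 e2) e3
    · obtain ⟨a, b, k, e⟩ := (stab_oInf P).1 g.2
      exact ⟨((a, b), k), Subtype.ext e.symm⟩
  rw [← Nat.card_eq_of_bijective f hb, Nat.card_prod, Nat.card_prod, Nat.card_eq_fintype_card,
    Nat.card_eq_fintype_card, Fintype.card_units, sq]

theorem card_Sz : Nat.card ↥(Sz F m) =
    Fintype.card F ^ 2 * (Fintype.card F ^ 2 + 1) * (Fintype.card F - 1) := by
  haveI := pretrans P
  have h := (stabilizer ↥(Sz F m) (oInf F m)).card_mul_index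
  rw [index_stabilizer_of_transitive, card_ovoid, card_stab P] at h
  rw [← h]; ring

theorem three_fixed {g : ↥(Sz F m)} {x y z : ↥(suzukiOvoid F m)} (hxy : x ≠ y) (hyz : y ≠ z) (hxz : x ≠ z)
    (gx : g • x = x) (gy : g • y = y) (gz : g • z = z) : g = 1 := by
  obtain ⟨h, h1, h2⟩ := to_pair P hxy
  have f : ∀ p : ↥(suzukiOvoid F m), g • p = p → (h * g * h⁻¹) • (h • p) = h • p := fun p hp => by
    rw [mul_smul, mul_smul, inv_smul_smul, hp]
  have f1 := f x gx
  have f2 := f y gy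
  rw [h1] at f1
  rw [h2] at f2
  obtain ⟨k, hk⟩ := two_point P (h * g * h⁻¹).2 (Subtype.ext_iff.1 f1) (Subtype.ext_iff.1 f2)
  rcases mem_ovoid.1 (h • z).2 with e | ⟨a, b, e⟩
  · exact absurd (smul_left_cancel h (h1.trans (Subtype.ext e).symm)) hxz
  · have hab : a ≠ 0 ∨ b ≠ 0 := by
      by_contra hc
      rw [not_or, not_not, not_not] at hc
      refine hyz (smul_left_cancel h (h2.trans (Subtype.ext ?_).symm))
      rw [e, hc.1, hc.2]; rfl
    have f3 := Subtype.ext_iff.1 (f z gz)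
    rw [smul_coe P, e, hk, mH_pt P] at f3
    obtain ⟨e1, e2⟩ := pt_inj f3
    have hk1 : k = 1 := by
      rcases hab with ha | hb
      · exact Units.ext (pow_ee_eq_one P (mul_eq_right₀ ha |>.1 e1))
      · exact Units.ext (pow_ee_eq_one P (pow_ee_succ_eq_one P (mul_eq_right₀ hb |>.1 e2)))
    have hg : h * g * h⁻¹ = 1 := by
      rw [← map_one (sH P)]
      exact Subtype.ext (hk.trans (by rw [hk1]; rfl))
    rwa [mul_inv_eq_one, mul_eq_left] at hg

theorem exists_unit_ne : ∃ k : Fˣ, (k : F) ^ ee m ≠ 1 := by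
  classical
  have hcard : 1 < Fintype.card Fˣ := by
    rw [Fintype.card_units, P.hF]
    have : 2 ^ 3 ≤ 2 ^ (2 * m + 1) := Nat.pow_le_pow_right two_pos (by have := P.hm; omega)
    omega
  obtain ⟨k, hk⟩ := Fintype.exists_ne_of_one_lt_card hcard 1
  exact ⟨k, fun h => hk (Units.ext (pow_ee_eq_one P h))⟩

theorem U_le_commutator (a b : F) : sU P a b ∈ commutator ↥(Sz F m) := by
  obtain ⟨k, hk⟩ := exists_unit_ne P
  set c := (k : F) ^ ee m with hc
  have hc2 : c ^ (ee m + 1) ≠ 1 := fun h => hk (pow_ee_succ_eq_one P h)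
  have hcomm : ∀ a b, sU P (c * a + a) (c ^ (ee m + 1) * b + (b + a ^ (ee m + 1)) + (c * a) ^ ee m * a) ∈
      commutator ↥(Sz F m) := by
    intro a b
    rw [← sU_mul P, ← sH_conj P, ← sU_inv P]
    exact Subgroup.commutator_mem_commutator (Subgroup.mem_top _) (Subgroup.mem_top _)
  have hb : ∀ b, sU P 0 b ∈ commutator ↥(Sz F m) := by
    intro b
    have h1 : c ^ (ee m + 1) + 1 ≠ 0 := fun h => hc2 (by linear_combination h - two_eq P)
    have h2 := hcomm 0 (b / (c ^ (ee m + 1) + 1))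
    simp only [mul_zero, add_zero, zero_pow (ee_ne m), zero_pow (Nat.succ_ne_zero (ee m)), zero_mul] at h2
    convert h2 using 2
    field_simp
  have h1 : c + 1 ≠ 0 := fun h => hk (by linear_combination h - two_eq P)
  have h2 := mul_mem (hcomm (a / (c + 1)) 0) (hb (b + (c ^ (ee m + 1) * 0 + (0 + (a / (c + 1)) ^ (ee m + 1)) +
    (c * (a / (c + 1))) ^ ee m * (a / (c + 1)))))
  rw [sU_mul, add_zero] at h2
  convert h2 using 2
  · field_simp
  · linear_combination (-(c ^ (ee m + 1) * 0 + (0 + (a / (c + 1)) ^ (ee m + 1)) + (c * (a / (c + 1))) ^ ee m * (a / (c + 1)))) * two_eq P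

theorem sW_mem_commutator : sW P ∈ commutator ↥(Sz F m) := by
  have he := ee_ne m
  have hN : NN m (1 : F) 1 = 1 := by simp only [NN, one_pow, one_mul]; linear_combination two_eq P
  obtain ⟨g, hg⟩ := to_inf P (⟨pt m 1 1, pt_mem m 1 1⟩ : ↥(suzukiOvoid F m))
  have hfix : sW P • (⟨pt m 1 1, pt_mem m 1 1⟩ : ↥(suzukiOvoid F m)) = ⟨pt m 1 1, pt_mem m 1 1⟩ := by
    refine Subtype.ext ?_
    rw [smul_coe P, sW_pt P (Or.inl one_ne_zero), hN, div_one]
  have hst : g * sW P * g⁻¹ ∈ stabilizer ↥(Sz F m) (oInf F m) := by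
    rw [mem_stabilizer_iff, ← hg, mul_smul, mul_smul, inv_smul_smul, hfix]
  obtain ⟨a, b, k, h⟩ := (stab_oInf P).1 hst
  have h2 : sU P a b * sH P k * (sU P a b * sH P k) = 1 := by
    rw [← h, show g * sW P * g⁻¹ * (g * sW P * g⁻¹) = g * (sW P * sW P) * g⁻¹ by group, sW_sq, mul_one, mul_inv_cancel]
  have h3 : sU P a b * (sH P k * sU P a b * (sH P k)⁻¹) * sH P (k * k) = sU P 0 0 * sH P 1 := by
    rw [sU_zero, map_one, one_mul, ← h2, map_mul]; group
  rw [sH_conj, sU_mul] at h3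
  have hk : k * k = 1 := (UH_inj P h3).2.2
  have hk1 : k = 1 := by
    have : (k : F) * k = 1 := by rw [← Units.val_mul, hk, Units.val_one]
    rcases mul_self_eq_one_iff.1 this with e | e
    · exact Units.ext e
    · exact Units.ext (by rw [e, Units.val_one]; linear_combination -two_eq P)
  rw [hk1, map_one, mul_one] at h
  have h4 := Subgroup.Normal.conj_mem inferInstance _ (U_le_commutator P a b) g⁻¹
  rw [← h] at h4
  simpa [mul_assoc] using h4

theorem perfect : commutator ↥(Sz F m) = ⊤ := by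
  classical
  refine closure_gens P (U_le_commutator P) (sW_mem_commutator P) fun k => ?_
  obtain ⟨l, hl⟩ : ∃ l : Fˣ, l * l = k := by
    have hinj : Function.Injective fun l : Fˣ => l * l := fun x y (h : x * x = y * y) => by
      have h' : (x : F) * x = (y : F) * y := by rw [← Units.val_mul, h, Units.val_mul]
      rcases mul_self_eq_mul_self_iff.1 h' with e | e
      · exact Units.ext e
      · exact Units.ext (by rw [e]; linear_combination -(y : F) * two_eq P)
    exact (Finite.injective_iff_surjective.1 hinj) k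
  have hw : (sW P)⁻¹ = sW P := inv_eq_of_mul_eq_one_left (sW_sq P)
  have h := Subgroup.commutator_mem_commutator (Subgroup.mem_top (sH P l)) (Subgroup.mem_top (sW P))
  rw [commutatorElement_def, hw, mul_assoc, mul_assoc, ← mul_assoc (sW P), ← map_inv, sW_conj, inv_inv, ← map_mul, hl] at h
  exact h

theorem stab_solvable : Group.IsSolvable ↥(stabilizer ↥(Sz F m) (oInf F m)) := by
  classical
  choose a b k hg using fun g : ↥(stabilizer ↥(Sz F m) (oInf F m)) => (stab_oInf P).1 g.2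
  let f : ↥(stabilizer ↥(Sz F m) (oInf F m)) →* Fˣ := MonoidHom.mk' k fun g h => by
    have e : sU P (a (g * h)) (b (g * h)) * sH P (k (g * h)) =
        sU P (a g) (b g) * (sH P (k g) * sU P (a h) (b h) * (sH P (k g))⁻¹) * sH P (k g * k h) := by
      rw [← hg, map_mul, Subgroup.coe_mul, hg g, hg h]; group
    rw [sH_conj, sU_mul] at e
    exact (UH_inj P e).2.2
  have hker : ∀ g : ↥f.ker, ∀ h : ↥f.ker, ∃ z, (((g * h * g⁻¹ * h⁻¹ : ↥f.ker) : ↥(stabilizer ↥(Sz F m) (oInf F m))) :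
      ↥(Sz F m)) = sU P 0 z := by
    intro g h
    have eg : ((g : ↥(stabilizer ↥(Sz F m) (oInf F m))) : ↥(Sz F m)) = sU P (a g.1) (b g.1) := by
      rw [hg, show k g.1 = 1 from g.2, map_one, mul_one]
    have eh : ((h : ↥(stabilizer ↥(Sz F m) (oInf F m))) : ↥(Sz F m)) = sU P (a h.1) (b h.1) := by
      rw [hg, show k h.1 = 1 from h.2, map_one, mul_one]
    simp only [Subgroup.coe_mul, Subgroup.coe_inv, eg, eh, sU_inv, sU_mul]
    refine ⟨_, congrArg (fun x => sU P x _) ?_⟩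
    linear_combination (a g.1 + a h.1) * two_eq P
  haveI : Group.IsSolvable ↥f.ker := by
    let π : ↥f.ker →* Multiplicative F := MonoidHom.mk' (fun g => Multiplicative.ofAdd (a g.1)) fun g h => by
      have e : sU P (a (g.1 * h.1)) (b (g.1 * h.1)) = sU P (a g.1) (b g.1) * sU P (a h.1) (b h.1) := by
        have e1 := hg (g.1 * h.1)
        have e2 := hg g.1
        have e3 := hg h.1
        rw [show k (g.1 * h.1) = 1 from (g * h).2, map_one, mul_one] at e1
        rw [show k g.1 = 1 from g.2, map_one, mul_one] at e2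
        rw [show k h.1 = 1 from h.2, map_one, mul_one] at e3
        rw [← e1, ← e2, ← e3]; rfl
      rw [sU_mul] at e
      exact congrArg Multiplicative.ofAdd (sU_inj P e).1
    haveI : Group.IsSolvable ↥π.ker := by
      refine Group.isSolvable_of_comm fun g h => ?_
      have e : ∀ z : ↥π.ker, (((z : ↥f.ker) : ↥(stabilizer ↥(Sz F m) (oInf F m))) : ↥(Sz F m)) = sU P 0 (b z.1.1) := fun z => by
        rw [hg, show k z.1.1 = 1 from z.1.2, map_one, mul_one, show a z.1.1 = 0 from z.2]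
      refine Subtype.ext (Subtype.ext (Subtype.ext ?_))
      simp only [Subgroup.coe_mul, e, sU_mul]
      congr 1
      simp [zero_pow (ee_ne m), add_comm]
    exact Group.isSolvable_of_ker_le_range π.ker.subtype π (by simp)
  exact Group.isSolvable_of_ker_le_range f.ker.subtype f (by simp)

theorem simple : IsSimpleGroup ↥(Sz F m) := by
  classical
  haveI : Nontrivial ↥(Sz F m) := ⟨⟨sU P 1 0, 1, fun h => by
    rw [← sU_zero P] at h; exact one_ne_zero (sU_inj P h).1⟩⟩
  refine { eq_bot_or_eq_top_of_normal := fun N hN => ?_ }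
  refine or_iff_not_imp_left.2 fun hne => ?_
  obtain ⟨n, hn, hn1⟩ := (Subgroup.bot_or_exists_ne_one N).resolve_left hne
  obtain ⟨p, hp⟩ : ∃ p : ↥(suzukiOvoid F m), n • p ≠ p := by
    by_contra hc
    rw [not_exists] at hc
    refine hn1 (eq_of_pts P ?_ fun x y => ?_)
    · have := Subtype.ext_iff.1 (not_not.1 (hc (oInf F m)))
      rw [Subgroup.coe_one, one_smul]; exact this
    · have := Subtype.ext_iff.1 (not_not.1 (hc ⟨pt m x y, pt_mem m x y⟩))
      rw [Subgroup.coe_one, one_smul]; exact this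
  haveI := two_trans P
  have htr : ∀ q : ↥(suzukiOvoid F m), ∃ n' ∈ N, n' • oInf F m = q := by
    intro q
    by_cases hq : q = oInf F m
    · exact ⟨1, one_mem N, by rw [one_smul, hq]⟩
    · obtain ⟨g, g1, g2⟩ := (is_two_pretransitive_iff.1 (two_trans P)) hp.symm (Ne.symm hq)
      refine ⟨g * n * g⁻¹, hN.conj_mem n hn g, ?_⟩
      rw [← g1, mul_smul, mul_smul, inv_smul_smul, g2]
  let π := (QuotientGroup.mk' N).comp (stabilizer ↥(Sz F m) (oInf F m)).subtype
  have hπ : Function.Surjective π := by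
    intro x
    obtain ⟨g, rfl⟩ := QuotientGroup.mk'_surjective N x
    obtain ⟨n', hn', e⟩ := htr (g • oInf F m)
    refine ⟨⟨n'⁻¹ * g, ?_⟩, ?_⟩
    · rw [mem_stabilizer_iff, mul_smul, inv_smul_eq_iff, e]
    · show QuotientGroup.mk' N (n'⁻¹ * g) = QuotientGroup.mk' N g
      rw [map_mul, map_inv, show QuotientGroup.mk' N n' = 1 from (QuotientGroup.eq_one_iff n').2 hn', inv_one, one_mul]
  haveI := stab_solvable P
  haveI hs : Group.IsSolvable (↥(Sz F m) ⧸ N) := Group.isSolvable_of_surjective hπ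
  by_contra htop
  haveI : Nontrivial (↥(Sz F m) ⧸ N) := QuotientGroup.nontrivial_iff.2 htop
  have hlt := Group.IsSolvable.commutator_lt_top_of_nontrivial (↥(Sz F m) ⧸ N)
  have hmap : Subgroup.map (QuotientGroup.mk' N) (commutator ↥(Sz F m)) ≤ commutator (↥(Sz F m) ⧸ N) := by
    rw [commutator_def, commutator_def, Subgroup.map_commutator]
    exact Subgroup.commutator_mono le_top le_top
  rw [perfect P, Subgroup.map_top_of_surjective _ (QuotientGroup.mk'_surjective N)] at hmap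
  exact hlt.ne (top_le_iff.1 hmap)

theorem zassenhaus : IsZassenhausGroup ↥(Sz F m) ↥(suzukiOvoid F m) := by
  classical
  refine ⟨⟨fun {g h} e => ?_⟩, two_trans P, fun g a b c hab hbc hac ga gb gc => three_fixed P hab hbc hac ga gb gc, ?_,
    fun N hN htr => ?_⟩
  · refine eq_of_pts P (Subtype.ext_iff.1 (e (oInf F m))) fun x y => ?_
    exact Subtype.ext_iff.1 (e ⟨pt m x y, pt_mem m x y⟩)
  · obtain ⟨k, hk⟩ := exists_unit_ne P
    refine ⟨sH P k, fun h => hk ?_, oInf F m, oZero F m, fun h => pt_ne_inf m (0 : F) 0 (Subtype.ext_iff.1 h).symm,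
      Subtype.ext (sH_inf P k), Subtype.ext ?_⟩
    · rw [← map_one (sH P)] at h
      rw [sH_inj P h, Units.val_one, one_pow]
    · show (sH P k : Matrix.SpecialLinearGroup (Fin 4) F) • pt m (0 : F) 0 = pt m 0 0
      rw [sH_pt, mul_zero, mul_zero]
  · haveI := simple P
    rcases hN.eq_bot_or_eq_top with h | h
    · exfalso
      obtain ⟨⟨g, hg⟩, hgp⟩ := htr.exists_smul_eq (oInf F m) (oZero F m)
      subst h
      rw [Subgroup.mem_bot] at hg
      subst hg
      have : oInf F m = oZero F m := by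
        rw [← hgp]; exact (one_smul ↥(Sz F m) _).symm
      exact pt_ne_inf m (0 : F) 0 (Subtype.ext_iff.1 this).symm
    · subst h
      refine ⟨oInf F m, fun hb => ?_⟩
      have h1 : (⟨sU P 1 0, Subgroup.mem_top _⟩ : ↥(⊤ : Subgroup ↥(Sz F m))) ∈
          stabilizer ↥(⊤ : Subgroup ↥(Sz F m)) (oInf F m) := Subtype.ext (sU_inf P 1 0)
      rw [hb, Subgroup.mem_bot] at h1
      have h2 : sU P 1 0 = sU P 0 0 := by rw [sU_zero]; exact congrArg Subtype.val h1
      exact one_ne_zero (sU_inj P h2).1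

end CfsgLib.Lie.SzOvoid
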