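import Cfsg.Prelude.Def_Sz

/-! A Suzuki matrix fixing a nonzero vector satisfies `g ^ 4 = 1`. -/

namespace CfsgLib.SuzukiFix

open Cfsg.Lie
open scoped Matrix

variable {F : Type*} [Field F]

/-- the matrix of `altForm4` -/
def J4 : Matrix (Fin 4) (Fin 4) F := !![0, 0, 0, 1; 0, 0, 1, 0; 0, 1, 0, 0; 1, 0, 0, 0]

theorem J4_mul_self : (J4 : Matrix (Fin 4) (Fin 4) F) * J4 = 1 := by
  ext i j; fin_cases i <;> fin_cases j <;> simp [J4, Matrix.mul_apply, Fin.sum_univ_four]

theorem altForm4_eq (u v : Fin 4 → F) : altForm4 u v = u ⬝ᵥ (J4 *ᵥ v) := by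
  simp [altForm4, J4, dotProduct, Matrix.mulVec, Fin.sum_univ_four]

theorem gram_of_mem {g : GL (Fin 4) F} (hg : g ∈ Sp4 F) :
    (g : Matrix (Fin 4) (Fin 4) F)ᵀ * J4 * (g : Matrix (Fin 4) (Fin 4) F) = J4 := by
  ext i j
  have h := hg (Pi.single i 1) (Pi.single j 1)
  simp only [altForm4, Units.coeHom_apply, Matrix.mulVec_single_one, Matrix.col_apply] at h
  fin_cases i <;> fin_cases j <;>
    simp [J4, Matrix.mul_apply, Fin.sum_univ_four, Pi.single_apply] at h ⊢ <;>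
    linear_combination h

theorem dual_gram {g : Matrix (Fin 4) (Fin 4) F} (hg : gᵀ * J4 * g = J4) : g * J4 * gᵀ = J4 := by
  have h1 : (J4 * gᵀ * J4) * g = 1 := by
    rw [mul_assoc J4 gᵀ, mul_assoc J4, hg, J4_mul_self]
  have h2 : g * (J4 * gᵀ * J4) = 1 := mul_eq_one_comm.mp h1
  calc g * J4 * gᵀ = g * (J4 * gᵀ * J4) * J4 := by simp [mul_assoc, J4_mul_self]
    _ = J4 := by rw [h2, one_mul]

theorem conj_J4_apply (a : Matrix (Fin 4) (Fin 4) F) (i j : Fin 4) :
    (J4 * aᵀ * J4 : Matrix (Fin 4) (Fin 4) F) i j = a (![3, 2, 1, 0] j) (![3, 2, 1, 0] i) := by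
  fin_cases i <;> fin_cases j <;> simp [J4, Matrix.mul_apply, Matrix.vecMul, dotProduct, Fin.sum_univ_four]

theorem star4_mul [CharP F 2] {g h : Matrix (Fin 4) (Fin 4) F} (hg : gᵀ * J4 * g = J4)
    (hh : hᵀ * J4 * h = J4) : star4 (g * h) = star4 g * star4 h := by
  have hg' := dual_gram hg
  have two : (2 : F) = 0 := CharTwo.two_eq_zero
  ext p r
  have key : ∀ k l i j : Fin 4, (g * (J4 : Matrix (Fin 4) (Fin 4) F) * gᵀ) k l = 0 →
      (hᵀ * (J4 : Matrix (Fin 4) (Fin 4) F) * h) i j = 0 →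
      (g * h) k i * (g * h) l j - (g * h) l i * (g * h) k j
        = (g k 0 * g l 1 - g l 0 * g k 1) * (h 0 i * h 1 j - h 1 i * h 0 j)
          + (g k 0 * g l 2 - g l 0 * g k 2) * (h 0 i * h 2 j - h 2 i * h 0 j)
          + (g k 1 * g l 3 - g l 1 * g k 3) * (h 1 i * h 3 j - h 3 i * h 1 j)
          + (g k 2 * g l 3 - g l 2 * g k 3) * (h 2 i * h 3 j - h 3 i * h 2 j) := by
    intro k l i j h1 h2
    simp [Matrix.mul_apply, Fin.sum_univ_four, J4] at h1 h2 ⊢
    linear_combination (h 0 i * h 3 j + h 3 i * h 0 j) * h1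
      + (g k 1 * g l 2 + g l 1 * g k 2) * h2
      - (g l 0 * g k 3 * h 0 i * h 3 j + g k 0 * g l 3 * h 3 i * h 0 j + g l 1 * g k 2 * h 1 i * h 2 j
        + g k 1 * g l 2 * h 2 i * h 1 j + g k 1 * g l 2 * h 0 i * h 3 j + g l 1 * g k 2 * h 3 i * h 0 j
        + g k 1 * g l 2 * h 3 i * h 0 j + g l 1 * g k 2 * h 0 i * h 3 j) * two
  have e1 : (g * (J4 : Matrix (Fin 4) (Fin 4) F) * gᵀ) (pairOf p).1 (pairOf p).2 = 0 := by
    rw [hg']; fin_cases p <;> simp [pairOf, J4]
  have e2 : (hᵀ * (J4 : Matrix (Fin 4) (Fin 4) F) * h) (pairOf r).1 (pairOf r).2 = 0 := by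
    rw [hh]; fin_cases r <;> simp [pairOf, J4]
  simp only [star4, Matrix.of_apply, Matrix.mul_apply (M := Matrix.of _), Fin.sum_univ_four]
  rw [key _ _ _ _ e1 e2]
  simp [pairOf]

theorem mem_set_of_mem_Sz [Fintype F] [CharP F 2] (n : ℕ) {g : GL (Fin 4) F}
    (hg : g ∈ Sz F (2 ^ n)) : g ∈ Sp4 F ∧
      star4 (g : Matrix (Fin 4) (Fin 4) F) = (g : Matrix (Fin 4) (Fin 4) F).map (fun x => x ^ 2 ^ n) := by
  let θ : F →+* F := iterateFrobenius F 2 n
  have hθ : (fun x : F => x ^ 2 ^ n) = θ := by ext x; simp [θ, iterateFrobenius_def]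
  let S : Submonoid (GL (Fin 4) F) :=
    { carrier := {g | g ∈ Sp4 F ∧
        star4 (g : Matrix (Fin 4) (Fin 4) F) = (g : Matrix (Fin 4) (Fin 4) F).map θ}
      one_mem' := by
        refine ⟨one_mem _, ?_⟩
        ext p r
        fin_cases p <;> fin_cases r <;> simp [star4, pairOf, Matrix.one_apply]
      mul_mem' := by
        rintro a b ⟨ha, ha'⟩ ⟨hb, hb'⟩
        refine ⟨mul_mem ha hb, ?_⟩
        rw [Units.val_mul, star4_mul (gram_of_mem ha) (gram_of_mem hb), ha', hb', Matrix.map_mul] }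
  rw [hθ]
  have h : g ∈ (Subgroup.closure (S : Set (GL (Fin 4) F))).toSubmonoid := by
    have : Sz F (2 ^ n) = Subgroup.closure (S : Set (GL (Fin 4) F)) := by
      simp only [Sz, S, hθ]; rfl
    rw [← this]; exact hg
  rw [Subgroup.closure_toSubmonoid_of_finite, Submonoid.closure_eq] at h
  exact h

set_option maxHeartbeats 1000000 in
theorem pow_four_eq_one [Fintype F] [CharP F 2] (n : ℕ) {g : GL (Fin 4) F}
    (hg : g ∈ Sz F (2 ^ n)) {v : Fin 4 → F} (hv : v ≠ 0)
    (hfix : (g : Matrix (Fin 4) (Fin 4) F) *ᵥ v = v) : g ^ 4 = 1 := by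
  obtain ⟨hsp, hst⟩ := mem_set_of_mem_Sz n hg
  have hgr := gram_of_mem hsp
  set a : Matrix (Fin 4) (Fin 4) F := (g : Matrix (Fin 4) (Fin 4) F) with ha
  have hdual := dual_gram hgr
  have two : (2 : F) = 0 := CharTwo.two_eq_zero
  set b : Matrix (Fin 4) (Fin 4) F := J4 * aᵀ * J4 with hb
  have hba : b * a = 1 := by rw [hb, mul_assoc J4 aᵀ, mul_assoc J4, hgr, J4_mul_self]
  have hab : a * b = 1 := mul_eq_one_comm.mp hba
  set M := a + b with hM
  set t := a 0 0 + a 1 1 + a 2 2 + a 3 3 with ht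
  set P := (a 3 1 + a 2 0) * (a 1 3 + a 0 2) + (a 3 2 + a 1 0) * (a 2 3 + a 0 1)
    + (a 3 3 + a 0 0) * (a 2 2 + a 1 1) with hP
  have hQ : M * M + t • M + P • (1 : Matrix (Fin 4) (Fin 4) F) = 0 := by
    have hb' : b = Matrix.of fun i j => a (![3, 2, 1, 0] j) (![3, 2, 1, 0] i) := by
      ext i j; exact conj_J4_apply a i j
    rw [hM, hb']
    clear_value a
    clear hb' hb hab hba hM M b
    ext i j
    fin_cases i <;> fin_cases j <;>
      simp [ht, hP, Matrix.mul_apply, Fin.sum_univ_four] <;>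
      ring_nf <;>
      simp [two, show (6 : F) = 0 by linear_combination (3 : F) * two, show (4 : F) = 0 by linear_combination (2 : F) * two, show (3 : F) = 1 by linear_combination two]
  have hMv : M *ᵥ v = 0 := by
    have hbv : b *ᵥ v = v := by
      conv_lhs => rw [← hfix]
      rw [Matrix.mulVec_mulVec, hba, Matrix.one_mulVec]
    rw [hM, Matrix.add_mulVec, hfix, hbv]
    exact funext fun i => CharTwo.add_self_eq_zero _
  have hPv : P = 0 := by
    have := congrArg (fun X => X *ᵥ v) hQ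
    simp [Matrix.add_mulVec, ← Matrix.mulVec_mulVec, Matrix.smul_mulVec, hMv] at this
    exact this.resolve_right hv
  have hP' : (star4 a) 0 0 + (star4 a) 1 1 + (star4 a) 2 2 + (star4 a) 3 3 = P := by
    have c03 := congrFun (congrFun hgr 0) 3
    have c12 := congrFun (congrFun hgr 1) 2
    have r03 := congrFun (congrFun hdual 0) 3
    simp [J4, Matrix.mul_apply, Fin.sum_univ_four] at c03 c12 r03
    simp [star4, pairOf, hP]
    grind
  have ht0 : t = 0 := by
    rw [hst, hPv] at hP'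
    simp only [Matrix.map_apply, ← add_pow_char_pow, ← ht] at hP'
    exact pow_eq_zero_iff (by positivity) |>.mp hP'
  rw [ht0, hPv, zero_smul, zero_smul, add_zero, add_zero] at hQ
  have hMM : a * a + b * b = 0 := by
    have e : (a + b) * (a + b) = a * a + b * b + (a * b + b * a) := by noncomm_ring
    rw [← hM, hQ, hab, hba] at e
    have : (1 : Matrix (Fin 4) (Fin 4) F) + 1 = 0 := by
      ext i j; exact CharTwo.add_self_eq_zero _
    rw [this, add_zero] at e
    exact e.symm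
  apply Units.ext
  rw [Units.val_pow_eq_pow_val, Units.val_one, ← ha]
  have e2 : a ^ 4 + 1 = 0 := by
    have := congrArg (fun X => a * a * X) hMM
    simpa [mul_add, mul_assoc, pow_succ, mul_eq_one_comm, show a * (a * (b * b)) = 1 by
      rw [← mul_assoc a b, hab, one_mul, hab]] using this
  ext i j
  have := congrFun (congrFun e2 i) j
  simp only [Matrix.add_apply, Matrix.zero_apply] at this
  exact CharTwo.add_eq_zero.mp this

theorem involution_mem_Sz [CharP F 2] (e : ℕ) (he : e ≠ 0) :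
    ∃ g : GL (Fin 4) F, g ∈ Sz F e ∧ g ≠ 1 ∧ g ^ 2 = 1 := by
  have two : (2 : F) = 0 := CharTwo.two_eq_zero
  let m : Matrix (Fin 4) (Fin 4) F := !![1, 0, 1, 1; 0, 1, 0, 1; 0, 0, 1, 0; 0, 0, 0, 1]
  have hm : m * m = 1 := by
    ext i j; fin_cases i <;> fin_cases j <;> simp [m, Matrix.mul_apply, Fin.sum_univ_four, CharTwo.add_self_eq_zero]
  let g : GL (Fin 4) F := (⟨m, m, hm, hm⟩ : (Matrix (Fin 4) (Fin 4) F)ˣ)
  refine ⟨g, Subgroup.subset_closure ⟨?_, ?_⟩, ?_, ?_⟩
  · intro u v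
    simp [g, m, altForm4, Matrix.mulVec, dotProduct, Fin.sum_univ_four]
    linear_combination (u 3 * v 2 + u 2 * v 3 + u 3 * v 3) * two
  · ext p r
    fin_cases p <;> fin_cases r <;> simp [g, m, star4, pairOf, zero_pow he, CharTwo.neg_eq]
  · intro h
    have := congrArg (fun x : GL (Fin 4) F => (x : Matrix (Fin 4) (Fin 4) F) 0 3) h
    simp [g, m] at this
  · exact Units.ext (by rw [Units.val_pow_eq_pow_val, pow_two]; exact hm)

end CfsgLib.SuzukiFix
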