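/-
The two descriptions of the Suzuki groups agree.
-/
import Cfsg.Agent.Lib.LieSuzukiGroup
import Cfsg.Agent.Lib.SuzukiFix

set_option autoImplicit false
set_option maxHeartbeats 2000000

namespace CfsgLib.Lie.SzOvoid

open scoped Matrix Pointwise
open Cfsg MulAction CfsgLib.SuzukiFix

variable {F : Type*} [Field F] [Fintype F] {m : ℕ} (P : Par F m)

/-- The defining conditions of the matrix description. -/
def Good (m : ℕ) (M : Matrix (Fin 4) (Fin 4) F) : Prop :=
  Mᵀ * J4 * M = J4 ∧ Cfsg.Lie.star4 M = M.map (fun x => x ^ ee m)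

include P

theorem good_mul {M M' : Matrix (Fin 4) (Fin 4) F} (h : Good m M) (h' : Good m M') : Good m (M * M') := by
  haveI := P.hc
  obtain ⟨g1, s1⟩ := h
  obtain ⟨g2, s2⟩ := h'
  refine ⟨?_, ?_⟩
  · rw [Matrix.transpose_mul,
      show M'ᵀ * Mᵀ * J4 * (M * M') = M'ᵀ * (Mᵀ * J4 * M) * M' by simp only [mul_assoc], g1, g2]
  · have hθ : (fun x : F => x ^ ee m) = iterateFrobenius F 2 (m + 1) := by
      ext x; simp [iterateFrobenius_def, ee_def]
    rw [star4_mul g1 g2, s1, s2, hθ, Matrix.map_mul]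

theorem good_U (a b : F) : Good m (mU P a b).1 := by
  have two := two_eq P
  have he := ee_ne m
  have hN : NN m a b ^ ee m = a ^ ee m * b ^ ee m + a ^ 2 * (a ^ ee m) ^ 2 + b ^ 2 := by
    simp only [NN, pow_add, add_pow_ee P, mul_pow, sq_iter P, ← pow_mul]
    rw [mul_comm 2 (ee m)]
  refine ⟨?_, ?_⟩
  · ext i j
    fin_cases i <;> fin_cases j <;>
      simp [mU, J4, Matrix.mul_apply, Fin.sum_univ_four, NN, pow_succ] <;>
      linear_combination (norm := (ring_nf; simp [two, show (4 : F) = 0 by linear_combination (2 : F) * two])) (0 : F) * two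
  · ext i j
    fin_cases i <;> fin_cases j <;>
      simp [mU, Cfsg.Lie.star4, Cfsg.Lie.pairOf, hN, add_pow_ee P, mul_pow, sq_iter P, zero_pow he, pow_succ] <;>
      (simp only [NN, pow_succ, pow_add, pow_zero, one_mul]) <;>
      linear_combination (norm := (ring_nf; simp [two, show (4 : F) = 0 by linear_combination (2 : F) * two])) (0 : F) * two

theorem good_W : Good m (mW (F := F)).1 := by
  have two := two_eq P
  have he := ee_ne m
  refine ⟨?_, ?_⟩
  · ext i j
    fin_cases i <;> fin_cases j <;> simp [mW, J4, Matrix.mul_apply, Fin.sum_univ_four]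
  · ext i j
    fin_cases i <;> fin_cases j <;> simp [mW, Cfsg.Lie.star4, Cfsg.Lie.pairOf, zero_pow he] <;>
      linear_combination -two

theorem good_H (k : Fˣ) : Good m (mH m k).1 := by
  have he := ee_ne m
  have hk : (k : F) ≠ 0 := k.ne_zero
  refine ⟨?_, ?_⟩
  · ext i j
    fin_cases i <;> fin_cases j <;> simp [mH, J4, Matrix.mul_apply, Fin.sum_univ_four, Matrix.diagonal]
  · ext i j
    fin_cases i <;> fin_cases j <;>
      simp [mH, Cfsg.Lie.star4, Cfsg.Lie.pairOf, Matrix.diagonal, zero_pow he, mul_pow, pow_succ, sq_iter P] <;>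
      field_simp

theorem good_of_mem (g : ↥(Sz F m)) : Good m (g : Matrix.SpecialLinearGroup (Fin 4) F).1 := by
  rcases decomp P g with ⟨a, b, k, rfl⟩ | ⟨c, d, a, b, k, rfl⟩
  · exact good_mul P (good_U P a b) (good_H P k)
  · exact good_mul P (good_mul P (good_U P c d) (good_W P)) (good_mul P (good_U P a b) (good_H P k))

theorem good_col {M : Matrix (Fin 4) (Fin 4) F} (h : Good m M) (hc : M *ᵥ ![1, 0, 0, 0] ≠ 0) :
    Projectivization.mk F (M *ᵥ ![1, 0, 0, 0]) hc ∈ suzukiOvoid F m := by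
  have two := two_eq P
  obtain ⟨hg, hs⟩ := h
  have g01 := congrFun (congrFun hg 0) 1
  have s0 := congrFun (congrFun hs 0) 0
  have s1 := congrFun (congrFun hs 1) 0
  have s2 := congrFun (congrFun hs 2) 0
  have s3 := congrFun (congrFun hs 3) 0
  simp [J4, Matrix.mul_apply, Fin.sum_univ_four] at g01
  simp [Cfsg.Lie.star4, Cfsg.Lie.pairOf] at s0 s1 s2 s3
  have ev : ∀ i, (M *ᵥ ![1, 0, 0, 0]) i = M i 0 := fun i => by
    simp [Matrix.mulVec, dotProduct, Fin.sum_univ_four]
  set p := M 0 0 * M 3 1 + M 3 0 * M 0 1 with hp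
  have R4 : M 1 0 * M 3 0 ^ ee m + M 2 0 * M 2 0 ^ ee m + M 3 0 * p = 0 := by
    rw [← s2, ← s3, hp]
    linear_combination (norm := (ring_nf; simp [two, show (4 : F) = 0 by linear_combination (2 : F) * two])) M 3 0 * g01
  have R3 : M 0 0 * M 3 0 ^ ee m + M 2 0 * p + M 3 0 * M 1 0 ^ ee m = 0 := by
    rw [← s1, ← s3, hp]
    linear_combination (norm := (ring_nf; simp [two, show (4 : F) = 0 by linear_combination (2 : F) * two])) (0 : F) * two
  have R2 : M 0 0 * M 2 0 ^ ee m + M 1 0 * p + M 3 0 * M 0 0 ^ ee m = 0 := by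
    rw [← s0, ← s2, hp]
    linear_combination (norm := (ring_nf; simp [two, show (4 : F) = 0 by linear_combination (2 : F) * two])) (0 : F) * two
  have R1 : M 0 0 * p + M 1 0 * M 1 0 ^ ee m + M 2 0 * M 0 0 ^ ee m = 0 := by
    rw [← s0, ← s1, hp]
    linear_combination (norm := (ring_nf; simp [two, show (4 : F) = 0 by linear_combination (2 : F) * two])) M 0 0 * g01
  rw [mem_ovoid]
  by_cases h3 : M 3 0 = 0
  · left
    have h2 : M 2 0 = 0 := by
      rw [h3, zero_pow (ee_ne m)] at R4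
      have e : M 2 0 ^ (ee m + 1) = 0 := by rw [pow_succ]; linear_combination R4
      exact (pow_eq_zero_iff (Nat.succ_ne_zero _)).1 e
    have h1 : M 1 0 = 0 := by
      rw [h3, h2, zero_pow (ee_ne m)] at R2
      rw [h2] at R1
      have e : M 1 0 ^ (ee m + 2) = 0 := by
        rw [pow_add]; linear_combination M 1 0 * R1 - M 0 0 * R2
      exact (pow_eq_zero_iff (Nat.succ_ne_zero _)).1 e
    refine (Projectivization.mk_eq_mk_iff' F _ _ _ _).2 ⟨M 0 0, funext fun i => ?_⟩
    rw [ev]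
    fin_cases i <;> simp [h1, h2, h3]
  · right
    refine ⟨M 2 0 / M 3 0, M 1 0 / M 3 0, ?_⟩
    have hN : NN m (M 2 0 / M 3 0) (M 1 0 / M 3 0) = M 0 0 / M 3 0 := by
      have h3e : M 3 0 ^ ee m ≠ 0 := pow_ne_zero _ h3
      simp only [NN, div_pow, pow_add]
      field_simp
      linear_combination (norm := (ring_nf; simp [two, show (4 : F) = 0 by linear_combination (2 : F) * two])) -(M 3 0) * R3 + M 2 0 * R4
    refine (Projectivization.mk_eq_mk_iff' F _ _ _ _).2 ⟨M 3 0, funext fun i => ?_⟩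
    rw [ev]
    fin_cases i <;> simp [vec, hN] <;> field_simp

omit P in
theorem sp4_of_gram {g : GL (Fin 4) F} (h : (g : Matrix (Fin 4) (Fin 4) F)ᵀ * J4 * (g : Matrix (Fin 4) (Fin 4) F) = J4) :
    g ∈ Cfsg.Lie.Sp4 F := by
  intro u v
  simp only [Units.coeHom_apply, altForm4_eq, Matrix.mulVec_mulVec]
  rw [Matrix.dotProduct_mulVec, Matrix.vecMul_mulVec, ← mul_assoc, h, ← Matrix.dotProduct_mulVec]

omit P in
/-- The inclusion in the general linear group. -/
noncomputable def toGL4 : ↥(Sz F m) →* GL (Fin 4) F :=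
  (Matrix.SpecialLinearGroup.toGL).comp (Sz F m).subtype

omit P in
theorem toGL4_coe (g : ↥(Sz F m)) :
    (toGL4 g : Matrix (Fin 4) (Fin 4) F) = (g : Matrix.SpecialLinearGroup (Fin 4) F).1 := rfl

theorem range_toGL4 : (toGL4 (F := F) (m := m)).range = Cfsg.Lie.Sz F (2 ^ (m + 1)) := by
  haveI := P.hc
  refine le_antisymm ?_ fun g hg => ?_
  · rintro _ ⟨g, rfl⟩
    obtain ⟨h1, h2⟩ := good_of_mem P g
    exact Subgroup.subset_closure ⟨sp4_of_gram h1, h2⟩
  · obtain ⟨hsp, hst⟩ := mem_set_of_mem_Sz (m + 1) hg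
    have hgood : Good m (g : Matrix (Fin 4) (Fin 4) F) := ⟨gram_of_mem hsp, hst⟩
    have hdet : Matrix.det (g : Matrix (Fin 4) (Fin 4) F) = 1 := by
      have e := congrArg Matrix.det hgood.1
      rw [Matrix.det_mul, Matrix.det_mul, Matrix.det_transpose] at e
      have hJ : Matrix.det (J4 : Matrix (Fin 4) (Fin 4) F) ≠ 0 := fun h0 => by
        have := congrArg Matrix.det (J4_mul_self (F := F))
        rw [Matrix.det_mul, h0, mul_zero, Matrix.det_one] at this
        exact zero_ne_one this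
      have e2 : Matrix.det (g : Matrix (Fin 4) (Fin 4) F) * Matrix.det (g : Matrix (Fin 4) (Fin 4) F) = 1 :=
        mul_right_cancel₀ hJ (by linear_combination e)
      rcases mul_self_eq_one_iff.1 e2 with h | h
      · exact h
      · rw [h]; linear_combination -two_eq P
    let s : Matrix.SpecialLinearGroup (Fin 4) F := ⟨_, hdet⟩
    have hs : ∀ t : ↥(Sz F m), (s * (t : Matrix.SpecialLinearGroup (Fin 4) F)) • suzukiPointInfinity F ∈ suzukiOvoid F m := by
      intro t
      rw [suzukiPointInfinity, Projectivization.smul_mk]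
      exact good_col P (good_mul P hgood (good_of_mem P t))
        ((smul_ne_zero_iff_ne (s * (t : Matrix.SpecialLinearGroup (Fin 4) F))).2 (by simp))
    have hsz : s ∈ Sz F m := by
      refine mem_Sz P (by simpa using hs 1) fun x y => ?_
      have e : ((sU P x y * sW P : ↥(Sz F m)) : Matrix.SpecialLinearGroup (Fin 4) F) • suzukiPointInfinity F = pt m x y := by
        rw [Subgroup.coe_mul, mul_smul, sW_inf, sU_pt0]
      rw [← e, ← mul_smul]
      exact hs _
    exact ⟨⟨s, hsz⟩, Units.ext rfl⟩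

theorem bridge : ∃ φ : ↥(Sz F m) ≃* ↥(Cfsg.Lie.Sz F (2 ^ (m + 1))), ∀ g, (φ g : GL (Fin 4) F) = toGL4 g := by
  have hinj : Function.Injective (toGL4 (F := F) (m := m)) := fun a b h => by
    refine Subtype.ext (Subtype.ext ?_)
    rw [← toGL4_coe a, ← toGL4_coe b, h]
  exact ⟨(MonoidHom.ofInjective hinj).trans (MulEquiv.subgroupCongr (range_toGL4 P)), fun _ => rfl⟩

end CfsgLib.Lie.SzOvoid
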