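/-
Sylow subgroups and centralisers of the Suzuki groups.
-/
import Cfsg.Agent.Lib.LieSuzukiGroup

set_option autoImplicit false
set_option maxHeartbeats 1000000

namespace CfsgLib.Lie.SzOvoid

open scoped Matrix Pointwise commutatorElement
open Cfsg MulAction

variable {F : Type*} [Field F] [Fintype F] {m : ℕ} (P : Par F m)

include P

/-- The unipotent subgroup. -/
def uSub : Subgroup ↥(Sz F m) where
  carrier := {g | ∃ a b, g = sU P a b}
  one_mem' := ⟨0, 0, (sU_zero P).symm⟩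
  mul_mem' := by
    rintro g h ⟨a, b, rfl⟩ ⟨c, d, rfl⟩
    exact ⟨_, _, sU_mul P a b c d⟩
  inv_mem' := by
    rintro g ⟨a, b, rfl⟩
    exact ⟨_, _, sU_inv P a b⟩

theorem card_uSub : Nat.card ↥(uSub P) = 2 ^ (2 * (2 * m + 1)) := by
  classical
  have hb : Function.Bijective fun x : F × F => (⟨sU P x.1 x.2, x.1, x.2, rfl⟩ : ↥(uSub P)) := by
    refine ⟨fun x y h => ?_, fun g => ?_⟩
    · obtain ⟨e1, e2⟩ := sU_inj P (Subtype.ext_iff.1 h)
      exact Prod.ext e1 e2
    · obtain ⟨g, a, b, rfl⟩ := g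
      exact ⟨(a, b), rfl⟩
  rw [← Nat.card_eq_of_bijective _ hb, Nat.card_prod, Nat.card_eq_fintype_card, P.hF, ← pow_add]
  congr 1
  omega

theorem uSub_isPGroup : IsPGroup 2 ↥(uSub P) := IsPGroup.of_card (card_uSub P)

theorem odd_torus : ¬ 2 ∣ (Fintype.card F ^ 2 + 1) * (Fintype.card F - 1) := by
  rw [Nat.prime_two.dvd_mul, P.hF]
  have h1 : 2 ∣ (2 : ℕ) ^ (2 * m + 1) := dvd_pow_self 2 (Nat.succ_ne_zero _)
  have h2 : 2 ∣ ((2 : ℕ) ^ (2 * m + 1)) ^ 2 := dvd_pow h1 two_ne_zero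
  have h3 : 0 < (2 : ℕ) ^ (2 * m + 1) := Nat.two_pow_pos _
  omega

theorem uSub_val [Fact (Nat.Prime 2)] : Nat.card ↥(uSub P) = 2 ^ (Nat.card ↥(Sz F m)).factorization 2 := by
  have hodd := odd_torus P
  have h0 : (Fintype.card F ^ 2 + 1) * (Fintype.card F - 1) ≠ 0 := fun e => hodd (e ▸ dvd_zero 2)
  rw [card_Sz P, card_uSub P, mul_assoc, Nat.factorization_mul (pow_ne_zero _ Fintype.card_ne_zero) h0,
    Finsupp.add_apply, Nat.factorization_eq_zero_of_not_dvd hodd, add_zero, P.hF, ← pow_mul,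
    Nat.prime_two.factorization_pow, Finsupp.single_eq_same, mul_comm]

/-- The standard Sylow 2-subgroup. -/
def uSylow [Fact (Nat.Prime 2)] : Sylow 2 ↥(Sz F m) := Sylow.ofCard (uSub P) (uSub_val P)

theorem uSylow_coe [Fact (Nat.Prime 2)] : (uSylow P : Subgroup ↥(Sz F m)) = uSub P := rfl

theorem sylow_conj [Fact (Nat.Prime 2)] (S : Sylow 2 ↥(Sz F m)) :
    ∃ g : ↥(Sz F m), (S : Subgroup ↥(Sz F m)) = (uSub P).map (MulAut.conj g).toMonoidHom := by
  obtain ⟨g, hg⟩ := exists_smul_eq ↥(Sz F m) (uSylow P) S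
  exact ⟨g, by rw [← hg, Sylow.coe_subgroup_smul, uSylow_coe]; rfl⟩

theorem uSub_fix {g : ↥(Sz F m)} (hg : g ∈ uSub P) : g • oInf F m = oInf F m := by
  obtain ⟨a, b, rfl⟩ := hg
  exact Subtype.ext (sU_inf P a b)

theorem uSub_le : uSub P ≤ stabilizer ↥(Sz F m) (oInf F m) := fun g hg => uSub_fix P hg

theorem uSub_only_fix {g : ↥(Sz F m)} (hg : g ∈ uSub P) (hne : g ≠ 1) {p : ↥(suzukiOvoid F m)}
    (hp : g • p = p) : p = oInf F m := by
  obtain ⟨a, b, rfl⟩ := hg
  rcases mem_ovoid.1 p.2 with e | ⟨x, y, e⟩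
  · exact Subtype.ext e
  · exfalso
    have h := Subtype.ext_iff.1 hp
    rw [smul_coe P, e, sU_pt] at h
    obtain ⟨h1, h2⟩ := pt_inj h
    have ha : a = 0 := by simpa using h1
    subst ha
    have hb : b = 0 := by simpa [zero_pow (ee_ne m)] using h2
    subst hb
    exact hne (sU_zero P)

theorem stab_normalizer : Subgroup.normalizer (uSub P : Set ↥(Sz F m)) = stabilizer ↥(Sz F m) (oInf F m) := by
  refine le_antisymm (fun g hg => ?_) fun g hg => ?_
  · rw [mem_stabilizer_iff]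
    have h1 : sU P 1 0 ≠ 1 := fun h => one_ne_zero (sU_inj P (h.trans (sU_zero P).symm)).1
    have h2 := (Subgroup.mem_normalizer_iff''.1 hg (sU P 1 0)).1 ⟨1, 0, rfl⟩
    refine uSub_only_fix P (g := sU P 1 0) ⟨1, 0, rfl⟩ h1 ?_
    have h3 := uSub_fix P h2
    rwa [mul_smul, mul_smul, inv_smul_eq_iff] at h3
  · rw [Subgroup.mem_normalizer_iff]
    obtain ⟨a, b, k, rfl⟩ := (stab_oInf P).1 hg
    have hfwd : ∀ a b k h, h ∈ uSub P → sU P a b * sH P k * h * (sU P a b * sH P k)⁻¹ ∈ uSub P := by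
      rintro a b k _ ⟨c, d, rfl⟩
      rw [show sU P a b * sH P k * sU P c d * (sU P a b * sH P k)⁻¹ =
        sU P a b * (sH P k * sU P c d * (sH P k)⁻¹) * (sU P a b)⁻¹ by group, sH_conj, sU_inv, sU_mul, sU_mul]
      exact ⟨_, _, rfl⟩
    intro h
    refine ⟨hfwd a b k h, fun hh => ?_⟩
    obtain ⟨a', b', k', e⟩ := (stab_oInf P).1 (inv_mem hg)
    have := hfwd a' b' k' _ hh
    rw [← e] at this
    simpa [mul_assoc] using this

theorem eq_top_of_uSub_le {M : Subgroup ↥(Sz F m)} (hU : uSub P ≤ M) (hM : ¬ M ≤ stabilizer ↥(Sz F m) (oInf F m)) :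
    M = ⊤ := by
  obtain ⟨t, ht, htne⟩ := Set.not_subset.1 hM
  have htne' : t • oInf F m ≠ oInf F m := htne
  rcases mem_ovoid.1 (t • oInf F m).2 with e | ⟨a0, b0, e⟩
  · exact absurd (Subtype.ext e) htne'
  -- `M` is transitive
  have htr : ∀ p : ↥(suzukiOvoid F m), ∃ s ∈ M, s • oInf F m = p := by
    intro p
    rcases mem_ovoid.1 p.2 with e' | ⟨a, b, e'⟩
    · exact ⟨1, one_mem M, by rw [one_smul]; exact (Subtype.ext e').symm⟩
    · refine ⟨sU P a b * (sU P a0 b0)⁻¹ * t, mul_mem (mul_mem (hU ⟨a, b, rfl⟩) (inv_mem (hU ⟨a0, b0, rfl⟩))) ht, ?_⟩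
      refine Subtype.ext ?_
      rw [smul_coe P, mul_assoc, Subgroup.coe_mul, Subgroup.coe_mul, Subgroup.coe_inv, mul_smul, mul_smul,
        ← smul_coe P t, e, e', ← sU_pt0 P a0 b0, inv_smul_smul, sU_pt0]
  haveI := simple P
  have hn : (Subgroup.normalClosure (uSub P : Set ↥(Sz F m))) = ⊤ := by
    refine (Subgroup.normalClosure_normal.eq_bot_or_eq_top).resolve_left fun h => ?_
    have h1 : sU P 1 0 ∈ Subgroup.normalClosure (uSub P : Set ↥(Sz F m)) :=
      Subgroup.subset_normalClosure ⟨1, 0, rfl⟩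
    rw [h, Subgroup.mem_bot, ← sU_zero P] at h1
    exact one_ne_zero (sU_inj P h1).1
  rw [eq_top_iff, ← hn, Subgroup.normalClosure, Subgroup.closure_le]
  intro x hx
  obtain ⟨u, hu, hc⟩ := Group.mem_conjugatesOfSet_iff.1 hx
  obtain ⟨g, rfl⟩ := isConj_iff.1 hc
  obtain ⟨s, hs, hse⟩ := htr (g • oInf F m)
  have hb : s⁻¹ * g ∈ stabilizer ↥(Sz F m) (oInf F m) := by
    rw [mem_stabilizer_iff, mul_smul, ← hse, inv_smul_smul]
  rw [← stab_normalizer P, Subgroup.mem_normalizer_iff] at hb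
  have := mul_mem (mul_mem hs (hU ((hb u).1 hu))) (inv_mem hs)
  simpa [mul_assoc] using this

theorem stab_coatom : IsCoatom (stabilizer ↥(Sz F m) (oInf F m)) := by
  refine ⟨fun h => ?_, fun M hM => eq_top_of_uSub_le P ((uSub_le P).trans hM.le) (not_le_of_gt hM)⟩
  have h1 : sW P ∈ stabilizer ↥(Sz F m) (oInf F m) := h ▸ Subgroup.mem_top _
  have h2 := Subtype.ext_iff.1 (mem_stabilizer_iff.1 h1)
  rw [smul_coe P] at h2
  exact pt_ne_inf m (0 : F) 0 ((sW_inf P).symm.trans h2)

theorem unique_maximal {M : Subgroup ↥(Sz F m)} (hM : IsCoatom M) (hU : uSub P ≤ M) :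
    M = stabilizer ↥(Sz F m) (oInf F m) := by
  have h : M ≤ stabilizer ↥(Sz F m) (oInf F m) := by
    by_contra hc
    exact hM.1 (eq_top_of_uSub_le P hU hc)
  exact (hM.le_iff_eq (stab_coatom P).1).1 h |>.symm

theorem not_real {a b : F} (ha : a ≠ 0) : ¬ IsConj (sU P a b) (sU P a b)⁻¹ := by
  intro hc
  obtain ⟨g, hg⟩ := isConj_iff.1 hc
  have hne : sU P a b ≠ 1 := fun h => ha (sU_inj P (h.trans (sU_zero P).symm)).1
  have hgs : g ∈ stabilizer ↥(Sz F m) (oInf F m) := by
    rw [mem_stabilizer_iff]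
    refine uSub_only_fix P (g := (sU P a b)⁻¹) (inv_mem ⟨a, b, rfl⟩) (inv_ne_one.2 hne) ?_
    rw [← hg, mul_smul, mul_smul, inv_smul_smul, uSub_fix P ⟨a, b, rfl⟩]
  obtain ⟨c, d, k, rfl⟩ := (stab_oInf P).1 hgs
  rw [show sU P c d * sH P k * sU P a b * (sU P c d * sH P k)⁻¹ =
    sU P c d * (sH P k * sU P a b * (sH P k)⁻¹) * (sU P c d)⁻¹ by group, sH_conj, sU_inv, sU_inv, sU_mul, sU_mul] at hg
  obtain ⟨h1, h2⟩ := sU_inj P hg
  have hk : (k : F) ^ ee m = 1 := by
    have : ((k : F) ^ ee m - 1) * a = 0 := by linear_combination h1 - c * two_eq P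
    exact sub_eq_zero.1 ((mul_eq_zero.1 this).resolve_right ha)
  rw [hk, one_pow, one_mul, one_mul, add_pow_ee P, pow_succ, pow_succ] at h2
  -- scale by `a`
  obtain ⟨t, rfl⟩ : ∃ t, c = t * a := ⟨c / a, (div_mul_cancel₀ c ha).symm⟩
  rw [mul_pow] at h2
  have h3 : a ^ ee m * a * (t ^ ee m + t + 1) = 0 := by
    linear_combination h2 + (a ^ ee m * a - d - t ^ ee m * a ^ ee m * t * a) * two_eq P
  have h4 : t ^ ee m + t + 1 = 0 := (mul_eq_zero.1 h3).resolve_left (mul_ne_zero (pow_ne_zero _ ha) ha)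
  have h5 : NN m (1 : F) t ≠ 0 := NN_ne P (Or.inl one_ne_zero)
  apply h5
  simp only [NN, one_mul, one_pow]
  linear_combination h4

theorem two_generated : ∃ a b : ↥(Sz F m), Subgroup.closure ({a, b} : Set ↥(Sz F m)) = ⊤ := by
  classical
  obtain ⟨k, hk⟩ := IsCyclic.exists_generator (α := Fˣ)
  set M := Subgroup.closure ({sH P k, sU P 1 0 * sW P} : Set ↥(Sz F m))
  refine ⟨sH P k, sU P 1 0 * sW P, ?_⟩
  have h1 : sH P k ∈ M := Subgroup.subset_closure (Or.inl rfl)
  have h2 : sU P 1 0 * sW P ∈ M := Subgroup.subset_closure (Or.inr rfl)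
  have hH : ∀ l, sH P l ∈ M := fun l => by
    obtain ⟨j, rfl⟩ := Subgroup.mem_zpowers_iff.1 (hk l)
    rw [map_zpow]
    exact zpow_mem h1 j
  obtain ⟨l, hl⟩ := exists_unit_ne P
  set c := ((l⁻¹ : Fˣ) : F) ^ ee m with hc
  have hc1 : c + 1 ≠ 0 := fun h => hl (by
    have hc' : c = 1 := by linear_combination h - two_eq P
    rw [hc, Units.val_inv_eq_inv_val, inv_pow, inv_eq_one] at hc'
    exact hc')
  have hu : sU P 1 0 * (sH P l⁻¹ * (sU P 1 0)⁻¹ * (sH P l⁻¹)⁻¹) ∈ M := by
    have hw : (sW P)⁻¹ = sW P := inv_eq_of_mul_eq_one_left (sW_sq P)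
    have h := mul_mem (mul_mem (mul_mem h2 (hH l)) (inv_mem h2)) (hH l)
    have e : sU P 1 0 * sW P * sH P l * (sU P 1 0 * sW P)⁻¹ * sH P l =
        sU P 1 0 * (sW P * sH P l * sW P) * (sU P 1 0)⁻¹ * sH P l := by rw [mul_inv_rev, hw]; group
    rw [e, sW_conj, map_inv] at h
    rw [map_inv]
    simpa [mul_assoc] using h
  rw [sU_inv, sH_conj, sU_mul, ← hc] at hu
  obtain ⟨b0, hb0⟩ : ∃ b0, sU P (1 + c * 1) b0 ∈ M := ⟨_, hu⟩
  have hfirst : ∀ a : F, ∃ b, sU P a b ∈ M := by
    intro a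
    by_cases ha : a = 0
    · exact ⟨0, by rw [ha, sU_zero]; exact one_mem M⟩
    · have hc2 : 1 + c * 1 ≠ 0 := by rwa [mul_one, add_comm]
      obtain ⟨s, hs⟩ : ∃ s : Fˣ, (s : F) ^ ee m = a / (1 + c * 1) := by
        refine ⟨Units.mk0 ((a / (1 + c * 1)) ^ 2 ^ m) (pow_ne_zero _ (div_ne_zero ha hc2)), ?_⟩
        rw [Units.val_mk0, ← pow_mul, ee_def, ← pow_add, show m + (m + 1) = 2 * m + 1 by ring, ← P.hF,
          FiniteField.pow_card]
      have := mul_mem (mul_mem (hH s) hb0) (inv_mem (hH s))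
      rw [sH_conj, hs, div_mul_cancel₀ _ hc2] at this
      exact ⟨_, this⟩
  have hsec : ∀ b : F, sU P 0 b ∈ M := by
    intro b
    by_cases hb : b = 0
    · rw [hb, sU_zero]; exact one_mem M
    · obtain ⟨d, hd⟩ := hfirst 1
      have h := mul_mem hd hd
      rw [sU_mul, add_self P, add_self P, zero_add, one_pow, one_mul] at h
      obtain ⟨s, hs⟩ : ∃ s : Fˣ, ((s : F) ^ ee m) ^ (ee m + 1) = b := by
        have hinj : Function.Injective fun s : Fˣ => (s ^ ee m) ^ (ee m + 1) := fun x y e => by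
          simp only at e
          have e1 : ((x * y⁻¹ : Fˣ) ^ ee m) ^ (ee m + 1) = 1 := by
            rw [mul_pow, mul_pow, e, inv_pow, inv_pow, mul_inv_cancel]
          have e2 := congrArg Units.val e1
          simp only [Units.val_pow_eq_pow_val, Units.val_one] at e2
          exact mul_inv_eq_one.1 (Units.ext (pow_ee_eq_one P (pow_ee_succ_eq_one P e2)))
        obtain ⟨s, hs⟩ := (Finite.injective_iff_surjective.1 hinj) (Units.mk0 b hb)
        exact ⟨s, by simpa using congrArg Units.val hs⟩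
      have h' := mul_mem (mul_mem (hH s) h) (inv_mem (hH s))
      rwa [sH_conj, mul_zero, hs, mul_one] at h'
  have hU : ∀ a b, sU P a b ∈ M := by
    intro a b
    obtain ⟨d, hd⟩ := hfirst a
    have := mul_mem hd (hsec (d + b))
    rw [sU_mul, add_zero, mul_zero, add_zero, ← add_assoc, add_self P, zero_add] at this
    exact this
  refine closure_gens P hU ?_ hH
  have := mul_mem (inv_mem (hU 1 0)) h2
  rwa [inv_mul_cancel_left] at this

theorem centralizer_uSub {g : ↥(Sz F m)} (hg : g ∈ uSub P) (hne : g ≠ 1) :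
    Subgroup.centralizer {g} ≤ uSub P := by
  intro c hc
  rw [Subgroup.mem_centralizer_singleton_iff] at hc
  have hcs : c • oInf F m = oInf F m :=
    uSub_only_fix P hg hne (by rw [← mul_smul, ← hc, mul_smul, uSub_fix P hg])
  obtain ⟨a, b, rfl⟩ := hg
  obtain ⟨c1, d1, k, rfl⟩ := (stab_oInf P).1 (mem_stabilizer_iff.2 hcs)
  have e : sU P c1 d1 * (sH P k * sU P a b * (sH P k)⁻¹) * sH P k = sU P a b * sU P c1 d1 * sH P k := by
    rw [mul_assoc (sU P a b), ← hc]; group
  rw [sH_conj, sU_mul, sU_mul] at e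
  obtain ⟨e1, e2, -⟩ := UH_inj P e
  have hk : k = 1 := by
    refine Units.ext (pow_ee_eq_one P ?_)
    by_cases ha : a = 0
    · subst ha
      have hb : b ≠ 0 := fun hb => hne (by rw [hb, sU_zero])
      refine pow_ee_succ_eq_one P (mul_eq_right₀ hb |>.1 ?_)
      simp [zero_pow (ee_ne m)] at e2
      linear_combination e2
    · exact mul_eq_right₀ ha |>.1 (by linear_combination e1)
  rw [hk, map_one, mul_one]
  exact ⟨c1, d1, rfl⟩

theorem centralizer_torus {k : Fˣ} (hk : k ≠ 1) : Subgroup.centralizer {sH P k} ≤ (sH P).range := by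
  intro c hc
  rw [Subgroup.mem_centralizer_singleton_iff] at hc
  have hfix : ∀ p : ↥(suzukiOvoid F m), sH P k • p = p → p = oInf F m ∨ p = oZero F m := by
    intro p hp
    by_contra hcon
    rw [not_or] at hcon
    have h1 : sH P k • oInf F m = oInf F m := Subtype.ext (sH_inf P k)
    have h2 : sH P k • oZero F m = oZero F m := Subtype.ext (by
      rw [smul_coe P]; show _ • pt m (0 : F) 0 = pt m 0 0; rw [sH_pt, mul_zero, mul_zero])
    have h3 : oInf F m ≠ oZero F m := fun h => pt_ne_inf m (0 : F) 0 (Subtype.ext_iff.1 h).symm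
    exact hk (sH_inj P ((three_fixed P h3 (Ne.symm hcon.2) (Ne.symm hcon.1) h1 h2 hp).trans (map_one _).symm))
  have hI : sH P k • oInf F m = oInf F m := Subtype.ext (sH_inf P k)
  have hZ : sH P k • oZero F m = oZero F m := Subtype.ext (by
    rw [smul_coe P]; show _ • pt m (0 : F) 0 = pt m 0 0; rw [sH_pt, mul_zero, mul_zero])
  have c0 : c • oInf F m = oInf F m ∨ c • oInf F m = oZero F m :=
    hfix _ (by rw [← mul_smul, ← hc, mul_smul, hI])
  have c1 : c • oZero F m = oInf F m ∨ c • oZero F m = oZero F m :=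
    hfix _ (by rw [← mul_smul, ← hc, mul_smul, hZ])
  have hne : oInf F m ≠ oZero F m := fun h => pt_ne_inf m (0 : F) 0 (Subtype.ext_iff.1 h).symm
  rcases c0 with h0 | h0
  · have h1 : c • oZero F m = oZero F m :=
      c1.resolve_left fun h => hne (smul_left_cancel c (h0.trans h.symm))
    obtain ⟨l, hl⟩ := two_point P c.2 (Subtype.ext_iff.1 h0) (Subtype.ext_iff.1 h1)
    exact ⟨l, Subtype.ext hl.symm⟩
  · exfalso
    have h1 : c • oZero F m = oInf F m :=
      c1.resolve_right fun h => hne (smul_left_cancel c (h0.trans h.symm))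
    have hw0 : sW P • oInf F m = oZero F m := Subtype.ext (sW_inf P)
    have hw1 : sW P • oZero F m = oInf F m := Subtype.ext (sW_zero P)
    have f0 : (sW P * c) • oInf F m = oInf F m := by rw [mul_smul, h0, hw1]
    have f1 : (sW P * c) • oZero F m = oZero F m := by rw [mul_smul, h1, hw0]
    obtain ⟨l, hl⟩ := two_point P (sW P * c).2 (Subtype.ext_iff.1 f0) (Subtype.ext_iff.1 f1)
    have hl' : sH P l = sW P * c := Subtype.ext hl.symm
    have e : sH P k⁻¹ = sH P k := by
      have hcl : c = sW P * sH P l := by rw [hl', ← mul_assoc, sW_sq, one_mul]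
      have h' : sH P k * (sW P * sH P l) = sW P * sH P l * sH P k := by rw [← hcl, hc]
      rw [mul_assoc (sW P), ← map_mul, mul_comm l k, map_mul, ← mul_assoc, ← mul_assoc, mul_left_inj] at h'
      rw [← sW_conj, mul_assoc, h', ← mul_assoc, sW_sq, one_mul]
    have hk2 : (k : F) * k = 1 := by
      have := congrArg Units.val (show k * k = 1 by
        have := sH_inj P e; conv_lhs => arg 1; rw [← this]
        exact inv_mul_cancel k)
      simpa using this
    rcases mul_self_eq_one_iff.1 hk2 with h | h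
    · exact hk (Units.ext h)
    · exact hk (Units.ext (by rw [h, Units.val_one]; linear_combination -two_eq P))

omit P in
theorem vec_mulVec_zero {A B : Matrix (Fin 4) (Fin 4) F} (h : ∀ v, A *ᵥ v = B *ᵥ v) : A = B := by
  ext i j
  simpa [Matrix.mulVec_single_one] using congrFun (h (Pi.single j 1)) i

theorem isCyclic_of_derangement {g : ↥(Sz F m)} {p : ℕ} [hp : Fact p.Prime] (hg : orderOf g = p)
    (hfix : ∀ x : ↥(suzukiOvoid F m), g • x ≠ x) : IsCyclic ↥(Subgroup.centralizer ({g} : Set ↥(Sz F m))) := by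
  classical
  set q := Fintype.card F with hq
  have hpq : p ∣ q ^ 2 + 1 := by
    have hσ : (MulAction.toPermHom ↥(Sz F m) ↥(suzukiOvoid F m) g) ^ p ^ 1 = 1 := by
      rw [pow_one, ← map_pow, ← hg, pow_orderOf_eq_one, map_one]
    haveI : Fintype ↥(suzukiOvoid F m) := Fintype.ofFinite _
    have h := Equiv.Perm.card_compl_support_modEq hσ
    have he : (MulAction.toPermHom ↥(Sz F m) ↥(suzukiOvoid F m) g).supportᶜ = ∅ := by
      ext x; simpa [Equiv.Perm.mem_support] using hfix x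
    rw [he, Finset.card_empty, ← Nat.card_eq_fintype_card, card_ovoid] at h
    exact Nat.modEq_zero_iff_dvd.1 h.symm
  have hp2 : p ≠ 2 := by
    rintro rfl
    exact odd_torus P (hpq.mul_right _)
  set A : Matrix (Fin 4) (Fin 4) F := ((g : Matrix.SpecialLinearGroup (Fin 4) F) : Matrix (Fin 4) (Fin 4) F)
  have hA1 : A ≠ 1 := fun h => hp.out.ne_one (by
    rw [← hg, orderOf_eq_one_iff]; exact Subtype.ext (Subtype.ext h))
  have hAp : A ^ p = 1 := by
    have := congrArg (fun x : ↥(Sz F m) => ((x : Matrix.SpecialLinearGroup (Fin 4) F) : Matrix (Fin 4) (Fin 4) F))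
      (hg ▸ pow_orderOf_eq_one g : g ^ p = 1)
    simpa using this
  have count : ∀ W : Submodule F (Fin 4 → F), (∀ v ∈ W, A *ᵥ v ∈ W) →
      q ^ Module.finrank F W ≡ Nat.card {v : W // A *ᵥ (v : Fin 4 → F) = v} [MOD p] := by
    intro W hW
    let f : Function.End ↥W := fun v => ⟨A *ᵥ v.1, hW _ v.2⟩
    have hpow : ∀ (n : ℕ) (v : ↥W), (((f ^ n : Function.End ↥W) v : ↥W) : Fin 4 → F) = (A ^ n) *ᵥ v.1 := by
      intro n
      induction n with
      | zero => intro v; simp; rfl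
      | succ n ih =>
        intro v
        rw [pow_succ' f, pow_succ' A, ← Matrix.mulVec_mulVec, ← ih]
        rfl
    have hf : f ^ p ^ 1 = 1 := by
      funext v
      refine Subtype.ext ?_
      rw [pow_one, hpow, hAp, Matrix.one_mulVec]
      rfl
    haveI : Fintype ↥W := Fintype.ofFinite _
    have h := Equiv.Perm.card_fixedPoints_modEq hf
    rw [Module.card_eq_pow_finrank (K := F) (V := ↥W)] at h
    refine h.trans ?_
    rw [← Nat.card_eq_fintype_card]
    exact congrArg (· % p) (Nat.card_congr (Equiv.subtypeEquivRight fun v => Subtype.ext_iff))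
  have hq4 : q ^ 4 ≡ 1 [MOD p] := by
    have h1 : 1 ≤ q ^ 4 := Nat.one_le_pow _ _ Fintype.card_pos
    refine ((Nat.modEq_iff_dvd' h1).2 ?_).symm
    refine hpq.trans ⟨q ^ 2 - 1, ?_⟩
    rw [show q ^ 4 = (q ^ 2) ^ 2 by ring]
    simpa using Nat.sq_sub_sq (q ^ 2) 1
  have hj : ∀ j, j ≤ 4 → q ^ j ≡ 1 [MOD p] → j = 0 ∨ j = 4 := by
    intro j hj4 h
    have hz : ((q : ZMod p)) ^ 2 = -1 := by
      have := (ZMod.natCast_eq_zero_iff _ _).2 hpq
      push_cast at this
      linear_combination this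
    have hne : (1 : ZMod p) ≠ -1 := by
      intro e
      have h2 : ((2 : ℕ) : ZMod p) = 0 := by push_cast; linear_combination e
      exact hp2 ((Nat.prime_dvd_prime_iff_eq hp.out Nat.prime_two).1 ((ZMod.natCast_eq_zero_iff _ _).1 h2))
    have h' : (q : ZMod p) ^ j = 1 := by
      have := (ZMod.natCast_eq_natCast_iff _ _ _).2 h
      simpa using this
    interval_cases j
    · exact Or.inl rfl
    · exfalso; rw [pow_one] at h'; rw [h', one_pow] at hz; exact hne hz
    · exfalso; exact hne (h'.symm.trans hz)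
    · exfalso
      apply hne
      have e : (q : ZMod p) = -1 := by linear_combination -h' + (q : ZMod p) * hz
      rw [e] at hz
      linear_combination hz
    · exact Or.inr rfl
  have hW0 : ∀ v, A *ᵥ v = v → v = 0 := by
    let W₀ : Submodule F (Fin 4 → F) :=
      { carrier := {v | A *ᵥ v = v}
        add_mem' := fun {a b} ha hb => by
          simp only [Set.mem_setOf_eq] at ha hb ⊢; rw [Matrix.mulVec_add, ha, hb]
        zero_mem' := Matrix.mulVec_zero A
        smul_mem' := fun c a ha => by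
          simp only [Set.mem_setOf_eq] at ha ⊢; rw [Matrix.mulVec_smul, ha] }
    have h := count ⊤ fun v _ => Submodule.mem_top
    rw [finrank_top, Module.finrank_fin_fun] at h
    have e : Nat.card {v : (⊤ : Submodule F (Fin 4 → F)) // A *ᵥ (v : Fin 4 → F) = v} = q ^ Module.finrank F ↥W₀ := by
      haveI : Fintype ↥W₀ := Fintype.ofFinite _
      rw [← Module.card_eq_pow_finrank, ← Nat.card_eq_fintype_card]
      exact Nat.card_congr
        { toFun := fun v => ⟨v.1.1, v.2⟩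
          invFun := fun v => ⟨⟨v.1, Submodule.mem_top⟩, v.2⟩
          left_inv := fun _ => rfl
          right_inv := fun _ => rfl }
    rw [e] at h
    have hle : Module.finrank F ↥W₀ ≤ 4 := (Submodule.finrank_le _).trans (by rw [Module.finrank_fin_fun])
    rcases hj _ hle (h.symm.trans hq4) with h0 | h4
    · intro v hv
      have : v ∈ W₀ := hv
      rwa [Submodule.finrank_eq_zero.1 h0, Submodule.mem_bot] at this
    · exact absurd (vec_mulVec_zero fun v => by
        have htop : W₀ = ⊤ := Submodule.eq_top_of_finrank_eq (by rw [h4, Module.finrank_fin_fun])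
        have hv : v ∈ W₀ := htop ▸ Submodule.mem_top
        rw [Matrix.one_mulVec]; exact hv) hA1
  have irr : ∀ W : Submodule F (Fin 4 → F), (∀ v ∈ W, A *ᵥ v ∈ W) → W = ⊥ ∨ W = ⊤ := by
    intro W hW
    have h := count W hW
    have e : Nat.card {v : W // A *ᵥ (v : Fin 4 → F) = v} = 1 := by
      rw [Nat.card_eq_one_iff_unique]
      exact ⟨⟨fun a b => Subtype.ext (Subtype.ext ((hW0 _ a.2).trans (hW0 _ b.2).symm))⟩,
        ⟨⟨0, by simp⟩⟩⟩
    rw [e] at h
    have hle : Module.finrank F ↥W ≤ 4 := (Submodule.finrank_le _).trans (by rw [Module.finrank_fin_fun])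
    rcases hj _ hle h with h0 | h4
    · exact Or.inl (Submodule.finrank_eq_zero.1 h0)
    · exact Or.inr (Submodule.eq_top_of_finrank_eq (by rw [h4, Module.finrank_fin_fun]))
  set R := Subring.centralizer ({A} : Set (Matrix (Fin 4) (Fin 4) F))
  haveI : NoZeroDivisors ↥R := ⟨fun {x y} hxy => by
    refine or_iff_not_imp_left.2 fun hx => ?_
    have hcomm : A * x.1 = x.1 * A := Subring.mem_centralizer_iff.1 x.2 A rfl
    rcases irr (LinearMap.ker (Matrix.toLin' x.1)) (fun v hv => by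
      rw [LinearMap.mem_ker, Matrix.toLin'_apply] at hv ⊢
      rw [Matrix.mulVec_mulVec, ← hcomm, ← Matrix.mulVec_mulVec, hv, Matrix.mulVec_zero]) with h | h
    · refine Subtype.ext (vec_mulVec_zero fun v => ?_)
      have hm : y.1 *ᵥ v ∈ LinearMap.ker (Matrix.toLin' x.1) := by
        rw [LinearMap.mem_ker, Matrix.toLin'_apply, Matrix.mulVec_mulVec,
          show x.1 * y.1 = 0 from congrArg Subtype.val hxy, Matrix.zero_mulVec]
      rw [h, Submodule.mem_bot] at hm
      rw [hm]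
      exact (Matrix.zero_mulVec v).symm
    · exact absurd (Subtype.ext (vec_mulVec_zero fun v => by
        have hm : v ∈ LinearMap.ker (Matrix.toLin' x.1) := h ▸ Submodule.mem_top
        rw [LinearMap.mem_ker, Matrix.toLin'_apply] at hm
        rw [hm]
        exact (Matrix.zero_mulVec v).symm)) hx⟩
  haveI : IsDomain ↥R := NoZeroDivisors.to_isDomain _
  haveI : Finite ↥R := Finite.of_injective (fun x : ↥R => x.1) Subtype.val_injective
  letI : CommRing ↥R :=
    { (inferInstance : Ring ↥R) with mul_comm := (Finite.isDomain_to_isField ↥R).mul_comm }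
  haveI : IsDomain ↥R := NoZeroDivisors.to_isDomain _
  let φ : ↥(Subgroup.centralizer ({g} : Set ↥(Sz F m))) →* ↥R :=
    { toFun := fun c => ⟨((c.1 : Matrix.SpecialLinearGroup (Fin 4) F) : Matrix (Fin 4) (Fin 4) F),
        Subring.mem_centralizer_iff.2 fun B hB => by
          obtain rfl := hB
          exact congrArg (fun x : ↥(Sz F m) => ((x : Matrix.SpecialLinearGroup (Fin 4) F) : Matrix (Fin 4) (Fin 4) F))
            (Subgroup.mem_centralizer_iff.1 c.2 g rfl)⟩
      map_one' := rfl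
      map_mul' := fun _ _ => rfl }
  exact isCyclic_of_injective_ringHom φ fun a b h =>
    Subtype.ext (Subtype.ext (Subtype.ext (congrArg (fun x : ↥R => x.1) h)))

theorem centralizer_conj {g h : ↥(Sz F m)} {K : Subgroup ↥(Sz F m)}
    (h1 : Subgroup.centralizer ({h * g * h⁻¹} : Set ↥(Sz F m)) ≤ K) :
    ∃ φ : ↥(Subgroup.centralizer ({g} : Set ↥(Sz F m))) →* ↥K, Function.Injective φ := by
  refine ⟨MonoidHom.codRestrict ((MulAut.conj h).toMonoidHom.comp (Subgroup.centralizer _).subtype) K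
    (fun c => h1 ?_), ?_⟩
  · rw [Subgroup.mem_centralizer_singleton_iff]
    have hc := Subgroup.mem_centralizer_singleton_iff.1 c.2
    show h * c.1 * h⁻¹ * (h * g * h⁻¹) = h * g * h⁻¹ * (h * c.1 * h⁻¹)
    rw [show h * c.1 * h⁻¹ * (h * g * h⁻¹) = h * (c.1 * g) * h⁻¹ by group, hc]
    group
  · intro a b e
    exact Subtype.ext ((MulAut.conj h).injective (Subtype.ext_iff.1 e))

theorem centralizer_cases {g : ↥(Sz F m)} {p : ℕ} [hp : Fact p.Prime] (hg : orderOf g = p) :
    (IsPGroup 2 ↥(Subgroup.centralizer ({g} : Set ↥(Sz F m))) ∧ p = 2) ∨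
      IsCyclic ↥(Subgroup.centralizer ({g} : Set ↥(Sz F m))) := by
  classical
  by_cases hfix : ∀ x : ↥(suzukiOvoid F m), g • x ≠ x
  · exact Or.inr (isCyclic_of_derangement P hg hfix)
  rw [not_forall] at hfix
  obtain ⟨x, hx⟩ := hfix
  rw [not_not] at hx
  obtain ⟨h, hh⟩ := to_inf P x
  have hg1 : g ≠ 1 := fun e => hp.out.ne_one (by rw [← hg, e, orderOf_one])
  have hs : h * g * h⁻¹ ∈ stabilizer ↥(Sz F m) (oInf F m) := by
    rw [mem_stabilizer_iff, ← hh, mul_smul, mul_smul, inv_smul_smul, hx]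
  obtain ⟨a, b, k, e⟩ := (stab_oInf P).1 hs
  by_cases hk : k = 1
  · left
    rw [hk, map_one, mul_one] at e
    have hu : h * g * h⁻¹ ∈ uSub P := ⟨a, b, e⟩
    have hne : h * g * h⁻¹ ≠ 1 := fun e1 => hg1 (conj_eq_one_iff.1 e1)
    obtain ⟨φ, hφ⟩ := centralizer_conj P (centralizer_uSub P hu hne)
    have h2 : IsPGroup 2 ↥(Subgroup.centralizer ({g} : Set ↥(Sz F m))) := (uSub_isPGroup P).of_injective φ hφ
    refine ⟨h2, ?_⟩
    obtain ⟨j, hj⟩ := h2 ⟨g, Subgroup.mem_centralizer_singleton_iff.2 rfl⟩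
    have hd : p ∣ 2 ^ j := hg ▸ orderOf_dvd_of_pow_eq_one (congrArg Subtype.val hj)
    exact (Nat.prime_dvd_prime_iff_eq hp.out Nat.prime_two).1 (hp.out.dvd_of_dvd_pow hd)
  · right
    -- move the second fixed point to the origin
    set c := (k : F) ^ ee m with hc
    have hc1 : c + 1 ≠ 0 := fun h0 => hk (Units.ext (pow_ee_eq_one P (by linear_combination h0 - two_eq P)))
    have hc2 : c ^ (ee m + 1) + 1 ≠ 0 := fun h0 =>
      hc1 (by rw [pow_ee_succ_eq_one P (k := c) (by linear_combination h0 - two_eq P)]; exact add_self P 1)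
    set x0 := a / (c + 1)
    set y0 := (a ^ ee m * (c * x0) + b) / (c ^ (ee m + 1) + 1)
    have hfix : (h * g * h⁻¹) • (⟨pt m x0 y0, pt_mem m x0 y0⟩ : ↥(suzukiOvoid F m)) = ⟨pt m x0 y0, pt_mem m x0 y0⟩ := by
      refine Subtype.ext ?_
      rw [smul_coe P, e, Subgroup.coe_mul, mul_smul, sH_pt, sU_pt, ← hc]
      congr 1
      · simp only [x0]; field_simp; linear_combination c * a * two_eq P
      · simp only [y0]; field_simp; linear_combination c ^ (ee m + 1) * (a ^ ee m * c * x0 + b) * two_eq P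
    set h' := (sU P x0 y0)⁻¹ * h
    have f1 : (h' * g * h'⁻¹) • oInf F m = oInf F m := by
      have hu : sU P x0 y0 • oInf F m = oInf F m := uSub_fix P ⟨x0, y0, rfl⟩
      rw [show h' * g * h'⁻¹ = (sU P x0 y0)⁻¹ * (h * g * h⁻¹) * sU P x0 y0 by simp only [h']; group,
        mul_smul, mul_smul, hu, mem_stabilizer_iff.1 hs, inv_smul_eq_iff, hu]
    have f2 : (h' * g * h'⁻¹) • oZero F m = oZero F m := by
      have hu : sU P x0 y0 • oZero F m = (⟨pt m x0 y0, pt_mem m x0 y0⟩ : ↥(suzukiOvoid F m)) := Subtype.ext (sU_pt0 P x0 y0)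
      rw [show h' * g * h'⁻¹ = (sU P x0 y0)⁻¹ * (h * g * h⁻¹) * sU P x0 y0 by simp only [h']; group,
        mul_smul, mul_smul, hu, hfix, inv_smul_eq_iff, hu]
    obtain ⟨l, hl⟩ := two_point P (h' * g * h'⁻¹).2 (Subtype.ext_iff.1 f1) (Subtype.ext_iff.1 f2)
    have hl' : sH P l = h' * g * h'⁻¹ := Subtype.ext hl.symm
    have hl1 : l ≠ 1 := by
      rintro rfl
      exact hg1 (conj_eq_one_iff.1 (hl'.symm.trans (map_one _)))
    obtain ⟨φ, hφ⟩ := centralizer_conj P (g := g) (h := h') (hl' ▸ centralizer_torus P hl1)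
    haveI : IsCyclic ↥(sH P).range := isCyclic_of_surjective (sH P).rangeRestrict (sH P).rangeRestrict_surjective
    exact isCyclic_of_injective φ hφ

theorem isCN : IsCNGroup ↥(Sz F m) := by
  intro g hg
  have hn : orderOf g ≠ 1 := fun h => hg (orderOf_eq_one_iff.1 h)
  obtain ⟨p, hp, hpd⟩ := Nat.exists_prime_and_dvd hn
  haveI : Fact p.Prime := ⟨hp⟩
  have ho : orderOf (g ^ (orderOf g / p)) = p := by
    rw [orderOf_pow_of_dvd (Nat.div_ne_zero_iff.2 ⟨hp.ne_zero, Nat.le_of_dvd (orderOf_pos g) hpd⟩)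
      (Nat.div_dvd_of_dvd hpd), Nat.div_div_self hpd (orderOf_pos g).ne']
  have hle : Subgroup.centralizer ({g} : Set ↥(Sz F m)) ≤ Subgroup.centralizer {g ^ (orderOf g / p)} := by
    intro c hc
    rw [Subgroup.mem_centralizer_singleton_iff] at hc ⊢
    exact ((show Commute c g from hc).pow_right _).eq
  haveI : Group.IsNilpotent ↥(Subgroup.centralizer ({g ^ (orderOf g / p)} : Set ↥(Sz F m))) := by
    rcases centralizer_cases P ho with ⟨h, -⟩ | h
    · haveI : Fact (Nat.Prime 2) := ⟨Nat.prime_two⟩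
      exact h.isNilpotent
    · haveI := h
      letI := IsCyclic.commGroup (α := ↥(Subgroup.centralizer ({g ^ (orderOf g / p)} : Set ↥(Sz F m))))
      infer_instance
  exact Group.nilpotent_of_mulEquiv (Subgroup.subgroupOfEquivOfLe hle)

theorem sylow_odd_cyclic {p : ℕ} [hp : Fact p.Prime] (hp2 : p ≠ 2) (S : Sylow p ↥(Sz F m)) : IsCyclic ↥S := by
  by_cases hbot : Nontrivial ↥S
  swap
  · rw [not_nontrivial_iff_subsingleton] at hbot
    exact isCyclic_of_subsingleton
  haveI := hbot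
  obtain ⟨z, hz⟩ : ∃ z : ↥(Subgroup.center ↥S), orderOf z = p := by
    haveI := S.2.center_nontrivial
    obtain ⟨n, hn, hc⟩ := (S.2.to_subgroup (Subgroup.center ↥S)).nontrivial_iff_card.1 inferInstance
    exact exists_prime_orderOf_dvd_card' p (hc ▸ dvd_pow_self p hn.ne')
  have ho : orderOf ((z : ↥S) : ↥(Sz F m)) = p := by rw [Subgroup.orderOf_coe, Subgroup.orderOf_coe]; exact hz
  have hle : (S : Subgroup ↥(Sz F m)) ≤ Subgroup.centralizer {((z : ↥S) : ↥(Sz F m))} := fun c hc => by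
    rw [Subgroup.mem_centralizer_singleton_iff]
    exact congrArg Subtype.val (Subgroup.mem_center_iff.1 z.2 ⟨c, hc⟩)
  rcases centralizer_cases P ho with ⟨-, h⟩ | h
  · exact absurd h hp2
  · haveI := h
    exact isCyclic_of_injective (Subgroup.inclusion hle) (Subgroup.inclusion_injective hle)

theorem uSub_exponent : Monoid.exponent ↥(uSub P) = 4 := by
  haveI : Fact (Nat.Prime 2) := ⟨Nat.prime_two⟩
  have hd : Monoid.exponent ↥(uSub P) ∣ 2 ^ 2 := Monoid.exponent_dvd_of_forall_pow_eq_one fun g => by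
    obtain ⟨g, a, b, rfl⟩ := g
    refine Subtype.ext ?_
    show sU P a b ^ 4 = 1
    have h4 : ∀ x : ↥(Sz F m), x ^ 4 = x * x * (x * x) := fun x => (pow_add x 2 2).trans (by rw [pow_two])
    rw [h4, sU_mul, sU_mul, add_self P, add_self P, ← sU_zero P]
    congr 1
    simp [zero_pow (ee_ne m), add_self P]
  obtain ⟨j, hj, e⟩ := (Nat.dvd_prime_pow Nat.prime_two).1 hd
  have hj2 : j = 2 := by
    by_contra hne
    have hd' : Monoid.exponent ↥(uSub P) ∣ 2 ^ 1 := e ▸ pow_dvd_pow 2 (by omega)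
    have h2 : (sU P (1 : F) 0) ^ 2 = 1 :=
      congrArg Subtype.val (Monoid.exponent_dvd_iff_forall_pow_eq_one.1 hd' (⟨sU P 1 0, 1, 0, rfl⟩ : ↥(uSub P)))
    rw [pow_two, sU_mul, ← sU_zero P] at h2
    have := (sU_inj P h2).2
    simp at this
  rw [e, hj2]
  norm_num

theorem uSub_center (z : ↥(uSub P)) : z ∈ Subgroup.center ↥(uSub P) ↔ ∃ b, (z : ↥(Sz F m)) = sU P 0 b := by
  obtain ⟨g, a, b, rfl⟩ := z
  rw [Subgroup.mem_center_iff]
  refine ⟨fun h => ?_, ?_⟩
  · have hall : ∀ c : F, c ^ ee m * a = a ^ ee m * c := fun c => by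
      have e := congrArg Subtype.val (h ⟨sU P c 0, c, 0, rfl⟩)
      change sU P c 0 * sU P a b = sU P a b * sU P c 0 at e
      rw [sU_mul, sU_mul] at e
      linear_combination (sU_inj P e).2
    refine ⟨b, ?_⟩
    have ha : a = 0 := by
      by_contra ha
      obtain ⟨k, hk⟩ := exists_unit_ne P
      have h1 := hall 1
      rw [one_pow, one_mul, mul_one] at h1
      have h2 := hall k
      rw [← h1] at h2
      have h3 : (k : F) ^ ee m = k := mul_right_cancel₀ ha (by linear_combination h2)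
      have h4 := sq_iter P (k : F)
      rw [h3, h3] at h4
      have h5 : (k : F) = 1 := mul_left_cancel₀ k.ne_zero (by linear_combination -h4)
      exact hk (by rw [h5, one_pow])
    simp [ha]
  · rintro ⟨b', e⟩ ⟨_, c, d, rfl⟩
    refine Subtype.ext ?_
    change sU P c d * sU P a b = sU P a b * sU P c d
    rw [show sU P a b = sU P 0 b' from e, sU_mul, sU_mul]
    simp [zero_pow (ee_ne m), add_comm]

theorem uSub_commutator : Subgroup.center ↥(uSub P) = commutator ↥(uSub P) ∧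
    Nat.card ↥(Subgroup.center ↥(uSub P)) = Fintype.card F := by
  classical
  refine ⟨le_antisymm (fun z hz => ?_) ?_, ?_⟩
  · obtain ⟨b, hb⟩ := (uSub_center P z).1 hz
    obtain ⟨k, hk⟩ := exists_unit_ne P
    set c := (k : F) with hc
    have hne : c ^ ee m + c ≠ 0 := by
      intro h
      have h3 : c ^ ee m = c := by linear_combination h - c * two_eq P
      have h4 := sq_iter P c
      rw [h3, h3] at h4
      have h5 : c = 1 := mul_left_cancel₀ k.ne_zero (by linear_combination -h4)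
      exact hk (by rw [h5, one_pow])
    have hcomm : ∀ s : F, ∃ z' : ↥(uSub P), z' ∈ commutator ↥(uSub P) ∧
        (z' : ↥(Sz F m)) = sU P 0 (s ^ (ee m + 1) * (c ^ ee m + c)) := by
      intro s
      refine ⟨⁅(⟨sU P s 0, s, 0, rfl⟩ : ↥(uSub P)), (⟨sU P (s * c) 0, s * c, 0, rfl⟩ : ↥(uSub P))⁆,
        Subgroup.commutator_mem_commutator (Subgroup.mem_top _) (Subgroup.mem_top _), ?_⟩
      show sU P s 0 * sU P (s * c) 0 * (sU P s 0)⁻¹ * (sU P (s * c) 0)⁻¹ = _
      rw [sU_inv, sU_inv, sU_mul, sU_mul, sU_mul]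
      congr 1
      · linear_combination (s + s * c) * two_eq P
      · simp only [add_pow_ee P, mul_pow, pow_succ]
        linear_combination (s ^ ee m * s + s ^ ee m * c ^ ee m * s * c + s ^ ee m * s * c) * two_eq P
    obtain ⟨s, hs⟩ : ∃ s : F, s ^ (ee m + 1) = b / (c ^ ee m + c) := by
      have hinj : Function.Injective fun s : F => s ^ (ee m + 1) := fun x y e => by
        simp only at e
        by_cases hy : y = 0
        · rw [hy, zero_pow (Nat.succ_ne_zero _)] at e
          rw [hy, (pow_eq_zero_iff (Nat.succ_ne_zero _)).1 e]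
        · have : (x / y) ^ (ee m + 1) = 1 := by rw [div_pow, e, div_self (pow_ne_zero _ hy)]
          exact (div_eq_one_iff_eq hy).1 (pow_ee_succ_eq_one P this)
      exact (Finite.injective_iff_surjective.1 hinj) _
    obtain ⟨z', hz', e⟩ := hcomm s
    rw [hs, div_mul_cancel₀ _ hne] at e
    rwa [show z = z' from Subtype.ext (hb.trans e.symm)]
  · rw [commutator_def, Subgroup.commutator_le]
    rintro ⟨g, a, b, rfl⟩ - ⟨h, c, d, rfl⟩ -
    rw [uSub_center P]
    obtain ⟨r, e⟩ : ∃ r, sU P a b * sU P c d * (sU P a b)⁻¹ * (sU P c d)⁻¹ = sU P (a + c + a + c) r := by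
      rw [sU_inv, sU_inv, sU_mul, sU_mul, sU_mul]; exact ⟨_, rfl⟩
    refine ⟨r, ?_⟩
    show sU P a b * sU P c d * (sU P a b)⁻¹ * (sU P c d)⁻¹ = _
    rw [e, show a + c + a + c = 0 by linear_combination (a + c) * two_eq P]
  · have hb : Function.Bijective fun b : F =>
        (⟨⟨sU P 0 b, 0, b, rfl⟩, (uSub_center P _).2 ⟨b, rfl⟩⟩ : ↥(Subgroup.center ↥(uSub P))) := by
      refine ⟨fun x y h => (sU_inj P (congrArg (fun z : ↥(Subgroup.center ↥(uSub P)) => ((z : ↥(uSub P)) : ↥(Sz F m))) h)).2,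
        fun z => ?_⟩
      obtain ⟨b, hb⟩ := (uSub_center P z.1).1 z.2
      exact ⟨b, Subtype.ext (Subtype.ext hb.symm)⟩
    rw [← Nat.card_eq_of_bijective _ hb, Nat.card_eq_fintype_card]

end CfsgLib.Lie.SzOvoid
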