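/-
Executable check that a signed permutation of the basis intertwines the generators along a symmetry.
-/
import Cfsg.Agent.Lib.LieTwistTab

set_option autoImplicit false

namespace CfsgLib.Lie

open Cfsg.Lie

namespace Tab

variable {D : ChevalleyDatum} (T : Tab D)

/-- The sign of a root, read from a bit. -/
def sgnAt (eps : ℕ) (r : Fin D.nroots) : ℤ :=
  bif Nat.beq (Nat.mod (Nat.shiftRight eps r.val) 2) 0 then 1 else -1

/-- Columns of the signed permutation. -/
def pcolG (Z : TwData D) (eps : ℕ) : D.Idx → List (D.Idx × ℤ)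
  | Sum.inl i => [(Sum.inl (Z.rhoi i), 1)]
  | Sum.inr r => [(Sum.inr (Z.rho r), sgnAt eps r)]

/-- Columns of its inverse. -/
def qcolG (Z : TwData D) (eps : ℕ) : D.Idx → List (D.Idx × ℤ)
  | Sum.inl i => [(Sum.inl (Z.rhoiInv i), 1)]
  | Sum.inr r => [(Sum.inr (Z.rhoInv r), sgnAt eps (Z.rhoInv r))]

def graphB (Z : TwData D) (eps : ℕ) : Bool :=
  ((allIdx (D := D)).all fun j =>
    eqB (app (pcolG Z eps) (qcolG Z eps j)) [(j, 1)] && eqB (app (qcolG Z eps) (pcolG Z eps j)) [(j, 1)]) &&
  (List.finRange D.rank).all fun i => [T.p i, T.ng (T.p i)].all fun r => [1, 2, 3].all fun k =>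
    (allIdx (D := D)).all fun j =>
      eqB (app (pcolG Z eps) (T.acol k r j)) (app (T.acol k (Z.rho r)) (pcolG Z eps j))

end Tab

end CfsgLib.Lie
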