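/-
Endomorphisms combining a symmetry of the basis with an automorphism of the field.
-/
import Cfsg.Agent.Lib.LieTwistCheck
import Cfsg.Agent.Lib.LieTwistGraphTab

set_option autoImplicit false
set_option maxHeartbeats 400000

namespace CfsgLib.Lie

open Cfsg.Lie

namespace Tab

variable {D : ChevalleyDatum} {T : Tab D} {K : Type*} [Field K] {Z : TwData D} {eps : ℕ}

/-- The signed permutation matrix. -/
noncomputable def pMat (K : Type*) [Field K] (Z : TwData D) (eps : ℕ) : Matrix D.Idx D.Idx K :=
  (Int.castRingHom K).mapMatrix (ofCols (pcolG Z eps))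

/-- Its inverse. -/
noncomputable def qMat (K : Type*) [Field K] (Z : TwData D) (eps : ℕ) : Matrix D.Idx D.Idx K :=
  (Int.castRingHom K).mapMatrix (ofCols (qcolG Z eps))

theorem mem_allIdx (j : D.Idx) : j ∈ allIdx (D := D) := by cases j <;> simp [allIdx]

theorem pq_eq (hg : T.graphB Z eps = true) :
    pMat K Z eps * qMat K Z eps = 1 ∧ qMat K Z eps * pMat K Z eps = 1 := by
  simp only [graphB, Bool.and_eq_true, List.all_eq_true] at hg
  have h1 : ofCols (pcolG Z eps) * ofCols (qcolG Z eps) = (1 : Matrix D.Idx D.Idx ℤ) := by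
    rw [ofCols_mul]
    ext i j
    have := eqB_sound (hg.1 j (mem_allIdx j)).1 i
    rw [ofCols_apply, this]
    simp [Matrix.one_apply, eq_comm]
  have h2 : ofCols (qcolG Z eps) * ofCols (pcolG Z eps) = (1 : Matrix D.Idx D.Idx ℤ) := by
    rw [ofCols_mul]
    ext i j
    have := eqB_sound (hg.1 j (mem_allIdx j)).2 i
    rw [ofCols_apply, this]
    simp [Matrix.one_apply, eq_comm]
  simp only [pMat, qMat, ← map_mul, h1, h2, map_one, and_self]

/-- The signed permutation as an invertible matrix. -/
noncomputable def pUnit (K : Type*) [Field K] (hg : T.graphB Z eps = true) : GL D.Idx K :=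
  ⟨pMat K Z eps, qMat K Z eps, (pq_eq hg).1, (pq_eq hg).2⟩

variable (hT : T.Checked)

theorem pMat_X (hg : T.graphB Z eps = true) {i : Fin D.rank} {r : Fin D.nroots} (hr : r = T.p i ∨ r = T.ng (T.p i))
    (t : K) : pMat K Z eps * T.X K r t = T.X K (Z.rho r) t * pMat K Z eps := by
  have hg' := hg
  simp only [graphB, Bool.and_eq_true, List.all_eq_true, List.mem_finRange, forall_const] at hg'
  have hk : ∀ k ∈ Finset.range 4, pMat K Z eps * T.A' K k r = T.A' K k (Z.rho r) * pMat K Z eps := by
    intro k hk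
    rw [Finset.mem_range] at hk
    by_cases h0 : k = 0
    · subst h0
      have h1 : ∀ s, T.AZ 0 s = 1 := fun s => by ext a b; simp [AZ, acol_zero, Matrix.one_apply, eq_comm]
      simp [A', h1]
    · have he : ofCols (pcolG Z eps) * T.AZ k r = T.AZ k (Z.rho r) * ofCols (pcolG Z eps) := by
        simp only [AZ, ofCols_mul]
        refine ofCols_congr fun j x => ?_
        have hmem : k ∈ ([1, 2, 3] : List ℕ) := by
          simp only [List.mem_cons, List.not_mem_nil, or_false]; omega
        exact eqB_sound (hg'.2 i r (by simp only [List.mem_cons, List.not_mem_nil, or_false]; exact hr) k hmem j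
          (mem_allIdx j)) x
      simp only [A', pMat, ← map_mul, he]
  simp only [X, Finset.mul_sum, Finset.sum_mul]
  refine Finset.sum_congr rfl fun k hk' => ?_
  rw [mul_smul_comm, hk k hk', smul_mul_assoc]

include hT in
theorem pUnit_conj (hg : T.graphB Z eps = true) {i : Fin D.rank} {r : Fin D.nroots}
    (hr : r = T.p i ∨ r = T.ng (T.p i)) (t : K) :
    pUnit K hg * u hT r t * (pUnit K hg)⁻¹ = u hT (Z.rho r) t := by
  rw [mul_inv_eq_iff_eq_mul]
  exact Units.ext (pMat_X hg hr t)

/-- The composite of the symmetry and a field automorphism. -/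
noncomputable def graphTwist (hs : T.symB Z = true) (hg : T.graphB Z eps = true) (σ : K ≃+* K) : Twist hT K where
  toSym := symOf hs
  φ _ := σ
  τ g := pUnit K hg * fmap D (σ : K →+* K) g * (pUnit K hg)⁻¹
  τ_mul g _ g' _ := by rw [map_mul]; group
  τ_p i t := by
    rw [fmap_u hT, pUnit_conj hT hg (Or.inl rfl)]
    rw [← (symOf hs).ρ_p i]
    rfl
  τ_n i t := by
    rw [fmap_u hT, pUnit_conj hT hg (Or.inr rfl)]
    rw [← (symOf hs).ρ_p i, ← (symOf hs).ρ_ng]
    rfl
  τ_mem := by
    let τh : GL D.Idx K →* GL D.Idx K :=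
      (MulAut.conj (pUnit K hg)).toMonoidHom.comp (fmap D (σ : K →+* K))
    have hp : ∀ (i : Fin D.rank) (r : Fin D.nroots), (r = T.p i ∨ r = T.ng (T.p i)) →
        ∀ t : K, u hT r t ∈ (D.group K).comap τh := by
      intro i r hr t
      rw [Subgroup.mem_comap]
      show pUnit K hg * fmap D (σ : K →+* K) (u hT r t) * (pUnit K hg)⁻¹ ∈ D.group K
      rw [fmap_u hT, pUnit_conj hT hg hr]
      exact u_mem_group hT _ _
    intro g hgm
    have hle : D.group K ≤ (D.group K).comap τh := by
      conv_lhs => rw [group_eq hT]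
      refine Ugrp_le hT fun r _ t => u_mem_of hT (fun i t => hp i _ (Or.inl rfl) t) (fun i => ?_) r t
      rw [sg_eq]
      exact mul_mem (mul_mem (hp i _ (Or.inl rfl) _) (hp i _ (Or.inr rfl) _)) (hp i _ (Or.inl rfl) _)
    exact hle hgm

include hT in
/-- The automorphism of the group given by a symmetry. -/
theorem exists_graphAut (hs : T.symB Z = true) (hg : T.graphB Z eps = true) :
    ∃ α : ↥(D.group K) ≃* ↥(D.group K), ∀ g : ↥(D.group K),
      (α g : GL D.Idx K) = pUnit K hg * (g : GL D.Idx K) * (pUnit K hg)⁻¹ := by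
  have hr : ∀ g : ↥(D.group K), pUnit K hg * (g : GL D.Idx K) * (pUnit K hg)⁻¹ =
      (graphTwist hT hs hg (RingEquiv.refl K)).τ g := by
    intro g
    show _ = pUnit K hg * fmap D ((RingEquiv.refl K : K ≃+* K) : K →+* K) (g : GL D.Idx K) * (pUnit K hg)⁻¹
    congr 2
  let f := (graphTwist hT hs hg (RingEquiv.refl K)).hom
  have hinj : Function.Injective f := by
    intro a b e
    have e' := congrArg Subtype.val e
    change (graphTwist hT hs hg (RingEquiv.refl K)).τ a = (graphTwist hT hs hg (RingEquiv.refl K)).τ b at e'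
    rw [← hr, ← hr] at e'
    exact Subtype.ext (mul_left_cancel (mul_right_cancel e'))
  have hsurj : Function.Surjective f := by
    rw [← MonoidHom.range_eq_top, eq_top_iff]
    intro g _
    have hle : D.group K ≤ f.range.map (D.group K).subtype := by
      conv_lhs => rw [group_eq hT]
      have hp : ∀ (i : Fin D.rank) (t : K), u hT (T.p i) t ∈ f.range.map (D.group K).subtype ∧
          u hT (T.ng (T.p i)) t ∈ f.range.map (D.group K).subtype := by
        intro i t
        have hi : (symOf hs).ρi ((symOf hs).ρi.symm i) = i := Equiv.apply_symm_apply _ _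
        refine ⟨⟨_, ⟨⟨u hT (T.p ((symOf hs).ρi.symm i)) t, u_mem_group hT _ _⟩, rfl⟩, ?_⟩,
          ⟨_, ⟨⟨u hT (T.ng (T.p ((symOf hs).ρi.symm i))) t, u_mem_group hT _ _⟩, rfl⟩, ?_⟩⟩
        · exact ((graphTwist hT hs hg (RingEquiv.refl K)).τ_p _ t).trans (by
            show u hT (T.p ((symOf hs).ρi _)) _ = _
            rw [hi]; rfl)
        · exact ((graphTwist hT hs hg (RingEquiv.refl K)).τ_n _ t).trans (by
            show u hT (T.ng (T.p ((symOf hs).ρi _))) _ = _
            rw [hi]; rfl)
      refine Ugrp_le hT fun r _ t => u_mem_of hT (fun i t => (hp i t).1) (fun i => ?_) r t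
      rw [sg_eq]
      exact mul_mem (mul_mem (hp i _).1 (hp i _).2) (hp i _).1
    obtain ⟨g', hg', e⟩ := hle g.2
    obtain rfl : g' = g := Subtype.ext e
    exact hg'
  exact ⟨MulEquiv.ofBijective f ⟨hinj, hsurj⟩, fun g => (hr g).symm⟩

end Tab

end CfsgLib.Lie
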