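/-
Orbits consisting of pairwise orthogonal fundamental roots.
-/
import Cfsg.Agent.Lib.LieTwistCheck
import Cfsg.Agent.Lib.LieChevComm

set_option autoImplicit false
set_option maxHeartbeats 400000

namespace CfsgLib.Lie

open Cfsg.Lie

namespace Tab

variable {D : ChevalleyDatum} {T : Tab D} {K : Type*} [Field K]

/-- A fundamental root or its negative. -/
def sRoot (T : Tab D) (s : Bool) (j : Fin D.rank) : Fin D.nroots := bif s then T.p j else T.ng (T.p j)

/-- The roots of an orbit are fundamental and pairwise without sums. -/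
def orthB (T : Tab D) (Z : TwData D) (o : Fin Z.n) : Bool :=
  (Z.J o).Nodup && ((List.finRange D.nroots).all fun r => !(T.posB r && T.suppB (Z.J o) r) ||
    (Z.J o).any fun j => decide (r = T.p j)) &&
  (Z.J o).all fun i => (Z.J o).all fun j => decide (i = j) || [true, false].all fun s => [true, false].all fun s' =>
    (T.nx (sRoot T s i) (sRoot T s' j)).isNone && decide (sRoot T s' j ≠ T.ng (sRoot T s i)) &&
      decide (T.A i (T.p j) = 0)

variable {hT : T.Checked}

/-- An orbit of pairwise orthogonal fundamental roots, generated by the first of them. -/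
structure Twist.Orth (W : Twist hT K) (O : Orbs hT W.toSym) (σ : K ≃+* K) where
  hE : ∀ r, T.extraB r = true
  hφ : ∀ i, W.φ i = σ
  o : Fin O.n
  head : Fin D.rank
  len : ℕ
  hJ : O.J o = (List.range len).map fun m => (W.ρi ^ m) head
  hper : (W.ρi ^ len) head = head
  hlen : 0 < len
  hnd : (O.J o).Nodup
  hroots : ∀ r ∈ rootsOf T (O.J o), ∃ j ∈ O.J o, r = T.p j
  hcomm : ∀ i ∈ O.J o, ∀ j ∈ O.J o, i ≠ j → ∀ s s' : Bool,
    T.nx (sRoot T s i) (sRoot T s' j) = none ∧ sRoot T s' j ≠ T.ng (sRoot T s i)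
  hA : ∀ i ∈ O.J o, ∀ j ∈ O.J o, i ≠ j → T.A i (T.p j) = 0

theorem orth_facts {Z : TwData D} {o : Fin Z.n} (h : T.orthB Z o = true) :
    (((Z.J o).Nodup ∧ ∀ r ∈ rootsOf T (Z.J o), ∃ j ∈ Z.J o, r = T.p j) ∧
      ∀ i ∈ Z.J o, ∀ j ∈ Z.J o, i ≠ j → ∀ s s' : Bool,
        T.nx (sRoot T s i) (sRoot T s' j) = none ∧ sRoot T s' j ≠ T.ng (sRoot T s i)) ∧
      ∀ i ∈ Z.J o, ∀ j ∈ Z.J o, i ≠ j → T.A i (T.p j) = 0 := by
  simp only [orthB, suppB, Bool.and_eq_true, Bool.or_eq_true, List.all_eq_true, List.any_eq_true,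
    decide_eq_true_eq, Bool.not_eq_true', List.mem_finRange, forall_const, List.contains_iff_mem,
    Option.isNone_iff_eq_none, Bool.and_eq_false_iff] at h
  refine ⟨⟨⟨h.1.1, fun r hr => ?_⟩, fun i hi j hj hne s s' => ?_⟩,
    fun i hi j hj hne => (((h.2 i hi j hj).resolve_left hne) true (by simp) true (by simp)).2⟩
  · refine (h.1.2 r).resolve_left ?_
    rintro (h1 | h1)
    · rw [← Bool.not_eq_true, posB_iff] at h1
      exact h1 hr.1
    · rw [← Bool.not_eq_true] at h1
      refine h1 (List.all_eq_true.2 fun m _ => ?_)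
      by_cases hm : m ∈ Z.J o
      · simp [hm]
      · simp [hr.2 m hm]
  · exact (((h.2 i hi j hj).resolve_left hne) s (by cases s <;> simp) s' (by cases s' <;> simp)).1

theorem prod_three {G α : Type*} [Group G] (a b c : α → G) : ∀ L : List α, L.Nodup →
    (∀ x ∈ L, ∀ y ∈ L, x ≠ y → Commute (a x) (b y) ∧ Commute (a x) (c y) ∧ Commute (b x) (c y)) →
      (L.map a).prod * (L.map b).prod * (L.map c).prod = (L.map fun x => a x * b x * c x).prod
  | [], _, _ => by simp
  | x :: L, hnd, h => by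
    obtain ⟨hx, hL⟩ := List.nodup_cons.1 hnd
    have hne : ∀ y ∈ L, y ≠ x := fun y hy e => hx (e ▸ hy)
    have h1 : Commute (b x) (L.map a).prod := Commute.list_prod_right _ _ fun g hg => by
      obtain ⟨y, hy, rfl⟩ := List.mem_map.1 hg
      exact (h y (List.mem_cons_of_mem _ hy) x (List.mem_cons_self ..) (hne y hy)).1.symm
    have h2 : Commute (c x) (L.map a).prod := Commute.list_prod_right _ _ fun g hg => by
      obtain ⟨y, hy, rfl⟩ := List.mem_map.1 hg
      exact (h y (List.mem_cons_of_mem _ hy) x (List.mem_cons_self ..) (hne y hy)).2.1.symm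
    have h3 : Commute (c x) (L.map b).prod := Commute.list_prod_right _ _ fun g hg => by
      obtain ⟨y, hy, rfl⟩ := List.mem_map.1 hg
      exact (h y (List.mem_cons_of_mem _ hy) x (List.mem_cons_self ..) (hne y hy)).2.2.symm
    simp only [List.map_cons, List.prod_cons]
    rw [← prod_three a b c L hL fun y hy z hz => h y (List.mem_cons_of_mem _ hy) z (List.mem_cons_of_mem _ hz)]
    calc a x * (L.map a).prod * (b x * (L.map b).prod) * (c x * (L.map c).prod)
        = a x * ((L.map a).prod * b x) * ((L.map b).prod * c x) * (L.map c).prod := by group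
      _ = a x * b x * ((L.map a).prod * c x) * (L.map b).prod * (L.map c).prod := by
        rw [← h1.eq, ← h3.eq]; group
      _ = _ := by rw [← h2.eq]; group

namespace Twist.Orth

variable {W : Twist hT K} {O : Orbs hT W.toSym} {σ : K ≃+* K} (R : W.Orth O σ)

theorem commute_u {i j : Fin D.rank} (hi : i ∈ O.J R.o) (hj : j ∈ O.J R.o) (hne : i ≠ j) (s s' : Bool)
    (a b : K) : Commute (u hT (sRoot T s i) a) (u hT (sRoot T s' j) b) := by
  obtain ⟨h1, h2⟩ := R.hcomm i hi j hj hne s s'
  have h := comm_formula (F := K) hT R.hE h2 a b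
  rw [commTerms_none hT h1] at h
  simp only [termsMat, mul_one] at h
  exact Units.ext h.symm

/-- The product of root elements along the orbit. -/
def oprod (s : Bool) (t : Fin D.rank → K) : GL D.Idx K :=
  ((O.J R.o).map fun j => u hT (sRoot T s j) (t j)).prod

theorem oprod_add (s : Bool) (t t' : Fin D.rank → K) : R.oprod s t * R.oprod s t' = R.oprod s (t + t') := by
  have h := prod_three (fun j => u hT (sRoot T s j) (t j)) (fun j => u hT (sRoot T s j) (t' j))
    (fun _ : Fin D.rank => (1 : GL D.Idx K)) (O.J R.o) R.hnd fun x hx y hy hne =>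
      ⟨R.commute_u hx hy hne s s _ _, Commute.one_right _, Commute.one_right _⟩
  simp only [mul_one, u_add] at h
  rw [List.map_const', List.prod_replicate, one_pow, mul_one] at h
  exact h

theorem oprod_congr (s : Bool) {t t' : Fin D.rank → K} (h : ∀ j ∈ O.J R.o, t j = t' j) :
    R.oprod s t = R.oprod s t' := by
  unfold oprod
  rw [List.map_congr_left fun j hj => by rw [h j hj]]

theorem mem_oprod (s : Bool) {S : Set (Fin D.nroots)} (hS : ∀ r ∈ S, ∃ j ∈ O.J R.o, r = sRoot T s j)
    {g : GL D.Idx K} (hg : g ∈ Ugrp hT K S) : ∃ t, g = R.oprod s t := by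
  classical
  induction hg using Subgroup.closure_induction with
  | mem g hg =>
    obtain ⟨r, hr, a, rfl⟩ := hg
    obtain ⟨j, hj, rfl⟩ := hS r hr
    refine ⟨Pi.single j a, ?_⟩
    have hz : ∀ L : List (Fin D.rank), L.Nodup →
        (L.map fun i => u hT (sRoot T s i) (Pi.single (M := fun _ => K) j a i)).prod =
          if j ∈ L then u hT (sRoot T s j) a else 1 := by
      intro L hL
      induction L with
      | nil => simp
      | cons i L ih =>
        obtain ⟨hi, hL'⟩ := List.nodup_cons.1 hL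
        rw [List.map_cons, List.prod_cons, ih hL']
        by_cases hij : i = j
        · subst hij; simp [hi]
        · simp [hij, u_zero, Ne.symm hij]
    rw [oprod, hz _ R.hnd, if_pos hj]
  | one => exact ⟨0, by simp [oprod, u_zero]⟩
  | mul a b _ _ ha hb =>
    obtain ⟨t, rfl⟩ := ha
    obtain ⟨t', rfl⟩ := hb
    exact ⟨t + t', R.oprod_add s t t'⟩
  | inv a _ ha =>
    obtain ⟨t, rfl⟩ := ha
    refine ⟨-t, (inv_eq_of_mul_eq_one_right ?_)⟩
    rw [R.oprod_add, add_neg_cancel]
    simp [oprod, u_zero]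

theorem oprod_mem (s : Bool) (t : Fin D.rank → K) :
    R.oprod s t ∈ Ugrp hT K {r | ∃ j ∈ O.J R.o, r = sRoot T s j} := by
  refine Subgroup.list_prod_mem _ fun x hx => ?_
  obtain ⟨j, hj, rfl⟩ := List.mem_map.1 hx
  exact u_mem_Ugrp hT (S := {r | ∃ j ∈ O.J R.o, r = sRoot T s j}) ⟨j, hj, rfl⟩ _

theorem oprod_mem_group (s : Bool) (t : Fin D.rank → K) : R.oprod s t ∈ D.group K :=
  Ugrp_le hT (fun r _ t => u_mem_group hT r t) (R.oprod_mem s t)

include R in
theorem sRoot_inj (s : Bool) {i j : Fin D.rank} (h : sRoot T s i = sRoot T s j) : i = j := by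
  have : T.p i = T.p j := by
    cases s
    · have h' : T.ng (T.ng (T.p i)) = T.ng (T.ng (T.p j)) := congrArg T.ng h
      rwa [ng_ng hT, ng_ng hT] at h'
    · exact h
  have h1 := co_p hT i i
  rw [this, co_p hT, if_pos rfl] at h1
  by_contra hne
  rw [if_neg hne] at h1
  exact zero_ne_one h1

/-- An orbit product as a product in increasing order. -/
theorem oprod_eq_uprod (t : Fin D.rank → K) :
    ∃ f, R.oprod true t = uprod hT (posFrom T 0) f ∧ ∀ j ∈ O.J R.o, f (T.p j) = t j := by
  classical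
  let L' : List (Fin D.nroots) := (posFrom T 0).filter fun r => decide (∃ j ∈ O.J R.o, r = T.p j)
  have hperm : ((O.J R.o).map T.p).Perm L' := by
    refine (List.perm_ext_iff_of_nodup (R.hnd.map (f := T.p) fun _ _ e => R.sRoot_inj true e) ((posFrom_nodup 0).filter _)).2 ?_
    intro r
    simp only [L', List.mem_map, List.mem_filter, mem_posFrom, decide_eq_true_eq]
    constructor
    · rintro ⟨j, hj, rfl⟩
      exact ⟨⟨pos_p hT j, Nat.zero_le _⟩, j, hj, rfl⟩
    · rintro ⟨_, j, hj, rfl⟩
      exact ⟨j, hj, rfl⟩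
  let ext : (Fin D.rank → K) → Fin D.nroots → K := fun t r =>
    if hr : ∃ j ∈ O.J R.o, r = T.p j then t hr.choose else 0
  have hext : ∀ (t : Fin D.rank → K) (j : Fin D.rank), j ∈ O.J R.o → ext t (T.p j) = t j := by
    intro t j hj
    have he : ∃ i ∈ O.J R.o, T.p j = T.p i := ⟨j, hj, rfl⟩
    simp only [ext]
    rw [dif_pos he]
    exact congrArg t (R.sRoot_inj true he.choose_spec.2).symm
  have hconv : ∀ t, R.oprod true t = uprod hT (posFrom T 0) (ext t) := by
    intro t
    have h1 : R.oprod true t = (((O.J R.o).map T.p).map fun r => u hT r (ext t r)).prod := by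
      rw [List.map_map]
      unfold oprod
      congr 1
      exact List.map_congr_left fun j hj => by simp [hext t j hj, sRoot]
    have h2 : ∀ L : List (Fin D.nroots), ((L.filter fun r => decide (∃ j ∈ O.J R.o, r = T.p j)).map
        fun r => u hT r (ext t r)).prod = uprod hT L (ext t) := by
      intro L
      induction L with
      | nil => rfl
      | cons r L ih =>
        by_cases hr : ∃ j ∈ O.J R.o, r = T.p j
        · rw [List.filter_cons_of_pos (by simpa using hr)]
          simp only [uprod, List.map_cons, List.prod_cons] at ih ⊢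
          rw [ih]
        · rw [List.filter_cons_of_neg (by simpa using hr)]
          simp only [uprod, List.map_cons, List.prod_cons] at ih ⊢
          rw [ih, show ext t r = 0 from dif_neg hr, u_zero, one_mul]
    rw [h1, ← h2]
    refine List.Perm.prod_eq' (hperm.map _) ?_
    rw [List.map_map, List.pairwise_map]
    refine R.hnd.imp_of_mem fun hi hj hne => ?_
    exact R.commute_u hi hj hne true true _ _
  exact ⟨ext t, hconv t, fun j hj => hext t j hj⟩

theorem oprod_inj {t t' : Fin D.rank → K} (h : R.oprod true t = R.oprod true t') : ∀ j ∈ O.J R.o, t j = t' j := by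
  intro j hj
  obtain ⟨f, hf, hf'⟩ := R.oprod_eq_uprod t
  obtain ⟨g, hg, hg'⟩ := R.oprod_eq_uprod t'
  rw [hf, hg] at h
  have := uprod_injective hT h (T.p j) (pos_p hT j)
  rwa [hf' j hj, hg' j hj] at this

theorem τ_oprod (s : Bool) (t : Fin D.rank → K) :
    W.τ (R.oprod s t) = R.oprod s fun j => σ (t (W.ρi⁻¹ j)) := by
  have h1 : ∀ L : List (Fin D.rank), W.τ (L.map fun j => u hT (sRoot T s j) (t j)).prod =
      ((L.map W.ρi).map fun j => u hT (sRoot T s j) (σ (t (W.ρi⁻¹ j)))).prod := by
    intro L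
    induction L with
    | nil => exact W.τ_one
    | cons j L ih =>
      simp only [List.map_cons, List.prod_cons]
      rw [W.τ_mul _ (u_mem_group hT _ _) _ (Subgroup.list_prod_mem _ fun x hx => by
        obtain ⟨i, _, rfl⟩ := List.mem_map.1 hx; exact u_mem_group hT _ _), ih]
      congr 1
      cases s <;>
        simp [sRoot, W.τ_p, W.τ_n, R.hφ]
  rw [oprod, h1]
  refine List.Perm.prod_eq' (List.Perm.map _ ?_) ?_
  · refine (List.perm_ext_iff_of_nodup (R.hnd.map W.ρi.injective) R.hnd).2 fun j => ?_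
    constructor
    · intro hj
      obtain ⟨i, hi, rfl⟩ := List.mem_map.1 hj
      exact O.closed _ i hi
    · intro hj
      obtain ⟨k, hk⟩ := O.trans R.o _ (O.closed _ j hj) j hj
      refine List.mem_map.2 ⟨(W.ρi ^ k) j, ?_, ?_⟩
      · clear hk
        induction k with
        | zero => simpa using hj
        | succ k ih => rw [pow_succ', Equiv.Perm.mul_apply]; exact O.closed _ _ ih
      · conv_rhs => rw [← hk]
        show (W.ρi * W.ρi ^ k) j = (W.ρi ^ k * W.ρi) j
        rw [(Commute.self_pow _ _).eq]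
  · rw [List.map_map, List.pairwise_map]
    refine R.hnd.imp_of_mem fun {a b} hi hj hne => ?_
    exact R.commute_u (O.closed _ _ hi) (O.closed _ _ hj) (fun e => hne (W.ρi.injective e)) s s _ _

/-- The parameters of an orbit product from the first one. -/
noncomputable def spread (a : K) : Fin D.rank → K := fun j => by
  classical
  exact if h : ∃ m < R.len, (W.ρi ^ m) R.head = j then (σ ^ h.choose) a else 0

theorem spread_head (a : K) {m : ℕ} (hm : m < R.len) : R.spread a ((W.ρi ^ m) R.head) = (σ ^ m) a := by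
  classical
  have h : ∃ m' < R.len, (W.ρi ^ m') R.head = (W.ρi ^ m) R.head := ⟨m, hm, rfl⟩
  unfold spread
  rw [dif_pos h]
  obtain ⟨h1, h2⟩ := h.choose_spec
  have hnd := R.hnd
  rw [R.hJ, List.nodup_map_iff_inj_on List.nodup_range] at hnd
  rw [hnd _ (List.mem_range.2 h1) _ (List.mem_range.2 hm) h2]

theorem mem_J {j : Fin D.rank} : j ∈ O.J R.o ↔ ∃ m < R.len, (W.ρi ^ m) R.head = j := by
  rw [R.hJ]; simp

theorem τ_spread (s : Bool) {a : K} (ha : (σ ^ R.len) a = a) :
    W.τ (R.oprod s (R.spread a)) = R.oprod s (R.spread a) := by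
  rw [R.τ_oprod]
  refine R.oprod_congr s fun j hj => ?_
  obtain ⟨m, hm, rfl⟩ := R.mem_J.1 hj
  rcases Nat.eq_zero_or_pos m with rfl | hm0
  · have hlast : (W.ρi⁻¹) ((W.ρi ^ 0) R.head) = (W.ρi ^ (R.len - 1)) R.head := by
      rw [pow_zero, Equiv.Perm.one_apply, Equiv.Perm.inv_eq_iff_eq]
      show _ = (W.ρi * W.ρi ^ (R.len - 1)) R.head
      rw [← pow_succ', Nat.sub_add_cancel R.hlen, R.hper]
    have hl := R.hlen
    rw [hlast, R.spread_head a (by omega), R.spread_head a hm]
    show (σ * σ ^ (R.len - 1)) a = _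
    rw [← pow_succ', Nat.sub_add_cancel R.hlen, ha]
    rfl
  · have hprev : (W.ρi⁻¹) ((W.ρi ^ m) R.head) = (W.ρi ^ (m - 1)) R.head := by
      rw [Equiv.Perm.inv_eq_iff_eq]
      show _ = (W.ρi * W.ρi ^ (m - 1)) R.head
      rw [← pow_succ', Nat.sub_add_cancel hm0]
    rw [hprev, R.spread_head a (by omega), R.spread_head a hm]
    show (σ * σ ^ (m - 1)) a = _
    rw [← pow_succ', Nat.sub_add_cancel hm0]

theorem spread_mem {a : K} (ha : (σ ^ R.len) a = a) : R.oprod true (R.spread a) ∈ W.Ufix (O.wO R.o) := by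
  refine Subgroup.mem_inf.2 ⟨Ugrp_mono hT ?_ (R.oprod_mem true _), R.oprod_mem_group _ _, R.τ_spread true ha⟩
  rintro _ ⟨j, hj, rfl⟩
  exact (O.negSet_wO R.o).symm.subset (O.p_mem_rootsOf hj)

theorem spread_mem_neg {a : K} (ha : (σ ^ R.len) a = a) :
    R.oprod false (R.spread a) ∈ Ugrp hT K (T.ng '' rootsOf T (O.J R.o)) ⊓ W.fixed := by
  refine Subgroup.mem_inf.2 ⟨Ugrp_mono hT ?_ (R.oprod_mem false _), R.oprod_mem_group _ _, R.τ_spread false ha⟩
  rintro _ ⟨j, hj, rfl⟩
  exact ⟨T.p j, O.p_mem_rootsOf hj, rfl⟩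

theorem fixed_param {t : Fin D.rank → K} (h : ∀ j ∈ O.J R.o, σ (t (W.ρi⁻¹ j)) = t j) :
    (σ ^ R.len) (t R.head) = t R.head ∧ ∀ j ∈ O.J R.o, t j = R.spread (t R.head) j := by
  have hiter : ∀ m, t ((W.ρi ^ m) R.head) = (σ ^ m) (t R.head) := by
    intro m
    induction m with
    | zero => rfl
    | succ m ih =>
      have hmem : (W.ρi ^ m) R.head ∈ O.J R.o := by
        clear ih
        induction m with
        | zero => exact R.mem_J.2 ⟨0, R.hlen, rfl⟩
        | succ m ih => rw [pow_succ', Equiv.Perm.mul_apply]; exact O.closed _ _ ih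
      have h1 := h _ (O.closed _ _ hmem)
      rw [Equiv.Perm.coe_inv, Equiv.symm_apply_apply, ih] at h1
      rw [pow_succ', Equiv.Perm.mul_apply, pow_succ']
      exact h1.symm
  refine ⟨by rw [← hiter, R.hper], fun j hj => ?_⟩
  obtain ⟨m, hm, rfl⟩ := R.mem_J.1 hj
  rw [hiter, R.spread_head _ hm]

theorem exists_of_mem {g : GL D.Idx K} (hg : g ∈ W.Ufix (O.wO R.o)) :
    ∃ a, (σ ^ R.len) a = a ∧ g = R.oprod true (R.spread a) := by
  obtain ⟨hU, hf⟩ := Subgroup.mem_inf.1 hg
  obtain ⟨t, rfl⟩ := R.mem_oprod true (fun r hr => R.hroots r ((O.negSet_wO R.o).subset hr)) hU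
  have h := hf.2
  rw [R.τ_oprod] at h
  obtain ⟨h1, h2⟩ := R.fixed_param fun j hj => R.oprod_inj h j hj
  exact ⟨_, h1, R.oprod_congr true h2⟩

theorem card_Ufix : Nat.card ↥(W.Ufix (O.wO R.o)) = Nat.card {a : K // (σ ^ R.len) a = a} := by
  refine (Nat.card_eq_of_bijective (fun a : {a : K // (σ ^ R.len) a = a} =>
    (⟨R.oprod true (R.spread a.1), R.spread_mem a.2⟩ : ↥(W.Ufix (O.wO R.o)))) ⟨?_, ?_⟩).symm
  · intro a b e
    have hh : R.head ∈ O.J R.o := R.mem_J.2 ⟨0, R.hlen, rfl⟩
    have h := R.oprod_inj (Subtype.ext_iff.1 e) R.head hh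
    rw [show R.head = (W.ρi ^ 0) R.head from rfl, R.spread_head _ R.hlen, R.spread_head _ R.hlen] at h
    exact Subtype.ext h
  · rintro ⟨g, hg⟩
    obtain ⟨a, ha, rfl⟩ := R.exists_of_mem hg
    exact ⟨⟨a, ha⟩, rfl⟩

theorem card_inv'_wO : (inv' T (O.wO R.o)).card = R.len := by
  classical
  have h : inv' T (O.wO R.o) = ((O.J R.o).map T.p).toFinset := by
    ext r
    rw [mem_inv', List.mem_toFinset, List.mem_map]
    constructor
    · intro hr
      obtain ⟨j, hj, rfl⟩ := R.hroots r ((O.negSet_wO R.o).subset hr)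
      exact ⟨j, hj, rfl⟩
    · rintro ⟨j, hj, rfl⟩
      exact (O.negSet_wO R.o).symm.subset (O.p_mem_rootsOf hj)
  rw [h, List.toFinset_card_of_nodup (R.hnd.map (f := T.p) fun _ _ e => R.sRoot_inj true e), List.length_map, R.hJ,
    List.length_map, List.length_range]

/-- The product of the monomial elements of an orbit is a product of three orbit products. -/
theorem prod_nel (t : Fin D.rank → Kˣ) :
    ((O.J R.o).map fun j => nel hT (T.p j) (t j)).prod =
      R.oprod true (fun j => (t j : K)) * R.oprod false (fun j => -((t j : K))⁻¹) *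
        R.oprod true (fun j => (t j : K)) := by
  unfold oprod
  rw [prod_three _ _ _ _ R.hnd fun x hx y hy hne =>
    ⟨R.commute_u hx hy hne _ _ _ _, R.commute_u hx hy hne _ _ _ _, R.commute_u hx hy hne _ _ _ _⟩]
  rfl

/-- The torus of an orbit is generated by the orbit subgroups. -/
theorem hel_mem {H : Subgroup (GL D.Idx K)} (hU : W.Ufix (O.wO R.o) ≤ H)
    (hV : Ugrp hT K (T.ng '' rootsOf T (O.J R.o)) ⊓ W.fixed ≤ H) {c : Fin D.rank → Kˣ} (hc : W.hatC c = c) :
    ((O.J R.o).map fun j => hel hT (T.p j) (c j)).prod ∈ H := by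
  have hfix : ∀ d : Fin D.rank → Kˣ, W.hatC d = d → ((O.J R.o).map fun j => nel hT (T.p j) (d j)).prod ∈ H := by
    intro d hd
    have he : ∀ j, σ (d (W.ρi⁻¹ j) : K) = (d j : K) := by
      intro j
      have h1 := congrArg Units.val (congrFun hd j)
      simp only [Twist.hatC, R.hφ] at h1
      exact h1
    obtain ⟨h1, h2⟩ := R.fixed_param (t := fun j => (d j : K)) fun j _ => he j
    obtain ⟨h3, h4⟩ := R.fixed_param (t := fun j => -((d j : K))⁻¹) fun j _ => by
      rw [map_neg, map_inv₀, he]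
    rw [R.prod_nel, R.oprod_congr true h2, R.oprod_congr false h4]
    exact mul_mem (mul_mem (hU (R.spread_mem h1)) (hV (R.spread_mem_neg h3))) (hU (R.spread_mem h1))
  have hm1 : W.hatC (fun _ => (-1 : Kˣ)) = fun _ => -1 := by
    funext j; ext; simp [Twist.hatC]
  have h := prod_three (fun j => nel hT (T.p j) (c j)) (fun j => nel hT (T.p j) (-1 : Kˣ))
    (fun _ : Fin D.rank => (1 : GL D.Idx K)) (O.J R.o) R.hnd fun x hx y hy hne => by
      refine ⟨?_, Commute.one_right _, Commute.one_right _⟩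
      have hc' : ∀ a b, Commute (u hT (sRoot T true x) a) (nel hT (T.p y) b) ∧
          Commute (u hT (sRoot T false x) a) (nel hT (T.p y) b) := fun a b =>
        ⟨((R.commute_u hx hy hne true true a _).mul_right (R.commute_u hx hy hne true false a _)).mul_right
            (R.commute_u hx hy hne true true a _),
          ((R.commute_u hx hy hne false true a _).mul_right (R.commute_u hx hy hne false false a _)).mul_right
            (R.commute_u hx hy hne false true a _)⟩
      exact ((hc' _ _).1.mul_left (hc' _ _).2).mul_left (hc' _ _).1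
  simp only [mul_one] at h
  rw [List.map_const', List.prod_replicate, one_pow, mul_one] at h
  rw [show (fun j => hel hT (T.p j) (c j)) = fun j => nel hT (T.p j) (c j) * nel hT (T.p j) (-1) from rfl, ← h]
  exact mul_mem (hfix c hc) (hfix (fun _ => -1) hm1)

end Twist.Orth

end Tab

end CfsgLib.Lie
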