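/-
Twisted groups all of whose orbits consist of orthogonal roots.
-/
import Cfsg.Agent.Lib.LieTwistOrbit
import Cfsg.Agent.Lib.LieChevFieldAut
import Cfsg.Agent.Lib.LieTwistGraph
import Cfsg.Prelude.Def_LieTwisted

set_option autoImplicit false
set_option maxHeartbeats 400000

namespace CfsgLib.Lie

open Cfsg.Lie

/-- The power map by the order of the fixed field. -/
theorem exists_frob {K : Type*} [Field K] [Fintype K] {q k : ℕ} (hk : k.Prime) (hq : IsPrimePow q)
    (hK : Fintype.card K = q ^ k) :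
    ∃ σ : K ≃+* K, (∀ x, σ x = x ^ q) ∧ orderOf σ = k := by
  classical
  obtain ⟨p, n, hp, hn, rfl⟩ := (isPrimePow_nat_iff q).1 hq
  haveI : Fact p.Prime := ⟨hp⟩
  haveI : CharP K p := by
    obtain ⟨p', hp'⟩ := CharP.exists K
    haveI := hp'
    obtain ⟨m, hp1, hm⟩ := FiniteField.card K p'
    have : p' = p := by
      rw [hK, ← pow_mul] at hm
      have h1 : p ∣ p' ^ (m : ℕ) := hm ▸ dvd_pow_self p (Nat.mul_ne_zero hn.ne' hk.ne_zero)
      exact ((Nat.prime_dvd_prime_iff_eq hp hp1).1 (hp.dvd_of_dvd_pow h1)).symm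
    exact this ▸ hp'
  haveI : ExpChar K p := ExpChar.prime hp
  refine ⟨iterateFrobeniusEquiv K p n, fun x => iterateFrobeniusEquiv_def K p n x, ?_⟩
  set σ := iterateFrobeniusEquiv K p n
  have hpow : ∀ (j : ℕ) (x : K), (σ ^ j) x = x ^ ((p ^ n) ^ j) := by
    intro j
    induction j with
    | zero => intro x; simp
    | succ j ih =>
      intro x
      rw [pow_succ']
      show σ ((σ ^ j) x) = _
      rw [ih, iterateFrobeniusEquiv_def, ← pow_mul]
      ring_nf
  have h1 : σ ^ k = 1 := RingEquiv.ext fun x => by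
    rw [hpow, ← hK, FiniteField.pow_card]; rfl
  refine ((Nat.dvd_prime hk).1 (orderOf_dvd_of_pow_eq_one h1)).resolve_left fun h => ?_
  rw [orderOf_eq_one_iff] at h
  have hq1 : 1 < p ^ n := Nat.one_lt_pow hn.ne' hp.one_lt
  have hall : ∀ x : K, Polynomial.eval x (Polynomial.X ^ (p ^ n) - Polynomial.X : Polynomial K) = 0 := by
    intro x
    have := hpow 1 x
    rw [pow_one, h, pow_one] at this
    simp [← this]
  have hne : (Polynomial.X ^ (p ^ n) - Polynomial.X : Polynomial K) ≠ 0 :=
    FiniteField.X_pow_card_sub_X_ne_zero K hq1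
  have hle : Fintype.card K ≤ p ^ n := by
    rw [← Finset.card_univ]
    have h2 := Polynomial.card_le_degree_of_subset_roots (p := (Polynomial.X ^ (p ^ n) - Polynomial.X : Polynomial K))
      (Z := Finset.univ) (fun x _ => (Polynomial.mem_roots hne).2 (hall x))
    rwa [FiniteField.X_pow_card_sub_X_natDegree_eq K hq1] at h2
  have : p ^ n < (p ^ n) ^ k := by
    calc p ^ n = (p ^ n) ^ 1 := (pow_one _).symm
      _ < (p ^ n) ^ k := Nat.pow_lt_pow_right hq1 hk.one_lt
  omega

theorem card_fixed_frob {K : Type*} [Field K] [Fintype K] {q k : ℕ} (hk : k.Prime) (hq : IsPrimePow q)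
    (hK : Fintype.card K = q ^ k) {σ : K ≃+* K} (ho : orderOf σ = k) :
    Nat.card {a : K // σ a = a} = q := by
  obtain ⟨F₀, _, _, ι, hc, hiff⟩ := exists_fixed_field σ
  rw [ho, hK] at hc
  have h := Nat.pow_left_injective hk.ne_zero hc
  let e : F₀ → {a : K // σ a = a} := fun x => ⟨ι x, (hiff _).2 ⟨x, rfl⟩⟩
  have hb : Function.Bijective e := by
    refine ⟨fun a b h' => ι.injective (Subtype.ext_iff.1 h'), fun a => ?_⟩
    obtain ⟨x, hx⟩ := (hiff a.1).1 a.2
    exact ⟨x, Subtype.ext hx⟩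
  rw [← Nat.card_eq_of_bijective e hb, Nat.card_eq_fintype_card]
  exact h.symm

theorem card_fixed_units {K : Type*} [Field K] [Fintype K] (σ : K ≃+* K) :
    Nat.card {a : Kˣ // Units.map (σ : K →* K) a = a} = Nat.card {a : K // σ a = a} - 1 := by
  classical
  let e : {a : Kˣ // Units.map (σ : K →* K) a = a} ≃ {a : {a : K // σ a = a} // a ≠ ⟨0, map_zero σ⟩} :=
    { toFun := fun a => ⟨⟨a.1, congrArg Units.val a.2⟩, fun h => a.1.ne_zero (congrArg Subtype.val h)⟩
      invFun := fun a => ⟨Units.mk0 a.1.1 (fun h => a.2 (Subtype.ext h)), Units.ext a.1.2⟩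
      left_inv := fun a => Subtype.ext (Units.ext rfl)
      right_inv := fun a => rfl }
  rw [Nat.card_congr e, Nat.card_eq_fintype_card, Nat.card_eq_fintype_card, Fintype.card_subtype_compl,
    Fintype.card_subtype_eq]

namespace Tab

variable {D : ChevalleyDatum} {T : Tab D} {K : Type*} [Field K] {hT : T.Checked}

namespace Twist.Orth

variable {W : Twist hT K} {O : Orbs hT W.toSym} {σ : K ≃+* K} (R : W.Orth O σ)

/-- The word of an orbit. -/
def word (s : Bool) (a : K) : List (ℕ × K) :=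
  (List.range R.len).map fun m => ((sRoot T s ((W.ρi ^ m) R.head)).val, (σ ^ m) a)

theorem coe_spread (s : Bool) (a : K) :
    ((R.oprod s (R.spread a) : GL D.Idx K) : Matrix D.Idx D.Idx K) = D.wordMat K (R.word s a) := by
  unfold oprod word
  rw [R.hJ, List.map_map, ← Units.coeHom_apply, map_list_prod, List.map_map, ChevalleyDatum.wordMat, List.map_map]
  congr 1
  refine List.map_congr_left fun m hm => ?_
  simp only [Function.comp_apply, Units.coeHom_apply, coe_u, x_eq hT,
    R.spread_head a (List.mem_range.1 hm)]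

end Twist.Orth

/-- All orbits are orthogonal and the group is generated by their words. -/
structure Twist.OrthGen (W : Twist hT K) (O : Orbs hT W.toSym) (σ : K ≃+* K) (G : Subgroup (GL D.Idx K)) where
  R : Fin O.n → W.Orth O σ
  hR : ∀ o, (R o).o = o
  hE : ∀ r, T.extraB r = true
  S : Set (List (ℕ × K))
  hG : G = D.genSubgroup K S
  hS : ∀ w ∈ S, ∃ o s a, (σ ^ (R o).len) a = a ∧ w = (R o).word s a
  hS' : ∀ o s a, (σ ^ (R o).len) a = a → (R o).word s a ∈ S

namespace Twist.OrthGen

variable {W : Twist hT K} {O : Orbs hT W.toSym} {σ : K ≃+* K} {G : Subgroup (GL D.Idx K)}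
  (X : W.OrthGen O σ G)
include X

theorem oprod_mem (o : Fin O.n) (s : Bool) {a : K} (ha : (σ ^ (X.R o).len) a = a) :
    (X.R o).oprod s ((X.R o).spread a) ∈ G :=
  (SetLike.ext_iff.1 X.hG _).2 (Subgroup.subset_closure ⟨_, X.hS' o s a ha, (X.R o).coe_spread s a⟩)

theorem le_fixed : G ≤ W.fixed := by
  rw [X.hG]
  refine (Subgroup.closure_le _).2 ?_
  rintro g ⟨w, hw, e⟩
  obtain ⟨o, s, a, ha, rfl⟩ := X.hS w hw
  have : g = (X.R o).oprod s ((X.R o).spread a) := Units.ext (e.trans ((X.R o).coe_spread s a).symm)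
  rw [this]
  exact ⟨(X.R o).oprod_mem_group _ _, (X.R o).τ_spread s ha⟩

theorem hU (o : Fin O.n) : W.Ufix (O.wO o) ≤ G := by
  intro g hg
  rw [← X.hR o] at hg
  obtain ⟨a, ha, rfl⟩ := (X.R o).exists_of_mem hg
  exact X.oprod_mem o true ha

theorem neg_one_ne (o : Fin O.n) : ∃ x ∈ G, x ≠ 1 ∧ x ∈ Ugrp hT K (T.ng '' rootsOf T (O.J o)) := by
  have ha : (σ ^ (X.R o).len) 1 = 1 := map_one _
  refine ⟨_, X.oprod_mem o false ha, fun h => ?_, ?_⟩
  · set R := X.R o
    have hs : ∀ j ∈ O.J R.o, R.spread 1 j = 1 := by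
      intro j hj
      obtain ⟨m, hm, rfl⟩ := R.mem_J.1 hj
      rw [R.spread_head _ hm, map_one]
    have h1 : R.oprod false (fun j => -((((fun _ => 1 : Fin D.rank → Kˣ) j : Kˣ) : K))⁻¹) = 1 := by
      rw [R.oprod_congr false (t' := -R.spread 1) fun j hj => by simp [hs j hj]]
      have := R.oprod_add false (R.spread 1) (-R.spread 1)
      rw [h, one_mul, add_neg_cancel] at this
      rw [this]
      simp [Twist.Orth.oprod, u_zero]
    have h2 := R.prod_nel (fun _ => (1 : Kˣ))
    rw [h1, mul_one] at h2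
    have h3 : gw (F := K) hT (O.J R.o) = ((O.J R.o).map fun j => nel hT (T.p j) (1 : Kˣ)).prod := by
      rw [gw]
      congr 1
      exact List.map_congr_left fun j _ => sg_eq_nel hT j
    have hU : ((O.J R.o).map fun j => nel hT (T.p j) (1 : Kˣ)).prod ∈ D.posUnipotent K := by
      rw [h2, posUnipotent_eq hT]
      refine mul_mem (Ugrp_mono hT ?_ (R.oprod_mem true _)) (Ugrp_mono hT ?_ (R.oprod_mem true _)) <;>
      · rintro _ ⟨j, _, rfl⟩; exact pos_p hT j
    have h4 : gw (F := K) hT (O.J R.o) = 1 := by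
      have h0 := pos_inf_monomial (F := K) hT
      rw [eq_bot_iff] at h0
      exact Subgroup.mem_bot.1 (h0 ⟨h3 ▸ hU, gw_mem_monomial hT _⟩)
    have h5 : pw hT (O.J R.o) = 1 := by
      have := acts_gw (F := K) hT (O.J R.o)
      rw [h4] at this
      exact this.unique hT (acts_one hT)
    have hw : ∀ L : List (Fin D.rank), L.Nodup → (∀ x ∈ L, x ∈ O.J R.o) → ∀ j ∈ O.J R.o,
        pw hT L (T.p j) = if j ∈ L then T.ng (T.p j) else T.p j := by
      intro L
      induction L with
      | nil => intro _ _ j _; simp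
      | cons i L ih =>
        intro hnd hL j hj
        obtain ⟨hi, hnd'⟩ := List.nodup_cons.1 hnd
        have hiJ := hL i List.mem_cons_self
        have hfix : j ≠ i → T.w i (T.p j) = T.p j := fun hne => co_inj hT fun m => by
          rw [co_w hT, R.hA i hiJ j hj (Ne.symm hne)]; simp
        rw [pw_cons, Equiv.Perm.mul_apply, ih hnd' (fun x hx => hL x (List.mem_cons_of_mem _ hx)) j hj, wp_apply]
        by_cases hji : j = i
        · subst hji
          rw [if_neg hi, if_pos List.mem_cons_self, w_p hT]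
        · by_cases hjL : j ∈ L
          · rw [if_pos hjL, if_pos (List.mem_cons_of_mem _ hjL), w_ng hT, hfix hji]
          · rw [if_neg hjL, if_neg (by simp [hji, hjL]), hfix hji]
    obtain ⟨j, hj⟩ := O.nonempty R.o
    have h6 := hw _ R.hnd (fun x hx => hx) j hj
    rw [h5, if_pos hj] at h6
    exact ng_ne hT _ h6.symm
  · have := (Subgroup.mem_inf.1 ((X.R o).spread_mem_neg ha)).1
    rwa [X.hR o] at this

theorem rep (o : Fin O.n) : ∃ m ∈ D.monomialSubgroup K, m ∈ G ∧ m ∈ W.fixed ∧ Acts hT m (O.wO o) := by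
  obtain ⟨x, hx, hx1, hxn⟩ := X.neg_one_ne o
  exact W.exists_rep X.hE O (X.hU o) hx (X.le_fixed hx) hx1 hxn

theorem hVle (o : Fin O.n) : Ugrp hT K (T.ng '' rootsOf T (O.J o)) ⊓ W.fixed ≤ G := by
  intro y hy
  obtain ⟨hyU, hyf⟩ := Subgroup.mem_inf.1 hy
  obtain ⟨m, _, hmG, hmf, hma⟩ := X.rep o
  have h1 := Subgroup.mem_map_of_mem (MulAut.conj m).toMonoidHom hyU
  rw [map_Ugrp hT hma] at h1
  have hc : m * y * m⁻¹ ∈ W.Ufix (O.wO o) := by
    refine Subgroup.mem_inf.2 ⟨Ugrp_mono hT ?_ h1, mul_mem (mul_mem hmf hyf) (inv_mem hmf)⟩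
    rintro _ ⟨_, ⟨r, hr, rfl⟩, rfl⟩
    have h := (O.negSet_wO o).symm.subset hr
    refine ⟨?_, ?_⟩
    · rw [Orbs.wO, pw_ng, pos_ng hT]; exact h.2
    · rw [O.wO_wO, pos_ng hT, not_not]; exact h.1
  have := mul_mem (mul_mem (inv_mem hmG) (X.hU o hc)) hmG
  simpa [mul_assoc] using this

theorem hel_mem {c : Fin D.rank → Kˣ} (hc : W.hatC c = c) : torus T c ∈ G := by
  classical
  have hperm : (List.finRange D.rank).Perm ((List.finRange O.n).flatMap O.J) := by
    refine (List.perm_ext_iff_of_nodup (List.nodup_finRange _) ?_).2 fun i => ?_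
    · refine List.nodup_flatMap.2 ⟨fun o _ => by have h := (X.R o).hnd; rwa [X.hR o] at h, ?_⟩
      exact (List.nodup_finRange O.n).imp fun hne => List.disjoint_left.2 fun x hx hx' => hne (O.disj _ _ x hx hx')
    · simp only [List.mem_finRange, List.mem_flatMap, true_and, true_iff]
      exact O.cover i
  rw [torus_eq_prod_hel hT]
  have hpc : ((List.finRange D.rank).map fun i => hel (F := K) hT (T.p i) (c i)).prod =
      (((List.finRange O.n).flatMap O.J).map fun i => hel (F := K) hT (T.p i) (c i)).prod := by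
    refine List.Perm.prod_eq' (hperm.map _) (List.pairwise_map.2 (List.pairwise_of_forall fun a b => ?_))
    exact diagonal_comm hT (hel_mem_diagonal hT _ _) (hel_mem_diagonal hT _ _)
  rw [hpc]
  have : ∀ L : List (Fin O.n), ((L.flatMap O.J).map fun i => hel (F := K) hT (T.p i) (c i)).prod ∈ G := by
    intro L
    induction L with
    | nil => exact one_mem _
    | cons o L ih =>
      rw [List.flatMap_cons, List.map_append, List.prod_append]
      refine mul_mem ?_ ih
      rw [← X.hR o]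
      exact (X.R o).hel_mem (by rw [X.hR o]; exact X.hU o) (by rw [X.hR o]; exact X.hVle o) hc
  exact this _

/-- The generated group is the fixed group, given an adjustment of the kernel of the torus. -/
theorem gen (hker : ∀ w ∈ (torus (F := K) T).ker, ∀ c, W.hatC c = c * w →
    ∃ z ∈ (torus (F := K) T).ker, W.hatC (c * z) = c * z) : W.Gen O G where
  hE := X.hE
  le := X.le_fixed
  hU := X.hU
  hV := X.neg_one_ne
  hH := by
    intro h hh hf
    rw [diagonal_eq hT] at hh
    obtain ⟨c, rfl⟩ := hh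
    rw [W.τ_torus] at hf
    have hw : c⁻¹ * W.hatC c ∈ (torus (F := K) T).ker := by
      rw [MonoidHom.mem_ker, map_mul, map_inv, hf, inv_mul_cancel]
    obtain ⟨z, hz, hz'⟩ := hker _ hw c (mul_inv_cancel_left _ _).symm
    have := X.hel_mem hz'
    rwa [map_mul, MonoidHom.mem_ker.1 hz, mul_one] at this
  hreg := by
    intro o
    obtain ⟨f, hf, hf'⟩ := (X.R o).oprod_eq_uprod ((X.R o).spread 1)
    refine ⟨f, ?_, fun j hj => ?_⟩
    · rw [← hf]
      have := (X.R o).spread_mem (map_one (σ ^ (X.R o).len))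
      rwa [X.hR o] at this
    · rw [← X.hR o] at hj
      rw [hf' j hj]
      obtain ⟨m, hm, rfl⟩ := (X.R o).mem_J.1 hj
      rw [(X.R o).spread_head _ hm, map_one]
      exact one_ne_zero

theorem hcl (H : Subgroup (GL D.Idx K)) (hU : ∀ o, W.Ufix (O.wO o) ≤ H)
    (hV : ∀ o, Ugrp hT K (T.ng '' rootsOf T (O.J o)) ⊓ W.fixed ≤ H) : G ≤ H := by
  rw [X.hG]
  refine (Subgroup.closure_le _).2 ?_
  rintro g ⟨w, hw, e⟩
  obtain ⟨o, s, a, ha, rfl⟩ := X.hS w hw
  have : g = (X.R o).oprod s ((X.R o).spread a) := Units.ext (e.trans ((X.R o).coe_spread s a).symm)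
  rw [this]
  cases s
  · have := (X.R o).spread_mem_neg ha
    rw [X.hR o] at this
    exact hV o this
  · have := (X.R o).spread_mem ha
    rw [X.hR o] at this
    exact hU o this

/-- An orbit with at least two roots, or with many scalars, is moved by a torus element. -/
theorem derived_long [Finite K] (hg : W.Gen O G) (o : Fin O.n) {a : Kˣ} (ha : (σ ^ (X.R o).len) (a : K) = a)
    (ha2 : (a : K) ^ 2 ≠ 1) : W.Ufix (O.wO o) ≤ ⁅G, G⁆ := by
  classical
  set R := X.R o with hR'
  have hRo : R.o = o := X.hR o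
  let c : Fin D.rank → Kˣ := fun j =>
    if h : R.spread (a : K) j = 0 then 1 else Units.mk0 _ h
  have hsp0 : ∀ j, j ∉ O.J R.o → R.spread (a : K) j = 0 := fun j hj => by
    rw [Twist.Orth.spread]; exact dif_neg fun h => hj (R.mem_J.2 h)
  have hspne : ∀ m, m < R.len → R.spread (a : K) ((W.ρi ^ m) R.head) ≠ 0 := fun m hm => by
    rw [R.spread_head _ hm]; exact (map_ne_zero _).2 a.ne_zero
  have hc : W.hatC c = c := by
    funext j
    have hiff : W.ρi⁻¹ j ∈ O.J R.o ↔ j ∈ O.J R.o := by
      refine ⟨fun h => by simpa using O.closed _ _ h, fun h => ?_⟩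
      obtain ⟨k, hk⟩ := O.trans R.o _ (O.closed _ j h) j h
      have : W.ρi⁻¹ j = (W.ρi ^ k) j := by
        rw [Equiv.Perm.inv_eq_iff_eq]
        conv_lhs => rw [← hk]
        show (W.ρi ^ k * W.ρi) j = (W.ρi * W.ρi ^ k) j
        rw [(Commute.pow_self _ _).eq]
      rw [this]
      clear hk this
      induction k with
      | zero => simpa using h
      | succ k ih => rw [pow_succ', Equiv.Perm.mul_apply]; exact O.closed _ _ ih
    by_cases hj : j ∈ O.J R.o
    · have hne1 : R.spread (a : K) (W.ρi⁻¹ j) ≠ 0 := by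
        obtain ⟨m, hm, hm'⟩ := R.mem_J.1 (hiff.2 hj)
        rw [← hm']; exact hspne m hm
      have hne2 : R.spread (a : K) j ≠ 0 := by
        obtain ⟨m, hm, rfl⟩ := R.mem_J.1 hj
        exact hspne m hm
      have h1 := R.oprod_inj (t := fun j => σ (R.spread (a : K) (W.ρi⁻¹ j))) (t' := R.spread (a : K))
        (by rw [← R.τ_oprod]; exact R.τ_spread true ha) j hj
      ext
      simp only [Twist.hatC, c, R.hφ, dif_neg hne1, dif_neg hne2]
      exact h1
    · ext
      simp only [Twist.hatC, c, dif_pos (hsp0 j hj), dif_pos (hsp0 _ fun h => hj (hiff.1 h))]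
      simp
  have hf := X.hel_mem hc
  refine hg.derived_of_torus (f := torChar T c) hf (torus_mem hT c) (torChar_isChar hT c) fun r hr h => ?_
  rw [← hRo] at hr
  obtain ⟨j, hj, rfl⟩ := R.hroots r hr
  obtain ⟨m, hm, rfl⟩ := R.mem_J.1 hj
  have hval : torChar T c (T.p ((W.ρi ^ m) R.head)) = c ((W.ρi ^ m) R.head) ^ (2 : ℤ) := by
    rw [torChar, Finset.prod_eq_single ((W.ρi ^ m) R.head)]
    · rw [A_p hT]
    · intro i _ hne
      by_cases hi : i ∈ O.J R.o
      · rw [R.hA i hi _ hj hne, zpow_zero]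
      · simp only [c, dif_pos (hsp0 i hi), one_zpow]
    · intro h'; exact absurd (Finset.mem_univ _) h'
  rw [hval] at h
  have h2 := congrArg Units.val h
  simp only [c, dif_neg (hspne m hm), Units.val_zpow_eq_zpow_val, Units.val_mk0, Units.val_one, zpow_ofNat,
    R.spread_head _ hm] at h2
  exact ha2 ((σ ^ m).injective (by rw [map_pow, map_one]; simpa using h2))

end Twist.OrthGen

end Tab

end CfsgLib.Lie
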