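/-
Tables for the symmetry of the Chevalley datum of type G2 and for its centralised Weyl group (generated).
-/
import Cfsg.Agent.Lib.LieDataG2
import Cfsg.Agent.Lib.LieTwistTab

set_option autoImplicit false
set_option maxRecDepth 100000
set_option maxHeartbeats 4000000

namespace CfsgLib.Lie

open Cfsg.Lie Tab

theorem posrk_G2 : 0 < chevG2.rank := by decide +kernel

/-- A node from its number. -/
def frG2 (x : ℕ) : Fin chevG2.rank := ⟨Nat.mod x chevG2.rank, Nat.mod_lt _ posrk_G2⟩

/-- Tables of the symmetry. -/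
noncomputable def twG2 : TwData chevG2 where
  rho r := ⟨Nat.mod (byteAt 0x9080b0a0607040501000302 r.val) chevG2.nroots, Nat.mod_lt _ pos_G2⟩
  rhoInv r := ⟨Nat.mod (byteAt 0x9080b0a0607040501000302 r.val) chevG2.nroots, Nat.mod_lt _ pos_G2⟩
  rhoi i := frG2 (byteAt 0x1 i.val)
  rhoiInv i := frG2 (byteAt 0x1 i.val)
  n := 1
  J o := [[0, 1].map (frG2)].getD o.val []
  wl o := [[0, 1, 0, 1, 0, 1].map (frG2)].getD o.val []

/-- Signs of the symmetry. -/
def epsG2 : ℕ := 0x0

/-- Codes. -/
noncomputable def certG2_el : ℕ → ℕ := chunkAt (.lf 0x5040000000000000607)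
/-- Transitions. -/
noncomputable def certG2_nxt : ℕ → ℕ := chunkAt (.lf 0x1)
/-- Parents. -/
noncomputable def certG2_par : ℕ → ℕ := chunkAt (.lf 0x0)
/-- Ranks. -/
noncomputable def certG2_pos : ℕ → ℕ := chunkAt (.lf 0x1)
/-- Sorting. -/
noncomputable def certG2_srt : ℕ → ℕ := chunkAt (.lf 0x1)

/-- The enumeration. -/
noncomputable def certG2 : WCert chevG2 twG2 where
  N := 2
  el := certG2_el
  nxt := certG2_nxt
  par := certG2_par
  pos := certG2_pos
  srt := certG2_srt

theorem twG2_sym : tabG2.symB twG2 = true := by decide +kernel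

theorem twG2_orb : tabG2.orbB twG2 = true := by decide +kernel

theorem twG2_conn : tabG2.connOB twG2 = true := by decide +kernel

theorem twG2_cert : tabG2.certB twG2 certG2 = true := by decide +kernel

theorem twG2_dist : tabG2.distB twG2 certG2 3 [1, 0, 1] = true := by decide +kernel

end CfsgLib.Lie
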