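/-
The Weyl group of a twisted group.
-/
import Cfsg.Agent.Lib.LieTwistBN

set_option autoImplicit false
set_option maxHeartbeats 400000

namespace CfsgLib.Lie

open Cfsg.Lie

namespace Tab

variable {D : ChevalleyDatum} {T : Tab D} {K : Type*} [Field K] {hT : T.Checked}
variable {W : Twist hT K} {O : Orbs hT W.toSym} {G : Subgroup (GL D.Idx K)}

/-- The monomial part of a twisted group maps onto any faithful model of the centralised Weyl group. -/
theorem Twist.Gen.weylHom (hG : W.Gen O G) {Γ : Type*} [Group Γ] (χ : Γ →* Equiv.Perm (Fin D.nroots))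
    (hgen : ∀ o, O.wO o ∈ χ.range) (hmem : ∀ x, χ x ∈ O.WF) (hcard : Nat.card Γ = O.WF.card) :
    ∃ φ : ↥(D.monomialSubgroup K ⊓ G) →* Γ, Function.Surjective φ ∧
      φ.ker = (D.diagonalSubgroup K ⊓ G).subgroupOf (D.monomialSubgroup K ⊓ G) := by
  classical
  have hrange : ∀ π ∈ O.WF, π ∈ χ.range := fun π hπ =>
    O.WF_induction (P := fun π => π ∈ χ.range) (one_mem _) (fun π o _ _ ih => mul_mem ih (hgen o)) hπ
  have hne : O.WF.card ≠ 0 := Finset.card_ne_zero_of_mem O.one_mem_WF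
  haveI : Finite Γ := Nat.finite_of_card_ne_zero (by omega)
  have hinj : Function.Injective χ := by
    let f : Γ → ↥O.WF := fun x => ⟨χ x, hmem x⟩
    have hf : Function.Surjective f := fun π => by
      obtain ⟨x, hx⟩ := hrange π.1 π.2
      exact ⟨x, Subtype.ext hx⟩
    have hb : Function.Bijective f := by
      refine (Nat.bijective_iff_surjective_and_card f).2 ⟨hf, ?_⟩
      rw [hcard, Nat.card_eq_fintype_card, Fintype.card_coe]
    intro x y h
    exact hb.1 (Subtype.ext h)
  let p : ↥(D.monomialSubgroup K ⊓ G) →* Equiv.Perm (Fin D.nroots) :=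
    (toPerm hT).comp (Subgroup.inclusion inf_le_left)
  have hp : ∀ n, p n ∈ χ.range := fun n => hrange _
    (hG.mem_of_fixed_monomial (Subgroup.mem_inf.1 n.2).1 (hG.le (Subgroup.mem_inf.1 n.2).2)
      (acts_toPerm hT (Subgroup.inclusion inf_le_left n))).1
  let φ : ↥(D.monomialSubgroup K ⊓ G) →* Γ := (MonoidHom.ofInjective hinj).symm.toMonoidHom.comp (p.codRestrict _ hp)
  refine ⟨φ, ?_, ?_⟩
  · intro x
    obtain ⟨⟨m, hm, hmG, _, hma⟩, _⟩ := hG.exists_of_WF (hmem x)
    refine ⟨⟨m, Subgroup.mem_inf.2 ⟨hm, hmG⟩⟩, ?_⟩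
    show (MonoidHom.ofInjective hinj).symm (p.codRestrict _ hp _) = x
    rw [MulEquiv.symm_apply_eq]
    exact Subtype.ext (toPerm_eq hT hma)
  · ext n
    simp only [φ, MonoidHom.mem_ker, MonoidHom.coe_comp, Function.comp_apply, MulEquiv.coe_toMonoidHom,
      MulEquiv.map_eq_one_iff, Subgroup.mem_subgroupOf, Subgroup.mem_inf]
    rw [Subtype.ext_iff]
    show toPerm hT (Subgroup.inclusion inf_le_left n) = 1 ↔ _
    rw [toPerm_eq_one_iff hT]
    exact ⟨fun h => ⟨h, (Subgroup.mem_inf.1 n.2).2⟩, fun h => h.1⟩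

/-- The model given by a Coxeter matrix. -/
theorem Twist.Gen.weylHom_cox (hG : W.Gen O G) {M : CoxeterMatrix (Fin O.n)}
    (hM : ∀ a b, (O.wO a * O.wO b) ^ M.M a b = 1) (hcard : Nat.card M.Group = O.WF.card) :
    ∃ φ : ↥(D.monomialSubgroup K ⊓ G) →* M.Group, Function.Surjective φ ∧
      φ.ker = (D.diagonalSubgroup K ⊓ G).subgroupOf (D.monomialSubgroup K ⊓ G) := by
  have hl : M.IsLiftable O.wO := hM
  set χ := M.toCoxeterSystem.lift ⟨O.wO, hl⟩ with hχdef
  have hχ : ∀ i, χ (M.simple i) = O.wO i := fun i => M.toCoxeterSystem.lift_apply_simple hl i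
  refine hG.weylHom χ (fun o => ⟨_, hχ o⟩) (fun x => ?_) hcard
  induction x using M.toCoxeterSystem.simple_induction with
  | simple i =>
    rw [show M.toCoxeterSystem.simple i = M.simple i from rfl, hχ]
    exact O.wO_mem i
  | one => rw [map_one]; exact O.one_mem_WF
  | mul a b ha hb => rw [map_mul]; exact O.WF_mul ha hb

end Tab

end CfsgLib.Lie
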