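/-
Perfectness and order of twisted groups with orthogonal orbits.
-/
import Cfsg.Agent.Lib.LieTwistAssemble
import Cfsg.Agent.Lib.LieChevSimple

set_option autoImplicit false
set_option maxHeartbeats 400000

namespace CfsgLib.Lie

open Cfsg.Lie

namespace Tab

variable {D : ChevalleyDatum} {T : Tab D} {K : Type*} [Field K] {hT : T.Checked}
variable {W : Twist hT K} {O : Orbs hT W.toSym} {σ : K ≃+* K} {G : Subgroup (GL D.Idx K)}

/-- An orbit consisting of a single root which is a sum of two suitable fixed roots. -/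
theorem Twist.OrthGen.derived_short (X : W.OrthGen O σ G) (hg : W.Gen O G) (o o' : Fin O.n) {i k : Fin D.rank}
    (ho : O.J o = [i]) (ho' : O.J o' = [k]) {L₁ L₂ : List (Fin D.rank)}
    (h₁ : W.ρ * pw hT L₁ = pw hT L₁ * W.ρ) (h₂ : W.ρ * pw hT L₂ = pw hT L₂ * W.ρ)
    {a s : Fin D.nroots} (ha : pw hT L₁ (T.p i) = a) (hs : pw hT L₂ (T.ng (T.p k)) = s)
    (hne : s ≠ T.ng a) (hnx : T.nx a s = some (T.p i)) (hnx' : T.nx a (T.p i) = none)
    (hnx'' : T.nx s (T.p i) = none) (hM : (T.M 1 a s).natAbs = 1) : W.Ufix (O.wO o) ≤ ⁅G, G⁆ := by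
  classical
  obtain ⟨n₁, -, hn₁, -, hn₁a⟩ := (hg.exists_of_WF (O.WF_mk h₁)).1
  obtain ⟨n₂, -, hn₂, -, hn₂a⟩ := (hg.exists_of_WF (O.WF_mk h₂)).1
  have hi : i ∈ O.J o := by rw [ho]; exact List.mem_cons_self
  have hk : k ∈ O.J o' := by rw [ho']; exact List.mem_cons_self
  have hsing : ∀ (o : Fin O.n) (i : Fin D.rank), O.J o = [i] → (X.R o).head = i ∧ (X.R o).len = 1 := by
    intro o i ho
    have hJ := (X.R o).hJ
    rw [X.hR o, ho] at hJ
    have hlen : (X.R o).len = 1 := by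
      have := congrArg List.length hJ
      simpa using this.symm
    refine ⟨?_, hlen⟩
    rw [hlen] at hJ
    simpa using hJ.symm
  obtain ⟨hhi, hli⟩ := hsing o i ho
  obtain ⟨hhk, hlk⟩ := hsing o' k ho'
  -- the members of the two fixed root families
  have hp : ∀ (o : Fin O.n) (i : Fin D.rank), O.J o = [i] → ∀ (s : Bool) (x : K), σ x = x →
      u hT (sRoot T s i) x ∈ G := by
    intro o i ho s x hx
    obtain ⟨hh, hl⟩ := hsing o i ho
    have h := X.oprod_mem o s (a := x) (by rw [hl, pow_one]; exact hx)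
    have e : (X.R o).oprod s ((X.R o).spread x) = u hT (sRoot T s i) x := by
      have := (X.R o).spread_head x (m := 0) (by omega)
      rw [pow_zero, pow_zero, hh] at this
      unfold Twist.Orth.oprod
      rw [X.hR o, ho]
      simp only [List.map_cons, List.map_nil, List.prod_cons, List.prod_nil, mul_one]
      rw [show (X.R o).spread x i = x from this]
    rwa [e] at h
  obtain ⟨c₁, hc₁⟩ := hn₁a (T.p i)
  obtain ⟨c₂, hc₂⟩ := hn₂a (T.ng (T.p k))
  rw [ha] at hc₁
  rw [hs] at hc₂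
  have hA : ∀ x : K, σ x = x → u hT a ((c₁ : K) * x) ∈ G := fun x hx => by
    rw [← hc₁]
    exact mul_mem (mul_mem hn₁ (hp o i ho true x hx)) (inv_mem hn₁)
  have hS : u hT s ((c₂ : K) * 1) ∈ G := by
    rw [← hc₂]
    exact mul_mem (mul_mem hn₂ (hp o' k ho' false 1 (map_one σ))) (inv_mem hn₂)
  have hcomm : ∀ x : K, σ x = x → u hT (T.p i) ((T.M 1 a s : K) * (-((c₁ : K) * x)) * c₂) ∈ ⁅G, G⁆ := by
    intro x hx
    have h := comm_formula (F := K) hT X.hE hne ((c₁ : K) * x) ((c₂ : K) * 1)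
    rw [commTerms_one hT hnx hnx' hnx'', termsMat_one, pow_one, pow_one, mul_one] at h
    have e : (u hT s ((c₂ : K) * 1))⁻¹ * (u hT a ((c₁ : K) * x))⁻¹ * ((u hT s ((c₂ : K) * 1))⁻¹)⁻¹ *
        ((u hT a ((c₁ : K) * x))⁻¹)⁻¹ = u hT (T.p i) ((T.M 1 a s : K) * (-((c₁ : K) * x)) * c₂) := by
      rw [inv_inv, inv_inv, mul_assoc ((u hT s ((c₂ : K) * 1))⁻¹ * (u hT a ((c₁ : K) * x))⁻¹)]
      have e1 : u hT s ((c₂ : K) * 1) * u hT a ((c₁ : K) * x) = u hT a ((c₁ : K) * x) * u hT s ((c₂ : K) * 1) *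
          u hT (T.p i) ((T.M 1 a s : K) * (-((c₁ : K) * x)) * c₂) := by
        apply Units.ext
        simpa only [Units.val_mul, coe_u, mul_one] using h
      rw [e1]
      group
    rw [← e]
    exact Subgroup.commutator_mem_commutator (inv_mem hS) (inv_mem (hA x hx))
  set C : K := (T.M 1 a s : K) * (-(c₁ : K)) * c₂ with hC
  have hM0 : (T.M 1 a s : K) ≠ 0 := by
    rcases Int.natAbs_eq_iff.1 hM with h | h <;> simp [h]
  have hC0 : C ≠ 0 := mul_ne_zero (mul_ne_zero hM0 (neg_ne_zero.2 c₁.ne_zero)) c₂.ne_zero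
  have hle : ⁅G, G⁆ ≤ G := Subgroup.commutator_le_self G
  have hfixC : σ C = C := by
    have h1 := hcomm 1 (map_one σ)
    rw [mul_one] at h1
    have h2 := (hg.le (hle h1)).2
    rw [W.τ_p, (X.R o).hφ] at h2
    exact (u_eq_u_iff hT (show σ C ≠ 0 from (map_ne_zero σ).2 hC0) h2).2
  intro g hgU
  rw [← X.hR o] at hgU
  obtain ⟨x, hx, rfl⟩ := (X.R o).exists_of_mem hgU
  rw [hli, pow_one] at hx
  have e : (X.R o).oprod true ((X.R o).spread x) = u hT (T.p i) x := by
    have := (X.R o).spread_head x (m := 0) (by omega)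
    rw [pow_zero, pow_zero, hhi] at this
    unfold Twist.Orth.oprod
    rw [X.hR o, ho]
    simp only [List.map_cons, List.map_nil, List.prod_cons, List.prod_nil, mul_one]
    rw [show (X.R o).spread x i = x from this]
    rfl
  rw [e]
  have h := hcomm (x / C) (by rw [map_div₀, hx, hfixC])
  have : (T.M 1 a s : K) * (-((c₁ : K) * (x / C))) * c₂ = x := by
    calc _ = C * (x / C) := by rw [hC]; ring
      _ = x := mul_div_cancel₀ x hC0
  rwa [this] at h

end Tab

end CfsgLib.Lie
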