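/-
Building orbit data and order formulas from executable checks.
-/
import Cfsg.Agent.Lib.LieTwistPerfect
import Cfsg.Agent.Lib.LieTwistHom

set_option autoImplicit false
set_option maxHeartbeats 400000

namespace CfsgLib.Lie

open Cfsg.Lie

namespace Tab

variable {D : ChevalleyDatum} {T : Tab D} {Z : TwData D} {K : Type*} [Field K] {eps : ℕ}

/-- The orbit is generated by its head. -/
def headB (Z : TwData D) (o : Fin Z.n) (head : Fin D.rank) (len : ℕ) : Bool :=
  decide (Z.J o = (List.range len).map fun m => iterF Z.rhoi m head) &&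
    decide (iterF Z.rhoi len head = head) && decide (0 < len)

variable (hT : T.Checked) (hE : ∀ r, T.extraB r = true) (hs : T.symB Z = true) (ho : T.orbB Z = true)
  (hg : T.graphB Z eps = true)

/-- The twisting endomorphism of checked tables. -/
noncomputable def twOf (σ : K ≃+* K) : Twist hT K := graphTwist hT hs hg σ

/-- The orbits of checked tables, for the twisting endomorphism. -/
noncomputable def orbW (σ : K ≃+* K) : Orbs hT (twOf hT hs hg σ).toSym := orbsOf hT hs ho

theorem twOf_pow (σ : K ≃+* K) (m : ℕ) (i : Fin D.rank) :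
    ((twOf hT hs hg σ).ρi ^ m) i = iterF Z.rhoi m i :=
  (iterF_eq_pow (symOf hs).ρi m i).symm

include hE in
/-- An orbit of orthogonal roots of checked tables. -/
noncomputable def mkOrth (σ : K ≃+* K) (o : Fin Z.n) (head : Fin D.rank) (len : ℕ)
    (hb : T.orthB Z o = true) (hh : headB Z o head len = true) :
    (twOf hT hs hg σ).Orth (orbW hT hs ho hg σ) σ where
  hE := hE
  hφ _ := rfl
  o := o
  head := head
  len := len
  hJ := by
    simp only [headB, Bool.and_eq_true, decide_eq_true_eq] at hh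
    exact hh.1.1.trans (List.map_congr_left fun m _ => (twOf_pow hT hs hg σ m head).symm)
  hper := by
    simp only [headB, Bool.and_eq_true, decide_eq_true_eq] at hh
    exact (twOf_pow hT hs hg σ len head).trans hh.1.2
  hlen := by
    simp only [headB, Bool.and_eq_true, decide_eq_true_eq] at hh
    exact hh.2
  hnd := (orth_facts hb).1.1.1
  hroots := (orth_facts hb).1.1.2
  hcomm := (orth_facts hb).1.2
  hA := (orth_facts hb).2

omit hE hg in
theorem wO_pow_eq (a b : Fin Z.n) : ∀ (k : ℕ) (r : Fin D.nroots),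
    (((orbsOf hT hs ho).wO a * (orbsOf hT hs ho).wO b) ^ k) r = T.powO Z a b k r
  | 0, r => rfl
  | k + 1, r => by
    rw [pow_succ', Equiv.Perm.mul_apply, wO_pow_eq a b k r, powO, pwf_eq hT, pwf_eq hT]
    rfl

omit hE hg in
theorem wO_pow_one {M : Fin Z.n → Fin Z.n → ℕ} (hM : T.coxOB Z M = true) (a b : Fin Z.n) :
    ((orbsOf hT hs ho).wO a * (orbsOf hT hs ho).wO b) ^ M a b = 1 := by
  simp only [coxOB, List.all_eq_true, decide_eq_true_eq, List.mem_finRange, forall_const] at hM
  exact Equiv.ext fun r => by rw [wO_pow_eq, hM a b r]; rfl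

omit hE hg in
theorem conn_of (hc : T.connOB Z = true) :
    ∀ A : Finset (Fin Z.n), A.Nonempty → Aᶜ.Nonempty → ∃ a ∈ A, ∃ b ∈ Aᶜ,
      (orbsOf hT hs ho).wO a * (orbsOf hT hs ho).wO b ≠ (orbsOf hT hs ho).wO b * (orbsOf hT hs ho).wO a :=
  conn_of_check hc hT

variable {σ : K ≃+* K} {G : Subgroup (GL D.Idx K)}

/-- The order formula for orthogonal orbits. -/
theorem card_orth (X : (twOf hT hs hg σ).OrthGen (orbW hT hs ho hg σ) σ G)
    (hG : (twOf hT hs hg σ).Gen (orbW hT hs ho hg σ) G) [Finite K] {q : ℕ}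
    (hq : ∀ o, Nat.card {a : K // (σ ^ (X.R o).len) a = a} = q ^ (X.R o).len)
    (h0 : 0 < D.nroots) (hn : D.nroots ≤ 256) {C : WCert D Z} (hC : T.certB Z C = true) {P : List ℕ}
    (hP : T.distB Z C 1 P = true) :
    Nat.card ↥(D.posUnipotent K ⊓ G) = q ^ (D.nroots / 2) ∧
      Nat.card ↥G = q ^ (D.nroots / 2) * Nat.card ↥(D.diagonalSubgroup K ⊓ G) * evalL P q := by
  have hk : ∀ o, Nat.card ↥((twOf hT hs hg σ).Ufix ((orbW hT hs ho hg σ).wO o)) ^ 1 =
      q ^ (inv' T ((orbW hT hs ho hg σ).wO o)).card := by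
    intro o
    rw [pow_one, ← X.hR o, (X.R o).card_Ufix, (X.R o).card_inv'_wO, hq]
  have hpos : Nat.card ↥(D.posUnipotent K ⊓ G) = q ^ (D.nroots / 2) := by
    have := hG.card_pos hk
    rwa [pow_one] at this
  refine ⟨hpos, ?_⟩
  rw [hG.card_group, hG.card_borel, hpos]
  congr 1
  refine sum_dist hT (h := hs) (ho := ho) h0 hn hC hP fun π hπ j hj => ?_
  have := hG.card_Ufix_pow hk hπ
  rwa [pow_one, hj, one_mul] at this

end Tab

end CfsgLib.Lie
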