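/-
Common facts on the torus of a twisted group.
-/
import Cfsg.Agent.Lib.LieTwistMk

set_option autoImplicit false
set_option maxHeartbeats 400000

namespace CfsgLib.Lie

open Cfsg.Lie

/-- A finite field with more than three elements has a unit whose square is not one. -/
theorem exists_sq_ne_one {K : Type*} [Field K] [Fintype K] (h : 3 < Fintype.card K) :
    ∃ a : Kˣ, (a : K) ^ 2 ≠ 1 := by
  classical
  by_contra hh
  push Not at hh
  have hsub : (Finset.univ : Finset K) ⊆ {0, 1, -1} := by
    intro x _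
    by_cases hx : x = 0
    · simp [hx]
    · rcases sq_eq_one_iff.1 (hh (Units.mk0 x hx)) with h' | h' <;> simp only [Units.val_mk0] at h' <;> simp [h']
  have := Finset.card_le_card hsub
  have := Finset.card_le_three (a := (0 : K)) (b := 1) (c := -1)
  simp only [Finset.card_univ] at *
  omega

theorem card_units_eq {K : Type*} [Field K] [Fintype K] : Nat.card Kˣ = Fintype.card K - 1 := by
  classical
  rw [Nat.card_eq_fintype_card, Fintype.card_units]

namespace Tab

variable {D : ChevalleyDatum} {T : Tab D} {K : Type*} [Field K] {hT : T.Checked}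

/-- A word whose permutation commutes with the symmetry. -/
def commB (T : Tab D) (Z : TwData D) (L : List (Fin D.rank)) : Bool :=
  (List.finRange D.nroots).all fun r => decide (Z.rho (T.pwf L r) = T.pwf L (Z.rho r))

theorem comm_of_check {Z : TwData D} (hs : T.symB Z = true) {L : List (Fin D.rank)} (h : T.commB Z L = true) :
    (symOf hs).ρ * pw hT L = pw hT L * (symOf hs).ρ := by
  simp only [commB, List.all_eq_true, decide_eq_true_eq, List.mem_finRange, forall_const] at h
  exact Equiv.ext fun r => by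
    have := h r
    rw [pwf_eq hT, pwf_eq hT] at this
    exact this

variable (W : Twist hT K)

theorem Twist.hatC_mul (c d : Fin D.rank → Kˣ) : W.hatC (c * d) = W.hatC c * W.hatC d := by
  funext j; simp [Twist.hatC]

theorem Twist.hatC_ker {w : Fin D.rank → Kˣ} (hw : w ∈ (torus (F := K) T).ker) :
    W.hatC w ∈ (torus (F := K) T).ker := by
  rw [MonoidHom.mem_ker] at hw ⊢
  rw [← W.τ_torus, hw, W.τ_one]

/-- The fixed parameters of the torus. -/
def Twist.fixC : Subgroup (Fin D.rank → Kˣ) where
  carrier := {c | W.hatC c = c}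
  one_mem' := by funext j; simp [Twist.hatC]
  mul_mem' {a b} ha hb := by
    simp only [Set.mem_setOf_eq] at ha hb ⊢
    rw [W.hatC_mul, ha, hb]
  inv_mem' {a} ha := by
    simp only [Set.mem_setOf_eq] at ha ⊢
    funext j
    have := congrFun ha j
    show _ = a⁻¹ j
    simp only [Twist.hatC, Pi.inv_apply, map_inv] at this ⊢
    rw [this]

theorem Twist.card_diag {O : Orbs hT W.toSym} {G : Subgroup (GL D.Idx K)} (hG : W.Gen O G)
    (hker : ∀ w ∈ (torus (F := K) T).ker, ∀ c, W.hatC c = c * w →
      ∃ z ∈ (torus (F := K) T).ker, W.hatC (c * z) = c * z) :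
    Nat.card ↥(W.fixC ⊓ (torus (F := K) T).ker) * Nat.card ↥(D.diagonalSubgroup K ⊓ G) = Nat.card ↥W.fixC := by
  let f : ↥W.fixC →* GL D.Idx K := (torus T).comp W.fixC.subtype
  have hr : f.range = D.diagonalSubgroup K ⊓ G := by
    apply le_antisymm
    · rintro _ ⟨c, rfl⟩
      refine Subgroup.mem_inf.2 ⟨torus_mem hT _, hG.mem_iff.2
        ⟨monomial_le_group hT (diagonal_le_monomial hT (torus_mem hT _)), ?_⟩⟩
      show W.τ (torus T (c : Fin D.rank → Kˣ)) = _
      rw [W.τ_torus, show W.hatC (c : Fin D.rank → Kˣ) = (c : Fin D.rank → Kˣ) from c.2]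
      rfl
    · intro g hg
      obtain ⟨hgd, hgG⟩ := Subgroup.mem_inf.1 hg
      rw [diagonal_eq hT] at hgd
      obtain ⟨c, rfl⟩ := hgd
      have hf := (hG.mem_iff.1 hgG).2
      rw [W.τ_torus] at hf
      have hw : c⁻¹ * W.hatC c ∈ (torus (F := K) T).ker := by
        rw [MonoidHom.mem_ker, map_mul, map_inv, hf, inv_mul_cancel]
      obtain ⟨z, hz, hz'⟩ := hker _ hw c (mul_inv_cancel_left _ _).symm
      refine ⟨⟨c * z, hz'⟩, ?_⟩
      show torus T (c * z) = _
      rw [map_mul, MonoidHom.mem_ker.1 hz, mul_one]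
  have hk : Nat.card f.ker = Nat.card ↥(W.fixC ⊓ (torus (F := K) T).ker) :=
    Nat.card_congr
      { toFun := fun c => ⟨c.1.1, Subgroup.mem_inf.2 ⟨c.1.2, c.2⟩⟩
        invFun := fun c => ⟨⟨c.1, (Subgroup.mem_inf.1 c.2).1⟩, (Subgroup.mem_inf.1 c.2).2⟩
        left_inv := fun _ => rfl
        right_inv := fun _ => rfl }
  rw [← hk, ← hr, ← Subgroup.index_ker]
  exact f.ker.card_mul_index

end Tab

end CfsgLib.Lie
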