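/-
Fixed torus elements obtained from the representative of an orbit reflection.
-/
import Cfsg.Agent.Lib.LieTwistGroup

set_option autoImplicit false
set_option maxHeartbeats 400000

namespace CfsgLib.Lie

open Cfsg.Lie

namespace Tab

variable {D : ChevalleyDatum} {T : Tab D} {K : Type*} [Field K] {hT : T.Checked}

/-- The longest element of an orbit acts as minus one on the coroots of the orbit. -/
def negOB (T : Tab D) (J : List (Fin D.rank)) (L : List (Fin D.rank)) : Bool :=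
  J.all fun j => (List.finRange D.nroots).all fun r => decide (T.A j (L.foldr (fun i x => T.w i x) r) = - T.A j r)

theorem pw_eq_foldr : ∀ (L : List (Fin D.rank)) (r : Fin D.nroots), pw hT L r = L.foldr (fun i x => T.w i x) r
  | [], _ => rfl
  | i :: L, r => by rw [pw_cons, Equiv.Perm.mul_apply, wp_apply, List.foldr_cons, pw_eq_foldr L r]

theorem negOB_sound {J L : List (Fin D.rank)} (h : negOB T J L = true) :
    ∀ j ∈ J, ∀ r, T.A j (pw hT L r) = - T.A j r := by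
  simp only [negOB, List.all_eq_true, decide_eq_true_eq, List.mem_finRange, forall_const] at h
  intro j hj r
  rw [pw_eq_foldr]
  exact h j hj r

variable {W : Twist hT K} {O : Orbs hT W.toSym} {G : Subgroup (GL D.Idx K)}
  (hE : ∀ r, T.extraB r = true) (o : Fin O.n)

include hE in
/-- The negative orbit subgroup lies in the group. -/
theorem Twist.negOrbit_le (hle : G ≤ W.fixed) (hU : W.Ufix (O.wO o) ≤ G)
    (hV : ∃ x ∈ G, x ≠ 1 ∧ x ∈ Ugrp hT K (T.ng '' rootsOf T (O.J o))) :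
    Ugrp hT K (T.ng '' rootsOf T (O.J o)) ⊓ W.fixed ≤ G := by
  obtain ⟨x, hxG, hx1, hxn⟩ := hV
  obtain ⟨m, _, hmG, hmf, hma⟩ := W.exists_rep hE O hU hxG (hle hxG) hx1 hxn
  intro y hy
  obtain ⟨hyU, hyf⟩ := Subgroup.mem_inf.1 hy
  have h1 := Subgroup.mem_map_of_mem (MulAut.conj m).toMonoidHom hyU
  rw [map_Ugrp hT hma] at h1
  have hc : m * y * m⁻¹ ∈ W.Ufix (O.wO o) := by
    refine Subgroup.mem_inf.2 ⟨Ugrp_mono hT ?_ h1, mul_mem (mul_mem hmf hyf) (inv_mem hmf)⟩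
    rintro _ ⟨_, ⟨r, hr, rfl⟩, rfl⟩
    have h := (O.negSet_wO o).symm.subset hr
    refine ⟨?_, ?_⟩
    · rw [Orbs.wO, pw_ng, pos_ng hT]; exact h.2
    · rw [O.wO_wO, pos_ng hT, not_not]; exact h.1
  have := mul_mem (mul_mem (inv_mem hmG) (hU hc)) hmG
  simpa [mul_assoc] using this

include hE in
/-- Squares of the fixed torus elements of an orbit lie in the group. -/
theorem Twist.torus_sq_mem (hle : G ≤ W.fixed) (hU : W.Ufix (O.wO o) ≤ G)
    (hV : ∃ x ∈ G, x ≠ 1 ∧ x ∈ Ugrp hT K (T.ng '' rootsOf T (O.J o)))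
    (hneg : ∀ j ∈ O.J o, ∀ r, T.A j (O.wO o r) = - T.A j r) {c : Fin D.rank → Kˣ} (hc : W.hatC c = c)
    (hsupp : ∀ j, j ∉ O.J o → c j = 1) : torus T (c * c) ∈ G := by
  set h : GL D.Idx K := torus T c with hdef
  have hhd : h ∈ D.diagonalSubgroup K := torus_mem hT c
  have hhf : h ∈ W.fixed := ⟨monomial_le_group hT (diagonal_le_monomial hT hhd), by rw [hdef, W.τ_torus, hc]⟩
  let H : Subgroup (GL D.Idx K) := G ⊓ G.comap (MulAut.conj h).toMonoidHom
  have hnorm : ∀ {S : Set (Fin D.nroots)} {y : GL D.Idx K}, y ∈ Ugrp hT K S ⊓ W.fixed →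
      h * y * h⁻¹ ∈ Ugrp hT K S ⊓ W.fixed := fun {S y} hy => Subgroup.mem_inf.2
    ⟨(Subgroup.mem_normalizer_iff.1 (diagonal_le_normalizer_Ugrp hT S hhd) y).1 (Subgroup.mem_inf.1 hy).1,
      mul_mem (mul_mem hhf (Subgroup.mem_inf.1 hy).2) (inv_mem hhf)⟩
  have hUH : W.Ufix (O.wO o) ≤ H := fun y hy => Subgroup.mem_inf.2 ⟨hU hy, hU (hnorm hy)⟩
  obtain ⟨x, hxG, hx1, hxn⟩ := hV
  have hxH : x ∈ H := Subgroup.mem_inf.2 ⟨hxG,
    W.negOrbit_le hE o hle hU ⟨x, hxG, hx1, hxn⟩ (hnorm (Subgroup.mem_inf.2 ⟨hxn, hle hxG⟩))⟩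
  obtain ⟨m, hm, hmH, -, hma⟩ := W.exists_rep hE O hUH hxH (hle hxG) hx1 hxn
  obtain ⟨hmG, hmh⟩ := Subgroup.mem_inf.1 hmH
  have hmh' : h * m * h⁻¹ ∈ G := hmh
  obtain ⟨g, hg, hgeq⟩ := exists_of_mem_diagonal hT (diagonal_normal_monomial hT hm hhd)
  have hχ : ∀ s, g (O.wO o s) = torChar T c s := by
    intro s
    obtain ⟨d, hd⟩ := hma s
    have h2 : m * h * m⁻¹ * u hT (O.wO o s) (d : K) * (m * h * m⁻¹)⁻¹ =
        u hT (O.wO o s) ((d : K) * (torChar T c s : K)) := by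
      rw [← mul_one (d : K), ← hd 1, mul_one, ← hd]
      have h3 := dg_conj_u hT (torChar_isChar hT c) s (1 : K)
      rw [mul_one] at h3
      rw [← h3, hdef, torus_apply]
      group
    rw [hgeq, dg_conj_u hT hg] at h2
    have h4 := (u_eq_u_iff hT (mul_ne_zero (g _).ne_zero d.ne_zero) h2).2
    rw [mul_comm] at h4
    exact Units.ext (mul_left_cancel₀ d.ne_zero h4)
  have hginv : g = (torChar T c)⁻¹ := by
    funext r
    rw [← O.wO_wO o r, hχ, O.wO_wO o r, Pi.inv_apply, torChar, torChar, ← Finset.prod_inv_distrib]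
    refine Finset.prod_congr rfl fun j _ => ?_
    by_cases hj : j ∈ O.J o
    · rw [hneg j hj, zpow_neg]
    · rw [hsupp j hj, one_zpow, one_zpow, inv_one]
  have key : h * m * h⁻¹ * m⁻¹ = h * h := by
    have : m * h⁻¹ * m⁻¹ = h := by
      rw [show m * h⁻¹ * m⁻¹ = (m * h * m⁻¹)⁻¹ by group, hgeq, hginv, map_inv, inv_inv, hdef, torus_apply]
    calc h * m * h⁻¹ * m⁻¹ = h * (m * h⁻¹ * m⁻¹) := by group
      _ = h * h := by rw [this]
  rw [map_mul, ← hdef, ← key]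
  exact mul_mem hmh' (inv_mem hmG)

end Tab

end CfsgLib.Lie
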