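/-
The Ree groups of type ²G₂.
-/
import Cfsg.Agent.Lib.LieIsoRoot
import Cfsg.Agent.Lib.LieTwistTorus
import Cfsg.Agent.Lib.LieTwistKer
import Cfsg.Agent.Lib.LieTwistDataG2
import Cfsg.Agent.Lib.LieIsoDataG2
import Cfsg.Agent.Lib.LieExtraG2
import Cfsg.Agent.Lib.LieTorusG2
import Cfsg.Prelude.Def_LieTwisted

set_option autoImplicit false
set_option maxHeartbeats 1000000
set_option maxRecDepth 20000

namespace CfsgLib.Lie

open Cfsg.Lie Tab

/-- A root of G₂ from its number. -/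
def rtG2 (x : ℕ) : Fin chevG2.nroots := ⟨Nat.mod x chevG2.nroots, Nat.mod_lt _ pos_G2⟩

theorem isoG2_root : tabG2.rootImgB isoG2 = true := by decide +kernel

theorem isoG2_p : isoG2.p = 3 := by decide +kernel

theorem isoG2_sym : (∀ r, twG2.rho r = isoG2.rho r) ∧ (∀ i, twG2.rhoi i = isoG2.rhoi i) := by decide +kernel

theorem G2_tab : isoG2.rho (rtG2 6) = rtG2 7 ∧ isoG2.rho (rtG2 7) = rtG2 6 ∧ isoG2.rho (rtG2 8) = rtG2 10 ∧
    isoG2.rho (rtG2 9) = rtG2 11 ∧ isoG2.rho (rtG2 10) = rtG2 8 ∧ isoG2.rho (rtG2 11) = rtG2 9 ∧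
    isoG2.rho (rtG2 4) = rtG2 5 ∧ isoG2.rho (rtG2 5) = rtG2 4 ∧ isoG2.rho (rtG2 3) = rtG2 1 ∧
    isoG2.rho (rtG2 2) = rtG2 0 ∧ isoG2.rho (rtG2 1) = rtG2 3 ∧ isoG2.rho (rtG2 0) = rtG2 2 ∧
    isoG2.exR (rtG2 7) = 3 ∧ isoG2.exR (rtG2 6) = 1 ∧ isoG2.exR (rtG2 8) = 3 ∧ isoG2.exR (rtG2 9) = 3 ∧
    isoG2.exR (rtG2 10) = 1 ∧ isoG2.exR (rtG2 11) = 1 ∧ isoG2.exR (rtG2 4) = 3 ∧ isoG2.exR (rtG2 5) = 1 ∧
    isoG2.exR (rtG2 3) = 3 ∧ isoG2.exR (rtG2 2) = 3 ∧ isoG2.exR (rtG2 1) = 1 ∧ isoG2.exR (rtG2 0) = 1 := by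
  decide +kernel

theorem G2_val : (rtG2 7).val = g2a ∧ (rtG2 6).val = g2b ∧ (rtG2 8).val = g2ab ∧ (rtG2 9).val = g2aab ∧
    (rtG2 10).val = g2aaab ∧ (rtG2 11).val = g2aaabb ∧ chevG2.neg g2a = (rtG2 4).val ∧
    chevG2.neg g2b = (rtG2 5).val ∧ chevG2.neg g2ab = (rtG2 3).val ∧ chevG2.neg g2aab = (rtG2 2).val ∧
    chevG2.neg g2aaab = (rtG2 1).val ∧ chevG2.neg g2aaabb = (rtG2 0).val := by decide +kernel

theorem G2_terms :
    chevG2.commTerms (rtG2 7).val (rtG2 6).val = [(8, -1, 1, 1), (9, 1, 2, 1), (10, 1, 3, 1), (11, 1, 3, 2)] ∧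
    chevG2.commTerms (rtG2 4).val (rtG2 5).val = [(3, 1, 1, 1), (2, 1, 2, 1), (1, -1, 3, 1), (0, 1, 3, 2)] ∧
    rtG2 6 ≠ tabG2.ng (rtG2 7) ∧ rtG2 5 ≠ tabG2.ng (rtG2 4) := by decide +kernel

theorem G2_abelian : ∀ a ∈ [rtG2 8, rtG2 9, rtG2 10, rtG2 11], ∀ b ∈ [rtG2 8, rtG2 9, rtG2 10, rtG2 11],
    (chevG2.commTerms a.val b.val).all (fun c => decide (c.2.1 % 3 = 0)) = true ∧ b ≠ tabG2.ng a := by
  decide +kernel

theorem G2_abelian' : ∀ a ∈ [rtG2 3, rtG2 2, rtG2 1, rtG2 0], ∀ b ∈ [rtG2 3, rtG2 2, rtG2 1, rtG2 0],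
    (chevG2.commTerms a.val b.val).all (fun c => decide (c.2.1 % 3 = 0)) = true ∧ b ≠ tabG2.ng a := by
  decide +kernel

theorem G2_pos : ∀ r, tabG2.posB r = decide (6 ≤ r.val) := by decide +kernel

variable {K : Type*} [Field K]

/-- Eight factors regrouped. -/
theorem regroup8 {M : Type*} [Monoid M] {c d e f c' d' e' f' : M} (hdc : Commute d c') (hec : Commute e c')
    (hfc : Commute f c') (he'c : Commute e' c') (hf'c : Commute f' c') (hed : Commute e d') (hfd : Commute f d')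
    (he'd : Commute e' d') (hf'd : Commute f' d') (hfe : Commute f e') :
    c * d * e * f * (e' * f' * c' * d') = (c * c') * (d * d') * (e * e') * (f * f') := by
  have h1 : Commute (d * e * f * e' * f') c' :=
    ((((hdc.mul_left hec).mul_left hfc).mul_left he'c).mul_left hf'c)
  have h2 : Commute (e * f * e' * f') d' := (((hed.mul_left hfd).mul_left he'd).mul_left hf'd)
  calc c * d * e * f * (e' * f' * c' * d') = c * ((d * e * f * e' * f') * c') * d' := by simp only [mul_assoc]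
    _ = c * c' * d * ((e * f * e' * f') * d') := by rw [h1.eq]; simp only [mul_assoc]
    _ = c * c' * (d * d') * (e * (f * e') * f') := by rw [h2.eq]; simp only [mul_assoc]
    _ = _ := by rw [hfe.eq]; simp only [mul_assoc]

variable [CharP K 3]

theorem G2_commute {L : List (Fin chevG2.nroots)}
    (h : ∀ a ∈ L, ∀ b ∈ L, (chevG2.commTerms a.val b.val).all (fun c => decide (c.2.1 % 3 = 0)) = true ∧ b ≠ tabG2.ng a)
    {a b : Fin chevG2.nroots} (ha : a ∈ L) (hb : b ∈ L) (x y : K) :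
    Commute (u checkedG2 a x) (u checkedG2 b y) := by
  obtain ⟨h1, h2⟩ := h a ha b hb
  have hc := comm_formula (F := K) checkedG2 G2_extra h2 x y
  have hz : ∀ l : List (ℕ × ℤ × ℕ × ℕ), l.all (fun c => decide (c.2.1 % 3 = 0)) = true → tabG2.termsMat x y l = 1 := by
    intro l hl
    induction l with
    | nil => rfl
    | cons c l ih =>
      simp only [List.all_cons, Bool.and_eq_true, decide_eq_true_eq] at hl
      unfold termsMat
      split
      · have : ((c.2.1 : ℤ) : K) = 0 := (CharP.intCast_eq_zero_iff K 3 _).2 (Int.dvd_of_emod_eq_zero hl.1)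
        rw [this, ih hl.2, zero_mul, zero_mul, X_zero checkedG2, one_mul]
      · rfl
  rw [hz _ h1, mul_one] at hc
  exact (Units.ext hc).symm

/-- The six factor word. -/
noncomputable def reeProd (a b c d e f : Fin chevG2.nroots) (s : K) (E : ℕ) (t x y : K) : GL chevG2.Idx K :=
  u checkedG2 a (s * t ^ E) * u checkedG2 b (s * t) * u checkedG2 c (s * (t ^ (E + 1) + x ^ E)) *
    u checkedG2 d (s * (t ^ (2 * E + 1) + y ^ E)) * u checkedG2 e (s * x) * u checkedG2 f (s * y)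

theorem G2_swapU (A B : K) : u checkedG2 (rtG2 6) (1 * B) * u checkedG2 (rtG2 7) (1 * A) =
    u checkedG2 (rtG2 7) (1 * A) * u checkedG2 (rtG2 6) (1 * B) * u checkedG2 (rtG2 8) (1 * (A * B)) *
      u checkedG2 (rtG2 9) (1 * (A ^ 2 * B)) * u checkedG2 (rtG2 10) (1 * -(A ^ 3 * B)) *
      u checkedG2 (rtG2 11) (1 * -(A ^ 3 * B ^ 2)) := by
  obtain ⟨h, -, hne, -⟩ := G2_terms
  apply Units.ext
  have := comm_formula (F := K) checkedG2 G2_extra hne (1 * A) (1 * B)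
  simp only [h, termsMat, dif_pos (show (8 : ℕ) < chevG2.nroots by decide +kernel),
    dif_pos (show (9 : ℕ) < chevG2.nroots by decide +kernel), dif_pos (show (10 : ℕ) < chevG2.nroots by decide +kernel),
    dif_pos (show (11 : ℕ) < chevG2.nroots by decide +kernel), mul_one, ← mul_assoc] at this
  simp only [Units.val_mul, coe_u]
  rw [this]
  congr 1 <;> [congr 1; skip] <;> [congr 1; skip; skip] <;> [congr 1; skip; skip; skip]
  all_goals first | rfl | (congr 1 <;> first | rfl | (push_cast; ring))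

theorem G2_swapV (A B : K) : u checkedG2 (rtG2 5) ((-1) * B) * u checkedG2 (rtG2 4) ((-1) * A) =
    u checkedG2 (rtG2 4) ((-1) * A) * u checkedG2 (rtG2 5) ((-1) * B) * u checkedG2 (rtG2 3) ((-1) * (A * B)) *
      u checkedG2 (rtG2 2) ((-1) * (A ^ 2 * B)) * u checkedG2 (rtG2 1) ((-1) * -(A ^ 3 * B)) *
      u checkedG2 (rtG2 0) ((-1) * -(A ^ 3 * B ^ 2)) := by
  obtain ⟨-, h, -, hne⟩ := G2_terms
  apply Units.ext
  have := comm_formula (F := K) checkedG2 G2_extra hne ((-1) * A) ((-1) * B)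
  simp only [h, termsMat, dif_pos (show (3 : ℕ) < chevG2.nroots by decide +kernel),
    dif_pos (show (2 : ℕ) < chevG2.nroots by decide +kernel), dif_pos (show (1 : ℕ) < chevG2.nroots by decide +kernel),
    dif_pos (show (0 : ℕ) < chevG2.nroots by decide +kernel), mul_one, ← mul_assoc] at this
  simp only [Units.val_mul, coe_u]
  rw [this]
  congr 1 <;> [congr 1; skip] <;> [congr 1; skip; skip] <;> [congr 1; skip; skip; skip]
  all_goals first | rfl | (congr 1 <;> first | rfl | (push_cast; ring))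

section twist

variable (θ : K ≃+* K)

/-- The twisting endomorphism of G₂. -/
noncomputable def tauG2 : GL chevG2.Idx K → GL chevG2.Idx K :=
  haveI : CharP K isoG2.p := isoG2_p ▸ ‹CharP K 3›
  (exists_rootMap checkedG2 G2_extra isoG2_ideal isoG2_span isoG2_gen isoG2_root θ).choose

theorem tauG2_spec : (∀ g ∈ chevG2.group K, tauG2 θ g ∈ chevG2.group K) ∧
    (∀ g ∈ chevG2.group K, ∀ g' ∈ chevG2.group K, tauG2 θ (g * g') = tauG2 θ g * tauG2 θ g') ∧
    ∀ r (t : K), tauG2 θ (u checkedG2 r t) = u checkedG2 (isoG2.rho r) (θ t ^ isoG2.exR r) :=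
  haveI : CharP K isoG2.p := isoG2_p ▸ ‹CharP K 3›
  (exists_rootMap checkedG2 G2_extra isoG2_ideal isoG2_span isoG2_gen isoG2_root θ).choose_spec

variable [PerfectRing K 3]

/-- The automorphisms of the field on the simple roots. -/
noncomputable def phiG2 (i : Fin chevG2.rank) : K ≃+* K :=
  if i.val = 0 then θ.trans (frobeniusEquiv K 3) else θ

theorem phiG2_spec (i : Fin chevG2.rank) (t : K) :
    phiG2 θ i t = θ t ^ isoG2.exR (tabG2.p i) ∧ phiG2 θ i t = θ t ^ isoG2.exR (tabG2.ng (tabG2.p i)) := by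
  have h : ∀ j : Fin chevG2.rank, isoG2.exR (tabG2.p j) = (if j.val = 0 then 3 else 1) ∧
      isoG2.exR (tabG2.ng (tabG2.p j)) = (if j.val = 0 then 3 else 1) := by decide +kernel
  obtain ⟨h1, h2⟩ := h i
  rw [h1, h2, phiG2]
  split_ifs <;> simp [frobeniusEquiv_def, frobenius_def]

/-- The twist. -/
noncomputable def twistOfG2 : Twist checkedG2 K where
  toSym := symOf twG2_sym
  τ := tauG2 θ
  φ := phiG2 θ
  τ_mem := (tauG2_spec θ).1
  τ_mul := (tauG2_spec θ).2.1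
  τ_p i t := by
    rw [(tauG2_spec θ).2.2, ← (phiG2_spec θ i t).1, ← (symOf twG2_sym).ρ_p i, ← isoG2_sym.1]
    rfl
  τ_n i t := by
    rw [(tauG2_spec θ).2.2, ← (phiG2_spec θ i t).2, ← (symOf twG2_sym).ρ_p i, ← (symOf twG2_sym).ρ_ng,
      ← isoG2_sym.1]
    rfl

/-- The single orbit. -/
noncomputable def orbsG2 : Orbs checkedG2 (twistOfG2 θ).toSym := orbsOf checkedG2 twG2_sym twG2_orb

theorem τG2_u (r : Fin chevG2.nroots) (t : K) :
    (twistOfG2 θ).τ (u checkedG2 r t) = u checkedG2 (isoG2.rho r) (θ t ^ isoG2.exR r) := (tauG2_spec θ).2.2 r t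

variable {E : ℕ} (hθ : ∀ x : K, θ x = x ^ E) (hE : ∀ x : K, θ (θ x) ^ 3 = x)

omit [CharP K 3] [PerfectRing K 3] in
theorem reeProd_mem (a b c d e f : Fin chevG2.nroots) (s t x y : K) :
    reeProd a b c d e f s E t x y ∈ chevG2.group K :=
  mul_mem (mul_mem (mul_mem (mul_mem (mul_mem (u_mem_group _ _ _) (u_mem_group _ _ _)) (u_mem_group _ _ _))
    (u_mem_group _ _ _)) (u_mem_group _ _ _)) (u_mem_group _ _ _)

include hθ hE in
theorem reeProd_fixed {a b c d e f : Fin chevG2.nroots} {s : K} (hs : θ s = s) (hs3 : s ^ 3 = s)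
    (hρ : isoG2.rho a = b ∧ isoG2.rho b = a ∧ isoG2.rho c = e ∧ isoG2.rho d = f ∧ isoG2.rho e = c ∧ isoG2.rho f = d)
    (hx : isoG2.exR a = 3 ∧ isoG2.exR b = 1 ∧ isoG2.exR c = 3 ∧ isoG2.exR d = 3 ∧ isoG2.exR e = 1 ∧ isoG2.exR f = 1)
    (hswap : ∀ A B : K, u checkedG2 b (s * B) * u checkedG2 a (s * A) =
      u checkedG2 a (s * A) * u checkedG2 b (s * B) * u checkedG2 c (s * (A * B)) * u checkedG2 d (s * (A ^ 2 * B)) *
        u checkedG2 e (s * -(A ^ 3 * B)) * u checkedG2 f (s * -(A ^ 3 * B ^ 2)))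
    (hab : ∀ p ∈ [c, d, e, f], ∀ q ∈ [c, d, e, f], ∀ z w : K, Commute (u checkedG2 p z) (u checkedG2 q w))
    (t x y : K) : (twistOfG2 θ).τ (reeProd a b c d e f s E t x y) = reeProd a b c d e f s E t x y := by
  obtain ⟨r1, r2, r3, r4, r5, r6⟩ := hρ
  obtain ⟨x1, x2, x3, x4, x5, x6⟩ := hx
  have hm := fun r z => u_mem_group (F := K) checkedG2 r z
  have hτ := (tauG2_spec (K := K) θ).2.1
  show tauG2 θ _ = _
  unfold reeProd
  rw [hτ _ (mul_mem (mul_mem (mul_mem (mul_mem (hm _ _) (hm _ _)) (hm _ _)) (hm _ _)) (hm _ _)) _ (hm _ _),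
    hτ _ (mul_mem (mul_mem (mul_mem (hm _ _) (hm _ _)) (hm _ _)) (hm _ _)) _ (hm _ _),
    hτ _ (mul_mem (mul_mem (hm _ _) (hm _ _)) (hm _ _)) _ (hm _ _),
    hτ _ (mul_mem (hm _ _) (hm _ _)) _ (hm _ _), hτ _ (hm _ _) _ (hm _ _)]
  simp only [(tauG2_spec θ).2.2, r1, r2, r3, r4, r5, r6, x1, x2, x3, x4, x5, x6, pow_one, map_mul, mul_pow, hs, hs3]
  have k : ∀ z : K, θ (z ^ E) ^ 3 = z := fun z => by rw [← hθ z, hE]
  have k1 : θ (t ^ E) ^ 3 = t := k t
  have k2 : θ (t ^ (E + 1) + x ^ E) ^ 3 = (t ^ E) ^ 3 * t + x := by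
    rw [map_add, add_pow_char, k, show t ^ (E + 1) = t ^ E * t from pow_succ t E, map_mul, mul_pow, k, hθ t, mul_comm]
  have k3 : θ (t ^ (2 * E + 1) + y ^ E) ^ 3 = (t ^ E) ^ 3 * t ^ 2 + y := by
    rw [map_add, add_pow_char, k, show t ^ (2 * E + 1) = (t ^ E) ^ 2 * t by rw [pow_succ, mul_comm 2 E, pow_mul],
      map_mul, mul_pow, map_pow, ← pow_mul, mul_comm 2 3, pow_mul, k, hθ t, mul_comm]
  rw [k1, k2, k3, hθ t, hθ x, hθ y, hswap (t ^ E) t]
  have hc : c ∈ [c, d, e, f] := by simp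
  have hd : d ∈ [c, d, e, f] := by simp
  have he : e ∈ [c, d, e, f] := by simp
  have hf : f ∈ [c, d, e, f] := by simp
  calc u checkedG2 a (s * t ^ E) * u checkedG2 b (s * t) * u checkedG2 c (s * (t ^ E * t)) *
        u checkedG2 d (s * ((t ^ E) ^ 2 * t)) * u checkedG2 e (s * -((t ^ E) ^ 3 * t)) *
        u checkedG2 f (s * -((t ^ E) ^ 3 * t ^ 2)) * u checkedG2 e (s * ((t ^ E) ^ 3 * t + x)) *
        u checkedG2 f (s * ((t ^ E) ^ 3 * t ^ 2 + y)) * u checkedG2 c (s * x ^ E) * u checkedG2 d (s * y ^ E)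
      = u checkedG2 a (s * t ^ E) * u checkedG2 b (s * t) *
        (u checkedG2 c (s * (t ^ E * t)) * u checkedG2 d (s * ((t ^ E) ^ 2 * t)) *
          u checkedG2 e (s * -((t ^ E) ^ 3 * t)) * u checkedG2 f (s * -((t ^ E) ^ 3 * t ^ 2)) *
          (u checkedG2 e (s * ((t ^ E) ^ 3 * t + x)) * u checkedG2 f (s * ((t ^ E) ^ 3 * t ^ 2 + y)) *
            u checkedG2 c (s * x ^ E) * u checkedG2 d (s * y ^ E))) := by simp only [mul_assoc]
    _ = u checkedG2 a (s * t ^ E) * u checkedG2 b (s * t) *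
        (u checkedG2 c (s * (t ^ (E + 1) + x ^ E)) * u checkedG2 d (s * (t ^ (2 * E + 1) + y ^ E)) *
          u checkedG2 e (s * x) * u checkedG2 f (s * y)) := by
        rw [regroup8 (hab _ hd _ hc _ _) (hab _ he _ hc _ _) (hab _ hf _ hc _ _) (hab _ he _ hc _ _) (hab _ hf _ hc _ _)
          (hab _ he _ hd _ _) (hab _ hf _ hd _ _) (hab _ he _ hd _ _) (hab _ hf _ hd _ _) (hab _ hf _ he _ _)]
        simp only [u_add, ← mul_add]
        congr 2
        · congr 1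
          · congr 1
            · congr 3; ring
            · congr 2; ring
          · congr 2; ring
        · congr 1; ring
    _ = _ := by simp only [mul_assoc]

/-- The positive word. -/
noncomputable abbrev wordU (E : ℕ) (t x y : K) : GL chevG2.Idx K :=
  reeProd (rtG2 7) (rtG2 6) (rtG2 8) (rtG2 9) (rtG2 10) (rtG2 11) 1 E t x y

/-- The negative word. -/
noncomputable abbrev wordV (E : ℕ) (t x y : K) : GL chevG2.Idx K :=
  reeProd (rtG2 4) (rtG2 5) (rtG2 3) (rtG2 2) (rtG2 1) (rtG2 0) (-1) E t x y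

include hθ hE in
theorem word_fixed (t x y : K) : wordU E t x y ∈ (twistOfG2 θ).fixed ∧ wordV E t x y ∈ (twistOfG2 θ).fixed := by
  obtain ⟨r6, r7, r8, r9, r10, r11, r4, r5, r3, r2, r1, r0, x7, x6, x8, x9, x10, x11, x4, x5, x3, x2, x1, x0⟩ := G2_tab
  exact ⟨⟨reeProd_mem _ _ _ _ _ _ _ _ _ _, reeProd_fixed θ hθ hE (map_one θ) (one_pow 3)
      ⟨r7, r6, r8, r9, r10, r11⟩ ⟨x7, x6, x8, x9, x10, x11⟩ G2_swapU
      (fun p hp q hq => G2_commute G2_abelian hp hq) t x y⟩,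
    ⟨reeProd_mem _ _ _ _ _ _ _ _ _ _, reeProd_fixed θ hθ hE (by rw [map_neg, map_one]) (by norm_num)
      ⟨r4, r5, r3, r2, r1, r0⟩ ⟨x4, x5, x3, x2, x1, x0⟩ G2_swapV
      (fun p hp q hq => G2_commute G2_abelian' hp hq) t x y⟩⟩

/-- Six values on the positive roots. -/
def crd6 (v6 v7 v8 v9 v10 v11 : K) (r : Fin chevG2.nroots) : K :=
  if r = rtG2 6 then v6 else if r = rtG2 7 then v7 else if r = rtG2 8 then v8 else if r = rtG2 9 then v9 else
    if r = rtG2 10 then v10 else v11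

omit [CharP K 3] [PerfectRing K 3] in
theorem uprod_six (f : Fin chevG2.nroots → K) :
    uprod checkedG2 (posFrom tabG2 0) f = u checkedG2 (rtG2 6) (f (rtG2 6)) * u checkedG2 (rtG2 7) (f (rtG2 7)) *
      u checkedG2 (rtG2 8) (f (rtG2 8)) * u checkedG2 (rtG2 9) (f (rtG2 9)) * u checkedG2 (rtG2 10) (f (rtG2 10)) *
      u checkedG2 (rtG2 11) (f (rtG2 11)) := by
  classical
  have hl : posFrom tabG2 0 = [rtG2 6, rtG2 7, rtG2 8, rtG2 9, rtG2 10, rtG2 11] := by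
    have h1 : posFrom tabG2 0 = (List.finRange chevG2.nroots).filter fun r => decide (6 ≤ r.val) := by
      unfold posFrom
      refine List.filter_congr fun r _ => ?_
      rw [← G2_pos r]
      by_cases hp : tabG2.Pos r
      · simp [hp, (posB_iff r).2 hp]
      · have : tabG2.posB r = false := by rw [← Bool.not_eq_true]; exact fun h => hp ((posB_iff r).1 h)
        simp [hp, this]
    rw [h1]
    decide +kernel
  rw [uprod, hl]
  simp [mul_assoc]

omit [CharP K 3] [PerfectRing K 3] in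
theorem six_inj {a b c d e f a' b' c' d' e' f' : K}
    (h : u checkedG2 (rtG2 6) a * u checkedG2 (rtG2 7) b * u checkedG2 (rtG2 8) c * u checkedG2 (rtG2 9) d *
        u checkedG2 (rtG2 10) e * u checkedG2 (rtG2 11) f =
      u checkedG2 (rtG2 6) a' * u checkedG2 (rtG2 7) b' * u checkedG2 (rtG2 8) c' * u checkedG2 (rtG2 9) d' *
        u checkedG2 (rtG2 10) e' * u checkedG2 (rtG2 11) f') :
    a = a' ∧ b = b' ∧ c = c' ∧ d = d' ∧ e = e' ∧ f = f' := by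
  have hv : ∀ v6 v7 v8 v9 v10 v11 : K, crd6 v6 v7 v8 v9 v10 v11 (rtG2 6) = v6 ∧ crd6 v6 v7 v8 v9 v10 v11 (rtG2 7) = v7 ∧
      crd6 v6 v7 v8 v9 v10 v11 (rtG2 8) = v8 ∧ crd6 v6 v7 v8 v9 v10 v11 (rtG2 9) = v9 ∧
      crd6 v6 v7 v8 v9 v10 v11 (rtG2 10) = v10 ∧ crd6 v6 v7 v8 v9 v10 v11 (rtG2 11) = v11 := by
    intros
    have hne : rtG2 7 ≠ rtG2 6 ∧ rtG2 8 ≠ rtG2 6 ∧ rtG2 8 ≠ rtG2 7 ∧ rtG2 9 ≠ rtG2 6 ∧ rtG2 9 ≠ rtG2 7 ∧
        rtG2 9 ≠ rtG2 8 ∧ rtG2 10 ≠ rtG2 6 ∧ rtG2 10 ≠ rtG2 7 ∧ rtG2 10 ≠ rtG2 8 ∧ rtG2 10 ≠ rtG2 9 ∧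
        rtG2 11 ≠ rtG2 6 ∧ rtG2 11 ≠ rtG2 7 ∧ rtG2 11 ≠ rtG2 8 ∧ rtG2 11 ≠ rtG2 9 ∧ rtG2 11 ≠ rtG2 10 := by
      decide +kernel
    simp [crd6, hne]
  obtain ⟨a1, a2, a3, a4, a5, a6⟩ := hv a b c d e f
  obtain ⟨b1, b2, b3, b4, b5, b6⟩ := hv a' b' c' d' e' f'
  have key : uprod checkedG2 (posFrom tabG2 0) (crd6 a b c d e f) =
      uprod checkedG2 (posFrom tabG2 0) (crd6 a' b' c' d' e' f') := by
    simp only [uprod_six, a1, a2, a3, a4, a5, a6, b1, b2, b3, b4, b5, b6, h]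
  have hp : ∀ r : Fin chevG2.nroots, 6 ≤ r.val → tabG2.Pos r := fun r hr =>
    (posB_iff r).1 (by rw [G2_pos]; simpa using hr)
  refine ⟨?_, ?_, ?_, ?_, ?_, ?_⟩
  · have := uprod_injective checkedG2 key (rtG2 6) (hp _ (by decide +kernel)); rwa [a1, b1] at this
  · have := uprod_injective checkedG2 key (rtG2 7) (hp _ (by decide +kernel)); rwa [a2, b2] at this
  · have := uprod_injective checkedG2 key (rtG2 8) (hp _ (by decide +kernel)); rwa [a3, b3] at this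
  · have := uprod_injective checkedG2 key (rtG2 9) (hp _ (by decide +kernel)); rwa [a4, b4] at this
  · have := uprod_injective checkedG2 key (rtG2 10) (hp _ (by decide +kernel)); rwa [a5, b5] at this
  · have := uprod_injective checkedG2 key (rtG2 11) (hp _ (by decide +kernel)); rwa [a6, b6] at this

/-- The factors in the standard order. -/
theorem reorder_six (A B c d e f : K) :
    u checkedG2 (rtG2 7) A * u checkedG2 (rtG2 6) B * u checkedG2 (rtG2 8) c * u checkedG2 (rtG2 9) d *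
        u checkedG2 (rtG2 10) e * u checkedG2 (rtG2 11) f =
      u checkedG2 (rtG2 6) B * u checkedG2 (rtG2 7) A * u checkedG2 (rtG2 8) (c - A * B) *
        u checkedG2 (rtG2 9) (d - A ^ 2 * B) * u checkedG2 (rtG2 10) (e + A ^ 3 * B) *
        u checkedG2 (rtG2 11) (f + A ^ 3 * B ^ 2) := by
  have hc : rtG2 8 ∈ [rtG2 8, rtG2 9, rtG2 10, rtG2 11] := by simp
  have hd : rtG2 9 ∈ [rtG2 8, rtG2 9, rtG2 10, rtG2 11] := by simp
  have he : rtG2 10 ∈ [rtG2 8, rtG2 9, rtG2 10, rtG2 11] := by simp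
  have hf : rtG2 11 ∈ [rtG2 8, rtG2 9, rtG2 10, rtG2 11] := by simp
  have hab := fun p hp q hq (z w : K) => G2_commute G2_abelian (a := p) (b := q) hp hq z w
  have hsw := G2_swapU A B
  simp only [one_mul] at hsw
  have h1 : Commute (u checkedG2 (rtG2 9) (A ^ 2 * B) * u checkedG2 (rtG2 10) (-(A ^ 3 * B)) *
      u checkedG2 (rtG2 11) (-(A ^ 3 * B ^ 2))) (u checkedG2 (rtG2 8) (c - A * B)) :=
    ((hab _ hd _ hc _ _).mul_left (hab _ he _ hc _ _)).mul_left (hab _ hf _ hc _ _)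
  have h2 : Commute (u checkedG2 (rtG2 10) (-(A ^ 3 * B)) * u checkedG2 (rtG2 11) (-(A ^ 3 * B ^ 2)))
      (u checkedG2 (rtG2 9) (d - A ^ 2 * B)) := (hab _ he _ hd _ _).mul_left (hab _ hf _ hd _ _)
  have h3 := hab _ hf _ he (-(A ^ 3 * B ^ 2)) (e + A ^ 3 * B)
  symm
  rw [hsw]
  calc u checkedG2 (rtG2 7) A * u checkedG2 (rtG2 6) B * u checkedG2 (rtG2 8) (A * B) *
        u checkedG2 (rtG2 9) (A ^ 2 * B) * u checkedG2 (rtG2 10) (-(A ^ 3 * B)) *
        u checkedG2 (rtG2 11) (-(A ^ 3 * B ^ 2)) * u checkedG2 (rtG2 8) (c - A * B) *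
        u checkedG2 (rtG2 9) (d - A ^ 2 * B) * u checkedG2 (rtG2 10) (e + A ^ 3 * B) *
        u checkedG2 (rtG2 11) (f + A ^ 3 * B ^ 2)
      = u checkedG2 (rtG2 7) A * u checkedG2 (rtG2 6) B * u checkedG2 (rtG2 8) (A * B) *
        ((u checkedG2 (rtG2 9) (A ^ 2 * B) * u checkedG2 (rtG2 10) (-(A ^ 3 * B)) *
          u checkedG2 (rtG2 11) (-(A ^ 3 * B ^ 2))) * u checkedG2 (rtG2 8) (c - A * B)) *
        u checkedG2 (rtG2 9) (d - A ^ 2 * B) * u checkedG2 (rtG2 10) (e + A ^ 3 * B) *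
        u checkedG2 (rtG2 11) (f + A ^ 3 * B ^ 2) := by simp only [mul_assoc]
    _ = u checkedG2 (rtG2 7) A * u checkedG2 (rtG2 6) B *
        (u checkedG2 (rtG2 8) (A * B) * u checkedG2 (rtG2 8) (c - A * B)) * u checkedG2 (rtG2 9) (A ^ 2 * B) *
        ((u checkedG2 (rtG2 10) (-(A ^ 3 * B)) * u checkedG2 (rtG2 11) (-(A ^ 3 * B ^ 2))) *
          u checkedG2 (rtG2 9) (d - A ^ 2 * B)) * u checkedG2 (rtG2 10) (e + A ^ 3 * B) *
        u checkedG2 (rtG2 11) (f + A ^ 3 * B ^ 2) := by rw [h1.eq]; simp only [mul_assoc]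
    _ = u checkedG2 (rtG2 7) A * u checkedG2 (rtG2 6) B *
        (u checkedG2 (rtG2 8) (A * B) * u checkedG2 (rtG2 8) (c - A * B)) *
        (u checkedG2 (rtG2 9) (A ^ 2 * B) * u checkedG2 (rtG2 9) (d - A ^ 2 * B)) *
        u checkedG2 (rtG2 10) (-(A ^ 3 * B)) *
        (u checkedG2 (rtG2 11) (-(A ^ 3 * B ^ 2)) * u checkedG2 (rtG2 10) (e + A ^ 3 * B)) *
        u checkedG2 (rtG2 11) (f + A ^ 3 * B ^ 2) := by rw [h2.eq]; simp only [mul_assoc]
    _ = u checkedG2 (rtG2 7) A * u checkedG2 (rtG2 6) B *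
        (u checkedG2 (rtG2 8) (A * B) * u checkedG2 (rtG2 8) (c - A * B)) *
        (u checkedG2 (rtG2 9) (A ^ 2 * B) * u checkedG2 (rtG2 9) (d - A ^ 2 * B)) *
        (u checkedG2 (rtG2 10) (-(A ^ 3 * B)) * u checkedG2 (rtG2 10) (e + A ^ 3 * B)) *
        (u checkedG2 (rtG2 11) (-(A ^ 3 * B ^ 2)) * u checkedG2 (rtG2 11) (f + A ^ 3 * B ^ 2)) := by
      rw [h3.eq]; simp only [mul_assoc]
    _ = _ := by simp only [u_add]; ring_nf

include hθ hE in
/-- The fixed elements of the positive unipotent subgroup are the words. -/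
theorem pos_fixed_words {v : GL chevG2.Idx K} (hv : v ∈ chevG2.posUnipotent K) (hf : v ∈ (twistOfG2 θ).fixed) :
    ∃ t x y : K, v = wordU E t x y := by
  obtain ⟨g, rfl⟩ := (mem_posUnipotent checkedG2 G2_extra).1 hv
  obtain ⟨r6, r7, r8, r9, r10, r11, r4, r5, r3, r2, r1, r0, x7, x6, x8, x9, x10, x11, x4, x5, x3, x2, x1, x0⟩ := G2_tab
  have hm := fun r z => u_mem_group (F := K) checkedG2 r z
  have hτ := (tauG2_spec (K := K) θ).2.1
  have e := hf.2
  change tauG2 θ _ = _ at e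
  rw [uprod_six, hτ _ (mul_mem (mul_mem (mul_mem (mul_mem (hm _ _) (hm _ _)) (hm _ _)) (hm _ _)) (hm _ _)) _ (hm _ _),
    hτ _ (mul_mem (mul_mem (mul_mem (hm _ _) (hm _ _)) (hm _ _)) (hm _ _)) _ (hm _ _),
    hτ _ (mul_mem (mul_mem (hm _ _) (hm _ _)) (hm _ _)) _ (hm _ _),
    hτ _ (mul_mem (hm _ _) (hm _ _)) _ (hm _ _), hτ _ (hm _ _) _ (hm _ _)] at e
  simp only [(tauG2_spec θ).2.2, r6, r7, r8, r9, r10, r11, x7, x6, x8, x9, x10, x11, pow_one] at e
  have hab := fun p hp q hq (z w : K) => G2_commute G2_abelian (a := p) (b := q) hp hq z w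
  have hsh : ∀ z w x y : K, u checkedG2 (rtG2 10) z * u checkedG2 (rtG2 11) w * u checkedG2 (rtG2 8) x *
      u checkedG2 (rtG2 9) y = u checkedG2 (rtG2 8) x * u checkedG2 (rtG2 9) y * u checkedG2 (rtG2 10) z *
      u checkedG2 (rtG2 11) w := by
    intro z w x y
    have h1 : Commute (u checkedG2 (rtG2 10) z * u checkedG2 (rtG2 11) w) (u checkedG2 (rtG2 8) x * u checkedG2 (rtG2 9) y) :=
      ((hab _ (by simp) _ (by simp) _ _).mul_left (hab _ (by simp) _ (by simp) _ _)).mul_right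
        ((hab _ (by simp) _ (by simp) _ _).mul_left (hab _ (by simp) _ (by simp) _ _))
    rw [mul_assoc (u checkedG2 (rtG2 10) z * _), h1.eq]
    simp only [mul_assoc]
  set f6 := g (rtG2 6)
  set f7 := g (rtG2 7)
  set f8 := g (rtG2 8)
  set f9 := g (rtG2 9)
  set f10 := g (rtG2 10)
  set f11 := g (rtG2 11)
  simp only [mul_assoc] at e
  have e' : u checkedG2 (rtG2 7) (θ f6) * u checkedG2 (rtG2 6) (θ f7 ^ 3) * u checkedG2 (rtG2 8) (θ f10) *
      u checkedG2 (rtG2 9) (θ f11) * u checkedG2 (rtG2 10) (θ f8 ^ 3) * u checkedG2 (rtG2 11) (θ f9 ^ 3) =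
      u checkedG2 (rtG2 6) f6 * u checkedG2 (rtG2 7) f7 * u checkedG2 (rtG2 8) f8 * u checkedG2 (rtG2 9) f9 *
      u checkedG2 (rtG2 10) f10 * u checkedG2 (rtG2 11) f11 := by
    have := hsh (θ f8 ^ 3) (θ f9 ^ 3) (θ f10) (θ f11)
    simp only [mul_assoc] at this ⊢
    rw [← this]
    exact e
  rw [reorder_six] at e'
  obtain ⟨c6, c7, c8, c9, c10, c11⟩ := six_inj e'
  refine ⟨f6, f10 - f7 ^ 3 * f6, f11 - f7 ^ 3 * f6 ^ 2, ?_⟩
  have k7 : θ (f7 ^ 3) = f6 := by rw [map_pow, c6]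
  have k8 : (f10 - f7 ^ 3 * f6) ^ E = f8 := by
    rw [← hθ, map_sub, map_mul, k7, ← c8, c7, c6]; ring
  have k9 : (f11 - f7 ^ 3 * f6 ^ 2) ^ E = f9 := by
    rw [← hθ, map_sub, map_mul, k7, map_pow, ← c9, c7, c6]; ring
  have k0 : f6 ^ E = f7 := by rw [← hθ, c7]
  rw [uprod_six]
  unfold wordU reeProd
  simp only [one_mul]
  rw [reorder_six, k8, k9, k0]
  congr 1
  · congr 1
    · congr 1
      · congr 1
        · congr 2; rw [pow_succ, k0]; ring
      · congr 1; rw [pow_succ, mul_comm 2 E, pow_mul, k0]; ring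
    · congr 1; ring
  · congr 1; ring

end twist

end CfsgLib.Lie
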