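/-
The Ree groups of type ²G₂ as fixed points; order, simplicity.
-/
import Cfsg.Agent.Lib.LieTwistG2

set_option autoImplicit false
set_option maxHeartbeats 1000000
set_option maxRecDepth 20000

namespace CfsgLib.Lie

open Cfsg.Lie Tab

variable {K : Type*} [Field K]

/-- The first node. -/
abbrev n0G2 : Fin chevG2.rank := frG2 0
/-- The second node. -/
abbrev n1G2 : Fin chevG2.rank := frG2 1

theorem G2_cases (i : Fin chevG2.rank) : i = n0G2 ∨ i = n1G2 := by revert i; decide +kernel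

theorem G2_rhoiInv : twG2.rhoiInv n0G2 = n1G2 ∧ twG2.rhoiInv n1G2 = n0G2 := by decide +kernel

theorem G2_neg : ∀ o : Fin twG2.n, negOB tabG2 (twG2.J o) (twG2.wl o) = true := by decide +kernel

theorem G2_allJ : ∀ o : Fin twG2.n, ∀ m, m ∈ twG2.J o := by decide +kernel

theorem G2_negs : tabG2.ng (rtG2 7) = rtG2 4 ∧ tabG2.ng (rtG2 6) = rtG2 5 ∧ tabG2.ng (rtG2 8) = rtG2 3 ∧
    tabG2.ng (rtG2 9) = rtG2 2 ∧ tabG2.ng (rtG2 10) = rtG2 1 ∧ tabG2.ng (rtG2 11) = rtG2 0 ∧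
    tabG2.p n0G2 = rtG2 7 ∧ tabG2.p n1G2 = rtG2 6 := by decide +kernel

/-- Parameters of the involution of the torus. -/
def epsTorus : Fin chevG2.rank → Kˣ := fun _ => -1

/-- A word over the prime field equal to the involution of the torus. -/
def involWordG2 : List (Fin chevG2.nroots × ℤ) :=
  [(7, 0), (6, 0), (8, 0), (9, 1), (10, 0), (11, 1), (4, 0), (5, 0), (3, 0), (2, -1), (1, 0), (0, -1),
    (7, 1), (6, 1), (8, 2), (9, 2), (10, 1), (11, 1), (4, 1), (5, 1), (3, -2), (2, 2), (1, -1), (0, 1)].map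
      fun p => (rtG2 p.1, p.2)

/-- Its diagonal entries. -/
noncomputable def involSignG2 (r : Fin chevG2.nroots) : ℤ :=
  if (tabG2.A n0G2 r + tabG2.A n1G2 r) % 2 = 0 then 1 else -1

theorem involWordG2_check : tabG2.wordModB 3 involWordG2 involSignG2 = true := by decide +kernel

theorem torChar_eps (r : Fin chevG2.nroots) :
    ((torChar tabG2 (epsTorus : Fin chevG2.rank → Kˣ) r : Kˣ) : K) = (involSignG2 r : K) := by
  have h : torChar tabG2 (epsTorus : Fin chevG2.rank → Kˣ) r = (-1 : Kˣ) ^ (tabG2.A n0G2 r + tabG2.A n1G2 r) := by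
    rw [zpow_add]
    exact Fin.prod_univ_two _
  rw [h, involSignG2]
  split_ifs with hh
  · rw [Even.neg_one_zpow (Int.even_iff.2 hh)]; simp
  · rw [Odd.neg_one_zpow (Int.odd_iff.2 (by omega))]; simp

theorem wordMat_U (E : ℕ) (t x y : K) :
    ((wordU E t x y : GL chevG2.Idx K) : Matrix chevG2.Idx chevG2.Idx K) = chevG2.wordMat K (reeWordU E t x y) := by
  obtain ⟨e7, e6, e8, e9, e10, e11, -⟩ := G2_val
  simp only [wordU, reeProd, Units.val_mul, coe_u_eq_x, one_mul, ChevalleyDatum.wordMat, reeWordU, List.map_cons,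
    List.map_nil, List.prod_cons, List.prod_nil, mul_one, e7, e6, e8, e9, e10, e11, mul_assoc]

theorem wordMat_V (E : ℕ) (t x y : K) :
    ((wordV E t x y : GL chevG2.Idx K) : Matrix chevG2.Idx chevG2.Idx K) = chevG2.wordMat K (reeWordV E t x y) := by
  obtain ⟨-, -, -, -, -, -, e4, e5, e3, e2, e1, e0⟩ := G2_val
  simp only [wordV, reeProd, Units.val_mul, coe_u_eq_x, ChevalleyDatum.wordMat, reeWordV, reeWordU,
    ChevalleyDatum.negWord, List.map_cons, List.map_nil, List.prod_cons, List.prod_nil, mul_one, e4, e5, e3, e2,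
    e1, e0, mul_assoc, neg_one_mul]
  rw [← e4, ← e5, ← e3, ← e2, ← e1, ← e0]
  rfl

theorem twistedG2_eq (E : ℕ) :
    twistedG2 K E = Subgroup.closure {g | ∃ t x y : K, g = wordU E t x y ∨ g = wordV E t x y} := by
  unfold twistedG2 ChevalleyDatum.genSubgroup
  congr 1
  ext g
  constructor
  · rintro ⟨w, ⟨t, x, y, rfl | rfl⟩, e⟩
    · exact ⟨t, x, y, Or.inl (Units.ext (e.trans (wordMat_U E t x y).symm))⟩
    · exact ⟨t, x, y, Or.inr (Units.ext (e.trans (wordMat_V E t x y).symm))⟩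
  · rintro ⟨t, x, y, rfl | rfl⟩
    · exact ⟨_, ⟨t, x, y, Or.inl rfl⟩, wordMat_U E t x y⟩
    · exact ⟨_, ⟨t, x, y, Or.inr rfl⟩, wordMat_V E t x y⟩

theorem wordU_mem (E : ℕ) (t x y : K) : wordU E t x y ∈ twistedG2 K E := by
  rw [twistedG2_eq]; exact Subgroup.subset_closure ⟨t, x, y, Or.inl rfl⟩

theorem wordV_mem (E : ℕ) (t x y : K) : wordV E t x y ∈ twistedG2 K E := by
  rw [twistedG2_eq]; exact Subgroup.subset_closure ⟨t, x, y, Or.inr rfl⟩

theorem wordV_neg (E : ℕ) (t x y : K) (o : Fin twG2.n) :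
    wordV E t x y ∈ Ugrp checkedG2 K (tabG2.ng '' rootsOf tabG2 (twG2.J o)) := by
  obtain ⟨n7, n6, n8, n9, n10, n11, -⟩ := G2_negs
  have hp : ∀ x : ℕ, tabG2.posB (rtG2 x) = true → tabG2.ng (rtG2 x) ∈ tabG2.ng '' rootsOf tabG2 (twG2.J o) :=
    fun x hx => ⟨_, ⟨(posB_iff _).1 hx, fun m hm => absurd (G2_allJ o m) hm⟩, rfl⟩
  have h7 := hp 7 (by decide +kernel)
  have h6 := hp 6 (by decide +kernel)
  have h8 := hp 8 (by decide +kernel)
  have h9 := hp 9 (by decide +kernel)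
  have h10 := hp 10 (by decide +kernel)
  have h11 := hp 11 (by decide +kernel)
  rw [n7] at h7; rw [n6] at h6; rw [n8] at h8; rw [n9] at h9; rw [n10] at h10; rw [n11] at h11
  exact mul_mem (mul_mem (mul_mem (mul_mem (mul_mem (u_mem_Ugrp _ h7 _) (u_mem_Ugrp _ h6 _)) (u_mem_Ugrp _ h8 _))
    (u_mem_Ugrp _ h9 _)) (u_mem_Ugrp _ h10 _)) (u_mem_Ugrp _ h11 _)

/-- The conditions on the automorphism of the field. -/
structure ReeParam (K : Type*) [Field K] (θ : K ≃+* K) (E : ℕ) : Prop where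
  hθ : ∀ x : K, θ x = x ^ E
  hE : ∀ x : K, θ (θ x) ^ 3 = x
  odd : Odd E

variable [CharP K 3] [PerfectRing K 3] {θ : K ≃+* K} {E : ℕ} (P : ReeParam K θ E)

theorem G2_hatC (c : Fin chevG2.rank → Kˣ) :
    (twistOfG2 θ).hatC c n0G2 = Units.map (θ : K →* K) (c n1G2) ∧
    (twistOfG2 θ).hatC c n1G2 = Units.map (θ : K →* K) (c n0G2) ^ 3 := by
  obtain ⟨h0, h1⟩ := G2_rhoiInv
  constructor
  · show Units.map (phiG2 θ (twG2.rhoiInv n0G2) : K →* K) (c (twG2.rhoiInv n0G2)) = _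
    rw [h0]
    ext
    simp [phiG2, show (n1G2 : Fin chevG2.rank).val = 1 by decide +kernel]
  · show Units.map (phiG2 θ (twG2.rhoiInv n1G2) : K →* K) (c (twG2.rhoiInv n1G2)) = _
    rw [h1]
    ext
    simp [phiG2, show (n0G2 : Fin chevG2.rank).val = 0 by decide +kernel, frobeniusEquiv_def, frobenius_def]

/-- The fixed parameter from a scalar. -/
def parG2 (θ : K ≃+* K) (a : Kˣ) : Fin chevG2.rank → Kˣ :=
  fun i => if i = n0G2 then a else Units.map (θ : K →* K) a ^ 3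

theorem parG2_val (a : Kˣ) : parG2 θ a n0G2 = a ∧ parG2 θ a n1G2 = Units.map (θ : K →* K) a ^ 3 :=
  ⟨if_pos rfl, if_neg (by decide +kernel)⟩

include P in
theorem parG2_fixed (a : Kˣ) : (twistOfG2 θ).hatC (parG2 θ a) = parG2 θ a := by
  funext i
  rcases G2_cases i with rfl | rfl
  · rw [(G2_hatC _).1, (parG2_val a).1, (parG2_val a).2]
    ext
    simp [P.hE]
  · rw [(G2_hatC _).2, (parG2_val a).1, (parG2_val a).2]

theorem eq_parG2 {c : Fin chevG2.rank → Kˣ} (hc : (twistOfG2 θ).hatC c = c) : c = parG2 θ (c n0G2) := by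
  funext i
  rcases G2_cases i with rfl | rfl
  · rw [(parG2_val _).1]
  · rw [(parG2_val _).2, ← (G2_hatC c).2, hc]

theorem G2_torus_ker {w : Fin chevG2.rank → Kˣ} (hw : w ∈ (torus (F := K) tabG2).ker) : w = 1 := by
  have h := (mem_ker_torus checkedG2).1 hw
  have e0 : w n0G2 ^ tabG2.A n0G2 (tabG2.p n0G2) * w n1G2 ^ tabG2.A n1G2 (tabG2.p n0G2) = 1 :=
    (Fin.prod_univ_two (fun j => w j ^ tabG2.A j (tabG2.p n0G2))).symm.trans (h n0G2)
  have e1 : w n0G2 ^ tabG2.A n0G2 (tabG2.p n1G2) * w n1G2 ^ tabG2.A n1G2 (tabG2.p n1G2) = 1 :=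
    (Fin.prod_univ_two (fun j => w j ^ tabG2.A j (tabG2.p n1G2))).symm.trans (h n1G2)
  obtain ⟨a0, a1, a2, a3⟩ : tabG2.A n0G2 (tabG2.p n0G2) = 2 ∧ tabG2.A n1G2 (tabG2.p n0G2) = -1 ∧
      tabG2.A n0G2 (tabG2.p n1G2) = -3 ∧ tabG2.A n1G2 (tabG2.p n1G2) = 2 := by decide +kernel
  rw [a0, a1, zpow_neg_one, mul_inv_eq_one] at e0
  rw [a2, a3, ← e0, ← zpow_mul, ← zpow_add, show (-3 : ℤ) + 2 * 2 = 1 from rfl, zpow_one] at e1
  funext i
  rcases G2_cases i with rfl | rfl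
  · exact e1
  · rw [← e0, e1, one_zpow]; rfl

/-- The orbit. -/
noncomputable abbrev oG2 (θ : K ≃+* K) : Fin (orbsG2 θ).n := ⟨0, Nat.one_pos⟩

theorem G2_allO (o : Fin (orbsG2 θ).n) (m : Fin chevG2.rank) : m ∈ (orbsG2 θ).J o := G2_allJ o m

theorem G2_negO (o : Fin (orbsG2 θ).n) :
    ∀ j ∈ (orbsG2 θ).J o, ∀ r, tabG2.A j ((orbsG2 θ).wO o r) = - tabG2.A j r :=
  fun j hj r => negOB_sound (G2_neg o) j hj r

theorem wordV_negO (E : ℕ) (t x y : K) (o : Fin (orbsG2 θ).n) :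
    wordV E t x y ∈ Ugrp checkedG2 K (tabG2.ng '' rootsOf tabG2 ((orbsG2 θ).J o)) := wordV_neg E t x y o

theorem Ufix_wO (o : Fin (orbsG2 θ).n) :
    (twistOfG2 θ).Ufix ((orbsG2 θ).wO o) = chevG2.posUnipotent K ⊓ (twistOfG2 θ).fixed := by
  have : negSet tabG2 ((orbsG2 θ).wO o) = {r | tabG2.Pos r} := by
    rw [(orbsG2 θ).negSet_wO]
    ext r
    exact ⟨fun h => h.1, fun h => ⟨h, fun m hm => absurd (G2_allO o m) hm⟩⟩
  rw [Twist.Ufix, this, posUnipotent_eq checkedG2]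

include P in
theorem pos_fixed_le : chevG2.posUnipotent K ⊓ (twistOfG2 θ).fixed ≤ twistedG2 K E := by
  intro v hv
  obtain ⟨hv1, hv2⟩ := Subgroup.mem_inf.1 hv
  obtain ⟨t, x, y, rfl⟩ := pos_fixed_words θ P.hθ P.hE hv1 hv2
  exact wordU_mem E t x y

include P in
theorem le_fixedG2 : twistedG2 K E ≤ (twistOfG2 θ).fixed := by
  rw [twistedG2_eq, Subgroup.closure_le]
  rintro g ⟨t, x, y, rfl | rfl⟩
  · exact (word_fixed θ P.hθ P.hE t x y).1
  · exact (word_fixed θ P.hθ P.hE t x y).2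

include P in
theorem hV_G2 (o : Fin (orbsG2 θ).n) :
    ∃ x ∈ twistedG2 K E, x ≠ 1 ∧ x ∈ Ugrp checkedG2 K (tabG2.ng '' rootsOf tabG2 ((orbsG2 θ).J o)) := by
  refine ⟨wordV E 0 0 1, wordV_mem E _ _ _, fun h => ?_, wordV_negO E _ _ _ o⟩
  have hE0 : E ≠ 0 := P.odd.pos.ne'
  simp only [wordV, reeProd, zero_pow hE0, zero_pow (Nat.succ_ne_zero E), zero_pow (Nat.succ_ne_zero (2 * E)),
    one_pow, mul_zero, add_zero, zero_add, u_zero, mul_one, one_mul] at h
  have := u_eq_u_iff checkedG2 (neg_ne_zero.2 (one_ne_zero (α := K)))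
    ((eq_inv_of_mul_eq_one_left h).trans (u_neg checkedG2 (rtG2 0) (-1 : K)).symm)
  exact absurd this.1 (by decide +kernel)

include P in
theorem hH_G2 [Fintype K] (h3 : Fintype.card K % 4 = 3) {c : Fin chevG2.rank → Kˣ}
    (hc : (twistOfG2 θ).hatC c = c) : torus tabG2 c ∈ twistedG2 K E := by
  classical
  have hsq : ∀ a : Kˣ, torus tabG2 (parG2 θ a * parG2 θ a) ∈ twistedG2 K E := fun a => by
    exact (twistOfG2 θ).torus_sq_mem (O := orbsG2 θ) G2_extra (oG2 θ) (le_fixedG2 P)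
      ((Ufix_wO (oG2 θ)).le.trans (pos_fixed_le P)) (hV_G2 P (oG2 θ)) (G2_negO (oG2 θ)) (parG2_fixed P a)
      (fun j hj => absurd (G2_allO (oG2 θ) j) hj)
  have heps : torus tabG2 (epsTorus : Fin chevG2.rank → Kˣ) ∈ twistedG2 K E := by
    have he := wordMod_eq_dg checkedG2 (K := K) involWordG2_check (torChar_eps (K := K))
    rw [torus_apply, ← he]
    have hw : (involWordG2.map fun x => u checkedG2 x.1 (x.2 : K)).prod =
        wordU E 0 0 1 * wordV E 0 0 1 * wordU E 1 1 1 * wordV E (-1) 1 (-1) := by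
      have hE0 : E ≠ 0 := P.odd.pos.ne'
      have h1 : ((-1 : K)) ^ (E + 1) = 1 := (P.odd.add_one).neg_one_pow
      have h2 : ((-1 : K)) ^ (2 * E + 1) = -1 := (odd_two_mul_add_one E).neg_one_pow
      simp only [involWordG2, List.map_cons, List.map_nil, List.prod_cons, List.prod_nil, mul_one, wordU, wordV,
        reeProd, zero_pow hE0, zero_pow (Nat.succ_ne_zero E), zero_pow (Nat.succ_ne_zero (2 * E)), one_pow,
        P.odd.neg_one_pow, h1, h2]
      push_cast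
      simp [mul_assoc, one_add_one_eq_two]
    rw [hw]
    exact mul_mem (mul_mem (mul_mem (wordU_mem _ _ _ _) (wordV_mem _ _ _ _)) (wordU_mem _ _ _ _)) (wordV_mem _ _ _ _)
  rw [eq_parG2 hc]
  set a := c n0G2
  by_cases ha : IsSquare (a : K)
  · obtain ⟨b, hb⟩ := ha
    have hb0 : b ≠ 0 := fun h => a.ne_zero (by rw [hb, h, mul_zero])
    have : parG2 θ a = parG2 θ (Units.mk0 b hb0) * parG2 θ (Units.mk0 b hb0) := by
      have e : a = Units.mk0 b hb0 * Units.mk0 b hb0 := Units.ext hb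
      funext i
      rw [Pi.mul_apply]
      rcases G2_cases i with rfl | rfl
      · rw [(parG2_val _).1, (parG2_val _).1]; exact e
      · rw [(parG2_val _).2, (parG2_val _).2, ← mul_pow, ← map_mul, ← e]
    rw [this]
    exact hsq _
  · have hneg : ¬ IsSquare (-1 : K) := by
      rw [FiniteField.isSquare_neg_one_iff]; omega
    have hprod : IsSquare (-(a : K)) := by
      have hF : ringChar K ≠ 2 := by rw [ringChar.eq K 3]; norm_num
      rw [FiniteField.isSquare_iff hF (neg_ne_zero.2 a.ne_zero)]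
      have e1 := (FiniteField.pow_dichotomy hF a.ne_zero).resolve_left (fun e => ha ((FiniteField.isSquare_iff hF a.ne_zero).2 e))
      have e2 := (FiniteField.pow_dichotomy hF (neg_ne_zero.2 (one_ne_zero (α := K)))).resolve_left
        (fun e => hneg ((FiniteField.isSquare_iff hF (neg_ne_zero.2 one_ne_zero)).2 e))
      rw [neg_pow, e1, e2, neg_mul_neg, one_mul]
    obtain ⟨b, hb⟩ := hprod
    have hb0 : b ≠ 0 := fun h => a.ne_zero (by rw [h, mul_zero, neg_eq_zero] at hb; exact hb)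
    have e : a = -1 * (Units.mk0 b hb0 * Units.mk0 b hb0) := Units.ext (by simp [← hb])
    have : parG2 θ a = epsTorus * (parG2 θ (Units.mk0 b hb0) * parG2 θ (Units.mk0 b hb0)) := by
      funext i
      rw [Pi.mul_apply, Pi.mul_apply]
      rcases G2_cases i with rfl | rfl
      · rw [(parG2_val _).1, (parG2_val _).1]; exact e
      · rw [(parG2_val _).2, (parG2_val _).2, ← mul_pow, ← map_mul, e, map_mul, mul_pow]
        congr 1
        ext
        simp [epsTorus, Odd.neg_one_pow (show Odd 3 by decide)]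
    rw [this, map_mul]
    exact mul_mem heps (hsq _)

theorem card_fixC_ker : Nat.card ↥((twistOfG2 θ).fixC ⊓ (torus (F := K) tabG2).ker) = 1 := by
  rw [Subgroup.card_eq_one, eq_bot_iff]
  intro w hw
  exact Subgroup.mem_bot.2 (G2_torus_ker (Subgroup.mem_inf.1 hw).2)

include P in
theorem genG2 [Fintype K] (h3 : Fintype.card K % 4 = 3) :
    (twistOfG2 θ).Gen (orbsG2 θ) (twistedG2 K E) where
  hE := G2_extra
  le := le_fixedG2 P
  hU o := (Ufix_wO o).le.trans (pos_fixed_le P)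
  hV o := hV_G2 P o
  hH h hh hf := by
    rw [diagonal_eq checkedG2] at hh
    obtain ⟨c, rfl⟩ := hh
    rw [Twist.τ_torus] at hf
    have hw : c⁻¹ * (twistOfG2 θ).hatC c ∈ (torus (F := K) tabG2).ker := by
      rw [MonoidHom.mem_ker, map_mul, map_inv, hf, inv_mul_cancel]
    exact hH_G2 P h3 (inv_mul_eq_one.1 (G2_torus_ker hw)).symm
  hreg o := by
    have h1 : wordU E 1 0 0 ∈ (twistOfG2 θ).Ufix ((orbsG2 θ).wO o) := by
      rw [Ufix_wO]
      refine Subgroup.mem_inf.2 ⟨?_, (word_fixed θ P.hθ P.hE 1 0 0).1⟩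
      rw [posUnipotent_eq checkedG2]
      have hp : ∀ x : ℕ, tabG2.posB (rtG2 x) = true → rtG2 x ∈ {r | tabG2.Pos r} := fun x hx => (posB_iff _).1 hx
      exact mul_mem (mul_mem (mul_mem (mul_mem (mul_mem (u_mem_Ugrp _ (hp 7 (by decide +kernel)) _)
        (u_mem_Ugrp _ (hp 6 (by decide +kernel)) _)) (u_mem_Ugrp _ (hp 8 (by decide +kernel)) _))
        (u_mem_Ugrp _ (hp 9 (by decide +kernel)) _)) (u_mem_Ugrp _ (hp 10 (by decide +kernel)) _))
        (u_mem_Ugrp _ (hp 11 (by decide +kernel)) _)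
    obtain ⟨f, hf⟩ := (mem_posUnipotent checkedG2 G2_extra).1 ((twistOfG2 θ).Ufix_le_pos _ h1)
    refine ⟨f, hf ▸ h1, fun j _ => ?_⟩
    have e := hf
    rw [uprod_six] at e
    unfold wordU reeProd at e
    rw [reorder_six] at e
    obtain ⟨c6, c7, -⟩ := six_inj e
    obtain ⟨-, -, -, -, -, -, p0, p1⟩ := G2_negs
    rcases G2_cases j with rfl | rfl
    · rw [p0, ← c7]; simp
    · rw [p1, ← c6]; simp

include P in
theorem card_pos_fixed [Fintype K] :
    Nat.card ↥(chevG2.posUnipotent K ⊓ (twistOfG2 θ).fixed) = Fintype.card K ^ 3 := by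
  have hp : ∀ x : K × K × K, wordU E x.1 x.2.1 x.2.2 ∈ chevG2.posUnipotent K ⊓ (twistOfG2 θ).fixed := fun x => by
    refine Subgroup.mem_inf.2 ⟨?_, (word_fixed θ P.hθ P.hE _ _ _).1⟩
    rw [posUnipotent_eq checkedG2]
    have hp : ∀ x : ℕ, tabG2.posB (rtG2 x) = true → rtG2 x ∈ {r | tabG2.Pos r} := fun x hx => (posB_iff _).1 hx
    exact mul_mem (mul_mem (mul_mem (mul_mem (mul_mem (u_mem_Ugrp _ (hp 7 (by decide +kernel)) _)
      (u_mem_Ugrp _ (hp 6 (by decide +kernel)) _)) (u_mem_Ugrp _ (hp 8 (by decide +kernel)) _))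
      (u_mem_Ugrp _ (hp 9 (by decide +kernel)) _)) (u_mem_Ugrp _ (hp 10 (by decide +kernel)) _))
      (u_mem_Ugrp _ (hp 11 (by decide +kernel)) _)
  have hb : Function.Bijective fun x : K × K × K =>
      (⟨wordU E x.1 x.2.1 x.2.2, hp x⟩ : ↥(chevG2.posUnipotent K ⊓ (twistOfG2 θ).fixed)) := by
    refine ⟨fun a b h => ?_, fun v => ?_⟩
    · have e : wordU E a.1 a.2.1 a.2.2 = wordU E b.1 b.2.1 b.2.2 := Subtype.ext_iff.1 h
      unfold wordU reeProd at e
      simp only [reorder_six, one_mul] at e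
      obtain ⟨c6, c7, c8, c9, c10, c11⟩ := six_inj e
      rw [c6] at c10 c11
      exact Prod.ext c6 (Prod.ext (add_right_cancel c10) (add_right_cancel c11))
    · obtain ⟨hv1, hv2⟩ := Subgroup.mem_inf.1 v.2
      obtain ⟨t, x, y, e⟩ := pos_fixed_words θ P.hθ P.hE hv1 hv2
      exact ⟨(t, x, y), Subtype.ext e.symm⟩
  rw [← Nat.card_eq_of_bijective _ hb, Nat.card_prod, Nat.card_prod, Nat.card_eq_fintype_card]
  ring

include P in
theorem G2_card_diag [Fintype K] (h3 : Fintype.card K % 4 = 3) :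
    Nat.card ↥(chevG2.diagonalSubgroup K ⊓ twistedG2 K E) = Fintype.card K - 1 := by
  have h := (twistOfG2 θ).card_diag (genG2 P h3) fun w hw c hc => by
    refine ⟨1, one_mem _, ?_⟩
    rw [mul_one, hc, G2_torus_ker hw, mul_one]
  rw [card_fixC_ker, one_mul] at h
  rw [h, ← card_units_eq]
  exact Nat.card_congr
    { toFun := fun c => c.1 n0G2
      invFun := fun a => ⟨parG2 θ a, parG2_fixed P a⟩
      left_inv := fun c => Subtype.ext (eq_parG2 c.2).symm
      right_inv := fun a => (parG2_val (θ := θ) a).1 }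

theorem G2_WF : (orbsG2 θ).WF.card = 2 :=
  card_WF checkedG2 pos_G2 (by decide +kernel) (h := twG2_sym) (ho := twG2_orb) twG2_cert

include P in
theorem G2_card [Fintype K] (h3 : Fintype.card K % 4 = 3) :
    Nat.card ↥(twistedG2 K E) = Fintype.card K ^ 3 * (Fintype.card K - 1) * (Fintype.card K ^ 3 + 1) := by
  classical
  have hG := genG2 P h3
  rw [hG.card_group, hG.card_borel, hG.pos_inf, card_pos_fixed P, G2_card_diag P h3]
  congr 1
  set O := orbsG2 θ
  set w := O.wO (oG2 θ)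
  have hw : w ≠ 1 := by
    intro h
    have h1 : negSet tabG2 w = ∅ := by rw [h]; ext r; simp [negSet]
    rw [O.negSet_wO] at h1
    exact (h1.le ⟨(posB_iff (rtG2 6)).1 (by decide +kernel), fun m hm => absurd (G2_allO (oG2 θ) m) hm⟩ :)
  have hWF : O.WF = {1, w} := by
    refine (Finset.eq_of_subset_of_card_le ?_ ?_).symm
    · intro x hx
      rcases Finset.mem_insert.1 hx with rfl | hx
      · exact O.one_mem_WF
      · rw [Finset.mem_singleton.1 hx]; exact O.wO_mem _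
    · rw [G2_WF, Finset.card_pair (Ne.symm hw)]
  rw [hWF, Finset.sum_pair (Ne.symm hw), Ufix_wO, card_pos_fixed P]
  have h1 : (twistOfG2 θ).Ufix 1 = ⊥ := by
    rw [eq_bot_iff]
    intro v hv
    have h0 : negSet tabG2 (1 : Equiv.Perm (Fin chevG2.nroots)) = ∅ := by ext r; simp [negSet]
    have h2 := (Subgroup.mem_inf.1 hv).1
    rw [h0] at h2
    exact (Ugrp_le checkedG2 (K := ⊥) (fun r hr => absurd hr id) h2)
  rw [h1, Subgroup.card_bot, add_comm]

include P in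
theorem G2_perfect [Fintype K] (h3 : Fintype.card K % 4 = 3) (hE3 : 3 ≤ E) (hq : Fintype.card K = 3 * E * E) :
    commutator ↥(twistedG2 K E) = ⊤ := by
  classical
  have hG := genG2 P h3
  refine hG.perfect (fun o => ?_) fun H hU hV => ?_
  · obtain ⟨a, ha⟩ := IsCyclic.exists_generator (α := Kˣ)
    have hord : orderOf a = Fintype.card K - 1 := by
      rw [orderOf_eq_card_of_forall_mem_zpowers ha, card_units_eq]
    refine hG.derived_of_torus (f := torChar tabG2 (parG2 θ a)) (hH_G2 P h3 (parG2_fixed P a))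
      (torus_mem checkedG2 _) (torChar_isChar checkedG2 _) fun r hr h => ?_
    have hval : torChar tabG2 (parG2 θ a) r = a ^ (tabG2.A n0G2 r + 3 * (E : ℤ) * tabG2.A n1G2 r) := by
      have hp : torChar tabG2 (parG2 θ a) r =
          parG2 θ a n0G2 ^ tabG2.A n0G2 r * parG2 θ a n1G2 ^ tabG2.A n1G2 r := Fin.prod_univ_two _
      have hm : Units.map (θ : K →* K) a ^ 3 = a ^ ((3 : ℤ) * E) := by
        rw [show (3 : ℤ) * E = ((E * 3 : ℕ) : ℤ) by push_cast; ring, zpow_natCast, pow_mul]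
        congr 1
        exact Units.ext (by simp [P.hθ])
      rw [hp, (parG2_val a).1, (parG2_val a).2, hm, ← zpow_mul, ← zpow_add]
    rw [hval, ← orderOf_dvd_iff_zpow_eq_one, hord, hq] at h
    have hA : ∀ r : Fin chevG2.nroots, tabG2.posB r = true → (tabG2.A n0G2 r, tabG2.A n1G2 r) ∈
        [((2 : ℤ), (-1 : ℤ)), (-3, 2), (-1, 1), (1, 0), (3, -1), (0, 1)] := by decide +kernel
    have h9 : (9 : ℤ) ≤ 3 * E := by omega
    have hEE : 3 * (E : ℤ) * 3 ≤ 3 * E * E := by nlinarith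
    have hm := hA r ((posB_iff r).2 hr.1)
    rw [Nat.cast_sub (by nlinarith : 1 ≤ 3 * E * E)] at h
    push_cast at h
    simp only [List.mem_cons, List.not_mem_nil, or_false, Prod.mk.injEq] at hm
    have hlt : ∀ N : ℤ, N ≠ 0 → |N| < 3 * E * E - 1 → ¬ (3 * (E : ℤ) * E - 1 ∣ N) := fun N h0 hlt hd =>
      h0 (Int.eq_zero_of_abs_lt_dvd hd hlt)
    rcases hm with ⟨e0, e1⟩ | ⟨e0, e1⟩ | ⟨e0, e1⟩ | ⟨e0, e1⟩ | ⟨e0, e1⟩ | ⟨e0, e1⟩ <;> rw [e0, e1] at h <;>
      refine hlt _ (by omega) (abs_lt.2 ⟨by nlinarith, by nlinarith⟩) h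
  · rw [twistedG2_eq, Subgroup.closure_le]
    rintro g ⟨t, x, y, rfl | rfl⟩
    · refine hU (oG2 θ) ?_
      rw [Ufix_wO]
      refine Subgroup.mem_inf.2 ⟨?_, (word_fixed θ P.hθ P.hE _ _ _).1⟩
      rw [posUnipotent_eq checkedG2]
      have hp : ∀ x : ℕ, tabG2.posB (rtG2 x) = true → rtG2 x ∈ {r | tabG2.Pos r} := fun x hx => (posB_iff _).1 hx
      exact mul_mem (mul_mem (mul_mem (mul_mem (mul_mem (u_mem_Ugrp _ (hp 7 (by decide +kernel)) _)
        (u_mem_Ugrp _ (hp 6 (by decide +kernel)) _)) (u_mem_Ugrp _ (hp 8 (by decide +kernel)) _))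
        (u_mem_Ugrp _ (hp 9 (by decide +kernel)) _)) (u_mem_Ugrp _ (hp 10 (by decide +kernel)) _))
        (u_mem_Ugrp _ (hp 11 (by decide +kernel)) _)
    · exact hV (oG2 θ) (Subgroup.mem_inf.2 ⟨wordV_negO E t x y (oG2 θ), (word_fixed θ P.hθ P.hE t x y).2⟩)

omit [CharP K 3] [PerfectRing K 3] in
/-- The parameters of the groups. -/
theorem ree_setup [Fintype K] {m : ℕ} (hK : Fintype.card K = 3 ^ (2 * m + 1)) :
    ∃ (_ : CharP K 3) (_ : PerfectRing K 3) (θ : K ≃+* K), ReeParam K θ (3 ^ m) ∧ Fintype.card K % 4 = 3 := by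
  haveI : Fact (Nat.Prime 3) := ⟨Nat.prime_three⟩
  haveI hc : CharP K 3 := charP_of_card_eq_prime_pow hK
  haveI : ExpChar K 3 := ExpChar.prime Nat.prime_three
  haveI hp : PerfectRing K 3 := PerfectRing.ofFiniteOfIsReduced 3 K
  refine ⟨hc, hp, iterateFrobeniusEquiv K 3 m, ⟨fun x => iterateFrobeniusEquiv_def K 3 m x, fun x => ?_,
    Odd.pow (by decide)⟩, ?_⟩
  · rw [iterateFrobeniusEquiv_def, iterateFrobeniusEquiv_def, ← pow_mul, ← pow_mul,
      show 3 ^ m * (3 ^ m * 3) = Fintype.card K by rw [hK]; ring, FiniteField.pow_card]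
  · rw [hK, pow_succ, pow_mul, Nat.mul_mod, Nat.pow_mod]
    norm_num

end CfsgLib.Lie
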