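/-
Torus, centralisers and Sylow 3-subgroups of the Ree groups of type ²G₂.
-/
import Cfsg.Agent.Lib.LieTwistG2Gen

set_option autoImplicit false
set_option maxHeartbeats 1000000
set_option maxRecDepth 20000

namespace CfsgLib.Lie

open Cfsg.Lie Tab

variable {K : Type*} [Field K] [CharP K 3] [PerfectRing K 3] {θ : K ≃+* K} {E : ℕ} (P : ReeParam K θ E)

/-- The positive word in the standard order. -/
noncomputable def std6 (v : K × K × K × K × K × K) : GL chevG2.Idx K :=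
  u checkedG2 (rtG2 6) v.1 * u checkedG2 (rtG2 7) v.2.1 * u checkedG2 (rtG2 8) v.2.2.1 *
    u checkedG2 (rtG2 9) v.2.2.2.1 * u checkedG2 (rtG2 10) v.2.2.2.2.1 * u checkedG2 (rtG2 11) v.2.2.2.2.2

omit [CharP K 3] [PerfectRing K 3] in
theorem std6_inj {v w : K × K × K × K × K × K} (h : std6 v = std6 w) : v = w := by
  obtain ⟨a, b, c, d, e, f⟩ := six_inj h
  obtain ⟨v1, v2, v3, v4, v5, v6⟩ := v
  obtain ⟨w1, w2, w3, w4, w5, w6⟩ := w
  simp_all

theorem wordU_std (E : ℕ) (t x y : K) : wordU E t x y =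
    std6 (t, t ^ E, x ^ E, y ^ E, x + (t ^ E) ^ 3 * t, y + (t ^ E) ^ 3 * t ^ 2) := by
  unfold wordU reeProd std6
  rw [reorder_six]
  simp only [one_mul]
  congr 4 <;> ring

theorem G2_move : (∀ c a : K, ∃ d, u checkedG2 (rtG2 8) c * u checkedG2 (rtG2 7) a =
      u checkedG2 (rtG2 7) a * u checkedG2 (rtG2 8) c * u checkedG2 (rtG2 9) d) ∧
    ∀ e b : K, u checkedG2 (rtG2 10) e * u checkedG2 (rtG2 6) b =
      u checkedG2 (rtG2 6) b * u checkedG2 (rtG2 10) e * u checkedG2 (rtG2 11) (-b * e) := by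
  obtain ⟨h1, h2, n1, n2⟩ : chevG2.commTerms (rtG2 7).val (rtG2 8).val = [(9, -2, 1, 1), (10, -3, 2, 1), (11, 3, 1, 2)] ∧
      chevG2.commTerms (rtG2 6).val (rtG2 10).val = [(11, 1, 1, 1)] ∧
      rtG2 8 ≠ tabG2.ng (rtG2 7) ∧ rtG2 10 ≠ tabG2.ng (rtG2 6) := by decide +kernel
  have h3 : ((3 : ℤ) : K) = 0 := (CharP.intCast_eq_zero_iff K 3 _).2 dvd_rfl
  have h3' : ((-3 : ℤ) : K) = 0 := by rw [Int.cast_neg, h3, neg_zero]
  refine ⟨fun c a => ⟨((-2 : ℤ) : K) * -a * c, Units.ext ?_⟩, fun e b => Units.ext ?_⟩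
  · have := comm_formula (F := K) checkedG2 G2_extra n1 a c
    simp only [h1, termsMat, dif_pos (show (9 : ℕ) < chevG2.nroots by decide +kernel),
      dif_pos (show (10 : ℕ) < chevG2.nroots by decide +kernel),
      dif_pos (show (11 : ℕ) < chevG2.nroots by decide +kernel), h3, h3', zero_mul, X_zero checkedG2, mul_one,
      pow_one] at this
    simp only [Units.val_mul, coe_u]
    exact this
  · have := comm_formula (F := K) checkedG2 G2_extra n2 b e
    simp only [h2, termsMat, dif_pos (show (11 : ℕ) < chevG2.nroots by decide +kernel), mul_one, pow_one,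
      Int.cast_one, one_mul] at this
    simp only [Units.val_mul, coe_u]
    exact this

theorem G2_comm67 : (∀ b x : K, Commute (u checkedG2 (rtG2 8) x) (u checkedG2 (rtG2 6) b)) ∧
    (∀ b x : K, Commute (u checkedG2 (rtG2 9) x) (u checkedG2 (rtG2 6) b)) ∧
    (∀ b x : K, Commute (u checkedG2 (rtG2 11) x) (u checkedG2 (rtG2 6) b)) ∧
    (∀ b x : K, Commute (u checkedG2 (rtG2 9) x) (u checkedG2 (rtG2 7) b)) ∧
    (∀ b x : K, Commute (u checkedG2 (rtG2 10) x) (u checkedG2 (rtG2 7) b)) ∧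
    ∀ b x : K, Commute (u checkedG2 (rtG2 11) x) (u checkedG2 (rtG2 7) b) := by
  have hc : ∀ a ∈ [rtG2 6], ∀ b ∈ [rtG2 8, rtG2 9, rtG2 11],
      (chevG2.commTerms a.val b.val).all (fun c => decide (c.2.1 % 3 = 0)) = true ∧ b ≠ tabG2.ng a := by
    decide +kernel
  have hd : ∀ a ∈ [rtG2 7], ∀ b ∈ [rtG2 9, rtG2 10, rtG2 11],
      (chevG2.commTerms a.val b.val).all (fun c => decide (c.2.1 % 3 = 0)) = true ∧ b ≠ tabG2.ng a := by
    decide +kernel
  have key : ∀ (a b : Fin chevG2.nroots), ((chevG2.commTerms a.val b.val).all (fun c => decide (c.2.1 % 3 = 0)) = true ∧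
      b ≠ tabG2.ng a) → ∀ x y : K, Commute (u checkedG2 b y) (u checkedG2 a x) := by
    rintro a b ⟨h1, h2⟩ x y
    have hc := comm_formula (F := K) checkedG2 G2_extra h2 x y
    have hz : ∀ l : List (ℕ × ℤ × ℕ × ℕ), l.all (fun c => decide (c.2.1 % 3 = 0)) = true → tabG2.termsMat x y l = 1 := by
      intro l hl
      induction l with
      | nil => rfl
      | cons c l ih =>
        simp only [List.all_cons, Bool.and_eq_true, decide_eq_true_eq] at hl
        unfold termsMat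
        split
        · have : ((c.2.1 : ℤ) : K) = 0 := (CharP.intCast_eq_zero_iff K 3 _).2 (Int.dvd_of_emod_eq_zero hl.1)
          rw [this, ih hl.2, zero_mul, zero_mul, X_zero checkedG2, one_mul]
        · rfl
    rw [hz _ h1, mul_one] at hc
    exact Units.ext hc
  exact ⟨fun b x => key _ _ (hc _ (by simp) _ (by simp)) b x, fun b x => key _ _ (hc _ (by simp) _ (by simp)) b x,
    fun b x => key _ _ (hc _ (by simp) _ (by simp)) b x, fun b x => key _ _ (hd _ (by simp) _ (by simp)) b x,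
    fun b x => key _ _ (hd _ (by simp) _ (by simp)) b x, fun b x => key _ _ (hd _ (by simp) _ (by simp)) b x⟩

theorem std6_mul (b a c d e f b' a' c' d' e' f' : K) : ∃ D, std6 (b, a, c, d, e, f) * std6 (b', a', c', d', e', f') =
    std6 (b + b', a + a', c - a * b' + c', D, e + a ^ 3 * b' + e', f + -b' * e + a ^ 3 * b' ^ 2 + f') := by
  obtain ⟨m87, m106⟩ := G2_move (K := K)
  obtain ⟨c86, c96, c116, c97, c107, c117⟩ := G2_comm67 (K := K)
  have hab := fun p hp q hq (z w : K) => G2_commute (K := K) G2_abelian (a := p) (b := q) hp hq z w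
  have hc : rtG2 8 ∈ [rtG2 8, rtG2 9, rtG2 10, rtG2 11] := by simp
  have hd : rtG2 9 ∈ [rtG2 8, rtG2 9, rtG2 10, rtG2 11] := by simp
  have he : rtG2 10 ∈ [rtG2 8, rtG2 9, rtG2 10, rtG2 11] := by simp
  have hf : rtG2 11 ∈ [rtG2 8, rtG2 9, rtG2 10, rtG2 11] := by simp
  obtain ⟨z, hz⟩ := m87 (c - a * b') a'
  refine ⟨z + (d - a ^ 2 * b') + d', ?_⟩
  simp only [std6]
  set U6 := u (F := K) checkedG2 (rtG2 6)
  set U7 := u (F := K) checkedG2 (rtG2 7)
  set U8 := u (F := K) checkedG2 (rtG2 8)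
  set U9 := u (F := K) checkedG2 (rtG2 9)
  set U10 := u (F := K) checkedG2 (rtG2 10)
  set U11 := u (F := K) checkedG2 (rtG2 11)
  have s1 : U8 c * U9 d * U10 e * U11 f * U6 b' = U6 b' * U8 c * U9 d * U10 e * U11 (f + -b' * e) := by
    calc U8 c * U9 d * U10 e * U11 f * U6 b' = U8 c * U9 d * (U10 e * (U11 f * U6 b')) := by simp only [mul_assoc]
      _ = U8 c * U9 d * (U10 e * U6 b') * U11 f := by rw [(c116 b' f).eq]; simp only [mul_assoc]
      _ = U8 c * (U9 d * U6 b') * U10 e * U11 (-b' * e) * U11 f := by rw [m106]; simp only [mul_assoc]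
      _ = U8 c * U6 b' * U9 d * U10 e * (U11 (-b' * e) * U11 f) := by rw [(c96 b' d).eq]; simp only [mul_assoc]
      _ = _ := by rw [(c86 b' c).eq, u_add, add_comm (-b' * e)]
  have s2 : ∀ C D E' F : K, U6 b * U7 a * U6 b' * U8 C * U9 D * U10 E' * U11 F =
      U6 (b + b') * U7 a * U8 (C - a * b') * U9 (D - a ^ 2 * b') * U10 (E' + a ^ 3 * b') * U11 (F + a ^ 3 * b' ^ 2) := by
    intro C D E' F
    calc U6 b * U7 a * U6 b' * U8 C * U9 D * U10 E' * U11 F
        = U6 b * (U7 a * U6 b' * U8 C * U9 D * U10 E' * U11 F) := by simp only [mul_assoc]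
      _ = U6 b * (U6 b' * U7 a * U8 (C - a * b') * U9 (D - a ^ 2 * b') * U10 (E' + a ^ 3 * b') *
            U11 (F + a ^ 3 * b' ^ 2)) := by rw [reorder_six]
      _ = _ := by
        rw [show U6 (b + b') = U6 b * U6 b' from (u_add checkedG2 (rtG2 6) b b').symm]
        simp only [mul_assoc]
  calc U6 b * U7 a * U8 c * U9 d * U10 e * U11 f * (U6 b' * U7 a' * U8 c' * U9 d' * U10 e' * U11 f')
      = U6 b * U7 a * (U8 c * U9 d * U10 e * U11 f * U6 b') * (U7 a' * U8 c' * U9 d' * U10 e' * U11 f') := by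
        simp only [mul_assoc]
    _ = (U6 b * U7 a * U6 b' * U8 c * U9 d * U10 e * U11 (f + -b' * e)) * (U7 a' * U8 c' * U9 d' * U10 e' * U11 f') := by
        rw [s1]; simp only [mul_assoc]
    _ = U6 (b + b') * U7 a * U8 (c - a * b') * U9 (d - a ^ 2 * b') * (U10 (e + a ^ 3 * b') *
          (U11 (f + -b' * e + a ^ 3 * b' ^ 2) * U7 a')) * (U8 c' * U9 d' * U10 e' * U11 f') := by
        rw [s2]; simp only [mul_assoc]
    _ = U6 (b + b') * U7 a * U8 (c - a * b') * (U9 (d - a ^ 2 * b') * (U10 (e + a ^ 3 * b') * U7 a')) *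
          U11 (f + -b' * e + a ^ 3 * b' ^ 2) * (U8 c' * U9 d' * U10 e' * U11 f') := by
        rw [(c117 a' _).eq]; simp only [mul_assoc]
    _ = U6 (b + b') * U7 a * (U8 (c - a * b') * U7 a') * U9 (d - a ^ 2 * b') * U10 (e + a ^ 3 * b') *
          U11 (f + -b' * e + a ^ 3 * b' ^ 2) * (U8 c' * U9 d' * U10 e' * U11 f') := by
        rw [(c107 a' _).eq, ← mul_assoc (U9 _) (U7 a'), (c97 a' _).eq]; simp only [mul_assoc]
    _ = U6 (b + b') * (U7 a * U7 a') * (U8 (c - a * b') * (U9 z * U9 (d - a ^ 2 * b')) * U10 (e + a ^ 3 * b') *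
          U11 (f + -b' * e + a ^ 3 * b' ^ 2) * (U8 c' * U9 d' * U10 e' * U11 f')) := by
        rw [hz]; simp only [mul_assoc]
    _ = _ := by
        have r := regroup8 (c := U8 (c - a * b')) (d := U9 (z + (d - a ^ 2 * b'))) (e := U10 (e + a ^ 3 * b'))
          (f := U11 (f + -b' * e + a ^ 3 * b' ^ 2)) (c' := U8 c') (d' := U9 d') (e' := U10 e') (f' := U11 f')
          (hab _ hd _ hc _ _) (hab _ he _ hc _ _) (hab _ hf _ hc _ _) (hab _ he _ hc _ _) (hab _ hf _ hc _ _)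
          (hab _ he _ hd _ _) (hab _ hf _ hd _ _) (hab _ he _ hd _ _) (hab _ hf _ hd _ _) (hab _ hf _ he _ _)
        have q : U8 c' * U9 d' * U10 e' * U11 f' = U10 e' * U11 f' * U8 c' * U9 d' := by
          have h1 : Commute (U8 c' * U9 d') (U10 e' * U11 f') :=
            ((hab _ hc _ he _ _).mul_right (hab _ hc _ hf _ _)).mul_left
              ((hab _ hd _ he _ _).mul_right (hab _ hd _ hf _ _))
          calc U8 c' * U9 d' * U10 e' * U11 f' = (U8 c' * U9 d') * (U10 e' * U11 f') := by simp only [mul_assoc]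
            _ = _ := by rw [h1.eq]; simp only [mul_assoc]
        rw [u_add checkedG2 (rtG2 9) z, q, r]
        simp only [U7, U8, U9, U10, U11, u_add, mul_assoc]

include P in
theorem G2_fix_coords {v : GL chevG2.Idx K} (hv : v ∈ chevG2.posUnipotent K ⊓ twistedG2 K E) :
    ∃ t x y, v = wordU E t x y := by
  obtain ⟨h1, h2⟩ := Subgroup.mem_inf.1 hv
  exact pos_fixed_words θ P.hθ P.hE h1 (le_fixedG2 P h2)

include P in
theorem wordU_pos (t x y : K) : wordU E t x y ∈ chevG2.posUnipotent K ⊓ twistedG2 K E := by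
  refine Subgroup.mem_inf.2 ⟨?_, wordU_mem E t x y⟩
  rw [posUnipotent_eq checkedG2]
  have hp : ∀ x : ℕ, tabG2.posB (rtG2 x) = true → rtG2 x ∈ {r | tabG2.Pos r} := fun x hx => (posB_iff _).1 hx
  exact mul_mem (mul_mem (mul_mem (mul_mem (mul_mem (u_mem_Ugrp _ (hp 7 (by decide +kernel)) _)
    (u_mem_Ugrp _ (hp 6 (by decide +kernel)) _)) (u_mem_Ugrp _ (hp 8 (by decide +kernel)) _))
    (u_mem_Ugrp _ (hp 9 (by decide +kernel)) _)) (u_mem_Ugrp _ (hp 10 (by decide +kernel)) _))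
    (u_mem_Ugrp _ (hp 11 (by decide +kernel)) _)

include P in
theorem G2_cube (t x y : K) : wordU E t x y ^ 3 = 1 ↔ t = 0 := by
  have hE0 : E ≠ 0 := P.odd.pos.ne'
  have h3 : (3 : K) = 0 := by exact_mod_cast CharP.cast_eq_zero K 3
  constructor
  · intro h
    rw [wordU_std] at h
    obtain ⟨D, hD⟩ := std6_mul t (t ^ E) (x ^ E) (y ^ E) (x + (t ^ E) ^ 3 * t) (y + (t ^ E) ^ 3 * t ^ 2)
      t (t ^ E) (x ^ E) (y ^ E) (x + (t ^ E) ^ 3 * t) (y + (t ^ E) ^ 3 * t ^ 2)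
    rw [pow_succ, pow_two, hD] at h
    obtain ⟨D', hD'⟩ := std6_mul (t + t) (t ^ E + t ^ E) (x ^ E - t ^ E * t + x ^ E) D
      (x + (t ^ E) ^ 3 * t + (t ^ E) ^ 3 * t + (x + (t ^ E) ^ 3 * t))
      (y + (t ^ E) ^ 3 * t ^ 2 + -t * (x + (t ^ E) ^ 3 * t) + (t ^ E) ^ 3 * t ^ 2 + (y + (t ^ E) ^ 3 * t ^ 2))
      t (t ^ E) (x ^ E) (y ^ E) (x + (t ^ E) ^ 3 * t) (y + (t ^ E) ^ 3 * t ^ 2)
    rw [hD', show (1 : GL chevG2.Idx K) = std6 (0, 0, 0, 0, 0, 0) by simp [std6, u_zero]] at h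
    have h5 := congrArg (fun v : K × K × K × K × K × K => v.2.2.2.2.2) (std6_inj h)
    have h6 : (t ^ E) ^ 3 * t ^ 2 = 0 := by
      simp only at h5
      linear_combination -h5 + (3 * ((t ^ E) ^ 3 * t ^ 2) + y - t * x) * h3
    by_contra ht
    exact mul_ne_zero (pow_ne_zero _ (pow_ne_zero _ ht)) (pow_ne_zero _ ht) h6
  · rintro rfl
    have e : wordU E 0 x y = u checkedG2 (rtG2 8) (x ^ E) * u checkedG2 (rtG2 9) (y ^ E) * u checkedG2 (rtG2 10) x *
        u checkedG2 (rtG2 11) y := by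
      rw [wordU_std]
      simp [std6, zero_pow hE0, u_zero]
    have hc : rtG2 8 ∈ [rtG2 8, rtG2 9, rtG2 10, rtG2 11] := by simp
    have hd : rtG2 9 ∈ [rtG2 8, rtG2 9, rtG2 10, rtG2 11] := by simp
    have he : rtG2 10 ∈ [rtG2 8, rtG2 9, rtG2 10, rtG2 11] := by simp
    have hf : rtG2 11 ∈ [rtG2 8, rtG2 9, rtG2 10, rtG2 11] := by simp
    have hab := fun p hp q hq (z w : K) => G2_commute (K := K) G2_abelian (a := p) (b := q) hp hq z w
    have hu : ∀ (r : Fin chevG2.nroots) (z : K), u checkedG2 r z ^ 3 = 1 := fun r z => by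
      rw [pow_succ, pow_two, u_add, u_add, show z + z + z = 0 by linear_combination z * h3, u_zero]
    rw [e, Commute.mul_pow (((hab _ hc _ hf _ _).mul_left (hab _ hd _ hf _ _)).mul_left (hab _ he _ hf _ _)),
      Commute.mul_pow ((hab _ hc _ he _ _).mul_left (hab _ hd _ he _ _)), Commute.mul_pow (hab _ hc _ hd _ _),
      hu, hu, hu, hu, one_mul, one_mul, one_mul]

/-- The parametrisation of the torus. -/
noncomputable def torG2 (θ : K ≃+* K) : Kˣ →* GL chevG2.Idx K :=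
  (torus (F := K) tabG2).comp
    { toFun := parG2 θ
      map_one' := by funext i; simp [parG2]
      map_mul' := fun a b => by
        funext i
        simp only [Pi.mul_apply, parG2]
        split_ifs <;> simp [mul_pow] }

include P in
theorem torG2_mem [Fintype K] (h3 : Fintype.card K % 4 = 3) (a : Kˣ) :
    torG2 θ a ∈ chevG2.diagonalSubgroup K ⊓ twistedG2 K E :=
  Subgroup.mem_inf.2 ⟨torus_mem checkedG2 _, hH_G2 P h3 (parG2_fixed P a)⟩

include P in
theorem torG2_surj {h : GL chevG2.Idx K} (hh : h ∈ chevG2.diagonalSubgroup K ⊓ twistedG2 K E) :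
    ∃ a, h = torG2 θ a := by
  obtain ⟨hd, hg⟩ := Subgroup.mem_inf.1 hh
  rw [diagonal_eq checkedG2] at hd
  obtain ⟨c, rfl⟩ := hd
  have hf := (le_fixedG2 P hg).2
  rw [Twist.τ_torus] at hf
  have hw : c⁻¹ * (twistOfG2 θ).hatC c ∈ (torus (F := K) tabG2).ker := by
    rw [MonoidHom.mem_ker, map_mul, map_inv, hf, inv_mul_cancel]
  exact ⟨c n0G2, congrArg (torus tabG2) (eq_parG2 (inv_mul_eq_one.1 (G2_torus_ker hw)).symm)⟩

theorem torG2_inj : Function.Injective (torG2 (K := K) θ) := by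
  refine (injective_iff_map_eq_one _).2 fun a ha => ?_
  have h := congrFun (G2_torus_ker (w := parG2 θ a) (MonoidHom.mem_ker.2 ha)) n0G2
  rwa [(parG2_val (θ := θ) a).1] at h

include P in
theorem G2_torus_conj (a : Kˣ) : ∃ f : Fin chevG2.nroots → Kˣ,
    (∀ r z, torG2 θ a * u checkedG2 r z * (torG2 θ a)⁻¹ = u checkedG2 r ((f r : K) * z)) ∧
    f (rtG2 6) = a ^ (-3 + 6 * (E : ℤ)) ∧ f (rtG2 8) = a ^ (-1 + 3 * (E : ℤ)) ∧
    f (rtG2 10) = a ^ (3 - 3 * (E : ℤ)) ∧ f (rtG2 11) = a ^ (3 * (E : ℤ)) := by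
  refine ⟨torChar tabG2 (parG2 θ a), fun r z => dg_conj_u checkedG2 (torChar_isChar checkedG2 _) r z, ?_⟩
  have hm : Units.map (θ : K →* K) a ^ 3 = a ^ ((3 : ℤ) * E) := by
    rw [show (3 : ℤ) * E = ((E * 3 : ℕ) : ℤ) by push_cast; ring, zpow_natCast, pow_mul]
    congr 1
    exact Units.ext (by simp [P.hθ])
  have hval : ∀ r, torChar tabG2 (parG2 θ a) r = a ^ (tabG2.A n0G2 r + 3 * (E : ℤ) * tabG2.A n1G2 r) := fun r => by
    have hp : torChar tabG2 (parG2 θ a) r =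
        parG2 θ a n0G2 ^ tabG2.A n0G2 r * parG2 θ a n1G2 ^ tabG2.A n1G2 r := Fin.prod_univ_two _
    rw [hp, (parG2_val a).1, (parG2_val a).2, hm, ← zpow_mul, ← zpow_add]
  obtain ⟨a6, b6, a8, b8, a10, b10, a11, b11⟩ :
      tabG2.A n0G2 (rtG2 6) = -3 ∧ tabG2.A n1G2 (rtG2 6) = 2 ∧ tabG2.A n0G2 (rtG2 8) = -1 ∧
      tabG2.A n1G2 (rtG2 8) = 1 ∧ tabG2.A n0G2 (rtG2 10) = 3 ∧ tabG2.A n1G2 (rtG2 10) = -1 ∧
      tabG2.A n0G2 (rtG2 11) = 0 ∧ tabG2.A n1G2 (rtG2 11) = 1 := by decide +kernel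
  simp only [hval, a6, b6, a8, b8, a10, b10, a11, b11]
  refine ⟨?_, ?_, ?_, ?_⟩ <;> (congr 1; ring)

theorem arith_orders {o E : ℤ} (hd : o ∣ 3 * E * E - 1) :
    (o ∣ -3 + 6 * E → o ∣ 1) ∧ (o ∣ 3 * E → o ∣ 1) ∧ (o ∣ 3 - 3 * E → o ∣ 2) := by
  refine ⟨fun h => ?_, fun h => ?_, fun h => ?_⟩
  · have h1 : o ∣ 3 := by
      have := (dvd_mul_of_dvd_left h (6 * E + 3)).sub (hd.mul_left 12)
      rwa [show (-3 + 6 * E) * (6 * E + 3) - 12 * (3 * E * E - 1) = 3 by ring] at this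
    have := (dvd_mul_of_dvd_left h1 (E * E)).sub hd
    rwa [show 3 * (E * E) - (3 * E * E - 1) = 1 by ring] at this
  · have := (dvd_mul_of_dvd_left h E).sub hd
    rwa [show 3 * E * E - (3 * E * E - 1) = 1 by ring] at this
  · have h1 : o ∣ 6 := by
      have := (dvd_mul_of_dvd_left h (3 + 3 * E)).add (hd.mul_left 3)
      rwa [show (3 - 3 * E) * (3 + 3 * E) + 3 * (3 * E * E - 1) = 6 by ring] at this
    have := (dvd_mul_of_dvd_left h1 (E * E)).sub (hd.mul_left 2)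
    rwa [show 6 * (E * E) - 2 * (3 * E * E - 1) = 2 by ring] at this

include P in
theorem G2_centralized [Fintype K] (hq : Fintype.card K = 3 * E * E) {a : Kˣ} (ha : a ^ 2 ≠ 1) {v : GL chevG2.Idx K}
    (hv : v ∈ chevG2.posUnipotent K ⊓ twistedG2 K E) (hc : torG2 θ a * v = v * torG2 θ a) : v = 1 := by
  classical
  obtain ⟨t, x, y, rfl⟩ := G2_fix_coords P hv
  obtain ⟨f, hf, f6, -, f10, f11⟩ := G2_torus_conj P a
  have hE0 : E ≠ 0 := P.odd.pos.ne'
  have hd : (orderOf a : ℤ) ∣ 3 * (E : ℤ) * E - 1 := by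
    have h := orderOf_dvd_natCard a
    rw [card_units_eq, hq] at h
    have h1 : 1 ≤ 3 * E * E := by rw [← hq]; exact Fintype.card_pos
    have := Int.natCast_dvd_natCast.2 h
    rwa [Nat.cast_sub h1, Nat.cast_mul, Nat.cast_mul, Nat.cast_ofNat, Nat.cast_one] at this
  obtain ⟨d6, d11, d10⟩ := arith_orders hd
  have hne2 : ¬ (orderOf a : ℤ) ∣ 2 := fun h => ha (orderOf_dvd_iff_pow_eq_one.1 (by exact_mod_cast h))
  have n6 : (f (rtG2 6) : K) ≠ 1 := fun h => hne2 ((d6 (orderOf_dvd_iff_zpow_eq_one.2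
    (Units.ext (by rw [← f6]; exact h)))).trans (one_dvd 2))
  have n11 : (f (rtG2 11) : K) ≠ 1 := fun h => hne2 ((d11 (orderOf_dvd_iff_zpow_eq_one.2
    (Units.ext (by rw [← f11]; exact h)))).trans (one_dvd 2))
  have n10 : (f (rtG2 10) : K) ≠ 1 := fun h => hne2 (d10 (orderOf_dvd_iff_zpow_eq_one.2
    (Units.ext (by rw [← f10]; exact h))))
  have e : torG2 θ a * wordU E t x y * (torG2 θ a)⁻¹ = wordU E t x y := by rw [hc, mul_inv_cancel_right]
  rw [wordU_std] at e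
  have e' : torG2 θ a * std6 (t, t ^ E, x ^ E, y ^ E, x + (t ^ E) ^ 3 * t, y + (t ^ E) ^ 3 * t ^ 2) * (torG2 θ a)⁻¹ =
      std6 (f (rtG2 6) * t, f (rtG2 7) * t ^ E, f (rtG2 8) * x ^ E, f (rtG2 9) * y ^ E,
        f (rtG2 10) * (x + (t ^ E) ^ 3 * t), f (rtG2 11) * (y + (t ^ E) ^ 3 * t ^ 2)) := by
    simp only [std6, ← hf]
    group
  rw [e'] at e
  have h := std6_inj e
  simp only [Prod.mk.injEq] at h
  obtain ⟨h6, -, -, -, h10, h11⟩ := h
  have ht : t = 0 := by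
    rcases mul_left_eq_self₀.1 h6 with h | h
    · exact absurd h n6
    · exact h
  subst ht
  simp only [zero_pow hE0, zero_pow (three_ne_zero), zero_mul, add_zero] at h10 h11
  rw [mul_left_eq_self₀, or_iff_right n10] at h10
  rw [mul_left_eq_self₀, or_iff_right n11] at h11
  subst h10 h11
  rw [wordU_std]
  simp [std6, zero_pow hE0, u_zero]

include P in
theorem G2_involution_centralizes :
    torG2 θ (-1) * wordU E 0 1 0 = wordU E 0 1 0 * torG2 θ (-1) ∧ wordU E (0 : K) 1 0 ≠ 1 := by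
  obtain ⟨f, hf, -, f8, f10, -⟩ := G2_torus_conj P (-1)
  have hE0 : E ≠ 0 := P.odd.pos.ne'
  obtain ⟨k, hk⟩ := P.odd
  have e : wordU E (0 : K) 1 0 = u checkedG2 (rtG2 8) 1 * u checkedG2 (rtG2 10) 1 := by
    rw [wordU_std]
    simp [std6, zero_pow hE0, u_zero]
  have g8 : f (rtG2 8) = 1 := by
    rw [f8, hk]; exact Even.neg_one_zpow ⟨3 * (k : ℤ) + 1, by push_cast; ring⟩
  have g10 : f (rtG2 10) = 1 := by
    rw [f10, hk]; exact Even.neg_one_zpow ⟨-(3 * (k : ℤ)), by push_cast; ring⟩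
  refine ⟨?_, fun h => ?_⟩
  · rw [← mul_inv_eq_iff_eq_mul, e]
    calc torG2 θ (-1) * (u checkedG2 (rtG2 8) (1 : K) * u checkedG2 (rtG2 10) 1) * (torG2 θ (-1))⁻¹
        = (torG2 θ (-1) * u checkedG2 (rtG2 8) 1 * (torG2 θ (-1))⁻¹) *
          (torG2 θ (-1) * u checkedG2 (rtG2 10) 1 * (torG2 θ (-1))⁻¹) := by group
      _ = _ := by rw [hf, hf, g8, g10, Units.val_one, one_mul]
  · rw [wordU_std, show (1 : GL chevG2.Idx K) = std6 (0, 0, 0, 0, 0, 0) by simp [std6, u_zero]] at h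
    have := congrArg (fun v : K × K × K × K × K × K => v.2.2.1) (std6_inj h)
    simp at this

include P in
theorem G2_cell [Fintype K] (h3 : Fintype.card K % 4 = 3) {h : GL chevG2.Idx K} (hh : h ∈ twistedG2 K E)
    (hB : h ∉ chevG2.borelSubgroup K) :
    ∃ v ∈ chevG2.posUnipotent K ⊓ twistedG2 K E, ∃ m ∈ chevG2.monomialSubgroup K,
      Acts checkedG2 m ((orbsG2 θ).wO (oG2 θ)) ∧ m ∈ twistedG2 K E ∧
      ∃ c ∈ chevG2.posUnipotent K ⊓ twistedG2 K E, h = v * m * c := by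
  classical
  have hG := genG2 P h3
  obtain ⟨v, hv, m, hm, L, c, hc, hma, _, hvf, hmf, hcf, rfl⟩ := (twistOfG2 θ).fixed_decomp hG.hE (hG.le hh)
  have hcp : c ∈ chevG2.posUnipotent K := by
    rw [posUnipotent_eq checkedG2]; exact Ugrp_mono checkedG2 (fun r hr => hr.1) hc
  obtain ⟨hWF, hmG⟩ := hG.mem_of_fixed_monomial hm ⟨monomial_le_group checkedG2 hm, hmf⟩ hma
  have hvG : v ∈ twistedG2 K E := hG.mem_iff.2 ⟨borel_le_group checkedG2 (Subgroup.mem_sup_left hv), hvf⟩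
  have hcG : c ∈ twistedG2 K E := hG.mem_iff.2 ⟨borel_le_group checkedG2 (Subgroup.mem_sup_left hcp), hcf⟩
  rcases (orbsG2 θ).eq_wO_of_supp hWF (o := oG2 θ)
    (fun r hr => ⟨hr.1, fun i hi => absurd (G2_allO (oG2 θ) i) hi⟩) with e | e
  · refine absurd (mul_mem (mul_mem (Subgroup.mem_sup_left hv) (Subgroup.mem_sup_right ?_))
      (Subgroup.mem_sup_left hcp)) hB
    exact (toPerm_eq_one_iff checkedG2 ⟨m, hm⟩).1 (toPerm_eq checkedG2 (e ▸ hma))
  · exact ⟨v, Subgroup.mem_inf.2 ⟨hv, hvG⟩, m, hm, e ▸ hma, hmG, c, Subgroup.mem_inf.2 ⟨hcp, hcG⟩, rfl⟩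

theorem G2_conj_neg {m u : GL chevG2.Idx K} (hma : Acts checkedG2 m ((orbsG2 θ).wO (oG2 θ)))
    (hu : u ∈ chevG2.posUnipotent K) : m * u * m⁻¹ ∈ chevG2.negUnipotent K := by
  refine conj_negSet checkedG2 hma ?_
  rw [(orbsG2 θ).negSet_wO]
  rw [posUnipotent_eq checkedG2] at hu
  refine Ugrp_mono checkedG2 ?_ hu
  intro r hr
  exact ⟨hr, fun i hi => absurd (G2_allO (oG2 θ) i) hi⟩

/-- Elements of the Borel subgroup kept there by the long element are diagonal. -/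
theorem G2_opp {m s : GL chevG2.Idx K} (hm : m ∈ chevG2.monomialSubgroup K)
    (hma : Acts checkedG2 m ((orbsG2 θ).wO (oG2 θ))) (hs : s ∈ chevG2.borelSubgroup K)
    (hs' : m * s * m⁻¹ ∈ chevG2.borelSubgroup K) : s ∈ chevG2.diagonalSubgroup K := by
  obtain ⟨u, hu, d, hd, rfl⟩ := (mem_borel checkedG2).1 hs
  have hmd : m * d * m⁻¹ ∈ chevG2.diagonalSubgroup K := diagonal_normal_monomial checkedG2 hm hd
  have h1 : m * u * m⁻¹ ∈ chevG2.borelSubgroup K := by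
    have := mul_mem hs' (inv_mem (Subgroup.mem_sup_right hmd : m * d * m⁻¹ ∈ chevG2.borelSubgroup K))
    rwa [show m * (u * d) * m⁻¹ * (m * d * m⁻¹)⁻¹ = m * u * m⁻¹ by group] at this
  have h2 := (borel_inf_neg (F := K) checkedG2).le (Subgroup.mem_inf.2 ⟨h1, G2_conj_neg hma hu⟩)
  rw [Subgroup.mem_bot, mul_inv_eq_one, mul_eq_left] at h2
  rw [h2, one_mul]
  exact hd

include P in
theorem G2_TI [Fintype K] (h3 : Fintype.card K % 4 = 3) {h x : GL chevG2.Idx K} (hh : h ∈ twistedG2 K E)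
    (hB : h ∉ chevG2.borelSubgroup K) (hx : x ∈ chevG2.posUnipotent K ⊓ twistedG2 K E)
    (hx' : h * x * h⁻¹ ∈ chevG2.posUnipotent K) : x = 1 := by
  obtain ⟨v, hv, m, hm, hma, hmG, c, hc, rfl⟩ := G2_cell P h3 hh hB
  have h1 : c * x * c⁻¹ ∈ chevG2.posUnipotent K :=
    mul_mem (mul_mem (Subgroup.mem_inf.1 hc).1 (Subgroup.mem_inf.1 hx).1) (inv_mem (Subgroup.mem_inf.1 hc).1)
  have h2 := pos_neg_trivial checkedG2 (mul_mem (mul_mem (inv_mem (Subgroup.mem_inf.1 hv).1) hx')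
    (Subgroup.mem_inf.1 hv).1)
  have e : v⁻¹ * (v * m * c * x * (v * m * c)⁻¹) * v = m * (c * x * c⁻¹) * m⁻¹ := by group
  rw [e] at h2
  have h4 := h2 (G2_conj_neg hma h1)
  rw [mul_inv_eq_one, mul_eq_left, mul_inv_eq_one, mul_eq_left] at h4
  exact h4

end CfsgLib.Lie
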