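import Cfsg.Agent.Lib.LocalPReducedParabolic

/-!
`p`-closed and `p`-irreducible groups.
-/

set_option autoImplicit false

namespace CfsgLib.Local.PIrr

open Subgroup
open CfsgLib.Local.PRed
open scoped commutatorElement Pointwise

variable {G : Type*} [Group G] {p : ℕ}

theorem isPClosed_iff [Finite G] [Fact p.Prime] :
    Cfsg.IsPClosed p G ↔ ∀ S : Subgroup G, IsPGroup p ↥S → S ≤ Cfsg.pCore p G := by
  constructor
  · intro h S hS
    obtain ⟨P, hP⟩ := hS.exists_le_sylow
    exact hP.trans (CfsgLib.Local.le_pCore' (h P) P.isPGroup')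
  · intro h P
    have he : (P : Subgroup G) = Cfsg.pCore p G :=
      le_antisymm (h _ P.isPGroup') (CfsgLib.Local.pCore_le_sylow' P)
    rw [he]
    exact CfsgLib.Local.pCore_normal' p

theorem isPClosed_of_isPGroup_le [Finite G] [Fact p.Prime] {N : Subgroup G}
    (h : ∀ S ≤ N, IsPGroup p ↥S → S ≤ Cfsg.pCore p G) : Cfsg.IsPClosed p ↥N := by
  refine isPClosed_iff.mpr fun S hS => ?_
  have h1 := h (S.map N.subtype) (Subgroup.map_subtype_le _) (hS.map _)
  haveI : ((Cfsg.pCore p G).subgroupOf N).Normal :=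
    haveI := CfsgLib.Local.pCore_normal' (G := G) p
    Subgroup.normal_subgroupOf
  refine le_trans (fun x hx => ?_) (CfsgLib.Local.le_pCore'
    (N := (Cfsg.pCore p G).subgroupOf N) inferInstance
    (isPGroup_subgroupOf (CfsgLib.Local.pCore_isPGroup' p)))
  exact Subgroup.mem_subgroupOf.mpr (h1 ⟨x, hx, rfl⟩)

theorem le_pCore_of_isPClosed [Finite G] [Fact p.Prime] {N : Subgroup G} (hN : N.Normal)
    (h : Cfsg.IsPClosed p ↥N) {S : Subgroup G} (hS : IsPGroup p ↥S) (hSN : S ≤ N) :
    S ≤ Cfsg.pCore p G := by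
  have h1 := isPClosed_iff.mp h (S.subgroupOf N) (isPGroup_subgroupOf hS)
  rw [← Subgroup.map_subgroupOf_eq_of_le hSN]
  exact (Subgroup.map_mono h1).trans (CfsgLib.Core.pCore_map_subtype_le hN)

theorem sup_pResidual [Finite G] [Fact p.Prime] (T : Sylow p G) :
    (T : Subgroup G) ⊔ Cfsg.pResidual p G = ⊤ := CfsgLib.Local.sylow_sup_pResidual T

theorem pResidual_le [Finite G] [Fact p.Prime] {N : Subgroup G} (hN : N.Normal)
    {S : Subgroup G} (hS : IsPGroup p ↥S) (hSN : S ⊔ N = ⊤) : Cfsg.pResidual p G ≤ N := by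
  refine (Subgroup.closure_le _).mpr fun x hx => ?_
  have hmod : PMod p (S ⊔ N) N := by
    refine pMod_sup (fun y hy => ?_) (by rw [Subgroup.normalizer_eq_top]; exact le_top)
    obtain ⟨k, hk⟩ := hS ⟨y, hy⟩
    have hk' : y ^ p ^ k = 1 := by simpa using congrArg Subtype.val hk
    exact ⟨k, by rw [hk']; exact N.one_mem⟩
  exact hmod.pprime (by rw [hSN]; exact Subgroup.mem_top x) hx

theorem pResidual_le_of_sup [Finite G] [Fact p.Prime] {N D : Subgroup G} (hN : N.Normal)
    (hD : IsPGroup p ↥D) (h : Cfsg.pResidual p G ≤ N ⊔ D) : Cfsg.pResidual p G ≤ N := by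
  refine (Subgroup.closure_le _).mpr fun x hx => ?_
  have hmod : PMod p (D ⊔ N) N := by
    refine pMod_sup (fun y hy => ?_) (by rw [Subgroup.normalizer_eq_top]; exact le_top)
    obtain ⟨k, hk⟩ := hD ⟨y, hy⟩
    have hk' : y ^ p ^ k = 1 := by simpa using congrArg Subtype.val hk
    exact ⟨k, by rw [hk']; exact N.one_mem⟩
  exact hmod.pprime (by rw [sup_comm]; exact h (Subgroup.subset_closure hx)) hx

theorem le_pCore_sup [Finite G] [Fact p.Prime] {D S : Subgroup G} [D.Normal]
    (hD : IsPGroup p ↥D) :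
    S.map (QuotientGroup.mk' D) ≤ Cfsg.pCore p (G ⧸ D) ↔ S ≤ Cfsg.pCore p G := by
  constructor
  · intro h
    refine (Subgroup.map_le_iff_le_comap.mp h).trans (CfsgLib.Local.le_pCore'
      ((CfsgLib.Local.pCore_normal' p).comap _) ?_)
    exact (CfsgLib.Local.pCore_isPGroup' p).comap_of_ker_isPGroup _
      (by rwa [QuotientGroup.ker_mk'])
  · intro h
    exact (Subgroup.map_mono h).trans (CfsgLib.Local.le_pCore'
      ((CfsgLib.Local.pCore_normal' p).map _ (QuotientGroup.mk'_surjective D))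
      ((CfsgLib.Local.pCore_isPGroup' p).map _))

theorem map_pResidual_quotient [Finite G] [Fact p.Prime] (D : Subgroup G) [D.Normal] :
    (Cfsg.pResidual p G).map (QuotientGroup.mk' D) = Cfsg.pResidual p (G ⧸ D) := by
  apply le_antisymm
  · rw [Subgroup.map_le_iff_le_comap]
    exact (Subgroup.closure_le _).mpr fun x hx => Subgroup.subset_closure
      (Nat.Coprime.coprime_dvd_left (orderOf_map_dvd (QuotientGroup.mk' D) x) hx)
  · refine (Subgroup.closure_le _).mpr fun y hy => ?_
    haveI := CfsgLib.Local.pResidual_normal' p G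
    obtain ⟨x, rfl⟩ := QuotientGroup.mk'_surjective D y
    obtain ⟨T⟩ := (inferInstance : Nonempty (Sylow p G))
    have hmod : PMod p ((T : Subgroup G) ⊔ Cfsg.pResidual p G) (Cfsg.pResidual p G) := by
      refine pMod_sup (fun z hz => ?_) (by rw [Subgroup.normalizer_eq_top]; exact le_top)
      obtain ⟨k, hk⟩ := T.isPGroup' ⟨z, hz⟩
      have hk' : z ^ p ^ k = 1 := by simpa using congrArg Subtype.val hk
      exact ⟨k, by rw [hk']; exact one_mem _⟩
    obtain ⟨k, hk⟩ := hmod x (by rw [sup_pResidual]; exact Subgroup.mem_top x)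
    exact mem_of_pow_mem (k := k) ⟨_, hk, map_pow _ _ _⟩ hy

theorem isPClosed_map_iff [Finite G] [Fact p.Prime] {D N : Subgroup G} [D.Normal]
    (hD : IsPGroup p ↥D) (hN : N.Normal) :
    Cfsg.IsPClosed p ↥(N.map (QuotientGroup.mk' D)) ↔ Cfsg.IsPClosed p ↥N := by
  constructor
  · intro h
    refine isPClosed_of_isPGroup_le fun S hSN hS => (le_pCore_sup hD).mp ?_
    exact le_pCore_of_isPClosed (hN.map _ (QuotientGroup.mk'_surjective D)) h (hS.map _)
      (Subgroup.map_mono hSN)
  · intro h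
    refine isPClosed_of_isPGroup_le fun S hSN hS => ?_
    have hp' : IsPGroup p ↥(S.comap (QuotientGroup.mk' D)) :=
      hS.comap_of_ker_isPGroup _ (by rwa [QuotientGroup.ker_mk'])
    rw [← Subgroup.map_comap_eq_self_of_surjective (QuotientGroup.mk'_surjective D) S,
      le_pCore_sup hD]
    intro x hx
    obtain ⟨n, hn, hnx⟩ := hSN (Subgroup.mem_comap.mp hx)
    have hd : n⁻¹ * x ∈ D := QuotientGroup.eq.mp hnx
    have hDQ : D ≤ Cfsg.pCore p G := CfsgLib.Local.le_pCore' inferInstance hD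
    have hns : n ∈ S.comap (QuotientGroup.mk' D) ⊓ N := by
      refine Subgroup.mem_inf.mpr ⟨?_, hn⟩
      show QuotientGroup.mk' D n ∈ S
      rw [hnx]
      exact hx
    have := mul_mem (le_pCore_of_isPClosed hN h (hp'.to_le inf_le_left) inf_le_right hns) (hDQ hd)
    simpa using this

theorem isPClosed_iff_top [Finite G] [Fact p.Prime] :
    Cfsg.IsPClosed p G ↔ Cfsg.IsPClosed p ↥(⊤ : Subgroup G) := by
  constructor
  · exact fun h => isPClosed_of_isPGroup_le fun S _ hS => isPClosed_iff.mp h S hS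
  · exact fun h => isPClosed_iff.mpr fun S hS =>
      le_pCore_of_isPClosed inferInstance h hS le_top

theorem isPClosed_quotient_iff [Finite G] [Fact p.Prime] {D : Subgroup G} [D.Normal]
    (hD : IsPGroup p ↥D) : Cfsg.IsPClosed p (G ⧸ D) ↔ Cfsg.IsPClosed p G := by
  rw [isPClosed_iff_top, isPClosed_iff_top (G := G), ← isPClosed_map_iff hD (inferInstance),
    Subgroup.map_top_of_surjective _ (QuotientGroup.mk'_surjective D)]

end CfsgLib.Local.PIrr
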