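import Cfsg.Agent.S2838
import Cfsg.Agent.Lib.LocalPReducedSubnormal
import Cfsg.Agent.Lib.LocalBase

/-!
Weakly closed and large `p`-subgroups.
-/

set_option autoImplicit false

namespace CfsgLib.Local.WC

open Subgroup
open CfsgLib.Local.PRed
open scoped commutatorElement Pointwise

variable {G : Type*} [Group G] {p : ℕ}

/-- The normalizer property of a weakly closed `p`-subgroup. -/
def WClosed (p : ℕ) (Q : Subgroup G) : Prop :=
  ∀ R : Subgroup G, IsPGroup p ↥R → Q ≤ R → normalizer (R : Set G) ≤ normalizer (Q : Set G)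

theorem wClosed_iff [Finite G] [Fact p.Prime] {Q : Subgroup G} (hQp : IsPGroup p ↥Q)
    (hQ1 : Q ≠ ⊥) : Cfsg.IsWeaklyClosedSubgroup p Q ↔ WClosed p Q :=
  (Cfsg.Agent.S2838.result Q hQp hQ1).2

theorem WClosed.le_normalizer {Q R : Subgroup G} (h : WClosed p Q) (hR : IsPGroup p ↥R)
    (hQR : Q ≤ R) : R ≤ normalizer (Q : Set G) := Subgroup.le_normalizer.trans (h R hR hQR)

/-- In a `p`-group containing `Q` there is no other conjugate of `Q`. -/
theorem WClosed.eq_of_le [Finite G] [Fact p.Prime] {Q R : Subgroup G} (h : WClosed p Q)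
    (hQp : IsPGroup p ↥Q) (hQ1 : Q ≠ ⊥) (hR : IsPGroup p ↥R) (hQR : Q ≤ R) {g : G}
    (hg : MulAut.conj g • Q ≤ R) : MulAut.conj g • Q = Q := by
  obtain ⟨T, hQT, hT⟩ := (wClosed_iff hQp hQ1).mpr h
  obtain ⟨T', hT'⟩ := hR.exists_le_sylow
  obtain ⟨k, hk⟩ := MulAction.exists_smul_eq G T T'
  have he : (T' : Subgroup G) = MulAut.conj k • (T : Subgroup G) := by rw [← hk]; rfl
  rw [he] at hT'
  have key : ∀ a : G, MulAut.conj a • Q ≤ MulAut.conj k • (T : Subgroup G) →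
      k⁻¹ * a ∈ normalizer (Q : Set G) := by
    intro a ha
    rw [← CfsgLib.Core.conj_smul_le_conj_smul (g := k⁻¹),
      CfsgLib.Core.conj_smul_conj_smul, CfsgLib.Core.conj_smul_conj_smul, inv_mul_cancel,
      CfsgLib.Core.conj_one_smul] at ha
    exact CfsgLib.Core.conj_smul_eq_self_iff.mp (hT _ ha)
  have h1 := key 1 (by rw [CfsgLib.Core.conj_one_smul]; exact hQR.trans hT')
  have h2 := key g (hg.trans hT')
  exact CfsgLib.Core.conj_smul_of_mem_normalizer (by simpa [mul_assoc] using mul_mem (inv_mem h1) h2)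

/-- Conjugates of `Q` inside `K` are conjugate in `K`. -/
theorem WClosed.conj_in [Finite G] [hp : Fact p.Prime] {Q K : Subgroup G} (h : WClosed p Q)
    (hQp : IsPGroup p ↥Q) (hQ1 : Q ≠ ⊥) (hQK : Q ≤ K) {g : G} (hg : MulAut.conj g • Q ≤ K) :
    ∃ k ∈ K, MulAut.conj g • Q = MulAut.conj k • Q := by
  have hgp : IsPGroup p ↥(MulAut.conj g • Q) := by
    rw [CfsgLib.Core.conj_smul_eq_map]; exact hQp.map _
  obtain ⟨P1, hP1⟩ := (isPGroup_subgroupOf (L := K) hQp).exists_le_sylow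
  obtain ⟨P2, hP2⟩ := (isPGroup_subgroupOf (L := K) hgp).exists_le_sylow
  obtain ⟨k, hk⟩ := MulAction.exists_smul_eq ↥K P1 P2
  refine ⟨k, k.2, ?_⟩
  have h2 : (P2 : Subgroup ↥K) = MulAut.conj k • (P1 : Subgroup ↥K) := by rw [← hk]; rfl
  have hsub : MulAut.conj ((k : G)⁻¹ * g) • Q ≤ (P1 : Subgroup ↥K).map K.subtype := by
    rw [← CfsgLib.Core.conj_smul_le_conj_smul (g := (k : G)), CfsgLib.Core.conj_smul_conj_smul,
      mul_inv_cancel_left]
    intro x hx
    have hx' : (⟨x, hg hx⟩ : ↥K) ∈ MulAut.conj k • (P1 : Subgroup ↥K) :=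
      h2 ▸ hP2 (Subgroup.mem_subgroupOf.mpr hx)
    have := Subgroup.mem_map_of_mem K.subtype hx'
    rw [CfsgLib.Core.map_conj_smul] at this
    exact this
  have h3 := h.eq_of_le hQp hQ1 (P1.isPGroup'.map _)
    (fun x hx => ⟨⟨x, hQK hx⟩, hP1 (Subgroup.mem_subgroupOf.mpr hx), rfl⟩) hsub
  conv_rhs => rw [← h3, CfsgLib.Core.conj_smul_conj_smul, mul_inv_cancel_left]

theorem conj_le_cl {N Q : Subgroup G} {n : G} (hn : n ∈ N) : MulAut.conj n • Q ≤ cl N Q := by
  intro x hx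
  rw [CfsgLib.Core.mem_conj_smul] at hx
  exact Subgroup.subset_closure ⟨n, hn, _, hx, by group⟩

theorem cl_le_iff_conj {N Q M : Subgroup G} (h : ∀ n ∈ N, MulAut.conj n • Q ≤ M) :
    cl N Q ≤ M := by
  refine (Subgroup.closure_le _).mpr ?_
  rintro _ ⟨g, hg, x, hx, rfl⟩
  exact h g hg ⟨x, hx, rfl⟩

theorem cl_le_sup {N Q : Subgroup G} (hn : Q ≤ normalizer (N : Set G)) : cl N Q ≤ N ⊔ Q :=
  cl_le_iff_conj fun n hn' x hx => by
    rw [CfsgLib.Core.mem_conj_smul] at hx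
    have := mul_mem (mul_mem (Subgroup.mem_sup_left (T := Q) hn') (Subgroup.mem_sup_right (S := N) hx))
      (Subgroup.mem_sup_left (T := Q) (inv_mem hn'))
    simpa [mul_assoc] using this

/-- `N = (N ∩ ⟨Q^N⟩) N_N(Q)` for a subgroup normalized by `Q`. -/
theorem WClosed.factor [Finite G] [Fact p.Prime] {Q N : Subgroup G} (h : WClosed p Q)
    (hQp : IsPGroup p ↥Q) (hQ1 : Q ≠ ⊥) (hQN : Q ≤ normalizer (N : Set G)) {n : G} (hn : n ∈ N) :
    ∃ a ∈ N ⊓ cl N Q, a⁻¹ * n ∈ N ⊓ normalizer (Q : Set G) := by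
  obtain ⟨j, hj, hje⟩ := h.conj_in hQp hQ1 (le_cl N Q) (conj_le_cl hn)
  obtain ⟨q, hq, a, ha, hqa⟩ :=
    (CfsgLib.Core.mem_sup_iff_of_le_normalizer hQN).mp
      (sup_comm N Q ▸ cl_le_sup hQN hj : j ∈ Q ⊔ N)
  have hqn : q ∈ normalizer (Q : Set G) := Subgroup.le_normalizer hq
  have ha' : q * a * q⁻¹ ∈ N := conj_mem hQN hq ha
  have hje' : MulAut.conj n • Q = MulAut.conj (q * a * q⁻¹) • Q := by
    rw [hje, ← hqa]
    conv_lhs => rw [show q * a = (q * a * q⁻¹) * q by group, ← CfsgLib.Core.conj_smul_conj_smul,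
      CfsgLib.Core.conj_smul_of_mem_normalizer hqn]
  refine ⟨q * a * q⁻¹, Subgroup.mem_inf.mpr ⟨ha', ?_⟩,
    Subgroup.mem_inf.mpr ⟨N.mul_mem (N.inv_mem ha') hn, CfsgLib.Core.conj_smul_eq_self_iff.mp ?_⟩⟩
  · rw [hqa]
    exact mul_mem hj (inv_mem (le_cl N Q hq))
  · rw [← CfsgLib.Core.conj_smul_conj_smul, hje', CfsgLib.Core.conj_smul_conj_smul, inv_mul_cancel,
      CfsgLib.Core.conj_one_smul]

/-- A `p'`-element stabilising a chain of a `p`-group centralises it. -/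
theorem fix_of_stab [Finite G] {P E : Subgroup G} (hP : IsPGroup p ↥P) (hEP : E ≤ P) {x : G}
    (hc : (orderOf x).Coprime p) (hxE : x ∈ centralizer (E : Set G))
    (h : ∀ t ∈ P, x * t * x⁻¹ * t⁻¹ ∈ E) : x ∈ centralizer (P : Set G) :=
  mem_centralizer_iff.mpr fun t ht =>
    (CfsgLib.Local.fixed_of_coprime_step hP (hEP (h t ht))
      (mem_centralizer_iff.mp hxE _ (h t ht)).symm hc).symm

theorem eq_one_of_centralizes [Finite G] {P : Subgroup G} (hP : IsPGroup p ↥P) {x : G}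
    (hc : (orderOf x).Coprime p) (hCP : centralizer (P : Set G) ≤ P)
    (h : x ∈ centralizer (P : Set G)) : x = 1 :=
  CfsgLib.Local.eq_one_of_coprime_pgroup hP (hCP h) hc

/-- The subgroup of elements moving `P` only inside `E`. -/
def stab (P E : Subgroup G) : Subgroup G where
  carrier := {g | g ∈ normalizer (E : Set G) ∧ g ∈ normalizer (P : Set G) ∧
    ∀ t ∈ P, g * t * g⁻¹ * t⁻¹ ∈ E}
  one_mem' := ⟨one_mem _, one_mem _, fun t _ => by simp⟩
  mul_mem' := by
    rintro a b ⟨ha, ha', ha''⟩ ⟨hb, hb', hb''⟩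
    refine ⟨mul_mem ha hb, mul_mem ha' hb', fun t ht => ?_⟩
    have := E.mul_mem ((Subgroup.mem_normalizer_iff.mp ha _).mp (hb'' t ht)) (ha'' t ht)
    simpa [mul_assoc] using this
  inv_mem' := by
    rintro a ⟨ha, ha', ha''⟩
    refine ⟨inv_mem ha, inv_mem ha', fun t ht => ?_⟩
    have := (Subgroup.mem_normalizer_iff.mp (inv_mem ha) _).mp (E.inv_mem (ha'' t ht))
    simpa [mul_assoc] using this

theorem conj_le_stab {P E Q : Subgroup G} {n : G} (hPQ : ⁅P, MulAut.conj n • Q⁆ ≤ E)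
    (hE : MulAut.conj n • Q ≤ normalizer (E : Set G))
    (hP : MulAut.conj n • Q ≤ normalizer (P : Set G)) : MulAut.conj n • Q ≤ stab P E :=
  fun g hg => ⟨hE hg, hP hg, fun t ht => by
    have := E.inv_mem (hPQ (Subgroup.commutator_mem_commutator ht hg))
    simpa [commutatorElement_def, mul_assoc] using this⟩

/-- A normalized subgroup is a `p`-group when its trace on `⟨Q^N⟩` has no `p'`-elements. -/
theorem WClosed.isPGroup_of [Finite G] [hp : Fact p.Prime] {Q N A : Subgroup G}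
    (h : WClosed p Q) (hQp : IsPGroup p ↥Q) (hQ1 : Q ≠ ⊥)
    (hCQ : centralizer (Q : Set G) ≤ Q) (hAp : IsPGroup p ↥A)
    (hAQ : Q ≤ normalizer (A : Set G)) (hNA : N ≤ centralizer (A : Set G))
    (hV : Q ⊓ centralizer (A : Set G) ≤ A) (hQN : Q ≤ normalizer (N : Set G))
    (hJ : ∀ x ∈ N ⊓ cl N Q, (orderOf x).Coprime p → x = 1) : IsPGroup p ↥N := by
  refine CfsgLib.Local.isPGroup_of_coprime_eq_one fun x hx hc => ?_
  have hQA : IsPGroup p ↥(Q ⊔ A) := hQp.to_sup_of_normal_right' hAp hAQ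
  have hN2 : ∀ y ∈ N ⊓ normalizer (Q : Set G), (orderOf y).Coprime p → y = 1 := by
    intro y hy hyc
    obtain ⟨hyN, hyQ⟩ := Subgroup.mem_inf.mp hy
    refine eq_one_of_centralizes hQp hyc hCQ (mem_centralizer_iff.mpr fun q hq => ?_)
    refine (CfsgLib.Local.thompson_AxB' hQA le_sup_left le_sup_right
      (le_sup_right.trans (h.le_normalizer hQA le_sup_left))
      (fun r hr => (Subgroup.mem_normalizer_iff.mp hyQ r).mp hr) hyc
      (fun a ha => (mem_centralizer_iff.mp (hNA hyN) a ha).symm)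
      (fun r hr hr' => ?_) q hq).symm
    exact (mem_centralizer_iff.mp (hNA hyN) r
      (hV (Subgroup.mem_inf.mpr ⟨hr, mem_centralizer_iff.mpr hr'⟩))).symm
  obtain ⟨a, ha, hb⟩ := h.factor hQp hQ1 hQN hx
  have hB : IsPGroup p ↥(N ⊓ normalizer (Q : Set G)) :=
    CfsgLib.Local.isPGroup_of_coprime_eq_one hN2
  have hn : N ⊓ normalizer (Q : Set G) ≤ normalizer ((N ⊓ cl N Q : Subgroup G) : Set G) :=
    CfsgLib.Core.le_normalizer_inf (inf_le_left.trans Subgroup.le_normalizer)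
      (inf_le_left.trans (cl_normalized N Q))
  have hmod : PMod p ((N ⊓ normalizer (Q : Set G)) ⊔ (N ⊓ cl N Q)) (N ⊓ cl N Q) := by
    refine pMod_sup (fun y hy => ?_) hn
    obtain ⟨k, hk⟩ := hB ⟨y, hy⟩
    have hk' : y ^ p ^ k = 1 := by simpa using congrArg Subtype.val hk
    exact ⟨k, by rw [hk']; exact one_mem _⟩
  refine hJ x (hmod.pprime ?_ hc) hc
  have := mul_mem (Subgroup.mem_sup_right (S := N ⊓ normalizer (Q : Set G)) ha)
    (Subgroup.mem_sup_left (T := N ⊓ cl N Q) hb)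
  simpa using this

section CharP

variable [Finite G] [hp : Fact p.Prime] {Q K L : Subgroup G}

theorem normalizes_of_normalized (h : WClosed p Q) (hQp : IsPGroup p ↥Q) {P : Subgroup G}
    (hP : IsPGroup p ↥P) (hQP : Q ≤ normalizer (P : Set G)) : P ≤ normalizer (Q : Set G) :=
  le_sup_right.trans (h.le_normalizer (hQp.to_sup_of_normal_right' hP hQP) le_sup_left)

theorem centralizer_core_isPGroup (h : WClosed p Q) (hQp : IsPGroup p ↥Q) (hQ1 : Q ≠ ⊥)
    (hCQ : centralizer (Q : Set G) ≤ Q) (hQL : Q ≤ L) (hLK : L ≤ K) (hK : CharP p K) :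
    IsPGroup p ↥(K ⊓ centralizer (Cfsg.pCoreOf p L : Set G)) := by
  set P := Cfsg.pCoreOf p K with hPdef
  set A := Cfsg.pCoreOf p L with hAdef
  have hPn : K ≤ normalizer (P : Set G) := pCoreOf_normalized K
  have hAn : L ≤ normalizer (A : Set G) := pCoreOf_normalized L
  have hPp : IsPGroup p ↥P := isPGroup_pCoreOf K
  have hPQ : P ≤ normalizer (Q : Set G) :=
    normalizes_of_normalized h hQp hPp ((hQL.trans hLK).trans hPn)
  have hTA : P ⊓ L ≤ A := PRed.le_pCoreOf inf_le_right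
    (CfsgLib.Core.le_normalizer_inf (hLK.trans hPn) Subgroup.le_normalizer)
    (hPp.to_le inf_le_left)
  have hE : ⁅P, Q⁆ ≤ P ⊓ L := le_inf
    (CfsgLib.Core.commutator_le_of_le_normalizer ((hQL.trans hLK).trans hPn))
    (le_trans (by rw [Subgroup.commutator_comm]
                  exact CfsgLib.Core.commutator_le_of_le_normalizer hPQ) hQL)
  set CL := L ⊓ centralizer (A : Set G) with hCL
  have hCLn : L ≤ normalizer (CL : Set G) :=
    CfsgLib.Core.le_normalizer_inf Subgroup.le_normalizer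
      (CfsgLib.Core.le_normalizer_centralizer hAn)
  have hclL : cl L Q ≤ stab P (P ⊓ L) := by
    refine cl_le_iff_conj fun l hl => conj_le_stab ?_ ?_ ?_
    · refine Subgroup.commutator_le.mpr fun t ht x hx => ?_
      obtain ⟨q, hq, rfl⟩ := hx
      have h1 := conj_mem
        (CfsgLib.Core.le_normalizer_inf (hLK.trans hPn) Subgroup.le_normalizer) hl
        (hE (Subgroup.commutator_mem_commutator (conj_mem hPn (hLK (L.inv_mem hl)) ht) hq))
      simpa [commutatorElement_def, mul_assoc] using h1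
    · intro x hx
      obtain ⟨q, hq, rfl⟩ := hx
      exact CfsgLib.Core.le_normalizer_inf (hLK.trans hPn) Subgroup.le_normalizer
        (L.mul_mem (L.mul_mem hl (hQL hq)) (L.inv_mem hl))
    · intro x hx
      obtain ⟨q, hq, rfl⟩ := hx
      exact hPn (K.mul_mem (K.mul_mem (hLK hl) (hLK (hQL hq))) (K.inv_mem (hLK hl)))
  have hPC : K ⊓ centralizer (P : Set G) ≤ P := hK
  have hW : IsPGroup p ↥(CL ⊓ cl L Q) := CfsgLib.Local.isPGroup_of_coprime_eq_one
    fun x hx hc => CfsgLib.Local.eq_one_of_coprime_pgroup hPp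
      (hPC (Subgroup.mem_inf.mpr ⟨hLK (Subgroup.mem_inf.mp (Subgroup.mem_inf.mp hx).1).1,
        fix_of_stab hPp inf_le_left hc
          (PRed.centralizer_antitone hTA (Subgroup.mem_inf.mp (Subgroup.mem_inf.mp hx).1).2)
          (hclL (Subgroup.mem_inf.mp hx).2).2.2⟩)) hc
  have hWA : CL ⊓ cl L Q ≤ A := PRed.le_pCoreOf (inf_le_left.trans inf_le_left)
    (CfsgLib.Core.le_normalizer_inf hCLn (cl_normalized L Q)) hW
  refine h.isPGroup_of hQp hQ1 hCQ (isPGroup_pCoreOf L) (hQL.trans hAn) inf_le_right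
    ((le_inf (le_inf (inf_le_left.trans hQL) inf_le_right)
      (inf_le_left.trans (le_cl L Q))).trans hWA)
    (CfsgLib.Core.le_normalizer_inf ((hQL.trans hLK).trans Subgroup.le_normalizer)
      (CfsgLib.Core.le_normalizer_centralizer (hQL.trans hAn))) fun x hx hc => ?_
  obtain ⟨hx1, hxJ⟩ := Subgroup.mem_inf.mp hx
  obtain ⟨hxK, hxC⟩ := Subgroup.mem_inf.mp hx1
  have hst : cl (K ⊓ centralizer (A : Set G)) Q ≤ stab P ⁅P, Q⁆ := by
    refine cl_le_iff_conj fun c hc' => ?_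
    obtain ⟨hcK, hcC⟩ := Subgroup.mem_inf.mp hc'
    have hcE : MulAut.conj c • (⁅P, Q⁆ : Subgroup G) = ⁅P, Q⁆ :=
      CfsgLib.Core.conj_smul_of_mem_normalizer
        (CfsgLib.Core.centralizer_le_normalizer _
          (PRed.centralizer_antitone (hE.trans hTA) hcC))
    have hcom : ⁅P, MulAut.conj c • Q⁆ = ⁅P, Q⁆ := by
      conv_lhs => rw [← CfsgLib.Core.conj_smul_of_mem_normalizer (hPn hcK)]
      rw [CfsgLib.Core.conj_smul_eq_map, CfsgLib.Core.conj_smul_eq_map, ← Subgroup.map_commutator,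
        ← CfsgLib.Core.conj_smul_eq_map, hcE]
    refine conj_le_stab hcom.le ?_ ?_
    · rw [← hcom]
      exact CfsgLib.Core.le_normalizer_commutator_right P _
    · intro x hx
      obtain ⟨q, hq, rfl⟩ := hx
      exact hPn (K.mul_mem (K.mul_mem hcK (hLK (hQL hq))) (K.inv_mem hcK))
  exact CfsgLib.Local.eq_one_of_coprime_pgroup hPp (hPC (Subgroup.mem_inf.mpr ⟨hxK,
    fix_of_stab hPp ((hE.trans inf_le_left)) hc (PRed.centralizer_antitone (hE.trans hTA) hxC)
      (hst hxJ).2.2⟩)) hc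

theorem centralizer_core_isPGroup' (h : WClosed p Q) (hQp : IsPGroup p ↥Q) (hQ1 : Q ≠ ⊥)
    (hCQ : centralizer (Q : Set G) ≤ Q) (hQL : Q ≤ L) (hQK : Q ≤ K) (hK : CharP p K)
    (hCK : centralizer (Cfsg.pCoreOf p L : Set G) ≤ K) :
    IsPGroup p ↥(centralizer (Cfsg.pCoreOf p L : Set G)) ∧
      L ⊓ centralizer (Cfsg.pCoreOf p L : Set G) ≤ Cfsg.pCoreOf p L := by
  set P := Cfsg.pCoreOf p K with hPdef
  set A := Cfsg.pCoreOf p L with hAdef
  set C := centralizer (A : Set G) with hCdef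
  have hPn : K ≤ normalizer (P : Set G) := pCoreOf_normalized K
  have hAn : L ≤ normalizer (A : Set G) := pCoreOf_normalized L
  have hCn : L ≤ normalizer (C : Set G) := CfsgLib.Core.le_normalizer_centralizer hAn
  have hPp : IsPGroup p ↥P := isPGroup_pCoreOf K
  have hPQ : P ≤ normalizer (Q : Set G) := normalizes_of_normalized h hQp hPp (hQK.trans hPn)
  set L' := L ⊓ K with hL'
  set A' := Cfsg.pCoreOf p L' with hA'
  have hC' : IsPGroup p ↥(K ⊓ centralizer (A' : Set G)) :=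
    centralizer_core_isPGroup h hQp hQ1 hCQ (le_inf hQL hQK) inf_le_right hK
  have hCL' : L ⊓ C ≤ L' := le_inf inf_le_left (inf_le_right.trans hCK)
  have hCLn : L ≤ normalizer ((L ⊓ C : Subgroup G) : Set G) :=
    CfsgLib.Core.le_normalizer_inf Subgroup.le_normalizer hCn
  have hA'C : A' ⊓ C ≤ A := by
    refine le_trans (b := A' ⊓ (L ⊓ C)) (le_inf inf_le_left (le_inf ((inf_le_left.trans (pCoreOf_le L')).trans inf_le_left)
      inf_le_right)) ?_
    refine le_trans (PRed.le_pCoreOf inf_le_right (CfsgLib.Core.le_normalizer_inf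
      (hCL'.trans (pCoreOf_normalized L')) Subgroup.le_normalizer)
      ((isPGroup_pCoreOf L').to_le inf_le_left)) ?_
    exact PRed.le_pCoreOf ((pCoreOf_le _).trans inf_le_left)
      (le_normalizer_of_conj fun l hl y hy => by
        obtain ⟨z, hz, rfl⟩ := hy
        haveI := CfsgLib.Local.pCore_normal' (G := ↥(L ⊓ C)) p
        haveI : ((L ⊓ C).subgroupOf L).Normal := subgroupOf_normal hCLn
        have hlz : l * (z : G) * l⁻¹ ∈ L ⊓ C := conj_mem hCLn hl z.2
        refine ⟨⟨_, hlz⟩, ?_, rfl⟩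
        let e : ↥(L ⊓ C) ≃* ↥(L ⊓ C) :=
          { toFun := fun w => ⟨l * w * l⁻¹, conj_mem hCLn hl w.2⟩
            invFun := fun w => ⟨l⁻¹ * w * l, by
              simpa using conj_mem hCLn (L.inv_mem hl) w.2⟩
            left_inv := fun w => Subtype.ext (by simp [mul_assoc])
            right_inv := fun w => Subtype.ext (by simp [mul_assoc])
            map_mul' := fun a b => Subtype.ext (by simp [mul_assoc]) }
        rw [← CfsgLib.Core.map_pCore_of_mulEquiv p e]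
        exact ⟨z, hz, rfl⟩)
      (isPGroup_pCoreOf _)
  have hCLA : L ⊓ C ≤ A := by
    refine PRed.le_pCoreOf inf_le_left hCLn (CfsgLib.Local.isPGroup_of_coprime_eq_one
      fun x hx hc => CfsgLib.Local.eq_one_of_coprime_pgroup hC' (Subgroup.mem_inf.mpr
        ⟨(Subgroup.mem_inf.mp (hCL' hx)).2, ?_⟩) hc)
    refine fix_of_stab (isPGroup_pCoreOf L') (inf_le_left : A' ⊓ C ≤ A') hc
      (PRed.centralizer_antitone hA'C (Subgroup.mem_inf.mp hx).2) fun t ht => ?_
    refine Subgroup.mem_inf.mpr ⟨Subgroup.mul_mem _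
      (conj_mem (pCoreOf_normalized L') (hCL' hx) ht) (Subgroup.inv_mem _ ht), ?_⟩
    have := mul_mem (Subgroup.mem_inf.mp hx).2
      (conj_mem hCn (Subgroup.mem_inf.mp (pCoreOf_le L' ht)).1 (inv_mem (Subgroup.mem_inf.mp hx).2))
    simpa [mul_assoc] using this
  have hV : Q ⊓ C ≤ A := (inf_le_inf_right C hQL).trans hCLA
  refine ⟨h.isPGroup_of hQp hQ1 hCQ (isPGroup_pCoreOf L) (hQL.trans hAn) le_rfl hV
    (hQL.trans hCn) fun x hx hc => ?_, hCLA⟩
  obtain ⟨hxC, hxJ⟩ := Subgroup.mem_inf.mp hx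
  set CP := C ⊓ P with hCP
  have hQCP : Q ≤ normalizer (CP : Set G) :=
    CfsgLib.Core.le_normalizer_inf (hQL.trans hCn) (hQK.trans hPn)
  have hE1 : ⁅CP, Q⁆ ≤ A := by
    refine le_trans (le_inf ?_ ?_) hV
    · rw [Subgroup.commutator_comm]
      exact CfsgLib.Core.commutator_le_of_le_normalizer (inf_le_right.trans hPQ)
    · exact (CfsgLib.Core.commutator_le_of_le_normalizer hQCP).trans inf_le_left
  have hCCP : C ≤ normalizer (CP : Set G) :=
    CfsgLib.Core.le_normalizer_inf Subgroup.le_normalizer (hCK.trans hPn)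
  have hst : cl C Q ≤ stab CP ⁅CP, Q⁆ := by
    refine cl_le_iff_conj fun c hc' => ?_
    have hcom : ⁅CP, MulAut.conj c • Q⁆ = ⁅CP, Q⁆ := by
      conv_lhs => rw [← CfsgLib.Core.conj_smul_of_mem_normalizer (hCCP hc')]
      rw [CfsgLib.Core.conj_smul_eq_map, CfsgLib.Core.conj_smul_eq_map, ← Subgroup.map_commutator,
        ← CfsgLib.Core.conj_smul_eq_map]
      exact CfsgLib.Core.conj_smul_of_mem_normalizer
        (CfsgLib.Core.centralizer_le_normalizer _ (PRed.centralizer_antitone hE1 hc'))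
    refine conj_le_stab hcom.le ?_ ?_
    · rw [← hcom]
      exact CfsgLib.Core.le_normalizer_commutator_right CP _
    · intro y hy
      obtain ⟨q, hq, rfl⟩ := hy
      exact mul_mem (mul_mem (hCCP hc') (hQCP hq)) (inv_mem (hCCP hc'))
  have hxCP : ∀ y ∈ C ⊓ cl C Q, (orderOf y).Coprime p → y ∈ centralizer (CP : Set G) :=
    fun y hy hyc => fix_of_stab ((isPGroup_pCoreOf K).to_le inf_le_right)
      (CfsgLib.Core.commutator_le_of_le_normalizer hQCP) hyc
      (PRed.centralizer_antitone hE1 (Subgroup.mem_inf.mp hy).1) (hst (Subgroup.mem_inf.mp hy).2).2.2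
  have hPQE : ⁅P, Q⁆ ≤ P ⊓ Q := le_inf
    (CfsgLib.Core.commutator_le_of_le_normalizer (hQK.trans hPn))
    (by rw [Subgroup.commutator_comm]
        exact CfsgLib.Core.commutator_le_of_le_normalizer hPQ)
  have hxE : ∀ y ∈ C ⊓ cl C Q, (orderOf y).Coprime p →
      y ∈ centralizer ((⁅P, Q⁆ : Subgroup G) : Set G) := by
    intro y hy hyc
    refine mem_centralizer_iff.mpr fun e he => ?_
    obtain ⟨heP, heQ⟩ := Subgroup.mem_inf.mp (hPQE he)
    have hyC := (Subgroup.mem_inf.mp hy).1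
    have hm : y * e * y⁻¹ * e⁻¹ ∈ CP := by
      refine Subgroup.mem_inf.mpr ⟨?_, P.mul_mem (conj_mem hPn (hCK hyC) heP) (P.inv_mem heP)⟩
      have := C.mul_mem hyC (conj_mem hCn (hQL heQ) (C.inv_mem hyC))
      simpa [mul_assoc] using this
    exact (CfsgLib.Local.fixed_of_coprime_step hPp (Subgroup.mem_inf.mp hm).2
      (mem_centralizer_iff.mp (hxCP y hy hyc) _ hm).symm hyc).symm
  set X := ORes p (C ⊓ cl C Q) with hX
  have hXc : X ≤ centralizer ((⁅P, Q⁆ : Subgroup G) : Set G) :=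
    (Subgroup.closure_le _).mpr fun y hy => hxE y hy.1 hy.2
  have hXC : X ≤ C := (oRes_le _).trans inf_le_left
  have hQX : Q ≤ normalizer (X : Set G) := oRes_normalized
    (CfsgLib.Core.le_normalizer_inf (hQL.trans hCn) ((le_cl C Q).trans Subgroup.le_normalizer))
  have hstX : cl X Q ≤ stab P ⁅P, Q⁆ := by
    refine cl_le_iff_conj fun c hc' => ?_
    have hcom : ⁅P, MulAut.conj c • Q⁆ = ⁅P, Q⁆ := by
      conv_lhs => rw [← CfsgLib.Core.conj_smul_of_mem_normalizer (hPn (hCK (hXC hc')))]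
      rw [CfsgLib.Core.conj_smul_eq_map, CfsgLib.Core.conj_smul_eq_map, ← Subgroup.map_commutator,
        ← CfsgLib.Core.conj_smul_eq_map]
      exact CfsgLib.Core.conj_smul_of_mem_normalizer
        (CfsgLib.Core.centralizer_le_normalizer _ (hXc hc'))
    refine conj_le_stab hcom.le ?_ ?_
    · rw [← hcom]
      exact CfsgLib.Core.le_normalizer_commutator_right P _
    · intro y hy
      obtain ⟨q, hq, rfl⟩ := hy
      exact hPn (K.mul_mem (K.mul_mem (hCK (hXC hc')) (hQK hq)) (K.inv_mem (hCK (hXC hc'))))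
  have hXp : IsPGroup p ↥X := h.isPGroup_of hQp hQ1 hCQ (isPGroup_pCoreOf L) (hQL.trans hAn) hXC
    hV hQX fun y hy hyc => CfsgLib.Local.eq_one_of_coprime_pgroup hPp
      (hK (Subgroup.mem_inf.mpr ⟨hCK (hXC (Subgroup.mem_inf.mp hy).1),
        fix_of_stab hPp (hPQE.trans inf_le_left) hyc (hXc (Subgroup.mem_inf.mp hy).1)
          (hstX (Subgroup.mem_inf.mp hy).2).2.2⟩)) hyc
  exact CfsgLib.Local.eq_one_of_coprime_pgroup hXp (mem_oRes hx hc) hc

end CharP

/-! ### Large subgroups -/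

theorem wClosed_of_isLarge [Finite G] [Fact p.Prime] {Q : Subgroup G} (hQ1 : Q ≠ ⊥)
    (hL : Cfsg.IsLarge Q) : WClosed p Q := by
  intro R hR hQR
  haveI : Nontrivial ↥R :=
    (Subgroup.nontrivial_iff_ne_bot R).mpr fun h => hQ1 (le_bot_iff.mp (h ▸ hQR))
  haveI := hR.center_nontrivial
  set Z := R ⊓ centralizer (R : Set G) with hZ
  have hZ1 : Z ≠ ⊥ := by
    obtain ⟨z, hz⟩ := exists_ne (1 : ↥(Subgroup.center ↥R))
    refine Subgroup.ne_bot_iff_exists_ne_one.mpr
      ⟨⟨((z : ↥R) : G), Subgroup.mem_inf.mpr ⟨(z : ↥R).2, mem_centralizer_iff.mpr fun r hr =>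
        congrArg Subtype.val (Subgroup.mem_center_iff.mp z.2 ⟨r, hr⟩)⟩⟩, fun h => hz ?_⟩
    exact Subtype.ext (Subtype.ext (congrArg Subtype.val h :))
  exact (CfsgLib.Core.le_normalizer_inf le_rfl
    (CfsgLib.Core.le_normalizer_centralizer le_rfl)).trans
    (hL.2 Z (inf_le_right.trans (PRed.centralizer_antitone hQR)) hZ1)

theorem centralizer_conj_smul (g : G) (H : Subgroup G) :
    centralizer ((MulAut.conj g • H : Subgroup G) : Set G) =
      MulAut.conj g • centralizer (H : Set G) := by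
  ext x
  rw [CfsgLib.Core.mem_conj_smul, mem_centralizer_iff, mem_centralizer_iff]
  constructor
  · intro hx h hh
    have h1 := hx (g * h * g⁻¹) ⟨h, hh, rfl⟩
    calc h * (g⁻¹ * x * g) = g⁻¹ * (g * h * g⁻¹ * x) * g := by group
      _ = g⁻¹ * (x * (g * h * g⁻¹)) * g := by rw [h1]
      _ = _ := by group
  · rintro hx _ ⟨h, hh, rfl⟩
    show g * h * g⁻¹ * x = x * (g * h * g⁻¹)
    calc g * h * g⁻¹ * x = g * (h * (g⁻¹ * x * g)) * g⁻¹ := by group
      _ = g * (g⁻¹ * x * g * h) * g⁻¹ := by rw [hx h hh]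
      _ = _ := by group

theorem isLarge_conj {Q : Subgroup G} (hL : Cfsg.IsLarge Q) (g : G) :
    Cfsg.IsLarge (MulAut.conj g • Q) := by
  refine ⟨?_, fun U hU hU1 n hn => ?_⟩
  · rw [centralizer_conj_smul]
    exact CfsgLib.Core.conj_smul_le_conj_smul.mpr hL.1
  · rw [centralizer_conj_smul] at hU
    have h1 : MulAut.conj g⁻¹ • U ≤ centralizer (Q : Set G) := by
      rw [← CfsgLib.Core.conj_smul_le_conj_smul (g := g), CfsgLib.Core.conj_smul_conj_smul,
        mul_inv_cancel, CfsgLib.Core.conj_one_smul]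
      exact hU
    have h2 : MulAut.conj g⁻¹ • U ≠ ⊥ := by
      intro h
      refine hU1 ?_
      rw [← CfsgLib.Core.conj_one_smul U, ← mul_inv_cancel g,
        ← CfsgLib.Core.conj_smul_conj_smul, h, CfsgLib.Core.conj_smul_eq_map, Subgroup.map_bot]
    have h3 : g⁻¹ * n * g ∈ normalizer (MulAut.conj g⁻¹ • U : Set G) := by
      rw [← Subgroup.coe_pointwise_smul, ← CfsgLib.Core.conj_smul_eq_self_iff,
        CfsgLib.Core.conj_smul_conj_smul, mul_inv_cancel_right,
        ← CfsgLib.Core.conj_smul_conj_smul, CfsgLib.Core.conj_smul_of_mem_normalizer hn]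
    have h4 := hL.2 _ h1 h2 (by rwa [Subgroup.coe_pointwise_smul])
    rw [← CfsgLib.Core.conj_smul_eq_self_iff, CfsgLib.Core.conj_smul_conj_smul,
      show n * g = g * (g⁻¹ * n * g) by group, ← CfsgLib.Core.conj_smul_conj_smul,
      CfsgLib.Core.conj_smul_of_mem_normalizer h4]

theorem exists_fixed_of_normalized [Finite G] [Fact p.Prime] {Q Y : Subgroup G}
    (hQp : IsPGroup p ↥Q) (hY : IsPGroup p ↥Y) (hY1 : Y ≠ ⊥)
    (hQY : Q ≤ normalizer (Y : Set G)) : Y ⊓ centralizer (Q : Set G) ≠ ⊥ := by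
  have hR : IsPGroup p ↥(Q ⊔ Y) := hQp.to_sup_of_normal_right' hY hQY
  haveI : Group.IsNilpotent ↥(Q ⊔ Y) := hR.isNilpotent
  haveI : (Y.subgroupOf (Q ⊔ Y)).Normal :=
    subgroupOf_normal (sup_le hQY Subgroup.le_normalizer)
  have hne : Y.subgroupOf (Q ⊔ Y) ≠ ⊥ := by
    rw [Ne, Subgroup.subgroupOf_eq_bot, disjoint_iff, inf_eq_left.mpr le_sup_right]
    exact hY1
  obtain ⟨⟨z, hz⟩, hz1⟩ := Subgroup.ne_bot_iff_exists_ne_one.mp
    (CfsgLib.Core.nilpotent_inf_center_ne_bot hne)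
  obtain ⟨hzY, hzc⟩ := Subgroup.mem_inf.mp hz
  refine Subgroup.ne_bot_iff_exists_ne_one.mpr ⟨⟨(z : G), Subgroup.mem_inf.mpr
    ⟨Subgroup.mem_subgroupOf.mp hzY, mem_centralizer_iff.mpr fun q hq =>
      congrArg Subtype.val (Subgroup.mem_center_iff.mp hzc ⟨q, Subgroup.mem_sup_left hq⟩)⟩⟩,
    fun h => hz1 ?_⟩
  exact Subtype.ext (Subtype.ext (congrArg Subtype.val h :))

/-- `C(Y) ≤ N(Q)` for a nontrivial `p`-subgroup `Y` normalized by the large `Q`. -/
theorem centralizer_le_normalizer_large [Finite G] [Fact p.Prime] {Q Y : Subgroup G}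
    (hQp : IsPGroup p ↥Q) (hL : Cfsg.IsLarge Q) (hY : IsPGroup p ↥Y) (hY1 : Y ≠ ⊥)
    (hQY : Q ≤ normalizer (Y : Set G)) : centralizer (Y : Set G) ≤ normalizer (Q : Set G) :=
  ((PRed.centralizer_antitone inf_le_left).trans (CfsgLib.Core.centralizer_le_normalizer _)).trans
    (hL.2 _ inf_le_right (exists_fixed_of_normalized hQp hY hY1 hQY))

theorem weakClosure_eq_cl [Finite G] [Fact p.Prime] {Q K : Subgroup G} (h : WClosed p Q)
    (hQp : IsPGroup p ↥Q) (hQ1 : Q ≠ ⊥) (hQK : Q ≤ K) : Cfsg.weakClosure Q K = cl K Q := by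
  refine le_antisymm (iSup_le fun g => ?_) (cl_le_iff_conj fun k hk => ?_)
  · obtain ⟨k, hk, he⟩ := h.conj_in hQp hQ1 hQK (g := g.1) g.2
    exact (he.le : _).trans (conj_le_cl hk)
  · refine le_iSup_of_le ⟨k, ?_⟩ le_rfl
    rintro _ ⟨q, hq, rfl⟩
    exact K.mul_mem (K.mul_mem hk (hQK hq)) (K.inv_mem hk)

theorem large_centralizer_core [Finite G] [hp : Fact p.Prime] {Q L : Subgroup G}
    (hQp : IsPGroup p ↥Q) (hQ : Cfsg.IsLarge Q) (hQL : Q ≤ L)
    (hne : Cfsg.pCoreOf p L ≠ ⊥) :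
    IsPGroup p ↥(centralizer (Cfsg.pCoreOf p L : Set G)) ∧ CharP p L := by
  set A := Cfsg.pCoreOf p L with hA
  set C := centralizer (A : Set G) with hC
  have hAn : L ≤ normalizer (A : Set G) := pCoreOf_normalized L
  have hAp : IsPGroup p ↥A := isPGroup_pCoreOf L
  have hQA : IsPGroup p ↥(Q ⊔ A) := hQp.to_sup_of_normal_right' hAp (hQL.trans hAn)
  have hAQ : A ≤ normalizer (Q : Set G) := by
    by_cases hQ1 : Q = ⊥
    · subst hQ1
      rw [Subgroup.normalizer_eq_top]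
      exact le_top
    · exact le_sup_right.trans ((wClosed_of_isLarge hQ1 hQ).le_normalizer hQA le_sup_left)
  have hCN : C ≤ normalizer (Q : Set G) :=
    centralizer_le_normalizer_large hQp hQ hAp hne (hQL.trans hAn)
  have hCn : L ≤ normalizer (C : Set G) := CfsgLib.Core.le_normalizer_centralizer hAn
  have hCL : L ≤ normalizer ((L ⊓ C : Subgroup G) : Set G) :=
    CfsgLib.Core.le_normalizer_inf Subgroup.le_normalizer hCn
  have hV : Q ⊓ C ≤ A := by
    have h1 : Q ⊓ C ≤ Cfsg.pCoreOf p (L ⊓ C) :=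
      PRed.le_pCoreOf (inf_le_inf_right C hQL)
        (CfsgLib.Core.le_normalizer_inf (inf_le_right.trans hCN)
          (inf_le_right.trans Subgroup.le_normalizer))
        (hQp.to_le inf_le_left)
    refine h1.trans (PRed.le_pCoreOf ((pCoreOf_le _).trans inf_le_left) ?_ (isPGroup_pCoreOf _))
    haveI := CfsgLib.Local.pCore_normal' (G := ↥(L ⊓ C)) p
    refine le_normalizer_of_conj fun l hl y hy => ?_
    obtain ⟨z, hz, rfl⟩ := hy
    have hlz : l * (z : G) * l⁻¹ ∈ L ⊓ C := conj_mem hCL hl z.2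
    refine ⟨⟨_, hlz⟩, ?_, rfl⟩
    let e : ↥(L ⊓ C) ≃* ↥(L ⊓ C) :=
      { toFun := fun w => ⟨l * w * l⁻¹, conj_mem hCL hl w.2⟩
        invFun := fun w => ⟨l⁻¹ * w * l, by simpa using conj_mem hCL (L.inv_mem hl) w.2⟩
        left_inv := fun w => Subtype.ext (by simp [mul_assoc])
        right_inv := fun w => Subtype.ext (by simp [mul_assoc])
        map_mul' := fun a b => Subtype.ext (by simp [mul_assoc]) }
    rw [← CfsgLib.Core.map_pCore_of_mulEquiv p e]
    exact ⟨z, hz, rfl⟩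
  have hCp : IsPGroup p ↥C := by
    refine CfsgLib.Local.isPGroup_of_coprime_eq_one fun y hy hyc => ?_
    refine eq_one_of_centralizes hQp hyc hQ.1 (mem_centralizer_iff.mpr fun q hq => ?_)
    refine (CfsgLib.Local.thompson_AxB' hQA le_sup_left le_sup_right hAQ
      (fun r hr => (Subgroup.mem_normalizer_iff.mp (hCN hy) r).mp hr) hyc
      (fun a ha => (mem_centralizer_iff.mp hy a ha).symm)
      (fun r hr hr' => ?_) q hq).symm
    exact (mem_centralizer_iff.mp hy r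
      (hV (Subgroup.mem_inf.mpr ⟨hr, mem_centralizer_iff.mpr hr'⟩))).symm
  exact ⟨hCp, PRed.le_pCoreOf inf_le_left hCL (hCp.to_le inf_le_right)⟩

theorem charP_to_subtype {L : Subgroup G} (h : CharP p L) :
    centralizer (Cfsg.pCore p ↥L : Set ↥L) ≤ Cfsg.pCore p ↥L := by
  intro x hx
  have h1 : (x : G) ∈ Cfsg.pCoreOf p L := h (Subgroup.mem_inf.mpr ⟨x.2, mem_centralizer_iff.mpr
    (by rintro _ ⟨y, hy, rfl⟩; exact congrArg Subtype.val (mem_centralizer_iff.mp hx y hy))⟩)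
  obtain ⟨y, hy, he⟩ := h1
  rwa [← Subtype.ext (a1 := y) (a2 := x) he]

end CfsgLib.Local.WC
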