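import Cfsg.Agent.S2824
import Cfsg.Agent.Lib.LocalPReducedParabolic
import Cfsg.Agent.Lib.LocalPIrreducible
import Cfsg.Agent.Lib.LocalWeaklyClosed

/-!
Existence of parabolic subgroups with the basic property.
-/

set_option autoImplicit false

namespace CfsgLib.Local.Basic

open Subgroup
open CfsgLib.Local.PRed
open scoped commutatorElement Pointwise

variable {G : Type*} [Group G] {p : ℕ}

/-- Every parabolic subgroup with nontrivial `O_p` contains the centraliser of its `O_p`. -/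
def ParCore (p : ℕ) (G : Type*) [Group G] : Prop :=
  ∀ R : Subgroup G, Cfsg.IsParabolic p R → Cfsg.pCoreOf p R ≠ ⊥ →
    centralizer (Cfsg.pCoreOf p R : Set G) ≤ Cfsg.pCoreOf p R

theorem parCore_of_parabolicCharacteristic [Finite G] [hp : Fact p.Prime]
    (hG : Cfsg.IsOfParabolicCharacteristic p G) : ParCore p G := by
  rintro R ⟨T, hTR⟩ hne
  set A := Cfsg.pCoreOf p R with hA
  set N := normalizer (A : Set G) with hN
  have hRN : R ≤ N := pCoreOf_normalized R
  have hAp : IsPGroup p ↥A := isPGroup_pCoreOf R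
  have hchar : CharP p N := charP_of (hG A hAp hne ⟨T, hTR.trans hRN⟩)
  set C := centralizer (A : Set G) with hC
  have hAQ : A ≤ Cfsg.pCoreOf p N := PRed.le_pCoreOf Subgroup.le_normalizer le_rfl hAp
  have hCN : C ≤ N := CfsgLib.Core.centralizer_le_normalizer A
  have hCn : N ≤ normalizer (C : Set G) := CfsgLib.Core.le_normalizer_centralizer le_rfl
  have hCp : IsPGroup p ↥C := by
    refine CfsgLib.Local.isPGroup_of_coprime_eq_one fun x hx hc => ?_
    set Q := Cfsg.pCoreOf p N with hQ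
    have hQn : N ≤ normalizer (Q : Set G) := pCoreOf_normalized N
    have hQC : Q ⊓ C ≤ A := by
      have hQT : Q ≤ (T : Subgroup G) := pCoreOf_le_of_index (hTR.trans hRN) T.isPGroup'
        (not_dvd_relIndex_of_le T (hTR.trans hRN))
      exact PRed.le_pCoreOf ((inf_le_left.trans hQT).trans hTR)
        (CfsgLib.Core.le_normalizer_inf (hRN.trans hQn) (hRN.trans hCn))
        ((isPGroup_pCoreOf N).to_le inf_le_left)
    refine CfsgLib.Local.eq_one_of_coprime_pgroup (isPGroup_pCoreOf N)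
      (hchar (Subgroup.mem_inf.mpr ⟨hCN hx, mem_centralizer_iff.mpr fun t ht => ?_⟩)) hc
    have hm : x * t * x⁻¹ * t⁻¹ ∈ Q ⊓ C := by
      refine Subgroup.mem_inf.mpr ⟨Q.mul_mem (conj_mem hQn (hCN hx) ht) (Q.inv_mem ht), ?_⟩
      have := C.mul_mem hx (conj_mem hCn (pCoreOf_le N ht) (C.inv_mem hx))
      simpa [mul_assoc] using this
    exact (CfsgLib.Local.fixed_of_coprime_step (isPGroup_pCoreOf N) (Subgroup.mem_inf.mp hm).1
      (mem_centralizer_iff.mp hx _ (hQC hm)).symm hc).symm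
  have hTC : (T : Subgroup G) ≤ normalizer (C : Set G) := (hTR.trans hRN).trans hCn
  have hCT : C ≤ (T : Subgroup G) :=
    le_sup_right.trans (T.is_maximal' (T.isPGroup'.to_sup_of_normal_right' hCp hTC) le_sup_left).le
  exact PRed.le_pCoreOf (hCT.trans hTR) (hRN.trans hCn) hCp

theorem pCoreOf_ne_bot_of [Finite G] {R A : Subgroup G} (hAR : A ≤ R)
    (hn : R ≤ normalizer (A : Set G)) (hp : IsPGroup p ↥A) (h1 : A ≠ ⊥) :
    Cfsg.pCoreOf p R ≠ ⊥ := fun h =>
  h1 (le_bot_iff.mp (h ▸ PRed.le_pCoreOf hAR hn hp))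

theorem mem_charP_iff {R : Subgroup G} :
    R ∈ Cfsg.charPSubgroups p G ↔
      Cfsg.pCoreOf p R ≠ ⊥ ∧ centralizer (Cfsg.pCoreOf p R : Set G) ≤ Cfsg.pCoreOf p R :=
  and_congr (not_congr (Subgroup.map_eq_bot_iff_of_injective _ R.subtype_injective).symm) Iff.rfl

theorem charP_of_mem [Finite G] {R : Subgroup G} (h : R ∈ Cfsg.charPSubgroups p G) :
    CharP p R := inf_le_right.trans (mem_charP_iff.mp h).2

theorem ParCore.mem [Finite G] [Fact p.Prime] (h : ParCore p G) (T : Sylow p G) {R A : Subgroup G}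
    (hTR : (T : Subgroup G) ≤ R) (hAR : A ≤ R) (hn : R ≤ normalizer (A : Set G))
    (hp : IsPGroup p ↥A) (h1 : A ≠ ⊥) : R ∈ Cfsg.charPSubgroups p G :=
  mem_charP_iff.mpr ⟨pCoreOf_ne_bot_of hAR hn hp h1,
    h R ⟨T, hTR⟩ (pCoreOf_ne_bot_of hAR hn hp h1)⟩

theorem exists_max [Finite G] {X : Subgroup G} (hX : X ∈ Cfsg.charPSubgroups p G) :
    ∃ M ∈ Cfsg.maxCharPSubgroups p G, X ≤ M := by
  obtain ⟨M, hXM, hM⟩ := Finite.exists_le_maximal
    (p := fun M => M ∈ Cfsg.charPSubgroups p G) hX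
  exact ⟨M, ⟨hM.prop, fun L hL hle => le_antisymm (hM.le_of_ge hL hle) hle⟩, hXM⟩

theorem largest_mono [Finite G] [Fact p.Prime] (T : Sylow p G) {X M : Subgroup G}
    (hM : CharP p M) (hTX : (T : Subgroup G) ≤ X) (hXM : X ≤ M) :
    Cfsg.largestPReducedOf p X ≤ Cfsg.largestPReducedOf p M := by
  set Y := Cfsg.largestPReducedOf p X with hYdef
  have hY := red_largest (p := p) X
  have hTM := hTX.trans hXM
  have hQT := pCoreOf_le_of_index hTM T.isPGroup' (not_dvd_relIndex_of_le T hTM)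
  have hQX : Cfsg.pCoreOf p M ≤ Cfsg.pCoreOf p X :=
    PRed.le_pCoreOf (hQT.trans hTX) (hXM.trans (pCoreOf_normalized M)) (isPGroup_pCoreOf M)
  have hYc : Y ≤ centralizer (Cfsg.pCoreOf p M : Set G) :=
    Subgroup.le_centralizer_iff.mp (hQX.trans hY.pCoreOf_le_centralizer)
  have hYZ : Y ≤ OZ p (Cfsg.pCoreOf p M) := fun y hy =>
    mem_oz.mpr ⟨hM (Subgroup.mem_inf.mpr ⟨hXM (hY.le hy), hYc hy⟩), hYc hy, hY.elem.2 y hy⟩
  refine (le_cl M Y).trans (Red.le_largest (red_cl hTM (not_dvd_relIndex_of_le T hTM) hYZ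
    fun N _ hn hmod => ?_))
  have h1 : N ⊓ X ≤ centralizer (Y : Set G) := hY.reduced _ inf_le_right
    (CfsgLib.Core.le_normalizer_inf (hXM.trans hn) Subgroup.le_normalizer)
    (fun x hx => by
      obtain ⟨k, hk⟩ := hmod x (Subgroup.mem_inf.mp hx).1
      exact ⟨k, PRed.centralizer_antitone (le_cl M Y) hk⟩)
  exact (le_inf inf_le_right (inf_le_left.trans hTX)).trans h1

theorem largest_ne_bot [Finite G] [hp : Fact p.Prime] (T : Sylow p G) {X : Subgroup G}
    (hX : CharP p X) (hTX : (T : Subgroup G) ≤ X) (hne : Cfsg.pCoreOf p X ≠ ⊥) :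
    Cfsg.largestPReducedOf p X ≠ ⊥ := by
  intro h
  have hle := oz_sylow_le_largest hX hTX T.isPGroup' (not_dvd_relIndex_of_le T hTX)
  rw [h, le_bot_iff] at hle
  have hT1 : (T : Subgroup G) ≠ ⊥ := fun hT => hne (le_bot_iff.mp
    (hT ▸ pCoreOf_le_of_index hTX T.isPGroup' (not_dvd_relIndex_of_le T hTX)))
  haveI : Nontrivial ↥(T : Subgroup G) := (Subgroup.nontrivial_iff_ne_bot _).mpr hT1
  haveI := T.isPGroup'.center_nontrivial
  obtain ⟨⟨z, hzc⟩, hz⟩ := exists_ne (1 : ↥(Subgroup.center ↥(T : Subgroup G)))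
  obtain ⟨n, hn⟩ := ((T.isPGroup'.to_subgroup (Subgroup.center ↥(T : Subgroup G))).exists_card_eq)
  have hd : p ∣ Nat.card ↥(Subgroup.center ↥(T : Subgroup G)) := by
    rcases Nat.eq_zero_or_pos n with h0 | h0
    · rw [h0, pow_zero] at hn
      exact absurd hn (Finite.one_lt_card (α := ↥(Subgroup.center ↥(T : Subgroup G)))).ne'
    · rw [hn]; exact dvd_pow_self p h0.ne'
  obtain ⟨w, hw⟩ := exists_prime_orderOf_dvd_card' (G := ↥(Subgroup.center ↥(T : Subgroup G))) p hd
  have hwc := w.2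
  have h1 : ((w : ↥(T : Subgroup G)) : G) ∈ OZ p (T : Subgroup G) :=
    mem_oz.mpr ⟨(w : ↥(T : Subgroup G)).2, mem_centralizer_iff.mpr fun t ht =>
      congrArg Subtype.val (Subgroup.mem_center_iff.mp hwc ⟨t, ht⟩), by
        have := pow_orderOf_eq_one ((w : ↥(T : Subgroup G)) : G)
        rwa [Subgroup.orderOf_coe, Subgroup.orderOf_coe, hw] at this⟩
  rw [hle, Subgroup.mem_bot] at h1
  rw [← Subgroup.orderOf_coe w, ← Subgroup.orderOf_coe (w : ↥(T : Subgroup G)), h1,
    orderOf_one] at hw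
  exact hp.out.ne_one hw.symm

/-- Every `L` is covered by a subgroup with the basic property. -/
theorem exists_basic [Finite G] [hp : Fact p.Prime] (hG : ParCore p G) (T : Sylow p G)
    {L : Subgroup G} (hTL : (T : Subgroup G) ≤ L) (hL : L ∈ Cfsg.charPSubgroups p G) :
    ∃ M : Subgroup G, (T : Subgroup G) ≤ M ∧ Cfsg.IsInFrakM p M ∧
      Cfsg.largestPReducedOf p L ≤ Cfsg.largestPReducedOf p M ∧
      ∀ l ∈ L, ∃ m ∈ M, m⁻¹ * l ∈ centralizer (Cfsg.largestPReducedOf p L : Set G) := by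
  set YL := Cfsg.largestPReducedOf p L with hYL
  let Good : Subgroup G → Prop := fun X => X ∈ Cfsg.maxCharPSubgroups p G ∧
    (T : Subgroup G) ≤ X ∧ YL ≤ Cfsg.largestPReducedOf p X ∧
    ∀ l ∈ L, ∃ m ∈ X, m⁻¹ * l ∈ centralizer (YL : Set G)
  obtain ⟨X1, hX1, hLX1⟩ := exists_max hL
  have hgood1 : Good X1 := ⟨hX1, hTL.trans hLX1,
    largest_mono T (charP_of_mem hX1.1) hTL hLX1,
    fun l hl => ⟨l, hLX1 hl, by rw [inv_mul_cancel]; exact one_mem _⟩⟩
  obtain ⟨M0, hM0, hmax⟩ := Set.exists_max_image {X | Good X}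
    (fun X => Nat.card ↥(Cfsg.largestPReducedOf p X)) (Set.toFinite _) ⟨X1, hgood1⟩
  obtain ⟨hM0max, hTM0, hY0, hfac0⟩ := hM0
  set Y0 := Cfsg.largestPReducedOf p M0 with hY0def
  have hr0 := red_largest (p := p) M0
  have hY0T : Y0 ≤ (T : Subgroup G) := hr0.le_pCoreOf.trans
    (pCoreOf_le_of_index hTM0 T.isPGroup' (not_dvd_relIndex_of_le T hTM0))
  have hY0p : IsPGroup p ↥Y0 := isPGroup_of_elem hr0.elem
  have hY0ne : Y0 ≠ ⊥ :=
    largest_ne_bot T (charP_of_mem hM0max.1) hTM0 (mem_charP_iff.mp hM0max.1).1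
  set C0 := centralizer (Y0 : Set G) with hC0
  have hdag : M0 ⊔ C0 ∈ Cfsg.charPSubgroups p G :=
    hG.mem T (hTM0.trans le_sup_left) (hr0.le.trans le_sup_left)
      (sup_le hr0.normalized (CfsgLib.Core.centralizer_le_normalizer Y0)) hY0p hY0ne
  have hC0M : C0 ≤ M0 := le_sup_right.trans (hM0max.2 _ hdag le_sup_left).le
  have hM0C : M0 ≤ normalizer (C0 : Set G) := hr0.centralizer_normalized
  obtain ⟨M, ⟨hTM, hMM0, hMC⟩, hMmin⟩ := Set.exists_min_image
    {X : Subgroup G | (T : Subgroup G) ≤ X ∧ X ≤ M0 ∧ M0 ≤ X ⊔ C0}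
    (fun X => Nat.card ↥X) (Set.toFinite _) ⟨M0, hTM0, le_rfl, le_sup_left⟩
  have hmin : ∀ X : Subgroup G, (T : Subgroup G) ≤ X → X ≤ M → M0 ≤ X ⊔ C0 → M ≤ X := by
    intro X h1 h2 h3
    exact (CfsgLib.Core.eq_of_le_of_card_le h2 (hMmin X ⟨h1, h2.trans hMM0, h3⟩)).ge
  have hY0M : Y0 ≤ M := hY0T.trans hTM
  have hM : M ∈ Cfsg.charPSubgroups p G :=
    hG.mem T hTM hY0M (hMM0.trans hr0.normalized) hY0p hY0ne
  have hYM : Cfsg.largestPReducedOf p M = Y0 :=
    le_antisymm (largest_mono T (charP_of_mem hM0max.1) hTM hMM0)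
      (hr0.transfer hY0M (hMM0.trans le_sup_left) hMC).le_largest
  have hMsup : M ⊔ C0 = M0 := le_antisymm (sup_le hMM0 hC0M) hMC
  set O := Cfsg.pCoreOf p M with hO
  set C1 := M ⊓ C0 with hC1
  have hC1n : M ≤ normalizer (C1 : Set G) :=
    CfsgLib.Core.le_normalizer_inf Subgroup.le_normalizer (hMM0.trans hM0C)
  set T0 := (T : Subgroup G) ⊓ C1 with hT0
  have hT0p : IsPGroup p ↥T0 := T.isPGroup'.to_le inf_le_left
  have hT0i : ¬ p ∣ T0.relIndex C1 :=
    not_dvd_relIndex_inf hTM inf_le_left (hTM.trans hC1n) (not_dvd_relIndex_of_le T hTM)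
  have hT0n : M ≤ normalizer (T0 : Set G) := by
    refine (hmin (M ⊓ normalizer (T0 : Set G)) (le_inf hTM ?_) inf_le_left ?_).trans inf_le_right
    · exact CfsgLib.Core.le_normalizer_inf Subgroup.le_normalizer (hTM.trans hC1n)
    · exact hMC.trans (sup_le ((frattini_rel hC1n inf_le_left inf_le_right hT0p hT0i).trans
        (sup_le_sup_left inf_le_right _)) le_sup_right)
  have hT0O : T0 ≤ O := PRed.le_pCoreOf (inf_le_right.trans inf_le_left) hT0n hT0p
  refine ⟨M, hTM, ⟨hM, ?_, ?_, ?_, ?_, ?_⟩, hYM ▸ hY0, fun l hl => ?_⟩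
  · rw [hYM, hMsup]
    exact hM0max
  · intro X hX hMX
    rw [hYM, hMsup]
    have hle : Y0 ≤ Cfsg.largestPReducedOf p X :=
      hYM ▸ largest_mono T (charP_of_mem hX.1) hTM hMX
    have hgood : Good X := by
      refine ⟨hX, hTM.trans hMX, hY0.trans hle, fun l hl => ?_⟩
      obtain ⟨m0, hm0, hc⟩ := hfac0 l hl
      obtain ⟨m, hm, c, hc', rfl⟩ :=
        (CfsgLib.Core.mem_sup_iff_of_le_normalizer (hMM0.trans hM0C)).mp (hMC hm0)
      refine ⟨m, hMX hm, ?_⟩
      have := mul_mem (PRed.centralizer_antitone hY0 hc') hc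
      simpa [mul_assoc] using this
    have heq : Cfsg.largestPReducedOf p X = Y0 :=
      (CfsgLib.Core.eq_of_le_of_card_le hle (hmax X hgood)).symm
    have hCX : C0 ≤ X := by
      have hrX := red_largest (p := p) X
      have hdagX : X ⊔ C0 ∈ Cfsg.charPSubgroups p G :=
        hG.mem T ((hTM.trans hMX).trans le_sup_left) ((hY0M.trans hMX).trans le_sup_left)
          (sup_le (heq ▸ hrX.normalized) (CfsgLib.Core.centralizer_le_normalizer Y0)) hY0p hY0ne
      exact le_sup_right.trans (hX.2 _ hdagX le_sup_left).le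
    exact hM0max.2 X hX.1 (hMC.trans (sup_le hMX hCX))
  · rw [hYM, hMsup]
  · rw [hYM]
    refine CfsgLib.Local.PIrr.isPClosed_iff.mpr fun S hS => ?_
    haveI := subgroupOf_normal (inf_le_left.trans hT0n : C1 ≤ normalizer (T0 : Set G))
    refine le_trans (fun x hx => ?_) (CfsgLib.Local.le_pCore' (N := T0.subgroupOf C1)
      inferInstance (isPGroup_subgroupOf hT0p))
    obtain ⟨P, hP⟩ := hS.exists_le_sylow
    let P0 : Sylow p ↥C1 := (isPGroup_subgroupOf (L := C1) hT0p).toSylow hT0i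
    have hP0n : (P0 : Subgroup ↥C1).Normal := ‹(T0.subgroupOf C1).Normal›
    haveI := Sylow.unique_of_normal P0 hP0n
    have hPP : P = P0 := Subsingleton.elim _ _
    have h1 := hP hx
    rw [hPP] at h1
    exact h1
  · rw [hYM]
    refine le_iInf₂ fun V hV => ?_
    set f := QuotientGroup.mk' (Cfsg.pCore p ↥M) with hf
    by_contra hCV
    set U := (V.comap f).map M.subtype with hU
    have hUM : U ≤ M := Subgroup.map_subtype_le _
    have hOU : O ≤ U := Subgroup.map_mono fun x hx => by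
      rw [Subgroup.mem_comap, hf, QuotientGroup.mk'_apply, (QuotientGroup.eq_one_iff x).mpr hx]
      exact one_mem _
    have htop : (C1.subgroupOf M) ⊔ V.comap f = ⊤ := by
      haveI := subgroupOf_normal hC1n
      have hVtop : (C1.subgroupOf M).map f ⊔ V = ⊤ := hV.2 _ (right_lt_sup.mpr hCV)
      have h2 := congrArg (Subgroup.comap f) hVtop
      rw [Subgroup.comap_top, ← Subgroup.map_comap_eq_self_of_surjective
        (QuotientGroup.mk'_surjective _) V, ← Subgroup.map_sup, Subgroup.comap_map_eq] at h2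
      rwa [sup_eq_left.mpr ((Subgroup.ker_le_comap f V).trans le_sup_right)] at h2
    have hUC : M ≤ U ⊔ C1 := by
      intro m hm
      have h1 : (⟨m, hm⟩ : ↥M) ∈ (C1.subgroupOf M) ⊔ V.comap f := by
        rw [htop]; exact Subgroup.mem_top _
      have h2 := Subgroup.mem_map_of_mem M.subtype h1
      rw [Subgroup.map_sup, Subgroup.map_subgroupOf_eq_of_le inf_le_left, sup_comm] at h2
      exact h2
    have hUi : ¬ p ∣ U.relIndex M := by
      intro hd
      have hUn : U ≤ normalizer (C1 : Set G) := hUM.trans hC1n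
      have h1 : U.relIndex M ∣ U.relIndex (U ⊔ C1) := by
        rw [le_antisymm (sup_le hUM inf_le_left) hUC]
      have h2 : U.relIndex (U ⊔ C1) = U.relIndex C1 := by
        have h1 := CfsgLib.Core.card_sup_mul_card_inf hUn
        rw [← CfsgLib.Core.card_mul_relIndex (le_sup_left : U ≤ U ⊔ C1),
          ← CfsgLib.Core.card_inf_mul_relIndex U C1] at h1
        refine Nat.eq_of_mul_eq_mul_left (Nat.mul_pos (Nat.card_pos (α := ↥U))
          (Nat.card_pos (α := ↥(U ⊓ C1)))) ?_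
        linarith
      refine hT0i (hd.trans (h1.trans (h2 ▸ ?_)))
      rw [← Subgroup.inf_relIndex_right U C1,
        ← Subgroup.relIndex_mul_relIndex T0 (U ⊓ C1) C1 (le_inf (hT0O.trans hOU) inf_le_right)
          inf_le_right]
      exact Dvd.intro_left _ rfl
    obtain ⟨P0⟩ := (inferInstance : Nonempty (Sylow p ↥U))
    set P := (P0 : Subgroup ↥U).map U.subtype with hP
    have hPU : P ≤ U := Subgroup.map_subtype_le _
    have hPi : ¬ p ∣ P.relIndex M := by
      rw [← Subgroup.relIndex_mul_relIndex P U M hPU hUM]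
      intro hd
      rcases (Nat.Prime.dvd_mul hp.out).mp hd with h | h
      · rw [hP, Subgroup.relIndex, Subgroup.subgroupOf,
          Subgroup.comap_map_eq_self_of_injective U.subtype_injective] at h
        exact P0.not_dvd_index h
      · exact hUi h
    obtain ⟨m, hm⟩ := MulAction.exists_smul_eq ↥M
      ((isPGroup_subgroupOf (L := M) (P0.isPGroup'.map _ : IsPGroup p ↥P)).toSylow hPi)
      ((isPGroup_subgroupOf (L := M) T.isPGroup').toSylow (not_dvd_relIndex_of_le T hTM))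
    have hTU : (T : Subgroup G) ≤ MulAut.conj (m : G) • U := by
      have h2 : MulAut.conj m • P.subgroupOf M = (T : Subgroup G).subgroupOf M :=
        congrArg Sylow.toSubgroup hm
      have h3 := congrArg (Subgroup.map M.subtype) h2
      rw [CfsgLib.Core.map_conj_smul, Subgroup.map_subgroupOf_eq_of_le (hPU.trans hUM),
        Subgroup.map_subgroupOf_eq_of_le hTM] at h3
      rw [← h3]
      exact CfsgLib.Core.conj_smul_le_conj_smul.mpr hPU
    have hmU : MulAut.conj (m : G) • U ≤ M := by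
      rintro _ ⟨u, hu, rfl⟩
      exact M.mul_mem (M.mul_mem m.2 (hUM hu)) (M.inv_mem m.2)
    have hall : M ≤ MulAut.conj (m : G) • U := by
      refine hmin _ hTU hmU ?_
      rw [← hMsup]
      refine sup_le ?_ le_sup_right
      calc M = MulAut.conj (m : G) • M :=
            (CfsgLib.Core.conj_smul_of_mem_normalizer (Subgroup.le_normalizer m.2)).symm
        _ ≤ MulAut.conj (m : G) • (U ⊔ C1) := CfsgLib.Core.conj_smul_le_conj_smul.mpr hUC
        _ ≤ _ := by
          rw [Subgroup.smul_sup, CfsgLib.Core.conj_smul_of_mem_normalizer (hC1n m.2)]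
          exact sup_le_sup_left inf_le_right _
    have hUtop : M ≤ U := by
      rw [← CfsgLib.Core.conj_smul_le_conj_smul (g := (m : G)),
        CfsgLib.Core.conj_smul_of_mem_normalizer (Subgroup.le_normalizer m.2)]
      exact hall
    refine hV.1 (eq_top_iff.mpr fun x _ => ?_)
    obtain ⟨x, rfl⟩ := QuotientGroup.mk'_surjective (Cfsg.pCore p ↥M) x
    obtain ⟨y, hy, hyx⟩ := hUtop x.2
    rw [← Subtype.ext (a1 := y) (a2 := x) hyx]
    exact hy
  · obtain ⟨m0, hm0, hc⟩ := hfac0 l hl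
    obtain ⟨m, hm, c, hc', rfl⟩ :=
      (CfsgLib.Core.mem_sup_iff_of_le_normalizer (hMM0.trans hM0C)).mp (hMC hm0)
    refine ⟨m, hm, ?_⟩
    have := mul_mem (PRed.centralizer_antitone hY0 hc') hc
    simpa [mul_assoc] using this

/-- The pair `(M, L*)`. -/
theorem exists_pair [Finite G] [hp : Fact p.Prime] (hG : ParCore p G) (T : Sylow p G)
    {L : Subgroup G} (hTL : (T : Subgroup G) ≤ L) (hL : L ∈ Cfsg.charPSubgroups p G) :
    ∃ M Ls : Subgroup G, (T : Subgroup G) ≤ M ∧ Cfsg.IsInFrakM p M ∧ (T : Subgroup G) ≤ Ls ∧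
      Ls ≤ M ∧ Ls ∈ Cfsg.charPSubgroups p G ∧
      Cfsg.largestPReducedOf p L = Cfsg.largestPReducedOf p Ls ∧
      Cfsg.largestPReducedOf p L ≤ Cfsg.largestPReducedOf p M ∧
      L ⊔ centralizer (Cfsg.largestPReducedOf p L : Set G) =
        Ls ⊔ centralizer (Cfsg.largestPReducedOf p L : Set G) := by
  obtain ⟨M, hTM, hM, hYle, hfac⟩ := exists_basic hG T hTL hL
  set Y := Cfsg.largestPReducedOf p L with hYdef
  set C := centralizer (Y : Set G) with hC
  have hY := red_largest (p := p) L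
  have hLc := charP_of_mem hL
  have hYne : Y ≠ ⊥ := largest_ne_bot T hLc hTL (mem_charP_iff.mp hL).1
  have hYT : Y ≤ (T : Subgroup G) := hY.le_pCoreOf.trans
    (pCoreOf_le_of_index hTL T.isPGroup' (not_dvd_relIndex_of_le T hTL))
  have hYp := isPGroup_of_elem hY.elem
  set M' := M ⊓ (L ⊔ C) with hM'
  have hM'n : M' ≤ normalizer (Y : Set G) :=
    inf_le_right.trans (sup_le hY.normalized (CfsgLib.Core.centralizer_le_normalizer Y))
  have hTM' : (T : Subgroup G) ≤ M' := le_inf hTM (hTL.trans le_sup_left)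
  have hM'm := hG.mem T hTM' (hYT.trans hTM') hM'n hYp hYne
  have hsup : M' ⊔ C = L ⊔ C := by
    refine le_antisymm (sup_le inf_le_right le_sup_right) (sup_le (fun l hl => ?_) le_sup_right)
    obtain ⟨m, hm, hc⟩ := hfac l hl
    have hm' : m ∈ M' := by
      refine Subgroup.mem_inf.mpr ⟨hm, ?_⟩
      have := mul_mem (Subgroup.mem_sup_left (T := C) hl)
        (Subgroup.mem_sup_right (S := L) (inv_mem hc))
      simpa [mul_assoc] using this
    have := mul_mem (Subgroup.mem_sup_left (T := C) hm') (Subgroup.mem_sup_right (S := M') hc)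
    simpa using this
  set T0 := (T : Subgroup G) ⊓ C with hT0
  set Ls := M' ⊓ normalizer (T0 : Set G) with hLs
  obtain ⟨hY', hfac'⟩ := Cfsg.Agent.S2824.result T L M' hTL hTM' (WC.charP_to_subtype hLc)
    (WC.charP_to_subtype (charP_of_mem hM'm)) T0 rfl hsup Ls rfl
  have hTLs : (T : Subgroup G) ≤ Ls := le_inf hTM'
    (CfsgLib.Core.le_normalizer_inf Subgroup.le_normalizer
      (CfsgLib.Core.le_normalizer_centralizer (hTL.trans hY.normalized)))
  exact ⟨M, Ls, hTM, hM, hTLs, inf_le_left.trans inf_le_left,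
    hG.mem T hTLs (hYT.trans hTLs) (inf_le_left.trans hM'n) hYp hYne, hY'.symm, hYle, hfac'⟩

/-- `O_p(M) = C_S(Y_M)` under the basic property. -/
theorem frakM_pCoreOf [Finite G] [Fact p.Prime] (S : Sylow p G) {M : Subgroup G}
    (hSM : (S : Subgroup G) ≤ M) (hM : Cfsg.IsInFrakM p M) :
    Cfsg.pCoreOf p M = (S : Subgroup G) ⊓ centralizer (Cfsg.largestPReducedOf p M : Set G) := by
  have hY := red_largest (p := p) M
  set C := centralizer (Cfsg.largestPReducedOf p M : Set G) with hC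
  refine le_antisymm (le_inf (pCoreOf_le_of_index hSM S.isPGroup'
    (not_dvd_relIndex_of_le S hSM)) hY.pCoreOf_le_centralizer) ?_
  have hn : M ≤ normalizer ((M ⊓ C : Subgroup G) : Set G) :=
    CfsgLib.Core.le_normalizer_inf Subgroup.le_normalizer hY.centralizer_normalized
  haveI := subgroupOf_normal hn
  have hcl : Cfsg.IsPClosed p ↥((M ⊓ C).subgroupOf M) := by
    refine CfsgLib.Local.PIrr.isPClosed_iff.mpr fun U hU => ?_
    let e := Subgroup.subgroupOfEquivOfLe (inf_le_left : M ⊓ C ≤ M)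
    have h1 := CfsgLib.Local.PIrr.isPClosed_iff.mp hM.2.2.2.2.1 (U.map e.toMonoidHom) (hU.map _)
    rw [← CfsgLib.Core.map_pCore_of_mulEquiv p e] at h1
    exact (Subgroup.map_le_map_iff_of_injective e.injective).mp h1
  have h2 := CfsgLib.Local.PIrr.le_pCore_of_isPClosed inferInstance hcl
    (S := ((S : Subgroup G) ⊓ C).subgroupOf M)
    (isPGroup_subgroupOf (S.isPGroup'.to_le inf_le_left))
    (fun x hx => Subgroup.mem_subgroupOf.mpr
      (Subgroup.mem_inf.mpr ⟨x.2, (Subgroup.mem_inf.mp (Subgroup.mem_subgroupOf.mp hx)).2⟩))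
  intro x hx
  exact ⟨⟨x, hSM (Subgroup.mem_inf.mp hx).1⟩, h2 (Subgroup.mem_subgroupOf.mpr hx), rfl⟩

end CfsgLib.Local.Basic
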