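import Cfsg.Agent.Lib.LocalComponent
import Cfsg.Agent.Lib.CoreSubnormal
import Cfsg.Agent.Lib.CorePGroup
import Cfsg.Agent.Lib.FgsSylowProduct
import Cfsg.Prelude.Def_LocalStructure

/-!
Characteristic `p` for overgroups of self-centralising subgroups.
-/

set_option autoImplicit false
set_option linter.style.haveILetI false

namespace CfsgLib.Local.CharP

open Subgroup
open scoped commutatorElement

universe u

variable {G : Type u} [Group G] [Finite G]

/-- If `F*(G) = O_p(G) = R` and `Q ≤ L` is a `p`-group normalised by `R` with `C_R(Q) ≤ L`,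
then `F*(L) = O_p(L)`. -/
theorem charP_overgroup {p : ℕ} [hp : Fact p.Prime]
    (hG : Cfsg.generalizedFittingSubgroup G = Cfsg.pCore p G) {Q L : Subgroup G}
    (hQ : IsPGroup p ↥Q) (hQL : Q ≤ L)
    (hRQ : Cfsg.pCore p G ≤ Subgroup.normalizer (Q : Set G))
    (hC : Cfsg.pCore p G ⊓ Subgroup.centralizer (Q : Set G) ≤ L) :
    Cfsg.generalizedFittingSubgroup ↥L = Cfsg.pCore p ↥L := by
  set R := Cfsg.pCore p G with hR
  haveI hRn : R.Normal := CfsgLib.Core.normal_pCore p
  have hRp : IsPGroup p ↥R := CfsgLib.Core.isPGroup_pCore p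
  have hCR : ∀ x : G, x ∈ Subgroup.centralizer (R : Set G) → x ∈ R := by
    intro x hx
    have h := CfsgLib.Core.centralizer_generalizedFitting_le (G := G)
    rw [hG] at h
    exact h hx
  -- the elements of `G` centralising `R ∩ L`
  set C₀ := Subgroup.centralizer ((R ⊓ L : Subgroup G) : Set G) with hC₀
  have hp_of : ∀ x : G, (orderOf x).Coprime p → x ∈ Subgroup.centralizer (R : Set G) → x = 1 := by
    intro x hcop hx
    obtain ⟨k, hk⟩ := hRp ⟨x, hCR x hx⟩
    have hd : orderOf x ∣ p ^ k := orderOf_dvd_of_pow_eq_one (congrArg Subtype.val hk)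
    exact orderOf_eq_one_iff.mp (Nat.Coprime.eq_one_of_dvd (hcop.pow_right k) hd)
  -- (a) elements commuting with `Q`
  have hA : ∀ x : G, x ∈ C₀ → (orderOf x).Coprime p → x ∈ Subgroup.centralizer (Q : Set G) →
      x = 1 := by
    intro x hx0 hcop hxQ
    refine hp_of x hcop (CfsgLib.Local.Comp.thompson_AxB_elem (hRp.to_sup_of_normal_left hQ)
      le_sup_left le_sup_right (by rw [Subgroup.normalizer_eq_top (H := R)]; exact le_top) hRn
      hcop hxQ ?_)
    exact Subgroup.centralizer_le (SetLike.coe_subset_coe.mpr (le_inf inf_le_left hC)) hx0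
  -- (b) the commutator with `Q`
  have hB : ∀ K : Subgroup ↥L, K.Normal → K.map L.subtype ≤ C₀ →
      IsPGroup p ↥⁅Q.subgroupOf L, K⁆ := by
    intro K hK hK0
    let P : G → Prop := fun x => ∀ r ∈ R, x * r * x⁻¹ * r⁻¹ ∈ R ⊓ L
    have hcomm : ∀ q ∈ Q, ∀ k ∈ K.map L.subtype, P ⁅q, k⁆ := by
      intro q hq k hk r hr
      have hnorm : ∀ d ∈ R ⊓ L, q * d * q⁻¹ ∈ R ⊓ L := fun d hd => by
        obtain ⟨h1, h2⟩ := Subgroup.mem_inf.mp hd
        exact Subgroup.mem_inf.mpr ⟨hRn.conj_mem d h1 q,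
          mul_mem (mul_mem (hQL hq) h2) (inv_mem (hQL hq))⟩
      have hfix : ∀ d ∈ R ⊓ L, k * d * k⁻¹ = d := fun d hd => by
        rw [mul_inv_eq_iff_eq_mul]
        exact (Subgroup.mem_centralizer_iff.mp (hK0 hk) d hd).symm
      set r₂ := k⁻¹ * r * k with hr₂
      have hr₂R : r₂ ∈ R := by simpa [hr₂] using hRn.conj_mem r hr k⁻¹
      have hd : ∀ q ∈ Q, ∀ s ∈ R, q * s * q⁻¹ * s⁻¹ ∈ R ⊓ L := fun q hq s hs =>
        Subgroup.mem_inf.mpr ⟨mul_mem (hRn.conj_mem s hs q) (inv_mem hs), by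
          have := (Subgroup.mem_normalizer_iff.mp (hRQ hs) q⁻¹).mp (inv_mem hq)
          simpa [mul_assoc] using hQL (mul_mem hq this)⟩
      set d := q⁻¹ * r₂ * q * r₂⁻¹ with hdd
      have hdL : d ∈ R ⊓ L := by simpa [hdd] using hd q⁻¹ (inv_mem hq) r₂ hr₂R
      have key : ⁅q, k⁆ * r * ⁅q, k⁆⁻¹ * r⁻¹ = (q * d * q⁻¹) * (q * r * q⁻¹ * r⁻¹) := by
        calc ⁅q, k⁆ * r * ⁅q, k⁆⁻¹ * r⁻¹
            = q * (k * (d * r₂) * k⁻¹) * q⁻¹ * r⁻¹ := by
              rw [commutatorElement_def, hdd, hr₂]; group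
          _ = q * ((k * d * k⁻¹) * r) * q⁻¹ * r⁻¹ := by rw [hr₂]; group
          _ = (q * d * q⁻¹) * (q * r * q⁻¹ * r⁻¹) := by rw [hfix d hdL]; group
      rw [key]
      exact mul_mem (hnorm d hdL) (hd q hq r hr)
    let M : Subgroup G :=
      { carrier := {x | P x ∧ x ∈ C₀}
        one_mem' := ⟨fun r _ => by simp [one_mem], one_mem _⟩
        mul_mem' := by
          rintro x y ⟨hx, hx0⟩ ⟨hy, hy0⟩
          refine ⟨fun r hr => ?_, mul_mem hx0 hy0⟩
          set d := y * r * y⁻¹ * r⁻¹ with hdy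
          have hdL := hy r hr
          have hfix : x * d * x⁻¹ = d := by
            rw [mul_inv_eq_iff_eq_mul]
            exact (Subgroup.mem_centralizer_iff.mp hx0 d hdL).symm
          have : x * y * r * (x * y)⁻¹ * r⁻¹ = d * (x * r * x⁻¹ * r⁻¹) := by
            calc x * y * r * (x * y)⁻¹ * r⁻¹ = (x * d * x⁻¹) * (x * r * x⁻¹ * r⁻¹) := by
                  rw [hdy]; group
              _ = d * (x * r * x⁻¹ * r⁻¹) := by rw [hfix]
          rw [this]
          exact mul_mem hdL (hx r hr)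
        inv_mem' := by
          rintro x ⟨hx, hx0⟩
          refine ⟨fun r hr => ?_, inv_mem hx0⟩
          set s := x⁻¹ * r * x with hs
          have hsR : s ∈ R := by simpa [hs] using hRn.conj_mem r hr x⁻¹
          have h1 := hx s hsR
          have h2 : r * s⁻¹ = x * s * x⁻¹ * s⁻¹ := by rw [hs]; group
          have : x⁻¹ * r * x⁻¹⁻¹ * r⁻¹ = (r * s⁻¹)⁻¹ := by rw [hs]; group
          rw [this, h2]
          exact inv_mem h1 }
    have hle : (⁅Q.subgroupOf L, K⁆ : Subgroup ↥L).map L.subtype ≤ M := by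
      rw [Subgroup.map_commutator, Subgroup.commutator_le]
      rintro q ⟨q', hq', rfl⟩ k hk
      refine ⟨hcomm _ (Subgroup.mem_subgroupOf.mp hq') k hk, ?_⟩
      obtain ⟨k', hk', rfl⟩ := hk
      have hmem : ⁅q', k'⁆ ∈ K := Subgroup.commutator_le_right (Q.subgroupOf L) K
        (Subgroup.commutator_mem_commutator hq' hk')
      have := hK0 (Subgroup.mem_map_of_mem L.subtype hmem)
      rwa [map_commutatorElement] at this
    intro ⟨x, hx⟩
    obtain ⟨hxP, hx0⟩ := hle ⟨x, hx, rfl⟩
    -- a `p'`-element stabilising the chain centralises `R`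
    obtain ⟨j, m, hm, hjm⟩ := Nat.exists_eq_pow_mul_and_not_dvd
      (isOfFinOrder_of_finite (x : G)).orderOf_pos.ne' p hp.out.ne_one
    set y := (x : G) ^ p ^ j with hy
    have hym : orderOf y = m := by
      rw [hy, orderOf_pow, hjm, Nat.gcd_mul_right_left,
        Nat.mul_div_cancel_left m (pow_pos hp.out.pos j)]
    have hycop : (orderOf y).Coprime p := by
      rw [hym]; exact ((Nat.Prime.coprime_iff_not_dvd hp.out).2 hm).symm
    obtain ⟨hyP, hy0⟩ : y ∈ M := M.pow_mem ⟨hxP, hx0⟩ _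
    have hycent : y ∈ Subgroup.centralizer (R : Set G) := by
      rw [Subgroup.mem_centralizer_iff]
      intro r hr
      set d := y * r * y⁻¹ * r⁻¹ with hd
      have hdL : d ∈ R ⊓ L := hyP r hr
      have hfix : y * d * y⁻¹ = d := by
        rw [mul_inv_eq_iff_eq_mul]
        exact (Subgroup.mem_centralizer_iff.mp hy0 d hdL).symm
      have hpow : ∀ n : ℕ, y ^ n * r * (y ^ n)⁻¹ = d ^ n * r := by
        intro n
        induction n with
        | zero => simp
        | succ n ih =>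
          have hn : y * d ^ n * y⁻¹ = d ^ n := by rw [← conj_pow, hfix]
          calc y ^ (n + 1) * r * (y ^ (n + 1))⁻¹ = y * (y ^ n * r * (y ^ n)⁻¹) * y⁻¹ := by
                rw [pow_succ']; group
            _ = y * (d ^ n * r) * y⁻¹ := by rw [ih]
            _ = (y * d ^ n * y⁻¹) * (y * r * y⁻¹ * r⁻¹) * r := by group
            _ = d ^ (n + 1) * r := by rw [hn, ← hd, pow_succ]
      have h1 := hpow (orderOf y)
      rw [pow_orderOf_eq_one] at h1
      have hd1 : d ^ orderOf y = 1 := by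
        have := congrArg (· * r⁻¹) h1
        simpa using this.symm
      obtain ⟨k, hk⟩ := hRp ⟨d, (Subgroup.mem_inf.mp hdL).1⟩
      have hdd : orderOf d ∣ p ^ k := orderOf_dvd_of_pow_eq_one (congrArg Subtype.val hk)
      have hd0 : d = 1 := orderOf_eq_one_iff.mp
        (Nat.eq_one_of_dvd_coprimes (hycop.pow_right k) (orderOf_dvd_of_pow_eq_one hd1) hdd)
      rw [hd, mul_inv_eq_one, mul_inv_eq_iff_eq_mul] at hd0
      exact hd0.symm
    exact ⟨j, Subtype.ext (Subtype.ext (hp_of y hycop hycent))⟩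
  have hRL : (R ⊓ L).subgroupOf L = R.subgroupOf L := Subgroup.inf_subgroupOf_right R L
  have hcent : ∀ K : Subgroup ↥L, K ≤ Subgroup.centralizer (R.subgroupOf L : Set ↥L) →
      K.map L.subtype ≤ C₀ := by
    rintro K hK _ ⟨x, hx, rfl⟩
    rw [hC₀, Subgroup.mem_centralizer_iff]
    intro r hr
    obtain ⟨hr1, hr2⟩ := Subgroup.mem_inf.mp hr
    exact congrArg Subtype.val (Subgroup.mem_centralizer_iff.mp (hK hx) ⟨r, hr2⟩
      (Subgroup.mem_subgroupOf.mpr hr1))
  have hRLn : (R.subgroupOf L).Normal := hRn.subgroupOf L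
  have hRLp : IsPGroup p ↥(R.subgroupOf L) := hRp.comap_subtype
  have hfin : ∀ K : Subgroup ↥L, K.map L.subtype ≤ C₀ →
      ⁅Q.subgroupOf L, K⁆ = ⊥ → ∀ x ∈ K, (orderOf x).Coprime p → x = 1 := by
    intro K hK0 hKQ x hx hcop
    refine Subtype.ext (hA x (hK0 ⟨x, hx, rfl⟩) (by rwa [Subgroup.orderOf_coe]) ?_)
    rw [Subgroup.mem_centralizer_iff]
    intro q hq
    exact congrArg Subtype.val
      ((Subgroup.mem_centralizer_iff.mp (Subgroup.commutator_eq_bot_iff_le_centralizer.mp
        (by rw [Subgroup.commutator_comm]; exact hKQ) hx) ⟨q, hQL hq⟩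
        (Subgroup.mem_subgroupOf.mpr hq)))
  rw [CfsgLib.Local.Comp.charP_iff]
  constructor
  · intro K₀ hK₀
    set E := Cfsg.layer ↥L with hE
    haveI : E.Normal := CfsgLib.Core.normal_layer
    haveI : Group.IsNilpotent ↥(R.subgroupOf L) := hRLp.isNilpotent
    have hE0 := hcent E (Subgroup.commutator_eq_bot_iff_le_centralizer.mp
      (CfsgLib.Core.commutator_layer_of_subnormal_solvable hRLn.isSubnormal inferInstance))
    set M := ⁅Q.subgroupOf L, E⁆ with hM
    have hME : M ≤ E := Subgroup.commutator_le_right _ _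
    have hMn : E ≤ Subgroup.normalizer (M : Set ↥L) :=
      CfsgLib.Core.le_normalizer_commutator_right _ _
    have hMsn : M.IsSubnormal := Subgroup.IsSubnormal.trans hME
      ((Subgroup.normal_subgroupOf_iff_le_normalizer hME).mpr hMn).isSubnormal
      (inferInstance : E.Normal).isSubnormal
    haveI := (hB E inferInstance hE0).isNilpotent
    have hEM : ⁅⁅Q.subgroupOf L, E⁆, E⁆ = ⊥ := by
      rw [Subgroup.commutator_comm]
      exact CfsgLib.Core.commutator_layer_of_subnormal_solvable hMsn inferInstance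
    have hQE : ⁅Q.subgroupOf L, E⁆ = ⊥ := by
      have h3 : ⁅⁅E, E⁆, Q.subgroupOf L⁆ = ⊥ := Subgroup.commutator_commutator_eq_bot_of_rotate
        (by rwa [Subgroup.commutator_comm E]) hEM
      rw [CfsgLib.Core.layer_perfect, Subgroup.commutator_comm] at h3
      exact h3
    refine CfsgLib.Core.component_ne_bot hK₀ (le_bot_iff.mp ?_)
    exact CfsgLib.Local.Comp.perfect_le_of_pPrime_elems (p := p)
      (CfsgLib.Core.isPerfect_of_component hK₀) fun x hx hc =>
        Subgroup.mem_bot.mpr (hfin E hE0 hQE x (CfsgLib.Core.component_le_layer hK₀ hx) hc)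
  · intro q hq hqp
    haveI := Fact.mk hq
    haveI := CfsgLib.Core.normal_pCore (G := ↥L) q
    have hK0 := hcent (Cfsg.pCore q ↥L) fun x hx => by
      rw [Subgroup.mem_centralizer_iff]
      intro s hs
      exact Subgroup.commute_of_normal_of_disjoint (R.subgroupOf L) _ hRLn inferInstance
        (IsPGroup.disjoint_of_ne p q (Ne.symm hqp) _ _ hRLp
          (CfsgLib.Core.isPGroup_pCore q)) s x hs hx
    have hQK : ⁅Q.subgroupOf L, Cfsg.pCore q ↥L⁆ = ⊥ := disjoint_self.mp
      ((IsPGroup.disjoint_of_ne p q (Ne.symm hqp) _ _ (hB _ inferInstance hK0)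
        (CfsgLib.Core.isPGroup_pCore q)).mono_right (Subgroup.commutator_le_right _ _))
    rw [eq_bot_iff]
    intro x hx
    refine Subgroup.mem_bot.mpr (hfin _ hK0 hQK x hx ?_)
    obtain ⟨k, hk⟩ := (CfsgLib.Core.isPGroup_pCore (G := ↥L) q) ⟨x, hx⟩
    exact Nat.Coprime.coprime_dvd_left (orderOf_dvd_of_pow_eq_one (congrArg Subtype.val hk))
      (((Nat.coprime_primes hq hp.out).mpr hqp).pow_left k)

/-- A `p`-perfect normal subgroup controls characteristic `p`. -/
theorem charP_of_residual_normal {p : ℕ} [hp : Fact p.Prime]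
    (hG : Cfsg.generalizedFittingSubgroup G = Cfsg.pCore p G) {H D : Subgroup G} (hDH : D ≤ H)
    (hD : D.Normal) (hgen : ∀ x ∈ H, (orderOf x).Coprime p → x ∈ D) :
    Cfsg.generalizedFittingSubgroup ↥H = Cfsg.pCore p ↥H := by
  have h := CfsgLib.Local.Comp.charP_of_isSubnormal hD.isSubnormal hG
  have h' := CfsgLib.Local.Comp.charP_congr p (Subgroup.subgroupOfEquivOfLe hDH).symm h
  obtain ⟨h1, h2⟩ := (CfsgLib.Local.Comp.charP_iff (G := ↥(D.subgroupOf H)) p).mp h'
  haveI : (D.subgroupOf H).Normal := hD.subgroupOf H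
  rw [CfsgLib.Local.Comp.charP_iff]
  constructor
  · intro K hK
    refine h1 _ (CfsgLib.Core.IsComponent_subgroupOf hK
      (CfsgLib.Local.Comp.perfect_le_of_pPrime_elems (p := p)
        (CfsgLib.Core.isPerfect_of_component hK) fun x _ hc =>
          Subgroup.mem_subgroupOf.mpr (hgen x x.2 (by rwa [Subgroup.orderOf_coe]))))
  · intro q hq hqp
    haveI := Fact.mk hq
    haveI := CfsgLib.Core.normal_pCore (G := ↥H) q
    have hle : Cfsg.pCore q ↥H ≤ D.subgroupOf H := fun x hx => by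
      obtain ⟨k, hk⟩ := (CfsgLib.Core.isPGroup_pCore (G := ↥H) q) ⟨x, hx⟩
      refine Subgroup.mem_subgroupOf.mpr (hgen x x.2 ?_)
      rw [Subgroup.orderOf_coe]
      exact Nat.Coprime.coprime_dvd_left (orderOf_dvd_of_pow_eq_one (congrArg Subtype.val hk))
        (((Nat.coprime_primes hq hp.out).mpr hqp).pow_left k)
    have h4 : (Cfsg.pCore q ↥H).subgroupOf (D.subgroupOf H) ≤ ⊥ := by
      rw [← h2 q hq hqp]
      exact CfsgLib.Core.le_pCore ((inferInstance : (Cfsg.pCore q ↥H).Normal).subgroupOf _)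
        (CfsgLib.Core.isPGroup_pCore q).comap_subtype
    have := Subgroup.map_mono (f := (D.subgroupOf H).subtype) h4
    rwa [Subgroup.map_subgroupOf_eq_of_le hle, Subgroup.map_bot, le_bot_iff] at this

/-- Parabolic characteristic `p` gives centralisers of elements of `Z(S)` characteristic `p`. -/
theorem parabolic_centralizer {p : ℕ} [hp : Fact p.Prime]
    (hG : Cfsg.IsOfParabolicCharacteristic p G) (S : Sylow p G) {z : G} (hz1 : z ≠ 1)
    (hzS : z ∈ (S : Subgroup G))
    (hzC : z ∈ Subgroup.centralizer ((S : Subgroup G) : Set G)) :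
    Cfsg.generalizedFittingSubgroup ↥(Subgroup.centralizer ({z} : Set G)) =
      Cfsg.pCore p ↥(Subgroup.centralizer ({z} : Set G)) := by
  set R := Subgroup.zpowers z with hR
  have hRS : R ≤ (S : Subgroup G) := Subgroup.zpowers_le.mpr hzS
  have hR1 : R ≠ ⊥ := fun h => hz1 (Subgroup.zpowers_eq_bot.mp h)
  have hSN : (S : Subgroup G) ≤ Subgroup.normalizer (R : Set G) :=
    (Subgroup.le_centralizer_iff.mp (Subgroup.zpowers_le.mpr hzC)).trans
      (Subgroup.centralizer_le_normalizer _)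
  have hN := (CfsgLib.Local.Comp.charP_iff_centralizer p).mpr
    (hG R (S.isPGroup'.to_le hRS) hR1 ⟨S, hSN⟩)
  have hCeq : Subgroup.centralizer ({z} : Set G) = Subgroup.centralizer (R : Set G) := by
    rw [hR, Subgroup.zpowers_eq_closure, Subgroup.centralizer_closure]
  have hn : ((Subgroup.centralizer (R : Set G)).subgroupOf
      (Subgroup.normalizer (R : Set G))).Normal :=
    Subgroup.normal_subgroupOf_centralizer_normalizer (s := (R : Set G))
  exact CfsgLib.Local.Comp.charP_congr p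
    ((Subgroup.subgroupOfEquivOfLe (Subgroup.centralizer_le_normalizer (R : Set G))).trans
      (MulEquiv.subgroupCongr hCeq.symm))
    (CfsgLib.Local.Comp.charP_of_isSubnormal hn.isSubnormal hN)

/-- Parabolic characteristic `p` from the centralisers of the elements of order `p` of `Z(S)`. -/
theorem parabolic_of_centralizers {p : ℕ} [hp : Fact p.Prime] (S : Sylow p G)
    (h : ∀ z : G, z ∈ (S : Subgroup G) → z ∈ Subgroup.centralizer ((S : Subgroup G) : Set G) →
      orderOf z = p → Cfsg.generalizedFittingSubgroup ↥(Subgroup.centralizer ({z} : Set G)) =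
        Cfsg.pCore p ↥(Subgroup.centralizer ({z} : Set G))) :
    Cfsg.IsOfParabolicCharacteristic p G := by
  intro R hR hR1 hpar
  rw [← CfsgLib.Local.Comp.charP_iff_centralizer]
  obtain ⟨T, hT⟩ := hpar
  set N := Subgroup.normalizer (R : Set G) with hN
  have hRN : R ≤ N := Subgroup.le_normalizer
  have hRn : (R.subgroupOf N).Normal :=
    (Subgroup.normal_subgroupOf_iff_le_normalizer hRN).mpr le_rfl
  have hRT : R ≤ (T : Subgroup G) := by
    intro r hr
    have h1 : R.subgroupOf N ≤ (T.subtype hT : Subgroup ↥N) :=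
      (CfsgLib.Core.le_pCore hRn hR.comap_subtype).trans (CfsgLib.Core.pCore_le_sylow _)
    have h2 := h1 (Subgroup.mem_subgroupOf.mpr hr : (⟨r, hRN hr⟩ : ↥N) ∈ R.subgroupOf N)
    rwa [Sylow.coe_subtype, Subgroup.mem_subgroupOf] at h2
  set Z := R.subgroupOf (T : Subgroup G) ⊓ Subgroup.center ↥(T : Subgroup G) with hZ
  have hmeet : Z ≠ ⊥ := by
    haveI : Group.IsNilpotent ↥(T : Subgroup G) := T.isPGroup'.isNilpotent
    haveI : (R.subgroupOf (T : Subgroup G)).Normal :=
      (Subgroup.normal_subgroupOf_iff_le_normalizer hRT).mpr hT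
    refine CfsgLib.Core.nilpotent_inf_center_ne_bot fun h0 => hR1 ?_
    have := congrArg (Subgroup.map (T : Subgroup G).subtype) h0
    rwa [Subgroup.map_subgroupOf_eq_of_le hRT, Subgroup.map_bot] at this
  haveI := (Subgroup.nontrivial_iff_ne_bot _).mpr hmeet
  obtain ⟨k, hk⟩ := IsPGroup.iff_card.mp (T.isPGroup'.to_subgroup Z)
  have hk0 : k ≠ 0 := fun h0 => by
    have := Finite.one_lt_card (α := ↥Z)
    rw [hk, h0, pow_zero] at this; omega
  obtain ⟨⟨z, hzm⟩, hz⟩ := exists_prime_orderOf_dvd_card' (G := ↥Z) p (hk ▸ dvd_pow_self p hk0)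
  obtain ⟨hzR, hzZ⟩ := Subgroup.mem_inf.mp hzm
  obtain ⟨g, hg⟩ := MulAction.exists_smul_eq G T S
  have hgS : ∀ x, x ∈ (S : Subgroup G) ↔ g⁻¹ * x * g ∈ (T : Subgroup G) := fun x => by
    rw [← hg, Sylow.coe_subgroup_smul, CfsgLib.Core.mem_conj_smul]
  set z' := g * (z : G) * g⁻¹ with hz'
  have hord : orderOf z' = p := by
    rw [hz', show g * (z : G) * g⁻¹ = (MulAut.conj g).toMonoidHom (z : G) from rfl,
      orderOf_injective _ (MulAut.conj g).injective, Subgroup.orderOf_coe]
    rw [← Subgroup.orderOf_coe] at hz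
    exact hz
  have hC : Cfsg.generalizedFittingSubgroup ↥(Subgroup.centralizer ({(z : G)} : Set G)) =
      Cfsg.pCore p ↥(Subgroup.centralizer ({(z : G)} : Set G)) := by
    have := CfsgLib.Local.Comp.charP_centralizer_conj g⁻¹ z' (h z'
      (by rw [hgS]; simp [hz', mul_assoc]) (by
        rw [Subgroup.mem_centralizer_iff]
        intro s hs
        have hc : g⁻¹ * s * g * (z : G) = (z : G) * (g⁻¹ * s * g) := congrArg Subtype.val
          (Subgroup.mem_center_iff.mp hzZ ⟨_, (hgS s).mp hs⟩)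
        calc s * z' = g * (g⁻¹ * s * g * (z : G)) * g⁻¹ := by rw [hz']; group
          _ = g * ((z : G) * (g⁻¹ * s * g)) * g⁻¹ := by rw [hc]
          _ = z' * s := by rw [hz']; group) hord)
    have he : g⁻¹ * z' * g⁻¹⁻¹ = (z : G) := by rw [hz']; group
    rwa [he] at this
  refine CfsgLib.Local.Comp.charP_normalizer_of_between hR (fun x hx => ?_)
    (Subgroup.centralizer_le (Set.singleton_subset_iff.mpr (Subgroup.mem_subgroupOf.mp hzR))) hC
  rw [Subgroup.mem_centralizer_singleton_iff]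
  exact congrArg Subtype.val (Subgroup.mem_center_iff.mp hzZ ⟨x, hRT hx⟩)

private theorem exists_sylow_subnormal_aux {p : ℕ} [Fact p.Prime] : ∀ (n : ℕ) (G : Type u)
    [Group G] [Finite G], Nat.card G = n → ∀ (S : Sylow p G) (K : Subgroup G), K.IsSubnormal →
      ∃ Q : Sylow p ↥K, (Q : Subgroup ↥K) = (S : Subgroup G).subgroupOf K := by
  intro n
  induction n using Nat.strong_induction_on with
  | _ n ih =>
  intro G _ _ hn S K hK
  subst hn
  rcases hK.lt_normal with rfl | ⟨N, hN, hKN, hN'⟩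
  · exact ⟨S.subtype le_top, Sylow.coe_subtype ..⟩
  haveI := hN
  obtain ⟨Q, hQ⟩ := CfsgLib.SylowProd.sylow_inf_normal N S
  rw [Subgroup.inf_subgroupOf_right] at hQ
  have hlt : Nat.card ↥N < Nat.card G := by
    rw [← N.card_mul_index]
    exact lt_mul_of_one_lt_right Nat.card_pos (Subgroup.one_lt_index_of_ne_top hN'.ne)
  obtain ⟨Q', hQ'⟩ := ih _ hlt ↥N rfl Q (K.subgroupOf N) hK.subgroupOf
  set e := Subgroup.subgroupOfEquivOfLe hKN with he
  refine ⟨Q'.mapSurjective (f := e.toMonoidHom) e.surjective, ?_⟩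
  show (Q' : Subgroup ↥(K.subgroupOf N)).map e.toMonoidHom = _
  rw [hQ', hQ]
  ext x
  simp only [Subgroup.mem_map, Subgroup.mem_subgroupOf]
  constructor
  · rintro ⟨y, hy, rfl⟩
    exact hy
  · intro hx
    exact ⟨e.symm x, hx, e.apply_symm_apply x⟩

/-- A Sylow subgroup meets a subnormal subgroup in a Sylow subgroup of it. -/
theorem exists_sylow_subnormal {p : ℕ} [Fact p.Prime] (S : Sylow p G) {K : Subgroup G}
    (hK : K.IsSubnormal) :
    ∃ Q : Sylow p ↥K, (Q : Subgroup ↥K) = (S : Subgroup G).subgroupOf K :=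
  exists_sylow_subnormal_aux _ G rfl S K hK

/-- Parabolic characteristic for a subnormal subgroup `K` when `Ω₁Z(S ∩ K) ≤ Z(S)`. -/
theorem parabolic_of_isSubnormal {p : ℕ} [hp : Fact p.Prime]
    (hG : Cfsg.IsOfParabolicCharacteristic p G) (S : Sylow p G) {K : Subgroup G}
    (hK : K.IsSubnormal)
    (hle : ∀ z : G, orderOf z = p → z ∈ (S : Subgroup G) ⊓ K →
      z ∈ Subgroup.centralizer (((S : Subgroup G) ⊓ K : Subgroup G) : Set G) →
      z ∈ Subgroup.centralizer ((S : Subgroup G) : Set G)) :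
    Cfsg.IsOfParabolicCharacteristic p ↥K := by
  obtain ⟨Q, hQ⟩ := exists_sylow_subnormal S hK
  refine parabolic_of_centralizers Q fun z hz hzc hord => ?_
  rw [hQ] at hz hzc
  have hzS : (z : G) ∈ (S : Subgroup G) := Subgroup.mem_subgroupOf.mp hz
  have hord' : orderOf (z : G) = p := by rw [Subgroup.orderOf_coe, hord]
  have hzC : (z : G) ∈ Subgroup.centralizer ((S : Subgroup G) : Set G) := by
    refine hle _ hord' (Subgroup.mem_inf.mpr ⟨hzS, z.2⟩) ?_
    rw [Subgroup.mem_centralizer_iff]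
    intro y hy
    obtain ⟨hy1, hy2⟩ := Subgroup.mem_inf.mp hy
    exact congrArg Subtype.val (Subgroup.mem_centralizer_iff.mp hzc ⟨y, hy2⟩
      (Subgroup.mem_subgroupOf.mpr hy1))
  have h1 : (z : G) ≠ 1 := fun h => by
    rw [h, orderOf_one] at hord'
    exact hp.out.one_lt.ne hord'
  set C := Subgroup.centralizer ({(z : G)} : Set G) with hC
  have h2 := CfsgLib.Local.Comp.charP_of_isSubnormal (hK.subgroupOf (K := C))
    (parabolic_centralizer hG S h1 hzS hzC)
  have e : ↥(K.subgroupOf C) ≃* ↥(Subgroup.centralizer ({z} : Set ↥K)) :=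
    (MulEquiv.subgroupCongr (Subgroup.inf_subgroupOf_right K C).symm).trans
      ((Subgroup.subgroupOfEquivOfLe (inf_le_right : K ⊓ C ≤ C)).trans
        ((Subgroup.subgroupOfEquivOfLe (inf_le_left : K ⊓ C ≤ K)).symm.trans
          (MulEquiv.subgroupCongr (by
            ext x
            rw [Subgroup.mem_subgroupOf, Subgroup.mem_centralizer_singleton_iff, Subgroup.mem_inf,
              hC, Subgroup.mem_centralizer_singleton_iff]
            exact ⟨fun h => Subtype.ext h.2, fun h => ⟨x.2, congrArg Subtype.val h⟩⟩))))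
  exact CfsgLib.Local.Comp.charP_congr p e h2

end CfsgLib.Local.CharP
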