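import Mathlib
import Cfsg.Agent.Lib.LocalPGVBase
import Cfsg.Agent.Lib.CoreBasic
import Cfsg.Agent.Lib.StableReplace
import Cfsg.Agent.Lib.StableZJ

/-!
# Offenders in a group whose 2-subgroups act quadratically

An offender in such a group gives a spread, hence an element of order three inverted by an involution.
-/

set_option autoImplicit false

namespace CfsgLib.Local.QuadThree

open CfsgLib.Core CfsgLib.Stable CfsgLib.Local.PGV

variable {X : Type*} [Group X] [Finite X] {V : Type*} [AddCommGroup V] [Finite V]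
  [Module (ZMod 2) V] (ρ : Representation (ZMod 2) X V)

/-- The conjugate of a subgroup. -/
def conjSub (g : X) (F : Subgroup X) : Subgroup X := F.map (MulAut.conj g).toMonoidHom

omit [Finite X] in
theorem add_self_zero (v : V) : v + v = 0 := by
  have h := p_nsmul (p := 2) v
  rwa [two_nsmul] at h

theorem card_sup_mul_card_inf_le (A B : AddSubgroup V) :
    Nat.card ↥(A ⊔ B) * Nat.card ↥(A ⊓ B) ≤ Nat.card ↥A * Nat.card ↥B := by
  let f : ↥A × ↥B →+ V := A.subtype.coprod B.subtype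
  have h := AddSubgroup.card_eq_card_quotient_mul_card_addSubgroup f.ker
  rw [Nat.card_congr (QuotientAddGroup.quotientKerEquivRange f).toEquiv] at h
  have h1 : Nat.card ↥(A ⊔ B) ≤ Nat.card ↥f.range := by
    refine Nat.card_le_card_of_injective _ (AddSubgroup.inclusion_injective (sup_le ?_ ?_))
    · exact fun a ha => ⟨(⟨a, ha⟩, 0), by simp [f]⟩
    · exact fun b hb => ⟨(0, ⟨b, hb⟩), by simp [f]⟩
  have h2 : Nat.card ↥(A ⊓ B) ≤ Nat.card ↥f.ker := by
    refine Nat.card_le_card_of_injective (fun x => (⟨(⟨x.1, x.2.1⟩, -⟨x.1, x.2.2⟩), ?_⟩ : ↥f.ker)) ?_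
    · simp [f]
    · intro a b hab
      exact Subtype.ext (congrArg (fun z : ↥f.ker => ((z.1.1 : ↥A) : V)) hab)
  calc _ ≤ Nat.card ↥f.range * Nat.card ↥f.ker := Nat.mul_le_mul h1 h2
    _ = _ := by rw [← h, Nat.card_prod]

theorem card_fixSet_conj (F : Subgroup X) (g : X) :
    Nat.card ↥(fixSet ρ ((conjSub g F : Subgroup X) : Set X)) = Nat.card ↥(fixSet ρ (F : Set X)) := by
  refine Nat.card_congr
    { toFun := fun v => ⟨ρ g⁻¹ v, (mem_fixSet ρ).2 fun c hc => ?_⟩
      invFun := fun v => ⟨ρ g v, (mem_fixSet ρ).2 fun c hc => ?_⟩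
      left_inv := fun v => Subtype.ext (by simp)
      right_inv := fun v => Subtype.ext (by simp) }
  · have := (mem_fixSet ρ).1 v.2 (g * c * g⁻¹) ⟨c, hc, rfl⟩
    rw [← rho_mul, show c * g⁻¹ = g⁻¹ * (g * c * g⁻¹) by group, rho_mul, this]
  · obtain ⟨d, hd, rfl⟩ := hc
    show ρ (g * d * g⁻¹) (ρ g v) = ρ g v
    rw [← rho_mul, inv_mul_cancel_right, rho_mul, (mem_fixSet ρ).1 v.2 d hd]

theorem mem_fixSet_conj (F : Subgroup X) (g : X) {v : V} (hv : v ∈ fixSet ρ (F : Set X)) :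
    ρ g v ∈ fixSet ρ ((conjSub g F : Subgroup X) : Set X) := by
  refine (mem_fixSet ρ).2 ?_
  rintro _ ⟨d, hd, rfl⟩
  show ρ (g * d * g⁻¹) (ρ g v) = ρ g v
  rw [← rho_mul, inv_mul_cancel_right, rho_mul, (mem_fixSet ρ).1 hv d hd]

set_option maxHeartbeats 1600000 in
/-- An offender in a group with quadratic 2-subgroups and trivial 2-core gives an involution
inverting an element of order three. -/
theorem exists_inverted_three (hf : Function.Injective ρ)
    (hquad : ∀ R : Subgroup X, IsPGroup 2 ↥R → ∀ a ∈ R, ∀ b ∈ R, ∀ v,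
      ρ a (ρ b v - v) = ρ b v - v)
    (hO : Cfsg.pCore 2 X = ⊥) (A₀ : Subgroup X) (hA₀p : IsPGroup 2 ↥A₀) (hA₀1 : A₀ ≠ ⊥)
    (hA₀V : Nat.card V ≤ Nat.card ↥A₀ * Nat.card ↥(fixSet ρ (A₀ : Set X))) :
    ∃ t k : X, t * t = 1 ∧ k ≠ 1 ∧ k ^ 3 = 1 ∧ t * k * t = k⁻¹ := by
  classical
  haveI : Fact (Nat.Prime 2) := ⟨Nat.prime_two⟩
  have hfaith : ∀ g : X, (∀ v, ρ g v = v) → g = 1 := fun g h =>
    hf (LinearMap.ext fun v => by rw [h v, map_one]; rfl)
  -- 2-subgroups are elementary abelian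
  have hab : ∀ R : Subgroup X, IsPGroup 2 ↥R → ∀ a ∈ R, ∀ b ∈ R, a * b = b * a := by
    intro R hR a ha b hb
    have h : ∀ a ∈ R, ∀ b ∈ R, ∀ v, ρ (a * b) v = (ρ a v - v) + (ρ b v - v) + v := by
      intro a ha b hb v
      have h1 := hquad R hR a ha b hb v
      rw [map_sub] at h1
      rw [rho_mul]
      calc ρ a (ρ b v) = (ρ a (ρ b v) - ρ a v) + ρ a v := by abel
        _ = (ρ b v - v) + ρ a v := by rw [h1]
        _ = _ := by abel
    refine hf (LinearMap.ext fun v => ?_)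
    rw [h a ha b hb v, h b hb a ha v]
    abel
  have hsq : ∀ R : Subgroup X, IsPGroup 2 ↥R → ∀ a ∈ R, a * a = 1 := by
    intro R hR a ha
    refine hfaith _ fun v => ?_
    have h1 := hquad R hR a ha a ha v
    have h2 := pow_apply_of_sub_fixed ρ h1 2
    rwa [pow_two, p_nsmul (p := 2), add_zero] at h2
  have hfix_le : ∀ R : Subgroup X, IsPGroup 2 ↥R → ∀ b ∈ R, ∀ v,
      ρ b v - v ∈ fixSet ρ (R : Set X) := fun R hR b hb v =>
    (mem_fixSet ρ).2 fun a ha => hquad R hR a ha b hb v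
  -- the chosen offender
  let val : Subgroup X → ℕ := fun B => Nat.card ↥B * Nat.card ↥(fixSet ρ (B : Set X))
  let fam : Set (Subgroup X) := {B | IsPGroup 2 ↥B ∧ B ≠ ⊥}
  obtain ⟨F₀, hF₀, hF₀max⟩ :=
    Set.exists_max_image fam val (Set.toFinite _) ⟨A₀, hA₀p, hA₀1⟩
  obtain ⟨F, ⟨hF, hFv⟩, hFmax⟩ := Set.exists_max_image {B | B ∈ fam ∧ val B = val F₀}
    (fun B : Subgroup X => Nat.card ↥(fixSet ρ (B : Set X))) (Set.toFinite _) ⟨F₀, hF₀, rfl⟩
  set q := Nat.card ↥F with hqdef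
  set fA := Nat.card ↥(fixSet ρ (F : Set X)) with hfAdef
  have hm : ∀ B : Subgroup X, IsPGroup 2 ↥B → B ≠ ⊥ → val B ≤ q * fA := fun B hB hB1 =>
    (hF₀max B ⟨hB, hB1⟩).trans hFv.ge
  have hstrict : ∀ B : Subgroup X, IsPGroup 2 ↥B → B ≠ ⊥ →
      fA < Nat.card ↥(fixSet ρ (B : Set X)) → val B < q * fA := by
    intro B hB hB1 hlt
    refine lt_of_le_of_ne (hm B hB hB1) fun e => absurd (hFmax B ⟨⟨hB, hB1⟩, e.trans hFv⟩) ?_
    exact not_le.2 hlt
  have hVm : Nat.card V ≤ q * fA := hA₀V.trans (hm A₀ hA₀p hA₀1)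
  -- conjugates
  have hcp : ∀ g, IsPGroup 2 ↥(conjSub g F) := fun g => hF.1.map _
  have hcc : ∀ g, Nat.card ↥(conjSub g F) = q := fun g =>
    Subgroup.card_map_of_injective (MulAut.conj g).injective
  have hcmap : ∀ t g : X, ∀ a ∈ conjSub g F, t * a * t⁻¹ ∈ conjSub (t * g) F := by
    rintro t g _ ⟨d, hd, rfl⟩
    refine ⟨d, hd, ?_⟩
    show t * g * d * (t * g)⁻¹ = t * (g * d * g⁻¹) * t⁻¹
    group
  let Comm : Subgroup X → Subgroup X → Prop := fun B C => ∀ b ∈ B, ∀ c ∈ C, b * c = c * b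
  let fx : X → AddSubgroup V := fun g => fixSet ρ ((conjSub g F : Subgroup X) : Set X)
  have hfxc : ∀ g, Nat.card ↥(fx g) = fA := fun g => card_fixSet_conj ρ F g
  have hfxmap : ∀ t g, ∀ v ∈ fx g, ρ t v ∈ fx (t * g) := by
    intro t g v hv
    refine (mem_fixSet ρ).2 ?_
    rintro _ ⟨d, hd, rfl⟩
    show ρ (t * g * d * (t * g)⁻¹) (ρ t v) = ρ t v
    rw [← rho_mul, show t * g * d * (t * g)⁻¹ * t = t * (g * d * g⁻¹) by group, rho_mul]
    exact congrArg (ρ t) ((mem_fixSet ρ).1 hv (g * d * g⁻¹) ⟨d, hd, rfl⟩)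
  have hnc : ∃ g h, ¬ Comm (conjSub g F) (conjSub h F) := by
    by_contra hall
    push_neg at hall
    set N := Subgroup.normalClosure (F : Set X) with hN
    have hNn : N.Normal := Subgroup.normalClosure_normal
    have hcomm : ∀ a ∈ Group.conjugatesOfSet (F : Set X), ∀ b ∈ Group.conjugatesOfSet (F : Set X),
        a * b = b * a := by
      intro a ha b hb
      obtain ⟨x, hx, hxa⟩ := Group.mem_conjugatesOfSet_iff.1 ha
      obtain ⟨y, hy, hyb⟩ := Group.mem_conjugatesOfSet_iff.1 hb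
      obtain ⟨c, rfl⟩ := isConj_iff.1 hxa
      obtain ⟨d, rfl⟩ := isConj_iff.1 hyb
      exact hall c d _ ⟨x, hx, rfl⟩ _ ⟨y, hy, rfl⟩
    have hNp : IsPGroup 2 ↥N := by
      intro y
      have hy : ∀ y ∈ N, y * y = 1 := by
        intro y hy
        have hNc : ∀ a ∈ N, ∀ b ∈ N, a * b = b * a := fun a ha b hb =>
          congrArg Subtype.val ((Subgroup.isMulCommutative_closure hcomm).is_comm.comm ⟨a, ha⟩ ⟨b, hb⟩)
        induction hy using Subgroup.closure_induction with
        | mem z hz =>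
          obtain ⟨x, hx, hxz⟩ := Group.mem_conjugatesOfSet_iff.1 hz
          obtain ⟨c, rfl⟩ := isConj_iff.1 hxz
          exact hsq _ (hcp c) _ ⟨x, hx, rfl⟩
        | one => exact one_mul 1
        | mul a b ha hb iha ihb =>
          rw [show a * b * (a * b) = a * (b * a) * b by group, hNc b hb a ha,
            show a * (a * b) * b = (a * a) * (b * b) by group, iha, ihb, one_mul]
        | inv a _ iha => rw [← mul_inv_rev, iha, inv_one]
      exact ⟨1, Subtype.ext (by rw [pow_one, pow_two]; exact hy y y.2)⟩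
    have h1 : N ≤ Cfsg.pCore 2 X := CfsgLib.Core.le_pCore hNn hNp
    rw [hO] at h1
    exact hF.2 (le_bot_iff.1 ((Subgroup.subset_normalClosure).trans h1))
  obtain ⟨⟨g, g'⟩, hgg, hpmax⟩ := Set.exists_max_image
    {p : X × X | ¬ Comm (conjSub p.1 F) (conjSub p.2 F)}
    (fun p => Nat.card ↥(fx p.1 ⊓ fx p.2)) (Set.toFinite _)
    (by obtain ⟨g, h, hgh⟩ := hnc; exact ⟨(g, h), hgh⟩)
  set Fa := conjSub g F with hFa
  set Fb := conjSub g' F with hFb
  set A := fx g with hA
  set B := fx g' with hB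
  set D := A ⊓ B with hD
  have hDmax : ∀ a b, ¬ Comm (conjSub a F) (conjSub b F) → D ≤ fx a → D ≤ fx b →
      fx a ⊓ fx b = D := by
    intro a b hab' ha hb
    exact (AddSubgroup.eq_of_le_of_card_ge (le_inf ha hb) (hpmax (a, b) hab')).symm
  have hDfa : ∀ t ∈ Fa, ∀ v ∈ D, ρ t v = v := fun t ht v hv => (mem_fixSet ρ).1 hv.1 t ht
  have hDfb : ∀ t ∈ Fb, ∀ v ∈ D, ρ t v = v := fun t ht v hv => (mem_fixSet ρ).1 hv.2 t ht
  have hDtransl : ∀ t, (∀ v ∈ D, ρ t v = v) → ∀ a, D ≤ fx a → D ≤ fx (t * a) := by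
    intro t ht a ha v hv
    rw [← ht v hv]
    exact hfxmap t a v (ha hv)
  -- a normalising element commutes
  have hnorm : ∀ t a, ∀ R : Subgroup X, IsPGroup 2 ↥R → t ∈ R →
      (∀ v ∈ fx a, ρ t v ∈ fx a) → ∀ c ∈ conjSub a F, t * c = c * t := by
    intro t a R hR ht hta c hc
    let St : Subgroup X :=
      { carrier := {x | (∀ v ∈ fx a, ρ x v = v) ∧ ∀ v, ρ x v - v ∈ fx a}
        mul_mem' := by
          rintro x y ⟨hx, hx'⟩ ⟨hy, hy'⟩
          refine ⟨fun v hv => by rw [rho_mul, hy v hv, hx v hv], fun v => ?_⟩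
          rw [rho_mul, show ρ x (ρ y v) - v = (ρ x (ρ y v) - ρ y v) + (ρ y v - v) by abel]
          exact add_mem (hx' _) (hy' v)
        one_mem' := ⟨fun v _ => rho_one ρ v, fun v => by rw [rho_one, sub_self]; exact zero_mem _⟩
        inv_mem' := by
          rintro x ⟨hx, hx'⟩
          refine ⟨fun v hv => ?_, fun v => ?_⟩
          · conv_lhs => rw [← hx v hv, ← rho_mul, inv_mul_cancel, rho_one]
          · have h := hx' (ρ x⁻¹ v)
            rw [← rho_mul, mul_inv_cancel, rho_one] at h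
            rw [show ρ x⁻¹ v - v = -(v - ρ x⁻¹ v) by abel]
            exact neg_mem h }
    have hStp : IsPGroup 2 ↥St := by
      intro x
      refine ⟨1, Subtype.ext ?_⟩
      rw [pow_one, pow_two]
      refine hfaith _ fun v => ?_
      show ρ ((x : X) * x) v = v
      obtain ⟨h1, h2⟩ := x.2
      have h3 := h1 _ (h2 v)
      rw [map_sub] at h3
      rw [rho_mul, show ρ (x : X) (ρ x v) = (ρ (x : X) (ρ x v) - ρ x v) + ρ x v by abel, h3,
        show (ρ (x : X) v - v) + ρ x v = (ρ x v + ρ x v) - v by abel, add_self_zero, zero_sub]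
      exact neg_eq_of_add_eq_zero_left (add_self_zero v)
    have hcSt : c ∈ St := ⟨fun v hv => (mem_fixSet ρ).1 hv c hc,
      fun v => hfix_le _ (hcp a) c hc v⟩
    have htt : t⁻¹ = t := inv_eq_of_mul_eq_one_right (hsq R hR t ht)
    have htN : Subgroup.zpowers t ≤ Subgroup.normalizer (St : Set X) := by
      refine Subgroup.zpowers_le.2 (mem_normalizer_of_map_eq fun x hx => ?_)
      obtain ⟨h1, h2⟩ := hx
      refine ⟨fun v hv => ?_, fun v => ?_⟩
      · rw [rho_mul, rho_mul, h1 _ (by rw [htt]; exact hta v hv), ← rho_mul, mul_inv_cancel,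
          rho_one]
      · have h := hta _ (h2 (ρ t⁻¹ v))
        rwa [map_sub, ← rho_mul ρ t t⁻¹, mul_inv_cancel, rho_one, ← rho_mul, ← rho_mul] at h
    have hp := (hR.to_le (Subgroup.zpowers_le.2 ht)).to_sup_of_normal_right' hStp htN
    exact hab _ hp t (Subgroup.mem_sup_left (Subgroup.mem_zpowers t)) c (Subgroup.mem_sup_right hcSt)
  have hDA : D ≤ A := inf_le_left
  have hDB : D ≤ B := inf_le_right
  -- translates of a component
  have htransl : ∀ (a : X) (t : X) (R : Subgroup X), IsPGroup 2 ↥R → t ∈ R → D ≤ fx a →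
      (∀ v ∈ D, ρ t v = v) → (¬ ∀ c ∈ conjSub a F, t * c = c * t) →
      fx a ⊓ fx (t * a) = D := by
    intro a t R hR ht ha htD hnct
    refine hDmax a (t * a) (fun hcm => hnct fun c hc => ?_) ha (hDtransl t htD a ha)
    set E := conjSub a F ⊔ conjSub (t * a) F with hE
    have hn : conjSub a F ≤ Subgroup.normalizer ((conjSub (t * a) F : Subgroup X) : Set X) := by
      intro x hx
      refine mem_normalizer_of_map_eq fun y hy => ?_
      rwa [hcm x hx y hy, mul_inv_cancel_right]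
    have hEp : IsPGroup 2 ↥E := (hcp a).to_sup_of_normal_right' (hcp _) hn
    have htN : Subgroup.zpowers t ≤ Subgroup.normalizer (E : Set X) := by
      refine Subgroup.zpowers_le.2 (mem_normalizer_of_map_eq ?_)
      have hle : E ≤ E.comap (MulAut.conj t).toMonoidHom := by
        refine sup_le (fun x hx => ?_) (fun x hx => ?_)
        · exact Subgroup.mem_sup_right (hcmap t a x hx)
        · have := hcmap t (t * a) x hx
          rw [← mul_assoc, hsq R hR t ht, one_mul] at this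
          exact Subgroup.mem_sup_left this
      exact fun x hx => hle hx
    have hp := (hR.to_le (Subgroup.zpowers_le.2 ht)).to_sup_of_normal_right' hEp htN
    exact hab _ hp t (Subgroup.mem_sup_left (Subgroup.mem_zpowers t)) c
      (Subgroup.mem_sup_right (Subgroup.mem_sup_left hc))
  -- elements of one group centralising the other
  let F0 : Subgroup X := Fa ⊓ Subgroup.centralizer (Fb : Set X)
  have hF0 : ∀ t, t ∈ F0 ↔ t ∈ Fa ∧ ∀ c ∈ Fb, t * c = c * t := fun t => by
    refine and_congr_right fun _ => ?_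
    show t ∈ Subgroup.centralizer (Fb : Set X) ↔ _
    rw [Subgroup.mem_centralizer_iff]
    exact ⟨fun h c hc => (h c hc).symm, fun h c hc => (h c hc).symm⟩
  -- an element of `Fb` moving `Fa`
  obtain ⟨s, hs, hsa⟩ : ∃ s ∈ Fb, ¬ ∀ c ∈ Fa, s * c = c * s := by
    by_contra h
    push_neg at h
    exact hgg fun b hb c hc => (h c hc b hb).symm
  have hsA : A ⊓ fx (s * g) = D := htransl g s Fb (hcp g') hs hDA (hDfb s hs) hsa
  have hinjs : ∀ a ∈ A, ρ s a - a ∈ D → a ∈ D := by
    intro a ha h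
    have h1 : ρ s a ∈ A := by
      rw [show ρ s a = (ρ s a - a) + a by abel]
      exact add_mem (hDA h) ha
    have h2 : ρ s a ∈ D := by rw [← hsA]; exact ⟨h1, hfxmap s g a ha⟩
    have h3 := hDfb s hs _ h2
    rw [← rho_mul, hsq _ (hcp g') s hs, rho_one] at h3
    rw [h3]; exact h2
  have hBsurj : ∀ b ∈ B, ∃ a ∈ A, b - (ρ s a - a) ∈ D := by
    set φ : ↥A →+ V ⧸ D := (QuotientAddGroup.mk' D).comp ((comm ρ s).comp A.subtype) with hφ
    have hker : φ.ker = D.addSubgroupOf A := by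
      ext a
      rw [AddMonoidHom.mem_ker, AddSubgroup.mem_addSubgroupOf]
      show (QuotientAddGroup.mk' D) (ρ s (a : V) - a) = 0 ↔ _
      rw [QuotientAddGroup.mk'_apply, QuotientAddGroup.eq_zero_iff]
      exact ⟨hinjs a a.2, fun h => by rw [hDfb s hs _ h, sub_self]; exact zero_mem _⟩
    have hle : φ.range ≤ B.map (QuotientAddGroup.mk' D) := by
      rintro _ ⟨a, rfl⟩
      exact ⟨_, hfix_le _ (hcp g') s hs (a : V), rfl⟩
    have hcB : Nat.card ↥(B.map (QuotientAddGroup.mk' D)) * Nat.card ↥D = Nat.card ↥B := by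
      set ψ := (QuotientAddGroup.mk' D).comp B.subtype with hψ
      have h1 := AddSubgroup.card_eq_card_quotient_mul_card_addSubgroup ψ.ker
      rw [Nat.card_congr (QuotientAddGroup.quotientKerEquivRange ψ).toEquiv] at h1
      have h2 : ψ.range = B.map (QuotientAddGroup.mk' D) := by
        rw [hψ, AddMonoidHom.range_comp, AddSubgroup.range_subtype]
      have h3 : Nat.card ↥ψ.ker = Nat.card ↥D := by
        refine Nat.card_congr
          { toFun := fun a => ⟨((a : ↥B) : V), (QuotientAddGroup.eq_zero_iff _).1 a.2⟩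
            invFun := fun d => ⟨⟨d, hDB d.2⟩, (QuotientAddGroup.eq_zero_iff _).2 d.2⟩
            left_inv := fun a => rfl
            right_inv := fun d => rfl }
      rw [h2, h3] at h1
      exact h1.symm
    have hcA : Nat.card ↥φ.range * Nat.card ↥D = Nat.card ↥A := by
      have h1 := AddSubgroup.card_eq_card_quotient_mul_card_addSubgroup φ.ker
      rw [Nat.card_congr (QuotientAddGroup.quotientKerEquivRange φ).toEquiv, hker,
        Nat.card_congr (AddSubgroup.addSubgroupOfEquivOfLe hDA).toEquiv] at h1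
      exact h1.symm
    have heq : φ.range = B.map (QuotientAddGroup.mk' D) := by
      refine AddSubgroup.eq_of_le_of_card_ge hle (Nat.le_of_mul_le_mul_right ?_ (Nat.card_pos (α := ↥D)))
      rw [hcB, hcA, hA, hB, hfxc, hfxc]
    intro b hb
    have : (QuotientAddGroup.mk' D) b ∈ φ.range := by rw [heq]; exact ⟨b, hb, rfl⟩
    obtain ⟨a, ha⟩ := this
    refine ⟨a, a.2, ?_⟩
    have h := (QuotientAddGroup.eq.1 (show (QuotientAddGroup.mk (ρ s (a : V) - a) : V ⧸ D) =
      QuotientAddGroup.mk b from ha))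
    rwa [neg_add_eq_sub] at h
  set U := A ⊔ B with hU
  have hF0U : ∀ t ∈ F0, ∀ v ∈ U, ρ t v = v := by
    intro t ht
    obtain ⟨htF, htc⟩ := (hF0 t).1 ht
    have hA' : ∀ v ∈ A, ρ t v = v := fun v hv => (mem_fixSet ρ).1 hv t htF
    intro v hv
    obtain ⟨a, ha, b, hb, rfl⟩ := AddSubgroup.mem_sup.1 hv
    obtain ⟨a', ha', hd⟩ := hBsurj b hb
    rw [map_add, hA' a ha]
    congr 1
    have h1 : ρ t (ρ s a') = ρ s a' := by
      rw [← rho_mul, htc s hs, rho_mul, hA' a' ha']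
    calc ρ t b = ρ t ((b - (ρ s a' - a')) + (ρ s a' - a')) := by rw [sub_add_cancel]
      _ = (b - (ρ s a' - a')) + (ρ t (ρ s a') - ρ t a') := by rw [map_add, hDfa t htF _ hd, map_sub]
      _ = b := by rw [h1, hA' a' ha', sub_add_cancel]
  -- the count of translates
  set a₀ := Nat.card ↥U with ha₀
  set cD := Nat.card ↥D with hcD
  have hUD : a₀ * cD = fA * fA := by
    obtain ⟨h1, h2⟩ := card_mul_card_le (T := U) (I := D) (le_sup_left : A ≤ U) le_sup_right le_rfl
    rw [hA, hB, hfxc, hfxc] at h1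
    refine le_antisymm ?_ h1
    have := CfsgLib.Local.QuadThree.card_sup_mul_card_inf_le A B
    rwa [hA, hB, hfxc, hfxc] at this
  have hinvU : ∀ t ∈ Fa, ∀ v ∈ U, ρ t v ∈ U := fun t ht v _ => by
    rw [show ρ t v = (ρ t v - v) + v by abel]
    exact add_mem (AddSubgroup.mem_sup_left (hfix_le _ (hcp g) t ht v)) (by assumption)
  have hcount : Nat.card (↥Fa ⧸ F0.subgroupOf Fa) * (fA - cD) ≤ a₀ - fA := by
    let Bd : Type _ := {v : V // v ∈ B ∧ v ∉ D}
    have hBd : Nat.card Bd = fA - cD := by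
      have h : Nat.card Bd = Set.ncard ((B : Set V) \ (D : Set V)) := rfl
      rw [h, Set.ncard_sdiff' (show (D : Set V) ⊆ B from hDB), ← Nat.card_coe_set_eq,
        ← Nat.card_coe_set_eq]
      exact congrArg₂ (· - ·) (hfxc g') rfl
    have hUA : Set.ncard ((U : Set V) \ (A : Set V)) = a₀ - fA := by
      rw [Set.ncard_sdiff' (show (A : Set V) ⊆ U from SetLike.coe_subset_coe.2 le_sup_left), ← Nat.card_coe_set_eq,
        ← Nat.card_coe_set_eq]
      exact congrArg₂ (· - ·) rfl (hfxc g)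
    have key : ∀ t ∈ Fa, ∀ b ∈ B, b ∉ D → ρ t b ∉ A := by
      intro t ht b hb hbD h
      have h1 := (mem_fixSet ρ).1 h t ht
      rw [← rho_mul, hsq _ (hcp g) t ht, rho_one] at h1
      exact hbD ⟨by rw [h1]; exact h, hb⟩
    rw [← hBd, ← Nat.card_prod, ← hUA]
    show _ ≤ Nat.card ↥((U : Set V) \ (A : Set V))
    refine Nat.card_le_card_of_injective (fun p => ⟨ρ ((p.1.out : ↥Fa) : X) p.2.1,
      hinvU _ p.1.out.2 _ (AddSubgroup.mem_sup_right p.2.2.1), key _ p.1.out.2 _ p.2.2.1 p.2.2.2⟩) ?_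
    rintro ⟨c, b, hb, hbD⟩ ⟨c', b', hb', hbD'⟩ h
    have h' : ρ ((c.out : ↥Fa) : X) b = ρ ((c'.out : ↥Fa) : X) b' := congrArg Subtype.val h
    set u := ((c'.out : ↥Fa) : X)⁻¹ * ((c.out : ↥Fa) : X) with hu
    have huF : u ∈ Fa := Fa.mul_mem (Fa.inv_mem c'.out.2) c.out.2
    have hub : ρ u b = b' := by rw [hu, rho_mul, h', ← rho_mul, inv_mul_cancel, rho_one]
    have hu0 : u ∈ F0 := by
      by_contra hn
      have hnct : ¬ ∀ x ∈ conjSub g' F, u * x = x * u := fun hx => hn ((hF0 u).2 ⟨huF, hx⟩)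
      have hD' := htransl g' u Fa (hcp g) huF hDB (hDfa u huF) hnct
      refine hbD' ?_
      rw [← hD']
      exact ⟨hb', by rw [← hub]; exact hfxmap u g' b hb⟩
    have hcc' : c = c' := by
      rw [← Quotient.out_eq c, ← Quotient.out_eq c']
      refine QuotientGroup.eq.2 ?_
      show ((c.out : ↥Fa) : X)⁻¹ * ((c'.out : ↥Fa) : X) ∈ F0
      have := F0.inv_mem hu0
      rwa [hu, mul_inv_rev, inv_inv] at this
    subst hcc'
    exact Prod.ext rfl (Subtype.ext (rho_inj ρ h'))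
  have hDlt : cD < fA := by
    refine lt_of_le_of_ne ?_ fun e => hgg ?_
    · rw [hcD, ← hfxc g]
      exact Nat.card_le_card_of_injective _ (AddSubgroup.inclusion_injective hDA)
    · have hDAeq : D = A := AddSubgroup.eq_of_le_of_card_ge hDA (by rw [hA, hfxc, ← e])
      have hDBeq : D = B := AddSubgroup.eq_of_le_of_card_ge hDB (by rw [hB, hfxc, ← e])
      intro t ht c hc
      refine hnorm t g' Fa (hcp g) ht (fun v hv => ?_) c hc
      have hv' : v ∈ D := by rw [hDBeq]; exact hv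
      rw [hDfa t ht v hv']; exact hv
  have hq' : Nat.card (↥Fa ⧸ F0.subgroupOf Fa) * cD ≤ fA := by
    refine Nat.le_of_mul_le_mul_right ?_ (Nat.sub_pos_of_lt hDlt)
    calc Nat.card (↥Fa ⧸ F0.subgroupOf Fa) * cD * (fA - cD)
        = Nat.card (↥Fa ⧸ F0.subgroupOf Fa) * (fA - cD) * cD := by ring
      _ ≤ (a₀ - fA) * cD := Nat.mul_le_mul_right _ hcount
      _ = fA * (fA - cD) := by rw [Nat.sub_mul, hUD, Nat.mul_sub]
  have hidx : Nat.card (↥Fa ⧸ F0.subgroupOf Fa) * Nat.card ↥F0 = q := by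
    have h := Subgroup.card_eq_card_quotient_mul_card_subgroup (F0.subgroupOf Fa)
    rw [hcc, Nat.card_congr (Subgroup.subgroupOfEquivOfLe (show F0 ≤ Fa from inf_le_left)).toEquiv] at h
    exact h.symm
  have hF0bot : F0 = ⊥ := by
    by_contra h
    have hF0p : IsPGroup 2 ↥F0 := (hcp g).to_le inf_le_left
    have hle : U ≤ fixSet ρ (F0 : Set X) := fun v hv => (mem_fixSet ρ).2 fun t ht => hF0U t ht v hv
    have hcle : a₀ ≤ Nat.card ↥(fixSet ρ (F0 : Set X)) :=
      Nat.card_le_card_of_injective _ (AddSubgroup.inclusion_injective hle)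
    have hlt : fA < a₀ := by
      refine Nat.lt_of_mul_lt_mul_right (a := cD) ?_
      rw [hUD]
      exact Nat.mul_lt_mul_of_pos_left hDlt Nat.card_pos
    have h1 := hstrict F0 hF0p h (hlt.trans_le hcle)
    have h2 : q * fA * cD ≤ val F0 * cD := by
      calc q * fA * cD = Nat.card ↥F0 * ((Nat.card (↥Fa ⧸ F0.subgroupOf Fa) * cD) * fA) := by
            rw [← hidx]; ring
        _ ≤ Nat.card ↥F0 * (fA * fA) := Nat.mul_le_mul_left _ (Nat.mul_le_mul_right _ hq')
        _ = Nat.card ↥F0 * a₀ * cD := by rw [← hUD]; ring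
        _ ≤ _ := Nat.mul_le_mul_right _ (Nat.mul_le_mul_left _ hcle)
    exact absurd (Nat.le_of_mul_le_mul_right h2 Nat.card_pos) (not_le.2 h1)
  have hqD : q * cD = fA := by
    have hF0c : Nat.card ↥F0 = 1 := by rw [hF0bot, Subgroup.card_bot]
    rw [hF0c, mul_one] at hidx
    refine le_antisymm (hidx ▸ hq') ?_
    have hUV : a₀ ≤ Nat.card V := Nat.card_le_card_of_injective _ Subtype.val_injective
    refine Nat.le_of_mul_le_mul_right ?_ (Nat.card_pos (α := ↥(fixSet ρ (F : Set X))))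
    calc fA * fA = a₀ * cD := hUD.symm
      _ ≤ q * fA * cD := Nat.mul_le_mul_right _ (hUV.trans hVm)
      _ = q * cD * fA := by ring
  have hUtop : a₀ = Nat.card V := by
    refine le_antisymm (Nat.card_le_card_of_injective _ Subtype.val_injective) (hVm.trans ?_)
    refine Nat.le_of_mul_le_mul_right ?_ (Nat.card_pos (α := ↥D))
    rw [hUD, ← hqD]; exact le_of_eq (by rw [← hcD]; ring)
  have hUall : ∀ v : V, v ∈ U := fun v => by
    have : U = ⊤ := AddSubgroup.eq_top_of_card_eq U hUtop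
    rw [this]; trivial
  -- the covering
  have hcover : ∀ v, v ∉ A → ∃ t ∈ Fa, ∃ b ∈ B, ρ t b = v := by
    intro v hv
    let Dom := ↥Fa × {v : V // v ∈ B ∧ v ∉ D}
    let Cod := {v : V // v ∉ A}
    have key : ∀ p : Dom, ρ (p.1 : X) p.2.1 ∉ A := by
      rintro ⟨t, b, hb, hbD⟩ h
      dsimp only at h
      have h1 := (mem_fixSet ρ).1 h (t : X) t.2
      rw [← rho_mul, hsq _ (hcp g) t t.2, rho_one] at h1
      exact hbD ⟨by rw [h1]; exact h, hb⟩
    let Φ : Dom → Cod := fun p => ⟨ρ (p.1 : X) p.2.1, key p⟩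
    have hΦ : Function.Injective Φ := by
      rintro ⟨t, b, hb, hbD⟩ ⟨t', b', hb', hbD'⟩ h
      have h' : ρ (t : X) b = ρ (t' : X) b' := congrArg Subtype.val h
      set u := ((t' : ↥Fa) : X)⁻¹ * ((t : ↥Fa) : X) with hu
      have huF : u ∈ Fa := Fa.mul_mem (Fa.inv_mem t'.2) t.2
      have hub : ρ u b = b' := by rw [hu, rho_mul, h', ← rho_mul, inv_mul_cancel, rho_one]
      have hu1 : u = 1 := by
        by_contra hn
        have hnct : ¬ ∀ x ∈ conjSub g' F, u * x = x * u := fun hx => hn (by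
          have := (hF0 u).2 ⟨huF, hx⟩
          rwa [hF0bot, Subgroup.mem_bot] at this)
        refine hbD' ?_
        rw [← htransl g' u Fa (hcp g) huF hDB (hDfa u huF) hnct]
        exact ⟨hb', by rw [← hub]; exact hfxmap u g' b hb⟩
      have htt : t = t' := Subtype.ext (inv_mul_eq_one.1 hu1).symm
      subst htt
      exact Prod.ext rfl (Subtype.ext (rho_inj ρ h'))
    have hcard : Nat.card Cod ≤ Nat.card Dom := by
      have h1 : Nat.card Cod = Nat.card V - fA := by
        have h : Nat.card Cod = Set.ncard ((A : Set V)ᶜ) := rfl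
        rw [h, Set.ncard_compl, ← Nat.card_coe_set_eq]
        exact congrArg₂ (· - ·) rfl (hfxc g)
      have h2 : Nat.card {v : V // v ∈ B ∧ v ∉ D} = fA - cD := by
        have h : Nat.card {v : V // v ∈ B ∧ v ∉ D} = Set.ncard ((B : Set V) \ (D : Set V)) := rfl
        rw [h, Set.ncard_sdiff' (show (D : Set V) ⊆ B from hDB), ← Nat.card_coe_set_eq,
          ← Nat.card_coe_set_eq]
        exact congrArg₂ (· - ·) (hfxc g') rfl
      rw [Nat.card_prod, h1, h2, hcc, ← hUtop]
      refine Nat.le_of_mul_le_mul_right ?_ (Nat.card_pos (α := ↥D))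
      rw [← hcD, Nat.sub_mul, hUD, Nat.mul_sub, Nat.sub_mul]
      refine le_of_eq ?_
      rw [← hqD]
      congr 1 <;> ring
    have hb : Function.Bijective Φ := (Nat.bijective_iff_injective_and_card Φ).2
      ⟨hΦ, le_antisymm (Nat.card_le_card_of_injective Φ hΦ) hcard⟩
    obtain ⟨⟨t, b, hb', _⟩, he⟩ := hb.2 ⟨v, hv⟩
    exact ⟨t, t.2, b, hb', congrArg Subtype.val he⟩
  -- matching translates
  obtain ⟨a₁, ha₁, ha₁D⟩ : ∃ a ∈ A, a ∉ D := by
    by_contra h
    push_neg at h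
    have : A ≤ D := h
    have h2 : fA ≤ cD := by
      rw [← hfxc g]; exact Nat.card_le_card_of_injective _ (AddSubgroup.inclusion_injective this)
    omega
  obtain ⟨t, ht, b₁, hb₁, htb⟩ := hcover (ρ s a₁) fun h => ha₁D (by
    refine hinjs a₁ ha₁ ?_
    have h2 : ρ s a₁ ∈ D := by rw [← hsA]; exact ⟨h, hfxmap s g a₁ ha₁⟩
    have h3 := hDfb s hs _ h2
    rw [← rho_mul, hsq _ (hcp g') s hs, rho_one] at h3
    rw [← h3, sub_self]; exact zero_mem _)
  have hC12 : fx (s * g) = fx (t * g') := by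
    by_contra hne
    set E1 := conjSub (s * g) F with hE1
    set E2 := conjSub (t * g') F with hE2
    have hw : ρ s a₁ ∈ fx (s * g) ⊓ fx (t * g') :=
      ⟨hfxmap s g a₁ ha₁, by rw [← htb]; exact hfxmap t g' b₁ hb₁⟩
    have hD1 : D ≤ fx (s * g) := hDtransl s (hDfb s hs) g hDA
    have hD2 : D ≤ fx (t * g') := hDtransl t (hDfa t ht) g' hDB
    have hwD : ρ s a₁ ∉ D := fun h => ha₁D (by
      have h3 := hDfb s hs _ h
      rw [← rho_mul, hsq _ (hcp g') s hs, rho_one] at h3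
      rw [h3]; exact h)
    have hcm : Comm E1 E2 := by
      by_contra h
      exact hwD (hDmax _ _ h hD1 hD2 ▸ hw)
    have hn : E1 ≤ Subgroup.normalizer (E2 : Set X) := by
      intro x hx
      refine mem_normalizer_of_map_eq fun y hy => ?_
      rwa [hcm x hx y hy, mul_inv_cancel_right]
    have hEp : IsPGroup 2 ↥(E1 ⊔ E2) := (hcp _).to_sup_of_normal_right' (hcp _) hn
    have hE12 := CfsgLib.Core.card_sup_mul_card_inf hn
    have hE1ne : E1 ≠ ⊥ := fun e => hF.2 ((Subgroup.map_eq_bot_iff_of_injective F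
      (MulAut.conj (s * g)).injective).1 e)
    have hfixE : fx (s * g) ⊓ fx (t * g') ≤ fixSet ρ ((E1 ⊔ E2 : Subgroup X) : Set X) := by
      intro v hv
      have hle : E1 ⊔ E2 ≤ pointFix ρ {v} := sup_le
        (fun x hx => (mem_pointFix ρ).2 fun u hu => by
          rw [Set.mem_singleton_iff] at hu; subst hu; exact (mem_fixSet ρ).1 hv.1 x hx)
        (fun x hx => (mem_pointFix ρ).2 fun u hu => by
          rw [Set.mem_singleton_iff] at hu; subst hu; exact (mem_fixSet ρ).1 hv.2 x hx)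
      exact (mem_fixSet ρ).2 fun x hx => (mem_pointFix ρ).1 (hle hx) v rfl
    set cI := Nat.card ↥(fx (s * g) ⊓ fx (t * g')) with hcI
    have hval := hm _ hEp (fun e => hE1ne (le_bot_iff.1 (le_sup_left.trans e.le)))
    have hcIle : cI ≤ Nat.card ↥(fixSet ρ ((E1 ⊔ E2 : Subgroup X) : Set X)) :=
      Nat.card_le_card_of_injective _ (AddSubgroup.inclusion_injective hfixE)
    have hbig : q * q * cI ≤ q * fA * Nat.card ↥(E1 ⊓ E2) := by
      calc q * q * cI = Nat.card ↥(E1 ⊔ E2) * cI * Nat.card ↥(E1 ⊓ E2) := by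
            have e : Nat.card ↥E1 * Nat.card ↥E2 = q * q := by rw [hE1, hE2, hcc, hcc]
            rw [← e, ← hE12]; ring
        _ ≤ q * fA * Nat.card ↥(E1 ⊓ E2) := by
            refine Nat.mul_le_mul_right _ (le_trans (Nat.mul_le_mul_left _ hcIle) hval)
    have hcIlt : cD < cI := by
      refine lt_of_le_of_ne (Nat.card_le_card_of_injective _
        (AddSubgroup.inclusion_injective (le_inf hD1 hD2))) fun e => hwD ?_
      rw [AddSubgroup.eq_of_le_of_card_ge (le_inf hD1 hD2) e.ge]; exact hw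
    rcases eq_or_ne (E1 ⊓ E2) ⊥ with hI | hI
    · rw [hI, Subgroup.card_bot, mul_one, ← hqD] at hbig
      have h1 : q * q * cI ≤ q * q * cD := le_trans hbig (le_of_eq (by ring))
      exact absurd (Nat.le_of_mul_le_mul_left h1 (Nat.mul_pos Nat.card_pos Nat.card_pos))
        (not_le.2 hcIlt)
    · set Fi := fixSet ρ ((E1 ⊓ E2 : Subgroup X) : Set X) with hFi
      have hsupfix : fx (s * g) ⊔ fx (t * g') ≤ Fi := sup_le
        (fun v hv => (mem_fixSet ρ).2 fun x hx => (mem_fixSet ρ).1 hv x hx.1)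
        (fun v hv => (mem_fixSet ρ).2 fun x hx => (mem_fixSet ρ).1 hv x hx.2)
      have hFilt : fA < Nat.card ↥Fi := by
        rw [← hfxc (s * g)]
        refine lt_of_le_of_ne (Nat.card_le_card_of_injective _
          (AddSubgroup.inclusion_injective (le_sup_left.trans hsupfix))) fun e => hne ?_
        have h1 : fx (s * g) = Fi :=
          AddSubgroup.eq_of_le_of_card_ge (le_sup_left.trans hsupfix) e.ge
        refine (AddSubgroup.eq_of_le_of_card_ge (h1 ▸ le_sup_right.trans hsupfix) ?_).symm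
        rw [hfxc, hfxc]
      have hvalI := hstrict _ ((hcp _).to_le inf_le_left) hI hFilt
      have hFi' : fA * fA ≤ Nat.card ↥Fi * cI := by
        obtain ⟨h1, -⟩ := card_mul_card_le (T := Fi) (I := fx (s * g) ⊓ fx (t * g'))
          (le_sup_left.trans hsupfix) (le_sup_right.trans hsupfix) le_rfl
        rw [hfxc, hfxc] at h1
        refine h1.trans (Nat.mul_le_mul_right _ ?_)
        exact Nat.card_le_card_of_injective _ (AddSubgroup.inclusion_injective hsupfix)
      have h1 : q * q * (fA * fA) < q * q * (fA * fA) := by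
        calc q * q * (fA * fA) ≤ q * q * cI * Nat.card ↥Fi := by
              calc _ ≤ q * q * (Nat.card ↥Fi * cI) := Nat.mul_le_mul_left _ hFi'
                _ = _ := by ring
          _ ≤ q * fA * (Nat.card ↥(E1 ⊓ E2) * Nat.card ↥Fi) := by
              calc _ ≤ q * fA * Nat.card ↥(E1 ⊓ E2) * Nat.card ↥Fi := Nat.mul_le_mul_right _ hbig
                _ = _ := by ring
          _ < q * fA * (q * fA) :=
              Nat.mul_lt_mul_of_pos_left hvalI (Nat.mul_pos Nat.card_pos Nat.card_pos)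
          _ = _ := by ring
      exact lt_irrefl _ h1
  -- the element of order three
  set y := t * s with hy
  have ht2 : t * t = 1 := hsq _ (hcp g) t ht
  have hs2 : s * s = 1 := hsq _ (hcp g') s hs
  have hfixD : ∀ v ∈ D, ρ y v = v := fun v hv => by rw [hy, rho_mul, hDfb s hs v hv, hDfa t ht v hv]
  -- for each `a` in `A` a partner in `B`
  have hpair : ∀ a ∈ A, ∃ b ∈ B, ρ s a - (a + b) ∈ D ∧ ρ t b - (a + b) ∈ D := by
    intro a ha
    have h1 : ρ t (ρ s a) ∈ B := by
      have h := hfxmap s g a ha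
      rw [hC12] at h
      have h2 := hfxmap t (t * g') _ h
      rwa [← mul_assoc, ht2, one_mul] at h2
    set b := ρ t (ρ s a) with hb
    have htb' : ρ t b = ρ s a := by rw [hb, ← rho_mul, ht2, rho_one]
    have hn : ρ s a - a ∈ B := hfix_le _ (hcp g') s hs a
    have hm' : ρ t b - b ∈ A := hfix_le _ (hcp g) t ht b
    have hd : a - (ρ t b - b) ∈ D := by
      refine ⟨AddSubgroup.sub_mem _ ha hm', ?_⟩
      have e : a - (ρ t b - b) = b - (ρ s a - a) := by rw [htb']; abel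
      rw [e]
      exact AddSubgroup.sub_mem _ h1 hn
    have h3 : ρ t b - (a + b) ∈ D := by
      rw [show ρ t b - (a + b) = -(a - (ρ t b - b)) by abel]; exact neg_mem hd
    exact ⟨b, h1, by rw [← htb']; exact h3, h3⟩
  have hstep : ∀ a ∈ A, ∀ b ∈ B, ρ s a - (a + b) ∈ D → ρ t b - (a + b) ∈ D →
      ρ y a - b ∈ D ∧ ρ y b - (a + b) ∈ D ∧ ρ y (a + b) - a ∈ D := by
    intro a ha b hb h1 h2
    have hta : ρ t a = a := (mem_fixSet ρ).1 ha t ht
    have hsb : ρ s b = b := (mem_fixSet ρ).1 hb s hs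
    have h3 : ρ y a - b ∈ D := by
      rw [hy, rho_mul, show ρ t (ρ s a) - b = ρ t (ρ s a - (a + b)) + (ρ t b - (a + b)) + (a + a) by
        rw [map_sub, map_add, hta]; abel, add_self_zero, add_zero, hDfa t ht _ h1]
      exact add_mem h1 h2
    have h4 : ρ y b - (a + b) ∈ D := by rw [hy, rho_mul, hsb]; exact h2
    refine ⟨h3, h4, ?_⟩
    rw [show ρ y (a + b) - a = (ρ y a - b) + (ρ y b - (a + b)) + (b + b) by rw [map_add]; abel,
      add_self_zero, add_zero]
    exact add_mem h3 h4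
  have hyD : ∀ u w, ρ y u - w ∈ D → ∀ w', ρ y w - w' ∈ D → ρ y (ρ y u) - w' ∈ D := by
    intro u w h w' h'
    rw [show ρ y (ρ y u) - w' = ρ y (ρ y u - w) + (ρ y w - w') by rw [map_sub]; abel, hfixD _ h]
    exact add_mem h h'
  have hA3 : ∀ a ∈ A, ρ (y ^ 3) a - a ∈ D := by
    intro a ha
    obtain ⟨b, hb, h1, h2⟩ := hpair a ha
    obtain ⟨e1, e2, e3⟩ := hstep a ha b hb h1 h2
    rw [pow_succ, pow_two, rho_mul, rho_mul]
    exact hyD _ _ (hyD _ _ e1 _ e2) _ e3 |> fun h => by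
      have h5 := hyD a b e1 (a + b) e2
      rw [show ρ y (ρ y (ρ y a)) - a = ρ y (ρ y (ρ y a) - (a + b)) + (ρ y (a + b) - a) by
        rw [map_sub]; abel, hfixD _ h5]
      exact add_mem h5 e3
  have hy3 : ∀ v, ρ (y ^ 3) v - v ∈ D := by
    have hB3 : ∀ b ∈ B, ρ (y ^ 3) b - b ∈ D := by
      intro b hb
      obtain ⟨a, ha, hd⟩ := hBsurj b hb
      obtain ⟨b', hb', h1, h2⟩ := hpair a ha
      obtain ⟨e1, e2, e3⟩ := hstep a ha b' hb' h1 h2
      -- `b` is congruent to `ρ y a`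
      have hbb' : b - b' ∈ D := by
        rw [show b - b' = (b - (ρ s a - a)) + (ρ s a - (a + b')) by abel]
        exact add_mem hd h1
      have hfix3 : ∀ v ∈ D, ρ (y ^ 3) v = v := fun v hv => by
        rw [pow_succ, pow_two, rho_mul, rho_mul, hfixD v hv, hfixD v hv, hfixD v hv]
      have h5 : ρ (y ^ 3) b' - b' ∈ D := by
        have hcomm : ρ (y ^ 3) (ρ y a) = ρ y (ρ (y ^ 3) a) := by
          rw [← rho_mul, ← rho_mul, pow_mul_comm']
        rw [show ρ (y ^ 3) b' - b' = ρ y (ρ (y ^ 3) a - a) - ρ (y ^ 3) (ρ y a - b') + (ρ y a - b') by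
          rw [map_sub, map_sub, hcomm]; abel, hfixD _ (hA3 a ha), hfix3 _ e1]
        exact add_mem (sub_mem (hA3 a ha) e1) e1
      rw [show ρ (y ^ 3) b - b = ρ (y ^ 3) (b - b') + (ρ (y ^ 3) b' - b') - (b - b') by
        rw [map_sub]; abel, hfix3 _ hbb']
      exact sub_mem (add_mem hbb' h5) hbb'
    intro v
    obtain ⟨a, ha, b, hb, rfl⟩ := AddSubgroup.mem_sup.1 (hUall v)
    rw [show ρ (y ^ 3) (a + b) - (a + b) = (ρ (y ^ 3) a - a) + (ρ (y ^ 3) b - b) by
      rw [map_add]; abel]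
    exact add_mem (hA3 a ha) (hB3 b hb)
  have hy6 : (y ^ 3) * (y ^ 3) = 1 := hfaith _ fun v => by
    have hfix3 : ρ (y ^ 3) (ρ (y ^ 3) v - v) = ρ (y ^ 3) v - v := by
      have hfix3 : ∀ v ∈ D, ρ (y ^ 3) v = v := fun v hv => by
        rw [pow_succ, pow_two, rho_mul, rho_mul, hfixD v hv, hfixD v hv, hfixD v hv]
      exact hfix3 _ (hy3 v)
    have h2 := pow_apply_of_sub_fixed ρ hfix3 2
    rwa [pow_two, p_nsmul (p := 2), add_zero] at h2
  refine ⟨t, y ^ 2, ht2, fun h => ha₁D ?_, ?_, ?_⟩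
  · obtain ⟨b, hb, h1, h2⟩ := hpair a₁ ha₁
    obtain ⟨e1, e2, -⟩ := hstep a₁ ha₁ b hb h1 h2
    have h5 := hyD _ _ e1 _ e2
    rw [← rho_mul, ← pow_two, h, rho_one, show a₁ - (a₁ + b) = -b by abel] at h5
    have hbD : b ∈ D := by simpa using neg_mem h5
    refine hinjs a₁ ha₁ ?_
    rw [show ρ s a₁ - a₁ = (ρ s a₁ - (a₁ + b)) + b by abel]
    exact add_mem h1 hbD
  · calc (y ^ 2) ^ 3 = y ^ 3 * y ^ 3 := by rw [← pow_mul, ← pow_add]
      _ = 1 := hy6
  · have hti : t⁻¹ = t := inv_eq_of_mul_eq_one_right ht2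
    have hsi : s⁻¹ = s := inv_eq_of_mul_eq_one_right hs2
    rw [hy, pow_two, mul_inv_rev, mul_inv_rev, hti, hsi,
      show t * (t * s * (t * s)) * t = (t * t) * (s * t) * (s * t) by group, ht2, one_mul]

end CfsgLib.Local.QuadThree
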