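import Mathlib
import Cfsg.Prelude.Def_Local
import Cfsg.Agent.Lib.StableBridge
import Cfsg.Agent.Lib.LocalTame
import Cfsg.Agent.Lib.LocalSFour
import Cfsg.Agent.Lib.LocalThompsonA
import Cfsg.Agent.Lib.LocalQuadThree

/-!
# Thompson factorization with a Sylow 2-subgroup of class two
-/

set_option autoImplicit false

universe u

namespace CfsgLib.Local.ClassTwo

open CfsgLib.Core CfsgLib.Stable CfsgLib.Local.PGV

variable {G : Type u} [Group G] [Finite G]

/-- In a 2-constrained group without core and without section `S₄` with a Sylow 2-subgroup of class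
two, `J(S)` is normal. -/
theorem Jsub_normalizer_top {G₀ : Type u} [Group G₀]
    (hS4 : ¬ Cfsg.Involves (Equiv.Perm (Fin 4)) G₀) (hsec : IsSec G G₀) (S : Sylow 2 G)
    (hC : Subgroup.centralizer (Cfsg.pCore 2 G : Set G) ≤ Cfsg.pCore 2 G)
    (hcl : ∀ a ∈ (S : Subgroup G), ∀ b ∈ (S : Subgroup G), ∀ c ∈ (S : Subgroup G),
      a * b * a⁻¹ * b⁻¹ * c = c * (a * b * a⁻¹ * b⁻¹)) :
    Subgroup.normalizer (Jsub 2 (S : Subgroup G) : Set G) = ⊤ := by
  classical
  haveI : Fact (Nat.Prime 2) := ⟨Nat.prime_two⟩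
  haveI := CfsgLib.Core.normal_pCore (G := G) 2
  set H := Cfsg.pCore 2 G with hH
  have hHp : IsPGroup 2 ↥H := CfsgLib.Core.isPGroup_pCore 2
  have hHS : H ≤ (S : Subgroup G) := CfsgLib.Core.pCore_le_sylow S
  set Z := H ⊓ Subgroup.centralizer (H : Set G) with hZ
  haveI hZn : Z.Normal := by rw [hZ]; infer_instance
  have hZc : ∀ a ∈ Z, ∀ b ∈ Z, a * b = b * a := fun a ha b hb =>
    Subgroup.mem_centralizer_iff.1 hb.2 a ha.1
  have hZp : IsPGroup 2 ↥Z := hHp.to_le inf_le_left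
  have hcZ : ∀ s ∈ (S : Subgroup G), ∀ h ∈ H, s * h * s⁻¹ * h⁻¹ ∈ Z := fun s hs h hh => by
    refine ⟨H.mul_mem ((inferInstance : H.Normal).conj_mem h hh s) (H.inv_mem hh),
      Subgroup.mem_centralizer_iff.2 fun c hc => ?_⟩
    exact (hcl s hs h (hHS hh) c (hHS hc)).symm
  -- the elements centralising `H / Z`
  let K : Subgroup G :=
    { carrier := {g | ∀ h ∈ H, g * h * g⁻¹ * h⁻¹ ∈ Z}
      mul_mem' := fun {a b} ha hb h hh => by
        rw [show a * b * h * (a * b)⁻¹ * h⁻¹ =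
          a * (b * h * b⁻¹ * h⁻¹) * a⁻¹ * (a * h * a⁻¹ * h⁻¹) by group]
        exact Z.mul_mem (hZn.conj_mem _ (hb h hh) a) (ha h hh)
      one_mem' := fun h hh => by simp
      inv_mem' := fun {a} ha h hh => by
        rw [show a⁻¹ * h * a⁻¹⁻¹ * h⁻¹ = a⁻¹ * (a * h * a⁻¹ * h⁻¹)⁻¹ * a⁻¹⁻¹ by group]
        exact hZn.conj_mem _ (Z.inv_mem (ha h hh)) _ }
  have hKn : K.Normal := ⟨fun k hk g h hh => by
    have hh' : g⁻¹ * h * g⁻¹⁻¹ ∈ H := (inferInstance : H.Normal).conj_mem h hh g⁻¹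
    rw [show g * k * g⁻¹ * h * (g * k * g⁻¹)⁻¹ * h⁻¹ =
      g * (k * (g⁻¹ * h * g⁻¹⁻¹) * k⁻¹ * (g⁻¹ * h * g⁻¹⁻¹)⁻¹) * g⁻¹ by group]
    exact hZn.conj_mem _ (hk _ hh') g⟩
  haveI := hKn
  have hSK : (S : Subgroup G) ≤ K := fun s hs h hh => hcZ s hs h hh
  have hHK : H ≤ K := hHS.trans hSK
  -- it is enough to treat `K`
  suffices hKN : K ≤ Subgroup.normalizer (Jsub 2 (S : Subgroup G) : Set G) by
    refine eq_top_iff.2 fun g _ => ?_
    obtain ⟨l, hl, n, hn, rfl⟩ := frattini_decomp S K g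
    rw [inf_eq_right.2 hSK] at hn
    exact mul_mem (hKN hl) (normalizer_le_Jsub 2 _ hn)
  -- the involutions of `Z`
  let W : Subgroup G :=
    { carrier := {w | w ∈ Z ∧ w * w = 1}
      mul_mem' := fun {a b} ha hb => ⟨Z.mul_mem ha.1 hb.1, by
        rw [mul_assoc, ← mul_assoc b a b, hZc b hb.1 a ha.1, mul_assoc a b b, hb.2, mul_one, ha.2]⟩
      one_mem' := ⟨Z.one_mem, one_mul 1⟩
      inv_mem' := fun {a} ha => ⟨Z.inv_mem ha.1, by rw [← mul_inv_rev, ha.2, inv_one]⟩ }
  haveI hWn : W.Normal := ⟨fun w hw g => ⟨hZn.conj_mem w hw.1 g, by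
    rw [show g * w * g⁻¹ * (g * w * g⁻¹) = g * (w * w) * g⁻¹ by group, hw.2, mul_one, mul_inv_cancel]⟩⟩
  have hWS : W ≤ (S : Subgroup G) := fun w hw => hHS hw.1.1
  have hHW : ∀ h ∈ H, ∀ w ∈ W, h * w = w * h := fun h hh w hw =>
    Subgroup.mem_centralizer_iff.1 hw.1.2 h hh
  -- elements of `K` fixing `W` are in `H`
  have hKW : ∀ g ∈ K, (∀ w ∈ W, g * w = w * g) → g ∈ H := by
    set L := K ⊓ Subgroup.centralizer (W : Set G) with hL
    haveI : L.Normal := by rw [hL]; infer_instance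
    have hodd : ∀ g ∈ L, (orderOf g).Coprime 2 → g = 1 := by
      intro g hg hgc
      have hgZ : g ∈ Subgroup.centralizer (Z : Set G) :=
        ThompsonA.centralizes_of_fixes_involutions hZp hZc
          (by rw [Subgroup.normalizer_eq_top]; trivial) hgc fun z hz hz2 => by
            rw [← Subgroup.mem_centralizer_iff.1 hg.2 z ⟨hz, hz2⟩, mul_inv_cancel_right]
      have hgH : g ∈ Subgroup.centralizer (H : Set G) := by
        rw [Subgroup.mem_centralizer_iff]
        intro h hh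
        set c := g * h * g⁻¹ * h⁻¹ with hc
        have hcZ' : c ∈ Z := hg.1 h hh
        have hgc' : g * c * g⁻¹ = c := by
          rw [← Subgroup.mem_centralizer_iff.1 hgZ c hcZ', mul_inv_cancel_right]
        have hgh : g * h * g⁻¹ = c * h := by rw [hc, inv_mul_cancel_right]
        have hpow : ∀ i : ℕ, g ^ i * h * (g ^ i)⁻¹ = c ^ i * h := by
          intro i
          induction i with
          | zero => simp
          | succ i ih =>
            calc g ^ (i + 1) * h * (g ^ (i + 1))⁻¹ = g * (g ^ i * h * (g ^ i)⁻¹) * g⁻¹ := by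
                  rw [pow_succ']; group
              _ = g * (c ^ i * h) * g⁻¹ := by rw [ih]
              _ = (g * c * g⁻¹) ^ i * (g * h * g⁻¹) := by rw [conj_pow]; group
              _ = c ^ (i + 1) * h := by rw [hgc', hgh, ← mul_assoc, ← pow_succ]
        have h0 := hpow (orderOf g)
        rw [pow_orderOf_eq_one, one_mul, inv_one, mul_one] at h0
        have hco : orderOf c ∣ orderOf g := orderOf_dvd_of_pow_eq_one (mul_right_cancel
          (show c ^ orderOf g * h = 1 * h by rw [one_mul, ← h0]))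
        obtain ⟨n, hn⟩ := hZp ⟨c, hcZ'⟩
        have hn' : c ^ 2 ^ n = 1 := congrArg Subtype.val hn
        have h1 : orderOf c = 1 := Nat.eq_one_of_dvd_coprimes (hgc.pow_right n) hco
          (orderOf_dvd_of_pow_eq_one hn')
        rw [orderOf_eq_one_iff.1 h1, one_mul] at hgh
        exact (mul_inv_eq_iff_eq_mul.1 hgh).symm
      obtain ⟨n, hn⟩ := hHp ⟨g, hC hgH⟩
      have hn' : g ^ 2 ^ n = 1 := congrArg Subtype.val hn
      exact orderOf_eq_one_iff.1 (Nat.eq_one_of_dvd_coprimes (hgc.pow_right n) dvd_rfl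
        (orderOf_dvd_of_pow_eq_one hn'))
    have hLS : L ≤ (S : Subgroup G) := normal_le_of_pPrime S L inf_le_left fun g hg hgc => by
      rw [hodd g hg hgc]; exact one_mem _
    have hLH : L ≤ H := CfsgLib.Core.le_pCore inferInstance (S.2.to_le hLS)
    exact fun g hg hgw => hLH ⟨hg, Subgroup.mem_centralizer_iff.2 fun w hw => (hgw w hw).symm⟩
  -- a maximal elementary abelian subgroup outside `H` gives an offender
  by_cases hJ : ∀ A, IsMax 2 (S : Subgroup G) A → A ≤ H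
  · intro g _
    have hJeq : Jsub 2 H = Jsub 2 (S : Subgroup G) := by
      obtain ⟨A₀, hA₀⟩ := exists_isMax 2 (S : Subgroup G)
      refine le_antisymm (sSup_le fun A hA => isMax_le_Jsub
        ⟨hA.1.trans hHS, hA.2.1, fun B hB hB' => (hA₀.2.2 B hB hB').trans (hA.2.2 A₀ (hJ A₀ hA₀) hA₀.2.1)⟩)
        (sSup_le fun A hA => isMax_le_Jsub ⟨hJ A hA, hA.2.1, fun B hB hB' => hA.2.2 B (hB.trans hHS) hB'⟩)
    rw [← hJeq]
    exact normalizer_le_Jsub 2 H (by rw [Subgroup.normalizer_eq_top]; trivial)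
  exfalso
  push_neg at hJ
  obtain ⟨A, hA, hAH⟩ := hJ
  -- the quotient `K / H` acting on `W`
  set H' := H.subgroupOf K with hH'
  haveI : H'.Normal := by rw [hH']; infer_instance
  set f := QuotientGroup.mk' H' with hf
  have hfs : Function.Surjective f := QuotientGroup.mk'_surjective H'
  letI : CommGroup ↥W :=
    { (inferInstance : Group ↥W) with
      mul_comm := fun a b => Subtype.ext (hZc a a.2.1 b b.2.1) }
  letI : Module (ZMod 2) (Additive ↥W) := AddCommGroup.zmodModule (fun w => by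
    rw [two_nsmul]; exact Subtype.ext (Additive.toMul w).2.2)
  have _hmod : Module (ZMod 2) (Additive ↥W) := inferInstance
  let ρ₀ : Representation (ZMod 2) ↥K (Additive ↥W) :=
    { toFun := fun g => AddMonoidHom.toZModLinearMap 2
        (MonoidHom.toAdditive (MulAut.conjNormal (g : G) : MulAut ↥W).toMonoidHom)
      map_one' := LinearMap.ext fun v => congrArg Additive.ofMul (Subtype.ext (by
        show (1 : G) * ((Additive.toMul v : ↥W) : G) * 1⁻¹ = ((Additive.toMul v : ↥W) : G)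
        group))
      map_mul' := fun g h => LinearMap.ext fun v => congrArg Additive.ofMul (Subtype.ext (by
        show (g : G) * h * ((Additive.toMul v : ↥W) : G) * ((g : G) * h)⁻¹ =
          g * (h * ((Additive.toMul v : ↥W) : G) * (h : G)⁻¹) * (g : G)⁻¹
        group)) }
  have hρ₀ : ∀ (g : ↥K) (v : Additive ↥W),
      ((Additive.toMul (ρ₀ g v) : ↥W) : G) = g * ((Additive.toMul v : ↥W) : G) * (g : G)⁻¹ :=
    fun g v => MulAut.conjNormal_apply (g : G) (Additive.toMul v)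
  have hH'k : H' ≤ MonoidHom.ker ρ₀ := by
    intro c hc
    rw [MonoidHom.mem_ker]
    refine LinearMap.ext fun v => Additive.toMul.injective (Subtype.ext ?_)
    rw [hρ₀, hHW _ (show (c : G) ∈ H from hc) _ (Additive.toMul v).2, mul_inv_cancel_right]
    rfl
  let ρ : Representation (ZMod 2) (↥K ⧸ H') (Additive ↥W) := QuotientGroup.lift H' ρ₀ hH'k
  have hρ : ∀ (g : ↥K) (v : Additive ↥W), ρ (f g) v = ρ₀ g v := fun g v => rfl
  have hfix_iff : ∀ (g : ↥K) (w : ↥W), ρ (f g) (Additive.ofMul w) = Additive.ofMul w ↔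
      (g : G) * (w : G) = (w : G) * g := by
    intro g w
    rw [hρ]
    constructor
    · intro h
      have h2 := hρ₀ g (Additive.ofMul w)
      rw [h] at h2
      exact (mul_inv_eq_iff_eq_mul.1 h2.symm)
    · intro h
      refine Additive.toMul.injective (Subtype.ext ?_)
      rw [hρ₀]
      show (g : G) * (w : G) * (g : G)⁻¹ = (w : G)
      rw [h, mul_inv_cancel_right]
  have hinj : Function.Injective ρ := by
    refine (injective_iff_map_eq_one ρ).2 fun y hy => ?_
    obtain ⟨g, rfl⟩ := hfs y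
    exact (QuotientGroup.eq_one_iff g).2
      (hKW g g.2 fun w hw => (hfix_iff g ⟨w, hw⟩).1 (by rw [hy]; rfl))
  set T := ((S.subtype hSK).mapSurjective hfs : Sylow 2 (↥K ⧸ H')) with hT
  have hquad : ∀ R : Subgroup (↥K ⧸ H'), IsPGroup 2 ↥R → ∀ a ∈ R, ∀ b ∈ R, ∀ v,
      ρ a (ρ b v - v) = ρ b v - v := by
    intro R hR a ha b hb v
    obtain ⟨T', hT'⟩ := hR.exists_le_sylow
    obtain ⟨c, hc⟩ := MulAction.exists_smul_eq (↥K ⧸ H') T T'
    rw [← hc] at hT'
    obtain ⟨c₀, rfl⟩ := hfs c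
    have hlift : ∀ x ∈ R, ∃ s ∈ (S : Subgroup G), ∃ k : ↥K, f k = x ∧
        (k : G) = c₀ * s * (c₀ : G)⁻¹ := by
      intro x hx
      have h := hT' hx
      rw [Sylow.coe_subgroup_smul, hT, Sylow.coe_mapSurjective] at h
      obtain ⟨_, ⟨k, hk, rfl⟩, he⟩ := h
      refine ⟨k, hk, c₀ * k * c₀⁻¹, ?_, rfl⟩
      rw [map_mul, map_mul, map_inv]
      exact he
    obtain ⟨s, hs, ka, hka, hka'⟩ := hlift a ha
    obtain ⟨s', hs', kb, hkb, hkb'⟩ := hlift b hb
    rw [← hka, ← hkb, hρ, hρ]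
    refine Additive.toMul.injective (Subtype.ext ?_)
    rw [hρ₀, toMul_sub, Subgroup.coe_div, hρ₀, div_eq_mul_inv, hka', hkb']
    set w := ((Additive.toMul v : ↥W) : G) with hw
    set w' := (c₀ : G)⁻¹ * w * c₀ with hw'
    have hw'S : w' ∈ (S : Subgroup G) := by
      have h1 := hWn.conj_mem w (Additive.toMul v).2 (c₀ : G)⁻¹
      rw [inv_inv] at h1
      exact hWS h1
    have h2 := hcl s' hs' w' hw'S s hs
    calc (c₀ : G) * s * (c₀ : G)⁻¹ * ((c₀ : G) * s' * (c₀ : G)⁻¹ * w *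
          ((c₀ : G) * s' * (c₀ : G)⁻¹)⁻¹ * w⁻¹) * ((c₀ : G) * s * (c₀ : G)⁻¹)⁻¹
        = (c₀ : G) * (s * (s' * w' * s'⁻¹ * w'⁻¹)) * s⁻¹ * (c₀ : G)⁻¹ := by rw [hw']; group
      _ = (c₀ : G) * ((s' * w' * s'⁻¹ * w'⁻¹) * s) * s⁻¹ * (c₀ : G)⁻¹ := by rw [h2]
      _ = _ := by rw [hw']; group
  have hcore : Cfsg.pCore 2 (↥K ⧸ H') = ⊥ := by
    haveI := CfsgLib.Core.normal_pCore (G := ↥K ⧸ H') 2
    haveI := CfsgLib.Core.normal_pCore (G := ↥K) 2
    have h1 : (Cfsg.pCore 2 (↥K ⧸ H')).comap f ≤ Cfsg.pCore 2 ↥K := by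
      refine CfsgLib.Core.le_pCore (Subgroup.Normal.comap inferInstance f)
        ((CfsgLib.Core.isPGroup_pCore 2).comap_of_ker_isPGroup f ?_)
      rw [QuotientGroup.ker_mk']
      exact hHp.comap_of_injective K.subtype K.subtype_injective
    have h2 : (Cfsg.pCore 2 ↥K).map K.subtype ≤ H :=
      CfsgLib.Core.le_pCore (CfsgLib.Core.map_subtype_normal_of_characteristic hKn
        (CfsgLib.Core.characteristic_pCore 2)) ((CfsgLib.Core.isPGroup_pCore 2).map _)
    rw [eq_bot_iff]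
    intro q hq
    obtain ⟨g, rfl⟩ := hfs q
    exact Subgroup.mem_bot.2 ((QuotientGroup.eq_one_iff g).2 (h2 ⟨g, h1 hq, rfl⟩))
  set A' := (A.subgroupOf K).map f with hA'
  have hAK : A ≤ K := hA.1.trans hSK
  have hA'1 : A' ≠ ⊥ := fun e => hAH fun a ha => by
    have h : f ⟨a, hAK ha⟩ ∈ A' := ⟨⟨a, hAK ha⟩, ha, rfl⟩
    rw [e, Subgroup.mem_bot] at h
    exact (QuotientGroup.eq_one_iff (⟨a, hAK ha⟩ : ↥K)).1 h
  have hA'V : Nat.card (Additive ↥W) ≤
      Nat.card ↥A' * Nat.card ↥(fixSet ρ (A' : Set (↥K ⧸ H'))) := by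
    set B := A ⊓ H with hB
    have hBW : B ≤ Subgroup.normalizer (W : Set G) := by
      rw [Subgroup.normalizer_eq_top]; exact le_top
    have hcl' : B ⊔ W = Subgroup.closure ((B : Set G) ∪ W) := by
      rw [Subgroup.closure_union, Subgroup.closure_eq, Subgroup.closure_eq]
    have hcomm : ∀ a ∈ ((B : Set G) ∪ W), ∀ b ∈ ((B : Set G) ∪ W), a * b = b * a := by
      rintro a (ha | ha) b (hb | hb)
      · exact hA.2.1.1 a ha.1 b hb.1
      · exact hHW a ha.2 b hb
      · exact (hHW b hb.2 a ha).symm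
      · exact hZc a ha.1 b hb.1
    have hcomm' : ∀ a ∈ B ⊔ W, ∀ b ∈ B ⊔ W, a * b = b * a := by
      intro a ha b hb
      rw [hcl'] at ha hb
      exact congrArg Subtype.val
        ((Subgroup.isMulCommutative_closure hcomm).is_comm.comm ⟨a, ha⟩ ⟨b, hb⟩)
    have hab : IsAb 2 (B ⊔ W) := by
      refine ⟨hcomm', fun a ha => ?_⟩
      rw [Subgroup.mem_sup_of_normal_right] at ha
      obtain ⟨b, hb, w, hw, rfl⟩ := ha
      rw [(show Commute b w from hHW b hb.2 w hw).mul_pow, hA.2.1.2 b hb.1, one_mul, pow_two, hw.2]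
    have hcard := hA.2.2 (B ⊔ W) (sup_le (inf_le_left.trans hA.1) hWS) hab
    have h3 := card_sup_mul_card_inf hBW
    have h4 : Nat.card ↥(B ⊓ W) ≤ Nat.card ↥(fixSet ρ (A' : Set (↥K ⧸ H'))) := by
      refine Nat.card_le_card_of_injective
        (fun w => ⟨Additive.ofMul (⟨w.1, w.2.2⟩ : ↥W), (mem_fixSet ρ).2 ?_⟩) ?_
      · rintro _ ⟨a, ha, rfl⟩
        exact (hfix_iff a ⟨w.1, w.2.2⟩).2 (hA.2.1.1 (a : G) ha _ w.2.1.1)
      · intro a b h
        exact Subtype.ext (congrArg (fun z : ↥(fixSet ρ (A' : Set (↥K ⧸ H'))) =>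
          ((Additive.toMul (z : Additive ↥W) : ↥W) : G)) h)
    have h5 : Nat.card ↥A' * Nat.card ↥B = Nat.card ↥A := by
      have h := Subgroup.card_mul_index (f.subgroupMap (A.subgroupOf K)).ker
      rw [Subgroup.index_ker, MonoidHom.range_eq_top.2 (f.subgroupMap_surjective _),
        Subgroup.card_top] at h
      rw [← Nat.card_congr (Subgroup.subgroupOfEquivOfLe hAK).toEquiv, ← h, mul_comm]
      congr 1
      refine Nat.card_congr
        { toFun := fun x => ⟨⟨⟨x.1, hAK x.2.1⟩, x.2.1⟩, ?_⟩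
          invFun := fun y => ⟨((y.1 : ↥K) : G), y.1.2, ?_⟩
          left_inv := fun x => rfl
          right_inv := fun y => rfl }
      · exact Subtype.ext ((QuotientGroup.eq_one_iff _).2 x.2.2)
      · exact (QuotientGroup.eq_one_iff (y.1 : ↥K)).1 (congrArg Subtype.val
          (y.2 : f.subgroupMap _ y.1 = 1))
    rw [Nat.card_congr Additive.toMul]
    refine Nat.le_of_mul_le_mul_left ?_ (Nat.card_pos (α := ↥B))
    calc Nat.card ↥B * Nat.card ↥W = Nat.card ↥(B ⊔ W) * Nat.card ↥(B ⊓ W) := h3.symm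
      _ ≤ Nat.card ↥A * _ := Nat.mul_le_mul hcard h4
      _ = _ := by rw [← h5]; ring
  obtain ⟨t, k, ht, hk1, hk3, htk⟩ := QuadThree.exists_inverted_three ρ hinj hquad hcore A'
    (((S.2.to_le hA.1).comap_of_injective K.subtype K.subtype_injective).map f) hA'1 hA'V
  -- a four group
  have hadd : ∀ v : Additive ↥W, v + v = 0 := QuadThree.add_self_zero
  obtain ⟨v₀, hv₀⟩ : ∃ v, ρ k v ≠ v := by
    by_contra h
    push_neg at h
    exact hk1 (hinj (LinearMap.ext fun v => by rw [h v, map_one]; rfl))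
  set u := ρ k v₀ - v₀ with hu
  have hu0 : u ≠ 0 := fun e => hv₀ (sub_eq_zero.1 e)
  have hk3' : ∀ v, ρ k (ρ k (ρ k v)) = v := fun v => by
    rw [← rho_mul, ← rho_mul, show k * k * k = k ^ 3 by rw [pow_succ, pow_two], hk3,
      rho_one]
  have htk' : ∀ v, ρ t (ρ k v) = ρ k (ρ k (ρ t v)) := fun v => by
    have h : t * k = k * (k * t) := by
      calc t * k = t * k * t * t := by rw [mul_assoc (t * k) t t, ht, mul_one]
        _ = k⁻¹ * t := by rw [htk]
        _ = k * k * t := by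
          rw [inv_eq_of_mul_eq_one_right (show k * (k * k) = 1 by
            rw [← mul_assoc, show k * k * k = k ^ 3 by rw [pow_succ, pow_two], hk3])]
        _ = _ := mul_assoc _ _ _
    rw [← rho_mul, h, rho_mul, rho_mul]
  let IsR : Additive ↥W → Prop := fun v => v + ρ k v + ρ k (ρ k v) = 0
  have huR : IsR u := by
    show u + ρ k u + ρ k (ρ k u) = 0
    rw [hu, map_sub, map_sub, hk3']; abel
  obtain ⟨w, hw0, hwR, hwt⟩ : ∃ w, w ≠ 0 ∧ IsR w ∧ ρ t w = w := by
    by_cases h : u + ρ t u = 0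
    · refine ⟨u, hu0, huR, ?_⟩
      calc ρ t u = u + ρ t u + u := by
            rw [show u + ρ t u + u = ρ t u + (u + u) by abel, hadd, add_zero]
        _ = u := by rw [h, zero_add]
    · refine ⟨u + ρ t u, h, ?_, ?_⟩
      · show _ + ρ k (u + ρ t u) + ρ k (ρ k (u + ρ t u)) = 0
        have e1 : ρ k (ρ t u) = ρ t (ρ k (ρ k u)) := by rw [htk', htk', hk3']
        rw [map_add, map_add, show ρ k (ρ k (ρ t u)) = ρ t (ρ k u) from (htk' u).symm, e1,
          show u + ρ t u + (ρ k u + ρ t (ρ k (ρ k u))) + (ρ k (ρ k u) + ρ t (ρ k u)) =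
            (u + ρ k u + ρ k (ρ k u)) + ρ t (u + ρ k u + ρ k (ρ k u)) by rw [map_add, map_add]; abel,
          show u + ρ k u + ρ k (ρ k u) = 0 from huR, map_zero, add_zero]
      · rw [map_add, ← rho_mul, ht, rho_one, add_comm]
  have hkw : ρ k (ρ k w) = w + ρ k w := by
    calc ρ k (ρ k w) = (w + ρ k w + ρ k (ρ k w)) + (w + ρ k w) := by
          rw [show w + ρ k w + ρ k (ρ k w) + (w + ρ k w) =
            ρ k (ρ k w) + ((w + w) + (ρ k w + ρ k w)) by abel, hadd, hadd, add_zero, add_zero]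
      _ = w + ρ k w := by rw [show w + ρ k w + ρ k (ρ k w) = 0 from hwR, zero_add]
  have htkw : ρ t (ρ k w) = w + ρ k w := by rw [htk', hwt, hkw]
  have hneq : ρ k w ≠ w := fun e => hw0 (by
    have h : w + ρ k w + ρ k (ρ k w) = 0 := hwR
    rw [e, e, hadd, zero_add] at h
    exact h)
  have hkw0 : ρ k w ≠ 0 := fun e => hw0 (rho_inj ρ (e.trans (map_zero _).symm))
  set w₁ := ρ k w with hw₁
  let P : AddSubgroup (Additive ↥W) :=
    { carrier := {0, w, w₁, w + w₁}
      zero_mem' := Or.inl rfl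
      add_mem' := by
        have c1 : w + (w + w₁) = w₁ := by rw [← add_assoc, hadd, zero_add]
        have c2 : w₁ + (w + w₁) = w := by
          rw [add_comm w w₁, ← add_assoc, hadd, zero_add]
        intro a b ha hb
        simp only [Set.mem_insert_iff, Set.mem_singleton_iff] at ha hb ⊢
        rcases ha with ha | ha | ha | ha <;> rcases hb with hb | hb | hb | hb <;> rw [ha, hb] <;>
          simp [hadd, c1, c2, add_comm w₁ w, add_comm (w + w₁) w, add_comm (w + w₁) w₁]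
      neg_mem' := by
        intro a ha
        rwa [neg_eq_of_add_eq_zero_left (hadd a)] }
  have hPc : Nat.card ↥P = 4 := by
    have h : Nat.card ↥P = Set.ncard ({0, w, w₁, w + w₁} : Set (Additive ↥W)) := rfl
    rw [h, Set.ncard_insert_of_notMem (s := {w, w₁, w + w₁}), Set.ncard_insert_of_notMem
      (s := {w₁, w + w₁}), Set.ncard_pair]
    · exact fun e => hw0 (by simpa using e.symm)
    · simp only [Set.mem_insert_iff, Set.mem_singleton_iff, not_or]
      exact ⟨hneq.symm, fun e => hkw0 (by simpa using e.symm)⟩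
    · simp only [Set.mem_insert_iff, Set.mem_singleton_iff, not_or]
      refine ⟨hw0.symm, hkw0.symm, fun e => hneq ?_⟩
      rw [← neg_eq_of_add_eq_zero_left (hadd w)]
      exact (neg_eq_of_add_eq_zero_right e.symm).symm
  set V₀ := ((AddSubgroup.toSubgroup' P).map W.subtype).subgroupOf K with hV₀
  have hV₀le : (AddSubgroup.toSubgroup' P).map W.subtype ≤ K :=
    (Subgroup.map_subtype_le _).trans (hWS.trans hSK)
  have hV₀c : Nat.card ↥V₀ = 4 := by
    rw [hV₀, Nat.card_congr (Subgroup.subgroupOfEquivOfLe hV₀le).toEquiv,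
      Subgroup.card_map_of_injective W.subtype_injective, ← hPc]
    exact Nat.card_congr (Equiv.subtypeEquiv Additive.ofMul fun x => Iff.rfl)
  have hkerp : IsPGroup 2 ↥f.ker := by
    rw [QuotientGroup.ker_mk']
    exact hHp.comap_of_injective K.subtype K.subtype_injective
  refine hS4 (SFour.involves_of_action' (hsec.subgroup K) f hfs ?_ V₀ hV₀c ?_ ht hk1 hk3 htk ?_ ?_)
  · obtain ⟨n, hn⟩ := IsPGroup.iff_card.1 hkerp
    rw [hn]; exact Nat.Coprime.pow_left n (by norm_num)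
  · intro c hc
    rw [MonoidHom.mem_ker] at hc
    have hcH : (c : G) ∈ H := (QuotientGroup.eq_one_iff c).1 hc
    rw [Subgroup.mem_centralizer_iff]
    intro v hv
    exact Subtype.ext (hHW _ hcH _ (Subgroup.map_subtype_le _ hv)).symm
  · intro x hx
    refine mem_normalizer_of_map_eq fun v hv => ?_
    obtain ⟨v', hv', hvv⟩ := Subgroup.mem_subgroupOf.1 hv
    have hvP : Additive.ofMul v' ∈ P := hv'
    have h : ρ (f x) (Additive.ofMul v') ∈ P := by
      have hvals : ∀ y, y ∈ P ↔ y = 0 ∨ y = w ∨ y = w₁ ∨ y = w + w₁ := fun y => Iff.rfl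
      rw [hvals] at hvP ⊢
      rcases hx with hx | hx <;> rw [hx] <;> rcases hvP with e | e | e | e <;> rw [e]
      · exact Or.inl (map_zero _)
      · exact Or.inr (Or.inr (Or.inl rfl))
      · exact Or.inr (Or.inr (Or.inr hkw))
      · refine Or.inr (Or.inl ?_)
        rw [map_add, ← hw₁, hw₁, hkw, show ρ k w + (w + ρ k w) = w + (ρ k w + ρ k w) by abel, hadd,
          add_zero]
      · exact Or.inl (map_zero _)
      · exact Or.inr (Or.inl hwt)
      · exact Or.inr (Or.inr (Or.inr htkw))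
      · refine Or.inr (Or.inr (Or.inl ?_))
        rw [map_add, hwt, htkw, ← add_assoc, hadd, zero_add]
    rw [hρ] at h
    exact ⟨Additive.toMul (ρ₀ x (Additive.ofMul v')), h, (hρ₀ x _).trans (show _ = (x : G) * (v : G) * (x : G)⁻¹ by rw [← hvv]; rfl)⟩
  · intro x hx v hv hxv
    obtain ⟨v', hv', hvv⟩ := Subgroup.mem_subgroupOf.1 hv
    have hfixv : ρ k (Additive.ofMul v') = Additive.ofMul v' := by
      rw [← hx]
      refine (hfix_iff x v').2 ?_
      rw [show (v' : G) = (v : G) from hvv]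
      exact congrArg Subtype.val hxv
    have hvP : Additive.ofMul v' ∈ P := hv'
    have h0 : Additive.ofMul v' = 0 := by
      rcases hvP with e | e | e | e
      · exact e
      · rw [e] at hfixv; exact absurd hfixv hneq
      · rw [e] at hfixv; exact absurd (rho_inj ρ hfixv) hneq
      · rw [Set.mem_singleton_iff] at e
        rw [e, map_add, ← hw₁, hw₁, hkw] at hfixv
        refine absurd ?_ hkw0
        have : ρ k w + (w + ρ k w) = w := by
          rw [show ρ k w + (w + ρ k w) = w + (ρ k w + ρ k w) by abel, hadd, add_zero]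
        rw [this] at hfixv
        exact add_left_cancel (hfixv.symm.trans (add_zero w).symm)
    have hv1 : v' = 1 := Additive.ofMul.injective h0
    exact Subtype.ext (hvv.symm.trans (by rw [hv1]; rfl))

/-- A Sylow subgroup of `O_{p',p}(G)` covers `O_p(G / O_{p'}(G))`. -/
theorem sylow_pPrimePCore_map {p : ℕ} [Fact p.Prime] (P : Sylow p ↥(Cfsg.pPrimePCore p G)) :
    ((P : Subgroup ↥(Cfsg.pPrimePCore p G)).map (Cfsg.pPrimePCore p G).subtype).map
      (QuotientGroup.mk' (Cfsg.pPrimeCore p G)) = Cfsg.pCore p (G ⧸ Cfsg.pPrimeCore p G) := by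
  set f := QuotientGroup.mk' (Cfsg.pPrimeCore p G) with hf
  have hMf : ∀ m : ↥(Cfsg.pPrimePCore p G), f (m : G) ∈ Cfsg.pCore p (G ⧸ Cfsg.pPrimeCore p G) := fun m => m.2
  let F : ↥(Cfsg.pPrimePCore p G) →* ↥(Cfsg.pCore p (G ⧸ Cfsg.pPrimeCore p G)) :=
    (f.comp (Cfsg.pPrimePCore p G).subtype).codRestrict _ hMf
  have hFs : Function.Surjective F := by
    rintro ⟨q, hq⟩
    obtain ⟨g, rfl⟩ := QuotientGroup.mk'_surjective (Cfsg.pPrimeCore p G) q
    exact ⟨⟨g, hq⟩, Subtype.ext rfl⟩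
  have hPtop : ((P.mapSurjective hFs : Sylow p ↥(Cfsg.pCore p (G ⧸ Cfsg.pPrimeCore p G))) :
      Subgroup ↥(Cfsg.pCore p (G ⧸ Cfsg.pPrimeCore p G))) = ⊤ := by
    have hp : IsPGroup p ↥(⊤ : Subgroup ↥(Cfsg.pCore p (G ⧸ Cfsg.pPrimeCore p G))) :=
      (CfsgLib.Core.isPGroup_pCore p).of_equiv Subgroup.topEquiv.symm
    exact ((P.mapSurjective hFs).3 hp le_top).symm
  refine le_antisymm ?_ fun q hq => ?_
  · rintro _ ⟨_, ⟨m, -, rfl⟩, rfl⟩; exact hMf m
  · have h : (⟨q, hq⟩ : ↥(Cfsg.pCore p (G ⧸ Cfsg.pPrimeCore p G))) ∈ (P : Subgroup ↥(Cfsg.pPrimePCore p G)).map F := by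
      rw [← Sylow.coe_mapSurjective hFs P, hPtop]; trivial
    obtain ⟨m, hm, he⟩ := h
    exact ⟨m, ⟨m, hm, rfl⟩, congrArg Subtype.val he⟩

/-- A soluble group is 2-constrained. -/
theorem isPConstrained_of_solvable [Group.IsSolvable G] (p : ℕ) [Fact p.Prime] :
    Cfsg.IsPConstrained p G := by
  intro P g hg
  haveI := CfsgLib.Core.normal_pPrimeCore (G := G) p
  show QuotientGroup.mk' (Cfsg.pPrimeCore p G) g ∈ Cfsg.pCore p (G ⧸ Cfsg.pPrimeCore p G)
  refine CfsgLib.Core.centralizer_pCore_le (CfsgLib.Core.pPrimeCore_quotient_pPrimeCore p) ?_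
  rw [← sylow_pPrimePCore_map P, Subgroup.mem_centralizer_iff]
  rintro _ ⟨x, hx, rfl⟩
  rw [← map_mul, ← map_mul, Subgroup.mem_centralizer_iff.1 hg x hx]

/-- The factorization `G = N(J(S)) O(G)`. -/
theorem factorization (hcon : Cfsg.IsPConstrained 2 G)
    (hS4 : ¬ Cfsg.Involves (Equiv.Perm (Fin 4)) G) (S : Sylow 2 G)
    (hcl : Subgroup.lowerCentralSeries (S : Subgroup G) 2 = ⊥) :
    Subgroup.normalizer (Jsub 2 (S : Subgroup G) : Set G) ⊔ Cfsg.pPrimeCore 2 G = ⊤ := by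
  haveI : Fact (Nat.Prime 2) := ⟨Nat.prime_two⟩
  haveI := CfsgLib.Core.normal_pPrimeCore (G := G) 2
  set O := Cfsg.pPrimeCore 2 G with hO
  set f := QuotientGroup.mk' O with hf
  have hfs : Function.Surjective f := QuotientGroup.mk'_surjective O
  have hker : (Nat.card f.ker).Coprime 2 := by
    rw [QuotientGroup.ker_mk']; exact CfsgLib.Core.coprime_card_pPrimeCore 2
  haveI := CfsgLib.Core.normal_pCore (G := G ⧸ O) 2
  have hC : Subgroup.centralizer (Cfsg.pCore 2 (G ⧸ O) : Set (G ⧸ O)) ≤ Cfsg.pCore 2 (G ⧸ O) := by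
    obtain ⟨P⟩ := (inferInstance : Nonempty (Sylow 2 ↥(Cfsg.pPrimePCore 2 G)))
    set P' := (P : Subgroup ↥(Cfsg.pPrimePCore 2 G)).map (Cfsg.pPrimePCore 2 G).subtype with hP'
    have hP'p : IsPGroup 2 ↥P' := P.2.map _
    have hmap : P'.map f = Cfsg.pCore 2 (G ⧸ O) := sylow_pPrimePCore_map P
    rw [← hmap]
    refine (centralizer_map_le f hfs hker hP'p).trans ?_
    rw [hmap]
    rintro _ ⟨g, hg, rfl⟩
    exact hcon P hg
  have hcl' : ∀ a ∈ (S : Subgroup G), ∀ b ∈ (S : Subgroup G), ∀ c ∈ (S : Subgroup G),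
      a * b * a⁻¹ * b⁻¹ * c = c * (a * b * a⁻¹ * b⁻¹) := by
    intro a ha b hb c hc
    have h1 : a * b * a⁻¹ * b⁻¹ ∈ Subgroup.lowerCentralSeries (S : Subgroup G) 1 :=
      Subgroup.commutator_mem_commutator ha hb
    rw [Subgroup.lowerCentralSeries_succ, Subgroup.commutator_eq_bot_iff_le_centralizer] at hcl
    exact (Subgroup.mem_centralizer_iff.1 (hcl h1) c hc).symm
  have h := Jsub_normalizer_top hS4 ((isSec_self G).quotient f hfs) (S.mapSurjective hfs) hC (by
    rw [Sylow.coe_mapSurjective]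
    rintro _ ⟨a, ha, rfl⟩ _ ⟨b, hb, rfl⟩ _ ⟨c, hc, rfl⟩
    rw [← map_inv, ← map_inv, ← map_mul, ← map_mul, ← map_mul, ← map_mul, ← map_mul,
      hcl' a ha b hb c hc])
  rw [Sylow.coe_mapSurjective, ← map_Jsub 2 _ _ (injOn_of_coprime_ker f hker S.2),
    normalizer_map_eq f hfs hker (S.2.to_le (Jsub_le 2 _))] at h
  rw [← QuotientGroup.ker_mk' O, ← Subgroup.comap_map_eq, h, Subgroup.comap_top]

end CfsgLib.Local.ClassTwo
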