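import Cfsg.Prelude.Def_OddOrderLocal
import Cfsg.Prelude.Def_PLocal
import Cfsg.Agent.Lib.TransferPower
import Cfsg.Agent.Lib.TransferPGroups
import Cfsg.Agent.Lib.LocalRankTwo

/-!
# Groups of prime power order with a cyclic maximal subgroup, and their applications
-/

set_option autoImplicit false

universe u

namespace CfsgLib.LocalCyclicMax

open Subgroup
open scoped commutatorElement

set_option linter.unusedSectionVars false

variable {R : Type u} [Group R] [Finite R] {p : ℕ} [hp : Fact p.Prime]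

theorem omega_map (B : Subgroup R) :
    (closure {x : B | x ^ p = 1}).map B.subtype = Cfsg.omegaOne p B := by
  rw [Cfsg.omegaOne, MonoidHom.map_closure]
  congr 1
  ext y
  constructor
  · rintro ⟨x, hx, rfl⟩; exact ⟨x.2, congrArg Subtype.val hx⟩
  · rintro ⟨hy, hyp⟩; exact ⟨⟨y, hy⟩, Subtype.ext hyp, rfl⟩

theorem omega_normal (B : Subgroup R) [hB : B.Normal] : (Cfsg.omegaOne p B).Normal := by
  refine ⟨fun w hw g => ?_⟩
  have : (Cfsg.omegaOne p B).map (MulAut.conj g).toMonoidHom ≤ Cfsg.omegaOne p B := by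
    rw [Cfsg.omegaOne, MonoidHom.map_closure]
    refine closure_mono ?_
    rintro _ ⟨x, ⟨hx, hxp⟩, rfl⟩
    exact ⟨hB.conj_mem x hx g, by rw [← map_pow, hxp, map_one]⟩
  exact this ⟨w, hw, rfl⟩

theorem omega_of_index_prime (hp2 : p ≠ 2) (hR : IsPGroup p R) (A B : Subgroup R) (hA : IsCyclic A)
    (hAB : A ≤ B) (hi : A.relIndex B = p) (hnc : ¬ IsCyclic B) :
    Cfsg.IsElementaryAbelian p (Cfsg.omegaOne p B) ∧ Nat.card (Cfsg.omegaOne p B) = p ^ 2 := by
  obtain ⟨⟨hc, he⟩, hcard⟩ := CfsgLib.Transfer.omega_of_cyclic_maximal hp2 (hR.to_subgroup B) hnc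
    (A.subgroupOf B) ((subgroupOfEquivOfLe hAB).isCyclic.mpr hA) hi
  rw [← omega_map]
  refine ⟨⟨inferInstance, ?_⟩, by rw [card_map_of_injective B.subtype_injective, hcard]⟩
  rintro _ ⟨x, hx, rfl⟩
  rw [← map_pow, he x hx, map_one]

theorem isCyclic_of_no_sq (hp2 : p ≠ 2) (hR : IsPGroup p R) (B : Subgroup R) (hnc : ¬ IsCyclic B) :
    ∃ E : Subgroup R, E ≤ B ∧ Cfsg.IsElementaryAbelian p E ∧ Nat.card E = p ^ 2 := by
  obtain ⟨N, -, hN, he⟩ := CfsgLib.Local.exists_normal_exp_sq hp2 B (hR.to_subgroup B) hnc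
  have hc : IsMulCommutative N := ⟨⟨IsPGroup.commutative_of_card_eq_prime_sq hN⟩⟩
  refine ⟨N.map B.subtype, map_subtype_le _, ⟨inferInstance, ?_⟩,
    by rw [card_map_of_injective B.subtype_injective, hN]⟩
  rintro _ ⟨x, hx, rfl⟩
  rw [← map_pow, he x hx, map_one]

theorem exists_normal_ea_sq (hp2 : p ≠ 2) (hR : IsPGroup p R) (S : Subgroup R) [S.Normal]
    (hS : ¬ IsCyclic S) :
    ∃ A : Subgroup R, A ≤ S ∧ A.Normal ∧ Cfsg.IsElementaryAbelian p A ∧ Nat.card A = p ^ 2 := by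
  obtain ⟨A, hA, hmax⟩ := Set.Finite.exists_maximalFor (fun A : Subgroup R => Nat.card A)
    {A : Subgroup R | A.Normal ∧ A ≤ S ∧ IsMulCommutative A} (Set.toFinite _)
    ⟨⊥, inferInstance, bot_le, inferInstance⟩
  obtain ⟨hAn, hAS, hAc⟩ := hA
  by_cases hcy : IsCyclic A
  swap
  · obtain ⟨E, hEA, hE, hEc⟩ := isCyclic_of_no_sq hp2 hR A hcy
    have hΩ : Cfsg.IsElementaryAbelian p (Cfsg.omegaOne p A) := by
      have hle : Cfsg.omegaOne p A ≤ A := (closure_le _).mpr fun x hx => hx.1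
      have hcm : IsMulCommutative (Cfsg.omegaOne p A) := ⟨⟨fun u v => Subtype.ext
        (congrArg (fun w : A => (w : R)) (hAc.is_comm.comm (⟨u, hle u.2⟩ : A) ⟨v, hle v.2⟩))⟩⟩
      refine ⟨hcm, fun x hx => ?_⟩
      induction hx using closure_induction with
      | mem y hy => exact hy.2
      | one => exact one_pow p
      | mul y z hy hz hy' hz' =>
        have hyz : Commute y z := congrArg Subtype.val
          (hAc.is_comm.comm (⟨y, hle hy⟩ : A) ⟨z, hle hz⟩)
        rw [hyz.mul_pow, hy', hz', one_mul]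
      | inv y _ hy' => rw [inv_pow, hy', inv_one]
    obtain ⟨a, ha⟩ := IsPGroup.iff_card.mp (hR.to_subgroup (Cfsg.omegaOne p A))
    have h2 : 2 ≤ a := by
      have hEle : E ≤ Cfsg.omegaOne p A := fun x hx => subset_closure ⟨hEA hx, hE.2 x hx⟩
      have := card_le_of_le hEle
      rw [hEc, ha] at this
      exact (Nat.pow_le_pow_iff_right hp.out.one_lt).mp this
    haveI := hAn
    obtain ⟨M, hMn, hMle, hMc⟩ :=
      CfsgLib.Transfer.exists_normal_card hR (j := 2) _ (omega_normal A) ha h2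
    refine ⟨M, hMle.trans ((closure_le _).mpr fun x hx => hAS hx.1), hMn,
      ⟨⟨⟨fun u v => Subtype.ext ?_⟩⟩, fun x hx => hΩ.2 x (hMle hx)⟩, hMc⟩
    exact congrArg (fun w : Cfsg.omegaOne p A => (w : R))
      (hΩ.1.is_comm.comm (⟨u, hMle u.2⟩ : Cfsg.omegaOne p A) ⟨v, hMle v.2⟩)
  haveI := hAn
  set π := QuotientGroup.mk' A with hπ
  have hne : S.map π ≠ ⊥ := by
    intro e
    rw [Subgroup.map_eq_bot_iff, hπ, QuotientGroup.ker_mk'] at e
    exact hS (le_antisymm hAS e ▸ hcy)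
  haveI : (S.map π).Normal := (inferInstance : S.Normal).map π (QuotientGroup.mk'_surjective A)
  haveI := (hR.to_quotient A).isNilpotent
  obtain ⟨a, ha⟩ := IsPGroup.iff_card.mp ((hR.to_quotient A).to_subgroup (S.map π))
  have ha1 : 1 ≤ a := by
    rcases Nat.eq_zero_or_pos a with rfl | h
    · exact absurd (card_eq_one.mp (by rw [ha, pow_zero])) hne
    · exact h
  obtain ⟨M, hMn, hMle, hMc⟩ :=
    CfsgLib.Transfer.exists_normal_card (hR.to_quotient A) (j := 1) _ inferInstance ha ha1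
  set B := M.comap π with hB
  haveI : B.Normal := hMn.comap π
  have hAB : A ≤ B := fun x hx => by
    rw [hB, mem_comap, hπ, QuotientGroup.mk'_apply, (QuotientGroup.eq_one_iff x).mpr hx]
    exact one_mem _
  have hBS : B ≤ S := by
    calc B ≤ (S.map π).comap π := comap_mono hMle
      _ = S := by rw [comap_map_eq, hπ, QuotientGroup.ker_mk', sup_eq_left.mpr hAS]
  have hi : A.relIndex B = p := by
    rw [← QuotientGroup.ker_mk' A, ← hπ, relIndex_ker, hB,
      map_comap_eq_self_of_surjective (QuotientGroup.mk'_surjective A), hMc, pow_one]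
  have hnab : ¬ IsMulCommutative B := fun h => by
    have h1 : Nat.card B ≤ Nat.card A := by
      rcases le_total (Nat.card B) (Nat.card A) with h' | h'
      · exact h'
      · exact hmax ⟨inferInstance, hBS, h⟩ h'
    rw [← CfsgLib.Core.eq_of_le_of_card_le hAB h1, relIndex_self] at hi
    exact hp.out.ne_one hi.symm
  obtain ⟨h1, h2⟩ := omega_of_index_prime hp2 hR A B hcy hAB hi
    fun h => hnab inferInstance
  exact ⟨_, (closure_le _).mpr fun x hx => hBS hx.1, omega_normal B, h1, h2⟩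

theorem metacyclic_omega (hp2 : p ≠ 2) (hR : IsPGroup p R) (hm : Cfsg.IsMetacyclic R)
    (hnc : ¬ IsCyclic R) :
    Cfsg.IsElementaryAbelian p (Cfsg.omegaOne p (⊤ : Subgroup R)) ∧
      Nat.card ↥(Cfsg.omegaOne p (⊤ : Subgroup R)) = p ^ 2 := by
  obtain ⟨N, hN, hNc, hQc⟩ := hm
  set π := QuotientGroup.mk' N with hπ
  haveI := hQc
  set M : Subgroup (R ⧸ N) :=
    (closure {x : R ⧸ N | x ^ p = 1}) with hM
  have hMp : ∀ x ∈ M, x ^ p = 1 := fun x hx => by
    induction hx using closure_induction with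
    | mem y hy => exact hy
    | one => exact one_pow p
    | mul y z _ _ hy hz => rw [(IsCyclic.commGroup (α := R ⧸ N)).mul_comm y z |> fun h =>
        (show Commute y z from h).mul_pow, hy, hz, one_mul]
    | inv y _ hy => rw [inv_pow, hy, inv_one]
  have hMc : Nat.card M ∣ p := by
    haveI : IsCyclic M := inferInstance
    rw [← IsCyclic.exponent_eq_card]
    exact Monoid.exponent_dvd_of_forall_pow_eq_one fun x => Subtype.ext (hMp x x.2)
  set B := M.comap π with hB
  have hmem : ∀ x : R, x ^ p = 1 → x ∈ B := fun x hx =>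
    subset_closure (show π x ^ p = 1 by rw [← map_pow, hx, map_one])
  have hΩ : Cfsg.omegaOne p (⊤ : Subgroup R) = Cfsg.omegaOne p B := by
    rw [Cfsg.omegaOne, Cfsg.omegaOne]
    congr 1
    ext x
    exact ⟨fun h => ⟨hmem x h.2, h.2⟩, fun h => ⟨mem_top _, h.2⟩⟩
  rw [hΩ]
  have hBnc : ¬ IsCyclic B := by
    intro h
    obtain ⟨E, -, hE, hEc⟩ := isCyclic_of_no_sq hp2 hR ⊤ (fun h' => hnc (topEquiv.isCyclic.mp h'))
    have hle : E ≤ B := fun x hx => hmem x (hE.2 x hx)
    haveI : IsCyclic E := (subgroupOfEquivOfLe hle).isCyclic.mp inferInstance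
    have h1 : Nat.card E ∣ p := by
      rw [← IsCyclic.exponent_eq_card]
      exact Monoid.exponent_dvd_of_forall_pow_eq_one fun x => Subtype.ext (hE.2 x x.2)
    rw [hEc] at h1
    have := Nat.le_of_dvd hp.out.pos h1
    nlinarith [hp.out.one_lt]
  have hNB : N ≤ B := fun x hx => by
    rw [hB, mem_comap, hπ, QuotientGroup.mk'_apply, (QuotientGroup.eq_one_iff x).mpr hx]
    exact one_mem _
  refine omega_of_index_prime hp2 hR N B hNc hNB ?_ hBnc
  have hrel : N.relIndex B = Nat.card M := by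
    have h1 : π.ker.relIndex B = Nat.card M := by
      rw [relIndex_ker, hB, map_comap_eq_self_of_surjective (QuotientGroup.mk'_surjective N)]
    rwa [hπ, QuotientGroup.ker_mk'] at h1
  rcases (Nat.dvd_prime hp.out).mp hMc with e | e
  · exfalso
    rw [← hrel, relIndex_eq_one] at e
    exact hBnc (le_antisymm hNB e ▸ hNc)
  · rw [hrel, e]

theorem cyclic_maximal_odd (hp2 : p ≠ 2) (n : ℕ) (hn : 3 ≤ n) (hG : Nat.card R = p ^ n)
    (C : Subgroup R) (hC : IsCyclic C) (hCi : C.index = p) (hna : ∃ x y : R, x * y ≠ y * x) :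
    ∃ a b : R, orderOf a = p ^ (n - 1) ∧ orderOf b = p ∧ b ∉ zpowers a ∧
      b * a * b⁻¹ = a ^ (1 + p ^ (n - 2)) := by
  have hR : IsPGroup p R := IsPGroup.of_card hG
  have hnc : ¬ IsCyclic R := fun h => by
    obtain ⟨x, y, hxy⟩ := hna
    exact hxy ((IsCyclic.commGroup (α := R)).mul_comm x y)
  obtain ⟨hΩe, hΩc⟩ :=
    CfsgLib.Transfer.omega_of_cyclic_maximal hp2 hR hnc C hC hCi
  set Ω := closure {x : R | x ^ p = 1} with hΩ
  have hΩn : Ω.Normal := by
    have h := omega_normal (p := p) (⊤ : Subgroup R)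
    have e : Cfsg.omegaOne p (⊤ : Subgroup R) = Ω := by
      rw [Cfsg.omegaOne, hΩ]; congr 1; ext x; simp
    rwa [e] at h
  obtain ⟨⟨a, haC⟩, hgen⟩ := hC.exists_generator
  have hzp : zpowers a = C := le_antisymm (zpowers_le.mpr haC) fun z hz => by
    obtain ⟨i, hi⟩ := hgen ⟨z, hz⟩
    exact ⟨i, congrArg Subtype.val hi⟩
  have hCc : Nat.card C = p ^ (n - 1) := by
    have h := card_mul_index C
    rw [hG, hCi, show n = n - 1 + 1 by omega, pow_succ] at h
    exact mul_right_cancel₀ hp.out.ne_zero h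
  have hoa : orderOf a = p ^ (n - 1) := by rw [← Nat.card_zpowers, hzp, hCc]
  have hCn : C.Normal := by
    have hcoat : IsCoatom C := by
      refine ⟨fun e => hp.out.ne_one (by rw [← hCi, e, index_top]), fun H hH => ?_⟩
      rcases (Nat.dvd_prime hp.out).mp (hCi ▸ index_dvd_of_le hH.le) with e | e
      · exact index_eq_one.mp e
      · exfalso
        have h1 := card_mul_index H
        rw [e, ← hCi, ← card_mul_index C] at h1
        exact hH.ne (CfsgLib.Core.eq_of_le_of_card_le hH.le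
          (mul_right_cancel₀ (hCi ▸ hp.out.ne_zero) h1).le)
    exact (CfsgLib.Core.index_of_coatom_pgroup hR hcoat).1
  -- elements of order dividing `p` of `C`
  set z := a ^ (p ^ (n - 2)) with hz
  have hzord : orderOf z = p := by
    rw [hz, orderOf_pow' _ (pow_ne_zero _ hp.out.ne_zero), hoa,
      Nat.gcd_eq_right (pow_dvd_pow p (by omega)), Nat.pow_div (by omega) hp.out.pos,
      show n - 1 - (n - 2) = 1 by omega, pow_one]
  have hzC : ∀ w ∈ C, w ^ p = 1 → ∃ k : ℕ, w = z ^ k := by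
    intro w hw hwp
    rw [← hzp, ← mem_powers_iff_mem_zpowers] at hw
    obtain ⟨i, rfl⟩ := hw
    simp only at hwp ⊢
    rw [← pow_mul, ← orderOf_dvd_iff_pow_eq_one, hoa, show n - 1 = (n - 2) + 1 by omega, pow_succ] at hwp
    obtain ⟨k, rfl⟩ := Nat.dvd_of_mul_dvd_mul_right hp.out.pos hwp
    exact ⟨k, by rw [hz, ← pow_mul]⟩
  obtain ⟨b, hbΩ, hbC⟩ : ∃ b ∈ Ω, b ∉ C := by
    by_contra h
    push Not at h
    have hle : Ω ≤ zpowers z := fun x hx => by
      obtain ⟨k, rfl⟩ := hzC x (h x hx) (hΩe.2 x hx)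
      exact pow_mem (mem_zpowers z) k
    have := card_le_of_le hle
    rw [hΩc, Nat.card_zpowers, hzord] at this
    nlinarith [hp.out.one_lt]
  have hob : orderOf b = p := orderOf_eq_prime (hΩe.2 b hbΩ) fun e => hbC (e ▸ one_mem C)
  have hcΩ : ⁅b, a⁆ ∈ Ω := by
    rw [commutatorElement_def, show b * a * b⁻¹ * a⁻¹ = b * (a * b⁻¹ * a⁻¹) by group]
    exact mul_mem hbΩ (hΩn.conj_mem _ (inv_mem hbΩ) a)
  have hcC : ⁅b, a⁆ ∈ C := by
    rw [commutatorElement_def]; exact mul_mem (hCn.conj_mem a haC b) (inv_mem haC)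
  obtain ⟨k, hk⟩ := hzC _ hcC (hΩe.2 _ hcΩ)
  have hbz : Commute b ⁅b, a⁆ :=
    congrArg Subtype.val (hΩe.1.is_comm.comm (⟨b, hbΩ⟩ : Ω) ⟨_, hcΩ⟩)
  have hpk : ¬ p ∣ k := by
    rintro ⟨t, rfl⟩
    rw [pow_mul, ← hzord, pow_orderOf_eq_one, one_pow, commutatorElement_eq_one_iff_mul_comm] at hk
    have htop : C ⊔ zpowers b = ⊤ := by
      rcases (Nat.dvd_prime hp.out).mp (hCi ▸ index_dvd_of_le (le_sup_left : C ≤ C ⊔ zpowers b)) with e | e
      · exact index_eq_one.mp e
      · exfalso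
        have h1 := card_mul_index (C ⊔ zpowers b)
        rw [e, ← hCi, ← card_mul_index C] at h1
        have := CfsgLib.Core.eq_of_le_of_card_le (le_sup_left : C ≤ C ⊔ zpowers b)
          (mul_right_cancel₀ (hCi ▸ hp.out.ne_zero) h1).le
        exact hbC (this ▸ mem_sup_right (mem_zpowers b))
    have hcomm : IsMulCommutative (C ⊔ zpowers b : Subgroup R) := by
      rw [← hzp, zpowers_eq_closure, zpowers_eq_closure, ← Subgroup.closure_union]
      refine isMulCommutative_closure ?_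
      rintro x (rfl | rfl) y (rfl | rfl)
      exacts [rfl, hk.symm, hk, rfl]
    obtain ⟨x, y, hxy⟩ := hna
    exact hxy (congrArg Subtype.val (hcomm.is_comm.comm
      (⟨x, htop ▸ mem_top x⟩ : (C ⊔ zpowers b : Subgroup R)) ⟨y, htop ▸ mem_top y⟩))
  have hiter : ∀ j : ℕ, b ^ j * a * (b ^ j)⁻¹ = ⁅b, a⁆ ^ j * a := by
    intro j
    induction j with
    | zero => simp
    | succ j ih =>
      calc b ^ (j + 1) * a * (b ^ (j + 1))⁻¹ = b * (b ^ j * a * (b ^ j)⁻¹) * b⁻¹ := by
            rw [pow_succ']; group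
        _ = (b * ⁅b, a⁆ ^ j * b⁻¹) * (b * a * b⁻¹) := by rw [ih]; group
        _ = ⁅b, a⁆ ^ j * (⁅b, a⁆ * a) := by
            rw [(hbz.pow_right j).eq, mul_inv_cancel_right,
              show ⁅b, a⁆ * a = b * a * b⁻¹ by rw [commutatorElement_def, inv_mul_cancel_right]]
        _ = _ := by rw [← mul_assoc, ← pow_succ]
  haveI : Fact (1 < p) := ⟨hp.out.one_lt⟩
  obtain ⟨j, hj⟩ : ∃ j : ℕ, k * j ≡ 1 [MOD p] := by
    obtain ⟨j, -, hj⟩ := Nat.exists_mul_mod_eq_one_of_coprime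
      ((hp.out.coprime_iff_not_dvd.mpr hpk).symm) hp.out.one_lt
    exact ⟨j, by rw [Nat.ModEq, hj, Nat.one_mod_eq_one.mpr hp.out.ne_one]⟩
  refine ⟨a, b ^ j, hoa, ?_, ?_, ?_⟩
  · have hjp : ¬ p ∣ j := fun ⟨t, ht⟩ => by
      rw [Nat.ModEq, ht, mul_left_comm, Nat.mul_mod_right, Nat.one_mod_eq_one.mpr hp.out.ne_one] at hj
      exact zero_ne_one hj
    rw [(Nat.Coprime.orderOf_pow (hob ▸ (hp.out.coprime_iff_not_dvd.mpr hjp))), hob]
  · rw [hzp]
    intro h
    apply hbC
    have h2 := pow_mem h k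
    rwa [← pow_mul, mul_comm, pow_eq_pow_iff_modEq.mpr (hob.symm ▸ hj : k * j ≡ 1 [MOD orderOf b]),
      pow_one] at h2
  · rw [hiter, hk, ← pow_mul, pow_eq_pow_iff_modEq.mpr (hzord.symm ▸ hj : k * j ≡ 1 [MOD orderOf z]),
      pow_one, hz, ← pow_succ, add_comm]

end CfsgLib.LocalCyclicMax
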