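import Cfsg.Agent.Lib.LocalThompsonBasic
import Cfsg.Agent.Lib.CoreCoprime2
import Cfsg.Agent.Lib.CoreGen

/-!
# Best offenders in faithful groups with a self-centralizing `p'`-core

Every best offender `A` satisfies `|A| |C_V(A)| = |V|` and is a join of offenders of order `p`.
-/

set_option autoImplicit false

universe u

namespace CfsgLib.LocalFF

open Subgroup CfsgLib.LocalThompson CfsgLib.Core
open scoped commutatorElement IsMulCommutative

set_option linter.unusedSectionVars false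

variable {G : Type u} [Group G] [Finite G] {p : ℕ} [hp : Fact p.Prime]

/-- The standing hypotheses. -/
structure Setup (p : ℕ) (V H : Subgroup G) : Prop where
  ea : Cfsg.IsElementaryAbelian p V
  norm : H ≤ normalizer (V : Set G)
  faith : H ⊓ centralizer (V : Set G) = ⊥
  self : centralizer (Cfsg.pPrimeCore p H : Set H) ≤ Cfsg.pPrimeCore p H

/-- The `p'`-core of `H` as a subgroup of `G`. -/
def core (p : ℕ) (H : Subgroup G) : Subgroup G := (Cfsg.pPrimeCore p H).map H.subtype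

/-- Fixed points. -/
def fx (V A : Subgroup G) : Subgroup G := V ⊓ centralizer (A : Set G)

/-- An offender attaining equality. -/
def Off (p : ℕ) (V H A : Subgroup G) : Prop :=
  A ≤ H ∧ Cfsg.IsElementaryAbelian p A ∧ Nat.card A * Nat.card (fx V A) = Nat.card V

/-- An offender of order `p`. -/
def Line (p : ℕ) (V H L : Subgroup G) : Prop :=
  L ≤ H ∧ Nat.card L = p ∧ Nat.card (fx V L) * p = Nat.card V

theorem eq_bot_or_eq_of_prime {L B : Subgroup G} (hL : Nat.card L = p) (h : B ≤ L) :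
    B = ⊥ ∨ B = L := by
  rcases (Nat.dvd_prime hp.out).mp (hL ▸ card_dvd_of_le h) with h1 | h1
  · exact .inl (eq_bot_of_card_eq _ h1)
  · exact .inr (eq_of_le_of_card_le h (by rw [h1, hL]))

theorem inf_eq_bot_of_prime {L B : Subgroup G} (hL : Nat.card L = p) (h : ¬ L ≤ B) :
    L ⊓ B = ⊥ :=
  (eq_bot_or_eq_of_prime hL inf_le_left).resolve_right fun e => h (e ▸ inf_le_right)

theorem card_mul_le {A B : Subgroup G} (hB : IsPGroup p B) (h : A ≤ B) (hne : A ≠ B) :
    Nat.card A * p ≤ Nat.card B := by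
  obtain ⟨n, hn⟩ := IsPGroup.iff_card.mp hB
  obtain ⟨m, hmn, hm⟩ := (Nat.dvd_prime_pow hp.out).mp (hn ▸ card_dvd_of_le h)
  have : m ≠ n := fun e => hne (eq_of_le_of_card_le h (by rw [hm, hn, e]))
  rw [hm, hn, ← pow_succ]
  exact Nat.pow_le_pow_right hp.out.pos (by omega)

theorem fx_anti (V : Subgroup G) {A B : Subgroup G} (h : B ≤ A) : fx V A ≤ fx V B :=
  inf_le_inf_left _ (centralizer_le h)

theorem fx_bot (V : Subgroup G) : fx V ⊥ = V :=
  inf_eq_left.mpr fun v _ => mem_centralizer_iff.mpr fun x hx => by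
    rw [mem_bot.mp hx, one_mul, mul_one]

variable {V H : Subgroup G}

theorem core_le : core p H ≤ H := map_subtype_le _

theorem core_normal : H ≤ normalizer ((core p H : Subgroup G) : Set G) := by
  refine le_normalizer_iff_forall.mpr fun h hh k hk => ?_
  obtain ⟨k', hk', rfl⟩ := hk
  exact ⟨⟨h, hh⟩ * k' * ⟨h, hh⟩⁻¹, (normal_pPrimeCore p).conj_mem k' hk' _, rfl⟩

theorem core_coprime : (Nat.card (core p H)).Coprime p := by
  rw [core, card_map_of_injective H.subtype_injective]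
  exact coprime_card_pPrimeCore p

namespace Setup

variable (S : Setup p V H)
include S

theorem V_pGroup : IsPGroup p V := isPGroup_of_pow S.ea.2

theorem eq_one {g : G} (hg : g ∈ H) (hc : ∀ v ∈ V, v * g = g * v) : g = 1 :=
  mem_bot.mp (S.faith ▸ mem_inf.mpr ⟨hg, mem_centralizer_iff.mpr hc⟩)

theorem eq_bot {A : Subgroup G} (hA : A ≤ H) (hc : ⁅V, A⁆ = ⊥) : A = ⊥ := by
  rw [eq_bot_iff]
  intro a ha
  exact mem_bot.mpr (S.eq_one (hA ha) fun v hv => by
    have := commutator_mem_commutator hv ha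
    rw [hc, mem_bot] at this
    exact commutatorElement_eq_one_iff_mul_comm.mp this)

theorem comm_ne_bot {A : Subgroup G} (hA : A ≤ H) (h1 : A ≠ ⊥) : ⁅V, A⁆ ≠ ⊥ :=
  fun e => h1 (S.eq_bot hA e)

theorem cent_core {g : G} (hg : g ∈ H) (hc : ∀ k ∈ core p H, k * g = g * k) : g ∈ core p H :=
  ⟨⟨g, hg⟩, S.self (mem_centralizer_iff.mpr fun k hk => Subtype.ext (hc k ⟨k, hk, rfl⟩)), rfl⟩

theorem inf_cent_core {A : Subgroup G} (hA : A ≤ H) (hp' : IsPGroup p A) :
    A ⊓ centralizer ((core p H : Subgroup G) : Set G) = ⊥ := by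
  rw [eq_bot_iff]
  intro g hg
  have hgK := S.cent_core (hA (mem_inf.mp hg).1) fun k hk =>
    mem_centralizer_iff.mp (mem_inf.mp hg).2 k hk
  obtain ⟨n, hn⟩ := IsPGroup.iff_card.mp hp'
  have hd : A ⊓ core p H = ⊥ :=
    CfsgLib.Core.inf_eq_bot_of_coprime (by rw [hn]; exact (core_coprime.pow_right n).symm)
  exact hd ▸ mem_inf.mpr ⟨(mem_inf.mp hg).1, hgK⟩

theorem ea_of_bo {A : Subgroup G} (hA : A ≤ H) (h : Cfsg.IsBestOffenderOn p V A) :
    Cfsg.IsElementaryAbelian p A := by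
  refine ⟨⟨⟨fun a b => Subtype.ext ?_⟩⟩, fun a ha => S.eq_one (pow_mem (hA ha) p)
    (mem_centralizer_iff.mp (h.2.2 a ha))⟩
  refine commutatorElement_eq_one_iff_mul_comm.mp (S.eq_one ?_
    (mem_centralizer_iff.mp (h.2.1 (commutator_mem_commutator a.2 b.2))))
  rw [commutatorElement_def]
  exact mul_mem (mul_mem (mul_mem (hA a.2) (hA b.2)) (inv_mem (hA a.2))) (inv_mem (hA b.2))

/-- The cocyclic subgroups `B` with `C_K(B)` not centralized by `A`. -/
theorem bad_step {A B : Subgroup G} (hA : A ≤ H) (hE : Cfsg.IsElementaryAbelian p A)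
    (hB : B ∈ Cocyclic A) (hbad : ¬ core p H ⊓ centralizer (B : Set G) ≤ centralizer (A : Set G)) :
    Nat.card A = Nat.card B * p ∧ Nat.card (fx V A) * p ≤ Nat.card (fx V B) := by
  obtain ⟨hBA, a, ha, hBa⟩ := hB
  have hne : B ≠ A := fun e => hbad (e ▸ inf_le_right)
  have hanB : a ∉ B := fun h => hne (le_antisymm hBA
    (hBa ▸ sup_le le_rfl (zpowers_le.mpr h)))
  have hca : Nat.card (zpowers a) = p := by
    rw [Nat.card_zpowers]
    exact orderOf_eq_prime (hE.2 a ha) fun e => hanB (e ▸ one_mem B)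
  refine ⟨?_, card_mul_le (S.V_pGroup.to_le inf_le_left) (fx_anti V hBA) fun heq => hbad ?_⟩
  · have hd : zpowers a ⊓ B = ⊥ := inf_eq_bot_of_prime hca fun h => hanB (h (mem_zpowers a))
    have h := card_sup_of_disjoint (A := zpowers a) (K := B) (le_normalizer_iff_forall.mpr
      fun x hx b hb => by
        rw [(ea_comm hE (zpowers_le.mpr ha hx) (hBA hb)).eq, mul_inv_cancel_right]
        exact hb) hd
    rw [sup_comm, hBa, hca] at h
    rw [h, mul_comm]
  · set Q := ⁅core p H ⊓ centralizer (B : Set G), A⁆ with hQ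
    have hAn : A ≤ normalizer ((core p H ⊓ centralizer (B : Set G) : Subgroup G) : Set G) := by
      refine le_normalizer_iff_forall.mpr fun x hx c hc => mem_inf.mpr
        ⟨conj_mem_of_le_normalizer core_normal (hA hx) (mem_inf.mp hc).1,
          mem_centralizer_iff.mpr fun b hb => ?_⟩
      have hxb : Commute b x := ea_comm hE (hBA hb) hx
      have hcb : Commute b c := mem_centralizer_iff.mp (mem_inf.mp hc).2 b hb
      exact ((hxb.mul_right hcb).mul_right hxb.inv_right).eq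
    have hQK : Q ≤ core p H ⊓ centralizer (B : Set G) := commutator_le_of_le_normalizer hAn
    have hQV : Q ≤ centralizer (V : Set G) := by
      refine thompson_pxq (P := B) (p := p) (isPGroup_of_pow fun b hb => hE.2 b (hBA hb))
        (core_coprime.coprime_dvd_left (card_dvd_of_le (hQK.trans inf_le_left))) S.V_pGroup
        (Subgroup.le_centralizer_iff.mp (hQK.trans inf_le_right))
        ((hBA.trans hA).trans S.norm) ((hQK.trans inf_le_left).trans (core_le.trans S.norm)) ?_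
      intro w hw
      refine mem_centralizer_iff.mpr fun q hq => ?_
      have hle : Q ≤ centralizer ({w} : Set G) := by
        refine Subgroup.commutator_le.mpr fun c hc x hx => ?_
        rw [mem_centralizer_singleton_iff]
        have hwA : w ∈ fx V A := heq ▸ hw
        have hxw : x * w = w * x := mem_centralizer_iff.mp (mem_inf.mp hwA).2 x hx
        have hcw : c⁻¹ * w * c ∈ fx V A := by
          rw [heq]
          refine mem_inf.mpr ⟨?_, mem_centralizer_iff.mpr fun b hb => ?_⟩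
          · have := conj_mem_of_le_normalizer S.norm (inv_mem (core_le (mem_inf.mp hc).1))
              (mem_inf.mp hw).1
            rwa [inv_inv] at this
          · have hcb : Commute b c := mem_centralizer_iff.mp (mem_inf.mp hc).2 b hb
            have hwb : Commute b w := mem_centralizer_iff.mp (mem_inf.mp hw).2 b hb
            exact ((hcb.inv_right.mul_right hwb).mul_right hcb).eq
        have hxu : x * (c⁻¹ * w * c) = c⁻¹ * w * c * x :=
          mem_centralizer_iff.mp (mem_inf.mp hcw).2 x hx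
        have h1 : x⁻¹ * w * x = w := by rw [mul_assoc, ← hxw, ← mul_assoc, inv_mul_cancel, one_mul]
        have h2 : x * (c⁻¹ * w * c) * x⁻¹ = c⁻¹ * w * c := by rw [hxu, mul_inv_cancel_right]
        rw [commutatorElement_def]
        calc c * x * c⁻¹ * x⁻¹ * w
            = c * (x * (c⁻¹ * (x⁻¹ * w * x) * c) * x⁻¹) * c⁻¹ * (c * x * c⁻¹ * x⁻¹) := by group
          _ = w * (c * x * c⁻¹ * x⁻¹) := by rw [h1, h2]; group
      exact mem_centralizer_singleton_iff.mp (hle hq)
    intro c hc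
    refine mem_centralizer_iff.mpr fun x hx => ?_
    have h1 := commutator_mem_commutator hc hx
    have h2 := S.eq_one (core_le (hQK h1 |> And.left)) (mem_centralizer_iff.mp (hQV h1))
    exact (commutatorElement_eq_one_iff_mul_comm.mp h2).symm

theorem exists_bad {A : Subgroup G} (hA : A ≤ H) (hE : Cfsg.IsElementaryAbelian p A)
    {a : G} (ha : a ∈ A) (ha1 : a ≠ 1) : ∃ B ∈ Cocyclic A,
      ¬ core p H ⊓ centralizer (B : Set G) ≤ centralizer (A : Set G) ∧ a ∉ B := by
  by_contra hcon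
  push Not at hcon
  haveI := hE.1
  refine ha1 (mem_bot.mp (S.inf_cent_core hA (isPGroup_of_pow hE.2) ▸
    mem_inf.mpr ⟨ha, ?_⟩))
  have hgen := generated_by_cocyclic (A := A) (K := core p H) (hA.trans core_normal) (by
    obtain ⟨n, hn⟩ := IsPGroup.iff_card.mp (isPGroup_of_pow (p := p) hE.2)
    rw [hn]; exact (core_coprime.pow_right n).symm)
  have hle : core p H ≤ centralizer ({a} : Set G) := by
    rw [← hgen]
    refine iSup₂_le fun B hB c hc => mem_centralizer_singleton_iff.mpr ?_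
    by_cases hbad : core p H ⊓ centralizer (B : Set G) ≤ centralizer (A : Set G)
    · exact (mem_centralizer_iff.mp (hbad hc) a ha).symm
    · exact (mem_centralizer_iff.mp (mem_inf.mp hc).2 a (hcon B hB hbad)).symm
  exact mem_centralizer_iff.mpr fun k hk => mem_centralizer_singleton_iff.mp (hle hk)

theorem card_bound {A : Subgroup G} (hA : A ≤ H) (hE : Cfsg.IsElementaryAbelian p A) :
    Nat.card A * Nat.card (fx V A) ≤ Nat.card V := by
  induction hn : Nat.card A using Nat.strong_induction_on generalizing A with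
  | _ n ih =>
  subst hn
  rcases eq_or_ne A ⊥ with rfl | h1
  · rw [fx_bot, card_bot, one_mul]
  obtain ⟨⟨a, ha⟩, ha1⟩ := ne_bot_iff_exists_ne_one.mp h1
  obtain ⟨B, hB, hbad, -⟩ := S.exists_bad hA hE ha fun e => ha1 (Subtype.ext e)
  obtain ⟨hc, hfx⟩ := S.bad_step hA hE hB hbad
  have hlt : Nat.card B < Nat.card A := by
    rw [hc]; exact lt_mul_of_one_lt_right Nat.card_pos hp.out.one_lt
  calc Nat.card A * Nat.card (fx V A) = Nat.card B * (Nat.card (fx V A) * p) := by rw [hc]; ring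
    _ ≤ Nat.card B * Nat.card (fx V B) := Nat.mul_le_mul_left _ hfx
    _ ≤ _ := ih _ hlt (hB.1.trans hA) (isEA_of_le hE hB.1) rfl

theorem off_of_bo {A : Subgroup G} (hA : A ≤ H) (h : Cfsg.IsBestOffenderOn p V A) :
    Off p V H A := by
  refine ⟨hA, S.ea_of_bo hA h, le_antisymm (S.card_bound hA (S.ea_of_bo hA h)) ?_⟩
  have h1 := h.1 ⊥ bot_le
  rwa [show V ⊓ centralizer ((⊥ : Subgroup G) : Set G) = V from fx_bot V, card_bot, one_mul] at h1

theorem bo_of_off {A : Subgroup G} (h : Off p V H A) : Cfsg.IsBestOffenderOn p V A := by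
  refine ⟨fun B hB => (S.card_bound (hB.trans h.1) (isEA_of_le h.2.1 hB)).trans h.2.2.ge,
    Subgroup.commutator_le.mpr fun a ha b hb => ?_, fun a ha => by
      rw [h.2.1.2 a ha]; exact one_mem _⟩
  rw [commutatorElement_eq_one_iff_mul_comm.mpr (ea_comm h.2.1 ha hb).eq]
  exact one_mem _

theorem bad_off {A B : Subgroup G} (h : Off p V H A) (hB : B ∈ Cocyclic A)
    (hbad : ¬ core p H ⊓ centralizer (B : Set G) ≤ centralizer (A : Set G)) :
    Off p V H B ∧ Nat.card A = Nat.card B * p := by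
  obtain ⟨hc, hfx⟩ := S.bad_step h.1 h.2.1 hB hbad
  refine ⟨⟨hB.1.trans h.1, isEA_of_le h.2.1 hB.1, le_antisymm
    (S.card_bound (hB.1.trans h.1) (isEA_of_le h.2.1 hB.1)) ?_⟩, hc⟩
  calc Nat.card V = Nat.card B * (Nat.card (fx V A) * p) := by rw [← h.2.2, hc]; ring
    _ ≤ _ := Nat.mul_le_mul_left _ hfx

theorem line_ea {L : Subgroup G} (h : Line p V H L) : Cfsg.IsElementaryAbelian p L := by
  haveI : IsCyclic L := isCyclic_of_prime_card h.2.1
  refine ⟨inferInstance, fun a ha => ?_⟩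
  have h1 : (⟨a, ha⟩ : L) ^ Nat.card L = 1 := pow_card_eq_one'
  rw [h.2.1] at h1
  exact congrArg Subtype.val h1

theorem line_off {L : Subgroup G} (h : Line p V H L) : Off p V H L :=
  ⟨h.1, S.line_ea h, by rw [h.2.1, mul_comm]; exact h.2.2⟩

theorem line_ne_bot {L : Subgroup G} (h : Line p V H L) : L ≠ ⊥ := fun e => by
  have := h.2.1
  rw [e, card_bot] at this
  exact hp.out.ne_one this.symm

theorem off_eq_sSup {A : Subgroup G} (h : Off p V H A) :
    A = sSup {L : Subgroup G | Line p V H L ∧ L ≤ A} := by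
  refine le_antisymm ?_ (sSup_le fun L hL => hL.2)
  induction hn : Nat.card A using Nat.strong_induction_on generalizing A with
  | _ n ih =>
  subst hn
  rcases eq_or_ne A ⊥ with rfl | h1
  · exact bot_le
  obtain ⟨⟨a, ha⟩, ha1⟩ := ne_bot_iff_exists_ne_one.mp h1
  obtain ⟨B, hB, hbad, -⟩ := S.exists_bad h.1 h.2.1 ha fun e => ha1 (Subtype.ext e)
  obtain ⟨hBoff, hc⟩ := S.bad_off h hB hbad
  rcases eq_or_ne B ⊥ with rfl | hB1
  · refine le_sSup ⟨⟨h.1, ?_, ?_⟩, le_rfl⟩
    · rw [hc, card_bot, one_mul]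
    · have := h.2.2
      rw [hc, card_bot, one_mul, mul_comm] at this
      exact this
  obtain ⟨⟨b, hb⟩, hb1⟩ := ne_bot_iff_exists_ne_one.mp hB1
  obtain ⟨B₂, hB₂, hbad₂, hb₂⟩ := S.exists_bad h.1 h.2.1 (hB.1 hb) fun e => hb1 (Subtype.ext e)
  obtain ⟨hB₂off, hc₂⟩ := S.bad_off h hB₂ hbad₂
  have hsup : B₂ ⊔ B = A := by
    refine eq_of_le_of_card_le (sup_le hB₂.1 hB.1) ?_
    rw [hc₂]
    exact card_mul_le ((isPGroup_of_pow h.2.1.2).to_le (sup_le hB₂.1 hB.1)) le_sup_left
      fun e => hb₂ (e ▸ mem_sup_right hb)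
  have hmono : ∀ C : Subgroup G, C ≤ A → sSup {L : Subgroup G | Line p V H L ∧ L ≤ C} ≤
      sSup {L : Subgroup G | Line p V H L ∧ L ≤ A} := fun C hC =>
    sSup_le_sSup fun L hL => ⟨hL.1, hL.2.trans hC⟩
  have hlt : ∀ m : ℕ, 0 < m → m < m * p := fun m hm => lt_mul_of_one_lt_right hm hp.out.one_lt
  exact hsup.ge.trans (sup_le ((ih _ (hc₂ ▸ hlt _ Nat.card_pos) hB₂off rfl).trans (hmono _ hB₂.1))
    ((ih _ (hc ▸ hlt _ Nat.card_pos) hBoff rfl).trans (hmono _ hB.1)))

theorem exists_line {A : Subgroup G} (h : Off p V H A) (h1 : A ≠ ⊥) :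
    ∃ L, Line p V H L ∧ L ≤ A := by
  by_contra hcon
  push Not at hcon
  exact h1 (eq_bot_iff.mpr ((S.off_eq_sSup h).le.trans
    (sSup_le fun L hL => absurd hL.2 (hcon L hL.1))))

theorem line_minimal {L : Subgroup G} (h : Line p V H L) :
    L ≤ H ∧ Cfsg.IsBestOffenderOn p V L ∧ ⁅V, L⁆ ≠ ⊥ ∧
      ∀ B : Subgroup G, B ≤ L → Cfsg.IsBestOffenderOn p V B → ⁅V, B⁆ ≠ ⊥ → B = L :=
  ⟨h.1, S.bo_of_off (S.line_off h), S.comm_ne_bot h.1 (S.line_ne_bot h), fun B hB _ hne =>
    (eq_bot_or_eq_of_prime h.2.1 hB).resolve_left fun e => hne (by rw [e, commutator_bot_right])⟩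

theorem line_of_minimal {A : Subgroup G} (hA : A ≤ H) (hbo : Cfsg.IsBestOffenderOn p V A)
    (hne : ⁅V, A⁆ ≠ ⊥)
    (hmin : ∀ B : Subgroup G, B ≤ A → Cfsg.IsBestOffenderOn p V B → ⁅V, B⁆ ≠ ⊥ → B = A) :
    Line p V H A := by
  obtain ⟨L, hL, hLA⟩ := S.exists_line (S.off_of_bo hA hbo) fun e => hne (by
    rw [e, commutator_bot_right])
  obtain ⟨-, h2, h3, -⟩ := S.line_minimal hL
  exact hmin L hLA h2 h3 ▸ hL

/-- The commutator map of a line. -/
theorem comm_line {L : Subgroup G} (h : Line p V H L) {a : G} (ha : a ∈ L) (ha1 : a ≠ 1) :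
    Nat.card ↥⁅V, L⁆ = p ∧ ⁅V, L⁆ ≤ fx V L ∧
      ∀ v ∈ V, ⁅v, a⁆ ∈ ⁅V, L⁆ ∧ (v ∉ fx V L → ⁅v, a⁆ ≠ 1) := by
  haveI := S.ea.1
  have hna : a ∈ normalizer (V : Set G) := S.norm (h.1 ha)
  have hmem : ∀ v ∈ V, ⁅v, a⁆ ∈ V := fun v hv => by
    have := mul_mem hv ((Subgroup.mem_normalizer_iff.mp hna _).mp (inv_mem hv))
    simpa [commutatorElement_def, mul_assoc] using this
  let φ : V →* G :=
    { toFun := fun v => ⁅(v : G), a⁆
      map_one' := by simp
      map_mul' := fun v w => by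
        rw [show ((v * w : V) : G) = (v : G) * w from rfl,
          show ⁅(v : G) * w, a⁆ = (v : G) * ⁅(w : G), a⁆ * (v : G)⁻¹ * ⁅(v : G), a⁆ by
            simp only [commutatorElement_def]; group,
          (ea_comm S.ea v.2 (hmem w w.2)).eq, mul_inv_cancel_right,
          (ea_comm S.ea (hmem w w.2) (hmem v v.2)).eq] }
  have hLz : L = zpowers a := ((eq_bot_or_eq_of_prime h.2.1 (zpowers_le.mpr ha)).resolve_left
    fun e => ha1 (mem_bot.mp (e ▸ mem_zpowers a))).symm
  have hker : φ.ker = (fx V L).subgroupOf V := by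
    ext v
    rw [MonoidHom.mem_ker, mem_subgroupOf, fx, mem_inf]
    show ⁅(v : G), a⁆ = 1 ↔ _
    rw [commutatorElement_eq_one_iff_mul_comm, and_iff_right v.2]
    constructor
    · intro hva
      refine mem_centralizer_iff.mpr fun x hx => ?_
      rw [hLz] at hx
      obtain ⟨i, rfl⟩ := hx
      exact ((show Commute (v : G) a from hva).zpow_right i).symm.eq
    · exact fun hv => (mem_centralizer_iff.mp hv a ha).symm
  have hR : Nat.card φ.range = p := by
    have h1 := φ.ker.card_mul_index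
    rw [index_ker, hker, Nat.card_congr (subgroupOfEquivOfLe (show fx V L ≤ V from
      inf_le_left)).toEquiv, ← h.2.2] at h1
    exact Nat.eq_of_mul_eq_mul_left Nat.card_pos h1
  have hRV : φ.range ≤ V := by
    rintro _ ⟨v, rfl⟩
    exact hmem v v.2
  have hLR : L ≤ normalizer (φ.range : Set G) := le_normalizer_iff_forall.mpr fun x hx r hr => by
    obtain ⟨v, rfl⟩ := hr
    have hxV := conj_mem_of_le_normalizer (h.1.trans S.norm) hx v.2
    refine ⟨⟨_, hxV⟩, ?_⟩
    have hxa : x * a * x⁻¹ = a := by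
      rw [(ea_comm (S.line_ea h) hx ha).eq, mul_inv_cancel_right]
    show ⁅x * (v : G) * x⁻¹, a⁆ = x * ⁅(v : G), a⁆ * x⁻¹
    conv_lhs => rw [← hxa]
    simp only [commutatorElement_def]; group
  have hd : L ⊓ φ.range = ⊥ := by
    refine inf_eq_bot_of_prime h.2.1 fun hle => ha1 (S.eq_one (h.1 ha) fun v hv => ?_)
    exact (ea_comm S.ea hv (hRV (hle ha))).eq
  have hcard : Nat.card ↥(L ⊔ φ.range) = p ^ 2 := by
    rw [card_sup_of_disjoint hLR hd, h.2.1, hR, sq]
  haveI : IsMulCommutative ↥(L ⊔ φ.range) :=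
    ⟨⟨IsPGroup.commutative_of_card_eq_prime_sq hcard⟩⟩
  have hcomm : ∀ x ∈ L, ∀ r ∈ φ.range, x * r = r * x := fun x hx r hr =>
    congrArg Subtype.val (mul_comm (⟨x, mem_sup_left hx⟩ : ↥(L ⊔ φ.range)) ⟨r, mem_sup_right hr⟩)
  have hle : ⁅V, L⁆ ≤ φ.range := by
    refine Subgroup.commutator_le.mpr fun v hv x hx => ?_
    rw [hLz] at hx
    obtain ⟨i, rfl⟩ := Subgroup.mem_zpowers_iff.mp hx
    have hu : Commute a ⁅v, a⁆ := hcomm a ha _ ⟨⟨v, hv⟩, rfl⟩
    have e : v * a ^ i * v⁻¹ = (⁅v, a⁆ * a) ^ i := by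
      rw [show ⁅v, a⁆ * a = v * a * v⁻¹ by simp [commutatorElement_def], conj_zpow]
    rw [commutatorElement_def, e, (hu.symm).mul_zpow, mul_inv_cancel_right]
    exact zpow_mem (show ⁅v, a⁆ ∈ φ.range from ⟨⟨v, hv⟩, rfl⟩) i
  have hge : φ.range ≤ ⁅V, L⁆ := by
    rintro _ ⟨v, rfl⟩
    exact commutator_mem_commutator v.2 ha
  have heq : ⁅V, L⁆ = φ.range := le_antisymm hle hge
  refine ⟨heq ▸ hR, fun r hr => mem_inf.mpr ⟨hRV (hle hr), mem_centralizer_iff.mpr fun x hx =>
    hcomm x hx r (hle hr)⟩, fun v hv => ⟨commutator_mem_commutator hv ha, fun hnot e => hnot ?_⟩⟩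
  have : (⟨v, hv⟩ : V) ∈ φ.ker := e
  rw [hker] at this
  exact this

theorem exists_independent_lines {A : Subgroup G} (h : Off p V H A) :
    ∃ (k : ℕ) (B : Fin k → Subgroup G), (∀ i, B i ≤ A ∧ Line p V H (B i)) ∧
      iSupIndep B ∧ ⨆ i, B i = A := by
  classical
  let good : Finset (Subgroup G) → Prop := fun s =>
    (∀ L ∈ s, L ≤ A ∧ Line p V H L) ∧ s.sup id = A
  have hex : ∃ n s, good s ∧ s.card = n := by
    refine ⟨_, (Set.toFinite {L : Subgroup G | Line p V H L ∧ L ≤ A}).toFinset, ⟨?_, ?_⟩, rfl⟩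
    · intro L hL
      rw [Set.Finite.mem_toFinset] at hL
      exact ⟨hL.2, hL.1⟩
    · conv_rhs => rw [S.off_eq_sSup h]
      rw [Finset.sup_id_eq_sSup, Set.Finite.coe_toFinset]
  obtain ⟨s, ⟨hs, hsup⟩, hcard⟩ := Nat.find_spec hex
  refine ⟨s.card, fun i => (s.equivFin.symm i : Subgroup G), fun i => hs _ (s.equivFin.symm i).2,
    ?_, ?_⟩
  · intro i
    rw [disjoint_iff]
    refine inf_eq_bot_of_prime (hs _ (s.equivFin.symm i).2).2.2.1 fun hle => ?_
    set L : Subgroup G := (s.equivFin.symm i : Subgroup G) with hL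
    have hrest : (⨆ (j) (_ : j ≠ i), (s.equivFin.symm j : Subgroup G)) ≤ (s.erase L).sup id :=
      iSup₂_le fun j hj => Finset.le_sup (f := id) (Finset.mem_erase.mpr
        ⟨fun e => hj (s.equivFin.symm.injective (Subtype.ext e)), (s.equivFin.symm j).2⟩)
    have hgood : good (s.erase L) := by
      refine ⟨fun M hM => hs M (Finset.mem_of_mem_erase hM), le_antisymm
        ((Finset.sup_mono (Finset.erase_subset _ _)).trans hsup.le) ?_⟩
      rw [← hsup]
      refine Finset.sup_le fun M hM => ?_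
      rcases eq_or_ne M L with rfl | hne
      · exact hle.trans hrest
      · exact Finset.le_sup (f := id) (Finset.mem_erase.mpr ⟨hne, hM⟩)
    have := Nat.find_min' hex ⟨_, hgood, rfl⟩
    have hlt := Finset.card_erase_lt_of_mem (s := s) (a := L) (s.equivFin.symm i).2
    omega
  · refine le_antisymm (iSup_le fun i => (hs _ (s.equivFin.symm i).2).1) ?_
    rw [← hsup]
    refine Finset.sup_le fun M hM => le_iSup_of_le (s.equivFin ⟨M, hM⟩) ?_
    simp

end Setup

end CfsgLib.LocalFF
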