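import Cfsg.Agent.Lib.StableControl

/-!
# Applications of the control theorem
-/

set_option autoImplicit false
set_option linter.style.haveILetI false

universe u

namespace CfsgLib.Stable

variable {p : ℕ} [hp : Fact p.Prime]

/-- `Ctrl` in the form of `ControlsStrongFusionOf`. -/
theorem controls_of_ctrl {G : Type u} [Group G] {P Z : Subgroup G} (h : Ctrl P Z) (A : Set G)
    (hA : A ⊆ P) : Cfsg.ControlsStrongFusionOf (Subgroup.normalizer (Z : Set G)) P A := by
  refine ⟨hA, fun g hg => ?_⟩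
  obtain ⟨n, hn, hnt⟩ := h (Subgroup.closure A) ((Subgroup.closure_le _).2 hA) g (fun t ht => by
    have hle : Subgroup.closure A ≤ P.comap (MulAut.conj g).toMonoidHom :=
      (Subgroup.closure_le _).2 fun a ha => hg ⟨a, ha, rfl⟩
    exact hle ht)
  exact ⟨n, hn, fun a ha => (hnt a (Subgroup.subset_closure ha)).symm⟩

theorem localData_functor {G₀ : Type u} [Group G₀] {W : ∀ (Q : Type u) [Group Q], Subgroup Q}
    (hW : Cfsg.IsCharPFunctor.{u} p W)
    (hloc : ∀ {X : Type u} [Group X] [Finite X], IsSec X G₀ →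
      Subgroup.centralizer (Cfsg.pCore p X : Set X) ≤ Cfsg.pCore p X →
      ∀ P : Sylow p X, (Cfsg.inducedFunctor W (P : Subgroup X)).Normal) :
    LocalData p G₀ (fun _ _ D => Cfsg.inducedFunctor W D) True where
  le _ := inducedFunctor_le _
  ne_bot hD h1 := inducedFunctor_ne_bot hW hD h1
  map {G X} _ _ _ _ f {D} hD hf := map_inducedFunctor hW hD f hf
  normal hX hc P D _ hfull := hfull trivial ▸ hloc hX hc P

theorem localData_zsub (hodd : p ≠ 2) {G₀ : Type u} [Group G₀] {e : ℕ} (he : e = 0 ∨ e = p)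
    (hst : ∀ {X : Type u} [Group X] [Finite X], IsSec X G₀ →
      Subgroup.centralizer (Cfsg.pCore p X : Set X) ≤ Cfsg.pCore p X → Stab p X) :
    LocalData p G₀ (fun _ _ D => Zsub e D) False where
  le _ := Zsub_le e _
  ne_bot hD h1 := Zsub_ne_bot he hD h1
  map {G X} _ _ _ _ f {D} _ hf := map_Zsub e D f hf
  normal hX hc P D hD _ := Zsub_normal hodd he (hst hX hc) hc P hD

theorem localData_omega (hodd : p ≠ 2) {G₀ : Type u} [Group G₀]
    (hst : ∀ {X : Type u} [Group X] [Finite X], IsSec X G₀ →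
      Subgroup.centralizer (Cfsg.pCore p X : Set X) ≤ Cfsg.pCore p X → Stab p X) :
    LocalData p G₀ (fun _ _ D => Cfsg.omegaOne p (Zsub p D)) False where
  le {G} _ _ {D} _ := ((Subgroup.closure_le _).2 fun x hx => hx.1).trans (Zsub_le p D)
  ne_bot {G} _ _ {D} hD h1 := by
    intro h2
    have h0 : Zsub p D ≠ ⊥ := Zsub_ne_bot (Or.inr rfl) hD h1
    have hp' : IsPGroup p (Zsub p D) := hD.to_le (Zsub_le p D)
    haveI : Nontrivial (Zsub p D) := (Subgroup.nontrivial_iff_ne_bot _).2 h0
    obtain ⟨k, hk⟩ := IsPGroup.iff_card.1 hp'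
    have hk0 : k ≠ 0 := fun e => (Finite.one_lt_card (α := Zsub p D)).ne' (by rw [hk, e, pow_zero])
    obtain ⟨z, hz⟩ := exists_prime_orderOf_dvd_card' (G := Zsub p D) p (hk ▸ dvd_pow_self p hk0)
    have hzm : (z : G) ∈ Cfsg.omegaOne p (Zsub p D) := Subgroup.subset_closure
      ⟨z.2, congrArg Subtype.val (orderOf_dvd_iff_pow_eq_one.1 hz.dvd : z ^ p = 1)⟩
    rw [h2, Subgroup.mem_bot] at hzm
    have h3 : z = 1 := Subtype.ext hzm
    rw [h3, orderOf_one] at hz
    exact hp.out.ne_one hz.symm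
  map {G X} _ _ _ _ f {D} _ hf := by
    rw [map_omegaOne f (hf.mono (Zsub_le p D)), map_Zsub p D f hf]
  normal hX hc P D hD _ := omegaOne_normal (Zsub_normal hodd (Or.inr rfl) (hst hX hc) hc P hD)

theorem goal_self {G : Type u} [Group G] [Finite G]
    {V : ∀ (G : Type u) [Group G], Subgroup G → Subgroup G} {full : Prop}
    (hV : LocalData p G V full) : Goal p V full G :=
  goal_of_localData hV G (isSec_self G)

/-- Stability passes to the quotient by a normal subgroup of order prime to `p`. -/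
theorem stab_quotient_pPrime {G : Type u} [Group G] [Finite G] (h : Cfsg.IsPStable p G) :
    Stab p (G ⧸ Cfsg.pPrimeCore p G) := by
  haveI hOn := CfsgLib.Core.normal_pPrimeCore (G := G) p
  set N := Cfsg.pPrimeCore p G with hN
  set f := QuotientGroup.mk' N with hf
  have hfs : Function.Surjective f := QuotientGroup.mk'_surjective N
  have hker : (Nat.card f.ker).Coprime p := by
    rw [hf, QuotientGroup.ker_mk']; exact CfsgLib.Core.coprime_card_pPrimeCore p
  intro W hWn hWp b hb hq
  set M := W.comap f with hM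
  haveI : M.Normal := hWn.comap f
  obtain ⟨S⟩ := (inferInstance : Nonempty (Sylow p M))
  set P := (S : Subgroup M).map M.subtype with hP
  have hPM : P ≤ M := Subgroup.map_subtype_le _
  have hPp : IsPGroup p P := S.2.map _
  have hPW : P.map f = W := by
    have hs : Function.Surjective (f.subgroupComap W) :=
      f.subgroupComap_surjective_of_surjective W hfs
    haveI : Subsingleton (Sylow p W) := ⟨fun A B => Sylow.ext (by
      have htop : ∀ C : Sylow p W, (C : Subgroup W) = ⊤ := fun C =>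
        (C.3 (hWp.to_subgroup ⊤) le_top).symm
      rw [htop A, htop B])⟩
    have h1 : (S : Subgroup M).map (f.subgroupComap W) = ⊤ := by
      rw [← Sylow.coe_mapSurjective hs S]
      exact ((S.mapSurjective hs).3 (hWp.to_subgroup ⊤) le_top).symm
    rw [hP, Subgroup.map_map, show f.comp M.subtype = W.subtype.comp (f.subgroupComap W) from rfl,
      ← Subgroup.map_map, h1, ← MonoidHom.range_eq_map, Subgroup.range_subtype]
  have hbN : b ∈ (Subgroup.normalizer (P : Set G)).map f := by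
    rw [← normalizer_map_eq f hfs hker hPp, hPW, Subgroup.normalizer_eq_top]
    exact Subgroup.mem_top b
  obtain ⟨a₀, ha₀, rfl⟩ := hbN
  obtain ⟨k, hk⟩ := hb
  obtain ⟨e, m, hm, he⟩ := Nat.exists_eq_pow_mul_and_not_dvd (orderOf_pos a₀).ne' p hp.out.ne_one
  obtain ⟨j, hj⟩ : ∃ j, f a₀ ^ (m * j) = f a₀ := by
    have hcop : m.Coprime (orderOf (f a₀)) := Nat.Coprime.coprime_dvd_right
      (orderOf_dvd_of_pow_eq_one hk) (((hp.out.coprime_iff_not_dvd).2 hm).symm.pow_right k)
    obtain ⟨j, hj⟩ := exists_pow_eq_self_of_coprime hcop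
    exact ⟨j, by rw [pow_mul]; exact hj⟩
  set a := a₀ ^ (m * j) with ha
  have hfa : f a = f a₀ := by
    rw [ha, map_pow, hj]
  have hap : ∃ k, a ^ p ^ k = 1 :=
    ⟨e, by rw [ha, ← pow_mul, show m * j * p ^ e = p ^ e * m * j by ring, ← he, pow_mul,
      pow_orderOf_eq_one, one_pow]⟩
  have haN : a ∈ Subgroup.normalizer (P : Set G) := pow_mem ha₀ _
  set A := Subgroup.zpowers a with hA
  have hAp : IsPGroup p A := by
    obtain ⟨l, hl⟩ := hap
    intro y
    obtain ⟨i, hi⟩ := y.2
    refine ⟨l, Subtype.ext ?_⟩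
    simp only [SubgroupClass.coe_pow, OneMemClass.coe_one, ← hi]
    rw [← zpow_natCast, ← zpow_mul, mul_comm, zpow_mul, zpow_natCast, hl, one_zpow]
  have hqP : ⁅⁅P, A⁆, A⁆ = ⊥ := by
    have h1 : (⁅⁅P, A⁆, A⁆).map f = ⊥ := by
      rw [Subgroup.map_commutator, Subgroup.map_commutator, hPW, hA, MonoidHom.map_zpowers, hfa, hq]
    have h2 : ⁅⁅P, A⁆, A⁆ ≤ P := by
      have h3 : ∀ X : Subgroup G, X ≤ P → ⁅X, A⁆ ≤ P := fun X hX => by
        rw [Subgroup.commutator_le]
        intro x hx y hy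
        rw [commutatorElement_def, mul_assoc x y, mul_assoc]
        exact mul_mem (hX hx)
          ((Subgroup.mem_normalizer_iff.1 (Subgroup.zpowers_le.2 haN hy) _).1 (inv_mem (hX hx)))
      exact h3 _ (h3 _ le_rfl)
    rw [eq_bot_iff]
    intro x hx
    rw [Subgroup.mem_bot]
    refine injOn_of_coprime_ker f hker hPp (h2 hx) P.one_mem ?_
    rw [map_one, ← Subgroup.mem_bot, ← h1]
    exact ⟨x, hx, rfl⟩
  have hnorm : ∀ a' ∈ A, ∀ x ∈ P, a' * x * a'⁻¹ ∈ P := fun a' ha' x hx =>
    (Subgroup.mem_normalizer_iff.1 (Subgroup.zpowers_le.2 haN ha') x).1 hx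
  have hsupM : N ⊔ P = M := by
    rw [sup_comm, hM, ← hPW, Subgroup.comap_map_eq, hf, QuotientGroup.ker_mk']
  have hPle : P ≤ Cfsg.pPrimePCore p G := by
    refine hPM.trans ?_
    show W.comap f ≤ _
    exact Subgroup.comap_mono (CfsgLib.Core.le_pCore hWn hWp)
  have h1 := h.2.2 A P hAp hPp hnorm hPle (by rw [hsupM]; infer_instance) hqP
    ⟨⟨a, haN⟩, Subgroup.mem_zpowers a, rfl⟩
  set C := Subgroup.centralizer (P : Set G)
  set NP := Subgroup.normalizer (P : Set G) with hNP
  let g : ↥NP ⧸ C.subgroupOf NP →* (G ⧸ N) ⧸ Subgroup.centralizer (W : Set (G ⧸ N)) :=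
    QuotientGroup.lift (C.subgroupOf NP) (((QuotientGroup.mk' _).comp f).comp NP.subtype) (by
      intro x hx
      rw [MonoidHom.mem_ker]
      show QuotientGroup.mk' _ (f (x : G)) = 1
      rw [QuotientGroup.mk'_apply, QuotientGroup.eq_one_iff, ← hPW, Subgroup.mem_centralizer_iff]
      rintro _ ⟨y, hy, rfl⟩
      rw [← map_mul, ← map_mul]
      exact congrArg f (Subgroup.mem_centralizer_iff.1 hx y hy))
  have hgs : Function.Surjective g := by
    intro q
    obtain ⟨x, rfl⟩ := QuotientGroup.mk_surjective q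
    have hx : x ∈ NP.map f := by
      rw [hNP, ← normalizer_map_eq f hfs hker hPp, hPW, Subgroup.normalizer_eq_top]
      exact Subgroup.mem_top x
    obtain ⟨y, hy, rfl⟩ := hx
    exact ⟨QuotientGroup.mk ⟨y, hy⟩, rfl⟩
  have h2 := CfsgLib.Core.map_pCore_le_of_surjective p g hgs ⟨_, h1, rfl⟩
  rw [← hfa]
  exact h2

theorem centralizer_pCore_quotient {G : Type u} [Group G] [Finite G]
    (hc : Cfsg.IsPConstrained p G) :
    Subgroup.centralizer (Cfsg.pCore p (G ⧸ Cfsg.pPrimeCore p G) : Set (G ⧸ Cfsg.pPrimeCore p G)) ≤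
      Cfsg.pCore p (G ⧸ Cfsg.pPrimeCore p G) := by
  haveI hOn := CfsgLib.Core.normal_pPrimeCore (G := G) p
  set N := Cfsg.pPrimeCore p G with hN
  set f := QuotientGroup.mk' N with hf
  have hfs : Function.Surjective f := QuotientGroup.mk'_surjective N
  have hker : (Nat.card f.ker).Coprime p := by
    rw [hf, QuotientGroup.ker_mk']; exact CfsgLib.Core.coprime_card_pPrimeCore p
  set W := Cfsg.pCore p (G ⧸ N) with hW
  have hM : Cfsg.pPrimePCore p G = W.comap f := rfl
  obtain ⟨S⟩ := (inferInstance : Nonempty (Sylow p ↥(Cfsg.pPrimePCore p G)))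
  set P := (S : Subgroup ↥(Cfsg.pPrimePCore p G)).map (Cfsg.pPrimePCore p G).subtype with hP
  have hPle : P.map f ≤ W := by
    rw [Subgroup.map_le_iff_le_comap, ← hM]
    exact Subgroup.map_subtype_le _
  intro x hx
  obtain ⟨g, hg, rfl⟩ := centralizer_map_le f hfs hker (S.2.map _)
    (Subgroup.centralizer_le (show ((P.map f : Subgroup (G ⧸ N)) : Set (G ⧸ N)) ⊆ W from hPle) hx)
  have h1 := hc S hg
  rw [hM] at h1
  exact h1

/-- Glauberman's theorem for constrained stable groups. -/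
theorem sup_normalizer_Zsub {G : Type u} [Group G] [Finite G] (hodd : p ≠ 2)
    (hc : Cfsg.IsPConstrained p G) (hs : Cfsg.IsPStable p G) (P : Sylow p G) {e : ℕ}
    (he : e = 0 ∨ e = p) :
    Cfsg.pPrimeCore p G ⊔ Subgroup.normalizer (Zsub e (P : Subgroup G) : Set G) = ⊤ := by
  haveI hOn := CfsgLib.Core.normal_pPrimeCore (G := G) p
  set N := Cfsg.pPrimeCore p G with hN
  set f := QuotientGroup.mk' N with hf
  have hfs : Function.Surjective f := QuotientGroup.mk'_surjective N
  have hker : (Nat.card f.ker).Coprime p := by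
    rw [hf, QuotientGroup.ker_mk']; exact CfsgLib.Core.coprime_card_pPrimeCore p
  have hn := Zsub_normal hodd he (stab_quotient_pPrime hs) (centralizer_pCore_quotient hc)
    (P.mapSurjective hfs) (sclosed_self _)
  rw [Sylow.coe_mapSurjective, ← map_Zsub e _ f (injOn_of_coprime_ker f hker P.2)] at hn
  haveI := hn
  have h1 := normalizer_map_eq f hfs hker (P.2.to_le (Zsub_le e (P : Subgroup G)))
  rw [Subgroup.normalizer_eq_top] at h1
  have h2 := congrArg (Subgroup.comap f) h1
  rw [Subgroup.comap_top, Subgroup.comap_map_eq, hf, QuotientGroup.ker_mk'] at h2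
  rw [sup_comm]
  exact h2.symm

end CfsgLib.Stable
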