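import Cfsg.Agent.Lib.LocalThompsonBasic
import Cfsg.Agent.Lib.StableComplement
import Cfsg.Agent.Lib.FgsSylowProduct
import Cfsg.Agent.Lib.LocalClassTwo
import Cfsg.Agent.Lib.StableControlApps

/-!
# Thompson factorizability and constraint modulo the `p'`-core
-/

set_option autoImplicit false

universe u

namespace CfsgLib.LocalFactor

open Subgroup

set_option linter.unusedSectionVars false

variable {G : Type u} [Group G] [Finite G] {p : ℕ} [hp : Fact p.Prime]

/-- The central omega subgroup of a subgroup. -/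
abbrev Zc (p : ℕ) (U : Subgroup G) : Subgroup G :=
  Cfsg.omegaOne p (U ⊓ centralizer (U : Set G))

theorem thompson_map_equiv {A B : Type u} [Group A] [Group B] [Finite A] (e : A ≃* B) :
    (Cfsg.thompsonSubgroup p A).map e.toMonoidHom = Cfsg.thompsonSubgroup p B := by
  haveI : Finite B := Finite.of_equiv A e.toEquiv
  have key : ∀ {A B : Type u} [Group A] [Group B] [Finite A] [Finite B] (e : A ≃* B),
      (Cfsg.thompsonSubgroup p A).map e.toMonoidHom ≤ Cfsg.thompsonSubgroup p B := by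
    intro A B _ _ _ _ e
    rw [map_le_iff_le_comap]
    refine sSup_le fun X hX => map_le_iff_le_comap.mp
      (le_sSup ⟨CfsgLib.LocalThompson.isEA_map _ hX.1, fun C hC => ?_⟩)
    rw [card_map_of_injective (f := e.toMonoidHom) e.injective]
    have := hX.2 _ (CfsgLib.LocalThompson.isEA_map e.symm.toMonoidHom hC)
    rwa [card_map_of_injective (f := e.symm.toMonoidHom) e.symm.injective] at this
  refine le_antisymm (key e) fun y hy => ⟨e.symm y, key e.symm ⟨y, hy, rfl⟩, ?_⟩
  exact e.apply_symm_apply y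

theorem thompsonOf_map {H : Type u} [Group H] (f : G →* H) (U : Subgroup G)
    (hf : Set.InjOn f (U : Set G)) :
    Cfsg.thompsonSubgroupOf p (U.map f) = (Cfsg.thompsonSubgroupOf p U).map f := by
  have hb : Function.Bijective (f.subgroupMap U) := ⟨fun a b h =>
    Subtype.ext (hf a.2 b.2 (congrArg Subtype.val h)), f.subgroupMap_surjective U⟩
  rw [Cfsg.thompsonSubgroupOf, Cfsg.thompsonSubgroupOf,
    ← thompson_map_equiv (p := p) (MulEquiv.ofBijective _ hb), Subgroup.map_map, Subgroup.map_map]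
  rfl

theorem Zc_map {H : Type u} [Group H] (f : G →* H) (U : Subgroup G)
    (hf : Set.InjOn f (U : Set G)) : Zc p (U.map f) = (Zc p U).map f := by
  rw [Zc, Zc, Cfsg.omegaOne, Cfsg.omegaOne, MonoidHom.map_closure]
  congr 1
  ext y
  constructor
  · rintro ⟨hy, hyp⟩
    obtain ⟨⟨x, hx, rfl⟩, hc⟩ := mem_inf.mp hy
    refine ⟨x, ⟨mem_inf.mpr ⟨hx, mem_centralizer_iff.mpr fun a ha => ?_⟩, ?_⟩, rfl⟩
    · refine hf (mul_mem ha hx) (mul_mem hx ha) ?_
      rw [map_mul, map_mul]
      exact mem_centralizer_iff.mp hc _ ⟨a, ha, rfl⟩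
    · refine hf (pow_mem hx p) (one_mem U) ?_
      rw [map_pow, map_one]
      exact hyp
  · rintro ⟨x, ⟨hx, hxp⟩, rfl⟩
    obtain ⟨hxU, hc⟩ := mem_inf.mp hx
    refine ⟨mem_inf.mpr ⟨⟨x, hxU, rfl⟩, mem_centralizer_iff.mpr ?_⟩, by rw [← map_pow, hxp, map_one]⟩
    rintro _ ⟨a, ha, rfl⟩
    rw [← map_mul, ← map_mul, mem_centralizer_iff.mp hc a ha]

theorem normalizer_le_normalizer_thompsonOf (U : Subgroup G) :
    normalizer (U : Set G) ≤ normalizer (Cfsg.thompsonSubgroupOf p U : Set G) := by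
  intro x hx
  have e : U.map (MulAut.conj x).toMonoidHom = U := by
    ext y
    constructor
    · rintro ⟨u, hu, rfl⟩; exact (mem_normalizer_iff.mp hx u).mp hu
    · intro hy
      exact ⟨x⁻¹ * y * x, by
        have := (mem_normalizer_iff.mp (inv_mem hx) y).mp hy
        rwa [inv_inv] at this, by show x * (x⁻¹ * y * x) * x⁻¹ = y; group⟩
  refine CfsgLib.Stable.mem_normalizer_of_map_eq fun j hj => ?_
  have h := thompsonOf_map (p := p) (MulAut.conj x).toMonoidHom U (MulAut.conj x).injective.injOn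
  rw [e] at h
  rw [h]
  exact ⟨j, hj, rfl⟩

theorem thompsonOf_le (U : Subgroup G) : Cfsg.thompsonSubgroupOf p U ≤ U := map_subtype_le _

theorem Zc_le_centralizer (U : Subgroup G) : Zc p U ≤ centralizer (U : Set G) :=
  (closure_le _).mpr fun _ hx => (mem_inf.mp hx.1).2

theorem factorizable_iff (hO : Cfsg.pPrimeCore p G = ⊥) :
    Cfsg.IsThompsonFactorizable p G ↔
      Cfsg.thompsonSubgroup p G ≤
        centralizer ((⨆ S : Sylow p G, Zc p (S : Subgroup G) : Subgroup G) : Set G) := by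
  constructor
  · intro h
    rw [CfsgLib.LocalThompson.thompson_eq_iSup]
    refine iSup_le fun S j hj => ?_
    have hle : (⨆ T : Sylow p G, Zc p (T : Subgroup G)) ≤ centralizer ({j} : Set G) := by
      refine iSup_le fun T => ?_
      obtain ⟨g, hg⟩ := MulAction.exists_smul_eq G S T
      obtain ⟨x, hx, c, hc, n, hn, he⟩ := h S g⁻¹
      rw [hO, mem_bot] at hx
      rw [hx, one_mul] at he
      have e : (T : Subgroup G) = (S : Subgroup G).map (MulAut.conj g).toMonoidHom := by
        rw [← hg]; rfl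
      rw [e, Zc_map _ _ (MulAut.conj g).injective.injOn]
      rintro _ ⟨z, hz, rfl⟩
      refine mem_centralizer_singleton_iff.mpr ?_
      show g * z * g⁻¹ * j = j * (g * z * g⁻¹)
      have hcz : c * z = z * c := (mem_centralizer_iff.mp hc z hz).symm
      have hgz : g * z * g⁻¹ = n⁻¹ * z * n := by
        rw [show g = n⁻¹ * c⁻¹ by rw [← mul_inv_rev, ← he, inv_inv]]
        calc n⁻¹ * c⁻¹ * z * (n⁻¹ * c⁻¹)⁻¹ = n⁻¹ * (c⁻¹ * (z * c)) * n := by group
          _ = _ := by rw [← hcz, inv_mul_cancel_left]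
      rw [hgz]
      have hj' : n * j * n⁻¹ ∈ Cfsg.thompsonSubgroupOf p (S : Subgroup G) :=
        (mem_normalizer_iff.mp hn j).mp hj
      have hzj := mem_centralizer_iff.mp (Zc_le_centralizer _ hz) _ (thompsonOf_le _ hj')
      calc n⁻¹ * z * n * j = n⁻¹ * (z * (n * j * n⁻¹)) * n := by group
        _ = n⁻¹ * (n * j * n⁻¹ * z) * n := by rw [hzj]
        _ = _ := by group
    exact mem_centralizer_iff.mpr fun w hw => mem_centralizer_singleton_iff.mp (hle hw)
  · intro h S g
    set W := ⨆ T : Sylow p G, Zc p (T : Subgroup G) with hW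
    haveI : W.Normal := by
      refine ⟨fun w hw x => ?_⟩
      have : W.map (MulAut.conj x).toMonoidHom ≤ W := by
        rw [hW, Subgroup.map_iSup]
        refine iSup_le fun T => le_iSup_of_le (x • T) ?_
        rw [← Zc_map _ _ (MulAut.conj x).injective.injOn]
        exact le_rfl
      exact this ⟨w, hw, rfl⟩
    set C := centralizer (W : Set G) with hC
    obtain ⟨Q, hQ⟩ := CfsgLib.SylowProd.sylow_inf_normal C S
    have hmap : (Q : Subgroup C).map C.subtype = (S : Subgroup G) ⊓ C := by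
      rw [hQ, map_subgroupOf_eq_of_le inf_le_right]
    have hJ : Cfsg.thompsonSubgroupOf p ((S : Subgroup G) ⊓ C) =
        Cfsg.thompsonSubgroupOf p (S : Subgroup G) := by
      have hJC : Cfsg.thompsonSubgroupOf p (S : Subgroup G) ≤ C := by
        refine le_trans ?_ h
        rw [CfsgLib.LocalThompson.thompson_eq_iSup]
        exact le_iSup (fun T : Sylow p G => Cfsg.thompsonSubgroupOf p (T : Subgroup G)) S
      have hmem : ∀ A : Subgroup G, (A ≤ (S : Subgroup G) ∧ Cfsg.IsElementaryAbelian p A ∧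
          ∀ D : Subgroup G, D ≤ (S : Subgroup G) → Cfsg.IsElementaryAbelian p D →
            Nat.card D ≤ Nat.card A) → A ≤ (S : Subgroup G) ⊓ C := fun A hA =>
        le_inf hA.1 (le_trans (by rw [CfsgLib.LocalThompson.thompsonOf_eq]; exact le_sSup hA) hJC)
      obtain ⟨B₀, hB₀⟩ := CfsgLib.LocalThompson.exists_max (G := (S : Subgroup G)) (p := p)
      obtain ⟨hA₁, hA₂, hA₃⟩ :=
        (CfsgLib.LocalThompson.map_max_iff (S : Subgroup G)).mp ⟨B₀, hB₀, rfl⟩
      rw [CfsgLib.LocalThompson.thompsonOf_eq, CfsgLib.LocalThompson.thompsonOf_eq]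
      refine le_antisymm (sSup_le fun A hA => le_sSup ⟨hA.1.trans inf_le_left, hA.2.1, fun D hD hDe =>
        (hA₃ D hD hDe).trans (hA.2.2 _ (hmem _ ⟨hA₁, hA₂, hA₃⟩) hA₂)⟩) (sSup_le fun A hA => ?_)
      exact le_sSup ⟨hmem A hA, hA.2.1, fun D hD hDe => hA.2.2 D (hD.trans inf_le_left) hDe⟩
    have hg : g ∈ C ⊔ normalizer ((Q : Subgroup C).map C.subtype : Set G) := by
      rw [sup_comm, Sylow.normalizer_sup_eq_top Q]; exact mem_top g
    obtain ⟨c, hc, n, hn, rfl⟩ := mem_sup_of_normal_left.mp hg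
    refine ⟨1, one_mem _, c, ?_, n, ?_, by rw [one_mul]⟩
    · exact centralizer_le (le_iSup (fun T : Sylow p G => Zc p (T : Subgroup G)) S) hc
    · rw [hmap] at hn
      rw [← hJ]
      exact normalizer_le_normalizer_thompsonOf _ hn

theorem ker_coprime : (Nat.card (QuotientGroup.mk' (Cfsg.pPrimeCore p G)
    (nN := CfsgLib.Core.normal_pPrimeCore p)).ker).Coprime p := by
  rw [QuotientGroup.ker_mk']; exact CfsgLib.Core.coprime_card_pPrimeCore p

theorem factorizable_quotient_iff [(Cfsg.pPrimeCore p G).Normal] :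
    Cfsg.IsThompsonFactorizable p G ↔ Cfsg.IsThompsonFactorizable p (G ⧸ Cfsg.pPrimeCore p G) := by
  set O := Cfsg.pPrimeCore p G with hO
  set f := QuotientGroup.mk' O with hf
  have hfs : Function.Surjective f := QuotientGroup.mk'_surjective O
  have hker : (Nat.card f.ker).Coprime p := by
    rw [hf, QuotientGroup.ker_mk']; exact CfsgLib.Core.coprime_card_pPrimeCore p
  have hbot : Cfsg.pPrimeCore p (G ⧸ O) = ⊥ := CfsgLib.Core.pPrimeCore_quotient_pPrimeCore p
  have key : ∀ S : Sylow p G,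
      centralizer (Zc p ((S : Subgroup G).map f) : Set (G ⧸ O)) =
        (centralizer (Zc p (S : Subgroup G) : Set G)).map f ∧
      normalizer (Cfsg.thompsonSubgroupOf p ((S : Subgroup G).map f) : Set (G ⧸ O)) =
        (normalizer (Cfsg.thompsonSubgroupOf p (S : Subgroup G) : Set G)).map f := by
    intro S
    have hi := CfsgLib.Stable.injOn_of_coprime_ker f hker S.2
    have hz : IsPGroup p ↥(Zc p (S : Subgroup G)) := S.2.to_le
      ((closure_le _).mpr fun _ hx => (mem_inf.mp hx.1).1)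
    rw [Zc_map f _ hi, thompsonOf_map f _ hi,
      CfsgLib.Stable.normalizer_map_eq f hfs hker (S.2.to_le (thompsonOf_le _))]
    refine ⟨le_antisymm (CfsgLib.Stable.centralizer_map_le f hfs hker hz) ?_, rfl⟩
    rintro _ ⟨c, hc, rfl⟩
    refine mem_centralizer_iff.mpr ?_
    rintro _ ⟨z, hz, rfl⟩
    rw [← map_mul, ← map_mul, mem_centralizer_iff.mp hc z hz]
  constructor
  · intro h T g'
    obtain ⟨S, rfl⟩ := Sylow.mapSurjective_surjective hfs p T
    obtain ⟨g, rfl⟩ := hfs g'
    obtain ⟨x, hx, c, hc, n, hn, rfl⟩ := h S g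
    refine ⟨1, one_mem _, f c, ?_, f n, ?_, ?_⟩
    · show f c ∈ centralizer (Zc p ((S : Subgroup G).map f) : Set (G ⧸ O))
      rw [(key S).1]; exact mem_map_of_mem f hc
    · rw [Sylow.coe_mapSurjective, (key S).2]; exact mem_map_of_mem f hn
    · rw [map_mul, map_mul, show f x = 1 from (QuotientGroup.eq_one_iff x).mpr hx]
  · intro h S g
    obtain ⟨x', hx', c', hc', n', hn', he⟩ := h (S.mapSurjective hfs) (f g)
    rw [hbot, mem_bot] at hx'
    rw [Sylow.coe_mapSurjective, (key S).2] at hn'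
    have hc'' : c' ∈ (centralizer (Zc p (S : Subgroup G) : Set G)).map f := by
      rw [← (key S).1]; exact hc'
    obtain ⟨c, hc, rfl⟩ := hc''
    obtain ⟨n, hn, rfl⟩ := hn'
    refine ⟨g * (c * n)⁻¹, ?_, c, hc, n, hn, by group⟩
    refine (QuotientGroup.eq_one_iff _).mp ?_
    show f (g * (c * n)⁻¹) = 1
    rw [map_mul, map_inv, he, hx', one_mul, map_mul, mul_inv_cancel]

theorem constrained_iff [(Cfsg.pPrimeCore p G).Normal] :
    Cfsg.IsPConstrained p G ↔
      centralizer (Cfsg.pCore p (G ⧸ Cfsg.pPrimeCore p G) : Set (G ⧸ Cfsg.pPrimeCore p G)) ≤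
        Cfsg.pCore p (G ⧸ Cfsg.pPrimeCore p G) := by
  refine ⟨CfsgLib.Stable.centralizer_pCore_quotient, fun h P g hg => ?_⟩
  show QuotientGroup.mk' (Cfsg.pPrimeCore p G) g ∈ Cfsg.pCore p (G ⧸ Cfsg.pPrimeCore p G)
  refine h ?_
  rw [← CfsgLib.Local.ClassTwo.sylow_pPrimePCore_map P, mem_centralizer_iff]
  rintro _ ⟨x, hx, rfl⟩
  rw [← map_mul, ← map_mul, mem_centralizer_iff.mp hg x hx]

theorem centralizer_pCore_equiv {A B : Type u} [Group A] [Group B] (e : A ≃* B)
    (h : centralizer (Cfsg.pCore p A : Set A) ≤ Cfsg.pCore p A) :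
    centralizer (Cfsg.pCore p B : Set B) ≤ Cfsg.pCore p B := by
  rw [← CfsgLib.Core.map_pCore_of_mulEquiv p e]
  intro b hb
  obtain ⟨a, rfl⟩ := e.surjective b
  refine ⟨a, h (mem_centralizer_iff.mpr fun x hx => e.injective ?_), rfl⟩
  rw [map_mul, map_mul]
  exact mem_centralizer_iff.mp hb _ ⟨x, hx, rfl⟩

theorem constrained_quotient_iff [(Cfsg.pPrimeCore p G).Normal] :
    Cfsg.IsPConstrained p G ↔ Cfsg.IsPConstrained p (G ⧸ Cfsg.pPrimeCore p G) := by
  haveI := CfsgLib.Core.normal_pPrimeCore (G := G ⧸ Cfsg.pPrimeCore p G) p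
  rw [constrained_iff, constrained_iff (G := G ⧸ Cfsg.pPrimeCore p G)]
  let e := (QuotientGroup.quotientMulEquivOfEq
    (CfsgLib.Core.pPrimeCore_quotient_pPrimeCore (G := G) p)).trans QuotientGroup.quotientBot
  exact ⟨centralizer_pCore_equiv e.symm, centralizer_pCore_equiv e⟩

end CfsgLib.LocalFactor
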