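import Cfsg.Agent.Lib.LocalFFStructure
import Cfsg.Agent.Lib.LocalFactor
import Cfsg.Agent.Lib.CorePSolvable

/-!
# A faithful model for the action of a group on an elementary abelian normal subgroup
-/

set_option autoImplicit false

universe u

namespace CfsgLib.LocalFF

open Subgroup CfsgLib.LocalThompson CfsgLib.Core
open scoped commutatorElement IsMulCommutative

set_option linter.unusedSectionVars false

variable {G : Type u} [Group G] [Finite G] {p : ℕ} [hp : Fact p.Prime]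

theorem isPSolvable_subgroup (h : Cfsg.IsPSolvable p G) (K : Subgroup G) :
    Cfsg.IsPSolvable p K := by
  obtain ⟨n, M, h0, hl, hm, hn, hs⟩ := h
  refine ⟨n, fun i => (M i).subgroupOf K, by simp [h0], by simp [hl],
    fun i j hij => comap_mono (hm hij), fun i => (hn i).comap _, fun i => ?_⟩
  haveI := hn i.castSucc
  set A := M i.castSucc
  set B := M i.succ
  have hle : A ≤ B := hm (Fin.castSucc_le_succ i)
  have hdvd : (A.subgroupOf K).relIndex (B.subgroupOf K) ∣ A.relIndex B := by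
    show (A.comap K.subtype).relIndex (B.comap K.subtype) ∣ _
    rw [relIndex_comap, map_comap_eq, range_subtype]
    have h1 : A ≤ A ⊔ (K ⊓ B) := le_sup_left
    have h2 : (A ⊔ (K ⊓ B) : Subgroup G) ≤ B := sup_le hle inf_le_right
    rw [← relIndex_mul_relIndex A (A ⊔ (K ⊓ B)) B h1 h2, sup_comm A,
      relIndex_sup_eq_of_le_normalizer (le_normalizer_of_normal)]
    exact dvd_mul_right _ _
  rcases hs i with ⟨m, hm'⟩ | hc
  · obtain ⟨k, -, hk⟩ := (Nat.dvd_prime_pow hp.out).1 (hm' ▸ hdvd)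
    exact Or.inl ⟨k, hk⟩
  · exact Or.inr (Nat.Coprime.coprime_dvd_left hdvd hc)

theorem centralizer_pPrimeCore_le (h : Cfsg.IsPSolvable p G) (hcore : Cfsg.pCore p G = ⊥) :
    centralizer (Cfsg.pPrimeCore p G : Set G) ≤ Cfsg.pPrimeCore p G := by
  haveI := CfsgLib.Core.normal_pPrimeCore (G := G) p
  set D := Cfsg.pPrimeCore p G with hD
  set C := centralizer (D : Set G) with hC
  set f := QuotientGroup.mk' D with hf
  by_contra hle
  haveI : (C.map f).Normal := Subgroup.Normal.map inferInstance f (QuotientGroup.mk'_surjective D)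
  have hne : C.map f ≠ ⊥ := fun e => hle fun x hx =>
    (QuotientGroup.eq_one_iff x).1 (Subgroup.mem_bot.1 (e ▸ ⟨x, hx, rfl⟩ : f x ∈ (⊥ : Subgroup _)))
  obtain ⟨N, hNn, hNC, hN0, hN⟩ := exists_normal_le_of_isPSolvable
    (isPSolvable_of_surjective f (QuotientGroup.mk'_surjective D) h) (X := C.map f) hne
  haveI := hNn
  rcases hN with hN | hN
  swap
  · exact hN0 (le_bot_iff.1 ((le_pPrimeCore hNn hN).trans (pPrimeCore_quotient_pPrimeCore p).le))
  set T := N.comap f ⊓ C with hT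
  haveI : T.Normal := inferInstance
  have hmap : T.map f = N := by
    refine le_antisymm ((Subgroup.map_mono inf_le_left).trans (Subgroup.map_comap_le f N)) fun y hy => ?_
    obtain ⟨x, hx, rfl⟩ := hNC hy
    exact ⟨x, ⟨hy, hx⟩, rfl⟩
  have hrel : (D ⊓ T).relIndex T = Nat.card N := by
    rw [Subgroup.inf_relIndex_right, ← hmap, ← Subgroup.relIndex_ker, QuotientGroup.ker_mk']
  obtain ⟨B, hBT, hBsup, hBinf, hBc⟩ := exists_complement_in (inf_le_right : D ⊓ T ≤ T)
    (le_normalizer_normal T) (by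
      obtain ⟨k, hk⟩ := IsPGroup.iff_card.mp hN
      rw [hrel, hk]
      exact ((coprime_card_pPrimeCore p).coprime_dvd_left (card_dvd_of_le inf_le_left)).pow_right k)
  have hBn : ∀ t ∈ T, ∀ b ∈ B, t * b * t⁻¹ ∈ B := by
    intro t ht b hb
    rw [← hBsup] at ht
    obtain ⟨c, hc, z, hz, rfl⟩ := (mem_sup_iff_of_le_normalizer (le_normalizer_normal B)).1 ht
    have hbz : z * b = b * z := mem_centralizer_iff.1 ((hBT hb).2) z hz.1
    rw [show c * z * b * (c * z)⁻¹ = c * (z * b) * z⁻¹ * c⁻¹ by group, hbz,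
      show c * (b * z) * z⁻¹ * c⁻¹ = c * b * c⁻¹ by group]
    exact mul_mem (mul_mem hc hb) (inv_mem hc)
  haveI : (B.subgroupOf T).Normal :=
    ⟨fun b hb t => hBn t t.2 b (Subgroup.mem_subgroupOf.1 hb)⟩
  have hBle : B ≤ Cfsg.pCore p G := by
    refine le_trans ?_ (pCore_map_subtype_le (p := p) (N := T) inferInstance)
    rw [← Subgroup.map_subgroupOf_eq_of_le hBT]
    refine Subgroup.map_mono (le_pCore inferInstance ?_)
    obtain ⟨k, hk⟩ := IsPGroup.iff_card.mp hN
    exact IsPGroup.of_card (n := k) (by rw [card_subgroupOf_of_le hBT, hBc, hrel, hk])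
  rw [hcore, le_bot_iff] at hBle
  rw [hBle, Subgroup.card_bot] at hBc
  exact hN0 (Subgroup.eq_bot_of_card_eq _ (hrel ▸ hBc.symm))

theorem pCore_eq_bot_of_normal {R R' : Subgroup G} (hle : R ≤ R')
    (hn : R' ≤ normalizer (R : Set G)) (h : Cfsg.pCore p R' = ⊥) : Cfsg.pCore p R = ⊥ := by
  haveI := normal_subgroupOf_of_le_normalizer hn
  have h1 : Cfsg.pCore p ↥(R.subgroupOf R') = ⊥ := by
    have := pCore_map_subtype_le (p := p) (N := R.subgroupOf R') inferInstance
    rwa [h, le_bot_iff, Subgroup.map_eq_bot_iff_of_injective _ (subtype_injective _)] at this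
  rw [← map_pCore_of_mulEquiv p (subgroupOfEquivOfLe hle), h1, Subgroup.map_bot]

theorem card_inf_ker_mul_map {H : Type u} [Group H] (f : G →* H) (A : Subgroup G) :
    Nat.card ↥(A ⊓ f.ker) * Nat.card ↥(A.map f) = Nat.card A := by
  rw [← relIndex_ker, inf_comm]
  exact card_inf_mul_relIndex f.ker A

/-- A faithful model. -/
structure Model (V : Subgroup G) [V.Normal] (Γ : Type u) [Group Γ] where
  ψ : G →* Γ
  ι : V →* Γ
  ι_inj : Function.Injective ι
  ker_ψ : ψ.ker = centralizer (V : Set G)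
  conj : ∀ (x : G) (v : V), ψ x * ι v * (ψ x)⁻¹ = ι (MulAut.conjNormal x v)

theorem exists_model (V : Subgroup G) [V.Normal] :
    ∃ (Γ : Type u) (_ : Group Γ) (_ : Finite Γ), Nonempty (Model V Γ) := by
  have hle : centralizer (V : Set G) ≤ (MulAut.conjNormal (H := V)).ker := fun x hx => by
    refine MulEquiv.ext fun v => Subtype.ext ?_
    show x * (v : G) * x⁻¹ = v
    rw [← mem_centralizer_iff.mp hx v v.2, mul_inv_cancel_right]
  let φ : G ⧸ centralizer (V : Set G) →* MulAut V := QuotientGroup.lift _ MulAut.conjNormal hle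
  haveI : Finite (↥V ⋊[φ] (G ⧸ centralizer (V : Set G))) :=
    Finite.of_equiv _ SemidirectProduct.equivProd.symm
  refine ⟨↥V ⋊[φ] (G ⧸ centralizer (V : Set G)), inferInstance, inferInstance,
    ⟨SemidirectProduct.inr.comp (QuotientGroup.mk' _),
    SemidirectProduct.inl, SemidirectProduct.inl_injective, ?_, fun x v => ?_⟩⟩
  · rw [MonoidHom.ker_comp_of_injective (hg := SemidirectProduct.inr_injective), QuotientGroup.ker_mk']
  · rw [MonoidHom.comp_apply, ← map_inv (SemidirectProduct.inr (φ := φ)),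
      ← SemidirectProduct.inl_aut]
    rfl

namespace Model

variable {V : Subgroup G} [V.Normal] {Γ : Type u} [Group Γ] [Finite Γ] (M : Model V Γ)

theorem isEA (hV : Cfsg.IsElementaryAbelian p V) : Cfsg.IsElementaryAbelian p M.ι.range := by
  refine ⟨⟨⟨?_⟩⟩, ?_⟩
  · rintro ⟨_, a, rfl⟩ ⟨_, b, rfl⟩
    refine Subtype.ext ?_
    show M.ι a * M.ι b = M.ι b * M.ι a
    rw [← map_mul, ← map_mul, hV.1.is_comm.comm a b]
  · rintro _ ⟨a, rfl⟩
    rw [← map_pow, show a ^ p = 1 from Subtype.ext (hV.2 a a.2), map_one]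

theorem range_le_normalizer : M.ψ.range ≤ normalizer (M.ι.range : Set Γ) := by
  refine CfsgLib.Core.le_normalizer_iff_forall.mpr ?_
  rintro _ ⟨x, rfl⟩ _ ⟨v, rfl⟩
  exact ⟨_, (M.conj x v).symm⟩

theorem commute_iff (x : G) (v : V) : M.ι v * M.ψ x = M.ψ x * M.ι v ↔ (v : G) * x = x * v := by
  rw [eq_comm, ← mul_inv_eq_iff_eq_mul, M.conj, M.ι_inj.eq_iff, ← Subtype.coe_inj,
    MulAut.conjNormal_apply, mul_inv_eq_iff_eq_mul, eq_comm]

theorem faith : M.ψ.range ⊓ centralizer (M.ι.range : Set Γ) = ⊥ := by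
  rw [eq_bot_iff]
  intro g hg
  obtain ⟨hgr, hc⟩ := mem_inf.mp hg
  obtain ⟨x, rfl⟩ := hgr
  rw [mem_bot, ← MonoidHom.mem_ker, M.ker_ψ]
  exact mem_centralizer_iff.mpr fun v hv =>
    (M.commute_iff x ⟨v, hv⟩).mp (mem_centralizer_iff.mp hc _ ⟨⟨v, hv⟩, rfl⟩)

theorem fx_map (A : Subgroup G) :
    fx M.ι.range (A.map M.ψ) = ((fx V A).subgroupOf V).map M.ι := by
  ext g
  constructor
  · intro hg
    obtain ⟨hgr, hc⟩ := mem_inf.mp hg
    obtain ⟨v, rfl⟩ := hgr
    refine ⟨v, mem_inf.mpr ⟨v.2, mem_centralizer_iff.mpr fun a ha => ?_⟩, rfl⟩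
    exact ((M.commute_iff a v).mp (mem_centralizer_iff.mp hc _ ⟨a, ha, rfl⟩).symm).symm
  · rintro ⟨v, hv, rfl⟩
    refine mem_inf.mpr ⟨⟨v, rfl⟩, mem_centralizer_iff.mpr ?_⟩
    rintro _ ⟨a, ha, rfl⟩
    exact ((M.commute_iff a v).mpr (mem_centralizer_iff.mp (mem_inf.mp hv).2 a ha).symm).symm

theorem card_range : Nat.card M.ι.range = Nat.card V :=
  (Nat.card_congr (MonoidHom.ofInjective M.ι_inj).toEquiv).symm

theorem card_fx (A : Subgroup G) :
    Nat.card (fx M.ι.range (A.map M.ψ)) = Nat.card (fx V A) := by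
  rw [M.fx_map, card_map_of_injective M.ι_inj]
  exact Nat.card_congr (subgroupOfEquivOfLe inf_le_left).toEquiv

theorem setup (hV : Cfsg.IsElementaryAbelian p V) (hsep : Cfsg.IsPSolvable p G)
    {R : Subgroup Γ} (hR : R ≤ M.ψ.range) (hO : Cfsg.pCore p R = ⊥) :
    Setup p M.ι.range R := by
  refine ⟨M.isEA hV, hR.trans M.range_le_normalizer,
    eq_bot_iff.mpr ((inf_le_inf_right _ hR).trans M.faith.le), centralizer_pPrimeCore_le ?_ hO⟩
  exact isPSolvable_of_surjective (subgroupOfEquivOfLe hR).toMonoidHom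
    (subgroupOfEquivOfLe hR).surjective
    (isPSolvable_subgroup (isPSolvable_of_surjective M.ψ.rangeRestrict
      M.ψ.rangeRestrict_surjective hsep) _)

theorem bo_map {A : Subgroup G} (hA : Cfsg.IsElementaryAbelian p A)
    (hbo : Cfsg.IsBestOffenderOn p V A) :
    Cfsg.IsBestOffenderOn p M.ι.range (A.map M.ψ) := by
  have hEA := isEA_map M.ψ hA
  refine ⟨fun B hB => ?_, Subgroup.commutator_le.mpr fun a ha b hb => ?_, fun a ha => by
    rw [hEA.2 a ha]; exact one_mem _⟩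
  · set B₀ := A ⊓ B.comap M.ψ with hB₀
    have hBm : B₀.map M.ψ = B := by
      refine le_antisymm ((map_mono inf_le_right).trans (map_comap_le _ _)) fun b hb => ?_
      obtain ⟨a, ha, rfl⟩ := hB hb
      exact ⟨a, mem_inf.mpr ⟨ha, hb⟩, rfl⟩
    have hk : B₀ ⊓ M.ψ.ker = A ⊓ M.ψ.ker := le_antisymm (inf_le_inf_right _ inf_le_left)
      (le_inf (le_inf inf_le_left (inf_le_right.trans (ker_le_comap M.ψ B))) inf_le_right)
    have h := hbo.1 B₀ inf_le_left
    change _ * Nat.card ↥(fx V B₀) ≤ _ * Nat.card ↥(fx V A) at h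
    rw [← card_inf_ker_mul_map M.ψ B₀, ← card_inf_ker_mul_map M.ψ A, hk, mul_assoc, mul_assoc] at h
    have h' := Nat.le_of_mul_le_mul_left h Nat.card_pos
    rw [← M.card_fx, ← M.card_fx, hBm] at h'
    exact h'
  · rw [commutatorElement_eq_one_iff_mul_comm.mpr (ea_comm hEA ha hb).eq]
    exact one_mem _

end Model

theorem sSup_max_map {V : Subgroup G} [V.Normal] {Γ : Type u} [Group Γ] [Finite Γ]
    (M : Model V Γ) (hV : Cfsg.IsElementaryAbelian p V) :
    (Cfsg.thompsonSubgroup p G).map M.ψ =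
      ⨆ A : {A : Subgroup Γ // A ≤ (Cfsg.thompsonSubgroup p G).map M.ψ ∧
        Cfsg.IsBestOffenderOn p M.ι.range A}, (A : Subgroup Γ) := by
  refine le_antisymm ?_ (iSup_le fun A => A.2.1)
  rw [map_le_iff_le_comap]
  exact sSup_le fun A hA => map_le_iff_le_comap.mp (le_iSup_of_le
    ⟨A.map M.ψ, map_mono (le_sSup hA), M.bo_map hA.1 (bestOffender_of_max V hV hA)⟩ le_rfl)

theorem thompson_factor_structure (hsep : Cfsg.IsPSolvable p G) (hO : Cfsg.pPrimeCore p G = ⊥)
    (hnf : ¬ Cfsg.IsThompsonFactorizable p G) (V : Subgroup G)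
    (hVdef : V = ⨆ S : Sylow p G, CfsgLib.LocalFactor.Zc p (S : Subgroup G)) :
    (p = 2 ∨ p = 3) ∧ ∃ E : Subgroup G, centralizer (V : Set G) ≤ E ∧
      E ≤ Cfsg.thompsonSubgroup p G ⊔ centralizer (V : Set G) ∧
      Cfsg.thompsonSubgroup p G ⊔ centralizer (V : Set G) ≤ normalizer (E : Set G) ∧
      ∃ _ : ((centralizer (V : Set G)).subgroupOf E).Normal,
        Nonempty ((↥E ⧸ (centralizer (V : Set G)).subgroupOf E) ≃*
          Matrix.SpecialLinearGroup (Fin 2) (ZMod p)) := by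
  obtain ⟨hVn, hV, -⟩ :=
    omega_center_closure (centralizer_pCore_le_of_isPSolvable hsep hO) V hVdef
  haveI := hVn
  have hgen : V = ⨆ S : Sylow p G, V ⊓ centralizer ((S : Subgroup G) : Set G) := by
    refine le_antisymm ?_ (iSup_le fun S => inf_le_left)
    calc V = ⨆ S : Sylow p G, CfsgLib.LocalFactor.Zc p (S : Subgroup G) := hVdef
      _ ≤ _ := iSup_mono fun S => le_inf
        (hVdef ▸ le_iSup (fun S : Sylow p G => CfsgLib.LocalFactor.Zc p (S : Subgroup G)) S)
        (CfsgLib.LocalFactor.Zc_le_centralizer _)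
  obtain ⟨Γ, _, _, ⟨M⟩⟩ := exists_model V
  have hrange : Cfsg.pCore p M.ψ.range = ⊥ := by
    rw [← map_pCore_of_mulEquiv p ((QuotientGroup.quotientMulEquivOfEq M.ker_ψ.symm).trans
      (QuotientGroup.quotientKerEquivRange M.ψ)), pCore_quotient_eq_bot V hgen, Subgroup.map_bot]
  set J := Cfsg.thompsonSubgroup p G with hJ
  set H := J.map M.ψ with hH
  haveI : J.Normal := by
    haveI := thompson_characteristic (G := G) (p := p)
    infer_instance
  have hHr : H ≤ M.ψ.range := map_le_range _ _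
  have hHn : M.ψ.range ≤ normalizer (H : Set Γ) := by
    refine CfsgLib.Core.le_normalizer_iff_forall.mpr ?_
    rintro _ ⟨x, rfl⟩ _ ⟨j, hj, rfl⟩
    exact ⟨x * j * x⁻¹, Normal.conj_mem inferInstance j hj x, by simp⟩
  have S := M.setup hV hsep hHr (pCore_eq_bot_of_normal hHr hHn hrange)
  have hS3 := sSup_max_map M hV
  have hH1 : H ≠ ⊥ := fun e => hnf ((CfsgLib.LocalFactor.factorizable_iff hO).mpr (by
    rw [← hVdef, ← M.ker_ψ]
    exact (Subgroup.map_eq_bot_iff _).mp e))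
  obtain ⟨⟨A, hA, hbo⟩, hA1⟩ : ∃ A : {A : Subgroup Γ // A ≤ H ∧
      Cfsg.IsBestOffenderOn p M.ι.range A}, (A : Subgroup Γ) ≠ ⊥ := by
    by_contra hcon
    push Not at hcon
    exact hH1 (hS3.trans (by simp [hcon]))
  obtain ⟨L, hL, -⟩ := S.exists_line (S.off_of_bo hA hbo) hA1
  obtain ⟨-, -, -, -, ⟨e⟩, -⟩ := S.line_struct hL
  refine ⟨S.prime_eq hL, (ext' p H L).comap M.ψ, M.ker_ψ ▸ ker_le_comap _ _, ?_, ?_, ?_⟩
  · rw [← M.ker_ψ, ← comap_map_eq]
    exact comap_mono (S.ext_le hL)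
  · rw [← M.ker_ψ, ← comap_map_eq]
    refine CfsgLib.Core.le_normalizer_iff_forall.mpr fun x hx g hg => ?_
    show M.ψ (x * g * x⁻¹) ∈ ext' p H L
    rw [map_mul, map_mul, map_inv]
    exact conj_mem_of_le_normalizer (S.direct_factor hS3 hL).2.2.2.2 hx hg
  · let θ : ↥((ext' p H L).comap M.ψ) →* ↥(ext' p H L) := M.ψ.subgroupComap _
    have hθ : Function.Surjective θ := fun y => by
      obtain ⟨x, hx⟩ := hHr (S.ext_le hL y.2)
      exact ⟨⟨x, show M.ψ x ∈ _ from hx ▸ y.2⟩, Subtype.ext hx⟩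
    have hker : θ.ker = (centralizer (V : Set G)).subgroupOf ((ext' p H L).comap M.ψ) := by
      ext x
      rw [MonoidHom.mem_ker, mem_subgroupOf, ← M.ker_ψ, MonoidHom.mem_ker]
      exact Subtype.ext_iff
    haveI hn : ((centralizer (V : Set G)).subgroupOf ((ext' p H L).comap M.ψ)).Normal :=
      hker ▸ inferInstance
    exact ⟨hn, ⟨((QuotientGroup.quotientMulEquivOfEq hker.symm).trans
      (QuotientGroup.quotientKerEquivOfSurjective θ hθ)).trans e⟩⟩

theorem omega_center_thompson_commutator_le (hsep : Cfsg.IsPSolvable p G) (V : Subgroup G) [V.Normal]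
    (hV : Cfsg.IsElementaryAbelian p V)
    (hO : Cfsg.pCore p (G ⧸ centralizer (V : Set G)) = ⊥) :
    ⁅Cfsg.omegaOne p (Cfsg.centerThompsonOf p (centralizer (V : Set G))),
      Cfsg.thompsonSubgroup p G⁆ ≤ V := by
  obtain ⟨Γ, _, _, ⟨M⟩⟩ := exists_model V
  have hrange : Cfsg.pCore p M.ψ.range = ⊥ := by
    rw [← map_pCore_of_mulEquiv p ((QuotientGroup.quotientMulEquivOfEq M.ker_ψ.symm).trans
      (QuotientGroup.quotientKerEquivRange M.ψ)), hO, Subgroup.map_bot]
  have S := M.setup hV hsep le_rfl hrange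
  set C := centralizer (V : Set G) with hC
  set f := QuotientGroup.mk' V with hf
  suffices h : ∀ A ∈ Cfsg.maxElementaryAbelianSubgroups p G,
      ∀ x ∈ Cfsg.centerThompsonOf p C, x ^ p = 1 → ∀ a ∈ A, f x * f a = f a * f x by
    refine Subgroup.commutator_le.mpr fun z hz j hj => ?_
    have h1 : Cfsg.omegaOne p (Cfsg.centerThompsonOf p C) ≤
        (centralizer ((Cfsg.thompsonSubgroup p G).map f : Set (G ⧸ V))).comap f := by
      refine (closure_le _).mpr fun x hx => ?_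
      have hle : (Cfsg.thompsonSubgroup p G).map f ≤ centralizer ({f x} : Set (G ⧸ V)) := by
        rw [map_le_iff_le_comap]
        exact sSup_le fun A hA a ha =>
          mem_centralizer_singleton_iff.mpr (h A hA x hx.1 hx.2 a ha).symm
      exact mem_centralizer_iff.mpr fun y hy => mem_centralizer_singleton_iff.mp (hle hy)
    have h2 : f j * f z = f z * f j := mem_centralizer_iff.mp (h1 hz) _ ⟨j, hj, rfl⟩
    rw [← QuotientGroup.ker_mk' V, MonoidHom.mem_ker, map_commutatorElement]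
    exact commutatorElement_eq_one_iff_mul_comm.mpr h2.symm
  intro A hA x hx hxp a ha
  set B := (A ⊓ C) ⊔ V with hB
  have hEA : Cfsg.IsElementaryAbelian p B :=
    isEA_sup (isEA_of_le hA.1 inf_le_left) hV fun b hb v hv =>
      (mem_centralizer_iff.mp (mem_inf.mp hb).2 v hv).symm
  have hcard : Nat.card A ≤ Nat.card B := by
    have h1 := card_sup_mul_card_inf (A := A ⊓ C) (K := V) le_normalizer_of_normal
    have h2 : Nat.card ↥((A ⊓ C) ⊓ V) ≤ Nat.card (fx V A) := card_le_of_le fun g hg =>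
      mem_inf.mpr ⟨(mem_inf.mp hg).2, mem_centralizer_iff.mpr fun b hb =>
        (ea_comm hA.1 hb (mem_inf.mp (mem_inf.mp hg).1).1).eq⟩
    have h3 := S.card_bound (map_le_range M.ψ A) (isEA_map _ hA.1)
    rw [M.card_fx, M.card_range] at h3
    refine Nat.le_of_mul_le_mul_right ?_ (Nat.card_pos (α := fx V A))
    calc Nat.card A * Nat.card (fx V A)
        = Nat.card ↥(A ⊓ C) * (Nat.card ↥(A.map M.ψ) * Nat.card (fx V A)) := by
          rw [hC, ← M.ker_ψ, ← card_inf_ker_mul_map M.ψ A, mul_assoc]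
      _ ≤ Nat.card ↥(A ⊓ C) * Nat.card V := Nat.mul_le_mul_left _ h3
      _ = Nat.card B * Nat.card ↥((A ⊓ C) ⊓ V) := h1.symm
      _ ≤ _ := Nat.mul_le_mul_left _ h2
  have hBmax : B ∈ Cfsg.maxElementaryAbelianSubgroups p G :=
    ⟨hEA, fun D hD => (hA.2 D hD).trans hcard⟩
  have hBC : B ≤ C := sup_le inf_le_right fun v hv => mem_centralizer_iff.mpr fun w hw =>
    (ea_comm hV hw hv).eq
  have hBJ : B ≤ Cfsg.thompsonSubgroupOf p C := by
    rw [thompsonOf_eq]
    exact le_sSup ⟨hBC, hEA, fun D _ hD => hBmax.2 D hD⟩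
  have hxB : x ∈ B := mem_of_max_of_commute hBmax hxp fun b hb =>
    mem_centralizer_iff.mp (mem_inf.mp hx).2 b (hBJ hb)
  obtain ⟨b, hb, v, hv, rfl⟩ := (mem_sup_iff_of_le_normalizer le_normalizer_of_normal).mp hxB
  rw [map_mul, show f v = 1 from (QuotientGroup.eq_one_iff v).mpr hv, mul_one, ← map_mul, ← map_mul,
    (ea_comm hA.1 (mem_inf.mp hb).1 ha).eq]

end CfsgLib.LocalFF
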