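import Cfsg.Agent.Lib.QuadPairGroup
import Cfsg.Agent.Lib.CoreSubnormal
import Cfsg.Agent.Lib.CorePSolvable

/-!
# Sections isomorphic to `SL₂(p)` from quadratic action
-/

set_option autoImplicit false
set_option linter.style.haveILetI false

universe u v w

namespace CfsgLib.QuadPair

open CfsgLib.Dickson
open scoped commutatorElement

variable {p : ℕ} [hp : Fact p.Prime]

theorem exists_pprime_of_not_isPGroup {G : Type u} [Group G] [Finite G] (h : ¬ IsPGroup p G) :
    ∃ w : G, w ≠ 1 ∧ ¬ p ∣ orderOf w := by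
  by_contra hc
  push Not at hc
  refine h fun y => ?_
  obtain ⟨e, m, hm, he⟩ := Nat.exists_eq_pow_mul_and_not_dvd (orderOf_pos y).ne' p hp.out.ne_one
  refine ⟨e, ?_⟩
  by_contra hne
  refine hm ?_
  have h1 := hc _ hne
  have h2 : orderOf (y ^ p ^ e) ∣ m :=
    orderOf_dvd_of_pow_eq_one (by rw [← pow_mul, ← he, pow_orderOf_eq_one])
  exact h1.trans h2

theorem quad_conj {G : Type u} [Group G] {V : Subgroup G} {x g : G}
    (hg : g ∈ Subgroup.normalizer (V : Set G))
    (hq : ⁅⁅V, Subgroup.zpowers x⁆, Subgroup.zpowers x⁆ = ⊥) :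
    ⁅⁅V, Subgroup.zpowers (g * x * g⁻¹)⁆, Subgroup.zpowers (g * x * g⁻¹)⁆ = ⊥ := by
  have hV : V.map (MulAut.conj g).toMonoidHom = V := by
    ext y
    simp only [Subgroup.mem_map, MulEquiv.coe_toMonoidHom, MulAut.conj_apply]
    constructor
    · rintro ⟨z, hz, rfl⟩
      exact (Subgroup.mem_normalizer_iff.1 hg z).1 hz
    · intro hy
      exact ⟨g⁻¹ * y * g, by
        have := (Subgroup.mem_normalizer_iff.1 hg (g⁻¹ * y * g)).2 (by group; simpa using hy)
        exact this, by group⟩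
  have h1 := congrArg (Subgroup.map (MulAut.conj g).toMonoidHom) hq
  rw [Subgroup.map_commutator, Subgroup.map_commutator, hV, MonoidHom.map_zpowers,
    Subgroup.map_bot] at h1
  exact h1

/-- A conjugate pair generating a group that is not a `p`-group, from Baer and Suzuki. -/
theorem exists_conj_pair {G : Type u} [Group G] [Finite G] {H : Subgroup G} {x : G} (hx : x ∈ H)
    (hnot : (⟨x, hx⟩ : ↥H) ∉ Cfsg.pCore p ↥H) :
    ∃ g ∈ H, ∃ w ∈ Subgroup.closure ({x, g * x * g⁻¹} : Set G), w ≠ 1 ∧ ¬ p ∣ orderOf w := by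
  obtain ⟨g, hg⟩ : ∃ g : ↥H, ¬ IsPGroup p
      (Subgroup.closure ({⟨x, hx⟩, g * ⟨x, hx⟩ * g⁻¹} : Set ↥H)) := by
    by_contra hc
    push Not at hc
    exact hnot (CfsgLib.Core.baer_suzuki hc)
  obtain ⟨w, hw1, hwp⟩ := exists_pprime_of_not_isPGroup hg
  refine ⟨g, g.2, ((w : ↥H) : G), ?_, fun e => hw1 (Subtype.ext (Subtype.ext e)), ?_⟩
  · have h1 : ((w : ↥H) : G) ∈
        (Subgroup.closure ({⟨x, hx⟩, g * ⟨x, hx⟩ * g⁻¹} : Set ↥H)).map H.subtype :=
      ⟨w, w.2, rfl⟩
    rw [MonoidHom.map_closure, Set.image_pair] at h1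
    exact h1
  · rwa [Subgroup.orderOf_coe, Subgroup.orderOf_coe]

/-- A quadratic pair on a `p`-group gives a section isomorphic to `SL₂(p)`. -/
theorem exists_section_of_pair (hodd : p ≠ 2) {X : Type u} [Group X] [Finite X] {P : Subgroup X}
    (hP : IsPGroup p P) {a b : X} (ha : a ∈ Subgroup.normalizer (P : Set X))
    (hb : b ∈ Subgroup.normalizer (P : Set X))
    (hqa : ⁅⁅P, Subgroup.zpowers a⁆, Subgroup.zpowers a⁆ = ⊥)
    (hqb : ⁅⁅P, Subgroup.zpowers b⁆, Subgroup.zpowers b⁆ = ⊥) {w : X}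
    (hw : w ∈ Subgroup.closure ({a, b} : Set X)) (hwo : ¬ p ∣ orderOf w)
    (hwP : w ∉ Subgroup.centralizer (P : Set X)) :
    ∃ (K L : Subgroup X) (hL : (L.subgroupOf K).Normal),
      K ≤ Subgroup.closure ({a, b} : Set X) ∧
        Nonempty ((K ⧸ L.subgroupOf K) ≃* SL (ZMod p)) := by
  obtain ⟨F, iF, iC, iFin, φ, c, hc, h1, h2, -, -⟩ :=
    exists_hom_of_pgroup hP ha hb hqa hqb hw hwo hwP
  obtain ⟨K, ψ, hψ⟩ := exists_onto_sl2 (E := F) hodd (a := (⟨a, Subgroup.subset_closure (by simp)⟩ :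
      ↥(Subgroup.closure ({a, b} : Set X)))) (b := ⟨b, Subgroup.subset_closure (by simp)⟩) (by
    apply Subgroup.map_injective (Subgroup.subtype_injective _)
    rw [MonoidHom.map_closure, Set.image_pair, ← MonoidHom.range_eq_map, Subgroup.range_subtype]
    rfl) φ hc h1 h2
  exact exists_section ψ hψ

/-- For `p > 3` transvections are commutators. -/
theorem upperU_mem_commutator {F : Type w} [Field F] (h2 : (2 : F) ≠ 0) (h3 : (3 : F) ≠ 0)
    (t : F) : upperU t ∈ commutator (SL F) := by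
  obtain ⟨d, hd⟩ : ∃ d : SL F, d.1 = !![2, 0; 0, 2⁻¹] :=
    ⟨⟨_, by simp [Matrix.det_fin_two, h2]⟩, rfl⟩
  have e : upperU t = ⁅d, upperU (t / 3)⁆ := by
    rw [commutatorElement_def]
    refine sl_ext ?_ ?_ ?_ ?_ <;>
      simp [hd, coe_upperU, Matrix.mul_apply, Fin.sum_univ_two, Matrix.adjugate_fin_two, h2] <;>
      (try field_simp) <;> (try ring)
  rw [e]
  exact Subgroup.commutator_mem_commutator (Subgroup.mem_top _) (Subgroup.mem_top _)

theorem lowerU_mem_commutator {F : Type w} [Field F] (h2 : (2 : F) ≠ 0) (h3 : (3 : F) ≠ 0)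
    (t : F) : lowerU t ∈ commutator (SL F) := by
  obtain ⟨d, hd⟩ : ∃ d : SL F, d.1 = !![2⁻¹, 0; 0, 2] :=
    ⟨⟨_, by simp [Matrix.det_fin_two, h2]⟩, rfl⟩
  have e : lowerU t = ⁅d, lowerU (t / 3)⁆ := by
    rw [commutatorElement_def]
    refine sl_ext ?_ ?_ ?_ ?_ <;>
      simp [hd, coe_lowerU, Matrix.mul_apply, Fin.sum_univ_two, Matrix.adjugate_fin_two, h2] <;>
      (try field_simp) <;> (try ring)
  rw [e]
  exact Subgroup.commutator_mem_commutator (Subgroup.mem_top _) (Subgroup.mem_top _)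

theorem three_ne_zero_zmod (h3 : p ≠ 3) : (3 : ZMod p) ≠ 0 := by
  intro h
  have h1 : ((3 : ℕ) : ZMod p) = 0 := by exact_mod_cast h
  rw [ZMod.natCast_eq_zero_iff] at h1
  exact h3 ((Nat.prime_dvd_prime_iff_eq hp.out Nat.prime_three).1 h1)

theorem commutator_sl_zmod (hp2 : p ≠ 2) (hp3 : p ≠ 3) : commutator (SL (ZMod p)) = ⊤ := by
  rw [eq_top_iff, ← sl_zmod_closure, Subgroup.closure_le]
  rintro _ (rfl | rfl)
  · exact upperU_mem_commutator (two_ne_zero_of_char hp2) (three_ne_zero_zmod hp3) 1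
  · exact lowerU_mem_commutator (two_ne_zero_of_char hp2) (three_ne_zero_zmod hp3) 1

/-- A group with an image `SL₂(p)` of a subgroup, `p > 3`, is not `p`-soluble. -/
theorem three_of_isPSolvable (hp2 : p ≠ 2) {G : Type u} [Group G] [Finite G]
    (h : Cfsg.IsPSolvable p G) {K : Subgroup G} (ψ : K →* SL (ZMod p))
    (hψ : Function.Surjective ψ) : p = 3 := by
  by_contra hp3
  obtain ⟨n, H, h0, hl, hm, hn, hs⟩ := h
  let M : Fin (n + 1) → Subgroup (SL (ZMod p)) := fun i => ((H i).subgroupOf K).map ψ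
  have key : ∀ i, M i = ⊤ := by
    intro i
    induction i using Fin.reverseInduction with
    | last =>
      show ((H (Fin.last n)).subgroupOf K).map ψ = ⊤
      rw [hl, Subgroup.top_subgroupOf, Subgroup.map_top_of_surjective ψ hψ]
    | cast i ih =>
      haveI := hn i.castSucc
      haveI hMn : (M i.castSucc).Normal := Subgroup.Normal.map inferInstance ψ hψ
      have hpow : ∀ m : SL (ZMod p), m ^ (H i.castSucc).relIndex (H i.succ) ∈ M i.castSucc := by
        intro m
        obtain ⟨k, hk, rfl⟩ := ih.ge (Subgroup.mem_top m)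
        refine ⟨k ^ (H i.castSucc).relIndex (H i.succ), ?_, map_pow ψ k _⟩
        have h1 := Subgroup.pow_index_mem ((H i.castSucc).subgroupOf (H i.succ))
          (⟨(k : G), hk⟩ : ↥(H i.succ))
        exact h1
      rcases hs i with ⟨m, hm'⟩ | hcp
      · by_contra hne
        haveI : Nontrivial (SL (ZMod p) ⧸ M i.castSucc) :=
          QuotientGroup.nontrivial_iff.2 hne
        haveI : Finite (SL (ZMod p) ⧸ M i.castSucc) := inferInstance
        have hpg : IsPGroup p (SL (ZMod p) ⧸ M i.castSucc) := by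
          intro x
          obtain ⟨y, rfl⟩ := QuotientGroup.mk_surjective x
          exact ⟨m, by rw [← QuotientGroup.mk_pow, QuotientGroup.eq_one_iff, ← hm']; exact hpow y⟩
        haveI := hpg.isNilpotent
        have hsolv : commutator (SL (ZMod p) ⧸ M i.castSucc) < ⊤ :=
          Group.IsSolvable.commutator_lt_top_of_nontrivial _
        refine hsolv.ne ?_
        rw [commutator_def, ← Subgroup.map_top_of_surjective (QuotientGroup.mk' (M i.castSucc))
          (QuotientGroup.mk'_surjective _), ← Subgroup.map_commutator, ← commutator_def,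
          commutator_sl_zmod hp2 hp3]
      · rw [eq_top_iff, ← sl_zmod_closure, Subgroup.closure_le]
        have hmem : ∀ m : SL (ZMod p), m ^ p = 1 → m ∈ M i.castSucc := by
          intro m hmp
          obtain ⟨j, hj⟩ := exists_pow_eq_self_of_coprime
            (Nat.Coprime.coprime_dvd_right (orderOf_dvd_of_pow_eq_one hmp) hcp)
          rw [← hj]
          exact pow_mem (hpow m) j
        rintro _ (rfl | rfl)
        · exact hmem _ (pow_eq_one_of_trace (by simp [coe_upperU]; norm_num))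
        · exact hmem _ (pow_eq_one_of_trace (by simp [coe_lowerU]; norm_num))
  have h1 : upperU (1 : ZMod p) ∈ M 0 := (key 0).ge (Subgroup.mem_top _)
  simp only [M, h0, Subgroup.bot_subgroupOf, Subgroup.map_bot, Subgroup.mem_bot] at h1
  have h2 := congrArg (fun g : SL (ZMod p) => g.1 0 1) h1
  simp [coe_upperU] at h2

/-- An element of `p`-power order in `SL₂` moving a subgroup of order prime to `p` forces `p = 3`. -/
theorem three_of_normal_pprime (hp2 : p ≠ 2) {F : Type w} [Field F] [CharP F p] {L : Type v}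
    [Group L] [Finite L] {ι : L →* SL F} (hι : Function.Injective ι) {Q : Subgroup L}
    (hQ : (Nat.card Q).Coprime p) {u : L} (hu : u ^ p = 1)
    (hun : u ∈ Subgroup.normalizer (Q : Set L)) (hne : u ∉ Subgroup.centralizer (Q : Set L)) :
    p = 3 := by
  by_contra hp3
  set U := Subgroup.zpowers u with hU
  have hUN : U ≤ Subgroup.normalizer (Q : Set L) := Subgroup.zpowers_le.2 hun
  set M := Q ⊔ U with hM
  have hsy : 1 < Nat.card (Sylow p M) := by
    by_contra hle
    haveI : Subsingleton (Sylow p M) := Finite.card_le_one_iff_subsingleton.1 (by omega)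
    obtain ⟨P⟩ := (inferInstance : Nonempty (Sylow p M))
    haveI := Sylow.normal_of_subsingleton P
    haveI hQn : (Q.subgroupOf M).Normal := Subgroup.normal_subgroupOf_of_le_normalizer
      (sup_le Subgroup.le_normalizer hUN)
    let u' : M := ⟨u, (le_sup_right : U ≤ M) (Subgroup.mem_zpowers u)⟩
    have huP : u' ∈ (P : Subgroup M) := by
      have h1 : IsPGroup p (Subgroup.zpowers u') := fun y => ⟨1, by
        obtain ⟨i, hi⟩ := y.2
        apply Subtype.ext
        simp only [SubgroupClass.coe_pow, OneMemClass.coe_one, pow_one, ← hi]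
        rw [← zpow_natCast, ← zpow_mul, mul_comm, zpow_mul, zpow_natCast,
          show u' ^ p = 1 from Subtype.ext hu, one_zpow]⟩
      obtain ⟨R, hR⟩ := h1.exists_le_sylow
      exact (Subsingleton.elim R P) ▸ hR (Subgroup.mem_zpowers u')
    have hdisj : Disjoint (P : Subgroup M) (Q.subgroupOf M) := by
      rw [disjoint_iff]
      refine Subgroup.eq_bot_of_card_eq _ (Nat.eq_one_of_dvd_coprimes ?_
        (Subgroup.card_dvd_of_le inf_le_left) (Subgroup.card_dvd_of_le inf_le_right))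
      obtain ⟨k, hk⟩ := IsPGroup.iff_card.1 P.2
      rw [hk, Nat.card_congr (Subgroup.subgroupOfEquivOfLe (le_sup_left : Q ≤ M)).toEquiv]
      exact hQ.symm.pow_left k
    refine hne (Subgroup.mem_centralizer_iff.2 fun q hq => ?_)
    have h2 := Subgroup.commute_of_normal_of_disjoint (P : Subgroup M) (Q.subgroupOf M)
      inferInstance hQn hdisj u' ⟨q, (le_sup_left : Q ≤ M) hq⟩ huP hq
    exact (congrArg Subtype.val h2.eq).symm
  obtain ⟨f, hf⟩ := exists_sl2_zmod (p := p) hp2 (ι := ι.comp M.subtype)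
    (fun x y h => Subtype.ext (hι h)) hsy
  haveI hQn : (Q.subgroupOf M).Normal := Subgroup.normal_subgroupOf_of_le_normalizer
    (sup_le Subgroup.le_normalizer hUN)
  let π := QuotientGroup.mk' (Q.subgroupOf M)
  have htop : Subgroup.zpowers (π ⟨u, (le_sup_right : U ≤ M) (Subgroup.mem_zpowers u)⟩) = ⊤ := by
    rw [eq_top_iff]
    intro x _
    obtain ⟨z, rfl⟩ := QuotientGroup.mk'_surjective _ x
    have hle : M ≤ ((Subgroup.zpowers (π ⟨u, (le_sup_right : U ≤ M) (Subgroup.mem_zpowers u)⟩)).comap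
        π).map M.subtype := by
      refine sup_le (fun q hq => ⟨⟨q, (le_sup_left : Q ≤ M) hq⟩, ?_, rfl⟩)
        (Subgroup.zpowers_le.2 ⟨_, Subgroup.mem_zpowers (π ⟨u, _⟩), rfl⟩)
      show π ⟨q, (le_sup_left : Q ≤ M) hq⟩ ∈ Subgroup.zpowers _
      rw [show π ⟨q, (le_sup_left : Q ≤ M) hq⟩ = 1 from (QuotientGroup.eq_one_iff _).2 hq]
      exact one_mem _
    obtain ⟨z', hz', hzz⟩ := hle z.2
    exact Subtype.ext hzz ▸ hz'
  have hcomm : ∀ x y : M ⧸ Q.subgroupOf M, x * y = y * x := by
    intro x y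
    obtain ⟨i, rfl⟩ : x ∈ Subgroup.zpowers _ := htop.ge (Subgroup.mem_top x)
    obtain ⟨j, rfl⟩ : y ∈ Subgroup.zpowers _ := htop.ge (Subgroup.mem_top y)
    exact (Commute.zpow_zpow_self _ i j).eq
  have hker : commutator (SL (ZMod p)) ≤ (π.comp f).ker := by
    rw [commutator_def, Subgroup.commutator_le]
    intro x _ y _
    rw [MonoidHom.mem_ker, commutatorElement_def, map_mul, map_mul, map_mul, map_inv, map_inv,
      hcomm ((π.comp f) x), mul_inv_cancel_right, mul_inv_cancel]
  rw [commutator_sl_zmod hp2 hp3] at hker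
  have h4 : f (upperU 1) ∈ Q.subgroupOf M :=
    (QuotientGroup.eq_one_iff _).1 (hker (Subgroup.mem_top (upperU 1)))
  have h5 : orderOf (f (upperU 1) : L) ∣ p := orderOf_dvd_of_pow_eq_one (by
    rw [← Subgroup.coe_pow, ← map_pow, pow_eq_one_of_trace (by simp [coe_upperU]; norm_num),
      map_one, Subgroup.coe_one])
  have h6 : orderOf (f (upperU 1) : L) ∣ Nat.card Q := Subgroup.orderOf_dvd_natCard Q h4
  have h7 := orderOf_eq_one_iff.1 (Nat.eq_one_of_dvd_coprimes hQ h6 h5)
  have h8 : upperU (1 : ZMod p) = 1 := hf (by rw [map_one]; exact Subtype.ext h7)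
  have h9 := congrArg (fun g : SL (ZMod p) => g.1 0 1) h8
  simp [coe_upperU] at h9

end CfsgLib.QuadPair
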