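import Cfsg.Agent.Lib.LocalFFBasic
import Cfsg.Agent.Lib.DicksonMain
import Cfsg.Agent.Lib.QuadPairSection

/-!
# Two conjugate offenders of order `p` generate `SL₂(p)`
-/

set_option autoImplicit false

universe u

namespace CfsgLib.LocalFF

open Subgroup CfsgLib.LocalThompson CfsgLib.Core CfsgLib.Dickson Matrix
open scoped commutatorElement IsMulCommutative

set_option linter.unusedSectionVars false

variable {G : Type u} [Group G] [Finite G] {p : ℕ} [hp : Fact p.Prime]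

local notation "SL2" => Matrix.SpecialLinearGroup (Fin 2) (ZMod p)

/-- The conjugate of a subgroup. -/
abbrev cj (x : G) (L : Subgroup G) : Subgroup G := L.map (MulAut.conj x).toMonoidHom

theorem cj_cj (x y : G) (L : Subgroup G) : cj x (cj y L) = cj (x * y) L := by
  rw [cj, cj, Subgroup.map_map]
  congr 1
  ext g
  simp [mul_assoc]

theorem cj_one (L : Subgroup G) : cj 1 L = L := by
  rw [cj]
  have : (MulAut.conj (1 : G)).toMonoidHom = MonoidHom.id G := by ext g; simp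
  rw [this, Subgroup.map_id]

theorem cj_inv_cj (x : G) (L : Subgroup G) : cj x⁻¹ (cj x L) = L := by
  rw [cj_cj, inv_mul_cancel, cj_one]

theorem mem_cj {x g : G} {L : Subgroup G} : g ∈ cj x L ↔ x⁻¹ * g * x ∈ L := by
  constructor
  · rintro ⟨l, hl, rfl⟩
    simpa [mul_assoc] using hl
  · intro h
    exact ⟨_, h, by simp [mul_assoc]⟩

theorem pow_val_add {e : G} (he : e ^ p = 1) (a b : ZMod p) :
    e ^ (a + b).val = e ^ a.val * e ^ b.val := by
  rw [ZMod.val_add, ← pow_eq_pow_mod _ he, pow_add]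

theorem pow_val_mul {e : G} (he : e ^ p = 1) (a b : ZMod p) :
    e ^ (a * b).val = (e ^ a.val) ^ b.val := by
  rw [ZMod.val_mul, ← pow_eq_pow_mod _ he, pow_mul]

/-- Two transvections with different axes on a plane. -/
theorem plane_iso (W : Subgroup G) (hW : Cfsg.IsElementaryAbelian p W) (hcard : Nat.card W = p ^ 2)
    (e₁ e₂ a b : G) (h1 : e₁ ∈ W) (h2 : e₂ ∈ W) (hne1 : e₁ ≠ 1) (hne2 : e₂ ≠ 1)
    (hd : zpowers e₁ ⊓ zpowers e₂ = ⊥) (X : Subgroup G) (hX : X = closure {a, b})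
    (hXW : X ≤ normalizer (W : Set G)) (hf : X ⊓ centralizer (W : Set G) = ⊥)
    (ha1 : a * e₁ * a⁻¹ = e₁) (ha2 : a * e₂ * a⁻¹ = e₁ * e₂)
    (c : ZMod p) (hc : c ≠ 0) (hb2 : b * e₂ * b⁻¹ = e₂)
    (hb1 : b * e₁ * b⁻¹ = e₁ * e₂ ^ c.val) :
    Nonempty (X ≃* SL2) ∧ ∀ w ∈ W, ∀ w' ∈ W, w ≠ 1 → w' ≠ 1 → ∃ g ∈ X, g * w * g⁻¹ = w' := by
  classical
  let ι : (Fin 2 → ZMod p) → G := fun v => e₁ ^ (v 0).val * e₂ ^ (v 1).val
  have hp1 : e₁ ^ p = 1 := hW.2 _ h1
  have hp2 : e₂ ^ p = 1 := hW.2 _ h2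
  have hιW : ∀ v, ι v ∈ W := fun v => mul_mem (pow_mem h1 _) (pow_mem h2 _)
  have hι : ∀ v w, ι (v + w) = ι v * ι w := fun v w => by
    simp only [ι, Pi.add_apply, pow_val_add hp1, pow_val_add hp2]
    have := ea_comm hW (pow_mem h1 (w 0).val) (pow_mem h2 (v 1).val)
    rw [mul_assoc, ← mul_assoc (e₁ ^ (w 0).val), this.eq]
    simp only [mul_assoc]
  have hι0 : ι 0 = 1 := by simp [ι]
  have hιker : ∀ v, ι v = 1 → v = 0 := by
    intro v hv
    have hmem : e₁ ^ (v 0).val ∈ zpowers e₁ ⊓ zpowers e₂ := mem_inf.mpr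
      ⟨pow_mem (mem_zpowers _) _, by
        rw [eq_inv_of_mul_eq_one_left hv]; exact inv_mem (pow_mem (mem_zpowers _) _)⟩
    rw [hd, mem_bot] at hmem
    have h2' : e₂ ^ (v 1).val = 1 := by simpa [ι, hmem] using hv
    have key : ∀ (e : G) (z : ZMod p), e ^ p = 1 → e ≠ 1 → e ^ z.val = 1 → z = 0 := by
      intro e z he hne hz
      have hd := orderOf_dvd_of_pow_eq_one hz
      rw [orderOf_eq_prime he hne] at hd
      exact (ZMod.val_eq_zero z).mp (Nat.eq_zero_of_dvd_of_lt hd (ZMod.val_lt z))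
    ext i
    fin_cases i
    · exact key e₁ _ hp1 hne1 hmem
    · exact key e₂ _ hp2 hne2 h2'
  have hneg : ∀ v, ι (-v) = (ι v)⁻¹ := fun v => eq_inv_of_mul_eq_one_left (by
    rw [← hι, neg_add_cancel, hι0])
  have hinj : Function.Injective ι := fun v w hvw => by
    refine sub_eq_zero.mp (hιker _ ?_)
    rw [sub_eq_add_neg, hι, hneg, hvw, mul_inv_cancel]
  have hbij : Function.Bijective (fun v => (⟨ι v, hιW v⟩ : W)) := by
    refine (Nat.bijective_iff_injective_and_card _).mpr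
      ⟨fun v w h => hinj (congrArg Subtype.val h), ?_⟩
    rw [hcard, Nat.card_fun, Nat.card_fin, Nat.card_zmod]
  have hrange : ∀ w ∈ W, ∃ v, ι v = w := fun w hw => by
    obtain ⟨v, hv⟩ := hbij.2 ⟨w, hw⟩
    exact ⟨v, congrArg Subtype.val hv⟩
  -- the matrix of an element
  have hex : ∀ g : X, ∃ A : Matrix (Fin 2) (Fin 2) (ZMod p), ∀ v,
      ι (A *ᵥ v) = (g : G) * ι v * (g : G)⁻¹ := by
    intro g
    choose Φ hΦ using fun v => hrange _ (conj_mem_of_le_normalizer hXW g.2 (hιW v))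
    let Φ' : (Fin 2 → ZMod p) →+ (Fin 2 → ZMod p) :=
      { toFun := Φ
        map_zero' := hinj (by rw [hΦ, hι0, mul_one, mul_inv_cancel])
        map_add' := fun v w => hinj (by rw [hι, hΦ, hΦ, hΦ, hι]; group) }
    refine ⟨LinearMap.toMatrix' (Φ'.toZModLinearMap p), fun v => ?_⟩
    rw [LinearMap.toMatrix'_mulVec]
    exact hΦ v
  choose m hm using hex
  have huniq : ∀ (g : X) (A : Matrix (Fin 2) (Fin 2) (ZMod p)),
      (∀ v, ι (A *ᵥ v) = (g : G) * ι v * (g : G)⁻¹) → m g = A := fun g A hA =>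
    Matrix.ext_of_mulVec_single fun i => hinj ((hm g _).trans (hA _).symm)
  have hm1 : m 1 = 1 := huniq 1 1 fun v => by simp
  have hmul : ∀ g h : X, m (g * h) = m g * m h := fun g h => huniq _ _ fun v => by
    rw [← Matrix.mulVec_mulVec, hm, hm, coe_mul]; group
  have hconj : ∀ (g : G) v, g * ι v * g⁻¹ =
      (g * e₁ * g⁻¹) ^ (v 0).val * (g * e₂ * g⁻¹) ^ (v 1).val := fun g v => by
    simp only [ι, conj_pow]; group
  have haX : a ∈ X := hX ▸ subset_closure (by simp)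
  have hbX : b ∈ X := hX ▸ subset_closure (by simp)
  have hma : m ⟨a, haX⟩ = !![1, 1; 0, 1] := huniq _ _ fun v => by
    rw [hconj, ha1, ha2, (ea_comm hW h1 h2).mul_pow]
    simp [ι, Matrix.mulVec, Matrix.vecHead, Matrix.vecTail, dotProduct, Fin.sum_univ_two,
      pow_val_add hp1, mul_assoc]
  have hmb : m ⟨b, hbX⟩ = !![1, 0; c, 1] := huniq _ _ fun v => by
    rw [hconj, hb1, hb2, (ea_comm hW h1 (pow_mem h2 _)).mul_pow]
    simp [ι, Matrix.mulVec, Matrix.vecHead, Matrix.vecTail, dotProduct, Fin.sum_univ_two,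
      pow_val_add hp2, pow_val_mul hp2, mul_assoc]
  have hdet : ∀ g : X, (m g).det = 1 := by
    rintro ⟨g, hg⟩
    have hg' : g ∈ closure ({a, b} : Set G) := hX ▸ hg
    induction hg' using closure_induction with
    | mem x hx =>
      rcases hx with rfl | rfl
      · rw [hma, Matrix.det_fin_two]; simp
      · rw [hmb, Matrix.det_fin_two]; simp
    | one => rw [show (⟨1, hg⟩ : X) = 1 from rfl, hm1, Matrix.det_one]
    | mul x y hx hy ihx ihy =>
      have hx' : x ∈ X := hX ▸ hx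
      have hy' : y ∈ X := hX ▸ hy
      rw [show (⟨x * y, hg⟩ : X) = ⟨x, hx'⟩ * ⟨y, hy'⟩ from rfl, hmul, Matrix.det_mul, ihx hx',
        ihy hy', one_mul]
    | inv x hx ihx =>
      have hx' : x ∈ X := hX ▸ hx
      have h := congrArg Matrix.det (hmul ⟨x⁻¹, hg⟩ ⟨x, hx'⟩)
      rw [show (⟨x⁻¹, hg⟩ : X) * ⟨x, hx'⟩ = 1 from Subtype.ext (inv_mul_cancel x), hm1,
        Matrix.det_one, Matrix.det_mul, ihx hx', mul_one] at h
      exact h.symm
  let ρ : X →* SL2 :=
    { toFun := fun g => ⟨m g, hdet g⟩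
      map_one' := Subtype.ext hm1
      map_mul' := fun g h => Subtype.ext (hmul g h) }
  have hρinj : Function.Injective ρ := (injective_iff_map_eq_one ρ).mpr fun g hg => by
    have hmg : m g = 1 := congrArg Subtype.val hg
    refine Subtype.ext (mem_bot.mp (hf ▸ mem_inf.mpr ⟨g.2, mem_centralizer_iff.mpr fun w hw => ?_⟩))
    obtain ⟨v, rfl⟩ := hrange w hw
    have := hm g v
    rw [hmg, Matrix.one_mulVec] at this
    conv_lhs => rw [this]
    group
  have hρsurj : Function.Surjective ρ := by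
    rw [← MonoidHom.range_eq_top, eq_top_iff, ← sl_zmod_closure, closure_le]
    have hl : lowerU c ∈ ρ.range := ⟨⟨b, hbX⟩, Subtype.ext hmb⟩
    rintro _ (rfl | rfl)
    · exact ⟨⟨a, haX⟩, Subtype.ext hma⟩
    · have := pow_mem hl c⁻¹.val
      rwa [lowerU_pow, ZMod.natCast_zmod_val, inv_mul_cancel₀ hc] at this
  refine ⟨⟨MulEquiv.ofBijective ρ ⟨hρinj, hρsurj⟩⟩, ?_⟩
  have htrans : ∀ w ∈ W, w ≠ 1 → ∃ g ∈ X, g * e₁ * g⁻¹ = w := by
    intro w hw hw1
    obtain ⟨v, rfl⟩ := hrange w hw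
    have hv : v 0 ≠ 0 ∨ v 1 ≠ 0 := by
      by_contra hcon
      push Not at hcon
      exact hw1 (by simp [ι, hcon.1, hcon.2])
    obtain ⟨A, hA⟩ : ∃ A : SL2, A.1 *ᵥ ![1, 0] = v := by
      rcases hv with h0 | h0
      · refine ⟨⟨!![v 0, 0; v 1, (v 0)⁻¹], by rw [Matrix.det_fin_two]; simp [h0]⟩, ?_⟩
        ext i; fin_cases i <;> simp [Matrix.mulVec, dotProduct, Fin.sum_univ_two]
      · refine ⟨⟨!![v 0, -(v 1)⁻¹; v 1, 0], by rw [Matrix.det_fin_two]; simp [h0]⟩, ?_⟩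
        ext i; fin_cases i <;> simp [Matrix.mulVec, dotProduct, Fin.sum_univ_two]
    haveI : Fact (1 < p) := ⟨hp.out.one_lt⟩
    obtain ⟨g, hg⟩ := hρsurj A
    refine ⟨g, g.2, ?_⟩
    have h := hm g ![1, 0]
    rw [show m g = A.1 from congrArg Subtype.val hg, hA] at h
    rw [h]
    simp [ι, ZMod.val_one]
  intro w hw w' hw' hne hne'
  obtain ⟨g, hg, rfl⟩ := htrans w hw hne
  obtain ⟨g', hg', rfl⟩ := htrans w' hw' hne'
  exact ⟨g' * g⁻¹, mul_mem hg' (inv_mem hg), by group⟩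

/-- A subgroup given by closure under products. -/
theorem exists_subgroup_of_mul_mem (s : Set G) (h1 : (1 : G) ∈ s)
    (hmul : ∀ x ∈ s, ∀ y ∈ s, x * y ∈ s) : ∃ R : Subgroup G, (R : Set G) = s := by
  have hpow : ∀ x ∈ s, ∀ n : ℕ, x ^ n ∈ s := fun x hx n => by
    induction n with
    | zero => simpa using h1
    | succ n ih => rw [pow_succ]; exact hmul _ ih _ hx
  refine ⟨{ carrier := s, one_mem' := h1, mul_mem' := fun {a b} ha hb => hmul a ha b hb,
            inv_mem' := fun {x} hx => ?_ }, rfl⟩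
  have : x⁻¹ = x ^ (orderOf x - 1) := by
    refine inv_eq_of_mul_eq_one_right ?_
    rw [← pow_succ', Nat.sub_add_cancel (orderOf_pos x), pow_orderOf_eq_one]
  exact this ▸ hpow x hx _

variable {V H : Subgroup G}

/-- The subgroup attached to a line. -/
def ext' (p : ℕ) (H L : Subgroup G) : Subgroup G := ⁅core p H, L⁆ ⊔ L

namespace Setup

variable (S : Setup p V H)
include S

theorem cj_V {x : G} (hx : x ∈ H) : cj x V = V :=
  mem_normalizer_iff_map_conj_eq.mp (S.norm hx)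

theorem comm_cj {x : G} (hx : x ∈ H) (L : Subgroup G) : ⁅V, cj x L⁆ = cj x ⁅V, L⁆ := by
  rw [cj, cj, Subgroup.map_commutator]
  exact congrArg (fun W => ⁅W, L.map (MulAut.conj x).toMonoidHom⁆) (S.cj_V hx).symm

theorem fx_cj {x : G} (hx : x ∈ H) (L : Subgroup G) : fx V (cj x L) = cj x (fx V L) := by
  ext g
  rw [fx, mem_inf, mem_cj, fx, mem_inf]
  refine and_congr ?_ ?_
  · conv_lhs => rw [← S.cj_V hx]
    exact mem_cj
  · simp only [mem_centralizer_iff]
    constructor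
    · intro h l hl
      have := h (x * l * x⁻¹) ⟨l, hl, rfl⟩
      calc l * (x⁻¹ * g * x) = x⁻¹ * (x * l * x⁻¹ * g) * x := by group
        _ = _ := by rw [this]; group
    · intro h y hy
      have := h _ (mem_cj.mp hy)
      calc y * g = x * (x⁻¹ * y * x * (x⁻¹ * g * x)) * x⁻¹ := by group
        _ = _ := by rw [this]; group

theorem line_cj {L : Subgroup G} (h : Line p V H L) {x : G} (hx : x ∈ H) :
    Line p V H (cj x L) := by
  refine ⟨?_, ?_, ?_⟩
  · intro g hg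
    have := mul_mem (mul_mem hx (h.1 (mem_cj.mp hg))) (inv_mem hx)
    simpa [mul_assoc] using this
  · rw [card_map_of_injective (f := (MulAut.conj x).toMonoidHom) (MulAut.conj x).injective]
    exact h.2.1
  · rw [S.fx_cj hx, card_map_of_injective (f := (MulAut.conj x).toMonoidHom) (MulAut.conj x).injective]
    exact h.2.2

theorem exists_gen {L : Subgroup G} (h : Line p V H L) :
    ∃ a ∈ L, a ≠ 1 ∧ L = zpowers a := by
  obtain ⟨⟨a, ha⟩, ha1⟩ := ne_bot_iff_exists_ne_one.mp (S.line_ne_bot h)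
  have ha1' : a ≠ 1 := fun e => ha1 (Subtype.ext e)
  exact ⟨a, ha, ha1', ((eq_bot_or_eq_of_prime h.2.1 (zpowers_le.mpr ha)).resolve_left
    fun e => ha1' (mem_bot.mp (e ▸ mem_zpowers a))).symm⟩

theorem card_comm {L : Subgroup G} (h : Line p V H L) :
    Nat.card ↥⁅V, L⁆ = p ∧ ⁅V, L⁆ ≤ fx V L := by
  obtain ⟨a, ha, ha1, -⟩ := S.exists_gen h
  exact ⟨(S.comm_line h ha ha1).1, (S.comm_line h ha ha1).2.1⟩

theorem line_ext {L M : Subgroup G} (hL : Line p V H L) (hM : Line p V H M)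
    (hu : ⁅V, L⁆ = ⁅V, M⁆) (hz : fx V L = fx V M) : L = M := by
  obtain ⟨a, ha, ha1, -⟩ := S.exists_gen hL
  obtain ⟨b, hb, hb1, -⟩ := S.exists_gen hM
  obtain ⟨hcu, -, hLc⟩ := S.comm_line hL ha ha1
  obtain ⟨-, -, hMc⟩ := S.comm_line hM hb hb1
  haveI := S.ea.1
  obtain ⟨v, hv, hvZ⟩ : ∃ v ∈ V, v ∉ fx V L := by
    by_contra hcon
    push Not at hcon
    have he : fx V L = V := le_antisymm inf_le_left hcon
    have := hL.2.2
    rw [he] at this
    exact hp.out.ne_one ((Nat.mul_eq_left Nat.card_pos.ne').mp this)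
  have hva := (hLc v hv).2 hvZ
  have hvb := (hMc v hv).2 (hz ▸ hvZ)
  have hub : zpowers ⁅v, b⁆ = ⁅V, M⁆ :=
    (eq_bot_or_eq_of_prime (hu ▸ hcu) (zpowers_le.mpr (hMc v hv).1)).resolve_left
      fun e => hvb (mem_bot.mp (e ▸ mem_zpowers _))
  have hm : ⁅v, a⁆ ∈ zpowers ⁅v, b⁆ := by rw [hub, ← hu]; exact (hLc v hv).1
  obtain ⟨i, hi⟩ := mem_zpowers_iff.mp hm
  have hbu : Commute ⁅v, b⁆ b :=
    (mem_centralizer_iff.mp (mem_inf.mp ((S.card_comm hM).2 (hMc v hv).1)).2 b hb).symm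
  have e : v * b ^ i * v⁻¹ = ⁅v, b⁆ ^ i * b ^ i := by
    rw [← hbu.mul_zpow, show ⁅v, b⁆ * b = v * b * v⁻¹ by simp [commutatorElement_def], conj_zpow]
  have hg : a⁻¹ * b ^ i = 1 := by
    refine S.eq_one (mul_mem (inv_mem (hL.1 ha)) (zpow_mem (hM.1 hb) i)) fun w hw => ?_
    have hfix : ∀ w ∈ fx V L, Commute w (a⁻¹ * b ^ i) := fun w hw =>
      ((show Commute w a from (mem_centralizer_iff.mp (mem_inf.mp hw).2 a ha).symm).inv_right).mul_right
        ((show Commute w b from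
          (mem_centralizer_iff.mp (mem_inf.mp (hz ▸ hw)).2 b hb).symm).zpow_right i)
    have hv' : Commute v (a⁻¹ * b ^ i) := by
      have h1 : v * a * v⁻¹ = ⁅v, a⁆ * a := by simp [commutatorElement_def]
      rw [← hi] at h1
      show v * (a⁻¹ * b ^ i) = a⁻¹ * b ^ i * v
      calc v * (a⁻¹ * b ^ i) = (v * a * v⁻¹)⁻¹ * (v * b ^ i * v⁻¹) * v := by group
        _ = a⁻¹ * b ^ i * v := by rw [h1, e]; group
    have hV : V ≤ centralizer ({a⁻¹ * b ^ i} : Set G) := by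
      have hsup : zpowers v ⊔ fx V L = V := by
        refine eq_of_le_of_card_le (sup_le (zpowers_le.mpr hv) inf_le_left) ?_
        rw [← hL.2.2]
        exact card_mul_le (S.V_pGroup.to_le (sup_le (zpowers_le.mpr hv) inf_le_left)) le_sup_right
          fun e => hvZ (e ▸ mem_sup_left (mem_zpowers v))
      rw [← hsup]
      exact sup_le (zpowers_le.mpr (mem_centralizer_singleton_iff.mpr hv'.eq))
        fun w hw => mem_centralizer_singleton_iff.mpr (hfix w hw).eq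
    exact mem_centralizer_singleton_iff.mp (hV hw)
  have hab : a = b ^ i := inv_mul_eq_one.mp hg
  refine ((eq_bot_or_eq_of_prime hM.2.1 (inf_le_right : L ⊓ M ≤ M)).resolve_left fun e => ha1 ?_) ▸ ?_
  · exact mem_bot.mp (e ▸ mem_inf.mpr ⟨ha, hab ▸ zpow_mem hb i⟩)
  · exact ((eq_bot_or_eq_of_prime hL.2.1 (inf_le_left : L ⊓ M ≤ L)).resolve_left fun e =>
      ha1 (mem_bot.mp (e ▸ mem_inf.mpr ⟨ha, hab ▸ zpow_mem hb i⟩))).symm

theorem pgroup_pair {L M : Subgroup G} (hL : Line p V H L) (hM : Line p V H M)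
    (hc : ⁅V, L⁆ ≤ centralizer (M : Set G)) : IsPGroup p ↥(L ⊔ M) := by
  haveI := S.ea.1
  set U := ⁅V, L⁆
  set W := ⁅V, L⁆ ⊔ ⁅V, M⁆
  have hUV : U ≤ V := (S.card_comm hL).2.trans inf_le_left
  have hWV : W ≤ V := sup_le hUV ((S.card_comm hM).2.trans inf_le_left)
  let s : Set G := {g | g ∈ normalizer (V : Set G) ∧ (∀ u ∈ U, g * u = u * g) ∧
    (∀ w ∈ W, g * w * g⁻¹ * w⁻¹ ∈ U) ∧ ∀ v ∈ V, g * v * g⁻¹ * v⁻¹ ∈ W}
  obtain ⟨R, hR⟩ := exists_subgroup_of_mul_mem s ⟨one_mem _, fun u _ => by simp,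
    fun w _ => by simp, fun v _ => by simp⟩ (by
    rintro g ⟨g0, g1, g2, g3⟩ k ⟨k0, k1, k2, k3⟩
    refine ⟨mul_mem g0 k0, fun u hu => by rw [mul_assoc, k1 u hu, ← mul_assoc, g1 u hu, mul_assoc],
      fun w hw => ?_, fun v hv => ?_⟩
    · have h1 := k2 w hw
      have e : g * k * w * (g * k)⁻¹ * w⁻¹ =
          g * (k * w * k⁻¹ * w⁻¹) * g⁻¹ * (g * w * g⁻¹ * w⁻¹) := by group
      rw [e, g1 _ h1, mul_inv_cancel_right]
      exact mul_mem h1 (g2 w hw)
    · have h1 := k3 v hv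
      have h2 := mul_mem (mem_sup_left (T := ⁅V, M⁆) (g2 _ h1)) h1
      rw [inv_mul_cancel_right] at h2
      have e : g * k * v * (g * k)⁻¹ * v⁻¹ =
          g * (k * v * k⁻¹ * v⁻¹) * g⁻¹ * (g * v * g⁻¹ * v⁻¹) := by group
      rw [e]
      exact mul_mem h2 (g3 v hv))
  have hflip : ∀ (N : Subgroup G), ∀ x ∈ N, ∀ v ∈ V, x * v * x⁻¹ * v⁻¹ ∈ ⁅V, N⁆ :=
    fun N x hx v hv => by
      rw [commutator_comm, ← commutatorElement_def]; exact commutator_mem_commutator hx hv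
  have hLR : L ≤ R := fun x hx => by
    show x ∈ (R : Set G)
    rw [hR]
    exact ⟨S.norm (hL.1 hx), fun u hu => mem_centralizer_iff.mp (mem_inf.mp ((S.card_comm hL).2 hu)).2 x hx,
      fun w hw => hflip L x hx w (hWV hw), fun v hv => mem_sup_left (hflip L x hx v hv)⟩
  have hMR : M ≤ R := fun x hx => by
    show x ∈ (R : Set G)
    rw [hR]
    refine ⟨S.norm (hM.1 hx), fun u hu => mem_centralizer_iff.mp (hc hu) x hx, fun w hw => ?_,
      fun v hv => mem_sup_right (hflip M x hx v hv)⟩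
    have hle : W ≤ fx V M := sup_le (le_inf hUV hc) (S.card_comm hM).2
    rw [mem_centralizer_iff.mp (mem_inf.mp (hle hw)).2 x hx, mul_inv_cancel_right, mul_inv_cancel]
    exact one_mem _
  intro g
  refine ⟨2, Subtype.ext ?_⟩
  show (g : G) ^ p ^ 2 = 1
  obtain ⟨-, g1, g2, g3⟩ : (g : G) ∈ s := by
    rw [← hR]; exact sup_le hLR hMR g.2
  have key : ∀ (x y z : G), x * y * x⁻¹ = z * y → x * z = z * x → ∀ k : ℕ,
      x ^ k * y * (x ^ k)⁻¹ = z ^ k * y := by
    intro x y z hxy hxz k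
    induction k with
    | zero => simp
    | succ k ih =>
      calc x ^ (k + 1) * y * (x ^ (k + 1))⁻¹ = x ^ k * (x * y * x⁻¹) * (x ^ k)⁻¹ := by
            rw [pow_succ]; group
        _ = (x ^ k * z * (x ^ k)⁻¹) * (x ^ k * y * (x ^ k)⁻¹) := by rw [hxy]; group
        _ = _ := by
            rw [((show Commute x z from hxz).pow_left k).eq, mul_inv_cancel_right, ih, ← mul_assoc,
              ← pow_succ']
  have hgW : ∀ w ∈ W, (g : G) ^ p * w = w * (g : G) ^ p := by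
    intro w hw
    have h := key g w _ (by group) (g1 _ (g2 w hw)) p
    rw [S.ea.2 _ (hUV (g2 w hw)), one_mul, mul_inv_eq_iff_eq_mul] at h
    exact h
  have hgp : (g : G) ^ p ∈ s := by
    rw [← hR]; exact pow_mem (sup_le hLR hMR g.2) p
  refine S.eq_one (pow_mem (sup_le hL.1 hM.1 g.2) _) fun v hv => ?_
  have h := key ((g : G) ^ p) v _ (by group) (hgW _ (hgp.2.2.2 v hv)) p
  rw [S.ea.2 _ (hWV (hgp.2.2.2 v hv)), one_mul, ← pow_mul, ← sq, mul_inv_eq_iff_eq_mul] at h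
  exact h.symm

theorem pair_comm {L : Subgroup G} (hL : Line p V H L) {x : G} (hx : x ∈ core p H)
    (hc : ⁅V, L⁆ ≤ centralizer (cj x L : Set G)) : cj x L = L := by
  have hP := S.pgroup_pair hL (S.line_cj hL (core_le hx)) hc
  have hle : L ⊔ cj x L ≤ L ⊔ core p H := sup_le le_sup_left fun g hg => by
    have h1 : x ∈ L ⊔ core p H := mem_sup_right hx
    have := mul_mem (mul_mem h1 (mem_sup_left (mem_cj.mp hg))) (inv_mem h1)
    simpa [mul_assoc] using this
  obtain ⟨n, hn⟩ := IsPGroup.iff_card.mp hP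
  have hd := card_dvd_of_le hle
  have hLK : L ⊓ core p H = ⊥ :=
    CfsgLib.Core.inf_eq_bot_of_coprime (by rw [hL.2.1]; exact core_coprime.symm)
  rw [card_sup_of_disjoint (hL.1.trans core_normal) hLK, hn, hL.2.1] at hd
  have hdp : p ^ n ∣ p := (core_coprime.symm.pow_left n).dvd_of_dvd_mul_right hd
  have hcard : Nat.card ↥(L ⊔ cj x L) ≤ p := hn ▸ Nat.le_of_dvd hp.out.pos hdp
  have h1 : L = L ⊔ cj x L := eq_of_le_of_card_le le_sup_left (by rw [hL.2.1]; exact hcard)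
  have h2 : cj x L = L ⊔ cj x L :=
    eq_of_le_of_card_le le_sup_right (by rw [(S.line_cj hL (core_le hx)).2.1]; exact hcard)
  exact h2.trans h1.symm

theorem comm_of_cj_eq {L : Subgroup G} (hL : Line p V H L) {x : G} (hx : x ∈ core p H)
    (he : cj x L = L) : x ∈ centralizer (L : Set G) := by
  refine mem_centralizer_iff.mpr fun l hl => ?_
  have hxl : x * l * x⁻¹ ∈ L := he ▸ mem_map_of_mem (MulAut.conj x).toMonoidHom hl
  have hmem : x * l * x⁻¹ * l⁻¹ ∈ L ⊓ core p H := by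
    refine mem_inf.mpr ⟨mul_mem hxl (inv_mem hl), ?_⟩
    have := mul_mem hx (conj_mem_of_le_normalizer core_normal (hL.1 hl) (inv_mem hx))
    simpa [mul_assoc] using this
  have hLK : L ⊓ core p H = ⊥ :=
    CfsgLib.Core.inf_eq_bot_of_coprime (by rw [hL.2.1]; exact core_coprime.symm)
  rw [hLK, mem_bot, mul_inv_eq_one, mul_inv_eq_iff_eq_mul] at hmem
  exact hmem.symm

theorem pair {L : Subgroup G} (hL : Line p V H L) {x : G} (hx : x ∈ core p H)
    (hxL : x ∉ centralizer (L : Set G)) :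
    Nat.card ↥⁅V, L ⊔ cj x L⁆ = p ^ 2 ∧
      ⁅V, L ⊔ cj x L⁆ ⊓ fx V (L ⊔ cj x L) = ⊥ ∧
      ⁅V, L ⊔ cj x L⁆ ⊔ fx V (L ⊔ cj x L) = V ∧
      (L ⊔ cj x L) ⊓ centralizer ((⁅V, L ⊔ cj x L⁆ : Subgroup G) : Set G) = ⊥ ∧
      Nonempty (↥(L ⊔ cj x L) ≃* SL2) ∧
      ∀ w ∈ ⁅V, L ⊔ cj x L⁆, ∀ w' ∈ ⁅V, L ⊔ cj x L⁆, w ≠ 1 → w' ≠ 1 →
        ∃ g ∈ L ⊔ cj x L, g * w * g⁻¹ = w' := by
  haveI := S.ea.1
  set M := cj x L with hMdef
  set X := L ⊔ M with hXdef
  have hM : Line p V H M := S.line_cj hL (core_le hx)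
  have hne : M ≠ L := fun e => hxL (S.comm_of_cj_eq hL hx e)
  have hnLM : ¬ ⁅V, L⁆ ≤ centralizer (M : Set G) := fun h => hne (S.pair_comm hL hx h)
  have hnML : ¬ ⁅V, M⁆ ≤ centralizer (L : Set G) := fun h => by
    have h1 := S.pair_comm hM (inv_mem hx) (by rw [hMdef, cj_inv_cj]; exact hMdef ▸ h)
    rw [hMdef, cj_inv_cj] at h1
    exact hne h1.symm
  obtain ⟨hcL, hLfx⟩ := S.card_comm hL
  obtain ⟨hcM, hMfx⟩ := S.card_comm hM
  set uL := ⁅V, L⁆ with huL
  set uM := ⁅V, M⁆ with huM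
  have hLV : uL ≤ V := hLfx.trans inf_le_left
  have hMV : uM ≤ V := hMfx.trans inf_le_left
  have hdL : uL ⊓ fx V M = ⊥ :=
    inf_eq_bot_of_prime hcL fun h => hnLM (h.trans inf_le_right)
  have hdM : uM ⊓ fx V L = ⊥ :=
    inf_eq_bot_of_prime hcM fun h => hnML (h.trans inf_le_right)
  have hcomm : ∀ {A B : Subgroup G}, A ≤ V → B ≤ V → A ≤ normalizer (B : Set G) := fun hA hB =>
    le_normalizer_iff_forall.mpr fun a ha b hb => by
      rw [(ea_comm S.ea (hA ha) (hB hb)).eq, mul_inv_cancel_right]; exact hb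
  set W := uL ⊔ uM with hW
  have hWV : W ≤ V := sup_le hLV hMV
  have hcW : Nat.card W = p ^ 2 := by
    rw [hW, card_sup_of_disjoint (hcomm hLV hMV) (eq_bot_iff.mpr ((inf_le_inf_left _ hMfx).trans
      hdL.le)), hcL, hcM, sq]
  set C := fx V X with hC
  have hCeq : C = fx V L ⊓ fx V M := by
    refine le_antisymm (le_inf (fx_anti V le_sup_left) (fx_anti V le_sup_right)) fun c hc => ?_
    refine mem_inf.mpr ⟨(mem_inf.mp (mem_inf.mp hc).1).1, mem_centralizer_iff.mpr fun g hg => ?_⟩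
    have hle : X ≤ centralizer ({c} : Set G) := sup_le
      (fun l hl => mem_centralizer_singleton_iff.mpr
        (mem_centralizer_iff.mp (mem_inf.mp (mem_inf.mp hc).1).2 l hl))
      (fun l hl => mem_centralizer_singleton_iff.mpr
        (mem_centralizer_iff.mp (mem_inf.mp (mem_inf.mp hc).2).2 l hl))
    exact mem_centralizer_singleton_iff.mp (hle hg)
  have hWC : W ⊓ C = ⊥ := by
    rw [eq_bot_iff]
    intro w hw
    obtain ⟨u, hu, v, hv, rfl⟩ := (mem_sup_iff_of_le_normalizer (hcomm hLV hMV)).mp (mem_inf.mp hw).1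
    have hw2 := (mem_inf.mp hw).2
    rw [hCeq] at hw2
    have hv1 : v = 1 := mem_bot.mp (hdM ▸ mem_inf.mpr ⟨hv, by
      have := mul_mem (inv_mem (hLfx hu)) (mem_inf.mp hw2).1
      rwa [inv_mul_cancel_left] at this⟩)
    subst hv1
    rw [mul_one] at hw2 ⊢
    exact mem_bot.mpr (mem_bot.mp (hdL ▸ mem_inf.mpr ⟨hu, (mem_inf.mp hw2).2⟩))
  have hWCV : W ⊔ C = V := by
    refine eq_of_le_of_card_le (sup_le hWV inf_le_left) ?_
    rw [card_sup_of_disjoint (hcomm hWV (show C ≤ V from inf_le_left)) hWC, hcW, hCeq]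
    have h1 := card_sup_mul_card_inf (hcomm (show fx V L ≤ V from inf_le_left)
      (show fx V M ≤ V from inf_le_left))
    refine Nat.le_of_mul_le_mul_left ?_ (Nat.card_pos (α := V))
    calc Nat.card V * Nat.card V = (Nat.card (fx V L) * p) * (Nat.card (fx V M) * p) := by
          rw [hL.2.2, hM.2.2]
      _ = p ^ 2 * (Nat.card ↥(fx V L ⊔ fx V M) * Nat.card ↥(fx V L ⊓ fx V M)) := by rw [h1]; ring
      _ ≤ p ^ 2 * (Nat.card V * Nat.card ↥(fx V L ⊓ fx V M)) := Nat.mul_le_mul_left _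
          (Nat.mul_le_mul_right _ (card_le_of_le (sup_le inf_le_left inf_le_left)))
      _ = _ := by ring
  have hXH : X ≤ H := sup_le hL.1 hM.1
  have hXW : X ≤ normalizer (W : Set G) := by
    refine sup_le (le_normalizer_iff_forall.mpr fun l hl w hw => ?_)
      (le_normalizer_iff_forall.mpr fun l hl w hw => ?_)
    · have := mul_mem (mem_sup_left (T := uM) (show l * w * l⁻¹ * w⁻¹ ∈ uL by
        rw [huL, commutator_comm, ← commutatorElement_def]
        exact commutator_mem_commutator hl (hWV hw))) hw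
      rwa [inv_mul_cancel_right] at this
    · have := mul_mem (mem_sup_right (S := uL) (show l * w * l⁻¹ * w⁻¹ ∈ uM by
        rw [huM, commutator_comm, ← commutatorElement_def]
        exact commutator_mem_commutator hl (hWV hw))) hw
      rwa [inv_mul_cancel_right] at this
  have hVX : ⁅V, X⁆ = W := by
    refine le_antisymm (Subgroup.commutator_le.mpr fun v hv g hg => ?_)
      (sup_le (commutator_mono le_rfl le_sup_left) (commutator_mono le_rfl le_sup_right))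
    obtain ⟨w, hw, c, hc, rfl⟩ :=
      (mem_sup_iff_of_le_normalizer (hcomm hWV (inf_le_left : C ≤ V))).mp (hWCV.symm ▸ hv)
    have hcg : g * c = c * g := mem_centralizer_iff.mp (mem_inf.mp hc).2 g hg
    have h1 := mul_mem hw (conj_mem_of_le_normalizer hXW hg (inv_mem hw))
    rw [commutatorElement_def]
    convert h1 using 1
    calc w * c * g * (w * c)⁻¹ * g⁻¹ = w * (c * g) * c⁻¹ * w⁻¹ * g⁻¹ := by group
      _ = w * (g * w⁻¹ * g⁻¹) := by rw [← hcg]; group
  have hfaith : X ⊓ centralizer (W : Set G) = ⊥ := by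
    rw [eq_bot_iff]
    intro g hg
    refine mem_bot.mpr (S.eq_one (hXH (mem_inf.mp hg).1) fun v hv => ?_)
    have hle : V ≤ centralizer ({g} : Set G) := hWCV ▸ sup_le
      (fun w hw => mem_centralizer_singleton_iff.mpr (mem_centralizer_iff.mp (mem_inf.mp hg).2 w hw))
      (fun c hc => mem_centralizer_singleton_iff.mpr
        (mem_centralizer_iff.mp (mem_inf.mp hc).2 g (mem_inf.mp hg).1).symm)
    exact mem_centralizer_singleton_iff.mp (hle hv)
  rw [hVX]
  refine ⟨hcW, hWC, hWCV, hfaith, ?_⟩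
  -- coordinates
  obtain ⟨a, ha, ha1, hLa⟩ := S.exists_gen hL
  obtain ⟨b, hb, hb1, hMb⟩ := S.exists_gen hM
  obtain ⟨⟨e₂, he₂⟩, he₂1⟩ := ne_bot_iff_exists_ne_one.mp fun (e : uM = ⊥) => by
    rw [e, card_bot] at hcM; exact hp.out.ne_one hcM.symm
  have he₂1' : e₂ ≠ 1 := fun e => he₂1 (Subtype.ext e)
  set e₁ := a * e₂ * a⁻¹ * e₂⁻¹ with he₁def
  have he₁ : e₁ ∈ uL := by
    rw [huL, commutator_comm, he₁def, ← commutatorElement_def]
    exact commutator_mem_commutator ha (hMV he₂)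
  have he₁1 : e₁ ≠ 1 := fun e => by
    have hnot : e₂ ∉ fx V L := fun h => he₂1' (mem_bot.mp (hdM ▸ mem_inf.mpr ⟨he₂, h⟩))
    refine ((S.comm_line hL ha ha1).2.2 e₂ (hMV he₂)).2 hnot ?_
    rw [← commutatorElement_inv, commutatorElement_def, ← he₁def, e, inv_one]
  have hu1 : zpowers e₁ = uL := (eq_bot_or_eq_of_prime hcL (zpowers_le.mpr he₁)).resolve_left
    fun e => he₁1 (mem_bot.mp (e ▸ mem_zpowers _))
  have hu2 : zpowers e₂ = uM := (eq_bot_or_eq_of_prime hcM (zpowers_le.mpr he₂)).resolve_left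
    fun e => he₂1' (mem_bot.mp (e ▸ mem_zpowers _))
  have hz : b * e₁ * b⁻¹ * e₁⁻¹ ∈ zpowers e₂ := by
    rw [hu2, huM, commutator_comm, ← commutatorElement_def]
    exact commutator_mem_commutator hb (hLV he₁)
  rw [← mem_powers_iff_mem_zpowers] at hz
  obtain ⟨n, hn⟩ := hz
  have hpow : e₂ ^ ((n : ZMod p)).val = b * e₁ * b⁻¹ * e₁⁻¹ := by
    rw [ZMod.val_natCast, ← pow_eq_pow_mod _ (S.ea.2 _ (hMV he₂))]; exact hn
  refine plane_iso W (isEA_of_le S.ea hWV) hcW e₁ e₂ a b (mem_sup_left he₁) (mem_sup_right he₂)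
    he₁1 he₂1' ?_ X ?_ hXW hfaith ?_ (by rw [he₁def]; group) (n : ZMod p) (fun h0 => ?_) ?_ ?_
  · rw [hu1, hu2, eq_bot_iff]
    exact (inf_le_inf_left _ hMfx).trans hdL.le
  · rw [hXdef, hLa, hMb, zpowers_eq_closure, zpowers_eq_closure, ← Subgroup.closure_union,
      Set.singleton_union]
  · rw [mem_centralizer_iff.mp (mem_inf.mp (hLfx he₁)).2 a ha, mul_inv_cancel_right]
  · refine he₁1 (mem_bot.mp (hdL ▸ mem_inf.mpr ⟨he₁, mem_inf.mpr ⟨hLV he₁, ?_⟩⟩))
    rw [h0, ZMod.val_zero, pow_zero] at hpow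
    refine mem_centralizer_iff.mpr fun y hy => ?_
    rw [hMb] at hy
    obtain ⟨i, rfl⟩ := mem_zpowers_iff.mp hy
    exact ((show Commute b e₁ from mul_inv_eq_iff_eq_mul.mp (mul_inv_eq_one.mp hpow.symm)).zpow_left i).eq
  · rw [mem_centralizer_iff.mp (mem_inf.mp (hMfx he₂)).2 b hb, mul_inv_cancel_right]
  · rw [(ea_comm S.ea (hLV he₁) (pow_mem (hMV he₂) _)).eq, hpow, inv_mul_cancel_right]

theorem cj_le_pair {L : Subgroup G} (hL : Line p V H L) {x : G} (hx : x ∈ core p H)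
    (hxL : x ∉ centralizer (L : Set G)) {k : G} (hk : k ∈ core p H) :
    cj k L ≤ L ⊔ cj x L := by
  obtain ⟨hcW, hWC, hWV, -, -, htr⟩ := S.pair hL hx hxL
  set X := L ⊔ cj x L with hX
  set N := cj k L with hN
  have hNl : Line p V H N := S.line_cj hL (core_le hk)
  obtain ⟨hcL, hLfx⟩ := S.card_comm hL
  haveI := S.ea.1
  have hWle : ⁅V, X⁆ ≤ V := le_sup_left.trans hWV.le
  -- a vector of the plane fixed by `N`
  obtain ⟨w, hw, hwN, hw1⟩ : ∃ w ∈ ⁅V, X⁆, w ∈ fx V N ∧ w ≠ 1 := by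
    by_contra hcon
    push Not at hcon
    have hd : ⁅V, X⁆ ⊓ fx V N = ⊥ := eq_bot_iff.mpr fun w hw =>
      mem_bot.mpr (hcon w (mem_inf.mp hw).1 (mem_inf.mp hw).2)
    have hn : ⁅V, X⁆ ≤ normalizer ((fx V N : Subgroup G) : Set G) :=
      le_normalizer_iff_forall.mpr fun a ha b hb => by
        rw [(ea_comm S.ea (hWle ha) (mem_inf.mp hb).1).eq, mul_inv_cancel_right]; exact hb
    have h1 := card_le_of_le (sup_le hWle (inf_le_left : fx V N ≤ V) : ⁅V, X⁆ ⊔ fx V N ≤ V)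
    rw [card_sup_of_disjoint hn hd, hcW, ← hNl.2.2, mul_comm] at h1
    have h2 := Nat.le_of_mul_le_mul_left h1 Nat.card_pos
    have := hp.out.one_lt
    nlinarith
  obtain ⟨⟨u, hu⟩, hu1⟩ := ne_bot_iff_exists_ne_one.mp fun (e : ⁅V, L⁆ = ⊥) =>
    S.comm_ne_bot hL.1 (S.line_ne_bot hL) e
  have hu1' : u ≠ 1 := fun e => hu1 (Subtype.ext e)
  obtain ⟨g, hg, hgw⟩ := htr u (commutator_mono le_rfl le_sup_left hu) w hw hu1' hw1
  have hgH : g ∈ H := sup_le hL.1 (S.line_cj hL (core_le hx)).1 hg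
  have hgK : g ∈ core p H ⊔ L := by
    refine sup_le (le_sup_right (a := core p H)) (fun y hy => ?_) hg
    have h1 : x ∈ core p H ⊔ L := mem_sup_left hx
    have := mul_mem (mul_mem h1 (mem_sup_right (mem_cj.mp hy))) (inv_mem h1)
    simpa [mul_assoc] using this
  obtain ⟨k', hk', l, hl, rfl⟩ := (mem_sup_iff_of_le_normalizer' (hL.1.trans core_normal)).mp
    (sup_comm (core p H) L ▸ hgK)
  have hY : cj (k' * l) L = cj k' L := by
    rw [← cj_cj, show cj l L = L from mem_normalizer_iff_map_conj_eq.mp (le_normalizer hl)]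
  have hYl : Line p V H (cj k' L) := S.line_cj hL (core_le hk')
  have huY : ⁅V, cj k' L⁆ = zpowers w := by
    refine ((eq_bot_or_eq_of_prime (S.card_comm hYl).1 (zpowers_le.mpr ?_)).resolve_left
      fun e => hw1 (mem_bot.mp (e ▸ mem_zpowers w))).symm
    rw [← hY, S.comm_cj hgH]
    exact ⟨u, hu, by simpa [mul_assoc] using hgw⟩
  have hNY : cj (k * k'⁻¹) (cj k' L) = N := by rw [cj_cj, inv_mul_cancel_right]
  have h := S.pair_comm hYl (mul_mem hk (inv_mem hk')) (by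
    rw [hNY, huY]
    exact zpowers_le.mpr (mem_inf.mp hwN).2)
  rw [hNY] at h
  rw [h, ← hY]
  intro y hy
  have := mul_mem (mul_mem hg (mem_sup_left (mem_cj.mp hy))) (inv_mem hg)
  simpa [mul_assoc] using this

theorem exists_noncomm {L : Subgroup G} (hL : Line p V H L) :
    ∃ x ∈ core p H, x ∉ centralizer (L : Set G) := by
  by_contra hcon
  push Not at hcon
  refine S.line_ne_bot hL (eq_bot_iff.mpr ?_)
  rw [← S.inf_cent_core hL.1 (isPGroup_of_pow (S.line_ea hL).2)]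
  exact le_inf le_rfl (Subgroup.le_centralizer_iff.mp hcon)

theorem ext_eq {L : Subgroup G} (hL : Line p V H L) {x : G} (hx : x ∈ core p H)
    (hxL : x ∉ centralizer (L : Set G)) : ext' p H L = L ⊔ cj x L := by
  refine le_antisymm (sup_le (Subgroup.commutator_le.mpr fun k hk l hl => ?_) le_sup_left)
    (sup_le le_sup_right fun y hy => ?_)
  · rw [commutatorElement_def]
    exact mul_mem (S.cj_le_pair hL hx hxL hk (mem_cj.mpr (by simpa [mul_assoc] using hl)))
      (inv_mem (mem_sup_left hl))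
  · have hl := mem_cj.mp hy
    have := mul_mem (mem_sup_left (T := L) (commutator_mem_commutator hx hl)) (mem_sup_right hl)
    rw [commutatorElement_def] at this
    simpa [ext', mul_assoc] using this

theorem cj_le_ext {L : Subgroup G} (hL : Line p V H L) {k : G} (hk : k ∈ core p H) :
    cj k L ≤ ext' p H L := by
  obtain ⟨x, hx, hxL⟩ := S.exists_noncomm hL
  exact (S.ext_eq hL hx hxL).ge.trans' (S.cj_le_pair hL hx hxL hk)

theorem ext_le {L : Subgroup G} (hL : Line p V H L) : ext' p H L ≤ H :=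
  sup_le (Subgroup.commutator_le.mpr fun k hk l hl => by
    rw [commutatorElement_def]
    exact mul_mem (mul_mem (mul_mem (core_le hk) (hL.1 hl)) (inv_mem (core_le hk)))
      (inv_mem (hL.1 hl))) hL.1

theorem core_normalizes_ext {L : Subgroup G} (hL : Line p V H L) :
    core p H ≤ normalizer (ext' p H L : Set G) := by
  obtain ⟨x, hx, hxL⟩ := S.exists_noncomm hL
  refine le_normalizer_iff_forall.mpr fun k hk y hy => ?_
  have hle : cj k (ext' p H L) ≤ ext' p H L := by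
    rw [S.ext_eq hL hx hxL, cj, Subgroup.map_sup, ← S.ext_eq hL hx hxL]
    refine sup_le (S.cj_le_ext hL hk) ?_
    exact (cj_cj k x L).le.trans (S.cj_le_ext hL (mul_mem hk hx))
  exact hle (mem_cj.mpr (by simpa [mul_assoc] using hy))

theorem comm_coprime {L : Subgroup G} (hL : Line p V H L) :
    ⁅core p H, L⁆ ≤ core p H ∧ Nat.card (ext' p H L) = Nat.card ↥⁅core p H, L⁆ * p := by
  have hK : ⁅core p H, L⁆ ≤ core p H := commutator_le_of_le_normalizer (hL.1.trans core_normal)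
  refine ⟨hK, ?_⟩
  have hd : L ⊓ ⁅core p H, L⁆ = ⊥ := CfsgLib.Core.inf_eq_bot_of_coprime (by
    rw [hL.2.1]; exact (core_coprime.coprime_dvd_left (card_dvd_of_le hK)).symm)
  rw [ext', sup_comm, card_sup_of_disjoint (le_normalizer_commutator_right _ _) hd, hL.2.1, mul_comm]

theorem prime_eq {L : Subgroup G} (hL : Line p V H L) : p = 2 ∨ p = 3 := by
  by_contra hcon
  push Not at hcon
  obtain ⟨x, hx, hxL⟩ := S.exists_noncomm hL
  obtain ⟨-, -, -, -, ⟨e⟩, -⟩ := S.pair hL hx hxL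
  rw [← S.ext_eq hL hx hxL] at e
  set X := ext' p H L with hX
  have hperf : commutator X = ⊤ := by
    have h := congrArg (Subgroup.map e.symm.toMonoidHom)
      (CfsgLib.QuadPair.commutator_sl_zmod (p := p) hcon.1 hcon.2)
    rw [commutator_def, Subgroup.map_commutator,
      Subgroup.map_top_of_surjective _ e.symm.surjective] at h
    exact h
  have hXX : X = ⁅X, X⁆ := by
    have := congrArg (Subgroup.map X.subtype) hperf
    rwa [Subgroup.map_subtype_commutator, ← MonoidHom.range_eq_map, Subgroup.range_subtype,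
      eq_comm] at this
  have hLK : L ≤ core p H := by
    refine (le_sup_right : L ≤ X).trans (hXX.le.trans (Subgroup.commutator_le.mpr fun g hg h hh => ?_))
    have hsup : X ≤ L ⊔ core p H := sup_le ((S.comm_coprime hL).1.trans le_sup_right) le_sup_left
    obtain ⟨k₁, hk₁, l₁, hl₁, rfl⟩ :=
      (mem_sup_iff_of_le_normalizer' (hL.1.trans core_normal)).mp (hsup hg)
    obtain ⟨k₂, hk₂, l₂, hl₂, rfl⟩ :=
      (mem_sup_iff_of_le_normalizer' (hL.1.trans core_normal)).mp (hsup hh)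
    have hl : l₁ * l₂ * l₁⁻¹ * l₂⁻¹ = 1 := by
      rw [← commutatorElement_def, commutatorElement_eq_one_iff_mul_comm]
      exact (ea_comm (S.line_ea hL) hl₁ hl₂).eq
    rw [commutatorElement_def, show k₁ * l₁ * (k₂ * l₂) * (k₁ * l₁)⁻¹ * (k₂ * l₂)⁻¹ =
      k₁ * (l₁ * k₂ * l₁⁻¹) * (l₁ * l₂ * l₁⁻¹ * l₂⁻¹) * (l₂ * k₁⁻¹ * l₂⁻¹) * k₂⁻¹ by group,
      hl, mul_one]
    exact mul_mem (mul_mem (mul_mem hk₁ (conj_mem_of_le_normalizer core_normal (hL.1 hl₁) hk₂))
      (conj_mem_of_le_normalizer core_normal (hL.1 hl₂) (inv_mem hk₁))) (inv_mem hk₂)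
  exact S.line_ne_bot hL (le_bot_iff.mp ((le_inf le_rfl hLK).trans
    (CfsgLib.Core.inf_eq_bot_of_coprime (by rw [hL.2.1]; exact core_coprime.symm)).le))

end Setup

end CfsgLib.LocalFF
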