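import Cfsg.Agent.Lib.LocalFFPair

/-!
# The structure theorem for failure of factorization
-/

set_option autoImplicit false

universe u

namespace CfsgLib.LocalFF

open Subgroup CfsgLib.LocalThompson CfsgLib.Core
open scoped commutatorElement IsMulCommutative

set_option linter.unusedSectionVars false

variable {G : Type u} [Group G] [Finite G] {p : ℕ} [hp : Fact p.Prime]

theorem commutator_fixes {e f : G} {U : Subgroup G} (he : e ∈ normalizer (U : Set G))
    (hf : ∀ u ∈ U, f * u = u * f) : ∀ u ∈ U, ⁅e, f⁆ * u = u * ⁅e, f⁆ := by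
  intro u hu
  have h1 : f⁻¹ * u * f = u := by rw [mul_assoc, ← hf u hu, inv_mul_cancel_left]
  have hu' : e⁻¹ * u * e ∈ U := by
    have := (Subgroup.mem_normalizer_iff.mp (inv_mem he) u).mp hu
    rwa [inv_inv] at this
  rw [commutatorElement_def]
  calc e * f * e⁻¹ * f⁻¹ * u = e * f * (e⁻¹ * (f⁻¹ * u * f) * e) * f⁻¹ * f * e⁻¹ * f⁻¹ := by group
    _ = e * (e⁻¹ * u * e * f) * f⁻¹ * f * e⁻¹ * f⁻¹ := by rw [h1, mul_assoc e f, hf _ hu']
    _ = u * (e * f * e⁻¹ * f⁻¹) := by group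

variable {V H : Subgroup G}

namespace Setup

variable (S : Setup p V H)
include S

theorem line_struct {L : Subgroup G} (hL : Line p V H L) :
    Nat.card ↥⁅V, ext' p H L⁆ = p ^ 2 ∧
      ⁅V, ext' p H L⁆ ⊓ fx V (ext' p H L) = ⊥ ∧
      ⁅V, ext' p H L⁆ ⊔ fx V (ext' p H L) = V ∧
      ext' p H L ⊓ centralizer ((⁅V, ext' p H L⁆ : Subgroup G) : Set G) = ⊥ ∧
      Nonempty (↥(ext' p H L) ≃* Matrix.SpecialLinearGroup (Fin 2) (ZMod p)) ∧
      ∀ w ∈ ⁅V, ext' p H L⁆, ∀ w' ∈ ⁅V, ext' p H L⁆, w ≠ 1 → w' ≠ 1 →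
        ∃ g ∈ ext' p H L, g * w * g⁻¹ = w' := by
  obtain ⟨x, hx, hxL⟩ := S.exists_noncomm hL
  rw [S.ext_eq hL hx hxL]
  exact S.pair hL hx hxL

theorem core_ext_le {L M : Subgroup G} (hL : Line p V H L) (hM : M ≤ ext' p H L) :
    ext' p H M ≤ ext' p H L :=
  sup_le (Subgroup.commutator_le.mpr fun k hk m hm => by
    rw [commutatorElement_def]
    exact mul_mem (conj_mem_of_le_normalizer (S.core_normalizes_ext hL) hk (hM hm))
      (inv_mem (hM hm))) hM

theorem ext_cj {L : Subgroup G} (hL : Line p V H L) {k : G} (hk : k ∈ core p H) :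
    ext' p H (cj k L) = ext' p H L := by
  have hM := S.line_cj hL (core_le hk)
  refine le_antisymm (S.core_ext_le hL (S.cj_le_ext hL hk)) (S.core_ext_le hM ?_)
  have := S.cj_le_ext hM (inv_mem hk)
  rwa [cj_inv_cj] at this

theorem core_plane {L : Subgroup G} (hL : Line p V H L) :
    core p H ≤ normalizer ((⁅V, ext' p H L⁆ : Subgroup G) : Set G) ∧
      core p H ≤ normalizer ((fx V (ext' p H L) : Subgroup G) : Set G) := by
  constructor
  · refine le_normalizer_iff_forall.mpr fun k hk w hw => ?_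
    have h1 := mem_map_of_mem (MulAut.conj k).toMonoidHom hw
    rw [Subgroup.map_commutator] at h1
    exact commutator_mono (S.cj_V (core_le hk)).le
      (mem_normalizer_iff_map_conj_eq.mp (S.core_normalizes_ext hL hk)).le h1
  · refine le_normalizer_iff_forall.mpr fun k hk c hc => ?_
    have h1 : k * c * k⁻¹ ∈ cj k (fx V (ext' p H L)) := mem_cj.mpr (by simpa [mul_assoc] using hc)
    rw [← S.fx_cj (core_le hk), show cj k (ext' p H L) = ext' p H L from
      mem_normalizer_iff_map_conj_eq.mp (S.core_normalizes_ext hL hk)] at h1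
    exact h1

theorem centre_line {L : Subgroup G} (hL : Line p V H L) {w : G} (hw : w ∈ ⁅V, ext' p H L⁆)
    (hw1 : w ≠ 1) : ∃ M, Line p V H M ∧ ext' p H M = ext' p H L ∧ ⁅V, M⁆ = zpowers w := by
  obtain ⟨-, -, -, -, -, htr⟩ := S.line_struct hL
  obtain ⟨⟨u, hu⟩, hu1⟩ := ne_bot_iff_exists_ne_one.mp fun (e : ⁅V, L⁆ = ⊥) =>
    S.comm_ne_bot hL.1 (S.line_ne_bot hL) e
  have hu1' : u ≠ 1 := fun e => hu1 (Subtype.ext e)
  obtain ⟨g, hg, hgw⟩ := htr u (commutator_mono le_rfl le_sup_right hu) w hw hu1' hw1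
  have hgH : g ∈ H := S.ext_le hL hg
  have hgK : g ∈ L ⊔ core p H :=
    sup_le ((S.comm_coprime hL).1.trans le_sup_right) le_sup_left hg
  obtain ⟨k, hk, l, hl, rfl⟩ :=
    (mem_sup_iff_of_le_normalizer' (hL.1.trans core_normal)).mp hgK
  have hY : cj (k * l) L = cj k L := by
    rw [← cj_cj, show cj l L = L from mem_normalizer_iff_map_conj_eq.mp (le_normalizer hl)]
  have hM := S.line_cj hL (core_le hk)
  refine ⟨_, hM, S.ext_cj hL hk,
    ((eq_bot_or_eq_of_prime (S.card_comm hM).1 (zpowers_le.mpr ?_)).resolve_left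
      fun e => hw1 (mem_bot.mp (e ▸ mem_zpowers w))).symm⟩
  rw [← hY, S.comm_cj hgH]
  exact ⟨u, hu, by simpa [mul_assoc] using hgw⟩

theorem irreducible {L : Subgroup G} (hL : Line p V H L) {U : Subgroup G}
    (hU : U ≤ ⁅V, ext' p H L⁆) (hK : core p H ≤ normalizer (U : Set G)) :
    U = ⊥ ∨ U = ⁅V, ext' p H L⁆ := by
  haveI := S.ea.1
  rcases eq_or_ne U ⊥ with h | h
  · exact .inl h
  obtain ⟨⟨w, hw⟩, hw1⟩ := ne_bot_iff_exists_ne_one.mp h
  obtain ⟨M, hM, -, huM⟩ := S.centre_line hL (hU hw) fun e => hw1 (Subtype.ext e)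
  obtain ⟨y, hy, hyM⟩ := S.exists_noncomm hM
  have hM' := S.line_cj hM (core_le hy)
  have h1 : ⁅V, M⁆ ≤ U := huM ▸ zpowers_le.mpr hw
  have h2 : ⁅V, cj y M⁆ ≤ U := by
    rw [S.comm_cj (core_le hy)]
    exact (map_mono h1).trans (mem_normalizer_iff_map_conj_eq.mp (hK hy)).le
  have hd : ⁅V, M⁆ ⊓ ⁅V, cj y M⁆ = ⊥ := inf_eq_bot_of_prime (S.card_comm hM).1 fun hle =>
    hyM (S.comm_of_cj_eq hM hy (S.pair_comm hM hy
      (hle.trans ((S.card_comm hM').2.trans inf_le_right))))
  have hn : ⁅V, M⁆ ≤ normalizer ((⁅V, cj y M⁆ : Subgroup G) : Set G) :=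
    le_normalizer_iff_forall.mpr fun a ha b hb => by
      rw [(ea_comm S.ea (mem_inf.mp ((S.card_comm hM).2 ha)).1
        (mem_inf.mp ((S.card_comm hM').2 hb)).1).eq, mul_inv_cancel_right]
      exact hb
  refine .inr (eq_of_le_of_card_le hU ?_)
  rw [(S.line_struct hL).1]
  refine le_of_eq_of_le ?_ (card_le_of_le (sup_le h1 h2))
  rw [card_sup_of_disjoint hn hd, (S.card_comm hM).1, (S.card_comm hM').1, sq]

theorem fixed_comm {L : Subgroup G} (hL : Line p V H L) :
    fx V ⁅core p H, L⁆ = fx V (ext' p H L) ∧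
      ⁅V, ⁅core p H, L⁆⁆ = ⁅V, ext' p H L⁆ := by
  haveI := S.ea.1
  obtain ⟨-, hd, hsup, hf, -, -⟩ := S.line_struct hL
  set R := ⁅core p H, L⁆ with hR
  set W := ⁅V, ext' p H L⁆ with hW
  have hRE : R ≤ ext' p H L := le_sup_left
  have hR1 : R ≠ ⊥ := fun e => by
    obtain ⟨x, hx, hxL⟩ := S.exists_noncomm hL
    refine hxL (mem_centralizer_iff.mpr fun l hl => ?_)
    have := commutator_mem_commutator hx hl
    rw [← hR, e, mem_bot, commutatorElement_eq_one_iff_mul_comm] at this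
    exact this.symm
  have hKR : core p H ≤ normalizer (R : Set G) := le_normalizer_commutator_left _ _
  have hWR : W ⊓ centralizer (R : Set G) = ⊥ := by
    refine (S.irreducible hL inf_le_left ?_).resolve_right fun e => hR1 ?_
    · refine le_normalizer_iff_forall.mpr fun k hk g hg => mem_inf.mpr
        ⟨conj_mem_of_le_normalizer (S.core_plane hL).1 hk (mem_inf.mp hg).1,
          mem_centralizer_iff.mpr fun r hr => ?_⟩
      have h1 := conj_mem_of_le_normalizer hKR (inv_mem hk) hr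
      rw [inv_inv] at h1
      have h2 := mem_centralizer_iff.mp (mem_inf.mp hg).2 _ h1
      calc r * (k * g * k⁻¹) = k * (k⁻¹ * r * k * g) * k⁻¹ := by group
        _ = _ := by rw [h2]; group
    · exact le_bot_iff.mp (hf ▸ le_inf hRE (Subgroup.le_centralizer_iff.mp (inf_eq_left.mp e)))
  refine ⟨le_antisymm (fun v hv => ?_) (fx_anti V hRE), ?_⟩
  · obtain ⟨w, hw, c, hc, rfl⟩ := (mem_sup_iff_of_le_normalizer (le_normalizer_iff_forall.mpr
      fun a ha b hb => by
        rw [(ea_comm S.ea (hsup.le (mem_sup_left ha)) (mem_inf.mp hb).1).eq, mul_inv_cancel_right]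
        exact hb)).mp (hsup.ge (mem_inf.mp hv).1)
    have hw' : w ∈ fx V R := by
      have := mul_mem hv (inv_mem (fx_anti V hRE hc))
      rwa [mul_inv_cancel_right] at this
    have : w = 1 := mem_bot.mp (hWR ▸ mem_inf.mpr ⟨hw, (mem_inf.mp hw').2⟩)
    rw [this, one_mul]
    exact hc
  · refine (S.irreducible hL (commutator_mono le_rfl hRE) ?_).resolve_left
      (S.comm_ne_bot (hRE.trans (S.ext_le hL)) hR1)
    refine le_normalizer_iff_forall.mpr fun k hk w hw => ?_
    have h1 := mem_map_of_mem (MulAut.conj k).toMonoidHom hw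
    rw [Subgroup.map_commutator] at h1
    exact commutator_mono (S.cj_V (core_le hk)).le
      (mem_normalizer_iff_map_conj_eq.mp (hKR hk)).le h1

theorem fx_line {L : Subgroup G} (hL : Line p V H L) :
    fx V L = ⁅V, L⁆ ⊔ fx V (ext' p H L) := by
  haveI := S.ea.1
  obtain ⟨hc, hd, hsup, -, -, -⟩ := S.line_struct hL
  obtain ⟨hu, hufx⟩ := S.card_comm hL
  have hn : ∀ {A : Subgroup G}, A ≤ V → A ≤ normalizer ((fx V (ext' p H L) : Subgroup G) : Set G) :=
    fun hA => le_normalizer_iff_forall.mpr fun a ha b hb => by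
      rw [(ea_comm S.ea (hA ha) (mem_inf.mp hb).1).eq, mul_inv_cancel_right]; exact hb
  have hle : fx V (ext' p H L) ≤ fx V L := fx_anti V le_sup_right
  refine (eq_of_le_of_card_le (sup_le hufx hle) ?_).symm
  have hd' : ⁅V, L⁆ ⊓ fx V (ext' p H L) = ⊥ :=
    eq_bot_iff.mpr ((inf_le_inf_right _ (commutator_mono le_rfl le_sup_right)).trans hd.le)
  rw [card_sup_of_disjoint (hn (hufx.trans inf_le_left)) hd', hu]
  refine Nat.le_of_mul_le_mul_right (le_of_eq ?_) hp.out.pos
  rw [hL.2.2]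
  have := congrArg (fun X : Subgroup G => Nat.card X) hsup
  rw [card_sup_of_disjoint (hn (le_sup_left.trans hsup.le)) hd, hc] at this
  rw [← this]; ring

theorem dichotomy {A B : Subgroup G} (hA : Line p V H A) (hB : Line p V H B) :
    ext' p H B = ext' p H A ∨
      (ext' p H B ≤ centralizer (ext' p H A : Set G) ∧
        ext' p H B ≤ centralizer ((⁅V, ext' p H A⁆ : Subgroup G) : Set G) ∧
        ⁅V, ext' p H A⁆ ≤ fx V (ext' p H B) ∧ ⁅V, ext' p H B⁆ ≤ fx V (ext' p H A)) := by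
  haveI := S.ea.1
  have hWV : ∀ {L : Subgroup G}, Line p V H L → ⁅V, ext' p H L⁆ ≤ V := fun hL =>
    le_sup_left.trans (S.line_struct hL).2.2.1.le
  have key : ∀ {L M : Subgroup G}, Line p V H L → Line p V H M →
      ⁅V, ext' p H L⁆ ⊓ ⁅V, ext' p H M⁆ = ⊥ → ⁅V, ext' p H L⁆ ≤ fx V (ext' p H M) := by
    intro L M hL hM hd
    rw [← (S.fixed_comm hM).1]
    refine le_inf (hWV hL) fun w hw => mem_centralizer_iff.mpr fun r hr => ?_
    have hrK : r ∈ core p H := (S.comm_coprime hM).1 hr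
    have h1 : r * w * r⁻¹ * w⁻¹ ∈ ⁅V, ext' p H L⁆ :=
      mul_mem (conj_mem_of_le_normalizer (S.core_plane hL).1 hrK hw) (inv_mem hw)
    have h2 : r * w * r⁻¹ * w⁻¹ ∈ ⁅V, ext' p H M⁆ := by
      rw [commutator_comm, ← commutatorElement_def]
      exact commutator_mem_commutator (mem_sup_left hr) (hWV hL hw)
    have := mem_inf.mpr ⟨h1, h2⟩
    rw [hd, mem_bot, mul_inv_eq_one, mul_inv_eq_iff_eq_mul] at this
    exact this
  rcases S.irreducible hA (inf_le_left : _ ⊓ ⁅V, ext' p H B⁆ ≤ _)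
      ((le_inf (S.core_plane hA).1 (S.core_plane hB).1).trans fun g hg => by
        refine Subgroup.mem_normalizer_iff.mpr fun y => ?_
        rw [mem_inf, mem_inf, Subgroup.mem_normalizer_iff.mp (mem_inf.mp hg).1 y,
          Subgroup.mem_normalizer_iff.mp (mem_inf.mp hg).2 y]) with hd | he
  · -- different planes
    right
    have hAB := key hA hB hd
    have hBA := key hB hA (by rw [inf_comm]; exact hd)
    have hcW : ext' p H B ≤ centralizer ((⁅V, ext' p H A⁆ : Subgroup G) : Set G) :=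
      Subgroup.le_centralizer_iff.mp (hAB.trans inf_le_right)
    refine ⟨fun f hf => mem_centralizer_iff.mpr fun e he => ?_, hcW, hAB, hBA⟩
    obtain ⟨-, -, hsup, -, -, -⟩ := S.line_struct hA
    have heH := S.ext_le hA he
    have hfH := S.ext_le hB hf
    refine commutatorElement_eq_one_iff_mul_comm.mp (S.eq_one (by
      rw [commutatorElement_def]
      exact mul_mem (mul_mem (mul_mem heH hfH) (inv_mem heH)) (inv_mem hfH)) fun v hv => ?_)
    have heW : e ∈ normalizer ((⁅V, ext' p H A⁆ : Subgroup G) : Set G) :=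
      le_normalizer_commutator_right _ _ he
    have h1 : ⁅V, ext' p H A⁆ ≤ centralizer ({⁅e, f⁆} : Set G) := fun w hw =>
      mem_centralizer_singleton_iff.mpr (commutator_fixes heW
        (fun u hu => (mem_centralizer_iff.mp (hcW hf) u hu).symm) w hw).symm
    have h2 : fx V (ext' p H A) ≤ centralizer ({⁅e, f⁆} : Set G) := fun c hc => by
      refine mem_centralizer_singleton_iff.mpr ?_
      have hfC : f * c * f⁻¹ ∈ fx V (ext' p H A) := by
        have h3 : f * c * f⁻¹ * c⁻¹ ∈ ⁅V, ext' p H B⁆ := by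
          rw [commutator_comm, ← commutatorElement_def]
          exact commutator_mem_commutator hf (mem_inf.mp hc).1
        have := mul_mem (hBA h3) hc
        rwa [inv_mul_cancel_right] at this
      have h4 : ∀ d ∈ fx V (ext' p H A), e * d * e⁻¹ = d := fun d hd => by
        rw [mem_centralizer_iff.mp (mem_inf.mp hd).2 e he, mul_inv_cancel_right]
      have hfC' : f⁻¹ * c * f ∈ fx V (ext' p H A) := by
        have h3 : f⁻¹ * c * f * c⁻¹ ∈ ⁅V, ext' p H B⁆ := by
          rw [commutator_comm]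
          have := commutator_mem_commutator (inv_mem hf) (mem_inf.mp hc).1
          simpa [commutatorElement_def] using this
        have := mul_mem (hBA h3) hc
        rwa [inv_mul_cancel_right] at this
      have h5 : e⁻¹ * (f⁻¹ * c * f) * e = f⁻¹ * c * f := by
        conv_lhs => rw [← h4 _ hfC']
        group
      have h6 : e⁻¹ * c * e = c := by
        conv_lhs => rw [← h4 _ hc]
        group
      rw [commutatorElement_def]
      calc c * (e * f * e⁻¹ * f⁻¹) = e * (e⁻¹ * c * e) * f * e⁻¹ * f⁻¹ := by group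
        _ = e * f * (e⁻¹ * (f⁻¹ * c * f) * e) * e⁻¹ * f⁻¹ := by
            rw [h5, h6]
            group
        _ = _ := by group
    exact mem_centralizer_singleton_iff.mp ((hsup ▸ sup_le h1 h2) hv)
  · -- the same plane
    left
    have hle : ⁅V, ext' p H A⁆ ≤ ⁅V, ext' p H B⁆ := inf_eq_left.mp he
    have hW : ⁅V, ext' p H A⁆ = ⁅V, ext' p H B⁆ :=
      eq_of_le_of_card_le hle (by rw [(S.line_struct hA).1, (S.line_struct hB).1])
    have hC : ∀ {L M : Subgroup G}, Line p V H L → Line p V H M →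
        ⁅V, ext' p H L⁆ = ⁅V, ext' p H M⁆ → fx V (ext' p H L) ≤ fx V (ext' p H M) := by
      intro L M hL hM heq c hc
      rw [← (S.fixed_comm hM).1]
      refine mem_inf.mpr ⟨(mem_inf.mp hc).1, mem_centralizer_iff.mpr fun r hr => ?_⟩
      have hrK : r ∈ core p H := (S.comm_coprime hM).1 hr
      have h1 : r * c * r⁻¹ * c⁻¹ ∈ fx V (ext' p H L) :=
        mul_mem (conj_mem_of_le_normalizer (S.core_plane hL).2 hrK hc) (inv_mem hc)
      have h2 : r * c * r⁻¹ * c⁻¹ ∈ ⁅V, ext' p H L⁆ := by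
        rw [heq, commutator_comm, ← commutatorElement_def]
        exact commutator_mem_commutator (mem_sup_left hr) (mem_inf.mp hc).1
      have := mem_inf.mpr ⟨h2, h1⟩
      rw [(S.line_struct hL).2.1, mem_bot, mul_inv_eq_one, mul_inv_eq_iff_eq_mul] at this
      exact this
    obtain ⟨⟨u, hu⟩, hu1⟩ := ne_bot_iff_exists_ne_one.mp fun (e : ⁅V, B⁆ = ⊥) =>
      S.comm_ne_bot hB.1 (S.line_ne_bot hB) e
    have hu1' : u ≠ 1 := fun e => hu1 (Subtype.ext e)
    obtain ⟨M, hM, hext, huM⟩ :=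
      S.centre_line hA (hW ▸ commutator_mono le_rfl le_sup_right hu) hu1'
    have huB : ⁅V, B⁆ = zpowers u :=
      ((eq_bot_or_eq_of_prime (S.card_comm hB).1 (zpowers_le.mpr hu)).resolve_left
        fun e => hu1' (mem_bot.mp (e ▸ mem_zpowers u))).symm
    have hMB : M = B := S.line_ext hM hB (huM.trans huB.symm) (by
      rw [S.fx_line hM, S.fx_line hB, huM, huB, hext,
        le_antisymm (hC hA hB hW) (hC hB hA hW.symm)])
    rw [← hMB, hext]

theorem direct_factor (hS3 : H = ⨆ A : {A : Subgroup G // A ≤ H ∧ Cfsg.IsBestOffenderOn p V A},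
      (A : Subgroup G)) {L : Subgroup G} (hL : Line p V H L) :
    let E := ext' p H L
    let H₀ := H ⊓ centralizer ((⁅V, E⁆ : Subgroup G) : Set G)
    ⁅E, H₀⁆ = ⊥ ∧ E ⊓ H₀ = ⊥ ∧ E ⊔ H₀ = H ∧ ⁅V, H₀⁆ ≤ fx V E ∧ H ≤ normalizer (E : Set G) := by
  intro E H₀
  haveI := S.ea.1
  obtain ⟨-, hd, hsup, hf, -, -⟩ := S.line_struct hL
  set J := H ⊓ centralizer ((⁅V, E⁆ : Subgroup G) : Set G) ⊓ centralizer (E : Set G) with hJ
  have hJn : J ≤ normalizer (E : Set G) := inf_le_right.trans (CfsgLib.Core.centralizer_le_normalizer _)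
  have hEJ : E ⊔ J = H := by
    refine le_antisymm (sup_le (S.ext_le hL) (inf_le_left.trans inf_le_left)) ?_
    conv_lhs => rw [hS3]
    refine iSup_le fun ⟨A, hA, hbo⟩ => ?_
    show A ≤ _
    rw [S.off_eq_sSup (S.off_of_bo hA hbo)]
    refine sSup_le fun M hM => ?_
    rcases S.dichotomy hL hM.1 with h | ⟨h1, h2, -, -⟩
    · exact le_sup_right.trans (h.le.trans le_sup_left)
    · exact le_sup_of_le_right (le_inf (le_inf hM.1.1 (le_sup_right.trans h2)) (le_sup_right.trans h1))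
  have hH₀ : H₀ = J := by
    refine le_antisymm (fun h hh => ?_) inf_le_left
    have hh' : h ∈ J ⊔ E := by rw [sup_comm, hEJ]; exact (mem_inf.mp hh).1
    obtain ⟨e, he, j, hj, rfl⟩ := (mem_sup_iff_of_le_normalizer' hJn).mp hh'
    have h2 := mul_mem (mem_inf.mp hh).2 (inv_mem (mem_inf.mp (mem_inf.mp hj).1).2)
    rw [mul_inv_cancel_right] at h2
    have he1 : e ∈ E ⊓ centralizer ((⁅V, E⁆ : Subgroup G) : Set G) := mem_inf.mpr ⟨he, h2⟩
    rw [hf, mem_bot] at he1
    rw [he1, one_mul]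
    exact hj
  have hHn : H ≤ normalizer (E : Set G) := hEJ ▸ sup_le le_normalizer hJn
  refine ⟨?_, ?_, by rw [hH₀, hEJ], ?_, hHn⟩
  · rw [hH₀, eq_bot_iff]
    refine Subgroup.commutator_le.mpr fun e he j hj => ?_
    rw [mem_bot, commutatorElement_eq_one_iff_mul_comm]
    exact mem_centralizer_iff.mp (mem_inf.mp hj).2 e he
  · exact eq_bot_iff.mpr ((inf_le_inf_left _ inf_le_right).trans hf.le)
  · rw [hH₀]
    refine Subgroup.commutator_le.mpr fun v hv h hh => ?_
    obtain ⟨w, hw, c, hc, rfl⟩ := (mem_sup_iff_of_le_normalizer (le_normalizer_iff_forall.mpr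
      fun a ha b hb => by
        rw [(ea_comm S.ea (hsup.le (mem_sup_left ha)) (mem_inf.mp hb).1).eq, mul_inv_cancel_right]
        exact hb)).mp (hsup.ge hv)
    have hhw : w * h = h * w := mem_centralizer_iff.mp (mem_inf.mp (mem_inf.mp hh).1).2 w hw
    have hhH : h ∈ H := (mem_inf.mp (mem_inf.mp hh).1).1
    have hc' : h * c⁻¹ * h⁻¹ ∈ fx V E := by
      have h1 : h * c⁻¹ * h⁻¹ ∈ cj h (fx V E) := mem_cj.mpr (by simpa [mul_assoc] using inv_mem hc)
      rw [← S.fx_cj hhH, show cj h E = E from mem_normalizer_iff_map_conj_eq.mp (hHn hhH)] at h1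
      exact h1
    have h2 := mul_mem hc hc'
    rw [commutatorElement_def]
    have h3 : w * (c * h * c⁻¹ * h⁻¹) = c * h * c⁻¹ * h⁻¹ * w :=
      (ea_comm S.ea (hsup.le (mem_sup_left hw)) (mem_inf.mp (by simpa [mul_assoc] using h2 :
        c * h * c⁻¹ * h⁻¹ ∈ fx V E)).1).eq
    have h4 : w * c * h * (w * c)⁻¹ * h⁻¹ = c * h * c⁻¹ * h⁻¹ := by
      calc w * c * h * (w * c)⁻¹ * h⁻¹ = w * (c * h * c⁻¹ * h⁻¹) * (h * w⁻¹ * h⁻¹) := by group
        _ = c * h * c⁻¹ * h⁻¹ := by
          rw [h3, show h * w⁻¹ * h⁻¹ = w⁻¹ by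
            rw [((show Commute h w from hhw.symm).inv_right).eq, mul_inv_cancel_right],
            mul_inv_cancel_right]
    rw [h4]
    simpa [mul_assoc] using h2

theorem structure_thm (hS3 : H = ⨆ A : {A : Subgroup G // A ≤ H ∧ Cfsg.IsBestOffenderOn p V A},
      (A : Subgroup G)) (hH1 : H ≠ ⊥) (P : Subgroup G → Prop)
    (hP : ∀ E, P E ↔ ∃ L, Line p V H L ∧ E = ext' p H L) :
    (p = 2 ∨ p = 3) ∧
    (∀ E : {E // P E}, H ≤ normalizer ((E : Subgroup G) : Set G) ∧
      Nonempty (↥(E : Subgroup G) ≃* Matrix.SpecialLinearGroup (Fin 2) (ZMod p)) ∧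
      Nat.card ↥⁅V, (E : Subgroup G)⁆ = p ^ 2) ∧
    iSupIndep (fun E : {E // P E} => (E : Subgroup G)) ∧
    (⨆ E : {E // P E}, (E : Subgroup G)) = H ∧
    iSupIndep (fun o : Option {E // P E} => o.elim (fx V H) (fun E => ⁅V, (E : Subgroup G)⁆)) ∧
    fx V H ⊔ (⨆ E : {E // P E}, ⁅V, (E : Subgroup G)⁆) = V := by
  classical
  haveI := S.ea.1
  have hother : ∀ E E' : {E // P E}, E ≠ E' →
      (E' : Subgroup G) ≤ H ⊓ centralizer ((⁅V, (E : Subgroup G)⁆ : Subgroup G) : Set G) ∧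
      ⁅V, (E' : Subgroup G)⁆ ≤ fx V (E : Subgroup G) ∧
      ⁅V, (E : Subgroup G)⁆ ≤ fx V (E' : Subgroup G) := by
    rintro ⟨E, hE⟩ ⟨E', hE'⟩ hne
    obtain ⟨L, hL, rfl⟩ := (hP E).mp hE
    obtain ⟨M, hM, rfl⟩ := (hP E').mp hE'
    rcases S.dichotomy hL hM with h | ⟨-, h2, h3, h4⟩
    · exact absurd (Subtype.ext h.symm) hne
    · exact ⟨le_inf (S.ext_le hM) h2, h4, h3⟩
  have hsupH : (⨆ E : {E // P E}, (E : Subgroup G)) = H := by
    refine le_antisymm (iSup_le fun ⟨E, hE⟩ => ?_) ?_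
    · obtain ⟨L, hL, rfl⟩ := (hP E).mp hE
      exact S.ext_le hL
    · conv_lhs => rw [hS3]
      refine iSup_le fun ⟨A, hA, hbo⟩ => ?_
      show A ≤ _
      rw [S.off_eq_sSup (S.off_of_bo hA hbo)]
      exact sSup_le fun M hM => le_iSup_of_le ⟨ext' p H M, (hP _).mpr ⟨M, hM.1, rfl⟩⟩ le_sup_right
  have hfact : ∀ E : {E // P E},
      ⁅V, (E : Subgroup G)⁆ ⊓ fx V (E : Subgroup G) = ⊥ ∧
      ⁅V, (E : Subgroup G)⁆ ⊔ fx V (E : Subgroup G) = V ∧
      ⁅V, (E : Subgroup G)⁆ ≤ ⁅V, core p H⁆ := by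
    rintro ⟨E, hE⟩
    obtain ⟨L, hL, rfl⟩ := (hP E).mp hE
    obtain ⟨-, h1, h2, -⟩ := S.line_struct hL
    exact ⟨h1, h2, (S.fixed_comm hL).2.ge.trans (commutator_mono le_rfl (S.comm_coprime hL).1)⟩
  refine ⟨?_, ?_, ?_, hsupH, ?_, ?_⟩
  · obtain ⟨⟨A, hA, hbo⟩, hA1⟩ : ∃ A : {A : Subgroup G // A ≤ H ∧ Cfsg.IsBestOffenderOn p V A},
        (A : Subgroup G) ≠ ⊥ := by
      by_contra hcon
      push Not at hcon
      exact hH1 (hS3.trans (by simp [hcon]))
    obtain ⟨L, hL, -⟩ := S.exists_line (S.off_of_bo hA hbo) hA1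
    exact S.prime_eq hL
  · rintro ⟨E, hE⟩
    obtain ⟨L, hL, rfl⟩ := (hP E).mp hE
    obtain ⟨h1, -, -, -, h5, -⟩ := S.line_struct hL
    exact ⟨(S.direct_factor hS3 hL).2.2.2.2, h5, h1⟩
  · intro E
    rw [disjoint_iff, eq_bot_iff]
    refine (inf_le_inf_left _ (iSup₂_le fun E' hne => (hother E E' hne.symm).1)).trans ?_
    obtain ⟨E, hE⟩ := E
    obtain ⟨L, hL, rfl⟩ := (hP E).mp hE
    exact (S.direct_factor hS3 hL).2.1.le
  · intro o
    rw [disjoint_iff, eq_bot_iff]
    rcases o with _ | E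
    · have hle : (⨆ (o : Option {E // P E}) (_ : o ≠ none),
          o.elim (fx V H) (fun E => ⁅V, (E : Subgroup G)⁆)) ≤ ⁅V, core p H⁆ := by
        refine iSup₂_le fun o ho => ?_
        rcases o with _ | E
        · exact absurd rfl ho
        · exact (hfact E).2.2
      refine (inf_le_inf (fx_anti V core_le) hle).trans
        (abelian_centralizer_inf_commutator (core_le.trans S.norm) ?_).le
      obtain ⟨n, hn⟩ := IsPGroup.iff_card.mp S.V_pGroup
      rw [hn]; exact core_coprime.pow_right n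
    · have hle : (⨆ (o : Option {E // P E}) (_ : o ≠ some E),
          o.elim (fx V H) (fun E => ⁅V, (E : Subgroup G)⁆)) ≤ fx V (E : Subgroup G) := by
        refine iSup₂_le fun o ho => ?_
        rcases o with _ | E'
        · exact fx_anti V ((le_iSup (fun E : {E // P E} => (E : Subgroup G)) E).trans hsupH.le)
        · exact (hother E E' fun e => ho (by rw [e])).2.1
      exact (inf_le_inf_left _ hle).trans (hfact E).1.le
  · refine le_antisymm (sup_le inf_le_left (iSup_le fun E => le_sup_left.trans (hfact E).2.1.le))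
      fun v hv => ?_
    set U := ⨆ E : {E // P E}, ⁅V, (E : Subgroup G)⁆ with hU
    have hUV : U ≤ V := iSup_le fun E => le_sup_left.trans (hfact E).2.1.le
    have hn : U ≤ normalizer ((fx V H : Subgroup G) : Set G) :=
      le_normalizer_iff_forall.mpr fun a ha b hb => by
        rw [(ea_comm S.ea (hUV ha) (mem_inf.mp hb).1).eq, mul_inv_cancel_right]; exact hb
    haveI : Fintype {E // P E} := Fintype.ofFinite _
    suffices h : ∀ s : Finset {E // P E}, ∃ u ∈ U, ∀ E ∈ s, u⁻¹ * v ∈ fx V (E : Subgroup G) by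
      obtain ⟨u, hu, huv⟩ := h Finset.univ
      have hc : u⁻¹ * v ∈ fx V H := by
        refine mem_inf.mpr ⟨mul_mem (inv_mem (hUV hu)) hv, mem_centralizer_iff.mpr fun g hg => ?_⟩
        have hle : H ≤ centralizer ({u⁻¹ * v} : Set G) := by
          rw [← hsupH]
          exact iSup_le fun E g hg => mem_centralizer_singleton_iff.mpr
            (mem_centralizer_iff.mp (mem_inf.mp (huv E (Finset.mem_univ E))).2 g hg)
        exact mem_centralizer_singleton_iff.mp (hle hg)
      have := mul_mem (mem_sup_right (S := fx V H) hu) (mem_sup_left (T := U) hc)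
      rwa [mul_inv_cancel_left] at this
    intro s
    induction s using Finset.induction_on with
    | empty => exact ⟨1, one_mem _, fun E hE => absurd hE (Finset.notMem_empty E)⟩
    | @insert E s hEs ih =>
      obtain ⟨u, hu, huv⟩ := ih
      have hEn : ⁅V, (E : Subgroup G)⁆ ≤ normalizer ((fx V (E : Subgroup G) : Subgroup G) : Set G) :=
        le_normalizer_iff_forall.mpr fun a ha b hb => by
          rw [(ea_comm S.ea ((hfact E).2.1.le (mem_sup_left ha)) (mem_inf.mp hb).1).eq,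
            mul_inv_cancel_right]
          exact hb
      obtain ⟨w, hw, c, hc, hwc⟩ := (mem_sup_iff_of_le_normalizer hEn).mp
        ((hfact E).2.1.ge (mul_mem (inv_mem (hUV hu)) hv))
      refine ⟨u * w, mul_mem hu (le_iSup (fun E : {E // P E} => ⁅V, (E : Subgroup G)⁆) E hw),
        fun E' hE' => ?_⟩
      rw [mul_inv_rev, mul_assoc]
      rcases eq_or_ne E' E with rfl | hne
      · rw [← hwc, inv_mul_cancel_left]; exact hc
      · exact mul_mem (inv_mem ((hother E E' hne.symm).2.2 hw))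
          (huv E' ((Finset.mem_insert.mp hE').resolve_left hne))

end Setup

end CfsgLib.LocalFF
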