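import Cfsg.Agent.Lib.CoreCoprime
import Cfsg.Agent.Lib.CoreLayer
import Cfsg.Agent.Lib.CoreFitting
import Cfsg.Agent.Lib.CoreSubnormal

/-!
The action of `p`-groups on subnormal subgroups of `F*(H)` when `O_p(H) = 1`.
-/

set_option autoImplicit false

namespace CfsgLib.Local.FStar

open Subgroup
open scoped commutatorElement

universe u

variable {G : Type u} [Group G]

/-- If `X` and `Y` commute elementwise then `[X ⊔ Y, X ⊔ Y] = [X,X][Y,Y]`. -/
theorem commutator_sup_self {X Y : Subgroup G} (h : Y ≤ centralizer (X : Set G)) :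
    ⁅X ⊔ Y, X ⊔ Y⁆ ≤ ⁅X, X⁆ ⊔ ⁅Y, Y⁆ := by
  have hn : Y ≤ normalizer (X : Set G) := h.trans (CfsgLib.Core.centralizer_le_normalizer X)
  rw [commutator_le]
  intro a ha b hb
  obtain ⟨x, hx, y, hy, rfl⟩ := (CfsgLib.Core.mem_sup_iff_of_le_normalizer' hn).mp (by rw [sup_comm]; exact ha)
  obtain ⟨x', hx', y', hy', rfl⟩ := (CfsgLib.Core.mem_sup_iff_of_le_normalizer' hn).mp (by rw [sup_comm]; exact hb)
  have c1 : Commute x' y := mem_centralizer_iff.mp (h hy) x' hx'
  have c2 : Commute x y' := mem_centralizer_iff.mp (h hy') x hx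
  have c3 : Commute x y := mem_centralizer_iff.mp (h hy) x hx
  have c4 : Commute x' y' := mem_centralizer_iff.mp (h hy') x' hx'
  have key : ⁅x * y, x' * y'⁆ = ⁅x, x'⁆ * ⁅y, y'⁆ := by
    have d1 : Commute y (x' * x⁻¹ * x'⁻¹) :=
      (c1.symm.mul_right c3.symm.inv_right).mul_right c1.symm.inv_right
    have d2 : Commute y' (x⁻¹ * x'⁻¹) := c2.symm.inv_right.mul_right c4.symm.inv_right
    have d3 : Commute (y * y' * y⁻¹) (x⁻¹ * x'⁻¹) :=
      ((c3.symm.inv_right.mul_right c1.symm.inv_right).mul_left d2).mul_left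
        (c3.inv_left.symm.inv_left.mul_right c1.inv_left.symm.inv_left)
    simp only [commutatorElement_def]
    calc x * y * (x' * y') * (x * y)⁻¹ * (x' * y')⁻¹
        = x * (y * x') * (y' * y⁻¹ * x⁻¹ * y'⁻¹ * x'⁻¹) := by group
      _ = x * (x' * y) * (y' * y⁻¹ * x⁻¹ * y'⁻¹ * x'⁻¹) := by rw [c1.symm.eq]
      _ = x * x' * (y * y' * y⁻¹) * (x⁻¹ * (y'⁻¹ * x'⁻¹)) := by group
      _ = x * x' * (y * y' * y⁻¹) * (x⁻¹ * (x'⁻¹ * y'⁻¹)) := by
          rw [c4.symm.inv_inv.eq]
      _ = x * x' * ((y * y' * y⁻¹) * (x⁻¹ * x'⁻¹)) * y'⁻¹ := by group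
      _ = x * x' * ((x⁻¹ * x'⁻¹) * (y * y' * y⁻¹)) * y'⁻¹ := by rw [d3.eq]
      _ = x * x' * x⁻¹ * x'⁻¹ * (y * y' * y⁻¹ * y'⁻¹) := by group
  rw [key]
  exact mul_mem (mem_sup_left (commutator_mem_commutator hx hx'))
    (mem_sup_right (commutator_mem_commutator hy hy'))

/-- The action lemma. -/
theorem action [Finite G] {p : ℕ} [hp : Fact p.Prime] {L F E Y : Subgroup G} (hFL : F ≤ L)
    (hEL : E ≤ L) (hL : L ≤ F ⊔ E) (hEF : E ≤ centralizer (F : Set G))
    (hYF : Y ≤ normalizer (F : Set G)) (hYE : Y ≤ normalizer (E : Set G))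
    (hF : (Nat.card F).Coprime p) (hY : IsPGroup p Y) (hperf : ⁅E, E⁆ = E)
    (hsplit : ∀ N : Subgroup G, N ≤ E → E ≤ normalizer (N : Set G) →
      E ≤ N ⊔ (E ⊓ centralizer (N : Set G))) :
    ⁅L, Y⁆ ⊔ (L ⊓ centralizer (Y : Set G)) = L ∧ ⁅L, Y⁆ = ⁅⁅L, Y⁆, Y⁆ := by
  haveI : Group.IsNilpotent Y := hY.isNilpotent
  have hsol : Group.IsSolvable Y ∨ Group.IsSolvable F := Or.inl inferInstance
  have hcop : (Nat.card Y).Coprime (Nat.card F) := by
    obtain ⟨k, hk⟩ := IsPGroup.iff_card.mp hY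
    rw [hk]; exact (hF.symm).pow_left k
  have hFY1 := CfsgLib.Core.commutator_sup_centralizer hYF hcop hsol
  have hFY2 := CfsgLib.Core.commutator_commutator_eq hYF hcop hsol
  set N := ⁅E, Y⁆ with hN
  have hNE : N ≤ E := CfsgLib.Core.commutator_le_of_le_normalizer hYE
  set C := E ⊓ centralizer (N : Set G) with hC
  have hEN : E = N ⊔ C :=
    le_antisymm (hsplit N hNE (CfsgLib.Core.le_normalizer_commutator_left E Y)) (sup_le hNE inf_le_left)
  have hCY : ⁅⁅C, C⁆, Y⁆ = ⊥ := by
    have h1 : ⁅⁅C, Y⁆, C⁆ = ⊥ := by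
      rw [commutator_eq_bot_iff_le_centralizer, le_centralizer_iff]
      refine le_trans inf_le_right (centralizer_le ?_)
      exact SetLike.coe_subset_coe.mpr ((commutator_mono inf_le_left le_rfl).trans_eq rfl)
    have h2 : ⁅⁅Y, C⁆, C⁆ = ⊥ := by rwa [commutator_comm Y C]
    exact commutator_commutator_eq_bot_of_rotate h1 h2
  have hEeq : E ≤ ⁅N, N⁆ ⊔ ⁅C, C⁆ := by
    calc E = ⁅E, E⁆ := hperf.symm
      _ = ⁅N ⊔ C, N ⊔ C⁆ := by rw [← hEN]
      _ ≤ _ := commutator_sup_self inf_le_right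
  have hCYc : ⁅C, C⁆ ≤ E ⊓ centralizer (Y : Set G) :=
    le_inf ((commutator_mono inf_le_left inf_le_left).trans hperf.le)
      (commutator_eq_bot_iff_le_centralizer.mp hCY)
  have hEle : E ≤ N ⊔ (E ⊓ centralizer (Y : Set G)) :=
    hEeq.trans (sup_le_sup ((commutator_mono hNE hNE).trans hperf.le |> fun _ =>
      commutator_le_self N) hCYc)
  have hEYY : ⁅E, Y⁆ ≤ ⁅N, Y⁆ := by
    rw [commutator_le]
    intro e he y hy
    have hn : ⁅C, C⁆ ≤ normalizer ((⁅N, N⁆ : Subgroup G) : Set G) := by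
      refine le_trans ?_ (CfsgLib.Core.centralizer_le_normalizer _)
      exact ((commutator_le_self C).trans inf_le_right).trans
        (centralizer_le (SetLike.coe_subset_coe.mpr (commutator_le_self N)))
    obtain ⟨m, hm, c, hc, rfl⟩ := (CfsgLib.Core.mem_sup_iff_of_le_normalizer' hn).mp (by rw [sup_comm]; exact hEeq he)
    have hcy : y * c = c * y := mem_centralizer_iff.mp (hCYc hc).2 y hy
    have : ⁅m * c, y⁆ = ⁅m, y⁆ := by
      simp only [commutatorElement_def]
      calc m * c * y * (m * c)⁻¹ * y⁻¹ = m * (c * y) * c⁻¹ * m⁻¹ * y⁻¹ := by group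
        _ = m * (y * c) * c⁻¹ * m⁻¹ * y⁻¹ := by rw [hcy]
        _ = m * y * m⁻¹ * y⁻¹ := by group
    rw [this]
    exact commutator_mem_commutator (commutator_le_self N hm) hy
  have hLY : ⁅L, Y⁆ ≤ ⁅F, Y⁆ ⊔ ⁅E, Y⁆ := by
    rw [commutator_le]
    intro x hx y hy
    obtain ⟨f, hf, e, he, rfl⟩ := (CfsgLib.Core.mem_sup_iff_of_le_normalizer'
      (hEF.trans (CfsgLib.Core.centralizer_le_normalizer F))).mp (by rw [sup_comm]; exact hL hx)
    have he' : ⁅e, y⁆ ∈ E := hNE (commutator_mem_commutator he hy)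
    have hfe : f * ⁅e, y⁆ = ⁅e, y⁆ * f := mem_centralizer_iff.mp (hEF he') f hf
    rw [show ⁅f * e, y⁆ = f * ⁅e, y⁆ * f⁻¹ * ⁅f, y⁆ by simp only [commutatorElement_def]; group,
      hfe, mul_inv_cancel_right]
    exact mul_mem (mem_sup_right (commutator_mem_commutator he hy))
      (mem_sup_left (commutator_mem_commutator hf hy))
  have hYL : ⁅L, Y⁆ ≤ L := hLY.trans (sup_le ((CfsgLib.Core.commutator_le_of_le_normalizer hYF).trans hFL)
    (hNE.trans hEL))
  refine ⟨le_antisymm (sup_le hYL inf_le_left) (hL.trans (sup_le ?_ ?_)), le_antisymm ?_ ?_⟩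
  · rw [← hFY1]
    exact sup_le_sup (commutator_mono hFL le_rfl) (inf_le_inf_right _ hFL)
  · exact hEle.trans (sup_le_sup (commutator_mono hEL le_rfl) (inf_le_inf_right _ hEL))
  · refine hLY.trans (sup_le ?_ ?_)
    · rw [← hFY2]
      exact commutator_mono (commutator_mono hFL le_rfl) le_rfl
    · exact hEYY.trans (commutator_mono (commutator_mono hEL le_rfl) le_rfl)
  · exact commutator_mono hYL le_rfl

/-- If `O_p(H) = 1` then `F(H)` is a `p'`-group. -/
theorem fitting_coprime [Finite G] {p : ℕ} [hp : Fact p.Prime] (hO : Cfsg.pCore p G = ⊥) :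
    (Nat.card (Cfsg.fittingSubgroup G)).Coprime p := by
  rw [Nat.coprime_comm, hp.out.coprime_iff_not_dvd]
  intro hdvd
  haveI := CfsgLib.Core.isNilpotent_fittingSubgroup (G := G)
  haveI := CfsgLib.Core.normal_fittingSubgroup (G := G)
  obtain ⟨P⟩ := (inferInstance : Nonempty (Sylow p (Cfsg.fittingSubgroup G)))
  haveI hPn : (P : Subgroup (Cfsg.fittingSubgroup G)).Normal :=
    Sylow.normal_of_all_max_subgroups_normal (fun H hH => by
      exact Subgroup.NormalizerCondition.normal_of_coatom H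
        Group.normalizerCondition_of_isNilpotent hH) P
  haveI : (P : Subgroup (Cfsg.fittingSubgroup G)).Characteristic := Sylow.characteristic_of_normal P hPn
  have h1 : (P : Subgroup (Cfsg.fittingSubgroup G)).map (Cfsg.fittingSubgroup G).subtype ≤
      Cfsg.pCore p G := CfsgLib.Core.le_pCore inferInstance (P.isPGroup'.map _)
  rw [hO, le_bot_iff, Subgroup.map_eq_bot_iff_of_injective _ (Subgroup.subtype_injective _)] at h1
  exact P.ne_bot_of_dvd_card hdvd h1

/-- The components inside `L`. -/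
def compIn (L : Subgroup G) : Subgroup G := sSup {K : Subgroup G | Cfsg.IsComponent K ∧ K ≤ L}

theorem compIn_le (L : Subgroup G) : compIn L ≤ L := sSup_le fun _ h => h.2

theorem compIn_le_layer (L : Subgroup G) : compIn L ≤ Cfsg.layer G :=
  sSup_le fun _ h => CfsgLib.Core.component_le_layer h.1

theorem compIn_perfect (L : Subgroup G) : ⁅compIn L, compIn L⁆ = compIn L := by
  refine le_antisymm (commutator_le_self _) (sSup_le fun K hK => ?_)
  rw [← CfsgLib.Core.isPerfect_of_component hK.1]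
  exact commutator_mono (le_sSup hK) (le_sSup hK)

theorem compIn_subnormal [Finite G] (L : Subgroup G) : (compIn L).IsSubnormal :=
  CfsgLib.Core.isSubnormal_sSup fun _ h => h.1.1

theorem compIn_split [Finite G] (L : Subgroup G) (N : Subgroup G) (hN : N ≤ compIn L)
    (hn : compIn L ≤ normalizer (N : Set G)) :
    compIn L ≤ N ⊔ (compIn L ⊓ centralizer (N : Set G)) := by
  have hNs : N.IsSubnormal := Subgroup.IsSubnormal.step N (compIn L) hN (compIn_subnormal L)
    ((Subgroup.normal_subgroupOf_iff_le_normalizer hN).mpr hn)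
  refine sSup_le fun K hK => ?_
  rcases CfsgLib.Core.component_le_or_commutator_eq_bot hK.1 hNs with h | h
  · exact h.trans le_sup_left
  · exact le_sup_of_le_right (le_inf (le_sSup hK) (commutator_eq_bot_iff_le_centralizer.mp h))

theorem layer_le_centralizer_fitting [Finite G] :
    Cfsg.layer G ≤ centralizer (Cfsg.fittingSubgroup G : Set G) :=
  commutator_eq_bot_iff_le_centralizer.mp CfsgLib.Core.commutator_layer_fittingSubgroup

/-- A subnormal subgroup of `H` inside `F*(H)` is the product of its part in `F(H)` and the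
components inside it. -/
theorem decomp [Finite G] {L : Subgroup G} (hL : L.IsSubnormal)
    (hLF : L ≤ Cfsg.generalizedFittingSubgroup G) :
    L ≤ (L ⊓ Cfsg.fittingSubgroup G) ⊔ compIn L := by
  set F := Cfsg.fittingSubgroup G with hF
  set E' := sSup {K : Subgroup G | Cfsg.IsComponent K ∧ ¬ K ≤ L} with hE'
  haveI : F.Normal := CfsgLib.Core.normal_fittingSubgroup
  have hE'le : E' ≤ Cfsg.layer G := sSup_le fun _ h => CfsgLib.Core.component_le_layer h.1
  have hE'L : E' ≤ centralizer (L : Set G) := sSup_le fun K hK =>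
    commutator_eq_bot_iff_le_centralizer.mp
      ((CfsgLib.Core.component_le_or_commutator_eq_bot hK.1 hL).resolve_left hK.2)
  have hA : E' ≤ centralizer ((F ⊔ compIn L : Subgroup G) : Set G) := by
    rw [le_centralizer_iff]
    exact sup_le (le_centralizer_iff.mp (hE'le.trans layer_le_centralizer_fitting))
      ((compIn_le L).trans (le_centralizer_iff.mp hE'L))
  have hFs : Cfsg.generalizedFittingSubgroup G ≤ (F ⊔ compIn L) ⊔ E' := by
    refine sup_le (sSup_le fun K hK => ?_) (le_sup_left.trans le_sup_left)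
    by_cases h : K ≤ L
    · exact le_sup_of_le_left (le_sup_of_le_right (le_sSup (show K ∈ {K : Subgroup G | Cfsg.IsComponent K ∧ K ≤ L} from ⟨hK, h⟩)))
    · exact le_sup_of_le_right (le_sSup (show K ∈ {K : Subgroup G | Cfsg.IsComponent K ∧ ¬ K ≤ L} from ⟨hK, h⟩))
  intro x hx
  obtain ⟨a, ha, e', he', rfl⟩ := (CfsgLib.Core.mem_sup_iff_of_le_normalizer'
    (hA.trans (CfsgLib.Core.centralizer_le_normalizer _))).mp (by rw [sup_comm]; exact hFs (hLF hx))
  -- `e'` is central in `F*`
  set Fs := Cfsg.generalizedFittingSubgroup G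
  haveI := CfsgLib.Core.normal_generalizedFittingSubgroup (G := G)
  have he'F : e' ∈ F := by
    refine CfsgLib.Core.le_fittingSubgroup (N := Fs ⊓ centralizer (Fs : Set G)) inferInstance ?_
      (mem_inf.mpr ⟨mem_sup_left (hE'le he'), ?_⟩)
    · haveI : IsMulCommutative ↥(Fs ⊓ centralizer (Fs : Set G)) :=
        ⟨⟨fun u v => Subtype.ext (mem_centralizer_iff.mp v.2.2 u u.2.1)⟩⟩
      exact (open scoped IsMulCommutative in CommGroup.isNilpotent (G := ↥(Fs ⊓ centralizer (Fs : Set G))))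
    · suffices h : Fs ≤ centralizer ({e'} : Set G) from
        mem_centralizer_iff.mpr fun u hu => (mem_centralizer_singleton_iff.mp (h hu))
      refine hFs.trans (sup_le (fun u hu => ?_) (fun u hu => ?_))
      · exact mem_centralizer_singleton_iff.mpr (mem_centralizer_iff.mp (hA he') u hu)
      · -- `u` commutes with `a * e'` and with `a`
        have h1 : a * e' * u = u * (a * e') := mem_centralizer_iff.mp (hE'L hu) _ hx
        have h2 : a * u = u * a := mem_centralizer_iff.mp (hA hu) a ha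
        refine mem_centralizer_singleton_iff.mpr ?_
        rw [← mul_right_inj a, ← mul_assoc, h2, mul_assoc, ← h1, mul_assoc]
  obtain ⟨f, hf, e, he, rfl⟩ := (CfsgLib.Core.mem_sup_iff_of_le_normalizer'
    (((compIn_le_layer L).trans layer_le_centralizer_fitting).trans
      (CfsgLib.Core.centralizer_le_normalizer F))).mp (by rw [sup_comm]; exact ha)
  have hee : e * e' = e' * e :=
    (mem_centralizer_iff.mp (layer_le_centralizer_fitting (compIn_le_layer L he)) e' he'F).symm
  have hx' : f * e * e' = (f * e') * e := by rw [mul_assoc, hee, mul_assoc]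
  rw [hx'] at hx ⊢
  refine mul_mem (mem_sup_left (mem_inf.mpr ⟨?_, mul_mem hf he'F⟩)) (mem_sup_right he)
  have := mul_mem hx (inv_mem (compIn_le L he))
  rwa [mul_inv_cancel_right] at this

/-- A group of operators normalising `L` normalises `L ⊓ F(H)` and the components inside `L`. -/
theorem normalizer_le_compIn (L : Subgroup G) :
    normalizer (L : Set G) ≤ normalizer (compIn L : Set G) := by
  intro g hg
  have key : ∀ g ∈ normalizer (L : Set G), ∀ x ∈ compIn L, g * x * g⁻¹ ∈ compIn L := by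
    intro g hg
    suffices h : compIn L ≤ (compIn L).comap (MulAut.conj g).toMonoidHom from fun x hx => h hx
    refine sSup_le fun K hK => ?_
    rw [← map_le_iff_le_comap]
    refine le_sSup (show K.map (MulAut.conj g).toMonoidHom ∈ {K : Subgroup G | Cfsg.IsComponent K ∧ K ≤ L}
      from ⟨CfsgLib.Core.isComponent_map_mulEquiv (MulAut.conj g) hK.1, ?_⟩)
    rintro _ ⟨x, hx, rfl⟩
    exact (mem_normalizer_iff.mp hg x).mp (hK.2 hx)
  refine mem_normalizer_iff.mpr fun x => ⟨key g hg x, fun hx => ?_⟩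
  have := key g⁻¹ (inv_mem hg) _ hx
  simpa [mul_assoc] using this

/-- The action lemma inside `H`. -/
theorem action_subnormal [Finite G] {p : ℕ} [hp : Fact p.Prime] (hO : Cfsg.pCore p G = ⊥)
    {L Y : Subgroup G} (hL : L.IsSubnormal) (hLF : L ≤ Cfsg.generalizedFittingSubgroup G)
    (hY : IsPGroup p Y) (hYL : Y ≤ normalizer (L : Set G)) :
    ⁅L, Y⁆ ⊔ (L ⊓ centralizer (Y : Set G)) = L ∧ ⁅L, Y⁆ = ⁅⁅L, Y⁆, Y⁆ := by
  haveI := CfsgLib.Core.normal_fittingSubgroup (G := G)
  refine action (F := L ⊓ Cfsg.fittingSubgroup G) inf_le_left (compIn_le L) (decomp hL hLF) ?_ ?_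
    (hYL.trans (normalizer_le_compIn L)) ?_ hY (compIn_perfect L) (compIn_split L)
  · exact ((compIn_le_layer L).trans layer_le_centralizer_fitting).trans
      (centralizer_le (SetLike.coe_subset_coe.mpr inf_le_right))
  · exact CfsgLib.Core.le_normalizer_inf hYL (le_top.trans (Subgroup.normalizer_eq_top _).ge)
  · exact (fitting_coprime hO).coprime_dvd_left (card_dvd_of_le inf_le_right)

end CfsgLib.Local.FStar
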