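import Cfsg.Agent.Lib.CoreBasic
import Cfsg.Agent.Lib.LocalBase
import Mathlib.GroupTheory.PGroup

/-!
The module `O_p(L)/(Y ∩ C(L))` of a member `L` of `𝔏_p(M)`: the quadratic set-up, and the
fixed-point-free action of elements normalised by an element of a root group.
-/

set_option autoImplicit false
set_option linter.style.haveILetI false

open Subgroup
open scoped Pointwise

namespace CfsgLib.Local.FrakL

universe u v

/-- The set-up in `L/(Y ∩ C(L))`. -/
structure Setup {K : Type u} [Group K] (P Y N : Subgroup K) : Prop where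
  normal : P.Normal
  comm : ∀ a ∈ Y, ∀ b ∈ Y, a * b = b * a
  quad : ∀ x ∈ P, ∀ y ∈ Y, y * x * y⁻¹ * x⁻¹ ∈ Y
  le : Y ≤ N
  ne_top : N ≠ ⊤
  max : ∀ X : Subgroup K, Y ≤ X → X ≠ ⊤ → X ≤ N
  normalizes : N ≤ normalizer (Y : Set K)
  closure : Subgroup.normalClosure (Y : Set K) = ⊤
  gen : P ≤ Subgroup.normalClosure ((Y ⊓ P : Subgroup K) : Set K)
  inter : ∀ k : K, Y ⊔ MulAut.conj k • Y = ⊤ → ∀ x ∈ Y ⊓ P, k⁻¹ * x * k ∈ Y → x = 1

variable {K : Type u} [Group K] {S : Type v} [Group S] {π : K →* S}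
  {Y N : Subgroup K}

theorem Setup.sup_eq_top (h : Setup π.ker Y N) {k : K} (hk : ¬ MulAut.conj k • Y ≤ N) :
    Y ⊔ MulAut.conj k • Y = ⊤ :=
  by_contra fun hne => hk (le_trans le_sup_right (h.max _ le_sup_left hne))

theorem Setup.exists_conj (h : Setup π.ker Y N) : ∃ k : K, ¬ MulAut.conj k • Y ≤ N := by
  by_contra hall
  push_neg at hall
  refine h.ne_top (eq_top_iff.mpr (h.closure.ge.trans ?_))
  rw [Subgroup.normalClosure, Subgroup.closure_le]
  intro x hx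
  obtain ⟨y, hy, hyx⟩ := Group.mem_conjugatesOfSet_iff.mp hx
  obtain ⟨c, rfl⟩ := isConj_iff.mp hyx
  exact hall c (CfsgLib.Core.mem_conj_smul.mpr (by simpa [mul_assoc] using hy))

theorem Setup.conj_mem (h : Setup π.ker Y N) {x : K} (hx : x ∈ π.ker) (c : K) :
    c * x * c⁻¹ ∈ π.ker := h.normal.conj_mem x hx c

/-- `P` consists of the products of an element of `A` and one of `A^k`. -/
theorem Setup.decompose (h : Setup π.ker Y N) {k : K} (hk : Y ⊔ MulAut.conj k • Y = ⊤) :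
    (∀ a ∈ Y ⊓ π.ker, ∀ b ∈ Y ⊓ π.ker, Commute a (k * b * k⁻¹)) ∧
    ∀ x ∈ π.ker, ∃ a ∈ Y ⊓ π.ker, ∃ b ∈ Y ⊓ π.ker, x = a * (k * b * k⁻¹) := by
  have hcomm : ∀ a ∈ Y ⊓ π.ker, ∀ b ∈ Y ⊓ π.ker, Commute a (k * b * k⁻¹) := by
    intro a ha b hb
    obtain ⟨haY, haP⟩ := Subgroup.mem_inf.mp ha
    obtain ⟨hbY, hbP⟩ := Subgroup.mem_inf.mp hb
    have hcP := h.conj_mem hbP k
    have h1 : k * b * k⁻¹ * a * (k * b * k⁻¹)⁻¹ * a⁻¹ ∈ Y ⊓ π.ker := by
      refine Subgroup.mem_inf.mpr ⟨?_, mul_mem (mul_mem (mul_mem hcP haP) (inv_mem hcP)) (inv_mem haP)⟩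
      have h2 := inv_mem (h.quad _ hcP a haY)
      simpa [mul_assoc] using h2
    have h3 : k⁻¹ * (k * b * k⁻¹ * a * (k * b * k⁻¹)⁻¹ * a⁻¹) * k ∈ Y := by
      have h4 := h.quad (k⁻¹ * a * k) (by simpa [mul_assoc] using h.conj_mem haP k⁻¹) b hbY
      simpa [mul_assoc] using h4
    have h5 := h.inter k hk _ h1 h3
    rw [mul_inv_eq_one, mul_inv_eq_iff_eq_mul] at h5
    exact h5.symm
  refine ⟨hcomm, ?_⟩
  let Q : Subgroup K :=
    { carrier := {x | ∃ a ∈ Y ⊓ π.ker, ∃ b ∈ Y ⊓ π.ker, x = a * (k * b * k⁻¹)}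
      one_mem' := ⟨1, one_mem _, 1, one_mem _, by group⟩
      mul_mem' := by
        rintro _ _ ⟨a, ha, b, hb, rfl⟩ ⟨a', ha', b', hb', rfl⟩
        refine ⟨a * a', mul_mem ha ha', b * b', mul_mem hb hb', ?_⟩
        calc a * (k * b * k⁻¹) * (a' * (k * b' * k⁻¹))
            = a * ((k * b * k⁻¹) * a') * (k * b' * k⁻¹) := by group
          _ = a * (a' * (k * b * k⁻¹)) * (k * b' * k⁻¹) := by rw [(hcomm a' ha' b hb).eq]
          _ = _ := by group
      inv_mem' := by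
        rintro _ ⟨a, ha, b, hb, rfl⟩
        refine ⟨a⁻¹, inv_mem ha, b⁻¹, inv_mem hb, ?_⟩
        rw [mul_inv_rev]
        have := (hcomm a ha b hb).inv_inv.eq
        calc (k * b * k⁻¹)⁻¹ * a⁻¹ = a⁻¹ * (k * b * k⁻¹)⁻¹ := this.symm
          _ = _ := by group }
  have hQA : ∀ a ∈ Y ⊓ π.ker, a ∈ Q := fun a ha => ⟨a, ha, 1, one_mem _, by group⟩
  have hQB : ∀ b ∈ Y ⊓ π.ker, k * b * k⁻¹ ∈ Q := fun b hb => ⟨1, one_mem _, b, hb, by group⟩
  have hY : ∀ y ∈ Y, ∀ x ∈ Q, y * x * y⁻¹ ∈ Q := by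
    rintro y hy _ ⟨a, ha, b, hb, rfl⟩
    obtain ⟨haY, haP⟩ := Subgroup.mem_inf.mp ha
    obtain ⟨hbY, hbP⟩ := Subgroup.mem_inf.mp hb
    have hcP := h.conj_mem hbP k
    have e : y * (a * (k * b * k⁻¹)) * y⁻¹ =
        a * (y * (k * b * k⁻¹) * y⁻¹ * (k * b * k⁻¹)⁻¹) * (k * b * k⁻¹) := by
      calc y * (a * (k * b * k⁻¹)) * y⁻¹ = (y * a) * (k * b * k⁻¹) * y⁻¹ := by group
        _ = (a * y) * (k * b * k⁻¹) * y⁻¹ := by rw [h.comm y hy a haY]
        _ = _ := by group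
    rw [e]
    refine mul_mem (mul_mem (hQA a ha) (hQA _ (Subgroup.mem_inf.mpr ⟨h.quad _ hcP y hy, ?_⟩)))
      (hQB b hb)
    exact mul_mem (h.conj_mem hcP y) (inv_mem hcP)
  have hY' : ∀ y ∈ Y, ∀ x ∈ Q, (k * y * k⁻¹) * x * (k * y * k⁻¹)⁻¹ ∈ Q := by
    rintro y hy _ ⟨a, ha, b, hb, rfl⟩
    obtain ⟨haY, haP⟩ := Subgroup.mem_inf.mp ha
    obtain ⟨hbY, hbP⟩ := Subgroup.mem_inf.mp hb
    have hcP : k⁻¹ * a * k ∈ π.ker := by simpa [mul_assoc] using h.conj_mem haP k⁻¹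
    have e : (k * y * k⁻¹) * (a * (k * b * k⁻¹)) * (k * y * k⁻¹)⁻¹ =
        (k * (y * (k⁻¹ * a * k) * y⁻¹ * (k⁻¹ * a * k)⁻¹) * k⁻¹) * a * (k * b * k⁻¹) := by
      calc (k * y * k⁻¹) * (a * (k * b * k⁻¹)) * (k * y * k⁻¹)⁻¹
          = k * (y * (k⁻¹ * a * k)) * (b * y⁻¹) * k⁻¹ := by group
        _ = k * (y * (k⁻¹ * a * k)) * (y⁻¹ * b) * k⁻¹ := by rw [h.comm b hbY y⁻¹ (inv_mem hy)]
        _ = _ := by group
    rw [e]
    refine mul_mem (mul_mem (hQB _ (Subgroup.mem_inf.mpr ⟨h.quad _ hcP y hy, ?_⟩)) (hQA a ha))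
      (hQB b hb)
    exact mul_mem (h.conj_mem hcP y) (inv_mem hcP)
  have hn : Q.Normal := by
    rw [← Subgroup.normalizer_eq_top_iff, eq_top_iff, ← hk, sup_le_iff]
    constructor
    · intro y hy
      rw [mem_normalizer_iff]
      exact fun x => ⟨hY y hy x, fun hx => by simpa [mul_assoc] using hY y⁻¹ (inv_mem hy) _ hx⟩
    · intro z hz
      rw [CfsgLib.Core.mem_conj_smul] at hz
      rw [mem_normalizer_iff]
      refine fun x => ⟨fun hx => ?_, fun hx => ?_⟩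
      · simpa [mul_assoc] using hY' _ hz x hx
      · simpa [mul_assoc] using hY' _ (inv_mem hz) _ hx
  haveI := hn
  exact fun x hx => Subgroup.normalClosure_le_normal (N := Q) (fun a ha => hQA a ha) (h.gen hx)

theorem Setup.ker_comm (h : Setup π.ker Y N) {x z : K} (hx : x ∈ π.ker) (hz : z ∈ π.ker) :
    x * z = z * x := by
  obtain ⟨k, hk⟩ := h.exists_conj
  obtain ⟨hc, hd⟩ := h.decompose (h.sup_eq_top hk)
  obtain ⟨a, ha, b, hb, rfl⟩ := hd x hx
  obtain ⟨a', ha', b', hb', rfl⟩ := hd z hz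
  have h1 : Commute a a' := h.comm a ha.1 a' ha'.1
  have h2 : Commute (k * b * k⁻¹) (k * b' * k⁻¹) :=
    (Commute.conj_iff k).mpr (h.comm b hb.1 b' hb'.1)
  exact ((h1.mul_right (hc a ha b' hb')).mul_left ((hc a' ha' b hb).symm.mul_right h2)).eq

/-- An element generating `S` with a conjugate of `π(Y)` fixes only `A` in `P`. -/
theorem Setup.fixed (h : Setup π.ker Y N) {k : K} (hk : Y ⊔ MulAut.conj k • Y = ⊤) {y : K}
    (hy : y ∈ Y) (hgen : zpowers (π y) ⊔ (MulAut.conj k • Y).map π = ⊤) {x : K} (hx : x ∈ π.ker)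
    (hc : y * x = x * y) : x ∈ Y := by
  obtain ⟨a, ha, b, hb, rfl⟩ := (h.decompose hk).2 x hx
  set c := k * b * k⁻¹ with hcdef
  have hcP : c ∈ π.ker := h.conj_mem hb.2 k
  have hyc : y * c = c * y := by
    have h1 : a * (y * c) = a * (c * y) := by
      rw [← mul_assoc, ← h.comm y hy a ha.1, mul_assoc, hc, mul_assoc]
    exact mul_left_cancel h1
  have hcent : ∀ g : K, g * c = c * g := by
    let C := centralizer ({c} : Set K)
    have hker : π.ker ≤ C := fun z hz =>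
      mem_centralizer_singleton_iff.mpr (h.ker_comm hz hcP)
    have h2 : (⊤ : Subgroup K) ≤ C := by
      have h3 : C.map π = ⊤ := by
        refine eq_top_iff.mpr (hgen ▸ sup_le ?_ (Subgroup.map_mono ?_))
        · exact zpowers_le.mpr ⟨y, mem_centralizer_singleton_iff.mpr hyc, rfl⟩
        · intro z hz
          rw [CfsgLib.Core.mem_conj_smul] at hz
          rw [mem_centralizer_singleton_iff]
          calc z * c = k * ((k⁻¹ * z * k) * b) * k⁻¹ := by rw [hcdef]; group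
            _ = k * (b * (k⁻¹ * z * k)) * k⁻¹ := by rw [h.comm _ hz b hb.1]
            _ = c * z := by rw [hcdef]; group
      intro z _
      obtain ⟨w, hw, hwz⟩ : π z ∈ C.map π := h3 ▸ mem_top _
      have h4 : w⁻¹ * z ∈ C := hker (by rw [MonoidHom.mem_ker, map_mul, map_inv, hwz, inv_mul_cancel])
      simpa using mul_mem hw h4
    exact fun g => mem_centralizer_singleton_iff.mp (h2 (mem_top g))
  have hcb : c = b := by
    have h5 := hcent k
    rw [hcdef] at h5 ⊢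
    calc k * b * k⁻¹ = k⁻¹ * (k * (k * b * k⁻¹)) := by group
      _ = k⁻¹ * ((k * b * k⁻¹) * k) := by rw [h5]
      _ = b := by group
  rw [hcb]
  exact mul_mem ha.1 hb.1

/-- The condition on `Z = π(Y)`: no element of `Z` normalises a different conjugate. -/
def IsRoot (Z : Subgroup S) : Prop :=
  ∀ s z : S, z ∈ Z → z ≠ 1 → z ∈ normalizer ((MulAut.conj s • Z : Subgroup S) : Set S) →
    s ∈ normalizer (Z : Set S)

theorem Setup.comap_normalizer (h : Setup π.ker Y N) (hπ : Function.Surjective π)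
    (hZ : ¬ (Y.map π).Normal) : (normalizer ((Y.map π : Subgroup S) : Set S)).comap π ≤ N := by
  refine h.max _ (fun y hy => Subgroup.le_normalizer (mem_map_of_mem π hy)) fun htop => hZ ?_
  rw [← Subgroup.normalizer_eq_top_iff, eq_top_iff]
  intro s _
  obtain ⟨g, rfl⟩ := hπ s
  exact (htop.ge (mem_top g) :)

theorem Setup.root_gen (h : Setup π.ker Y N) (hπ : Function.Surjective π)
    (hZ : IsRoot (Y.map π)) {y : K} (hy : y ∈ Y) (hy1 : π y ≠ 1) {k : K}
    (hk : π k ∉ normalizer ((Y.map π : Subgroup S) : Set S)) :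
    Y ⊔ MulAut.conj k • Y = ⊤ ∧ zpowers (π y) ⊔ (MulAut.conj k • Y).map π = ⊤ := by
  have key : ∀ T : Subgroup S, T ≠ ⊤ → MulAut.conj (π k) • Y.map π ≤ T → π y ∉ T := by
    intro T hT hle hyT
    have h1 : Y ≤ (T.comap π).comap (MulAut.conj k).toMonoidHom := fun z hz =>
      hle (CfsgLib.Core.mem_conj_smul.mpr (by
        refine ⟨z, hz, ?_⟩
        simp [MulAut.conj_apply, mul_assoc]))
    have h2 := h.max _ h1 (fun e => hT (eq_top_iff.mpr fun s _ => by
      obtain ⟨g, rfl⟩ := hπ s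
      have := e.ge (mem_top (k⁻¹ * g * k))
      simpa [mul_assoc] using this))
    have h3 : k⁻¹ * y * k ∈ N := h2 (by simpa [mul_assoc] using hyT)
    refine hk (hZ (π k) (π y) (mem_map_of_mem π hy) hy1 ?_)
    rw [mem_normalizer_iff]
    have h4 : π (k⁻¹ * y * k) ∈ normalizer ((Y.map π : Subgroup S) : Set S) :=
      (Subgroup.le_normalizer_map π) (mem_map_of_mem π (h.normalizes h3))
    intro s
    rw [CfsgLib.Core.mem_conj_smul, CfsgLib.Core.mem_conj_smul]
    have h5 := mem_normalizer_iff.mp h4 ((π k)⁻¹ * s * π k)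
    simpa [mul_assoc] using h5
  have h2 : zpowers (π y) ⊔ (MulAut.conj k • Y).map π = ⊤ := by
    rw [CfsgLib.Core.map_conj_smul]
    exact by_contra fun hne => key _ hne le_sup_right (Subgroup.mem_sup_left (mem_zpowers _))
  refine ⟨?_, h2⟩
  by_contra hne
  have h6 := h.max _ le_sup_left hne
  have h7 : (MulAut.conj k • Y).map π ≤ normalizer ((Y.map π : Subgroup S) : Set S) :=
    (Subgroup.map_mono ((le_sup_right).trans (h6.trans h.normalizes))).trans
      (Subgroup.le_normalizer_map π)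
  refine hk ?_
  have h8 : normalizer ((Y.map π : Subgroup S) : Set S) = ⊤ := by
    refine eq_top_iff.mpr (h2 ▸ sup_le (zpowers_le.mpr ?_) h7)
    exact Subgroup.le_normalizer (mem_map_of_mem π hy)
  rw [h8]; exact mem_top _

theorem Setup.fixed_root (h : Setup π.ker Y N) (hπ : Function.Surjective π)
    (hZ : IsRoot (Y.map π)) (hn : ¬ (Y.map π).Normal) {y : K} (hy : y ∈ Y) (hy1 : π y ≠ 1)
    {x : K} (hx : x ∈ π.ker) (hc : y * x = x * y) : x ∈ Y := by
  obtain ⟨s, hs⟩ : ∃ s : S, s ∉ normalizer ((Y.map π : Subgroup S) : Set S) := by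
    by_contra hall
    push_neg at hall
    exact hn (Subgroup.normalizer_eq_top_iff.mp (eq_top_iff.mpr fun s _ => hall s))
  obtain ⟨k, rfl⟩ := hπ s
  obtain ⟨h1, h2⟩ := h.root_gen hπ hZ hy hy1 hs
  exact h.fixed h1 hy h2 hx hc

/-- An element normalised, but not centralised, by an involution of `π(Y)` acts freely. -/
theorem Setup.free_of_involution [Finite K] (h : Setup π.ker Y N) (hπ : Function.Surjective π)
    (hP : IsPGroup 2 π.ker) (hZ : IsRoot (Y.map π)) (hn : ¬ (Y.map π).Normal)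
    (hY2 : IsPGroup 2 Y) {g y : K} (hy : y ∈ Y) (hy2 : y * y ∈ π.ker)
    (hg : (orderOf (π g)).Coprime 2) (hgy : π (y * g * y⁻¹) ∈ zpowers (π g))
    (hgy' : π (y * g * y⁻¹) ≠ π g) {x : K} (hx : x ∈ π.ker) (hxg : g * x = x * g) : x = 1 := by
  by_contra hx1
  have hy1 : π y ≠ 1 := fun e => hgy' (by rw [map_mul, map_mul, map_inv, e]; simp)
  have hgN : π g ∉ normalizer ((Y.map π : Subgroup S) : Set S) := by
    intro hgN
    have h1 : π (y * g * y⁻¹) * (π g)⁻¹ ∈ zpowers (π g) := mul_mem hgy (inv_mem (mem_zpowers _))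
    have h2 : π (y * g * y⁻¹) * (π g)⁻¹ ∈ Y.map π := by
      rw [map_mul, map_mul, map_inv, mul_assoc (π y) (π g), mul_assoc (π y)]
      refine mul_mem (mem_map_of_mem π hy) ?_
      have h3 := (mem_normalizer_iff.mp hgN _).mp (inv_mem (mem_map_of_mem π hy))
      simpa [mul_assoc] using h3
    have h4 := CfsgLib.Local.eq_one_of_coprime_pgroup (hY2.map π) h2
      (hg.coprime_dvd_left (orderOf_dvd_of_mem_zpowers h1))
    exact hgy' (mul_inv_eq_one.mp h4)
  -- a fixed point of order two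
  obtain ⟨j, hj⟩ := hP ⟨x, hx⟩
  have hxj : x ^ 2 ^ j = 1 := by simpa using congrArg Subtype.val hj
  obtain ⟨w, hwx, hw1, hw2⟩ : ∃ w, w ∈ zpowers x ∧ w ≠ 1 ∧ w * w = 1 := by
    have h1 : orderOf x ≠ 1 := fun e => hx1 (orderOf_eq_one_iff.mp e)
    obtain ⟨i, -, hi⟩ := (Nat.dvd_prime_pow Nat.prime_two).mp (orderOf_dvd_of_pow_eq_one hxj)
    rcases i with _ | i
    · exact absurd (by simpa using hi) h1
    refine ⟨x ^ 2 ^ i, pow_mem (mem_zpowers x) _, pow_ne_one_of_lt_orderOf (by positivity) ?_, ?_⟩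
    · rw [hi]; exact Nat.pow_lt_pow_right one_lt_two (Nat.lt_succ_self i)
    · rw [← pow_add, ← two_mul, ← pow_succ', ← hi, pow_orderOf_eq_one]
  have hwP : w ∈ π.ker := zpowers_le.mpr hx hwx
  have hgw : g * w = w * g := by
    obtain ⟨i, rfl⟩ := mem_zpowers_iff.mp hwx
    exact ((show Commute g x from hxg).zpow_right i).eq
  -- `y g y⁻¹` also fixes `w`
  have hgw' : ∀ g' : K, π g' ∈ zpowers (π g) → Commute g' w := by
    intro g' hg'
    obtain ⟨i, hi⟩ := mem_zpowers_iff.mp hg'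
    have h1 : (g ^ i)⁻¹ * g' ∈ π.ker := by
      rw [MonoidHom.mem_ker, map_mul, map_inv, map_zpow, hi, inv_mul_cancel]
    have h2 : Commute ((g ^ i)⁻¹ * g') w := h.ker_comm h1 hwP
    have h3 := ((show Commute g w from hgw).zpow_left i).mul_left h2
    simpa using h3
  set v := y * w * y⁻¹ with hv
  have hvP : v ∈ π.ker := h.conj_mem hwP y
  have hgv : g * v = v * g := by
    have h1 : Commute (y⁻¹ * g * y) w := by
      refine hgw' _ ?_
      have h2 : π (y * g * y⁻¹) = π (y⁻¹ * g * y) := by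
        have h3 : π (y * y) = 1 := hy2
        rw [map_mul] at h3
        have h4 : π y = (π y)⁻¹ := eq_inv_of_mul_eq_one_left h3
        simp only [map_mul, map_inv]
        rw [← h4]
      exact h2 ▸ hgy
    have h5 : Commute (y * (y⁻¹ * g * y) * y⁻¹) v := (Commute.conj_iff y).mpr h1
    have e : y * (y⁻¹ * g * y) * y⁻¹ = g := by group
    exact (e ▸ h5).eq
  obtain ⟨u, huP, hu1, hgu, hyu⟩ : ∃ u ∈ π.ker, u ≠ 1 ∧ g * u = u * g ∧ y * u = u * y := by
    by_cases hvw : w * v = 1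
    · refine ⟨w, hwP, hw1, hgw, ?_⟩
      have h1 : v = w := by
        calc v = (w * w) * v := by rw [hw2, one_mul]
          _ = w := by rw [mul_assoc, hvw, mul_one]
      rw [hv] at h1
      exact mul_inv_eq_iff_eq_mul.mp h1
    · refine ⟨w * v, mul_mem hwP hvP, hvw, ?_, ?_⟩
      · exact ((show Commute g w from hgw).mul_right hgv).eq
      · have h2 : y * v * y⁻¹ = w := by
          have h3 : (y * y) * w = w * (y * y) := h.ker_comm hy2 hwP
          calc y * v * y⁻¹ = (y * y) * w * (y * y)⁻¹ := by rw [hv]; group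
            _ = w := by rw [h3, mul_inv_cancel_right]
        calc y * (w * v) = (y * w * y⁻¹) * (y * v * y⁻¹) * y := by group
          _ = (v * w) * y := by rw [h2]
          _ = (w * v) * y := by rw [h.ker_comm hvP hwP]
  have huY := h.fixed_root hπ hZ hn hy hy1 huP hyu
  refine hu1 (h.inter g (h.root_gen hπ hZ hy hy1 hgN).1 u ⟨huY, huP⟩ ?_)
  rw [mul_assoc, ← hgu, inv_mul_cancel_left]
  exact huY

end CfsgLib.Local.FrakL
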