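import Cfsg.Agent.Lib.LocalFrakLSetup
import Cfsg.Agent.Lib.LieSuzukiSylow
import Mathlib.GroupTheory.Transfer
import Mathlib.LinearAlgebra.Matrix.Charpoly.Coeff
import Mathlib.FieldTheory.IsAlgClosed.AlgebraicClosure

/-!
The module of a member of `𝔏_p(M)` over `Sz(q)`.
-/

set_option autoImplicit false
set_option linter.style.haveILetI false
set_option maxHeartbeats 1000000

open Subgroup MulAction Polynomial
open scoped Pointwise Matrix

namespace CfsgLib.Local.FrakL

open CfsgLib.Lie.SzOvoid Cfsg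

universe u

/-- Conjugating a root of unity eigenvalue of a matrix of order `r`: at most four possibilities. -/
theorem pow_four_fixed {F : Type*} [Field F] [Fintype F] [CharP F 2] {r : ℕ} [hr : Fact r.Prime]
    (hr2 : r ≠ 2) (hq : ∀ j, 1 ≤ j → j < 4 → ¬ Fintype.card F ^ j ≡ 1 [MOD r])
    (hq4 : Fintype.card F ^ 4 ≡ 1 [MOD r]) (A : Matrix (Fin 4) (Fin 4) F) (hA : A ^ r = 1)
    (hA1 : A ≠ 1) {B B' : Matrix (Fin 4) (Fin 4) F} (hBB : B' * B = 1) {i : ℕ}
    (hi : B * A * B' = A ^ i) : i ^ 4 ≡ 1 [MOD r] := by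
  classical
  set K := AlgebraicClosure F
  set φ := algebraMap F K
  set q := Fintype.card F
  haveI : CharP K 2 := charP_of_injective_algebraMap φ.injective 2
  set C := A.map φ
  have hC : C ^ r = 1 := by
    change (φ.mapMatrix A) ^ r = 1
    rw [← map_pow, hA, map_one]
  set χ := C.charpoly
  have hχ : χ = A.charpoly.map φ := Matrix.charpoly_map A φ
  have hdeg : χ.natDegree = 4 := by
    rw [Matrix.charpoly_natDegree_eq_dim]; simp
  have hχ0 : χ ≠ 0 := (Matrix.charpoly_monic C).ne_zero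
  have hrootpow : ∀ (l : K) (k : ℕ), χ.IsRoot l → (C ^ k).charpoly.IsRoot (l ^ k) := by
    intro l k hl
    rw [← Matrix.mem_spectrum_iff_isRoot_charpoly] at hl ⊢
    exact spectrum.pow_mem_pow C k hl
  have hroot1 : ∀ l : K, χ.IsRoot l → l ^ r = 1 := by
    intro l hl
    have h1 := hrootpow l r hl
    rw [hC, Matrix.charpoly_one, IsRoot.def, eval_pow, eval_sub, eval_X, eval_one] at h1
    exact sub_eq_zero.mp (eq_zero_of_pow_eq_zero h1)
  -- Frobenius permutes the roots
  have hfrob : ∀ l : K, χ.IsRoot l → χ.IsRoot (l ^ q) := by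
    intro l hl
    obtain ⟨n, -, hn⟩ := FiniteField.card F 2
    have h1 : χ.map (iterateFrobenius K 2 n) = χ := by
      rw [hχ, Polynomial.map_map]
      congr 1
      ext a
      rw [RingHom.comp_apply, iterateFrobenius_def, ← map_pow, ← hn, FiniteField.pow_card]
    have h2 := hl.map (f := iterateFrobenius K 2 n)
    rw [h1, iterateFrobenius_def, ← hn] at h2
    exact h2
  obtain ⟨l, hl, hl1⟩ : ∃ l : K, χ.IsRoot l ∧ l ≠ 1 := by
    by_contra hall
    push Not at hall
    have h1 : χ = (X - 1) ^ 4 := by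
      have hs := (IsAlgClosed.splits χ)
      have h2 := Polynomial.Splits.eq_prod_roots_of_monic hs (Matrix.charpoly_monic C)
      have h3 : χ.roots = Multiset.replicate 4 (1 : K) := by
        refine Multiset.eq_replicate.mpr ⟨?_, fun x hx => hall x (Polynomial.isRoot_of_mem_roots hx)⟩
        rw [← hdeg]
        exact (Polynomial.splits_iff_card_roots.mp hs)
      rw [h2, h3]; simp [pow_succ', ← mul_assoc]
    have h2 : (C - 1) ^ 4 = 0 := by
      have h3 := Matrix.aeval_self_charpoly C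
      change aeval C χ = 0 at h3
      rw [h1] at h3
      simpa using h3
    haveI : CharP (Matrix (Fin 4) (Fin 4) K) 2 := inferInstance
    have h4 : C ^ 4 = 1 := by
      have h6 : (C - 1) ^ 2 ^ 2 = C ^ 2 ^ 2 - 1 ^ 2 ^ 2 :=
        sub_pow_char_pow_of_commute 2 2 (Commute.one_right C)
      norm_num at h6
      rw [h6, sub_eq_zero] at h2
      exact h2
    have h5 : C ^ 1 = 1 := by
      have := pow_gcd_eq_one.mpr ⟨hC, h4⟩
      rwa [show r.gcd 4 = 1 from by
        rw [show (4 : ℕ) = 2 ^ 2 from rfl]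
        exact ((Nat.coprime_primes hr.out Nat.prime_two).mpr hr2).pow_right 2] at this
    refine hA1 (Matrix.map_injective φ.injective ?_)
    change C = (1 : Matrix (Fin 4) (Fin 4) F).map φ
    rw [Matrix.map_one φ (map_zero φ) (map_one φ), ← pow_one C, h5]
  have hlo : orderOf l = r := orderOf_eq_prime (hroot1 l hl) hl1
  have hlne : l ≠ 0 := fun e => by
    have := hroot1 l hl; rw [e, zero_pow hr.out.ne_zero] at this; exact zero_ne_one this
  have hmod : ∀ a b : ℕ, l ^ a = l ^ b ↔ a ≡ b [MOD r] := by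
    intro a b
    have h1 : orderOf (Units.mk0 l hlne) = r := by rw [← orderOf_units, Units.val_mk0]; exact hlo
    conv_rhs => rw [← h1]
    rw [← pow_eq_pow_iff_modEq, ← Units.val_inj, Units.val_pow_eq_pow_val, Units.val_pow_eq_pow_val,
      Units.val_mk0]
  set Rts : Finset K := (Finset.range 4).image fun j => l ^ q ^ j
  have hRts : ∀ x : K, χ.IsRoot x → x ∈ Rts := by
    have hsub : Rts ⊆ χ.roots.toFinset := by
      intro x hx
      obtain ⟨j, -, rfl⟩ := Finset.mem_image.mp hx
      rw [Multiset.mem_toFinset, Polynomial.mem_roots hχ0]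
      clear hx
      induction j with
      | zero => simpa using hl
      | succ j ih => rw [pow_succ, pow_mul]; exact hfrob _ ih
    have hcard : Rts.card = 4 := by
      rw [Finset.card_image_of_injOn, Finset.card_range]
      intro a ha b hb hab
      simp only [Finset.coe_range, Set.mem_Iio] at ha hb
      by_contra hne
      rcases lt_or_gt_of_ne hne with hlt | hlt
      · refine hq (b - a) (by omega) (by omega) ?_
        have h1 := (hmod _ _).mp hab
        have h2 : q ^ (4 - a) * q ^ a ≡ q ^ (4 - a) * q ^ b [MOD r] := h1.mul_left _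
        rw [← pow_add, ← pow_add, show 4 - a + a = 4 by omega,
          show 4 - a + b = 4 + (b - a) by omega, pow_add q 4] at h2
        exact ((hq4.mul_right _).symm.trans (h2.symm.trans hq4)).trans (by rfl) |> fun h => by
          simpa using h
      · refine hq (a - b) (by omega) (by omega) ?_
        have h1 := (hmod _ _).mp hab
        have h2 : q ^ (4 - b) * q ^ b ≡ q ^ (4 - b) * q ^ a [MOD r] := (h1.mul_left _).symm
        rw [← pow_add, ← pow_add, show 4 - b + b = 4 by omega,
          show 4 - b + a = 4 + (a - b) by omega, pow_add q 4] at h2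
        exact ((hq4.mul_right _).symm.trans (h2.symm.trans hq4)).trans (by rfl) |> fun h => by
          simpa using h
    intro x hx
    have heq : Rts = χ.roots.toFinset := by
      refine Finset.eq_of_subset_of_card_le hsub ?_
      rw [hcard, ← hdeg]
      exact le_trans (Multiset.toFinset_card_le _) (Polynomial.card_roots' χ)
    rw [heq, Multiset.mem_toFinset, Polynomial.mem_roots hχ0]
    exact hx
  have hli : χ.IsRoot (l ^ i) := by
    have h1 := hrootpow l i hl
    have h2 : (A ^ i).charpoly = A.charpoly := by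
      rw [← hi, Matrix.charpoly_mul_comm, ← mul_assoc, hBB, one_mul]
    have h3 : C ^ i = (A ^ i).map φ := by
      exact (map_pow φ.mapMatrix A i).symm
    rwa [h3, Matrix.charpoly_map, h2, ← hχ] at h1
  obtain ⟨j, -, hj⟩ := Finset.mem_image.mp (hRts _ hli)
  have h4 := ((hmod _ _).mp hj.symm).pow 4
  refine h4.trans ?_
  rw [← pow_mul, mul_comm, pow_mul]
  simpa using hq4.pow j

variable {F : Type} [Field F] [Fintype F] {m : ℕ} (P : Par F m)

include P

/-- Every element of odd prime order is normalised but not centralised by an involution. -/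
theorem exists_inverting {g : ↥(Sz F m)} {r : ℕ} [hr : Fact r.Prime] (hr2 : r ≠ 2)
    (hg : orderOf g = r) :
    ∃ t : ↥(Sz F m), t * t = 1 ∧ t * g * t⁻¹ ∈ zpowers g ∧ t * g * t⁻¹ ≠ g := by
  classical
  haveI : Fact (Nat.Prime 2) := ⟨Nat.prime_two⟩
  have hg1 : g ≠ 1 := fun e => hr.out.ne_one (by rw [← hg, e, orderOf_one])
  have hg2 : g * g ≠ 1 := fun e => hr2 ((Nat.prime_dvd_prime_iff_eq hr.out Nat.prime_two).mp
    (hg ▸ orderOf_dvd_of_pow_eq_one (by rw [pow_two]; exact e)))
  have hcyc : IsCyclic ↥(centralizer ({g} : Set ↥(Sz F m))) :=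
    (centralizer_cases P hg).resolve_left fun h => hr2 h.2
  have hnoinv : ∀ c : ↥(Sz F m), c * c = 1 → c * g = g * c → c = 1 := by
    intro c hc2 hcg
    by_contra hc1
    obtain ⟨T, hT⟩ := (show IsPGroup 2 ↥(zpowers c) from
      IsPGroup.of_card (n := 1) (by
        rw [Nat.card_zpowers, pow_one]
        exact orderOf_eq_prime (by rw [pow_two]; exact hc2) hc1)).exists_le_sylow
    obtain ⟨x, hx⟩ := sylow_conj P T
    have hcm : c ∈ (uSub P).map (MulAut.conj x).toMonoidHom := hx ▸ hT (mem_zpowers c)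
    obtain ⟨c', hc', rfl⟩ := hcm
    have h1 : x⁻¹ * g * x ∈ uSub P := centralizer_uSub P hc'
      (fun e => hc1 (by rw [e, map_one])) (by
        rw [mem_centralizer_singleton_iff]
        simp only [MulEquiv.coe_toMonoidHom, MulAut.conj_apply] at hcg
        calc x⁻¹ * g * x * c' = x⁻¹ * (g * (x * c' * x⁻¹)) * x := by group
          _ = x⁻¹ * ((x * c' * x⁻¹) * g) * x := by rw [hcg]
          _ = c' * (x⁻¹ * g * x) := by group)
    obtain ⟨j, hj⟩ := uSub_isPGroup P ⟨_, h1⟩
    have h2 : g ^ 2 ^ j = 1 := by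
      have h3 : (x⁻¹ * g * x⁻¹⁻¹) ^ 2 ^ j = x⁻¹ * g ^ 2 ^ j * x⁻¹⁻¹ := conj_pow
      rw [inv_inv] at h3
      have h4 : (x⁻¹ * g * x) ^ 2 ^ j = 1 := by simpa using congrArg Subtype.val hj
      rw [h4] at h3
      simpa using (conj_eq_one_iff (a := x⁻¹) (b := g ^ 2 ^ j)).mp (by rw [inv_inv]; exact h3.symm)
    exact hr2 ((Nat.prime_dvd_prime_iff_eq hr.out Nat.prime_two).mp
      (hr.out.dvd_of_dvd_pow (hg ▸ orderOf_dvd_of_pow_eq_one h2)))
  by_cases hfix : ∀ x : ↥(suzukiOvoid F m), g • x ≠ x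
  swap
  · push Not at hfix
    obtain ⟨x, hx⟩ := hfix
    -- a second fixed point
    obtain ⟨h, hh⟩ := to_inf P x
    have hs : h * g * h⁻¹ ∈ stabilizer ↥(Sz F m) (oInf F m) := by
      rw [mem_stabilizer_iff, ← hh, mul_smul, mul_smul, inv_smul_smul, hx]
    obtain ⟨a, b, k, e⟩ := (stab_oInf P).1 hs
    have hk : k ≠ 1 := by
      intro hk
      rw [hk, map_one, mul_one] at e
      obtain ⟨j, hj⟩ := uSub_isPGroup P ⟨_, a, b, e⟩
      have h2 : (h * g * h⁻¹) ^ 2 ^ j = 1 := by simpa using congrArg Subtype.val hj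
      rw [conj_pow, conj_eq_one_iff] at h2
      exact hr2 ((Nat.prime_dvd_prime_iff_eq hr.out Nat.prime_two).mp
        (hr.out.dvd_of_dvd_pow (hg ▸ orderOf_dvd_of_pow_eq_one h2)))
    set c := (k : F) ^ ee m with hc
    have hc1 : c + 1 ≠ 0 := fun h0 =>
      hk (Units.ext (pow_ee_eq_one P (by linear_combination h0 - two_eq P)))
    have hc2 : c ^ (ee m + 1) + 1 ≠ 0 := fun h0 =>
      hc1 (by rw [pow_ee_succ_eq_one P (k := c) (by linear_combination h0 - two_eq P)];
              exact add_self P 1)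
    set x0 := a / (c + 1)
    set y0 := (a ^ ee m * (c * x0) + b) / (c ^ (ee m + 1) + 1)
    have hconj : (sU P x0 y0)⁻¹ * (sU P a b * sH P k) * sU P x0 y0 = sH P k := by
      have h1 : sH P k * sU P x0 y0 = sU P (c * x0) (c ^ (ee m + 1) * y0) * sH P k := by
        rw [← sH_conj]; group
      rw [mul_assoc, inv_mul_eq_iff_eq_mul, mul_assoc, h1, ← mul_assoc, sU_mul]
      congr 1
      congr 1
      · simp only [x0]; field_simp; linear_combination c * a * two_eq P
      · simp only [y0]; field_simp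
        linear_combination c ^ (ee m + 1) * (a ^ ee m * c * x0 + b) * two_eq P
    set h' := (sU P x0 y0)⁻¹ * h
    have hh' : h' * g * h'⁻¹ = sH P k := by
      rw [← hconj, ← e]; simp only [h']; group
    have hgh : g = h'⁻¹ * sH P k * h' := by rw [← hh']; group
    refine ⟨h'⁻¹ * sW P * h', ?_, ?_, ?_⟩
    · calc h'⁻¹ * sW P * h' * (h'⁻¹ * sW P * h') = h'⁻¹ * (sW P * sW P) * h' := by group
        _ = 1 := by rw [sW_sq]; group
    · have hw : (sW P)⁻¹ = sW P := inv_eq_of_mul_eq_one_right (sW_sq P)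
      have e2 : h'⁻¹ * sW P * h' * g * (h'⁻¹ * sW P * h')⁻¹ = g⁻¹ := by
        rw [hgh]
        calc _ = h'⁻¹ * (sW P * sH P k * (sW P)⁻¹) * h' := by group
          _ = h'⁻¹ * (sH P k)⁻¹ * h' := by rw [hw, sW_conj, map_inv]
          _ = _ := by group
      rw [e2]; exact inv_mem (mem_zpowers g)
    · have hw : (sW P)⁻¹ = sW P := inv_eq_of_mul_eq_one_right (sW_sq P)
      have e2 : h'⁻¹ * sW P * h' * g * (h'⁻¹ * sW P * h')⁻¹ = g⁻¹ := by
        rw [hgh]
        calc _ = h'⁻¹ * (sW P * sH P k * (sW P)⁻¹) * h' := by group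
          _ = h'⁻¹ * (sH P k)⁻¹ * h' := by rw [hw, sW_conj, map_inv]
          _ = _ := by group
      rw [e2]
      exact fun e3 => hg2 (by nth_rewrite 1 [← e3]; exact inv_mul_cancel g)
  -- the fixed-point-free case
  set q := Fintype.card F
  have hrq : r ∣ q ^ 2 + 1 := by
    have hσ : (MulAction.toPermHom ↥(Sz F m) ↥(suzukiOvoid F m) g) ^ r ^ 1 = 1 := by
      rw [pow_one, ← map_pow, ← hg, pow_orderOf_eq_one, map_one]
    haveI : Fintype ↥(suzukiOvoid F m) := Fintype.ofFinite _
    have h := Equiv.Perm.card_compl_support_modEq hσ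
    have he : (MulAction.toPermHom ↥(Sz F m) ↥(suzukiOvoid F m) g).supportᶜ = ∅ := by
      ext x; simpa [Equiv.Perm.mem_support] using hfix x
    rw [he, Finset.card_empty, ← Nat.card_eq_fintype_card, card_ovoid] at h
    exact Nat.modEq_zero_iff_dvd.1 h.symm
  have hz : ((q : ZMod r)) ^ 2 = -1 := by
    have := (ZMod.natCast_eq_zero_iff _ _).2 hrq
    push_cast at this
    linear_combination this
  have hne : (1 : ZMod r) ≠ -1 := by
    intro e
    have h2 : ((2 : ℕ) : ZMod r) = 0 := by push_cast; linear_combination e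
    exact hr2 ((Nat.prime_dvd_prime_iff_eq hr.out Nat.prime_two).1 ((ZMod.natCast_eq_zero_iff _ _).1 h2))
  have hq4 : q ^ 4 ≡ 1 [MOD r] := by
    rw [← ZMod.natCast_eq_natCast_iff]
    push_cast
    linear_combination ((q : ZMod r) ^ 2 - 1) * hz
  have hq : ∀ j, 1 ≤ j → j < 4 → ¬ q ^ j ≡ 1 [MOD r] := by
    intro j hj1 hj4 h
    rw [← ZMod.natCast_eq_natCast_iff] at h
    push_cast at h
    interval_cases j
    · rw [pow_one] at h; rw [h, one_pow] at hz; exact hne hz
    · exact hne (h.symm.trans hz)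
    · refine hne ?_
      have e : (q : ZMod r) = -1 := by linear_combination -h + (q : ZMod r) * hz
      rw [e] at hz
      linear_combination hz
  set N := normalizer (zpowers g : Set ↥(Sz F m))
  haveI : CharP F 2 := P.hc
  have hfour : ∀ n ∈ N, n ^ 4 * g = g * n ^ 4 := by
    intro n hn
    obtain ⟨i, hi⟩ := mem_zpowers_iff.mp ((mem_normalizer_iff.mp hn g).mp (mem_zpowers g))
    obtain ⟨i', e'⟩ : ∃ i' : ℕ, g ^ i = g ^ i' := by
      obtain ⟨i', -, hi'⟩ := (isOfFinOrder_of_finite g).mem_zpowers_iff_mem_range_orderOf.mp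
        (zpow_mem (mem_zpowers g) i) |> Finset.mem_image.mp
      exact ⟨i', hi'.symm⟩
    let val : ↥(Sz F m) →* Matrix (Fin 4) (Fin 4) F :=
      { toFun := fun x => (x : Matrix.SpecialLinearGroup (Fin 4) F).1
        map_one' := rfl
        map_mul' := fun _ _ => rfl }
    have hval : Function.Injective val := fun a b e => Subtype.ext (Subtype.ext e)
    have h1 : i' ^ 4 ≡ 1 [MOD r] := by
      refine pow_four_fixed hr2 hq hq4 (val g) ?_ (fun e => hg1 (hval (e.trans val.map_one.symm)))
        (B := val n) (B' := val n⁻¹) (by rw [← map_mul, inv_mul_cancel, map_one]) ?_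
      · rw [← map_pow, ← hg, pow_orderOf_eq_one, map_one]
      · rw [← map_mul, ← map_mul, ← map_pow, ← e', hi]
    have key : ∀ d : ℕ, n ^ d * g * (n ^ d)⁻¹ = g ^ i' ^ d := by
      intro d
      induction d with
      | zero => simp
      | succ d ih =>
        calc n ^ (d + 1) * g * (n ^ (d + 1))⁻¹ = n * (n ^ d * g * (n ^ d)⁻¹) * n⁻¹ := by
              rw [pow_succ']; group
          _ = (n * g * n⁻¹) ^ i' ^ d := by rw [ih, conj_pow]
          _ = _ := by rw [← hi, e', ← pow_mul, pow_succ']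
    have h2 := key 4
    have h1' : i' ^ 4 ≡ 1 [MOD orderOf g] := by rw [hg]; exact h1
    rw [(pow_eq_pow_iff_modEq.mpr h1' : g ^ i' ^ 4 = g ^ 1), pow_one] at h2
    exact mul_inv_eq_iff_eq_mul.mp h2
  -- transfer
  obtain ⟨n, hnN, hnC⟩ : ∃ n ∈ N, n * g ≠ g * n := by
    by_contra hall
    push Not at hall
    obtain ⟨R, hR⟩ := (IsPGroup.of_card (n := 1) (by rw [Nat.card_zpowers, pow_one, hg]) :
      IsPGroup r ↥(zpowers g)).exists_le_sylow
    haveI := sylow_odd_cyclic P hr2 R
    have hNR : normalizer ((R : Subgroup ↥(Sz F m)) : Set ↥(Sz F m)) ≤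
        centralizer ((R : Subgroup ↥(Sz F m)) : Set ↥(Sz F m)) := by
      have hmem : ∀ n, n ∈ normalizer ((R : Subgroup ↥(Sz F m)) : Set ↥(Sz F m)) → n ∈ N := by
        intro n hn
        have hgR : g ∈ (R : Subgroup ↥(Sz F m)) := hR (mem_zpowers g)
        haveI : Fintype ↥(R : Subgroup ↥(Sz F m)) := Fintype.ofFinite _
        have huniq : ∀ x ∈ (R : Subgroup ↥(Sz F m)), x ^ r = 1 → x ∈ zpowers g := by
          intro x hx hxr
          have hle := IsCyclic.card_pow_eq_one_le (α := ↥(R : Subgroup ↥(Sz F m))) hr.out.pos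
          set T : Finset ↥(R : Subgroup ↥(Sz F m)) := Finset.univ.filter fun a => a ^ r = 1
          let U : Finset ↥(R : Subgroup ↥(Sz F m)) :=
            Finset.univ.filter fun a => (a : ↥(Sz F m)) ∈ zpowers g
          have hUT : U ⊆ T := by
            intro a ha
            simp only [U, T, Finset.mem_filter, Finset.mem_univ, true_and] at ha ⊢
            obtain ⟨i, hi⟩ := mem_zpowers_iff.mp ha
            refine Subtype.ext ?_
            have h1 : g ^ r = 1 := orderOf_dvd_iff_pow_eq_one.mp hg.dvd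
            rw [SubmonoidClass.coe_pow, ← hi, ← zpow_natCast, zpow_comm, zpow_natCast, h1,
              one_zpow]; rfl
          have hU : r ≤ U.card := by
            refine (Finset.card_range r).ge.trans ?_
            refine Finset.card_le_card_of_injOn (fun j => ⟨g ^ j, pow_mem hgR j⟩) ?_ ?_
            · intro j _
              simp only [U, Finset.coe_filter, Set.mem_setOf_eq, Finset.mem_univ, true_and]
              exact pow_mem (mem_zpowers g) j
            · intro a ha b hb hab
              exact pow_injOn_Iio_orderOf (by simpa [hg] using ha) (by simpa [hg] using hb)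
                (congrArg Subtype.val hab)
          have hEq := Finset.eq_of_subset_of_card_le hUT (hle.trans hU)
          have : (⟨x, hx⟩ : ↥(R : Subgroup ↥(Sz F m))) ∈ U := by
            rw [hEq]; simpa [T, Subtype.ext_iff] using hxr
          simpa [U] using this
        have hng : n * g * n⁻¹ ∈ zpowers g := huniq _ ((mem_normalizer_iff.mp hn g).mp hgR)
          (by rw [conj_pow, ← hg, pow_orderOf_eq_one]; group)
        have hmap : (zpowers g).map (MulAut.conj n).toMonoidHom = zpowers g := by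
          refine Subgroup.eq_of_le_of_card_ge ?_
            (by rw [Subgroup.card_map_of_injective (MulAut.conj n).injective])
          rw [MonoidHom.map_zpowers]
          exact zpowers_le.mpr hng
        rw [mem_normalizer_iff]
        intro x
        refine ⟨fun hx => hmap.le ⟨x, hx, rfl⟩, fun hx => ?_⟩
        obtain ⟨y, hy, hyx⟩ := hmap.ge hx
        exact ((MulAut.conj n).injective hyx) ▸ hy
      intro n hn
      rw [mem_centralizer_iff]
      intro x hx
      have hxC : x ∈ centralizer ({g} : Set ↥(Sz F m)) := by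
        obtain ⟨y, hy⟩ := IsCyclic.exists_generator (α := ↥(R : Subgroup ↥(Sz F m)))
        rw [mem_centralizer_singleton_iff]
        letI := IsCyclic.commGroup (α := ↥(R : Subgroup ↥(Sz F m)))
        exact congrArg Subtype.val (mul_comm (⟨x, hx⟩ : ↥(R : Subgroup ↥(Sz F m)))
          ⟨g, hR (mem_zpowers g)⟩)
      have hnC : n ∈ centralizer ({g} : Set ↥(Sz F m)) :=
        mem_centralizer_singleton_iff.mpr (hall n (hmem n hn))
      letI := IsCyclic.commGroup (α := ↥(centralizer ({g} : Set ↥(Sz F m))))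
      exact congrArg Subtype.val (mul_comm (⟨x, hxC⟩ : ↥(centralizer ({g} : Set ↥(Sz F m))))
        ⟨n, hnC⟩)
    have hcompl := MonoidHom.ker_transferSylow_isComplement' R hNR
    haveI := simple P
    rcases IsSimpleGroup.eq_bot_or_eq_top_of_normal _
      (inferInstance : (MonoidHom.transferSylow R hNR).ker.Normal) with e | e
    · rw [e, isComplement'_bot_left] at hcompl
      obtain ⟨j, hj⟩ := R.2 ⟨sU P 0 1, hcompl ▸ mem_top _⟩
      have h2 : sU P (0 : F) 1 ^ r ^ j = 1 := by simpa using congrArg Subtype.val hj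
      have h3 : sU P (0 : F) 1 ≠ 1 := fun e =>
        one_ne_zero (sU_inj P (e.trans (sU_zero P).symm)).2
      refine h3 (orderOf_eq_one_iff.mp (Nat.eq_one_of_dvd_coprimes
        (((Nat.coprime_primes hr.out Nat.prime_two).mpr hr2).pow j 1)
        (orderOf_dvd_of_pow_eq_one h2) (orderOf_dvd_of_pow_eq_one ?_)))
      rw [pow_one, pow_two, sU_mul, add_zero, add_self P, zero_pow (ee_ne m), zero_mul, add_zero,
        sU_zero]
    · rw [e, isComplement'_top_left] at hcompl
      exact hg1 (by simpa [hcompl] using hR (mem_zpowers g))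
  have hcpow : ∀ j : ℕ, 2 ≤ j → n ^ 2 ^ j * g = g * n ^ 2 ^ j := by
    intro j hj
    obtain ⟨i, rfl⟩ := Nat.exists_eq_add_of_le hj
    rw [pow_add, pow_mul]
    exact ((show Commute (n ^ 4) g from hfour n hnN).pow_left _).eq
  obtain ⟨a, b, hb, hab⟩ := Nat.exists_eq_two_pow_mul_odd (orderOf_pos n).ne'
  have hn0 : (n ^ b) * g ≠ g * n ^ b := by
    intro e
    have h1 : Commute (n ^ b) g := e
    have h2 : Commute (n ^ 4) g := hfour n hnN
    obtain ⟨u, w, huw⟩ : ∃ u w : ℤ, (b : ℤ) * u + 4 * w = 1 := by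
      have hg4 : Int.gcd (b : ℤ) 4 = 1 := by
        rw [show (4 : ℤ) = ((4 : ℕ) : ℤ) from rfl, Int.gcd_natCast_natCast b 4,
          show (4 : ℕ) = 2 ^ 2 from rfl]
        exact (Nat.coprime_two_right.mpr hb).pow_right 2
      refine ⟨Int.gcdA b 4, Int.gcdB b 4, ?_⟩
      rw [← Int.gcd_eq_gcd_ab, hg4]; rfl
    have h3 : Commute n g := by
      have h4 := (h1.zpow_left u).mul_left (h2.zpow_left w)
      rwa [← zpow_natCast, ← zpow_natCast, ← zpow_mul, ← zpow_mul, ← zpow_add,
        show ((b : ℕ) : ℤ) * u + ((4 : ℕ) : ℤ) * w = 1 from huw, zpow_one] at h4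
    exact hnC h3.eq
  set t₀ := n ^ b
  have ht0 : t₀ ^ 2 ^ a = 1 := by
    rw [← pow_mul, mul_comm, ← hab, pow_orderOf_eq_one]
  have hex : ∃ j : ℕ, t₀ ^ 2 ^ (j + 1) * g = g * t₀ ^ 2 ^ (j + 1) :=
    ⟨a, by rw [pow_succ, pow_mul, ht0, one_pow, one_mul, mul_one]⟩
  classical
  set j := Nat.find hex
  have hj : t₀ ^ 2 ^ j * g ≠ g * t₀ ^ 2 ^ j := by
    rcases Nat.eq_zero_or_pos j with h0 | h0
    · rw [h0, pow_zero, pow_one]; exact hn0
    · obtain ⟨i, hi⟩ := Nat.exists_eq_succ_of_ne_zero h0.ne'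
      rw [hi]; exact Nat.find_min hex (show i < Nat.find hex by omega)
  set t := t₀ ^ 2 ^ j
  have ht2 : t * t = 1 := by
    have h1 : (t * t) * g = g * (t * t) := by
      have := Nat.find_spec hex
      rwa [pow_succ, pow_mul, pow_two] at this
    have h2 : (t * t) ^ 2 ^ a = 1 := by
      rw [← pow_two, ← pow_mul, ← pow_mul,
        show 2 ^ j * (2 * 2 ^ a) = 2 ^ a * (2 * 2 ^ j) by ring, pow_mul, ht0, one_pow]
    -- a nontrivial `2`-element commuting with `g` would give such an involution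
    by_contra h3
    obtain ⟨i, -, hi⟩ := (Nat.dvd_prime_pow Nat.prime_two).mp (orderOf_dvd_of_pow_eq_one h2)
    rcases i with _ | i
    · exact h3 (orderOf_eq_one_iff.mp (by simpa using hi))
    have h4 := hnoinv ((t * t) ^ 2 ^ i)
      (by rw [← pow_add, ← two_mul, ← pow_succ', ← hi, pow_orderOf_eq_one])
      ((show Commute (t * t) g from h1).pow_left _).eq
    exact pow_ne_one_of_lt_orderOf (by positivity)
      (by rw [hi]; exact Nat.pow_lt_pow_right one_lt_two (Nat.lt_succ_self i)) h4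
  refine ⟨t, ht2, (mem_normalizer_iff.mp (pow_mem (pow_mem hnN _) _) g).mp (mem_zpowers g), ?_⟩
  exact fun e => hj (mul_inv_eq_iff_eq_mul.mp e)

/-- The central involutions of the standard Sylow subgroup, with `1`. -/
def centerSub : Subgroup ↥(Sz F m) where
  carrier := Set.range (sU P (0 : F))
  one_mem' := ⟨0, sU_zero P⟩
  mul_mem' := by
    rintro _ _ ⟨a, rfl⟩ ⟨b, rfl⟩
    exact ⟨a + b, by rw [sU_mul, add_zero, zero_pow (ee_ne m), zero_mul, add_zero]⟩
  inv_mem' := by
    rintro _ ⟨a, rfl⟩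
    exact ⟨a, by rw [sU_inv, zero_pow (Nat.succ_ne_zero _), add_zero]⟩

theorem card_centerSub : Nat.card ↥(centerSub P) = Nat.card F :=
  Nat.card_range_of_injective (f := sU P (0 : F)) fun _ _ h => (sU_inj P h).2

theorem centerSub_le : centerSub P ≤ uSub P := by
  rintro _ ⟨b, rfl⟩; exact ⟨0, b, rfl⟩

theorem mem_centerSub {x : ↥(Sz F m)} (hx : x ∈ uSub P) (h2 : x * x = 1) : x ∈ centerSub P := by
  obtain ⟨a, b, rfl⟩ := hx
  rw [sU_mul, ← sU_zero P] at h2
  obtain ⟨-, h3⟩ := sU_inj P h2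
  rw [add_self P, zero_add, ← pow_succ] at h3
  exact ⟨b, by rw [eq_zero_of_pow_eq_zero h3]⟩

theorem exists_conj_centerSub [Fact (Nat.Prime 2)] (Z : Subgroup ↥(Sz F m))
    (he : ∀ a ∈ Z, a * a = 1) :
    ∃ c : ↥(Sz F m), Z.map (MulAut.conj c).toMonoidHom ≤ centerSub P := by
  obtain ⟨T, hT⟩ := (show IsPGroup 2 ↥Z from fun a => ⟨1, Subtype.ext (by
    simpa [pow_two] using he a.1 a.2)⟩).exists_le_sylow
  obtain ⟨x, hx⟩ := sylow_conj P T
  refine ⟨x⁻¹, ?_⟩
  rintro _ ⟨a, ha, rfl⟩
  simp only [MulEquiv.coe_toMonoidHom, MulAut.conj_apply, inv_inv]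
  obtain ⟨a', ha', rfl⟩ := hx.le (hT ha)
  simp only [MulEquiv.coe_toMonoidHom, MulAut.conj_apply] at ha ⊢
  have e : x⁻¹ * (x * a' * x⁻¹) * x = a' := by group
  rw [e]
  refine mem_centerSub P ha' ((conj_eq_one_iff (a := x)).mp ?_)
  rw [show x * (a' * a') * x⁻¹ = (x * a' * x⁻¹) * (x * a' * x⁻¹) by group]
  exact he _ ha

theorem isRoot_centerSub : IsRoot (centerSub P) := by
  rintro s _ ⟨b, rfl⟩ hz1 hzn
  set z' := s⁻¹ * sU P 0 b * s
  have hstab : ∀ x : ↥(Sz F m), x ∈ normalizer (centerSub P : Set ↥(Sz F m)) →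
      x • oInf F m = oInf F m := by
    intro x hx
    have h1 : x⁻¹ * sU P 0 1 * x ∈ centerSub P := by
      have h2 := (mem_normalizer_iff.mp (inv_mem hx) (sU P 0 1)).mp ⟨1, rfl⟩
      simpa using h2
    have h3 : (x⁻¹ * sU P 0 1 * x) • oInf F m = oInf F m := uSub_fix P (centerSub_le P h1)
    rw [mul_smul, mul_smul, inv_smul_eq_iff] at h3
    exact uSub_only_fix P ⟨0, 1, rfl⟩
      (fun e => one_ne_zero (sU_inj P (e.trans (sU_zero P).symm)).2) h3
  have hmem : z' ∈ normalizer (centerSub P : Set ↥(Sz F m)) := by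
    rw [mem_normalizer_iff]
    intro x
    have h2 := mem_normalizer_iff.mp hzn (s * x * s⁻¹)
    rw [CfsgLib.Core.mem_conj_smul, CfsgLib.Core.mem_conj_smul] at h2
    simpa [z', mul_assoc] using h2
  have hz2 : z' * z' = 1 := by
    calc z' * z' = s⁻¹ * (sU P 0 b * sU P 0 b) * s := by simp only [z']; group
      _ = 1 := by
        rw [sU_mul, add_zero, add_self P, zero_pow (ee_ne m), zero_mul, add_zero, sU_zero]; group
  have hzu : z' ∈ uSub P := by
    obtain ⟨c, d, k, e⟩ := (stab_oInf P).1 (mem_stabilizer_iff.mpr (hstab _ hmem))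
    have h1 : sU P c d * sH P k * (sU P c d * sH P k) = sU P 0 0 * sH P 1 := by
      rw [← e, hz2, sU_zero, map_one, one_mul]
    have h2 : sU P c d * sH P k * (sU P c d * sH P k) =
        sU P c d * (sH P k * sU P c d * (sH P k)⁻¹) * sH P (k * k) := by rw [map_mul]; group
    rw [h2, sH_conj, sU_mul] at h1
    obtain ⟨-, -, hk⟩ := UH_inj P h1
    have hk1 : k = 1 := by
      refine Units.ext ?_
      have h3 : (k : F) * k = 1 := by simpa using congrArg Units.val hk
      rcases mul_self_eq_one_iff.1 h3 with h | h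
      · exact h
      · rw [h, Units.val_one]; linear_combination -two_eq P
    rw [hk1, map_one, mul_one] at e
    exact ⟨c, d, e⟩
  have hsfix : s • oInf F m = oInf F m := by
    refine uSub_only_fix P ⟨0, b, rfl⟩ hz1 ?_
    have h1 : z' • oInf F m = oInf F m := uSub_fix P hzu
    simp only [z'] at h1
    rwa [mul_smul, mul_smul, inv_smul_eq_iff] at h1
  obtain ⟨c, d, k, rfl⟩ := (stab_oInf P).1 (mem_stabilizer_iff.mpr hsfix)
  have key : ∀ x ∈ centerSub P,
      sU P c d * sH P k * x * (sU P c d * sH P k)⁻¹ ∈ centerSub P := by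
    rintro _ ⟨e, rfl⟩
    rw [show sU P c d * sH P k * sU P 0 e * (sU P c d * sH P k)⁻¹ =
      sU P c d * (sH P k * sU P 0 e * (sH P k)⁻¹) * (sU P c d)⁻¹ by group, sH_conj, mul_zero,
      sU_inv, sU_mul, sU_mul]
    refine mem_centerSub P ⟨_, _, rfl⟩ ?_
    rw [add_zero, add_self P, sU_mul, add_zero, add_self P, zero_pow (ee_ne m), zero_mul,
      add_zero, sU_zero]
  have hmap : (centerSub P).map (MulAut.conj (sU P c d * sH P k)).toMonoidHom = centerSub P := by
    refine Subgroup.eq_of_le_of_card_ge ?_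
      (by rw [Subgroup.card_map_of_injective (MulAut.conj _).injective])
    rintro _ ⟨x, hx, rfl⟩
    exact key x hx
  rw [mem_normalizer_iff]
  intro x
  refine ⟨key x, fun hx => ?_⟩
  obtain ⟨y, hy, hyx⟩ := hmap.ge hx
  exact ((MulAut.conj _).injective hyx) ▸ hy

omit P in
/-- Elements of odd prime order act without fixed points. -/
theorem Setup.free_sz {K : Type u} [Group K] [Finite K] {π : K →* ↥(Sz F m)} {Y N : Subgroup K}
    (P : Par F m) (h : Setup π.ker Y N) (hπ : Function.Surjective π) (hP : IsPGroup 2 π.ker)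
    (hY : ∀ y ∈ Y, y * y = 1) (hZ : Y.map π = centerSub P) {g : ↥(Sz F m)} {r : ℕ}
    [hr : Fact r.Prime] (hr2 : r ≠ 2) (hg : orderOf g = r) : Free π g := by
  haveI : Fact (Nat.Prime 2) := ⟨Nat.prime_two⟩
  obtain ⟨t, ht2, htg, htg'⟩ := exists_inverting P hr2 hg
  obtain ⟨c, hc⟩ := exists_conj_centerSub P (zpowers t) (fun a ha => by
    obtain ⟨i, rfl⟩ := mem_zpowers_iff.mp ha
    rw [← zpow_add, ← two_mul, zpow_mul, zpow_two, ht2, one_zpow])
  refine Free.of_conj hπ (c := c) ?_
  obtain ⟨y, hy, hyt⟩ : c * t * c⁻¹ ∈ Y.map π := by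
    rw [hZ]; exact hc ⟨t, mem_zpowers t, rfl⟩
  intro k hk x hx hkx
  have hR : IsRoot (Y.map π) := hZ ▸ isRoot_centerSub P
  have hn : ¬ (Y.map π).Normal := by
    intro hn
    haveI := simple P
    rcases IsSimpleGroup.eq_bot_or_eq_top_of_normal _ hn with e | e
    · have := Fintype.one_lt_card (α := F)
      have h1 := card_centerSub P
      rw [← hZ, e, Subgroup.card_bot, Nat.card_eq_fintype_card] at h1
      omega
    · have h1 : sU P (1 : F) 0 ∈ centerSub P := by rw [← hZ, e]; exact mem_top _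
      obtain ⟨b, hb⟩ := h1
      exact zero_ne_one (sU_inj P hb).1
  have e2 : π (y * k * y⁻¹) = c * (t * g * t⁻¹) * c⁻¹ := by
    rw [map_mul, map_mul, map_inv, hyt, hk]; group
  refine h.free_of_involution hπ hP hR hn (fun a => ⟨1, Subtype.ext ?_⟩) hy ?_ ?_ ?_ ?_ hx hkx
  · simpa [pow_two] using hY a.1 a.2
  · rw [hY y hy]; exact one_mem _
  · rw [hk, ← MulAut.conj_apply, MulEquiv.orderOf_eq, hg]
    exact (Nat.coprime_primes hr.out Nat.prime_two).mpr hr2
  · rw [e2, hk]
    obtain ⟨i, hi⟩ := mem_zpowers_iff.mp htg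
    exact mem_zpowers_iff.mpr ⟨i, by rw [conj_zpow, hi]⟩
  · rw [e2, hk]
    exact fun e => htg' (mul_left_cancel (mul_right_cancel e))

end CfsgLib.Local.FrakL
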