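import Cfsg.Agent.Lib.LocalFrakLSL2
import Cfsg.Agent.Lib.LocalFrakLSuzuki

/-!
The normal elementary abelian `p`-subgroups of the normalizer of `π(Y)`.
-/

set_option autoImplicit false
set_option linter.style.haveILetI false

open Subgroup MulAction
open scoped Pointwise Matrix

namespace CfsgLib.Local.FrakL

open CfsgLib.Dickson

universe u v

/-- `Z` is the only nontrivial elementary abelian normal `p`-subgroup of its normalizer. -/
def UniqueElem {S : Type v} [Group S] (p : ℕ) (Z : Subgroup S) : Prop :=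
  ∀ V : Subgroup S, V ≤ normalizer (Z : Set S) → normalizer (Z : Set S) ≤ normalizer (V : Set S) →
    (∀ a ∈ V, ∀ b ∈ V, a * b = b * a) → (∀ a ∈ V, a ^ p = 1) → V ≠ ⊥ → V = Z

theorem UniqueElem.of_conj {S : Type v} [Group S] {p : ℕ} {Z : Subgroup S} (c : S)
    (h : UniqueElem p (Z.map (MulAut.conj c).toMonoidHom)) : UniqueElem p Z := by
  intro V hV hVn hc he hne
  set f := MulAut.conj c
  have hnorm : ∀ X : Subgroup S,
      normalizer ((X.map f.toMonoidHom : Subgroup S) : Set S) =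
        (normalizer (X : Set S)).map f.toMonoidHom := fun X =>
    (Subgroup.map_equiv_normalizer_eq X f).symm
  refine Subgroup.map_injective f.injective (h _ ?_ ?_ ?_ ?_ ?_)
  · rw [hnorm]; exact Subgroup.map_mono hV
  · rw [hnorm, hnorm]; exact Subgroup.map_mono hVn
  · rintro _ ⟨a, ha, rfl⟩ _ ⟨b, hb, rfl⟩; rw [← map_mul, ← map_mul, hc a ha b hb]
  · rintro _ ⟨a, ha, rfl⟩; rw [← map_pow, he a ha, map_one]
  · exact fun e => hne ((Subgroup.map_eq_bot_iff_of_injective _ f.injective).mp e)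

theorem unique_two {K : Type u} [Group K] {S : Type v} [Group S] [Finite S] {π : K →* S}
    {Y N : Subgroup K} (h : Setup π.ker Y N) (hπ : Function.Surjective π)
    (hY : ∀ y ∈ Y, y * y = 1) (hcard : Nat.card (Y.map π) = 2) (hne : Y.map π ≠ ⊤) :
    UniqueElem 2 (Y.map π) := by
  obtain ⟨y, x, hy, hz1, hyx, hD⟩ := h.dihedral hπ hY hcard hne
  have hy2 : π y * π y = 1 := by rw [← map_mul, hY y hy, map_one]
  -- `x` is an even power of itself
  let D₂ : Subgroup S :=
    { carrier := {g | ∃ i : ℤ, g = x ^ (2 * i) ∨ g = x ^ (2 * i) * π y}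
      one_mem' := ⟨0, Or.inl (by simp)⟩
      mul_mem' := by
        rintro _ _ ⟨i, rfl | rfl⟩ ⟨j, rfl | rfl⟩
        · exact ⟨i + j, Or.inl (by rw [mul_add, zpow_add])⟩
        · exact ⟨i + j, Or.inr (by rw [mul_add, zpow_add, mul_assoc])⟩
        · refine ⟨i - j, Or.inr ?_⟩
          calc x ^ (2 * i) * π y * x ^ (2 * j)
              = x ^ (2 * i) * (π y * x ^ (2 * j) * π y) * π y := by
                simp only [mul_assoc, hy2, mul_one]
            _ = _ := by rw [hyx, ← zpow_add, mul_sub, sub_eq_add_neg]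
        · refine ⟨i - j, Or.inl ?_⟩
          calc x ^ (2 * i) * π y * (x ^ (2 * j) * π y)
              = x ^ (2 * i) * (π y * x ^ (2 * j) * π y) := by simp only [mul_assoc]
            _ = _ := by rw [hyx, ← zpow_add, mul_sub, sub_eq_add_neg]
      inv_mem' := by
        rintro _ ⟨i, rfl | rfl⟩
        · exact ⟨-i, Or.inl (by rw [← zpow_neg, mul_neg])⟩
        · refine ⟨i, Or.inr ?_⟩
          rw [_root_.mul_inv_rev, inv_eq_of_mul_eq_one_right hy2, ← zpow_neg, ← hyx (2 * i)]
          simp only [← mul_assoc, hy2, one_mul] }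
  have hclosed : ∀ g : S, ∀ a ∈ D₂, g * a * g⁻¹ ∈ D₂ := by
    intro g a ha
    obtain ⟨j, hj | hj⟩ := ha <;> obtain ⟨i, rfl | rfl⟩ := hD g
    · exact ⟨j, Or.inl (by rw [hj]; group)⟩
    · refine ⟨-j, Or.inl ?_⟩
      rw [hj, _root_.mul_inv_rev, inv_eq_of_mul_eq_one_right hy2]
      calc x ^ i * π y * x ^ (2 * j) * (π y * (x ^ i)⁻¹)
          = x ^ i * (π y * x ^ (2 * j) * π y) * (x ^ i)⁻¹ := by simp only [mul_assoc]
        _ = _ := by rw [hyx, ← zpow_neg, ← zpow_add, ← zpow_add]; congr 1; ring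
    · refine ⟨i + j, Or.inr ?_⟩
      rw [hj]
      calc x ^ i * (x ^ (2 * j) * π y) * (x ^ i)⁻¹
          = x ^ i * x ^ (2 * j) * (π y * x ^ (-i) * π y) * π y := by
            rw [zpow_neg]; simp only [mul_assoc, hy2, mul_one]
        _ = _ := by rw [hyx, ← zpow_add, ← zpow_add]; congr 2; ring
    · refine ⟨i - j, Or.inr ?_⟩
      rw [hj, _root_.mul_inv_rev, inv_eq_of_mul_eq_one_right hy2]
      calc x ^ i * π y * (x ^ (2 * j) * π y) * (π y * (x ^ i)⁻¹)
          = x ^ i * (π y * x ^ (2 * j) * π y) * (π y * x ^ (-i) * π y) * π y := by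
            rw [zpow_neg]; simp only [mul_assoc, hy2, mul_one]
        _ = _ := by rw [hyx, hyx, ← zpow_add, ← zpow_add]; congr 2; ring
  have hn₂ : D₂.Normal := ⟨fun a ha g => hclosed g a ha⟩
  have htop : ∀ g : S, g ∈ D₂ := by
    intro g
    haveI := hn₂
    obtain ⟨k, rfl⟩ := hπ g
    refine (Subgroup.normalClosure_le_normal (N := D₂.comap π) ?_) (h.closure.ge (mem_top k))
    intro a ha
    by_cases ha1 : π a = 1
    · show π a ∈ D₂
      rw [ha1]; exact D₂.one_mem
    · show π a ∈ D₂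
      rw [two_cases hcard (mem_map_of_mem π ha) ha1 (mem_map_of_mem π hy) hz1]
      exact ⟨0, Or.inr (by simp)⟩
  have hodd : ∀ i : ℤ, x ^ (2 * i) = 1 → x ^ i = 1 := by
    intro i hi
    obtain ⟨j, hj | hj⟩ := htop x
    · rw [hj, ← zpow_mul, show 2 * j * i = 2 * i * j by ring, zpow_mul, hi, one_zpow]
    · have e : π y = x ^ (1 - 2 * j) := by
        calc π y = x ^ (-(2 * j)) * (x ^ (2 * j) * π y) := by rw [zpow_neg, inv_mul_cancel_left]
          _ = x ^ (-(2 * j)) * x := by rw [← hj]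
          _ = _ := by rw [← zpow_add_one]; congr 1; ring
      have h1 : x * x = 1 := by
        have h2 := hyx 1
        rw [zpow_one, zpow_neg_one, e] at h2
        have h3 : x ^ (1 - 2 * j) * x * x ^ (1 - 2 * j) =
            x ^ (1 - 2 * j) * x ^ (1 - 2 * j) * x := by
          rw [mul_assoc, mul_assoc, ← zpow_one_add, ← zpow_add_one]; congr 1; rw [add_comm]
        rw [h3, ← e, hy2, one_mul] at h2
        nth_rewrite 1 [h2]; exact inv_mul_cancel x
      have h4 : x ^ (2 * j) = 1 := by rw [zpow_mul, zpow_two, h1, one_zpow]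
      have h5 : π y = x := by rw [e, zpow_sub, zpow_one, h4, inv_one, mul_one]
      rw [h4, one_mul] at hj
      -- the group is then cyclic of order two
      exfalso
      refine hne (eq_top_iff.mpr fun g _ => ?_)
      obtain ⟨l, rfl | rfl⟩ := hD g
      · exact zpow_mem (h5 ▸ mem_map_of_mem π hy) l
      · exact mul_mem (zpow_mem (h5 ▸ mem_map_of_mem π hy) l) (mem_map_of_mem π hy)
  intro V hV _ _ _ hVne
  set Z := Y.map π
  have hz : π y ∈ Z := mem_map_of_mem π hy
  have hW : ∀ g ∈ normalizer (Z : Set S), g ∈ Z := by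
    intro g hg
    have hcg : g * π y * g⁻¹ = π y :=
      two_cases hcard ((mem_normalizer_iff.mp hg _).mp hz)
        (fun e => hz1 (conj_eq_one_iff.mp e)) hz hz1
    obtain ⟨i, rfl | rfl⟩ := hD g
    · have h1 : π y * x ^ i * π y = x ^ i := by
        calc π y * x ^ i * π y = π y * (x ^ i * π y) := by rw [mul_assoc]
          _ = π y * (π y * x ^ i) := by rw [mul_inv_eq_iff_eq_mul.mp hcg]
          _ = x ^ i := by rw [← mul_assoc, hy2, one_mul]
      rw [hyx] at h1
      have h2 : x ^ (2 * i) = 1 := by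
        rw [two_mul, zpow_add]; nth_rewrite 1 [← h1]
        rw [← zpow_add, neg_add_cancel, zpow_zero]
      rw [hodd i h2]; exact Z.one_mem
    · have hcg' := mul_inv_eq_iff_eq_mul.mp hcg
      have h1 : π y * x ^ i * π y = x ^ i := by
        calc π y * x ^ i * π y = π y * (x ^ i * π y) := by rw [mul_assoc]
          _ = x ^ i * π y * π y := hcg'.symm
          _ = x ^ i := by rw [mul_assoc, hy2, mul_one]
      rw [hyx] at h1
      have h2 : x ^ (2 * i) = 1 := by
        rw [two_mul, zpow_add]; nth_rewrite 1 [← h1]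
        rw [← zpow_add, neg_add_cancel, zpow_zero]
      rw [hodd i h2, one_mul]; exact hz
  refine Subgroup.eq_of_le_of_card_ge (fun a ha => hW a (hV ha)) ?_
  rw [hcard]
  exact (Subgroup.one_lt_card_iff_ne_bot V).mpr hVne

theorem unique_upper {F : Type} [Field F] [Finite F] {p : ℕ} [hp : Fact p.Prime] [CharP F p] :
    UniqueElem p (upperSub F) := by
  intro V hV hVn _ he hne
  have hup : ∀ a ∈ V, ∃ b, upperU b = a := by
    intro a ha
    have h3 := ut_of_normalizer (hV ha)
    have htr := trace_of_pow (p := p) (g := a) (k := 1) (by rw [pow_one]; exact he a ha)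
    have hd := det_eq a
    rw [h3, mul_zero, sub_zero] at hd
    have h00 : a.1 0 0 = 1 := by
      have h5 : (a.1 0 0 - 1) ^ 2 = 0 := by linear_combination (a.1 0 0) * htr - hd
      exact sub_eq_zero.mp (eq_zero_of_pow_eq_zero h5)
    refine ⟨a.1 0 1, ?_⟩
    apply sl_ext <;> simp [coe_upperU, h3, h00]
    linear_combination h00 - htr
  obtain ⟨a, ha, ha1⟩ := (Subgroup.bot_or_exists_ne_one V).resolve_left hne
  obtain ⟨b, rfl⟩ := hup a ha
  have hb : b ≠ 0 := fun e => ha1 (e ▸ upperU_zero)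
  -- the torus multiplies by squares
  have hsq : ∀ t : F, upperU (t ^ 2 * b) ∈ V := by
    intro t
    by_cases ht : t = 0
    · rw [ht]; simp [upperU_zero]
    obtain ⟨d, hd⟩ : ∃ d : SL F, d.1 = !![t, 0; 0, t⁻¹] :=
      ⟨⟨_, by rw [Matrix.det_fin_two_of]; simp [ht]⟩, rfl⟩
    have hdn := hVn (normalizer_of_ut (s := d) (by simp [hd]))
    have e : d * upperU b * d⁻¹ = upperU (t ^ 2 * b) := by
      rw [mul_inv_eq_iff_eq_mul]
      apply sl_ext <;> simp [mul_val, coe_upperU, hd, Matrix.mul_apply, Fin.sum_univ_two]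
      field_simp
    exact e ▸ (mem_normalizer_iff.mp hdn _).mp ha
  refine le_antisymm (fun x hx => ?_) ?_
  · obtain ⟨c, rfl⟩ := hup x hx; exact ⟨c, rfl⟩
  rintro _ ⟨c, rfl⟩
  by_cases hp2 : p = 2
  · subst hp2
    haveI : Fintype F := Fintype.ofFinite F
    obtain ⟨t, ht⟩ := FiniteField.isSquare_of_char_two
      (ringChar.eq F 2) (c / b)
    have := hsq t
    rwa [show t ^ 2 * b = c by rw [pow_two, ← ht, div_mul_cancel₀ c hb]] at this
  · have h2 := two_ne_zero_of_char (F := F) hp2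
    have := mul_mem (hsq ((c / b + 1) / 2)) (inv_mem (hsq ((c / b - 1) / 2)))
    have hi : ∀ d : F, (upperU d)⁻¹ = upperU (-d) := fun d =>
      inv_eq_of_mul_eq_one_right (by rw [upperU_add, add_neg_cancel, upperU_zero])
    rw [hi, upperU_add] at this
    have e : ((c / b + 1) / 2) ^ 2 * b + -(((c / b - 1) / 2) ^ 2 * b) = c := by
      field_simp; ring
    rwa [e] at this

open CfsgLib.Lie.SzOvoid Cfsg in
theorem unique_centerSub {F : Type} [Field F] [Fintype F] {m : ℕ} (P : Par F m) :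
    UniqueElem 2 (centerSub P) := by
  classical
  intro V hV hVn _ he hne
  have hV' : ∀ a ∈ V, a ∈ centerSub P := by
    intro a ha
    have hst : a • oInf F m = oInf F m := by
      have hx := hV ha
      have h1 : a⁻¹ * sU P 0 1 * a ∈ centerSub P := by
        have h2 := (mem_normalizer_iff.mp (inv_mem hx) (sU P 0 1)).mp ⟨1, rfl⟩
        simpa using h2
      have h3 : (a⁻¹ * sU P 0 1 * a) • oInf F m = oInf F m := uSub_fix P (centerSub_le P h1)
      rw [mul_smul, mul_smul, inv_smul_eq_iff] at h3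
      exact uSub_only_fix P ⟨0, 1, rfl⟩
        (fun e => one_ne_zero (sU_inj P (e.trans (sU_zero P).symm)).2) h3
    obtain ⟨c, d, k, e⟩ := (stab_oInf P).1 (mem_stabilizer_iff.mpr hst)
    have hz2 : a * a = 1 := by simpa [pow_two] using he a ha
    have h1 : sU P c d * sH P k * (sU P c d * sH P k) = sU P 0 0 * sH P 1 := by
      rw [← e, hz2, sU_zero, map_one, one_mul]
    have h2 : sU P c d * sH P k * (sU P c d * sH P k) =
        sU P c d * (sH P k * sU P c d * (sH P k)⁻¹) * sH P (k * k) := by rw [map_mul]; group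
    rw [h2, sH_conj, sU_mul] at h1
    obtain ⟨-, -, hk⟩ := UH_inj P h1
    have hk1 : k = 1 := by
      refine Units.ext ?_
      have h3 : (k : F) * k = 1 := by simpa using congrArg Units.val hk
      rcases mul_self_eq_one_iff.1 h3 with h | h
      · exact h
      · rw [h, Units.val_one]; linear_combination -two_eq P
    rw [hk1, map_one, mul_one] at e
    exact mem_centerSub P ⟨c, d, e⟩ hz2
  obtain ⟨a, ha, ha1⟩ := (Subgroup.bot_or_exists_ne_one V).resolve_left hne
  obtain ⟨b, rfl⟩ := hV' a ha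
  have hb : b ≠ 0 := fun e => ha1 (e ▸ sU_zero P)
  have hinj : Function.Injective fun k : Fˣ => (((k : F) ^ ee m) ^ (ee m + 1)) := by
    intro k l h
    have hl : ((l : F) ^ ee m) ^ (ee m + 1) ≠ 0 := pow_ne_zero _ (pow_ne_zero _ l.ne_zero)
    have h1 : (((k / l : Fˣ) : F) ^ ee m) ^ (ee m + 1) = 1 := by
      rw [Units.val_div_eq_div_val, div_pow, div_pow, div_eq_one_iff_eq hl]; exact h
    exact div_eq_one.mp (Units.ext (pow_ee_eq_one P (pow_ee_succ_eq_one P h1)))
  have hsurj : ∀ c : F, c ≠ 0 → ∃ k : Fˣ, ((k : F) ^ ee m) ^ (ee m + 1) = c := by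
    intro c hc
    obtain ⟨k, hk⟩ := (Finite.injective_iff_surjective (f := fun k : Fˣ =>
      Units.mk0 _ (pow_ne_zero (ee m + 1) (pow_ne_zero (ee m) k.ne_zero)))).mp
      (fun k l h => hinj (congrArg Units.val h)) (Units.mk0 c hc)
    exact ⟨k, congrArg Units.val hk⟩
  refine le_antisymm hV' ?_
  rintro _ ⟨c, rfl⟩
  by_cases hc : c = 0
  · rw [hc, sU_zero]; exact one_mem _
  obtain ⟨k, hk⟩ := hsurj (c / b) (div_ne_zero hc hb)
  have hkn : sH P k ∈ normalizer (centerSub P : Set ↥(Sz F m)) := by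
    rw [mem_normalizer_iff]
    have key : ∀ (l : Fˣ), ∀ x ∈ centerSub P, sH P l * x * (sH P l)⁻¹ ∈ centerSub P := by
      rintro l _ ⟨e, rfl⟩
      exact ⟨((l : F) ^ ee m) ^ (ee m + 1) * e, by rw [sH_conj, mul_zero]⟩
    intro x
    refine ⟨key k x, fun hx => ?_⟩
    have := key k⁻¹ _ hx
    simpa [map_inv, mul_assoc] using this
  have h1 := (mem_normalizer_iff.mp (hVn hkn) _).mp ha
  rwa [sH_conj, mul_zero, hk, div_mul_cancel₀ c hb] at h1

end CfsgLib.Local.FrakL
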