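import Cfsg.Agent.Lib.LocalFrakLSetup
import Cfsg.Agent.Lib.DicksonBasic

/-!
The module of a member of `𝔏_p(M)` over `SL₂(q)`.
-/

set_option autoImplicit false
set_option linter.style.haveILetI false

open Subgroup Matrix
open scoped Pointwise

namespace CfsgLib.Local.FrakL

open CfsgLib.Dickson

universe u

variable {F : Type} [Field F] {K : Type u} [Group K] {π : K →* SL F} {Y N : Subgroup K}

theorem mul_val (a b : SL F) : (a * b).1 = a.1 * b.1 := rfl

theorem inv_val (a : SL F) : (a⁻¹).1 = !![a.1 1 1, -a.1 0 1; -a.1 1 0, a.1 0 0] :=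
  adjugate_fin_two a.1

/-- The upper unitriangular subgroup. -/
def upperSub (F : Type) [Field F] : Subgroup (SL F) where
  carrier := Set.range upperU
  one_mem' := ⟨0, upperU_zero⟩
  mul_mem' := by rintro _ _ ⟨a, rfl⟩ ⟨b, rfl⟩; exact ⟨a + b, (upperU_add a b).symm⟩
  inv_mem' := by
    rintro _ ⟨a, rfl⟩
    exact ⟨-a, eq_inv_of_mul_eq_one_left (by rw [upperU_add, neg_add_cancel, upperU_zero])⟩

theorem card_upperSub [Finite F] : Nat.card (upperSub F) = Nat.card F := by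
  refine (Nat.card_range_of_injective (f := (upperU : F → SL F)) fun a b h => ?_)
  simpa [coe_upperU] using congrArg (fun g : SL F => g.1 0 1) h

theorem ut_iff {s : SL F} : s.1 1 0 = 0 ↔ ∃ a b : F, b ≠ 0 ∧ s * upperU b = upperU a * s := by
  constructor
  · intro h
    refine ⟨s.1 0 0 * s.1 0 0, 1, one_ne_zero, ?_⟩
    have hd := det_eq s
    rw [h, mul_zero, sub_zero] at hd
    apply sl_ext <;>
      simp [mul_val, coe_upperU, Matrix.mul_apply, Fin.sum_univ_two, h]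
    linear_combination -(s.1 0 0) * hd
  · rintro ⟨a, b, hb, h⟩
    have h1 := congrArg (fun g : SL F => g.1 1 1) h
    simp [mul_val, coe_upperU, Matrix.mul_apply, Fin.sum_univ_two] at h1
    rcases h1 with h1 | h1
    · exact h1
    · exact absurd h1 hb

theorem ut_of_normalizer {s : SL F} (h : s ∈ normalizer (upperSub F : Set (SL F))) :
    s.1 1 0 = 0 := by
  obtain ⟨a, ha⟩ := (mem_normalizer_iff.mp h (upperU 1)).mp ⟨1, rfl⟩
  exact ut_iff.mpr ⟨a, 1, one_ne_zero, by rw [ha]; group⟩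

theorem normalizer_of_ut {s : SL F} (h : s.1 1 0 = 0) :
    s ∈ normalizer (upperSub F : Set (SL F)) := by
  have key : ∀ t : SL F, t.1 1 0 = 0 → ∀ b : F, t * upperU b * t⁻¹ ∈ upperSub F := by
    intro t ht b
    refine ⟨t.1 0 0 * t.1 0 0 * b, ?_⟩
    rw [eq_mul_inv_iff_mul_eq]
    have hd := det_eq t
    rw [ht, mul_zero, sub_zero] at hd
    apply sl_ext <;>
      simp [mul_val, coe_upperU, Matrix.mul_apply, Fin.sum_univ_two, ht]
    linear_combination (t.1 0 0 * b) * hd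
  rw [mem_normalizer_iff]
  intro x
  refine ⟨fun hx => ?_, fun hx => ?_⟩
  · obtain ⟨b, rfl⟩ := hx; exact key s h b
  · obtain ⟨b, hb⟩ := hx
    have hi : (s⁻¹).1 1 0 = 0 := by
      rw [inv_val]; simp [h]
    have h1 := key s⁻¹ hi b
    rw [hb] at h1
    simpa [mul_assoc] using h1

theorem isRoot_upper {p : ℕ} [Fact p.Prime] [CharP F p] : IsRoot (upperSub F) := by
  rintro s _ ⟨a, rfl⟩ hz1 hzn
  have ha : a ≠ 0 := fun e => hz1 (e ▸ upperU_zero)
  set z' := s⁻¹ * upperU a * s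
  have h1 : z' ∈ normalizer (upperSub F : Set (SL F)) := by
    rw [mem_normalizer_iff]
    intro x
    have h2 := mem_normalizer_iff.mp hzn (s * x * s⁻¹)
    rw [CfsgLib.Core.mem_conj_smul, CfsgLib.Core.mem_conj_smul] at h2
    simpa [z', mul_assoc] using h2
  have h3 := ut_of_normalizer h1
  have hp : z' ^ p = 1 := by
    have h4 : (s⁻¹ * upperU a * s⁻¹⁻¹) ^ p = s⁻¹ * upperU a ^ p * s⁻¹⁻¹ := conj_pow
    rw [inv_inv] at h4
    rw [h4, upperU_pow, CharP.cast_eq_zero, zero_mul, upperU_zero]; group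
  have htr := trace_of_pow (p := p) (g := z') (k := 1) (by rwa [pow_one])
  have hd := det_eq z'
  rw [h3, mul_zero, sub_zero] at hd
  have h00 : z'.1 0 0 = 1 := by
    have h5 : (z'.1 0 0 - 1) ^ 2 = 0 := by linear_combination (z'.1 0 0) * htr - hd
    exact sub_eq_zero.mp (eq_zero_of_pow_eq_zero h5)
  have hz' : z' = upperU (z'.1 0 1) := by
    apply sl_ext <;> simp [coe_upperU, h3, h00]
    linear_combination htr - h00
  refine normalizer_of_ut (ut_iff.mpr ⟨a, z'.1 0 1, fun e => hz1 ?_, ?_⟩)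
  · rw [e, upperU_zero] at hz'
    simp only [z'] at hz'
    simpa using (conj_eq_one_iff (a := s⁻¹) (b := upperU a)).mp (by simpa using hz')
  · rw [← hz']; simp [z', mul_assoc]

/-- An elementary abelian `p`-subgroup of order `q` is conjugate to the upper unitriangular one. -/
theorem exists_conj_upper [Finite F] {p : ℕ} [Fact p.Prime] [CharP F p] (Z : Subgroup (SL F))
    (hc : ∀ a ∈ Z, ∀ b ∈ Z, a * b = b * a) (he : ∀ a ∈ Z, a ^ p = 1)
    (hcard : Nat.card Z = Nat.card F) :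
    ∃ c : SL F, Z.map (MulAut.conj c).toMonoidHom = upperSub F := by
  obtain ⟨z, hz, hz1⟩ := (Subgroup.bot_or_exists_ne_one Z).resolve_left (by
    intro e; rw [e, Subgroup.card_bot] at hcard
    exact (Finite.one_lt_card (α := F)).ne hcard)
  have htr := trace_of_pow (p := p) (g := z) (k := 1) (by rw [pow_one]; exact he z hz)
  have hd := det_eq z
  obtain ⟨c, hcz⟩ : ∃ c : SL F, (c * z * c⁻¹).1 1 0 = 0 := by
    by_cases h10 : z.1 1 0 = 0
    · exact ⟨1, by simpa using h10⟩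
    · obtain ⟨c, hce⟩ : ∃ c : SL F, c.1 = !![0, -1; 1, -((z.1 0 0 - 1) / z.1 1 0)] :=
        ⟨⟨_, by simp [Matrix.det_fin_two]⟩, rfl⟩
      refine ⟨c, ?_⟩
      rw [mul_val, mul_val, inv_val, hce]
      simp [Matrix.mul_apply, Matrix.vecMul, Matrix.vecHead, Matrix.vecTail, dotProduct, Fin.sum_univ_two]
      field_simp
      linear_combination hd - htr
  refine ⟨c, ?_⟩
  haveI : Finite (SL F) := inferInstance
  refine Subgroup.eq_of_le_of_card_ge ?_ ?_
  · rintro _ ⟨a, ha, rfl⟩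
    set z' := c * z * c⁻¹
    set a' := c * a * c⁻¹
    show a' ∈ upperSub F
    have hz' : z' ^ p = 1 := by rw [conj_pow, he z hz]; group
    have ha' : a' ^ p = 1 := by rw [conj_pow, he a ha]; group
    have htz := trace_of_pow (p := p) (g := z') (k := 1) (by rwa [pow_one])
    have hta := trace_of_pow (p := p) (g := a') (k := 1) (by rwa [pow_one])
    have hdz := det_eq z'
    rw [hcz, mul_zero, sub_zero] at hdz
    have hz00 : z'.1 0 0 = 1 := by
      have h5 : (z'.1 0 0 - 1) ^ 2 = 0 := by linear_combination (z'.1 0 0) * htz - hdz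
      exact sub_eq_zero.mp (eq_zero_of_pow_eq_zero h5)
    have hz11 : z'.1 1 1 = 1 := by linear_combination htz - hz00
    have hz01 : z'.1 0 1 ≠ 0 := by
      intro e
      refine hz1 (conj_eq_one_iff (a := c).mp ?_)
      apply sl_ext
      · exact hz00
      · exact e
      · exact hcz
      · exact hz11
    have hcomm : z' * a' = a' * z' := by
      simp only [z', a']
      calc c * z * c⁻¹ * (c * a * c⁻¹) = c * (z * a) * c⁻¹ := by group
        _ = c * (a * z) * c⁻¹ := by rw [hc z hz a ha]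
        _ = _ := by group
    have h1 := congrArg (fun g : SL F => g.1 0 0) hcomm
    have h2 := congrArg (fun g : SL F => g.1 0 1) hcomm
    simp [mul_val, Matrix.mul_apply, Fin.sum_univ_two, hcz, hz00, hz11] at h1 h2
    have h3 : a'.1 1 0 = 0 := h1.resolve_left hz01
    have h4 : a'.1 1 1 = a'.1 0 0 := by
      refine mul_left_cancel₀ hz01 ?_
      linear_combination h2
    have hda := det_eq a'
    rw [h3, mul_zero, sub_zero] at hda
    have h00 : a'.1 0 0 = 1 := by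
      have h5 : (a'.1 0 0 - 1) ^ 2 = 0 := by linear_combination (a'.1 0 0) * hta - hda
      exact sub_eq_zero.mp (eq_zero_of_pow_eq_zero h5)
    refine ⟨a'.1 0 1, ?_⟩
    apply sl_ext <;> simp [coe_upperU, h3, h00, h4]
  · rw [card_upperSub, Subgroup.card_map_of_injective (MulAut.conj c).injective, hcard]

/-- `[0, -c; c⁻¹, 0]`. -/
def weyl (c : F) (hc : c ≠ 0) : SL F :=
  ⟨!![0, -c; c⁻¹, 0], by rw [Matrix.det_fin_two_of]; field_simp; ring⟩

theorem weyl_val (c : F) (hc : c ≠ 0) : (weyl c hc).1 = !![0, -c; c⁻¹, 0] := rfl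

theorem weyl_sq (c : F) (hc : c ≠ 0) (g : SL F) :
    weyl c hc * weyl c hc * g = g * (weyl c hc * weyl c hc) := by
  apply sl_ext <;>
    simp [weyl_val, mul_val, Matrix.mul_apply, Fin.sum_univ_two, hc]

theorem weyl_cube (c : F) (hc : c ≠ 0) :
    weyl c hc * upperU c * (weyl c hc * upperU c) * (weyl c hc * upperU c) =
      weyl c hc * weyl c hc := by
  apply sl_ext <;>
    simp [weyl_val, coe_upperU, mul_val, Matrix.mul_apply, Fin.sum_univ_two, hc] <;>
    field_simp <;> ring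

/-- A fixed-point computation in the additive group of the module. -/
theorem Setup.weyl_free [Finite K] {p : ℕ} [hp : Fact p.Prime] [CharP F p]
    (h : Setup π.ker Y N) (hπ : Function.Surjective π) (hZ : Y.map π = upperSub F)
    {c s : F} (hc : c ≠ 0) (hs : s ≠ c + c) :
    Free π (weyl c hc * upperU s) ∧
      ∀ g, π g = weyl c hc * weyl c hc → ∀ x ∈ π.ker, g * x * g⁻¹ = x⁻¹ := by
  have hR : IsRoot (Y.map π) := hZ ▸ isRoot_upper (p := p)
  obtain ⟨k, hk⟩ := hπ (weyl c hc)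
  have hkn : π k ∉ normalizer ((Y.map π : Subgroup (SL F)) : Set (SL F)) := by
    rw [hZ, hk]
    intro e
    simpa [weyl_val, hc] using ut_of_normalizer e
  have hn : ¬ (Y.map π).Normal := fun e => hkn (by
    haveI := e; rw [Subgroup.normalizer_eq_top]; exact mem_top _)
  obtain ⟨y, hy, hyπ⟩ : upperU c ∈ Y.map π := hZ ▸ ⟨c, rfl⟩
  have hy1 : π y ≠ 1 := fun e => hc (by
    rw [hyπ] at e; simpa [coe_upperU] using congrArg (fun g : SL F => g.1 0 1) e)
  obtain ⟨hsup, -⟩ := h.root_gen hπ hR hy hy1 hkn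
  obtain ⟨hAB, hdec⟩ := h.decompose hsup
  have hkk : ∀ a ∈ Y ⊓ π.ker, k * k * a * (k * k)⁻¹ ∈ Y ⊓ π.ker := by
    intro a ha
    refine Subgroup.mem_inf.mpr ⟨?_, h.conj_mem ha.2 _⟩
    have h1 : k * k ∈ N := by
      refine h.comap_normalizer hπ hn ?_
      rw [Subgroup.mem_comap, map_mul, hk, hZ]
      exact normalizer_of_ut (by simp [weyl_val, mul_val, Matrix.mul_apply, Fin.sum_univ_two])
    exact (mem_normalizer_iff.mp (h.normalizes h1) a).mp ha.1
  -- uniqueness of the decomposition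
  have uniq : ∀ a ∈ Y ⊓ π.ker, ∀ b ∈ Y ⊓ π.ker, ∀ a' ∈ Y ⊓ π.ker, ∀ b' ∈ Y ⊓ π.ker,
      a * (k * b * k⁻¹) = a' * (k * b' * k⁻¹) → a = a' ∧ b = b' := by
    intro a ha b hb a' ha' b' hb' e
    have h1 : a'⁻¹ * a = k * (b' * b⁻¹) * k⁻¹ := by
      calc a'⁻¹ * a = a'⁻¹ * (a * (k * b * k⁻¹)) * (k * b * k⁻¹)⁻¹ := by group
        _ = a'⁻¹ * (a' * (k * b' * k⁻¹)) * (k * b * k⁻¹)⁻¹ := by rw [e]
        _ = _ := by group
    have h2 : a'⁻¹ * a = 1 := by
      refine h.inter k hsup _ (mul_mem (inv_mem ha') ha) ?_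
      rw [h1]
      simpa [mul_assoc] using Y.mul_mem hb'.1 (Y.inv_mem hb.1)
    refine ⟨(inv_mul_eq_one.mp h2).symm, ?_⟩
    rw [h2] at h1
    exact (mul_inv_eq_one.mp (conj_eq_one_iff.mp h1.symm)).symm
  -- the map `b ↦ f b`
  have hf : ∀ u ∈ Y, ∀ b ∈ Y ⊓ π.ker,
      u * (k * b * k⁻¹) * u⁻¹ * (k * b * k⁻¹)⁻¹ ∈ Y ⊓ π.ker := fun u hu b hb =>
    Subgroup.mem_inf.mpr ⟨h.quad _ (h.conj_mem hb.2 k) u hu,
      mul_mem (h.conj_mem (h.conj_mem hb.2 k) u) (inv_mem (h.conj_mem hb.2 k))⟩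
  have act : ∀ u ∈ Y, ∀ a ∈ Y ⊓ π.ker, ∀ b ∈ Y ⊓ π.ker,
      (k * u) * (a * (k * b * k⁻¹)) * (k * u)⁻¹ =
        (k * k * b * (k * k)⁻¹) *
          (k * (a * (u * (k * b * k⁻¹) * u⁻¹ * (k * b * k⁻¹)⁻¹)) * k⁻¹) := by
    intro u hu a ha b hb
    set e := u * (k * b * k⁻¹) * u⁻¹ * (k * b * k⁻¹)⁻¹ with he
    have h1 : u * a * u⁻¹ = a := by rw [h.comm u hu a ha.1, mul_inv_cancel_right]
    rw [(hAB _ (hkk b hb) (a * e) (mul_mem ha (hf u hu b hb))).eq]
    calc (k * u) * (a * (k * b * k⁻¹)) * (k * u)⁻¹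
        = k * ((u * a * u⁻¹) * (u * (k * b * k⁻¹) * u⁻¹)) * k⁻¹ := by group
      _ = k * (a * (u * (k * b * k⁻¹) * u⁻¹)) * k⁻¹ := by rw [h1]
      _ = _ := by rw [he]; group
  -- conjugation depends only on the image
  have same : ∀ g g' : K, π g = π g' → ∀ x ∈ π.ker, g * x * g⁻¹ = g' * x * g'⁻¹ := by
    intro g g' e x hx
    have h1 : g'⁻¹ * g ∈ π.ker := by
      rw [MonoidHom.mem_ker, map_mul, map_inv, e, inv_mul_cancel]
    have h2 := h.ker_comm h1 hx
    calc g * x * g⁻¹ = g' * ((g'⁻¹ * g) * x) * g⁻¹ := by group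
      _ = g' * (x * (g'⁻¹ * g)) * g⁻¹ := by rw [h2]
      _ = _ := by group
  have hcube : π ((k * y) * (k * y) * (k * y)) = π (k * k) := by
    simp only [map_mul, hk, hyπ]
    exact weyl_cube c hc
  let f : K → K := fun b => y * (k * b * k⁻¹) * y⁻¹ * (k * b * k⁻¹)⁻¹
  let z : K → K := fun b => k * k * b * (k * k)⁻¹
  have key : ∀ a ∈ Y ⊓ π.ker, f a = a ∧ z a = a⁻¹ := by
    intro a ha
    have hfa : f a ∈ Y ⊓ π.ker := hf y hy a ha
    have hza : z a ∈ Y ⊓ π.ker := hkk a ha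
    have hga : (k * y) * a * (k * y)⁻¹ = k * a * k⁻¹ := by
      calc (k * y) * a * (k * y)⁻¹ = k * ((y * a) * y⁻¹) * k⁻¹ := by group
        _ = k * ((a * y) * y⁻¹) * k⁻¹ := by rw [h.comm y hy a ha.1]
        _ = _ := by group
    have h2 : (k * y) * (k * a * k⁻¹) * (k * y)⁻¹ = z a * (k * f a * k⁻¹) := by
      simpa [z, f] using act y hy 1 (one_mem _) a ha
    have h3 : (k * y) * (k * y) * (k * y) * a * ((k * y) * (k * y) * (k * y))⁻¹ =
        z (f a) * (k * (z a * f (f a)) * k⁻¹) := by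
      calc _ = (k * y) * ((k * y) * ((k * y) * a * (k * y)⁻¹) * (k * y)⁻¹) * (k * y)⁻¹ := by group
        _ = _ := by rw [hga, h2]; exact act y hy _ hza _ hfa
    rw [same _ _ hcube a ha.2] at h3
    have h4 : z a * (k * 1 * k⁻¹) = z (f a) * (k * (z a * f (f a)) * k⁻¹) := by
      rw [← h3]; simp [z]
    obtain ⟨e1, e2⟩ := uniq _ hza _ (one_mem _) _ (hkk _ hfa) _ (mul_mem hza (hf y hy _ hfa)) h4
    have h5 : f a = a := (mul_left_cancel (mul_right_cancel e1)).symm
    refine ⟨h5, ?_⟩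
    rw [h5] at e2
    change 1 = z a * f a at e2
    rw [h5] at e2
    exact eq_inv_of_mul_eq_one_left e2.symm
  have hinv : ∀ g, π g = weyl c hc * weyl c hc → ∀ x ∈ π.ker, g * x * g⁻¹ = x⁻¹ := by
    intro g hg x hx
    rw [same g (k * k) (by rw [hg, map_mul, hk]) x hx]
    obtain ⟨a, ha, b, hb, rfl⟩ := hdec x hx
    have hzb : k * k * b * (k * k)⁻¹ = b⁻¹ := (key b hb).2
    have hza : k * k * a * (k * k)⁻¹ = a⁻¹ := (key a ha).2
    calc k * k * (a * (k * b * k⁻¹)) * (k * k)⁻¹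
        = (k * k * a * (k * k)⁻¹) * (k * (k * k * b * (k * k)⁻¹) * k⁻¹) := by group
      _ = a⁻¹ * (k * b⁻¹ * k⁻¹) := by rw [hza, hzb]
      _ = (a * (k * b * k⁻¹))⁻¹ := by
        rw [_root_.mul_inv_rev, ← (hAB a ha b hb).inv_inv.eq]; group
  refine ⟨?_, hinv⟩
  intro g hg x hx hgx
  obtain ⟨u, hu, huπ⟩ : upperU s ∈ Y.map π := hZ ▸ ⟨s, rfl⟩
  obtain ⟨a, ha, b, hb, rfl⟩ := hdec x hx
  set e := u * (k * b * k⁻¹) * u⁻¹ * (k * b * k⁻¹)⁻¹ with he
  have hfb : y * (k * b * k⁻¹) * y⁻¹ = b * (k * b * k⁻¹) := by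
    calc y * (k * b * k⁻¹) * y⁻¹ = f b * (k * b * k⁻¹) := by simp only [f]; group
      _ = _ := by rw [(key b hb).1]
  have h1 : a * (k * b * k⁻¹) =
      k * k * b * (k * k)⁻¹ * (k * (a * e) * k⁻¹) := by
    rw [← act u hu a ha b hb, ← same g (k * u) (by rw [hg, map_mul, hk, huπ]) _ hx, hgx,
      mul_inv_cancel_right]
  rw [show k * k * b * (k * k)⁻¹ = b⁻¹ from (key b hb).2] at h1
  obtain ⟨e1, e2⟩ := uniq a ha b hb _ (inv_mem hb) _ (mul_mem ha (hf u hu b hb)) h1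
  subst e1
  have hu' : u * (k * b * k⁻¹) * u⁻¹ = b * b * (k * b * k⁻¹) := by
    calc u * (k * b * k⁻¹) * u⁻¹ = b * (b⁻¹ * e) * (k * b * k⁻¹) := by rw [he]; group
      _ = _ := by rw [← e2]
  have hbc : Commute b (k * b * k⁻¹) := hAB b hb b hb
  set v := u * (y * y)⁻¹
  have hv : v * (k * b * k⁻¹) * v⁻¹ = k * b * k⁻¹ := by
    have h5 : (y * y) * (k * b * k⁻¹) * (y * y)⁻¹ = b * b * (k * b * k⁻¹) := by
      calc (y * y) * (k * b * k⁻¹) * (y * y)⁻¹ = y * (y * (k * b * k⁻¹) * y⁻¹) * y⁻¹ := by group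
        _ = y * (b * (k * b * k⁻¹)) * y⁻¹ := by rw [hfb]
        _ = (y * b * y⁻¹) * (y * (k * b * k⁻¹) * y⁻¹) := by group
        _ = _ := by rw [hfb, h.comm y hy b hb.1]; group
    have hcu : (y * y) * u = u * (y * y) := h.comm _ (mul_mem hy hy) u hu
    have h6 : v = (y * y)⁻¹ * u := by
      simp only [v]
      rw [eq_inv_mul_iff_mul_eq, ← mul_assoc, hcu, mul_inv_cancel_right]
    rw [h6]
    calc (y * y)⁻¹ * u * (k * b * k⁻¹) * ((y * y)⁻¹ * u)⁻¹
        = (y * y)⁻¹ * (u * (k * b * k⁻¹) * u⁻¹) * (y * y) := by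
          simp only [_root_.mul_inv_rev, inv_inv, mul_assoc]
      _ = (y * y)⁻¹ * ((y * y) * (k * b * k⁻¹) * (y * y)⁻¹) * (y * y) := by rw [hu', h5]
      _ = _ := by group
  have hvπ : π v ≠ 1 := by
    intro e3
    simp only [v, map_mul, map_inv, huπ, hyπ, upperU_add, mul_inv_eq_one] at e3
    exact hs (by simpa [coe_upperU] using congrArg (fun g : SL F => g.1 0 1) e3)
  have h7 := h.fixed_root hπ hR hn (mul_mem hu (inv_mem (mul_mem hy hy))) hvπ
    (h.conj_mem hb.2 k) (mul_inv_eq_iff_eq_mul.mp hv)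
  have h8 := h.inter k hsup (k * b * k⁻¹) ⟨h7, h.conj_mem hb.2 k⟩ (by simpa [mul_assoc] using hb.1)
  rw [conj_eq_one_iff] at h8
  simp [h8]

theorem exists_companion {g : SL F} (hg : ¬ IsScal g) :
    ∃ (c : F) (hc : c ≠ 0) (s : F) (m : SL F), m * g * m⁻¹ = weyl c hc * upperU s := by
  obtain ⟨v0, v1, hv⟩ : ∃ v0 v1 : F,
      v0 * (g.1 1 0 * v0 + g.1 1 1 * v1) - v1 * (g.1 0 0 * v0 + g.1 0 1 * v1) ≠ 0 := by
    by_contra hall
    push Not at hall
    have h1 := hall 1 0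
    have h2 := hall 0 1
    have h3 := hall 1 1
    simp at h1 h2 h3
    refine hg ⟨h2, h1, ?_⟩
    linear_combination -h3 + h1 - h2
  set d := v0 * (g.1 1 0 * v0 + g.1 1 1 * v1) - v1 * (g.1 0 0 * v0 + g.1 0 1 * v1) with hd
  obtain ⟨m, hm⟩ : ∃ m : SL F, m.1 = !![v0 / d, g.1 0 0 * v0 + g.1 0 1 * v1; v1 / d, g.1 1 0 * v0 + g.1 1 1 * v1] :=
    ⟨⟨_, by rw [Matrix.det_fin_two_of]; field_simp; linear_combination -hd⟩, rfl⟩
  refine ⟨d, hv, (g.1 0 0 + g.1 1 1) * d, m⁻¹, ?_⟩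
  rw [inv_inv]
  have e : g * m = m * (weyl d hv * upperU ((g.1 0 0 + g.1 1 1) * d)) := by
    have hdet := det_eq g
    apply sl_ext <;>
      simp [hm, weyl_val, coe_upperU, mul_val, Matrix.mul_apply, Fin.sum_univ_two] <;>
      field_simp <;>
      first
        | ring1
        | linear_combination v0 * hdet
        | linear_combination v1 * hdet
        | linear_combination -v0 * hdet
        | linear_combination -v1 * hdet
  rw [mul_assoc, e, inv_mul_cancel_left]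

/-- Elements of prime order other than `p` act without fixed points. -/
theorem Setup.free_sl2 [Finite K] [Finite F] {p : ℕ} [hp : Fact p.Prime] [CharP F p]
    (h : Setup π.ker Y N) (hπ : Function.Surjective π) (hP : IsPGroup p π.ker)
    (hZ : Y.map π = upperSub F) {g : SL F} {r : ℕ} (hr : r.Prime) (hrp : r ≠ p)
    (hg : orderOf g = r) : Free π g := by
  have hne : g ≠ 1 := fun e => hr.ne_one (by rw [← hg, e, orderOf_one])
  have hnp : g ^ p ≠ 1 := fun e =>
    hrp ((Nat.prime_dvd_prime_iff_eq hr hp.out).mp (hg ▸ orderOf_dvd_of_pow_eq_one e))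
  by_cases hs : IsScal g
  · obtain ⟨e1, e2, e3⟩ := hs
    have hd := det_eq g
    rw [e1, e2, mul_zero, sub_zero, ← e3] at hd
    have h2 : g.1 0 0 = -1 := by
      rcases mul_self_eq_one_iff.mp hd with h1 | h1
      · exfalso
        refine hne (sl_ext ?_ ?_ ?_ ?_) <;> simp [h1, e1, e2, ← e3]
      · exact h1
    have hp2 : p ≠ 2 := by
      intro e
      refine hnp (pow_eq_one_of_trace ?_)
      rw [← e3, h2]
      have h3 : ((p : ℕ) : F) = 0 := CharP.cast_eq_zero F p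
      rw [e] at h3
      push_cast at h3
      linear_combination (-2 : F) * h3
    intro k hk x hx hkx
    have hgw : g = weyl 1 one_ne_zero * weyl 1 one_ne_zero := by
      apply sl_ext <;>
        simp [weyl_val, mul_val, Matrix.mul_apply, Fin.sum_univ_two, h2, e1, e2,
          ← e3]
    have h3 : (0 : F) ≠ 1 + 1 := by
      rw [one_add_one_eq_two]; exact (two_ne_zero_of_char hp2).symm
    have h4 := (h.weyl_free hπ hZ (c := 1) one_ne_zero h3).2 k (hk.trans hgw) x hx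
    rw [hkx, mul_inv_cancel_right, eq_inv_iff_mul_eq_one] at h4
    obtain ⟨j, hj⟩ := hP ⟨x, hx⟩
    refine orderOf_eq_one_iff.mp (Nat.eq_one_of_dvd_coprimes
      ((Nat.coprime_primes hp.out Nat.prime_two).mpr hp2 |>.pow_left j)
      (orderOf_dvd_of_pow_eq_one ?_) (orderOf_dvd_of_pow_eq_one ?_))
    · simpa using congrArg Subtype.val hj
    · rw [pow_two, h4]
  · obtain ⟨c, hc, s, m, hm⟩ := exists_companion hs
    refine Free.of_conj hπ (c := m) ?_
    rw [hm]
    refine (h.weyl_free hπ hZ hc fun e => hnp ?_).1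
    have h5 : (weyl c hc * upperU s) ^ p = 1 := by
      refine pow_eq_one_of_trace ?_
      simp [weyl_val, coe_upperU, mul_val, Matrix.mul_apply, Fin.sum_univ_two, e]
      field_simp
      ring
    rw [← hm, conj_pow] at h5
    exact conj_eq_one_iff.mp h5

end CfsgLib.Local.FrakL
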