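import Cfsg.Agent.Lib.LocalFrakLFree
import Cfsg.Agent.Lib.LocalPReduced
import Cfsg.Prelude.Def_LocalStructure
import Mathlib.GroupTheory.SpecificGroups.Cyclic
import Mathlib.GroupTheory.SpecificGroups.Dihedral

/-!
The set-up of a member `L` of `𝔏_p(M)` in the quotient by `Y ∩ C(L)`, and the case `|Z| = 2`.
-/

set_option autoImplicit false
set_option linter.style.haveILetI false

open Subgroup
open scoped Pointwise

namespace CfsgLib.Local.FrakL

universe u v

variable {K : Type u} [Group K] {S : Type v} [Group S] {π : K →* S} {Y N : Subgroup K}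

/-- `s` acts on the kernel of `π` without fixed points. -/
def Free (π : K →* S) (s : S) : Prop :=
  ∀ g, π g = s → ∀ x ∈ π.ker, g * x = x * g → x = 1

theorem Free.of_conj (hπ : Function.Surjective π) {c s : S} (h : Free π (c * s * c⁻¹)) :
    Free π s := by
  intro g hg x hx hgx
  obtain ⟨k, rfl⟩ := hπ c
  have h1 : k * x * k⁻¹ = 1 := h (k * g * k⁻¹) (by rw [map_mul, map_mul, map_inv, hg]) _
    ((inferInstance : π.ker.Normal).conj_mem x hx k)
    ((Commute.conj_iff k).mpr hgx).eq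
  exact conj_eq_one_iff.mp h1

theorem Setup.not_normal (h : Setup π.ker Y N) (hπ : Function.Surjective π)
    (hne : Y.map π ≠ ⊤) : ¬ (Y.map π).Normal := by
  intro hn
  haveI := hn
  have h1 : Subgroup.normalClosure (Y : Set K) ≤ (Y.map π).comap π :=
    Subgroup.normalClosure_le_normal (fun y hy => mem_map_of_mem π hy)
  refine hne (eq_top_iff.mpr fun s _ => ?_)
  obtain ⟨g, rfl⟩ := hπ s
  exact h1 (h.closure.ge (mem_top g))

theorem two_cases {Z : Subgroup S} (hcard : Nat.card Z = 2) {a b : S} (ha : a ∈ Z) (ha1 : a ≠ 1)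
    (hb : b ∈ Z) (hb1 : b ≠ 1) : a = b := by
  by_contra hab
  haveI : Finite Z := Nat.finite_of_card_ne_zero (by omega)
  haveI : Fintype Z := Fintype.ofFinite _
  classical
  have h2 : (⟨a, ha⟩ : Z) ≠ ⟨b, hb⟩ := fun e => hab (congrArg Subtype.val e)
  have h3 : ({1, ⟨a, ha⟩, ⟨b, hb⟩} : Finset Z).card = 3 := by
    rw [Finset.card_insert_of_notMem, Finset.card_pair h2]
    simp [eq_comm (a := (1 : Z)), ← Subtype.val_inj, ha1, hb1]
  have h4 := Finset.card_le_univ ({1, ⟨a, ha⟩, ⟨b, hb⟩} : Finset Z)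
  rw [Nat.card_eq_fintype_card] at hcard
  omega

theorem Setup.isRoot_two [Finite S] (h : Setup π.ker Y N) (hπ : Function.Surjective π)
    (hcard : Nat.card (Y.map π) = 2) (hn : ¬ (Y.map π).Normal) : IsRoot (Y.map π) := by
  intro s z hz hz1 hzn
  set Z := Y.map π
  set W := normalizer (Z : Set S)
  have hle : ∀ T : Subgroup S, Z ≤ T → T ≠ ⊤ → T ≤ W := by
    intro T hT hTt x hx
    obtain ⟨g, rfl⟩ := hπ x
    have h1 := h.max (T.comap π) (fun y hy => hT (mem_map_of_mem π hy)) (fun e => hTt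
      (eq_top_iff.mpr fun t _ => by obtain ⟨k, rfl⟩ := hπ t; exact (e.ge (mem_top k) :)))
    exact (Subgroup.le_normalizer_map π) (mem_map_of_mem π (h.normalizes (h1 hx)))
  have hWt : W ≠ ⊤ := fun e => hn (Subgroup.normalizer_eq_top_iff.mp e)
  have hZW : Z ≤ W := Subgroup.le_normalizer
  have hWW : normalizer (W : Set S) ≤ W := by
    refine hle _ (hZW.trans Subgroup.le_normalizer) (fun e => hWt ?_)
    haveI : W.Normal := Subgroup.normalizer_eq_top_iff.mp e
    have h1 : Subgroup.normalClosure (Y : Set K) ≤ W.comap π :=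
      Subgroup.normalClosure_le_normal (fun y hy => hZW (mem_map_of_mem π hy))
    refine eq_top_iff.mpr fun t _ => ?_
    obtain ⟨g, rfl⟩ := hπ t
    exact h1 (h.closure.ge (mem_top g))
  refine hWW ?_
  have h2 : Z ≤ normalizer ((MulAut.conj s • Z : Subgroup S) : Set S) := by
    intro a ha
    by_cases ha1 : a = 1
    · rw [ha1]; exact one_mem _
    · rwa [two_cases hcard ha ha1 hz hz1]
  have h3 : normalizer ((MulAut.conj s • Z : Subgroup S) : Set S) ≤ W := by
    refine hle _ h2 fun e => hn ?_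
    have h4 : (MulAut.conj s • Z : Subgroup S).Normal := Subgroup.normalizer_eq_top_iff.mp e
    have h5 : MulAut.conj s⁻¹ • (MulAut.conj s • Z : Subgroup S) = MulAut.conj s • Z :=
      Subgroup.Normal.conj_smul_eq_self s⁻¹ (MulAut.conj s • Z)
    rw [← mul_smul, ← map_mul, inv_mul_cancel, map_one, one_smul] at h5
    rwa [← h5] at h4
  have h6 : ∀ x ∈ W, s * x * s⁻¹ ∈ W := by
    intro x hx
    refine h3 (mem_normalizer_iff.mpr fun t => ?_)
    rw [CfsgLib.Core.mem_conj_smul, CfsgLib.Core.mem_conj_smul]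
    have h7 := mem_normalizer_iff.mp hx (s⁻¹ * t * s)
    simpa [mul_assoc] using h7
  rw [mem_normalizer_iff]
  intro x
  refine ⟨h6 x, fun hx => ?_⟩
  have h7 : W.map (MulAut.conj s).toMonoidHom = W := by
    refine Subgroup.eq_of_le_of_card_ge (Subgroup.map_le_iff_le_comap.mpr fun a ha => h6 a ha) ?_
    rw [Subgroup.card_map_of_injective (MulAut.conj s).injective]
  obtain ⟨a, ha, hax⟩ := h7.ge hx
  have : a = x := (MulAut.conj s).injective hax
  exact this ▸ ha

/-- When `|Z| = 2` the group is dihedral. -/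
theorem Setup.dihedral [Finite S] (h : Setup π.ker Y N) (hπ : Function.Surjective π)
    (hY : ∀ y ∈ Y, y * y = 1) (hcard : Nat.card (Y.map π) = 2) (hne : Y.map π ≠ ⊤) :
    ∃ (y : K) (x : S), y ∈ Y ∧ π y ≠ 1 ∧ (∀ i : ℤ, π y * x ^ i * π y = x ^ (-i)) ∧
      ∀ g : S, ∃ i : ℤ, g = x ^ i ∨ g = x ^ i * π y := by
  have hn := h.not_normal hπ hne
  have hR := h.isRoot_two hπ hcard hn
  obtain ⟨z, hzm, hz1⟩ := (Subgroup.bot_or_exists_ne_one (Y.map π)).resolve_left (by
    intro e; rw [e, Subgroup.card_bot] at hcard; omega)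
  obtain ⟨y, hy, rfl⟩ := hzm
  obtain ⟨k, hk⟩ : ∃ k : K, π k ∉ normalizer ((Y.map π : Subgroup S) : Set S) := by
    by_contra hall
    push Not at hall
    refine hn (Subgroup.normalizer_eq_top_iff.mp (eq_top_iff.mpr fun t _ => ?_))
    obtain ⟨g, rfl⟩ := hπ t
    exact hall g
  obtain ⟨-, hgen⟩ := h.root_gen hπ hR hy hz1 hk
  have hy2 : π y * π y = 1 := by rw [← map_mul, hY y hy, map_one]
  have hyinv : (π y)⁻¹ = π y := inv_eq_of_mul_eq_one_right hy2
  set t := π k * π y * (π k)⁻¹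
  have ht2 : t * t = 1 := by
    calc t * t = π k * (π y * π y) * (π k)⁻¹ := by simp only [t]; group
      _ = 1 := by rw [hy2]; group
  set x := π y * t
  have hyx : π y * x * π y = x⁻¹ := by
    have ht : t⁻¹ = t := inv_eq_of_mul_eq_one_right ht2
    simp only [x, mul_inv_rev, ht, hyinv]
    rw [← mul_assoc, hy2, one_mul]
  have hyx' : ∀ i : ℤ, π y * x ^ i * π y = x ^ (-i) := fun i => by
    have h1 : (π y * x * (π y)⁻¹) ^ i = π y * x ^ i * (π y)⁻¹ := conj_zpow
    rw [hyinv, hyx, inv_zpow'] at h1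
    exact h1.symm
  -- the group consists of the powers of `x` and their multiples by `π y`
  let D : Subgroup S :=
    { carrier := {g | ∃ i : ℤ, g = x ^ i ∨ g = x ^ i * π y}
      one_mem' := ⟨0, Or.inl (by simp)⟩
      mul_mem' := by
        rintro _ _ ⟨i, rfl | rfl⟩ ⟨j, rfl | rfl⟩
        · exact ⟨i + j, Or.inl (by rw [zpow_add])⟩
        · exact ⟨i + j, Or.inr (by rw [zpow_add, mul_assoc])⟩
        · refine ⟨i - j, Or.inr ?_⟩
          calc x ^ i * π y * x ^ j = x ^ i * (π y * x ^ j * π y) * π y := by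
                simp only [mul_assoc, hy2, mul_one]
            _ = _ := by rw [hyx', ← zpow_add, sub_eq_add_neg]
        · refine ⟨i - j, Or.inl ?_⟩
          calc x ^ i * π y * (x ^ j * π y) = x ^ i * (π y * x ^ j * π y) := by
                simp only [mul_assoc]
            _ = _ := by rw [hyx', ← zpow_add, sub_eq_add_neg]
      inv_mem' := by
        rintro _ ⟨i, rfl | rfl⟩
        · exact ⟨-i, Or.inl (zpow_neg x i).symm⟩
        · refine ⟨i, Or.inr ?_⟩
          rw [mul_inv_rev, hyinv, ← zpow_neg, ← hyx' i]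
          simp only [← mul_assoc, hy2, one_mul] }
  have hD : (⊤ : Subgroup S) ≤ D := by
    rw [← hgen]
    refine sup_le (zpowers_le.mpr ⟨0, Or.inr (by simp)⟩) ?_
    rw [CfsgLib.Core.map_conj_smul]
    intro a ha
    rw [CfsgLib.Core.mem_conj_smul] at ha
    by_cases ha1 : (π k)⁻¹ * a * π k = 1
    · have : a = 1 := by simpa using (conj_eq_one_iff (a := (π k)⁻¹) (b := a)).mp (by simpa using ha1)
      rw [this]; exact D.one_mem
    · have h1 := two_cases hcard ha ha1 (mem_map_of_mem π hy) hz1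
      have h2 : a = t := by
        simp only [t, ← h1]; group
      refine ⟨-1, Or.inr ?_⟩
      rw [h2, zpow_neg_one, ← hyx]
      simp only [x, mul_assoc, hy2, mul_one]
      rw [← mul_assoc (π y) (π y), hy2, one_mul]
  exact ⟨y, x, hy, hz1, hyx', fun g => hD (mem_top g)⟩

/-- When `|Z| = 2` the elements of odd prime order act freely. -/
theorem Setup.free_two [Finite K] [Finite S] (h : Setup π.ker Y N) (hπ : Function.Surjective π)
    (hP : IsPGroup 2 π.ker) (hY : ∀ y ∈ Y, y * y = 1) (hcard : Nat.card (Y.map π) = 2)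
    (hne : Y.map π ≠ ⊤) {s : S} (hs : (orderOf s).Coprime 2) (hs1 : s ≠ 1) : Free π s := by
  have hn := h.not_normal hπ hne
  have hR := h.isRoot_two hπ hcard hn
  obtain ⟨y, x, hy, hz1, hyx', hD⟩ := h.dihedral hπ hY hcard hne
  have hy2 : π y * π y = 1 := by rw [← map_mul, hY y hy, map_one]
  have hyinv : (π y)⁻¹ = π y := inv_eq_of_mul_eq_one_right hy2
  obtain ⟨i, hi | hi⟩ := hD s
  swap
  · exfalso
    have h1 : s * s = 1 := by
      rw [hi]
      calc x ^ i * π y * (x ^ i * π y) = x ^ i * (π y * x ^ i * π y) := by simp only [mul_assoc]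
        _ = 1 := by rw [hyx', ← zpow_add, add_neg_cancel, zpow_zero]
    exact hs1 (orderOf_eq_one_iff.mp (Nat.eq_one_of_dvd_coprimes hs dvd_rfl
      (orderOf_dvd_of_pow_eq_one (by rw [pow_two, h1]))))
  intro g hg z hz hgz
  have e : π (y * g * y⁻¹) = s⁻¹ := by
    rw [map_mul, map_mul, map_inv, hg, hyinv, hi, hyx', zpow_neg]
  refine h.free_of_involution hπ hP hR hn (fun a => ⟨1, Subtype.ext ?_⟩) hy ?_ (hg ▸ hs) ?_ ?_ hz hgz
  · simpa [pow_two] using hY a.1 a.2
  · simp [MonoidHom.mem_ker, hy2]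
  · rw [e, hg]; exact inv_mem (mem_zpowers s)
  · rw [e, hg]
    intro e1
    exact hs1 (orderOf_eq_one_iff.mp (Nat.eq_one_of_dvd_coprimes hs dvd_rfl
      (orderOf_dvd_of_pow_eq_one (by rw [pow_two]; nth_rewrite 1 [← e1]; exact inv_mul_cancel s))))

/-- The elementary abelian two-subgroups of a dihedral group of twice prime order have order two. -/
theorem card_dihedral {r : ℕ} (hr : r.Prime) (hr2 : r ≠ 2) (Z : Subgroup (DihedralGroup r))
    (hc : ∀ a ∈ Z, ∀ b ∈ Z, a * b = b * a) (h2 : ∀ a ∈ Z, a * a = 1) (hne : Z ≠ ⊥) :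
    Nat.card Z = 2 := by
  haveI : NeZero r := ⟨hr.ne_zero⟩
  have key : ∀ i : ZMod r, i + i = 0 → i = 0 := by
    intro i hi
    have h3 : (2 : ZMod r) * i = 0 := by rw [two_mul]; exact hi
    haveI : Fact r.Prime := ⟨hr⟩
    refine (mul_eq_zero.mp h3).resolve_left fun h4 => hr2 ?_
    have h5 : r ∣ 2 := (ZMod.natCast_eq_zero_iff 2 r).mp (by exact_mod_cast h4)
    exact (Nat.prime_dvd_prime_iff_eq hr Nat.prime_two).mp h5
  obtain ⟨z, hz, hz1⟩ := (Subgroup.bot_or_exists_ne_one Z).resolve_left hne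
  have hsr : ∀ a ∈ Z, a ≠ 1 → ∃ i, a = DihedralGroup.sr i := by
    intro a ha ha1
    cases a with
    | r i =>
      have h4 := h2 _ ha
      rw [DihedralGroup.r_mul_r, DihedralGroup.one_def, DihedralGroup.r.injEq] at h4
      exact absurd (by rw [key i h4, DihedralGroup.one_def]) ha1
    | sr i => exact ⟨i, rfl⟩
  have huniq : ∀ a ∈ Z, a ≠ 1 → a = z := by
    intro a ha ha1
    obtain ⟨i, rfl⟩ := hsr a ha ha1
    obtain ⟨j, rfl⟩ := hsr z hz hz1
    have h4 := hc _ ha _ hz
    rw [DihedralGroup.sr_mul_sr, DihedralGroup.sr_mul_sr, DihedralGroup.r.injEq] at h4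
    have h5 := key (j - i) (by linear_combination h4)
    rw [sub_eq_zero] at h5
    rw [h5]
  refine Nat.card_eq_two_iff.mpr ⟨1, ⟨z, hz⟩, fun e => hz1 (congrArg Subtype.val e).symm, ?_⟩
  refine Set.eq_univ_of_forall fun a => ?_
  by_cases ha : (a : DihedralGroup r) = 1
  · exact Or.inl (Subtype.ext ha)
  · exact Or.inr (Subtype.ext (huniq _ a.2 ha))

/-- The data of a member of `𝔏_p(M)` in `L`. -/
theorem exists_setup {G : Type u} [Group G] [Finite G] {p : ℕ} [Fact p.Prime] {M L : Subgroup G}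
    (hL : Cfsg.IsInFrakL p M L) {D : Subgroup ↥L} [D.Normal]
    (hD : D = (Cfsg.largestPReducedOf p M ⊓ centralizer (L : Set G)).subgroupOf L)
    (π₀ : ↥L →* S) (hker : π₀.ker = Cfsg.pCore p ↥L) (hle : D ≤ π₀.ker) :
    Setup (QuotientGroup.lift D π₀ hle).ker
      (((Cfsg.largestPReducedOf p M).subgroupOf L).map (QuotientGroup.mk' D))
      (((L ⊓ normalizer (Cfsg.largestPReducedOf p M : Set G)).subgroupOf L).map
        (QuotientGroup.mk' D)) := by
  obtain ⟨hYL, hgen, hnorm, ⟨hcl, -⟩, -, ⟨hlt, hmax⟩, -⟩ := hL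
  set Y := Cfsg.largestPReducedOf p M
  set f := QuotientGroup.mk' D
  have hf : Function.Surjective f := QuotientGroup.mk'_surjective D
  have hY : Cfsg.IsElementaryAbelian p Y := (CfsgLib.Local.PRed.red_largest (p := p) M).elem
  have hc : ∀ a ∈ Y, ∀ b ∈ Y, a * b = b * a := fun a ha b hb => CfsgLib.Local.PRed.comm_of_elem hY ha hb
  have hkerf : f.ker = D := QuotientGroup.ker_mk' D
  have hP : (QuotientGroup.lift D π₀ hle).ker = (Cfsg.pCore p ↥L).map f := by
    rw [QuotientGroup.ker_lift, hker]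
  have hDY : D ≤ Y.subgroupOf L := by
    rw [hD]; exact fun x hx => hx.1
  have hDN : D ≤ (L ⊓ normalizer (Y : Set G)).subgroupOf L := fun x hx =>
    ⟨x.2, Subgroup.le_normalizer (hDY hx)⟩
  refine
    { normal := inferInstance
      comm := ?_, quad := ?_, le := ?_, ne_top := ?_, max := ?_, normalizes := ?_
      closure := ?_, gen := ?_, inter := ?_ }
  · rintro _ ⟨a, ha, rfl⟩ _ ⟨b, hb, rfl⟩
    rw [← map_mul, ← map_mul, show a * b = b * a from Subtype.ext (hc _ ha _ hb)]
  · rw [hP]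
    rintro _ ⟨x, hx, rfl⟩ _ ⟨y, hy, rfl⟩
    refine ⟨y * x * y⁻¹ * x⁻¹, ?_, by simp⟩
    have h1 : (x : G) ∈ normalizer (Y : Set G) := hnorm ⟨x, hx, rfl⟩
    have h2 := (mem_normalizer_iff.mp h1 ((y : G)⁻¹)).mp (inv_mem hy)
    change (y : G) * x * (y : G)⁻¹ * (x : G)⁻¹ ∈ Y
    have h3 := mul_mem (show (y : G) ∈ Y from hy) h2
    simpa [mul_assoc] using h3
  · exact Subgroup.map_mono fun x hx => ⟨x.2, Subgroup.le_normalizer hx⟩
  · intro e
    refine hlt.ne (le_antisymm inf_le_left fun x hx => ?_)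
    have h2 : (⟨x, hx⟩ : ↥L) ∈ (((L ⊓ normalizer (Y : Set G)).subgroupOf L).map f).comap f := by
      rw [Subgroup.mem_comap, e]; exact mem_top _
    rw [Subgroup.comap_map_eq, hkerf, sup_eq_left.mpr hDN] at h2
    exact h2
  · intro X hX hXt
    set X' := (X.comap f).map L.subtype
    have h1 : Y ≤ X' := fun y hy => ⟨⟨y, hYL hy⟩, hX ⟨⟨y, hYL hy⟩, hy, rfl⟩, rfl⟩
    have h2 : X' < L := by
      refine lt_of_le_of_ne (Subgroup.map_subtype_le _) fun e => hXt ?_
      refine eq_top_iff.mpr fun a _ => ?_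
      obtain ⟨x, rfl⟩ := hf a
      obtain ⟨x', hx', hxx⟩ := e.ge x.2
      exact (Subtype.ext hxx : x' = x) ▸ hx'
    intro a ha
    obtain ⟨x, rfl⟩ := hf a
    exact ⟨x, hmax X' h1 h2 ⟨x, ha, rfl⟩, rfl⟩
  · refine (Subgroup.map_mono fun x hx => ?_).trans (Subgroup.le_normalizer_map f)
    rw [mem_normalizer_iff]
    exact fun n => mem_normalizer_iff.mp hx.2 n
  · rw [Subgroup.coe_map, ← Subgroup.map_normalClosure _ f hf, hcl, Subgroup.map_top_of_surjective f hf]
  · rw [hP]
    have h1 : Cfsg.pCore p ↥L = Subgroup.normalClosure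
        (((Y ⊓ Cfsg.pCoreOf p L).subgroupOf L : Subgroup ↥L) : Set ↥L) :=
      Subgroup.map_injective L.subtype_injective hgen
    conv_lhs => rw [h1, Subgroup.map_normalClosure _ f hf]
    refine Subgroup.normalClosure_mono ?_
    rintro _ ⟨x, hx, rfl⟩
    obtain ⟨x', hx', hxx⟩ := hx.2
    exact ⟨mem_map_of_mem f hx.1, mem_map_of_mem f ((Subtype.ext hxx : x' = x) ▸ hx')⟩
  · intro k hk a ha hka
    obtain ⟨k₀, rfl⟩ := hf k
    obtain ⟨x, hx, rfl⟩ := ha.1
    obtain ⟨x', hx', hxx⟩ := hka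
    have hx2 : k₀⁻¹ * x * k₀ ∈ Y.subgroupOf L := by
      have h1 : x'⁻¹ * (k₀⁻¹ * x * k₀) ∈ D := by
        rw [← hkerf, MonoidHom.mem_ker, map_mul, map_inv, hxx, map_mul, map_mul, map_inv]
        group
      simpa using mul_mem hx' (hDY h1)
    set C := centralizer ({x} : Set ↥L)
    have hC1 : Y.subgroupOf L ≤ C := fun y hy =>
      mem_centralizer_singleton_iff.mpr (Subtype.ext (hc _ hy _ hx))
    have hC2 : MulAut.conj k₀ • Y.subgroupOf L ≤ C := by
      intro y hy
      rw [CfsgLib.Core.mem_conj_smul] at hy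
      rw [mem_centralizer_singleton_iff]
      have h1 : Commute (k₀⁻¹ * y * k₀) (k₀⁻¹ * x * k₀) := Subtype.ext (hc _ hy _ hx2)
      have h2 := (Commute.conj_iff k₀).mpr h1
      simpa [mul_assoc] using h2.eq
    have hC3 : D ≤ C := by
      intro d hd
      rw [hD] at hd
      exact mem_centralizer_singleton_iff.mpr (Subtype.ext
        (mem_centralizer_iff.mp hd.2 _ x.2).symm)
    have hC : C = ⊤ := by
      have h1 : C.map f = ⊤ := by
        rw [eq_top_iff, ← hk, sup_le_iff]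
        exact ⟨Subgroup.map_mono hC1, by
          rw [← CfsgLib.Core.map_conj_smul]; exact Subgroup.map_mono hC2⟩
      have h2 := congrArg (Subgroup.comap f) h1
      rwa [Subgroup.comap_map_eq, hkerf, sup_eq_left.mpr hC3, Subgroup.comap_top] at h2
    rw [← MonoidHom.mem_ker, hkerf, hD]
    refine ⟨hx, mem_centralizer_iff.mpr fun l hl => ?_⟩
    exact congrArg Subtype.val (mem_centralizer_singleton_iff.mp (hC.ge (mem_top ⟨l, hl⟩)))

end CfsgLib.Local.FrakL
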