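import Cfsg.Prelude.Def_PLocal
import Cfsg.Agent.Lib.StableReplace
import Cfsg.Agent.Lib.CoreBasic
import Mathlib.GroupTheory.Subgroup.Centralizer

/-!
# The explicit form of the replacement theorem
-/

set_option autoImplicit false

universe u

namespace CfsgLib.GlaubermanReplace

open Subgroup
open scoped commutatorElement

variable {G : Type u} [Group G]

theorem commute_of_bot {X Y : Subgroup G} (h : ⁅X, Y⁆ = ⊥) {x y : G} (hx : x ∈ X) (hy : y ∈ Y) :
    Commute x y := by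
  have h1 := commutator_mem_commutator hx hy
  rw [h, mem_bot, commutatorElement_eq_one_iff_mul_comm] at h1
  exact h1

theorem comm_le_self (B : Subgroup G) : ⁅B, B⁆ ≤ B :=
  Subgroup.commutator_le.mpr fun x hx y hy => by
    rw [commutatorElement_def]
    exact mul_mem (mul_mem (mul_mem hx hy) (inv_mem hx)) (inv_mem hy)

theorem comm_derived_bot (A B : Subgroup G) (hc : ⁅⁅B, B⁆, A⁆ = ⊥) :
    ⁅⁅A, B⁆, ⁅B, B⁆⁆ = ⊥ := by
  refine commutator_commutator_eq_bot_of_rotate ?_ (by rw [hc, commutator_bot_left])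
  rw [eq_bot_iff, ← hc]
  refine commutator_mono ((commutator_comm B ⁅B, B⁆).le.trans ?_) le_rfl
  exact commutator_mono (comm_le_self B) le_rfl

theorem derived_central (A B : Subgroup G) (hAB : A ≤ normalizer (B : Set G))
    (hc : ⁅⁅B, B⁆, A⁆ = ⊥) : ⁅⁅B, A⁆, ⁅B, A⁆⁆ ≤ B ⊓ centralizer (B : Set G) := by
  have hMB : ⁅B, A⁆ ≤ B := Subgroup.commutator_le.mpr fun b hb a ha => by
    rw [commutatorElement_def, show b * a * b⁻¹ * a⁻¹ = b * (a * b⁻¹ * a⁻¹) by group]
    exact mul_mem hb ((mem_normalizer_iff.mp (hAB ha) _).mp (inv_mem hb))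
  have h1 := comm_derived_bot A B hc
  rw [commutator_comm A B] at h1
  refine le_inf ((commutator_mono hMB hMB).trans (comm_le_self B)) ?_
  rw [← commutator_eq_bot_iff_le_centralizer]
  have h2 : ⁅⁅B, ⁅B, A⁆⁆, ⁅B, A⁆⁆ = ⊥ := by
    rw [eq_bot_iff, ← h1, commutator_comm ⁅B, A⁆ ⁅B, B⁆]
    exact commutator_mono (commutator_mono le_rfl hMB) le_rfl
  refine commutator_commutator_eq_bot_of_rotate ?_ h2
  rw [commutator_comm ⁅B, A⁆ B]; exact h2

theorem sq_eq_one (A B : Subgroup G) (hAB : A ≤ normalizer (B : Set G))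
    (hc : ⁅⁅B, B⁆, A⁆ = ⊥) (hA : IsMulCommutative A) {b : G} (hb : b ∈ B)
    (h3 : ⁅⁅closure {g : G | ∃ a ∈ A, g = b⁻¹ * a * b * a⁻¹}, A⁆, A⁆ = ⊥) :
    ∀ w ∈ ⁅closure {g : G | ∃ a ∈ A, g = b⁻¹ * a * b * a⁻¹},
        closure {g : G | ∃ a ∈ A, g = b⁻¹ * a * b * a⁻¹}⁆, w ^ 2 = 1 := by
  set K := closure {g : G | ∃ a ∈ A, g = b⁻¹ * a * b * a⁻¹} with hK
  set β := b⁻¹ with hβ
  have hβB : β ∈ B := inv_mem hb
  let X : G → G := fun a => β * a * β⁻¹ * a⁻¹
  have hXK : ∀ a ∈ A, X a ∈ K := fun a ha => subset_closure ⟨a, ha, by simp [X, hβ]⟩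
  have hKM : K ≤ ⁅B, A⁆ := (closure_le _).mpr (by
    rintro _ ⟨a, ha, rfl⟩
    have := commutator_mem_commutator hβB ha
    rwa [commutatorElement_def, hβ, inv_inv] at this)
  have hMB : ⁅B, A⁆ ≤ B := Subgroup.commutator_le.mpr fun b hb a ha => by
    rw [commutatorElement_def, show b * a * b⁻¹ * a⁻¹ = b * (a * b⁻¹ * a⁻¹) by group]
    exact mul_mem hb ((mem_normalizer_iff.mp (hAB ha) _).mp (inv_mem hb))
  have hcent := derived_central A B hAB hc
  have hMB' : ⁅⁅B, B⁆, ⁅B, A⁆⁆ = ⊥ := by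
    have h1 := comm_derived_bot A B hc
    rw [commutator_comm, commutator_comm B A]; exact h1
  have hKB : ∀ a ∈ A, X a ∈ B := fun a ha => hMB (hKM (hXK a ha))
  have hAc : ∀ a ∈ A, ∀ a' ∈ A, a * a' = a' * a := fun a ha a' ha' =>
    congrArg Subtype.val (hA.is_comm.comm (⟨a, ha⟩ : A) ⟨a', ha'⟩)
  let F : G → G → G := fun a₂ a₁ => ⁅a₂, X a₁⁆
  have hFA : ∀ a₁ ∈ A, ∀ a₂ ∈ A, ∀ a ∈ A, Commute (F a₂ a₁) a := fun a₁ h₁ a₂ h₂ a ha => by
    refine commute_of_bot h3 ?_ ha
    rw [show F a₂ a₁ = ⁅X a₁, a₂⁆⁻¹ from (commutatorElement_inv _ _).symm]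
    exact inv_mem (commutator_mem_commutator (hXK a₁ h₁) h₂)
  have hFB : ∀ a₁ ∈ A, ∀ a₂ ∈ A, F a₂ a₁ ∈ B := fun a₁ h₁ a₂ h₂ => by
    show ⁅a₂, X a₁⁆ ∈ B
    rw [commutatorElement_def]
    exact mul_mem ((mem_normalizer_iff.mp (hAB h₂) _).mp (hKB a₁ h₁)) (inv_mem (hKB a₁ h₁))
  have hFK : ∀ a₁ ∈ A, ∀ a₂ ∈ A, ∀ a ∈ A, Commute (F a₂ a₁) (X a) := by
    intro a₁ h₁ a₂ h₂ a ha
    set f := F a₂ a₁ with hf
    have hd : ⁅β, f⁆ ∈ ⁅B, B⁆ := commutator_mem_commutator hβB (hFB a₁ h₁ a₂ h₂)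
    have hd1 : Commute ⁅β, f⁆ a := commute_of_bot hc hd ha
    have hd2 : Commute ⁅β, f⁆ (X a) := commute_of_bot hMB' hd (hKM (hXK a ha))
    have h1 : Commute (⁅β, f⁆ * f) (X a * a) := by
      have := (hFA a₁ h₁ a₂ h₂ a ha).map (MulAut.conj β).toMonoidHom
      simp only [MulEquiv.coe_toMonoidHom, MulAut.conj_apply] at this
      rwa [show ⁅β, f⁆ * f = β * f * β⁻¹ by rw [commutatorElement_def, inv_mul_cancel_right],
        show X a * a = β * a * β⁻¹ by simp [X]]
    have h2 : Commute f (X a * a) := by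
      have := ((hd2.mul_right hd1).inv_left).mul_left h1
      rwa [inv_mul_cancel_left] at this
    have h3' := h2.mul_right ((hFA a₁ h₁ a₂ h₂ a ha).inv_right)
    rwa [mul_inv_cancel_right] at h3'
  have hgen : ∀ a₁ ∈ A, ∀ a₂ ∈ A, ⁅X a₁, X a₂⁆ ^ 2 = 1 := by
    intro a₁ h₁ a₂ h₂
    set x := X a₁ with hx
    set y := X a₂ with hy
    have step : ∀ u ∈ A, ∀ v ∈ A, β * F v u * β⁻¹ = F v u * ⁅X v, X u⁆ := by
      intro u hu v hv
      have hz : ⁅β, X u⁆ ∈ ⁅B, B⁆ := commutator_mem_commutator hβB (hKB u hu)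
      set z := ⁅β, X u⁆ with hzdef
      have hza : Commute z v := commute_of_bot hc hz hv
      have hzy : Commute z (X v) := commute_of_bot hMB' hz (hKM (hXK v hv))
      have e1 : β * X u * β⁻¹ = z * X u := by rw [hzdef, commutatorElement_def, inv_mul_cancel_right]
      have e2 : β * v * β⁻¹ = X v * v := by simp [X]
      calc β * F v u * β⁻¹ = ⁅β * v * β⁻¹, β * X u * β⁻¹⁆ := by
            simp only [F, commutatorElement_def]; group
        _ = (X v * v) * z * X u * (X v * v)⁻¹ * (X u)⁻¹ * z⁻¹ := by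
            rw [e1, e2, commutatorElement_def]; group
        _ = z * ((X v * v) * X u * (X v * v)⁻¹ * (X u)⁻¹) * z⁻¹ := by
            rw [((hzy.mul_right hza).symm).eq]; group
        _ = z * (X v * F v u * (X u * (X v)⁻¹ * (X u)⁻¹)) * z⁻¹ := by
            simp only [F, commutatorElement_def]; group
        _ = z * (F v u * ⁅X v, X u⁆) * z⁻¹ := by
            rw [← (hFK u hu v hv v hv).eq, commutatorElement_def]; group
        _ = F v u * ⁅X v, X u⁆ := by
            have hcz : Commute z (F v u * ⁅X v, X u⁆) := by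
              refine Commute.mul_right ?_ ?_
              · have hzu : Commute z (X u) := commute_of_bot hMB' hz (hKM (hXK u hu))
                show Commute z ⁅v, X u⁆
                rw [commutatorElement_def]
                exact ((hza.mul_right hzu).mul_right hza.inv_right).mul_right hzu.inv_right
              · have hzu : Commute z (X u) := commute_of_bot hMB' hz (hKM (hXK u hu))
                rw [commutatorElement_def]
                exact ((hzy.mul_right hzu).mul_right hzy.inv_right).mul_right hzu.inv_right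
            rw [hcz.eq, mul_inv_cancel_right]
    have hswap : F a₁ a₂ * (x * y) = F a₂ a₁ * (y * x) := by
      have e1 : X (a₁ * a₂) = x * (F a₁ a₂ * y) := by
        simp only [X, F, hx, hy, commutatorElement_def]; group
      have e2 : X (a₁ * a₂) = y * (F a₂ a₁ * x) := by
        rw [hAc a₁ h₁ a₂ h₂]; simp only [X, F, hx, hy, commutatorElement_def]; group
      calc F a₁ a₂ * (x * y) = x * (F a₁ a₂ * y) := by
            rw [← mul_assoc, (hFK a₂ h₂ a₁ h₁ a₁ h₁).eq, mul_assoc]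
        _ = y * (F a₂ a₁ * x) := e1.symm.trans e2
        _ = _ := by rw [← mul_assoc, ← (hFK a₁ h₁ a₂ h₂ a₂ h₂).eq, mul_assoc]
    set F₁ := F a₁ a₂ with hF₁
    set F₂ := F a₂ a₁ with hF₂
    set c := ⁅x, y⁆ with hcdef
    have hcF : ∀ u ∈ A, ∀ v ∈ A, Commute c (F v u) := fun u hu v hv => by
      rw [hcdef, commutatorElement_def]
      exact ((((hFK u hu v hv a₁ h₁).symm).mul_left (hFK u hu v hv a₂ h₂).symm).mul_left
        (hFK u hu v hv a₁ h₁).symm.inv_left).mul_left (hFK u hu v hv a₂ h₂).symm.inv_left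
    have hc0 : F₁ * c = F₂ := by
      calc F₁ * c = F₁ * (x * y) * (y * x)⁻¹ := by rw [hcdef, commutatorElement_def]; group
        _ = F₂ := by rw [hswap, mul_inv_cancel_right]
    have hbc : β * c * β⁻¹ = c := by
      have h1 := (hcent (commutator_mem_commutator (hKM (hXK a₁ h₁)) (hKM (hXK a₂ h₂))))
      rw [mem_centralizer_iff.mp (mem_inf.mp h1).2 β hβB, mul_inv_cancel_right]
    have s1 := step a₂ h₂ a₁ h₁
    have s2 := step a₁ h₁ a₂ h₂
    have e3 : β * F₁ * β⁻¹ * (β * c * β⁻¹) = β * F₂ * β⁻¹ := by rw [← hc0]; group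
    rw [s1, hbc, s2, ← hx, ← hy, ← hcdef, show ⁅y, x⁆ = c⁻¹ from (commutatorElement_inv x y).symm,
      show F a₂ a₁ = F a₁ a₂ * c from hc0.symm, mul_inv_cancel_right] at e3
    rw [sq]
    exact mul_eq_left.mp (by rw [← mul_assoc]; exact e3)
  have hle : K ≤ normalizer ((B ⊓ centralizer (B : Set G) : Subgroup G) : Set G) := le_trans (hKM.trans hMB)
    (fun z hz => mem_normalizer_iff.mpr fun w => by
      have key : ∀ z ∈ B, ∀ w ∈ B ⊓ centralizer (B : Set G), z * w * z⁻¹ = w := fun z hz w hw => by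
        rw [mem_centralizer_iff.mp (mem_inf.mp hw).2 z hz, mul_inv_cancel_right]
      refine ⟨fun hw => by rw [key z hz w hw]; exact hw, fun hw => ?_⟩
      have := key z⁻¹ (inv_mem hz) _ hw
      rw [show z⁻¹ * (z * w * z⁻¹) * z⁻¹⁻¹ = w by group] at this
      rwa [← this] at hw)
  let E : Subgroup G :=
    { carrier := {w | w ∈ B ⊓ centralizer (B : Set G) ∧ w ^ 2 = 1}
      one_mem' := ⟨one_mem _, one_pow 2⟩
      mul_mem' := fun {u v} hu hv => ⟨mul_mem hu.1 hv.1, by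
        rw [(show Commute u v from mem_centralizer_iff.mp (mem_inf.mp hv.1).2 u (mem_inf.mp hu.1).1).mul_pow,
          hu.2, hv.2, one_mul]⟩
      inv_mem' := fun {u} hu => ⟨inv_mem hu.1, by rw [inv_pow, hu.2, inv_one]⟩ }
  have hEc : ∀ z ∈ K, ∀ w ∈ E, z * w * z⁻¹ = w := fun z hz w hw => by
    rw [mem_centralizer_iff.mp (mem_inf.mp hw.1).2 z (hMB (hKM hz)), mul_inv_cancel_right]
  have hmem : ∀ u ∈ K, ∀ v ∈ K, ⁅u, v⁆ ∈ E := by
    intro u hu
    induction hu using closure_induction with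
    | mem u hu =>
      obtain ⟨a, ha, rfl⟩ := hu
      intro v hv
      induction hv using closure_induction with
      | mem v hv =>
        obtain ⟨a', ha', rfl⟩ := hv
        refine ⟨hcent (commutator_mem_commutator (hKM (subset_closure ⟨a, ha, rfl⟩))
          (hKM (subset_closure ⟨a', ha', rfl⟩))), ?_⟩
        have := hgen a ha a' ha'
        simpa [X, hβ] using this
      | one => rw [commutatorElement_one_right]; exact one_mem _
      | mul v w hv hw ihv ihw =>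
        rw [show ⁅β * a * b * a⁻¹, v * w⁆ = ⁅β * a * b * a⁻¹, v⁆ * (v * ⁅β * a * b * a⁻¹, w⁆ * v⁻¹) by
          simp only [commutatorElement_def]; group, hEc v hv _ ihw]
        exact mul_mem ihv ihw
      | inv v hv ihv =>
        rw [show ⁅β * a * b * a⁻¹, v⁻¹⁆ = v⁻¹ * ⁅β * a * b * a⁻¹, v⁆⁻¹ * v⁻¹⁻¹ by
          simp only [commutatorElement_def]; group, hEc _ (inv_mem hv) _ (inv_mem ihv)]
        exact inv_mem ihv
    | one => intro v _; rw [commutatorElement_one_left]; exact one_mem _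
    | mul u w hu hw ihu ihw =>
      intro v hv
      rw [show ⁅u * w, v⁆ = (u * ⁅w, v⁆ * u⁻¹) * ⁅u, v⁆ by simp only [commutatorElement_def]; group,
        hEc u hu _ (ihw v hv)]
      exact mul_mem (ihw v hv) (ihu v hv)
    | inv u hu ihu =>
      intro v hv
      rw [show ⁅u⁻¹, v⁆ = u⁻¹ * ⁅u, v⁆⁻¹ * u⁻¹⁻¹ by simp only [commutatorElement_def]; group,
        hEc _ (inv_mem hu) _ (inv_mem (ihu v hv))]
      exact inv_mem (ihu v hv)
  exact fun w hw => ((Subgroup.commutator_le.mpr hmem) hw).2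

variable [Finite G] {p : ℕ} [hp : Fact p.Prime]

theorem replacement_explicit (hS : IsPGroup p G) (B : Subgroup G) [B.Normal]
    (hB2 : p = 2 → IsMulCommutative B) (A : Subgroup G) (hA : IsMulCommutative A)
    (hBA : ⁅B, B⁆ ≤ A) (hnot : ¬ B ≤ normalizer (A : Set G)) (b : G) (hb : b ∈ B)
    (hbN : b ∈ normalizer ((normalizer (A : Set G)) : Set G)) (hbA : b ∉ normalizer (A : Set G))
    (As : Subgroup G) (hAsdef : As = (A ⊓ A.map (MulAut.conj b⁻¹).toMonoidHom) ⊔
      closure {g : G | ∃ a ∈ A, g = a * b⁻¹ * a⁻¹ * b}) :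
    Nat.card As = Nat.card A ∧ IsMulCommutative As ∧ ⁅B, B⁆ ≤ As ∧ A ⊓ B < As ⊓ B ∧ As ⊓ B < B ∧
      A ≤ normalizer (As : Set G) ∧ As ≤ normalizer (A : Set G) ∧ b ∈ normalizer (As : Set G) ∧
      normalizer (A : Set G) < normalizer (As : Set G) ∧
      (p ≠ 2 → Monoid.exponent As ∣ Monoid.exponent A) := by
  set N := normalizer (A : Set G) with hN
  set β := b⁻¹ with hβ
  have hβB : β ∈ B := inv_mem hb
  set A' := A.map (MulAut.conj β).toMonoidHom with hA'
  have hA'mem : ∀ {u : G}, u ∈ A' ↔ ∃ a ∈ A, β * a * β⁻¹ = u := by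
    intro u; simp [hA', Subgroup.mem_map]
  have hAc : ∀ a ∈ A, ∀ a' ∈ A, a * a' = a' * a := fun a ha a' ha' =>
    congrArg Subtype.val (hA.is_comm.comm (⟨a, ha⟩ : A) ⟨a', ha'⟩)
  have hA'c : ∀ u ∈ A', ∀ v ∈ A', u * v = v * u := by
    intro u hu v hv
    obtain ⟨a, ha, rfl⟩ := hA'mem.1 hu
    obtain ⟨a', ha', rfl⟩ := hA'mem.1 hv
    exact ((show Commute a a' from hAc a ha a' ha').map (MulAut.conj β).toMonoidHom).eq
  have hAN : A ≤ N := le_normalizer
  have hA'N : A' ≤ N := fun u hu => by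
    obtain ⟨a, ha, rfl⟩ := hA'mem.1 hu
    exact (mem_normalizer_iff.1 (inv_mem hbN) a).1 (hAN ha)
  have hAA' : A ≤ normalizer (A' : Set G) := by
    intro a ha
    refine mem_normalizer_fintype fun u hu => ?_
    obtain ⟨a₁, ha₁, rfl⟩ := hA'mem.1 hu
    have hn : b * a * b⁻¹ ∈ N := (mem_normalizer_iff.1 hbN a).1 (hAN ha)
    refine hA'mem.2 ⟨_, (mem_normalizer_iff.1 hn a₁).1 ha₁, ?_⟩
    rw [hβ]; group
  -- the set of commutators
  set M := closure {g : G | ∃ a ∈ A, g = β * a * b * a⁻¹} with hMdef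
  have hMeq : closure {g : G | ∃ a ∈ A, g = a * b⁻¹ * a⁻¹ * b} = M := by
    refine le_antisymm ((closure_le _).mpr ?_) ((closure_le _).mpr ?_)
    · rintro _ ⟨a, ha, rfl⟩
      rw [SetLike.mem_coe, ← inv_mem_iff]
      exact subset_closure ⟨a, ha, by rw [hβ]; group⟩
    · rintro _ ⟨a, ha, rfl⟩
      rw [SetLike.mem_coe, ← inv_mem_iff]
      exact subset_closure ⟨a, ha, by rw [hβ]; group⟩
  rw [hMeq] at hAsdef
  have hgen : ∀ a ∈ A, β * a * b * a⁻¹ ∈ M := fun a ha => subset_closure ⟨a, ha, rfl⟩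
  have hbβ : b = β⁻¹ := (inv_inv b).symm
  set T₀ := A ⊔ A' with hT₀
  have hT₀N : T₀ ≤ N := sup_le hAN hA'N
  have hMT : M ≤ T₀ := (closure_le _).mpr (by
    rintro _ ⟨a, ha, rfl⟩
    rw [hbβ]
    exact mul_mem (mem_sup_right (hA'mem.2 ⟨a, ha, rfl⟩)) (mem_sup_left (inv_mem ha)))
  have hMB : M ≤ B := (closure_le _).mpr (by
    rintro _ ⟨a, ha, rfl⟩
    rw [show β * a * b * a⁻¹ = β * (a * b * a⁻¹) by group]
    exact mul_mem hβB ((inferInstance : B.Normal).conj_mem b hb a))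
  have hcA : ⁅⁅B, B⁆, A⁆ = ⊥ := commutator_eq_bot_iff_le_centralizer.mpr
    (hBA.trans fun x hx => mem_centralizer_iff.mpr fun a ha => hAc a ha x hx)
  have hMc : ∀ u ∈ M, ∀ v ∈ M, u * v = v * u := by
    intro u hu v hv
    by_cases hp2 : p = 2
    · exact congrArg Subtype.val ((hB2 hp2).is_comm.comm (⟨u, hMB hu⟩ : B) ⟨v, hMB hv⟩)
    have h3 : ⁅⁅M, A⁆, A⁆ = ⊥ := by
      rw [commutator_eq_bot_iff_le_centralizer]
      refine Subgroup.commutator_le.mpr fun m hm a ha => mem_centralizer_iff.mpr fun a' ha' => ?_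
      refine hAc a' ha' _ ?_
      rw [commutatorElement_def]
      exact mul_mem ((mem_normalizer_iff.1 (hT₀N (hMT hm)) a).1 ha) (inv_mem ha)
    have hsq := sq_eq_one A B (le_top.trans (normalizer_eq_top B).ge) hcA hA hb h3
      _ (commutator_mem_commutator hu hv)
    obtain ⟨k, hk⟩ := hS ⁅u, v⁆
    obtain ⟨j, hj⟩ : Odd (p ^ k) := (hp.out.odd_of_ne_two hp2).pow
    rw [hj, pow_add, pow_mul, hsq, one_pow, one_mul, pow_one] at hk
    exact commutatorElement_eq_one_iff_mul_comm.mp hk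
  have hABle : A ⊓ B ≤ A' := by
    intro x hx
    obtain ⟨hxA, hxB⟩ := mem_inf.mp hx
    refine hA'mem.2 ⟨b * x * b⁻¹, ?_, by rw [hβ]; group⟩
    have := mul_mem (hBA (commutator_mem_commutator hb hxB)) hxA
    rwa [commutatorElement_def, inv_mul_cancel_right] at this
  set C := A ⊓ A' with hC
  have hCT : ∀ c ∈ C, ∀ t ∈ T₀, c * t = t * c := by
    intro c hc t ht
    have hle : T₀ ≤ centralizer ({c} : Set G) := sup_le
      (fun a ha => mem_centralizer_singleton_iff.mpr (hAc a ha c (mem_inf.mp hc).1))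
      (fun a ha => mem_centralizer_singleton_iff.mpr (hA'c a ha c (mem_inf.mp hc).2))
    exact (mem_centralizer_singleton_iff.mp (hle ht)).symm
  have hCn : M ≤ normalizer (C : Set G) := fun m hm => centralizer_le_normalizer _
    (mem_centralizer_iff.mpr fun c hc => hCT c hc m (hMT hm))
  have hAs : As = M ⊔ C := by rw [hAsdef, sup_comm]
  have hmem : ∀ z ∈ As, ∃ m ∈ M, ∃ c ∈ C, m * c = z := fun z hz =>
    (CfsgLib.Core.mem_sup_iff_of_le_normalizer hCn).mp (hAs ▸ hz)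
  have hMAs : M ≤ As := hAs ▸ le_sup_left
  have hCAs : C ≤ As := hAs ▸ le_sup_right
  have hABAs : A ⊓ B ≤ As := (le_inf inf_le_left hABle).trans hCAs
  have hAst : As ≤ T₀ := hAs ▸ sup_le hMT (inf_le_left.trans le_sup_left)
  have hT₀eq : M ⊔ A = T₀ := by
    refine le_antisymm (sup_le hMT le_sup_left) (sup_le le_sup_right fun u hu => ?_)
    obtain ⟨a, ha, rfl⟩ := hA'mem.1 hu
    rw [show β * a * β⁻¹ = β * a * b * a⁻¹ * a by rw [hbβ]; group]
    exact mul_mem_sup (hgen a ha) ha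
  have hcard : Nat.card As = Nat.card A := by
    have e1 := CfsgLib.Core.card_sup_mul_card_inf (A := M) (K := A) (hMT.trans hT₀N)
    have e2 := CfsgLib.Core.card_sup_mul_card_inf (A := M) (K := C) hCn
    have e3 := CfsgLib.Core.card_sup_mul_card_inf (A := A') (K := A) hA'N
    have hinf : M ⊓ C = M ⊓ A := by
      refine le_antisymm (inf_le_inf_left _ inf_le_left) (le_inf inf_le_left ?_)
      exact le_inf inf_le_right (le_trans (le_inf inf_le_right (inf_le_left.trans hMB)) hABle)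
    rw [hT₀eq] at e1
    rw [← hAs, hinf] at e2
    rw [sup_comm, ← hT₀, inf_comm, ← hC, hA',
      card_map_of_injective (f := (MulAut.conj β).toMonoidHom) (MulAut.conj β).injective] at e3
    refine Nat.eq_of_mul_eq_mul_left (Nat.mul_pos (Nat.card_pos (α := A)) (Nat.card_pos (α := ↥(M ⊓ A)))) ?_
    calc Nat.card A * Nat.card ↥(M ⊓ A) * Nat.card As
        = (Nat.card As * Nat.card ↥(M ⊓ A)) * Nat.card A := by ring
      _ = (Nat.card M * Nat.card A) * Nat.card C := by rw [e2]; ring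
      _ = (Nat.card T₀ * Nat.card C) * Nat.card ↥(M ⊓ A) := by rw [← e1]; ring
      _ = _ := by rw [e3]; ring
  have hAsc : IsMulCommutative As := ⟨⟨fun u v => Subtype.ext (by
    obtain ⟨m, hm, c, hc, e⟩ := hmem u u.2
    obtain ⟨m', hm', c', hc', e'⟩ := hmem v v.2
    show (u : G) * v = v * u
    rw [← e, ← e']
    exact (((show Commute m m' from hMc m hm m' hm').mul_right (hCT c' hc' m (hMT hm)).symm).mul_left
      ((show Commute c m' from hCT c hc m' (hMT hm')).mul_right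
        (hAc c (mem_inf.mp hc).1 c' (mem_inf.mp hc').1))).eq)⟩⟩
  have hBB : ⁅B, B⁆ ≤ As := (le_inf hBA (commutator_le_left B B)).trans hABAs
  have hnMA : ¬ M ≤ A := by
    intro h
    refine hbA ?_
    have : β ∈ N := mem_normalizer_fintype fun a ha => by
      have := mul_mem (h (hgen a ha)) ha
      rwa [inv_mul_cancel_right, hbβ] at this
    rw [hbβ]; exact inv_mem this
  have hB'conj : ∀ z ∈ B, ∀ m ∈ M, z * m * z⁻¹ ∈ As := fun z hz m hm => by
    rw [show z * m * z⁻¹ = ⁅z, m⁆ * m by rw [commutatorElement_def, inv_mul_cancel_right]]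
    exact mul_mem (hBB (commutator_mem_commutator hz (hMB hm))) (hMAs hm)
  have hnorm : ∀ g, (∀ m ∈ {g : G | ∃ a ∈ A, g = β * a * b * a⁻¹}, g * m * g⁻¹ ∈ As) →
      (∀ c ∈ C, g * c * g⁻¹ ∈ As) → g ∈ normalizer (As : Set G) := by
    intro g h1 h2
    refine mem_normalizer_fintype fun z hz => ?_
    have hle : As ≤ As.comap (MulAut.conj g).toMonoidHom := by
      conv_lhs => rw [hAs, hMdef]
      exact sup_le ((closure_le _).mpr h1) h2
    exact hle hz
  have hAAs : A ≤ normalizer (As : Set G) := by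
    intro a ha
    refine hnorm a ?_ fun c hc => ?_
    · intro m hm
      have hm' : m ∈ M := subset_closure hm
      rw [show a * m * a⁻¹ = (a * m * a⁻¹ * m⁻¹) * m by group]
      refine mul_mem (hABAs (mem_inf.mpr ⟨?_, ?_⟩)) (hMAs hm')
      · rw [show a * m * a⁻¹ * m⁻¹ = a * (m * a⁻¹ * m⁻¹) by group]
        exact mul_mem ha ((mem_normalizer_iff.1 (hT₀N (hMT hm')) _).1 (inv_mem ha))
      · exact mul_mem ((inferInstance : B.Normal).conj_mem m (hMB hm') a) (inv_mem (hMB hm'))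
    · rw [hAc a ha c (mem_inf.mp hc).1, mul_inv_cancel_right]; exact hCAs hc
  have hbAs : b ∈ normalizer (As : Set G) := by
    refine hnorm b (fun m hm => hB'conj b hb m (subset_closure hm)) fun c hc => ?_
    rw [show b * c * b⁻¹ = b * c * b⁻¹ * c⁻¹ * c by group]
    refine mul_mem (hABAs (mem_inf.mpr ⟨mul_mem ?_ (inv_mem (mem_inf.mp hc).1), ?_⟩)) (hCAs hc)
    · obtain ⟨a, ha, he⟩ := hA'mem.1 (mem_inf.mp hc).2
      rw [← he, hβ, show b * (b⁻¹ * a * b⁻¹⁻¹) * b⁻¹ = a by group]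
      exact ha
    · rw [show b * c * b⁻¹ * c⁻¹ = b * (c * b⁻¹ * c⁻¹) by group]
      exact mul_mem hb ((inferInstance : B.Normal).conj_mem _ (inv_mem hb) c)
  have hnN : ∀ n ∈ N, n ∈ B → n ∈ normalizer (As : Set G) := by
    intro n hn hnB
    refine hnorm n (fun m hm => hB'conj n hnB m (subset_closure hm)) fun c hc => ?_
    rw [show n * c * n⁻¹ = n * c * n⁻¹ * c⁻¹ * c by group]
    refine mul_mem (hABAs (mem_inf.mpr ⟨mul_mem ((mem_normalizer_iff.1 hn c).1 (mem_inf.mp hc).1)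
      (inv_mem (mem_inf.mp hc).1), ?_⟩)) (hCAs hc)
    rw [show n * c * n⁻¹ * c⁻¹ = n * (c * n⁻¹ * c⁻¹) by group]
    exact mul_mem hnB ((inferInstance : B.Normal).conj_mem _ (inv_mem hnB) c)
  have hNAs : N ≤ normalizer (As : Set G) := by
    intro g hg
    set n := g * β * g⁻¹ * β⁻¹ with hn
    have hnB : n ∈ B := mul_mem ((inferInstance : B.Normal).conj_mem β hβB g) (inv_mem hβB)
    have hnA : n ∈ N := by
      rw [hn, show g * β * g⁻¹ * β⁻¹ = g * (β * g⁻¹ * β⁻¹) by group]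
      exact mul_mem hg ((mem_normalizer_iff.1 (inv_mem hbN) _).1 (inv_mem hg))
    have hnAs := hnN n hnA hnB
    refine hnorm g ?_ fun c hc => ?_
    · rintro _ ⟨a, ha, rfl⟩
      set a' := g * a * g⁻¹ with ha'def
      have ha' : a' ∈ A := (mem_normalizer_iff.1 hg a).1 ha
      rw [show g * (β * a * b * a⁻¹) * g⁻¹ =
        n * (β * a' * b * a'⁻¹) * n⁻¹ * (n * a' * n⁻¹ * a'⁻¹) by rw [ha'def, hn, hβ]; group]
      refine mul_mem ((mem_normalizer_iff.1 hnAs _).1 (hMAs (hgen a' ha'))) (hABAs (mem_inf.mpr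
        ⟨mul_mem ((mem_normalizer_iff.1 hnA a').1 ha') (inv_mem ha'), ?_⟩))
      rw [show n * a' * n⁻¹ * a'⁻¹ = n * (a' * n⁻¹ * a'⁻¹) by group]
      exact mul_mem hnB ((inferInstance : B.Normal).conj_mem _ (inv_mem hnB) a')
    · obtain ⟨hcA, hcA'⟩ := mem_inf.mp hc
      have h1 : n⁻¹ * (g * c * g⁻¹) * n ∈ C := by
        refine mem_inf.mpr ⟨?_, ?_⟩
        · have := (mem_normalizer_iff.1 (inv_mem hnA) _).1 ((mem_normalizer_iff.1 hg c).1 hcA)
          rwa [inv_inv] at this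
        · obtain ⟨a, ha, rfl⟩ := hA'mem.1 hcA'
          exact hA'mem.2 ⟨g * a * g⁻¹, (mem_normalizer_iff.1 hg a).1 ha, by rw [hn]; group⟩
      have := (mem_normalizer_iff.1 hnAs _).1 (hCAs h1)
      rwa [show n * (n⁻¹ * (g * c * g⁻¹) * n) * n⁻¹ = g * c * g⁻¹ by group] at this
  refine ⟨hcard, hAsc, hBB, ?_, ?_, hAAs, hAst.trans hT₀N, hbAs, ?_, fun hp2 => ?_⟩
  · refine lt_of_le_of_ne (le_inf hABAs inf_le_right) fun e => hnMA ?_
    exact (e ▸ (le_inf hMAs hMB : M ≤ As ⊓ B)).trans inf_le_left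
  · exact lt_of_le_of_ne inf_le_right fun e => hnot ((inf_eq_right.mp e).trans (hAst.trans hT₀N))
  · exact lt_of_le_of_ne hNAs fun e => hbA (e ▸ hbAs)
  · set e := Monoid.exponent A with he
    have hAe : ∀ a ∈ A, a ^ e = 1 := fun a ha =>
      congrArg Subtype.val (Monoid.pow_exponent_eq_one (⟨a, ha⟩ : A))
    obtain ⟨k, hk⟩ := IsPGroup.iff_card.mp (hS.to_subgroup A)
    have hodd : Odd e := by
      have hd : e ∣ p ^ k := hk ▸ Group.exponent_dvd_nat_card
      obtain ⟨i, -, hi⟩ := (Nat.dvd_prime_pow hp.out).mp hd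
      rw [hi]; exact (hp.out.odd_of_ne_two hp2).pow
    have hx : ∀ a ∈ A, (β * a * b * a⁻¹) ^ e = 1 := by
      intro a ha
      set u := β * a * β⁻¹ with hu
      have hua : u ∈ A' := hA'mem.2 ⟨a, ha, rfl⟩
      set f := u * a * u⁻¹ * a⁻¹ with hf
      have hfA : f ∈ A := mul_mem ((mem_normalizer_iff.1 (hA'N hua) a).1 ha) (inv_mem ha)
      have hfC : f ∈ C := mem_inf.mpr ⟨hfA, by
        rw [hf, show u * a * u⁻¹ * a⁻¹ = u * (a * u⁻¹ * a⁻¹) by group]
        exact mul_mem hua ((mem_normalizer_iff.1 (hAA' ha) _).1 (inv_mem hua))⟩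
      have hfc := hCT f hfC
      have haT : a ∈ T₀ := mem_sup_left ha
      have hswap : a⁻¹ * u = f * (u * a⁻¹) := by
        calc a⁻¹ * u = (a⁻¹ * f) * (a * u) * a⁻¹ := by rw [hf]; group
          _ = f * (u * a⁻¹) := by rw [← hfc _ (inv_mem haT)]; group
      have h2 := CfsgLib.Stable.mul_pow_of_central (x := u) (y := a⁻¹) (c := f) hswap
        (hfc u (mem_sup_right hua)) (hfc _ (inv_mem haT)) e
      rw [show β * a * b * a⁻¹ = u * a⁻¹ by rw [hu, show β⁻¹ = b from hbβ.symm], h2, hu, conj_pow, hAe a ha, inv_pow,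
        hAe a ha, mul_one, mul_inv_cancel, inv_one, mul_one, mul_one]
      obtain ⟨j, hj⟩ := hodd
      have hch : e.choose 2 = e * j := by
        rw [Nat.choose_two_right, hj, show 2 * j + 1 - 1 = j * 2 by omega, ← mul_assoc, Nat.mul_div_cancel _ two_pos]
      rw [hch, pow_mul, hAe f hfA, one_pow]
    have hMe : ∀ m ∈ M, m ^ e = 1 := by
      intro m hm
      induction hm using closure_induction with
      | mem y hy => obtain ⟨a, ha, rfl⟩ := hy; exact hx a ha
      | one => exact one_pow _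
      | mul y z hy hz ihy ihz => rw [(show Commute y z from hMc y hy z hz).mul_pow, ihy, ihz, one_mul]
      | inv y _ ih => rw [inv_pow, ih, inv_one]
    refine Monoid.exponent_dvd_of_forall_pow_eq_one fun z => Subtype.ext ?_
    obtain ⟨m, hm, c, hc, hmc⟩ := hmem z z.2
    show (z : G) ^ e = 1
    rw [← hmc, (show Commute m c from (hCT c hc m (hMT hm)).symm).mul_pow, hMe m hm,
      hAe c (mem_inf.mp hc).1, one_mul]

end CfsgLib.GlaubermanReplace
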