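import Mathlib
import Cfsg.Prelude.Def_PLocal
import Cfsg.Agent.Lib.StableZJ
import Cfsg.Agent.Lib.StableBridge

/-!
# Glauberman's theorem with the stability hypothesis only for maximal abelian subgroups
-/

set_option autoImplicit false

namespace CfsgLib.Local.Invert

open CfsgLib.Stable

variable {G : Type*} [Group G] [Finite G] {p : ℕ} [hp : Fact p.Prime]

/-- `B ∩ Z(J(P))` is normal when maximal abelian subgroups act on normal `p`-subgroups through
`O_p`. -/
theorem inf_Zsub_normal_of (hodd : p ≠ 2) (P : Sylow p G)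
    (hst : ∀ (V : Subgroup G) [V.Normal], IsPGroup p V →
      V ≤ Subgroup.normalClosure (Zsub 0 (P : Subgroup G) : Set G) →
      ∀ A, IsMax 0 (P : Subgroup G) A → V ≤ Subgroup.normalizer (A : Set G) → ∀ a ∈ A,
        (QuotientGroup.mk a : G ⧸ Subgroup.centralizer (V : Set G)) ∈
          Cfsg.pCore p (G ⧸ Subgroup.centralizer (V : Set G))) :
    ∀ (B : Subgroup G), B.Normal → IsPGroup p B → (B ⊓ Zsub 0 (P : Subgroup G)).Normal := by
  obtain ⟨e, he0⟩ : ∃ e : ℕ, e = 0 := ⟨0, rfl⟩
  have he : e = 0 ∨ e = p := Or.inl he0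
  rw [← he0] at hst ⊢
  obtain ⟨D, hD, hDP⟩ : ∃ D : Subgroup G, SClosed D (P : Subgroup G) ∧ D = (P : Subgroup G) :=
    ⟨P, sclosed_self _, rfl⟩
  rw [← hDP] at hst ⊢
  have hPZ : (P : Subgroup G) ≤ Subgroup.normalizer (Zsub e D : Set G) :=
    (le_normalizer_D hD).trans ((normalizer_le_Jsub e D).trans (normalizer_Jsub_le_Zsub e D))
  intro B
  induction hn : Nat.card B using Nat.strong_induction_on generalizing B with
  | _ n ih =>
  subst hn
  intro hBn hB
  haveI := hBn
  set W := B ⊓ Zsub e D with hW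
  -- replace `B` by the normal closure of `W`
  have hcl : Subgroup.normalClosure (W : Set G) ≤ B := Subgroup.normalClosure_le_normal inf_le_left
  rcases lt_or_eq_of_le hcl with hlt | heq
  · have hcard : Nat.card ↥(Subgroup.normalClosure (W : Set G)) < Nat.card B := by
      by_contra hc
      exact hlt.ne (Subgroup.eq_of_le_of_card_ge hlt.le (not_lt.1 hc))
    have h1 := ih _ hcard _ rfl Subgroup.normalClosure_normal (hB.to_le hlt.le)
    have e1 : Subgroup.normalClosure (W : Set G) ⊓ Zsub e D = W := by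
      refine le_antisymm (le_inf (inf_le_left.trans hlt.le) inf_le_right) (le_inf ?_ inf_le_right)
      exact Subgroup.le_normalClosure
    rwa [e1] at h1
  by_cases hB1 : B = ⊥
  · rw [hW, hB1, bot_inf_eq]; infer_instance
  have hBP : B ≤ (P : Subgroup G) :=
    (CfsgLib.Core.le_pCore hBn hB).trans (CfsgLib.Core.pCore_le_sylow P)
  have hPW : (P : Subgroup G) ≤ Subgroup.normalizer (W : Set G) := by
    intro g hg
    rw [Subgroup.mem_normalizer_iff]
    intro x
    rw [hW, Subgroup.mem_inf, Subgroup.mem_inf, Subgroup.mem_normalizer_iff.1 (hPZ hg) x]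
    constructor
    · rintro ⟨h1, h2⟩; exact ⟨hBn.conj_mem x h1 g, h2⟩
    · rintro ⟨h1, h2⟩
      refine ⟨?_, h2⟩
      simpa [mul_assoc] using hBn.conj_mem _ h1 g⁻¹
  -- the derived group of `B`
  have hBB : ⁅B, B⁆ ≤ B := Subgroup.commutator_le_right B B
  have hBB' : ⁅B, B⁆ ≠ B := by
    intro e1
    haveI := hB.isNilpotent
    haveI : Nontrivial B := (Subgroup.nontrivial_iff_ne_bot B).2 hB1
    haveI : Group.IsPerfect B := Subgroup.isPerfect_iff.2 e1
    exact Group.IsPerfect.not_isNilpotent B inferInstance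
  have hW'n : (⁅B, B⁆ ⊓ Zsub e D).Normal := by
    refine ih _ ?_ _ rfl (Subgroup.commutator_normal B B) (hB.to_le hBB)
    by_contra hc
    exact hBB' (Subgroup.eq_of_le_of_card_ge hBB (not_lt.1 hc))
  set W' := ⁅B, B⁆ ⊓ Zsub e D with hW'
  haveI := hW'n
  have hBle : B ≤ (Subgroup.centralizer
      ((B.map (QuotientGroup.mk' W') : Subgroup (G ⧸ W')) : Set (G ⧸ W'))).comap
        (QuotientGroup.mk' W') := by
    conv_lhs => rw [← heq]
    haveI : (B.map (QuotientGroup.mk' W')).Normal := hBn.map _ (QuotientGroup.mk'_surjective _)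
    refine Subgroup.normalClosure_le_normal ?_
    intro w hw
    rw [SetLike.mem_coe, Subgroup.mem_comap, Subgroup.mem_centralizer_iff]
    rintro _ ⟨b, hb, rfl⟩
    have hmem : b * w * b⁻¹ * w⁻¹ ∈ W' := by
      have hw2 : w ∈ Zsub e D := hw.2
      refine ⟨?_, (Zsub e D).mul_mem ((Subgroup.mem_normalizer_iff.1 (hPW (hBP hb)) w).1 hw).2 ((Zsub e D).inv_mem hw2)⟩
      have := Subgroup.commutator_mem_commutator hb (show w ∈ B from hw.1)
      rwa [commutatorElement_def] at this
    have h1 : QuotientGroup.mk' W' (b * w * b⁻¹ * w⁻¹) = 1 := (QuotientGroup.eq_one_iff _).2 hmem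
    simp only [map_mul, map_inv] at h1
    rwa [mul_inv_eq_one, mul_inv_eq_iff_eq_mul] at h1
  have hBBW : ⁅B, B⁆ ≤ W' := by
    rw [Subgroup.commutator_le]
    intro x hx y hy
    rw [← QuotientGroup.eq_one_iff]
    have h1 := Subgroup.mem_centralizer_iff.1 (hBle hx) _ (Subgroup.mem_map_of_mem _ hy)
    show QuotientGroup.mk' W' (x * y * x⁻¹ * y⁻¹) = 1
    rw [map_mul, map_mul, map_mul, map_inv, map_inv, mul_inv_eq_one, mul_inv_eq_iff_eq_mul]
    exact h1.symm
  have hBBZ : ⁅B, B⁆ ≤ Zsub e D := hBBW.trans inf_le_right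
  have hclass : ∀ x ∈ B, ∀ y ∈ B, ∀ z ∈ B,
      z * (x * y * x⁻¹ * y⁻¹) = (x * y * x⁻¹ * y⁻¹) * z := by
    haveI : (⁅B, B⁆).Normal := Subgroup.commutator_normal B B
    have hle : B ≤ Subgroup.centralizer ((⁅B, B⁆ : Subgroup G) : Set G) := by
      conv_lhs => rw [← heq]
      refine Subgroup.normalClosure_le_normal ?_
      intro w hw
      rw [SetLike.mem_coe, Subgroup.mem_centralizer_iff]
      exact fun c hc => Zsub_abelian e D c (hBBZ hc) w hw.2
    intro x hx y hy z hz
    have hc : x * y * x⁻¹ * y⁻¹ ∈ ⁅B, B⁆ := by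
      have := Subgroup.commutator_mem_commutator hx hy
      rwa [commutatorElement_def] at this
    exact (Subgroup.mem_centralizer_iff.1 (hle hz) _ hc).symm
  -- the largest normal subgroup normalizing `W`
  set L := (Subgroup.normalizer (W : Set G)).normalCore with hL
  by_contra hWn
  have hLW : L ≤ Subgroup.normalizer (W : Set G) := Subgroup.normalCore_le _
  set Q := (P : Subgroup G) ⊓ L with hQ
  have hfr : ∀ g : G, ∃ n ∈ Subgroup.normalizer (Q : Set G), ∃ l ∈ L, g = n * l := by
    have hQp : IsPGroup p ↥((P : Subgroup G).subgroupOf L) :=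
      P.2.comap_of_injective L.subtype L.subtype_injective
    have hidx : ¬ p ∣ ((P : Subgroup G).subgroupOf L).index := by
      have : ((P : Subgroup G).subgroupOf L).index = ((P : Subgroup G) ⊓ L).relIndex L := by
        rw [Subgroup.inf_relIndex_right]; rfl
      rw [this]
      exact not_dvd_relIndex P L
    have h := Sylow.normalizer_sup_eq_top (hQp.toSylow hidx)
    have e1 : ((hQp.toSylow hidx : Sylow p L) : Subgroup L).map L.subtype = Q := by
      rw [IsPGroup.toSylow_coe, Subgroup.subgroupOf_map_subtype, hQ]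
    rw [e1] at h
    intro g
    have hg : g ∈ Subgroup.normalizer (Q : Set G) ⊔ L := by rw [h]; exact Subgroup.mem_top g
    rw [Subgroup.mem_sup_of_normal_right] at hg
    obtain ⟨n, hn, l, hl, rfl⟩ := hg
    exact ⟨n, hn, l, hl, rfl⟩
  -- members of `J(D)` in `L` are permuted by `N(Q)`
  have hperm : ∀ n ∈ Subgroup.normalizer (Q : Set G), ∀ A, IsMax e D A → A ≤ L →
      IsMax e D (A.map (MulAut.conj n).toMonoidHom) ∧ A.map (MulAut.conj n).toMonoidHom ≤ L := by
    intro n hn A hA hAL
    have hle : ∀ a ∈ A, n * a * n⁻¹ ∈ Q := fun a ha =>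
      (Subgroup.mem_normalizer_iff.1 hn a).1 ⟨hD.1 (hA.1 ha), hAL ha⟩
    refine ⟨isMax_conj hA ?_, ?_⟩
    · rintro _ ⟨a, ha, rfl⟩; exact hD.2 a (hA.1 ha) n (hle a ha).1
    · rintro _ ⟨a, ha, rfl⟩; exact (hle a ha).2
  have hcentr : ∀ A, IsMax e D A → A ≤ L → ∀ x ∈ B, ∀ a ∈ A, a * x = x * a := by
    intro A hA hAL
    have hle : B ≤ Subgroup.centralizer (A : Set G) := by
      conv_lhs => rw [← heq]
      rw [Subgroup.normalClosure, Subgroup.closure_le]
      intro y hy
      obtain ⟨w, hw, hc⟩ := Group.mem_conjugatesOfSet_iff.1 hy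
      obtain ⟨g, rfl⟩ := isConj_iff.1 hc
      obtain ⟨n, hn, l, hl, rfl⟩ := hfr g
      have hlw : l * w * l⁻¹ ∈ W := (Subgroup.mem_normalizer_iff.1 (hLW hl) w).1 hw
      rw [SetLike.mem_coe, Subgroup.mem_centralizer_iff]
      intro a ha
      obtain ⟨hA', -⟩ := hperm n⁻¹ (inv_mem hn) A hA hAL
      have hmem : n⁻¹ * a * n ∈ Jsub e D := isMax_le_Jsub hA' ⟨a, ha, by simp⟩
      have h1 := Zsub_comm_Jsub hlw.2 hmem
      calc a * (n * l * w * (n * l)⁻¹) = n * ((n⁻¹ * a * n) * (l * w * l⁻¹)) * n⁻¹ := by group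
        _ = n * ((l * w * l⁻¹) * (n⁻¹ * a * n)) * n⁻¹ := by rw [h1]
        _ = n * l * w * (n * l)⁻¹ * a := by group
    exact fun x hx a ha => Subgroup.mem_centralizer_iff.1 (hle hx) a ha
  have hBD : B ≤ D := by
    conv_lhs => rw [← heq]
    rw [Subgroup.normalClosure, Subgroup.closure_le]
    intro y hy
    have hyB : y ∈ B := heq ▸ Subgroup.subset_closure hy
    obtain ⟨w, hw, hc⟩ := Group.mem_conjugatesOfSet_iff.1 hy
    obtain ⟨g, rfl⟩ := isConj_iff.1 hc
    exact hD.2 w (Zsub_le e D hw.2) g (hBP hyB)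
  -- some maximal abelian subgroup is not in `L`
  obtain ⟨A, ⟨hA, hAL⟩, hAmax⟩ : ∃ A ∈ {A : Subgroup G | IsMax e D A ∧ ¬ A ≤ L},
      ∀ A' ∈ {A : Subgroup G | IsMax e D A ∧ ¬ A ≤ L},
        Nat.card ↥(A' ⊓ B) ≤ Nat.card ↥(A ⊓ B) := by
    refine Set.exists_max_image _ (fun A => Nat.card ↥(A ⊓ B)) (Set.toFinite _) ?_
    by_contra hne
    rw [Set.not_nonempty_iff_eq_empty] at hne
    have hall : ∀ A, IsMax e D A → A ≤ L := fun A hA => by
      by_contra h
      exact (Set.eq_empty_iff_forall_notMem.1 hne A) ⟨hA, h⟩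
    apply hWn
    refine ⟨fun w hw g => ?_⟩
    obtain ⟨n, hn, l, hl, rfl⟩ := hfr g
    have hlw : l * w * l⁻¹ ∈ W := (Subgroup.mem_normalizer_iff.1 (hLW hl) w).1 hw
    have hnJ : n ∈ Subgroup.normalizer (Jsub e D : Set G) := by
      refine mem_normalizer_of_map_eq fun x hx => ?_
      have hle : Jsub e D ≤ (Jsub e D).comap (MulAut.conj n).toMonoidHom := by
        refine sSup_le fun A hA => ?_
        rw [← Subgroup.map_le_iff_le_comap]
        exact isMax_le_Jsub (hperm n hn A hA (hall A hA)).1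
      exact hle hx
    have h1 : n * (l * w * l⁻¹) * n⁻¹ ∈ W :=
      ⟨hBn.conj_mem _ hlw.1 n,
        (Subgroup.mem_normalizer_iff.1 (normalizer_Jsub_le_Zsub e D hnJ) _).1 hlw.2⟩
    simpa [mul_assoc] using h1
  -- the characteristic subgroup `E` of `B`
  set E := Subgroup.closure {x : G | x ∈ B ∧ x ^ e = 1} with hE
  haveI hEn : E.Normal := by
    refine ⟨fun x hx g => ?_⟩
    have hle : E ≤ E.comap (MulAut.conj g).toMonoidHom := by
      rw [hE, Subgroup.closure_le]
      rintro y ⟨hy, hy'⟩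
      refine Subgroup.subset_closure ⟨hBn.conj_mem y hy g, ?_⟩
      show (g * y * g⁻¹) ^ e = 1
      rw [conj_pow, hy']; group
    exact hle hx
  have hEB : E ≤ B := by rw [hE, Subgroup.closure_le]; exact fun x hx => hx.1
  have hCL : Subgroup.centralizer (E : Set G) ≤ L := by
    haveI : (Subgroup.centralizer (E : Set G)).Normal := inferInstance
    refine Subgroup.normal_le_normalCore.2 ?_
    refine normal_le_of_pPrime P _ (inf_le_left.trans hPW) fun x hx hxo => ?_
    have hxB : Subgroup.zpowers x ≤ Subgroup.centralizer (B : Set G) := by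
      rcases he with he0 | hep
      · rw [Subgroup.zpowers_le, Subgroup.mem_centralizer_iff]
        exact fun b hb => Subgroup.mem_centralizer_iff.1 hx b
          (Subgroup.subset_closure ⟨hb, by rw [he0, pow_zero]⟩)
      · refine CfsgLib.Local.blackburn_centralizes hB
          (Subgroup.zpowers_le.2 (by rw [Subgroup.normalizer_eq_top]; exact Subgroup.mem_top x))
          (by rwa [Nat.card_zpowers]) ?_
        rintro u hu (hu' | ⟨h2, -⟩) a ⟨k, rfl⟩
        · have hxu : Commute x u := (Subgroup.mem_centralizer_iff.1 hx u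
            (Subgroup.subset_closure ⟨hu, by rw [hep]; exact hu'⟩)).symm
          exact (hxu.zpow_left k).eq
        · exact absurd h2 hodd
    rw [Subgroup.mem_normalizer_iff]
    intro w
    have hxc : ∀ w ∈ B, x * w * x⁻¹ = w := fun w hw => by
      rw [mul_inv_eq_iff_eq_mul]
      exact (Subgroup.mem_centralizer_iff.1 (hxB (Subgroup.mem_zpowers x)) w hw).symm
    constructor
    · intro hw; rwa [hxc w hw.1]
    · intro hw
      have h2 := hxc _ hw.1
      have : x * w * x⁻¹ = w := mul_left_cancel (mul_right_cancel h2)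
      rwa [this] at hw
  -- if `E` normalizes `A` then `A` lies in `L`
  have hkey : ¬ E ≤ Subgroup.normalizer (A : Set G) := by
    intro hEA
    apply hAL
    intro a ha
    have hquad : ⁅⁅E, Subgroup.zpowers a⁆, Subgroup.zpowers a⁆ = ⊥ := by
      rw [Subgroup.commutator_eq_bot_iff_le_centralizer]
      refine le_trans (?_ : _ ≤ A) ?_
      · rw [Subgroup.commutator_le]
        intro x hx y hy
        rw [commutatorElement_def]
        have hy' : y ∈ A := (Subgroup.zpowers_le.2 ha) hy
        exact mul_mem ((Subgroup.mem_normalizer_iff.1 (hEA hx) y).1 hy') (inv_mem hy')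
      · intro c hc
        rw [Subgroup.mem_centralizer_iff]
        exact fun y hy => hA.2.1.1 y ((Subgroup.zpowers_le.2 ha) hy) c hc
    have hpel : ∃ k : ℕ, a ^ p ^ k = 1 := by
      obtain ⟨k, hk⟩ := P.2 ⟨a, hD.1 (hA.1 ha)⟩
      exact ⟨k, congrArg Subtype.val hk⟩
    have hEcl : E ≤ Subgroup.normalClosure (Zsub e D : Set G) :=
      hEB.trans (heq.symm.le.trans (Subgroup.normalClosure_mono fun w hw => hw.2))
    have h1 := preimage_pCore_le P _ (hst E (hB.to_le hEB) hEcl A hA hEA a ha)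
    set K := (Cfsg.pCore p (G ⧸ Subgroup.centralizer (E : Set G))).comap
      (QuotientGroup.mk' (Subgroup.centralizer (E : Set G))) with hK
    haveI : (Cfsg.pCore p (G ⧸ Subgroup.centralizer (E : Set G))).Normal :=
      CfsgLib.Core.normal_pCore p
    haveI : K.Normal := Subgroup.Normal.comap inferInstance _
    have hKN : K ≤ Subgroup.normalizer (W : Set G) := fun k hk =>
      (sup_le (hCL.trans hLW) hPW) (preimage_pCore_le P _ hk)
    exact Subgroup.normal_le_normalCore.2 hKN (hst E (hB.to_le hEB) hEcl A hA hEA a ha)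
  have hnot : ¬ B ≤ Subgroup.normalizer (A : Set G) := fun h => hkey (hEB.trans h)
  obtain ⟨As, hAs, hAsN, hlt, -⟩ := replacement hodd he P.2 hD.1 (le_normalizer_D hD) hBP hA
    (fun a _ => by rw [Subgroup.normalizer_eq_top]; exact Subgroup.mem_top a) hclass
    (fun x hx y hy a ha => by
      have hc : x * y * x⁻¹ * y⁻¹ ∈ ⁅B, B⁆ := by
        have := Subgroup.commutator_mem_commutator hx hy
        rwa [commutatorElement_def] at this
      exact Zsub_comm_Jsub (hBBZ hc) (isMax_le_Jsub hA ha)) hnot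
  have hAsL : As ≤ L := by
    by_contra h
    have h1 := hAmax As ⟨hAs, h⟩
    exact hlt.ne (Subgroup.eq_of_le_of_card_ge hlt.le h1)
  apply hkey
  rw [hE, Subgroup.closure_le]
  rintro x ⟨hxB, hxe⟩
  exact hAsN (mem_of_isMax hAs (hBD hxB) hxe (hcentr As hAs hAsL x hxB))

end CfsgLib.Local.Invert
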