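import Mathlib
import Cfsg.Prelude.Def_PLocal
import Cfsg.Agent.Lib.CoreBasic
import Cfsg.Agent.Lib.StableZJ

/-!
# Evaluation of a transfer on a normal `p`-subgroup through elements of small degree
-/

set_option autoImplicit false

namespace CfsgLib.Local.Transfer

open CfsgLib.Core

variable {G : Type*} [Group G] [Finite G]

/-- `(X - 1) ^ (p ^ j - 1)` is the geometric sum of length `p ^ j` in characteristic `p`. -/
theorem geom_sum_eq_pow {p : ℕ} [hp : Fact p.Prime] {E : Type*} [Ring E] [Algebra (ZMod p) E] (l : E)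
    (j : ℕ) : ∑ i ∈ Finset.range (p ^ j), l ^ i = (l - 1) ^ (p ^ j - 1) := by
  have h : ∑ i ∈ Finset.range (p ^ j), (Polynomial.X : Polynomial (ZMod p)) ^ i =
      (Polynomial.X - 1) ^ (p ^ j - 1) := by
    refine mul_left_cancel₀ (sub_ne_zero.2 (Polynomial.X_ne_C (1 : ZMod p))) ?_
    rw [Polynomial.C_1]
    rw [mul_geom_sum, ← pow_succ', Nat.sub_add_cancel (Nat.one_le_pow _ _ hp.out.pos),
      sub_pow_char_pow, one_pow]
  have h2 := congrArg (Polynomial.aeval l) h
  simpa [map_sum, map_pow, map_sub] using h2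

/-- The transfer at an element fixing all cosets. -/
theorem transfer_of_fix {A : Type*} [CommGroup A] {M : Subgroup G} (φ : ↥M →* A)
    (ψ : G ⧸ M → A) {a : G} (ha : ∀ g : G, g⁻¹ * a * g ∈ M)
    (hψ : ∀ g : G, ψ (QuotientGroup.mk g) = φ ⟨g⁻¹ * a * g, ha g⟩) :
    letI := Fintype.ofFinite (G ⧸ M)
    MonoidHom.transfer φ a = ∏ q : G ⧸ M, ψ q := by
  classical
  letI := Fintype.ofFinite (G ⧸ M)
  let T : M.LeftTransversal := default
  rw [MonoidHom.transfer_def φ T a]
  rw [Subgroup.leftTransversals.diff]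
  refine Finset.prod_congr (Finset.ext fun q => by simp) fun q _ => ?_
  have hq : a⁻¹ • q = q := by
    obtain ⟨g, rfl⟩ := QuotientGroup.mk_surjective q
    refine QuotientGroup.eq.2 ?_
    rw [show (a⁻¹ • g)⁻¹ * g = g⁻¹ * a * g by simp]
    exact ha g
  set t : G := ((T.2.leftQuotientEquiv q : T.1) : G) with ht
  have htq : (QuotientGroup.mk t : G ⧸ M) = q := T.2.leftQuotientEquiv.symm_apply_apply q
  have h2 : (((a • T : M.LeftTransversal)).2.leftQuotientEquiv q : G) = a * t := by
    rw [Subgroup.smul_apply_eq_smul_apply_inv_smul, hq, smul_eq_mul, ht]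
  rw [← congrArg ψ htq, hψ t]
  refine congrArg φ (Subtype.ext ?_)
  show t⁻¹ * _ = t⁻¹ * a * t
  rw [h2, mul_assoc]

variable {p : ℕ} [hp : Fact p.Prime]

set_option maxHeartbeats 1000000 in
/-- If the elements of a conjugation invariant set `U` of `p`-elements have degree at most `p - 1`
on `X / Y` and only the coset `M` is fixed by all of `U`, then elements of `X` in `G'` lie in the
kernel of any map from `M` to an abelian group that kills `Y`. -/
theorem map_eq_one_of_degree {A : Type*} [CommGroup A] {M : Subgroup G} (φ : ↥M →* A)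
    {X Y : Subgroup G} [hXn : X.Normal] [hYn : Y.Normal] (hXM : X ≤ M) (hYX : Y ≤ X)
    (hab : ∀ x ∈ X, ∀ y ∈ X, x * y * x⁻¹ * y⁻¹ ∈ Y) (hexp : ∀ x ∈ X, x ^ p ∈ Y)
    (hYφ : ∀ y : ↥M, (y : G) ∈ Y → φ y = 1)
    (Us : Set G) (hUinv : ∀ u ∈ Us, ∀ v ∈ Us, v * u * v⁻¹ ∈ Us)
    (hUp : ∀ u ∈ Us, ∃ k, orderOf u = p ^ k)
    (hdeg : ∀ u ∈ Us, ∀ x ∈ X, (fun x => u⁻¹ * x * u * x⁻¹)^[p - 1] x ∈ Y)
    (hR : IsPGroup p ↥(Subgroup.closure Us))
    (hfix : ∀ g : G, (∀ u ∈ Us, g⁻¹ * u * g ∈ M) → g ∈ M)
    (hfix1 : ∀ u ∈ Us, u ∈ M)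
    {a : G} (haX : a ∈ X) (haG : a ∈ commutator G) :
    φ ⟨a, hXM haX⟩ = 1 := by
  classical
  letI := Fintype.ofFinite (G ⧸ M)
  have hconjM : ∀ x ∈ X, ∀ g : G, g⁻¹ * x * g ∈ M := fun x hx g => by
    have h := hXn.conj_mem x hx g⁻¹
    rw [inv_inv] at h
    exact hXM h
  -- the values on cosets
  have hwd : ∀ x (hx : x ∈ X) (g m : G), m ∈ M →
      φ ⟨g⁻¹ * x * g, hconjM x hx g⟩ = φ ⟨(g * m)⁻¹ * x * (g * m), hconjM x hx (g * m)⟩ := by
    intro x hx g m hm
    have e : (⟨(g * m)⁻¹ * x * (g * m), hconjM x hx (g * m)⟩ : ↥M) =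
        ⟨m, hm⟩⁻¹ * ⟨g⁻¹ * x * g, hconjM x hx g⟩ * ⟨m, hm⟩ := Subtype.ext (by
      show (g * m)⁻¹ * x * (g * m) = m⁻¹ * (g⁻¹ * x * g) * m
      group)
    rw [e, map_mul, map_mul, map_inv, mul_comm (φ ⟨m, hm⟩)⁻¹, inv_mul_cancel_right]
  let ψ : G ⧸ M → A := fun q => φ ⟨q.out⁻¹ * a * q.out, hconjM a haX q.out⟩
  have hψ : ∀ g : G, ψ (QuotientGroup.mk g) = φ ⟨g⁻¹ * a * g, hconjM a haX g⟩ := by
    intro g
    obtain ⟨m, hm⟩ := QuotientGroup.mk_out_eq_mul M g
    show φ ⟨_, _⟩ = _
    rw [hwd a haX g m m.2]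
    exact congrArg φ (Subtype.ext (by rw [hm]))
  have htr := transfer_of_fix φ ψ (fun g => hconjM a haX g) hψ
  have hone : MonoidHom.transfer φ a = 1 :=
    MonoidHom.mem_ker.1 (Abelianization.commutator_subset_ker (MonoidHom.transfer φ) haG)
  -- the module `X / Y`
  let X' := X.map (QuotientGroup.mk' Y)
  haveI hX'n : X'.Normal := hXn.map _ (QuotientGroup.mk'_surjective Y)
  letI : CommGroup ↥X' :=
    { (inferInstance : Group ↥X') with
      mul_comm := by
        rintro ⟨_, x, hx, rfl⟩ ⟨_, y, hy, rfl⟩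
        refine Subtype.ext ?_
        show QuotientGroup.mk' Y x * QuotientGroup.mk' Y y =
          QuotientGroup.mk' Y y * QuotientGroup.mk' Y x
        rw [← map_mul, ← map_mul]
        refine (QuotientGroup.eq (s := Y)).2 ?_
        have := hab y⁻¹ (X.inv_mem hy) x⁻¹ (X.inv_mem hx)
        rwa [show (x * y)⁻¹ * (y * x) = y⁻¹ * x⁻¹ * y⁻¹⁻¹ * x⁻¹⁻¹ by group] }
  letI : Module (ZMod p) (Additive ↥X') := AddCommGroup.zmodModule (fun v => by
    obtain ⟨x, hx, hxv⟩ := (Additive.toMul v).2
    refine Additive.toMul.injective (Subtype.ext ?_)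
    rw [toMul_nsmul, toMul_zero, SubgroupClass.coe_pow, ← hxv, ← map_pow]
    exact (QuotientGroup.eq_one_iff _).2 (hexp x hx))
  have _hmod : Module (ZMod p) (Additive ↥X') := inferInstance
  -- orbits have product one
  have horb : ∀ u ∈ Us, ∀ (g : G) (j : ℕ), j ≠ 0 →
      ∏ i ∈ Finset.range (p ^ j), ψ (QuotientGroup.mk (u ^ i * g)) = 1 := by
    intro u hu g j hj
    let L : Additive ↥X' →ₗ[ZMod p] Additive ↥X' := AddMonoidHom.toZModLinearMap p
      (MonoidHom.toAdditive
        (MulAut.conjNormal ((QuotientGroup.mk' Y) u⁻¹) : MulAut ↥X').toMonoidHom)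
    let mkX : ∀ x ∈ X, Additive ↥X' := fun x hx => Additive.ofMul ⟨QuotientGroup.mk' Y x, x, hx, rfl⟩
    have hcX : ∀ x ∈ X, ∀ w : G, w⁻¹ * x * w ∈ X := fun x hx w => by
      have := hXn.conj_mem x hx w⁻¹
      rwa [inv_inv] at this
    have hLx : ∀ x (hx : x ∈ X), L (mkX x hx) = mkX (u⁻¹ * x * u) (hcX x hx u) := fun x hx => by
      refine Additive.toMul.injective (Subtype.ext ?_)
      refine (MulAut.conjNormal_apply (QuotientGroup.mk' Y u⁻¹)
        (⟨QuotientGroup.mk' Y x, x, hx, rfl⟩ : ↥X')).trans ?_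
      show _ = QuotientGroup.mk' Y (u⁻¹ * x * u)
      rw [← map_inv, ← map_mul, ← map_mul, inv_inv]
    have hLi : ∀ i : ℕ, (L ^ i) (mkX a haX) = mkX ((u ^ i)⁻¹ * a * u ^ i) (hcX a haX _) := by
      intro i
      induction i with
      | zero =>
        refine Additive.toMul.injective (Subtype.ext ?_)
        show QuotientGroup.mk' Y a = QuotientGroup.mk' Y ((u ^ 0)⁻¹ * a * u ^ 0)
        simp
      | succ i ih =>
        rw [pow_succ', Module.End.mul_apply, ih, hLx _ (hcX a haX _)]
        refine Additive.toMul.injective (Subtype.ext ?_)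
        show QuotientGroup.mk' Y _ = QuotientGroup.mk' Y _
        congr 1
        rw [pow_succ]; group
    have hkill : (L - 1) ^ (p - 1) = 0 := by
      refine LinearMap.ext fun v => ?_
      obtain ⟨x, hx, hxv⟩ := (Additive.toMul v).2
      have hv : v = mkX x hx := Additive.toMul.injective (Subtype.ext hxv.symm)
      have key : ∀ k, ∃ h : (fun x => u⁻¹ * x * u * x⁻¹)^[k] x ∈ X,
          ((L - 1) ^ k) v = mkX _ h := by
        intro k
        induction k with
        | zero => exact ⟨hx, hv⟩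
        | succ k ih =>
          obtain ⟨h, he⟩ := ih
          refine ⟨by rw [Function.iterate_succ_apply']; exact X.mul_mem (hcX _ h u) (X.inv_mem h), ?_⟩
          rw [pow_succ', Module.End.mul_apply, he, LinearMap.sub_apply, hLx _ h, Module.End.one_apply]
          refine Additive.toMul.injective (Subtype.ext ?_)
          show QuotientGroup.mk' Y (u⁻¹ * _ * u) / QuotientGroup.mk' Y _ = QuotientGroup.mk' Y _
          rw [Function.iterate_succ_apply', div_eq_mul_inv, ← map_inv, ← map_mul]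
      obtain ⟨h, he⟩ := key (p - 1)
      rw [he]
      refine Additive.toMul.injective (Subtype.ext ?_)
      exact (QuotientGroup.eq_one_iff _).2 (hdeg u hu x hx)
    have hsum : ∑ i ∈ Finset.range (p ^ j), mkX ((u ^ i)⁻¹ * a * u ^ i) (hcX a haX _) = 0 := by
      have h0 : (L - 1) ^ (p ^ j - 1) = 0 :=
        pow_eq_zero_of_le (Nat.sub_le_sub_right (Nat.le_self_pow hj p) 1) hkill
      have := LinearMap.congr_fun (geom_sum_eq_pow (p := p) L j) (mkX a haX)
      rw [h0, LinearMap.sum_apply] at this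
      simp only [hLi] at this
      exact this
    -- back in `G`
    have key : ∀ n : ℕ, ∃ z, ∃ hz : z ∈ X,
        (∑ i ∈ Finset.range n, mkX ((u ^ i)⁻¹ * a * u ^ i) (hcX a haX _) = mkX z hz) ∧
        ∏ i ∈ Finset.range n, ψ (QuotientGroup.mk (u ^ i * g)) =
          φ ⟨g⁻¹ * z * g, hconjM z hz g⟩ := by
      intro n
      induction n with
      | zero =>
        refine ⟨1, X.one_mem, ?_, ?_⟩
        · rw [Finset.sum_range_zero]
          exact Additive.toMul.injective (Subtype.ext (map_one _).symm)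
        · rw [Finset.prod_range_zero]
          exact (φ.map_one).symm.trans (congrArg φ (Subtype.ext (by simp)))
      | succ n ih =>
        obtain ⟨z, hz, h1, h2⟩ := ih
        refine ⟨z * ((u ^ n)⁻¹ * a * u ^ n), X.mul_mem hz (hcX a haX _), ?_, ?_⟩
        · rw [Finset.sum_range_succ, h1]
          exact Additive.toMul.injective (Subtype.ext (map_mul _ _ _).symm)
        · rw [Finset.prod_range_succ, h2, hψ, ← map_mul]
          refine congrArg φ (Subtype.ext ?_)
          show g⁻¹ * z * g * ((u ^ n * g)⁻¹ * a * (u ^ n * g)) = _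
          group
    obtain ⟨z, hz, h1, h2⟩ := key (p ^ j)
    rw [h2]
    rw [hsum] at h1
    have hzY : z ∈ Y := by
      have := congrArg (fun v : Additive ↥X' => ((Additive.toMul v : ↥X') : G ⧸ Y)) h1.symm
      exact (QuotientGroup.eq_one_iff z).1 this
    refine hYφ _ ?_
    have := hYn.conj_mem z hzY g⁻¹
    rwa [inv_inv] at this
  -- cutting down to the cosets fixed by one element
  have hcut : ∀ u ∈ Us, ∀ F : Finset (G ⧸ M), (∀ q ∈ F, u • q ∈ F) →
      ∏ q ∈ F, ψ q = ∏ q ∈ F.filter (fun q => u • q = q), ψ q := by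
    intro u hu F
    induction F using Finset.strongInduction with
    | _ F ih =>
      intro hF
      by_cases hall : ∀ q ∈ F, u • q = q
      · rw [Finset.filter_true_of_mem hall]
      push_neg at hall
      obtain ⟨q, hq, hqu⟩ := hall
      obtain ⟨g, rfl⟩ := QuotientGroup.mk_surjective q
      set f : G ⧸ M → G ⧸ M := fun q => u • q with hf
      have hit : ∀ (i : ℕ) (q : G ⧸ M), f^[i] q = u ^ i • q := fun i q => by
        rw [hf, smul_iterate]
      set n := Function.minimalPeriod f (QuotientGroup.mk g) with hn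
      have hper : Function.IsPeriodicPt f (orderOf u) (QuotientGroup.mk g) := by
        show f^[orderOf u] _ = _
        rw [hit, pow_orderOf_eq_one, one_smul]
      obtain ⟨k, hk⟩ := hUp u hu
      obtain ⟨j, -, hj⟩ := (Nat.dvd_prime_pow hp.out).1 (hk ▸ hper.minimalPeriod_dvd)
      have hj0 : j ≠ 0 := fun e => hqu (by
        have h := Function.iterate_minimalPeriod (f := f) (x := (QuotientGroup.mk g : G ⧸ M))
        rw [hj, e, pow_zero, hit, pow_one] at h
        exact h)
      set O := (Finset.range n).image (fun i => f^[i] (QuotientGroup.mk g)) with hO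
      have hinj : Set.InjOn (fun i => f^[i] (QuotientGroup.mk g : G ⧸ M)) (Finset.range n : Set ℕ) :=
        fun a ha b hb h => Function.iterate_injOn_Iio_minimalPeriod
          (Finset.mem_range.1 ha) (Finset.mem_range.1 hb) h
      have hOF : O ⊆ F := by
        intro q hq'
        obtain ⟨i, -, rfl⟩ := Finset.mem_image.1 hq'
        clear hq'
        induction i with
        | zero => exact hq
        | succ i ih' => rw [Function.iterate_succ_apply']; exact hF _ ih'
      have hn0 : 0 < n := by rw [hn, hj]; exact pow_pos hp.out.pos j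
      have hOinv : ∀ q ∈ O, ∀ q', u • q' = q → q' ∈ O := by
        intro q hq' q' he
        obtain ⟨i, hi, rfl⟩ := Finset.mem_image.1 hq'
        rw [Finset.mem_range] at hi
        refine Finset.mem_image.2 ⟨(i + (n - 1)) % n, Finset.mem_range.2 (Nat.mod_lt _ hn0), ?_⟩
        rw [hn, Function.iterate_mod_minimalPeriod_eq, ← hn]
        refine MulAction.injective u ?_
        show f (f^[i + (n - 1)] _) = u • q'
        rw [he, ← Function.iterate_succ_apply' f, show (i + (n - 1)).succ = i + n by omega,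
          Function.iterate_add_apply, hn, Function.iterate_minimalPeriod]
      have hOu : ∀ q ∈ O, u • q ≠ q := by
        intro q hq' e
        obtain ⟨i, -, rfl⟩ := Finset.mem_image.1 hq'
        refine hqu (MulAction.injective (u ^ i) ?_)
        show u ^ i • (u • (QuotientGroup.mk g : G ⧸ M)) = u ^ i • QuotientGroup.mk g
        rw [← mul_smul, ← pow_succ, pow_succ', mul_smul, ← hit]
        exact e
      have hFO : F \ O ⊂ F := Finset.sdiff_ssubset hOF
        ⟨_, Finset.mem_image.2 ⟨0, Finset.mem_range.2 hn0, rfl⟩⟩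
      have h1 := ih (F \ O) hFO fun q hq' => by
        rw [Finset.mem_sdiff] at hq' ⊢
        exact ⟨hF q hq'.1, fun h => hq'.2 (hOinv _ h q rfl)⟩
      have h2 : ∏ q ∈ O, ψ q = 1 := by
        rw [hO, Finset.prod_image hinj, show Finset.range n = Finset.range (p ^ j) by rw [hn, hj],
          ← horb u hu g j hj0]
        exact Finset.prod_congr rfl fun i _ => by rw [hit]; rfl
      rw [← Finset.prod_sdiff hOF, h2, mul_one, h1]
      refine Finset.prod_congr (Finset.ext fun q => ?_) fun _ _ => rfl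
      simp only [Finset.mem_filter, Finset.mem_sdiff]
      exact ⟨fun h => ⟨h.1.1, h.2⟩, fun h => ⟨⟨h.1, fun hq' => hOu q hq' h.2⟩, h.2⟩⟩
  -- growing the group of elements used
  let Fix : Subgroup G → Finset (G ⧸ M) := fun R => Finset.univ.filter fun q => ∀ r ∈ R, r • q = q
  obtain ⟨R₁, ⟨hR₁, hgen, hprod⟩, hmax⟩ := Set.exists_max_image
    {R : Subgroup G | R ≤ Subgroup.closure Us ∧ R ≤ Subgroup.closure {v | v ∈ Us ∧ v ∈ R} ∧
      ∏ q ∈ Fix R, ψ q = ∏ q, ψ q}
    (fun R => Nat.card ↥R) (Set.toFinite _)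
    ⟨⊥, bot_le, bot_le, Finset.prod_congr (Finset.ext fun q => by simp [Fix]) fun _ _ => rfl⟩
  have hconjU : ∀ w ∈ Subgroup.closure Us, ∀ u ∈ Us, w * u * w⁻¹ ∈ Us := by
    intro w hw
    induction hw using Subgroup.closure_induction with
    | mem v hv => exact fun u hu => hUinv u hu v hv
    | one => intro u hu; simpa using hu
    | mul x y _ _ hx hy =>
      intro u hu
      have := hx _ (hy u hu)
      rwa [show x * (y * u * y⁻¹) * x⁻¹ = x * y * u * (x * y)⁻¹ by group] at this
    | inv x _ hx =>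
      intro u hu
      have h : ∀ k : ℕ, x ^ k * u * (x ^ k)⁻¹ ∈ Us := by
        intro k
        induction k with
        | zero => simpa using hu
        | succ k ihk =>
          have := hx _ ihk
          rwa [show x * (x ^ k * u * (x ^ k)⁻¹) * x⁻¹ = x ^ (k + 1) * u * (x ^ (k + 1))⁻¹ by
            rw [pow_succ']; group] at this
      obtain ⟨k, hk⟩ : ∃ k : ℕ, x⁻¹ = x ^ k := ⟨orderOf x - 1, by
        refine inv_eq_of_mul_eq_one_right ?_
        rw [← pow_succ', Nat.sub_add_cancel (orderOf_pos x), pow_orderOf_eq_one]⟩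
      rw [hk]; exact h k
  have hall : Subgroup.closure Us ≤ R₁ := by
    by_contra hne
    obtain ⟨u₀, hu₀, hu₀R⟩ : ∃ u ∈ Us, u ∉ R₁ := by
      by_contra h
      push_neg at h
      exact hne ((Subgroup.closure_le _).2 h)
    obtain ⟨u, hu, huR, huN⟩ : ∃ u ∈ Us, u ∉ R₁ ∧ u ∈ Subgroup.normalizer (R₁ : Set G) := by
      by_contra hnone
      push_neg at hnone
      set N := Subgroup.closure Us ⊓ Subgroup.normalizer (R₁ : Set G) with hN
      have hlt : N < Subgroup.closure Us := lt_of_le_of_ne inf_le_left fun e => by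
        have h : u₀ ∈ N := by rw [e]; exact Subgroup.subset_closure hu₀
        exact hnone u₀ hu₀ hu₀R h.2
      haveI : Group.IsNilpotent ↥(Subgroup.closure Us) := hR.isNilpotent
      have hlt' : N.subgroupOf (Subgroup.closure Us) < ⊤ := by
        rw [lt_top_iff_ne_top, Ne, Subgroup.subgroupOf_eq_top]
        exact not_le_of_gt hlt
      obtain ⟨w, hwN, hwR⟩ :=
        SetLike.exists_of_lt (Group.normalizerCondition_of_isNilpotent _ hlt')
      refine hwR ⟨w.2, CfsgLib.Stable.mem_normalizer_of_map_eq fun x hx => ?_⟩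
      have hle : R₁ ≤ R₁.comap (MulAut.conj (w : G)).toMonoidHom := by
        refine hgen.trans ((Subgroup.closure_le _).2 ?_)
        rintro v ⟨hvU, hv⟩
        show (w : G) * v * (w : G)⁻¹ ∈ R₁
        have hvN : (⟨v, hR₁ hv⟩ : ↥(Subgroup.closure Us)) ∈ N.subgroupOf (Subgroup.closure Us) :=
          ⟨hR₁ hv, Subgroup.le_normalizer hv⟩
        have h1 := (Subgroup.mem_normalizer_iff.1 hwN _).1 hvN
        by_contra h2
        exact hnone _ (hconjU w w.2 v hvU) h2 h1.2
      exact hle hx
    set R₂ := R₁ ⊔ Subgroup.zpowers u with hR₂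
    have hle := hmax R₂ ⟨sup_le hR₁ (Subgroup.zpowers_le.2 (Subgroup.subset_closure hu)), ?_, ?_⟩
    · exact huR ((Subgroup.eq_of_le_of_card_ge le_sup_left hle).ge
        (Subgroup.mem_sup_right (Subgroup.mem_zpowers u)))
    · refine sup_le (hgen.trans (Subgroup.closure_mono fun v hv => ⟨hv.1, Subgroup.mem_sup_left hv.2⟩))
        (Subgroup.zpowers_le.2 (Subgroup.subset_closure ⟨hu, ?_⟩))
      exact Subgroup.mem_sup_right (Subgroup.mem_zpowers u)
    · rw [← hprod, hcut u hu (Fix R₁) fun q hq => ?_]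
      · refine Finset.prod_congr (Finset.ext fun q => ?_) fun _ _ => rfl
        simp only [Fix, Finset.mem_filter, Finset.mem_univ, true_and]
        constructor
        · exact fun h => ⟨fun r hr => h r (Subgroup.mem_sup_left hr),
            h u (Subgroup.mem_sup_right (Subgroup.mem_zpowers u))⟩
        · rintro ⟨h1, h2⟩ r hr
          have hle' : R₂ ≤ MulAction.stabilizer G q := sup_le (fun x hx => h1 x hx)
            (Subgroup.zpowers_le.2 h2)
          exact hle' hr
      · simp only [Fix, Finset.mem_filter, Finset.mem_univ, true_and] at hq ⊢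
        intro r hr
        have h1 : u⁻¹ * r * u⁻¹⁻¹ ∈ R₁ := (Subgroup.mem_normalizer_iff.1 (inv_mem huN) r).1 hr
        rw [← mul_smul, show r * u = u * (u⁻¹ * r * u⁻¹⁻¹) by group, mul_smul, hq _ h1]
  have hfinal : Fix R₁ = {QuotientGroup.mk 1} := by
    refine Finset.ext fun q => ?_
    simp only [Fix, Finset.mem_filter, Finset.mem_univ, true_and, Finset.mem_singleton]
    constructor
    · intro h
      obtain ⟨g, rfl⟩ := QuotientGroup.mk_surjective q
      refine (QuotientGroup.eq.2 ?_).symm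
      rw [inv_one, one_mul]
      refine hfix g fun u hu => ?_
      have h' := QuotientGroup.eq.1 (h u⁻¹ (R₁.inv_mem (hall (Subgroup.subset_closure hu))))
      rwa [show (u⁻¹ • g)⁻¹ * g = g⁻¹ * u * g by simp] at h'
    · rintro rfl r hr
      refine QuotientGroup.eq.2 ?_
      have : R₁ ≤ M := hR₁.trans ((Subgroup.closure_le _).2 hfix1)
      simpa using M.inv_mem (this hr)
  rw [hfinal, Finset.prod_singleton, hψ, ← htr, hone] at hprod
  rw [← hprod]
  exact congrArg φ (Subtype.ext (by simp))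

end CfsgLib.Local.Transfer
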