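import Mathlib
import Cfsg.Prelude.Def_ConjugacyFunctors
import Cfsg.Prelude.Def_PLocal
import Cfsg.Agent.Lib.StableFunctor
import Cfsg.Agent.Lib.LocalTame
import Cfsg.Agent.Lib.LocalWellPlaced
import Cfsg.Agent.Lib.LocalTransferOrbit
import Cfsg.Agent.Lib.FusionTransferControl

/-!
# Control of transfer by a family of characteristic functors: the minimal failure
-/

set_option autoImplicit false

universe u

namespace CfsgLib.Local.TransferCtl

variable {G : Type u} [Group G] {p : ℕ}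

/-- The local normalizer of a functor. -/
abbrev Nm (W : ∀ (Q : Type u) [Group Q], Subgroup Q) (S : Subgroup G) : Subgroup G :=
  Subgroup.normalizer ((Cfsg.inducedFunctor (G := G) W S : Subgroup G) : Set G)

/-- The subgroup generated by the local focal subgroups. -/
def Tset (𝓦 : Set (∀ (Q : Type u) [Group Q], Subgroup Q)) (S : Subgroup G) : Subgroup G :=
  ⨆ W ∈ 𝓦, S ⊓ ⁅Nm W S, Nm W S⁆

/-- The family controls transfer, with respect to every Sylow subgroup. -/
def Ctl (p : ℕ) (𝓦 : Set (∀ (Q : Type u) [Group Q], Subgroup Q)) (G : Type u) [Group G] : Prop :=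
  ∀ S : Sylow p G, (S : Subgroup G) ⊓ commutator G ≤ Tset 𝓦 (S : Subgroup G)

variable {𝓦 : Set (∀ (Q : Type u) [Group Q], Subgroup Q)}

theorem Tset_le (S : Subgroup G) : Tset 𝓦 S ≤ S := iSup₂_le fun _ _ => inf_le_left

theorem commutator_le_commutator (H : Subgroup G) : ⁅H, H⁆ ≤ commutator G := by
  rw [commutator_def]; exact Subgroup.commutator_mono le_top le_top

theorem Tset_le_commutator (S : Subgroup G) : Tset 𝓦 S ≤ S ⊓ commutator G :=
  iSup₂_le fun _ _ => inf_le_inf_left S (commutator_le_commutator _)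

theorem le_Nm [Finite G] [Fact p.Prime] {W : ∀ (Q : Type u) [Group Q], Subgroup Q}
    (hW : Cfsg.IsCharPFunctor.{u} p W) {S : Subgroup G} (hS : IsPGroup p ↥S) : S ≤ Nm W S :=
  Subgroup.le_normalizer.trans (CfsgLib.Stable.normalizer_le_inducedFunctor hW hS)

theorem commutator_le_Tset [Finite G] [Fact p.Prime] (h𝓦 : ∀ W ∈ 𝓦, Cfsg.IsCharPFunctor.{u} p W)
    (hne : 𝓦.Nonempty) {S : Subgroup G} (hS : IsPGroup p ↥S) : ⁅S, S⁆ ≤ Tset 𝓦 S := by
  obtain ⟨W, hW⟩ := hne
  refine le_trans ?_ (le_iSup₂_of_le W hW le_rfl)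
  exact le_inf (Subgroup.commutator_le_self S)
    (Subgroup.commutator_mono (le_Nm (h𝓦 W hW) hS) (le_Nm (h𝓦 W hW) hS))

/-! ### Transport -/

section Transport

variable [Finite G] [Fact p.Prime] {X : Type u} [Group X]

theorem Tset_map_equiv (h𝓦 : ∀ W ∈ 𝓦, Cfsg.IsCharPFunctor.{u} p W) (e : G ≃* X) {S : Subgroup G}
    (hS : IsPGroup p ↥S) :
    Tset 𝓦 (S.map e.toMonoidHom) = (Tset 𝓦 S).map e.toMonoidHom := by
  rw [Tset, Tset, Subgroup.map_iSup]
  refine iSup_congr fun W => ?_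
  rw [Subgroup.map_iSup]
  refine iSup_congr fun hW => ?_
  have hN : Nm W (S.map e.toMonoidHom) = (Nm W S).map e.toMonoidHom := by
    show Subgroup.normalizer _ = _
    rw [← CfsgLib.Stable.map_inducedFunctor (h𝓦 W hW) hS _ (Set.injOn_of_injective e.injective)]
    exact (Subgroup.map_equiv_normalizer_eq _ e).symm
  rw [hN, Subgroup.map_inf _ _ _ e.injective, Subgroup.map_commutator]

theorem ctl_of_one (h𝓦 : ∀ W ∈ 𝓦, Cfsg.IsCharPFunctor.{u} p W) (S : Sylow p G)
    (h : (S : Subgroup G) ⊓ commutator G ≤ Tset 𝓦 (S : Subgroup G)) : Ctl p 𝓦 G := by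
  intro P
  obtain ⟨g, rfl⟩ := MulAction.exists_smul_eq G S P
  have e : ((g • S : Sylow p G) : Subgroup G) = (S : Subgroup G).map (MulAut.conj g).toMonoidHom := by
    rw [Sylow.coe_subgroup_smul]
    exact CfsgLib.Core.conj_smul_eq_map g _
  rw [e]
  refine le_trans ?_ (Tset_map_equiv h𝓦 (MulAut.conj g) S.isPGroup').ge
  have hc : (commutator G).map (MulAut.conj g).toMonoidHom = commutator G := by
    rw [commutator_def, Subgroup.map_commutator,
      Subgroup.map_top_of_surjective _ (MulAut.conj g).surjective]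
  rw [← hc, ← Subgroup.map_inf _ _ _ (MulAut.conj g).injective]
  exact Subgroup.map_mono h

theorem ctl_equiv (h𝓦 : ∀ W ∈ 𝓦, Cfsg.IsCharPFunctor.{u} p W) [Finite X] (e : G ≃* X)
    (h : Ctl p 𝓦 G) : Ctl p 𝓦 X := by
  let S : Sylow p G := default
  have hs : Function.Surjective e.toMonoidHom := e.surjective
  refine ctl_of_one h𝓦 (S.mapSurjective hs) ?_
  show (S : Subgroup G).map e.toMonoidHom ⊓ commutator X ≤ Tset 𝓦 ((S : Subgroup G).map e.toMonoidHom)
  have hc : (commutator G).map e.toMonoidHom = commutator X := by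
    rw [commutator_def, commutator_def, Subgroup.map_commutator, Subgroup.map_top_of_surjective _ hs]
  rw [Tset_map_equiv h𝓦 e S.isPGroup', ← hc, ← Subgroup.map_inf _ _ _ e.injective]
  exact Subgroup.map_mono (h S)

/-- Translation to the frozen notion. -/
theorem ctl_iff_family (h𝓦 : ∀ W ∈ 𝓦, Cfsg.IsCharPFunctor.{u} p W) :
    Ctl p 𝓦 G ↔
      Cfsg.FamilyControlsTransferIn p ((fun W => Cfsg.inducedFunctor (G := G) W) '' 𝓦) ⊤ := by
  have key : ∀ T : Subgroup G,
      (⨆ W ∈ (fun W => Cfsg.inducedFunctor (G := G) W) '' 𝓦,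
        T ⊓ ⁅(⊤ : Subgroup G) ⊓ Subgroup.normalizer ((W T : Subgroup G) : Set G),
          ⊤ ⊓ Subgroup.normalizer ((W T : Subgroup G) : Set G)⁆) = Tset 𝓦 T := by
    intro T
    rw [iSup_image]
    simp only [top_inf_eq]
    rfl
  constructor
  · intro h
    let S : Sylow p G := default
    refine ⟨S, le_top, S.isPGroup', ?_, ?_⟩
    · rw [Subgroup.relIndex_top_right]; exact S.not_dvd_index
    · rw [key, ← commutator_def]
      exact le_antisymm (h S) (Tset_le_commutator _)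
  · rintro ⟨T, -, hT, hnd, h⟩
    rw [Subgroup.relIndex_top_right] at hnd
    rw [key, ← commutator_def] at h
    exact ctl_of_one h𝓦 (hT.toSylow hnd) h.le

/-- A single functor. -/
theorem controlsTransfer_of_ctl {W : ∀ (Q : Type u) [Group Q], Subgroup Q}
    (h : Ctl p {W} G) (S : Sylow p G) :
    (S : Subgroup G) ⊓ commutator G = (S : Subgroup G) ⊓ ⁅Nm W (S : Subgroup G), Nm W (S : Subgroup G)⁆ := by
  refine le_antisymm ((h S).trans (iSup₂_le fun V hV => ?_))
    (inf_le_inf_left _ (commutator_le_commutator _))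
  rw [Set.mem_singleton_iff] at hV
  subst hV
  exact le_rfl

/-- A `p`-subgroup of `N` meeting `N` in a Sylow subgroup commutes with taking images. -/
theorem map_inf_of_not_dvd {Y : Type*} [Group Y] [Finite Y] (f : G →* Y) {P N : Subgroup G}
    (hP : IsPGroup p ↥P) (hN : ¬ p ∣ (P ⊓ N).relIndex N) :
    (P ⊓ N).map f = P.map f ⊓ N.map f := by
  have hp : Fact p.Prime := inferInstance
  refine le_antisymm (le_inf (Subgroup.map_mono inf_le_left) (Subgroup.map_mono inf_le_right)) ?_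
  have hq : IsPGroup p ↥(P.map f ⊓ N.map f) := (hP.map f).to_le inf_le_left
  have h1 : ¬ p ∣ ((P ⊓ N).map f).relIndex (N.map f) := fun h => hN (h.trans (by
    rw [← Subgroup.relIndex_comap]
    exact Subgroup.relIndex_dvd_of_le_left _ (Subgroup.le_comap_map f _)))
  have h2 : ((P ⊓ N).map f).relIndex (P.map f ⊓ N.map f) ∣ ((P ⊓ N).map f).relIndex (N.map f) :=
    ⟨_, (Subgroup.relIndex_mul_relIndex _ _ _
      (le_inf (Subgroup.map_mono inf_le_left) (Subgroup.map_mono inf_le_right)) inf_le_right).symm⟩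
  obtain ⟨k, hk⟩ := IsPGroup.iff_card.1 hq
  have h3 : ((P ⊓ N).map f).relIndex (P.map f ⊓ N.map f) ∣ p ^ k := by
    rw [← hk]
    exact Subgroup.index_dvd_card _
  obtain ⟨j, -, hj⟩ := (Nat.dvd_prime_pow hp.out).1 h3
  rcases j with _ | j
  · exact Subgroup.relIndex_eq_one.1 (by rw [hj, pow_zero])
  · exact absurd ((dvd_pow_self p j.succ_ne_zero).trans (hj ▸ h2)) h1

theorem not_dvd_relIndex_commutator (S : Sylow p G) {H : Subgroup G} (hSH : (S : Subgroup G) ≤ H) :
    ¬ p ∣ ((S : Subgroup G) ⊓ ⁅H, H⁆).relIndex ⁅H, H⁆ := by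
  have h := CfsgLib.Local.not_dvd_relIndex_of_normal (S.subtype hSH) (commutator ↥H)
  rw [Subgroup.inf_relIndex_right, ← Subgroup.map_subtype_commutator H]
  rw [← Subgroup.relIndex_map_map_of_injective _ _ H.subtype_injective] at h
  change ¬ p ∣ (((S : Subgroup G).subgroupOf H).map H.subtype).relIndex _ at h
  rwa [Subgroup.subgroupOf_map_subtype, inf_eq_left.2 hSH] at h

theorem map_inf_commutator {Y : Type*} [Group Y] [Finite Y] (f : G →* Y) (S : Sylow p G)
    {H : Subgroup G} (hSH : (S : Subgroup G) ≤ H) :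
    ((S : Subgroup G) ⊓ ⁅H, H⁆).map f = (S : Subgroup G).map f ⊓ ⁅H.map f, H.map f⁆ := by
  rw [← Subgroup.map_commutator]
  exact map_inf_of_not_dvd f S.isPGroup' (not_dvd_relIndex_commutator S hSH)

/-! ### Subgroups and quotients -/

/-- The local focal subgroups computed in a subgroup. -/
theorem inf_commutator_le_iSup (h𝓦 : ∀ W ∈ 𝓦, Cfsg.IsCharPFunctor.{u} p W) {H R : Subgroup G}
    (hRH : R ≤ H) (hR : IsPGroup p ↥R) (hnd : ¬ p ∣ R.relIndex H) (h : Ctl p 𝓦 ↥H) :
    R ⊓ ⁅H, H⁆ ≤ ⨆ W ∈ 𝓦, R ⊓ ⁅H ⊓ Nm W R, H ⊓ Nm W R⁆ := by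
  let P : Sylow p ↥H := (hR.comap_subtype (K := H)).toSylow hnd
  have hP : (P : Subgroup ↥H).map H.subtype = R := by
    show (R.subgroupOf H).map H.subtype = R
    rw [Subgroup.subgroupOf_map_subtype, inf_eq_left.2 hRH]
  intro x hx
  have hxH : x ∈ H := hRH hx.1
  have hmem : (⟨x, hxH⟩ : ↥H) ∈ (P : Subgroup ↥H) ⊓ commutator ↥H := by
    refine ⟨hx.1, ?_⟩
    have h2 := hx.2
    rw [← Subgroup.map_subtype_commutator] at h2
    obtain ⟨y, hy, e⟩ := h2
    rwa [show y = ⟨x, hxH⟩ from Subtype.ext e] at hy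
  have h1 : x ∈ (Tset 𝓦 (P : Subgroup ↥H)).map H.subtype := ⟨_, h P hmem, rfl⟩
  refine (?_ : (Tset 𝓦 (P : Subgroup ↥H)).map H.subtype ≤ _) h1
  rw [Tset, Subgroup.map_iSup]
  refine iSup_mono fun W => ?_
  rw [Subgroup.map_iSup]
  refine iSup_mono fun hW => ?_
  refine (Subgroup.map_inf_le _ _ _).trans (inf_le_inf hP.le ?_)
  rw [Subgroup.map_commutator]
  refine Subgroup.commutator_mono (le_inf (Subgroup.map_subtype_le _) ?_)
    (le_inf (Subgroup.map_subtype_le _) ?_) <;>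
  · refine (Subgroup.le_normalizer_map _).trans ?_
    rw [CfsgLib.Stable.map_inducedFunctor (h𝓦 W hW) P.isPGroup' _
      (Set.injOn_of_injective H.subtype_injective), hP]

theorem inf_commutator_le_of_proper (h𝓦 : ∀ W ∈ 𝓦, Cfsg.IsCharPFunctor.{u} p W) (S : Sylow p G)
    {H : Subgroup G} (hSH : (S : Subgroup G) ≤ H) (h : Ctl p 𝓦 ↥H) :
    (S : Subgroup G) ⊓ ⁅H, H⁆ ≤ Tset 𝓦 (S : Subgroup G) := by
  refine (inf_commutator_le_iSup h𝓦 hSH S.isPGroup' ?_ h).trans ?_
  · exact fun hd => S.not_dvd_index (hd.trans (Subgroup.relIndex_dvd_index_of_le hSH))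
  · exact iSup_mono fun W => iSup_mono fun _ =>
      inf_le_inf_left _ (Subgroup.commutator_mono inf_le_right inf_le_right)

theorem Tset_map_surjective (h𝓦 : ∀ W ∈ 𝓦, Cfsg.IsCharPFunctor.{u} p W) [Finite X] (f : G →* X)
    (hf : Function.Surjective f) (hker : (Nat.card f.ker).Coprime p) (S : Sylow p G) :
    Tset 𝓦 ((S : Subgroup G).map f) = (Tset 𝓦 (S : Subgroup G)).map f := by
  rw [Tset, Tset, Subgroup.map_iSup]
  refine iSup_congr fun W => ?_
  rw [Subgroup.map_iSup]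
  refine iSup_congr fun hW => ?_
  have hN : Nm W ((S : Subgroup G).map f) = (Nm W (S : Subgroup G)).map f := by
    show Subgroup.normalizer _ = _
    rw [← CfsgLib.Stable.map_inducedFunctor (h𝓦 W hW) S.isPGroup' _
      (CfsgLib.Stable.injOn_of_coprime_ker f hker S.isPGroup')]
    exact CfsgLib.Stable.normalizer_map_eq f hf hker
      (S.isPGroup'.to_le (CfsgLib.Stable.inducedFunctor_le _))
  rw [hN, map_inf_commutator f S (le_Nm (h𝓦 W hW) S.isPGroup')]

theorem ctl_iff_coprime_ker (h𝓦 : ∀ W ∈ 𝓦, Cfsg.IsCharPFunctor.{u} p W) [Finite X] (f : G →* X)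
    (hf : Function.Surjective f) (hker : (Nat.card f.ker).Coprime p) : Ctl p 𝓦 G ↔ Ctl p 𝓦 X := by
  let S : Sylow p G := default
  have hc : (commutator G).map f = commutator X := by
    rw [commutator_def, commutator_def, Subgroup.map_commutator, Subgroup.map_top_of_surjective _ hf]
  have hinf : ((S : Subgroup G) ⊓ commutator G).map f = (S : Subgroup G).map f ⊓ commutator X := by
    rw [commutator_def, map_inf_commutator f S le_top, ← Subgroup.map_commutator, ← commutator_def, hc]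
  constructor
  · intro h
    refine ctl_of_one h𝓦 (S.mapSurjective hf) ?_
    show (S : Subgroup G).map f ⊓ commutator X ≤ Tset 𝓦 ((S : Subgroup G).map f)
    rw [Tset_map_surjective h𝓦 f hf hker S, ← hinf]
    exact Subgroup.map_mono (h S)
  · intro h
    refine ctl_of_one h𝓦 S fun x hx => ?_
    have h1 : f x ∈ Tset 𝓦 ((S : Subgroup G).map f) :=
      h (S.mapSurjective hf) (hinf.le ⟨x, hx, rfl⟩)
    rw [Tset_map_surjective h𝓦 f hf hker S] at h1
    obtain ⟨t, ht, hte⟩ := h1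
    rwa [CfsgLib.Stable.injOn_of_coprime_ker f hker S.isPGroup' hx.1 (Tset_le _ ht) hte.symm]

end Transport

/-! ### The minimal failure -/

section Failure

variable [Finite G] [hp : Fact p.Prime]

/-- Proper subgroups and proper quotients are controlled. -/
structure Ind (p : ℕ) (𝓦 : Set (∀ (Q : Type u) [Group Q], Subgroup Q)) (G : Type u) [Group G] :
    Prop where
  sub : ∀ H : Subgroup G, H ≠ ⊤ → Ctl p 𝓦 ↥H
  quot : ∀ (N : Subgroup G) [N.Normal], N ≠ ⊥ → Ctl p 𝓦 (G ⧸ N)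

theorem pPrimeCore_eq_bot (h𝓦 : ∀ W ∈ 𝓦, Cfsg.IsCharPFunctor.{u} p W) (hI : Ind p 𝓦 G)
    (hG : ¬ Ctl p 𝓦 G) : Cfsg.pPrimeCore p G = ⊥ := by
  by_contra h
  haveI := CfsgLib.Core.normal_pPrimeCore (G := G) p
  refine hG ((ctl_iff_coprime_ker h𝓦 (QuotientGroup.mk' (Cfsg.pPrimeCore p G))
    (QuotientGroup.mk'_surjective _) ?_).2 (hI.quot _ h))
  rw [QuotientGroup.ker_mk']
  exact CfsgLib.Core.coprime_card_pPrimeCore p

theorem pCore_ne_bot (h𝓦 : ∀ W ∈ 𝓦, Cfsg.IsCharPFunctor.{u} p W) (hI : Ind p 𝓦 G)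
    (hG : ¬ Ctl p 𝓦 G) : Cfsg.pCore p G ≠ ⊥ := by
  intro hO
  let S : Sylow p G := default
  have hS := S.isPGroup'
  set T := Tset 𝓦 (S : Subgroup G) with hT
  refine hG (ctl_of_one h𝓦 S ?_)
  intro y hy
  have hy' : y ∈ (S : Subgroup G) ⊓ (commutator ↥(⊤ : Subgroup G)).map (⊤ : Subgroup G).subtype := by
    rw [Subgroup.map_subtype_commutator, ← commutator_def]; exact hy
  refine CfsgLib.Fusion.inf_commutator_le_of_conj S le_top (fun g _ x hx hgx => ?_) hy'
  have hprop : ∀ V : Subgroup G, V ≠ ⊥ → IsPGroup p ↥V →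
      Subgroup.normalizer (V : Set G) ≠ ⊤ := by
    intro V hV hVp e
    haveI := Subgroup.normalizer_eq_top_iff.1 e
    exact hV (le_bot_iff.1 (hO ▸ CfsgLib.Core.le_pCore inferInstance hVp))
  let Pr : Set G → G → Prop := fun A g => ∀ a ∈ A, a⁻¹ * (g⁻¹ * a * g) ∈ T
  have hcomp : ∀ A g h, Pr A g → Pr (CfsgLib.Local.rc g A) h → Pr A (g * h) := by
    intro A g h h1 h2 a ha
    have := T.mul_mem (h1 a ha) (h2 _ ⟨a, ha, rfl⟩)
    rwa [show a⁻¹ * (g⁻¹ * a * g) * ((g⁻¹ * a * g)⁻¹ * (h⁻¹ * (g⁻¹ * a * g) * h)) =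
      a⁻¹ * ((g * h)⁻¹ * a * (g * h)) by group] at this
  have main : Pr {x} g⁻¹ := by
    refine CfsgLib.Local.fusion_induction hS Pr (fun A B g hAB h a ha => h a (hAB ha)) hcomp
      (fun T₀ hT₀ => ?_) {x} g⁻¹ (Set.singleton_subset_iff.2 hx) ?_
    · obtain ⟨c, hc1, hc2⟩ := CfsgLib.Local.exists_fullyNorm_conj S T₀ hT₀
      refine ⟨_, hc1, ⟨c⁻¹, by rw [CfsgLib.Local.rc_coe, inv_inv]⟩, hc2, fun IH m hm a ha => ?_⟩
      set U := T₀.map (MulAut.conj c).toMonoidHom with hU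
      have hcard : Nat.card ↥U = Nat.card ↥T₀ :=
        Subgroup.card_map_of_injective (MulAut.conj c).injective
      by_cases ha1 : a = 1
      · subst ha1; simp
      have hU1 : U ≠ ⊥ := fun e => ha1 (by rw [e] at ha; exact ha)
      -- local subgroups
      have loc : ∀ (k : ℕ) (H : Subgroup G), H ≠ ⊤ →
          Nat.card ↥(S : Subgroup G) ≤ Nat.card ↥((S : Subgroup G) ⊓ H : Subgroup G) + k →
          Nat.card ↥U ≤ Nat.card ↥((S : Subgroup G) ⊓ H : Subgroup G) →
          ¬ p ∣ ((S : Subgroup G) ⊓ H).relIndex H → (S : Subgroup G) ⊓ H ⊓ ⁅H, H⁆ ≤ T := by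
        intro k
        induction k using Nat.strong_induction_on with
        | _ k ih =>
          intro H hH hk hUH hnd
          set R := (S : Subgroup G) ⊓ H with hR
          rcases eq_or_ne R (S : Subgroup G) with hRS | hRS
          · rw [hRS]
            exact inf_commutator_le_of_proper h𝓦 S (hRS ▸ inf_le_right) (hI.sub H hH)
          have hRp : IsPGroup p ↥R := hS.to_le inf_le_left
          have hR1 : R ≠ ⊥ := fun e => hU1 (Subgroup.card_eq_one.1 (le_antisymm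
            (hUH.trans (Subgroup.card_eq_one.2 e).le) Nat.card_pos))
          refine (inf_commutator_le_iSup h𝓦 inf_le_right hRp hnd (hI.sub H hH)).trans
            (iSup₂_le fun W hW z hz => ?_)
          set L := Nm W R with hL
          have hLtop : L ≠ ⊤ := hprop _ (CfsgLib.Stable.inducedFunctor_ne_bot (h𝓦 W hW) hRp hR1)
            (hRp.to_le (CfsgLib.Stable.inducedFunctor_le _))
          have hRL : R < (S : Subgroup G) ⊓ L :=
            lt_of_lt_of_le (CfsgLib.Local.lt_inf_normalizer hS (lt_of_le_of_ne inf_le_left hRS))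
              (inf_le_inf_left _ (CfsgLib.Stable.normalizer_le_inducedFunctor (h𝓦 W hW) hRp))
          -- move a Sylow subgroup of `L` into `S`
          obtain ⟨P, hP⟩ := ((hS.to_le inf_le_left).comap_subtype
            (H := (S : Subgroup G) ⊓ L) (K := L)).exists_le_sylow
          set P₀ := (P : Subgroup ↥L).map L.subtype with hP₀
          have hP₀p : IsPGroup p ↥P₀ := P.isPGroup'.map _
          obtain ⟨P₁, hP₁⟩ := hP₀p.exists_le_sylow
          obtain ⟨d, hd⟩ := MulAction.exists_smul_eq G P₁ S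
          have hdS : P₀.map (MulAut.conj d).toMonoidHom ≤ (S : Subgroup G) := by
            refine (Subgroup.map_mono hP₁).trans ?_
            rw [← hd, Sylow.coe_subgroup_smul, CfsgLib.Core.conj_smul_eq_map]
          set L' := L.map (MulAut.conj d).toMonoidHom with hL'
          have hP₀L' : P₀.map (MulAut.conj d).toMonoidHom ≤ (S : Subgroup G) ⊓ L' :=
            le_inf hdS (Subgroup.map_mono (Subgroup.map_subtype_le _))
          have hnd' : ¬ p ∣ ((S : Subgroup G) ⊓ L').relIndex L' := by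
            intro hdvd
            have h1 := hdvd.trans (Subgroup.relIndex_dvd_of_le_left L' hP₀L')
            rw [hL', Subgroup.relIndex_map_map_of_injective _ _ (MulAut.conj d).injective] at h1
            refine P.not_dvd_index ?_
            rwa [hP₀, Subgroup.relIndex, Subgroup.subgroupOf,
              Subgroup.comap_map_eq_self_of_injective L.subtype_injective] at h1
          have hSL : (S : Subgroup G) ⊓ L ≤ P₀ := fun v hv => ⟨⟨v, hv.2⟩, hP hv, rfl⟩
          have hlt : Nat.card ↥R < Nat.card ↥((S : Subgroup G) ⊓ L' : Subgroup G) := by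
            refine lt_of_lt_of_le (CfsgLib.Local.card_lt_card_of_lt hRL)
              ((Subgroup.card_le_of_le hSL).trans ?_)
            rw [← Subgroup.card_map_of_injective (K := P₀) (f := (MulAut.conj d).toMonoidHom)
              (MulAut.conj d).injective]
            exact Subgroup.card_le_of_le hP₀L'
          have hL'top : L' ≠ ⊤ := fun e => hLtop (Subgroup.map_injective (MulAut.conj d).injective
            (e.trans (Subgroup.map_top_of_surjective _ (MulAut.conj d).surjective).symm))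
          obtain ⟨hzR, hzc⟩ := hz
          have hzc' : z ∈ ⁅L, L⁆ := Subgroup.commutator_mono inf_le_right inf_le_right hzc
          have hzSL : z ∈ (S : Subgroup G) ⊓ L := hRL.le hzR
          have hlt' := Nat.card_mono (Set.toFinite _)
            (SetLike.coe_subset_coe.2 (inf_le_left : (S : Subgroup G) ⊓ L' ≤ (S : Subgroup G)))
          simp only [SetLike.coe_sort_coe] at hlt'
          have h1 : d * z * d⁻¹ ∈ T := by
            refine ih (Nat.card ↥(S : Subgroup G) - Nat.card ↥((S : Subgroup G) ⊓ L' : Subgroup G))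
              (by omega) L' hL'top (by omega) (hUH.trans hlt.le) hnd' ⟨hP₀L' ⟨z, hSL hzSL, rfl⟩, ?_⟩
            rw [hL', ← Subgroup.map_commutator]
            exact ⟨z, hzc', rfl⟩
          have h2 := IH ((S : Subgroup G) ⊓ L) d⁻¹
            (lt_of_le_of_lt (hcard ▸ hUH) (CfsgLib.Local.card_lt_card_of_lt hRL)) inf_le_left
            (by
              rintro _ ⟨v, hv, rfl⟩
              have h3 := hdS ⟨v, hSL hv, rfl⟩
              show d⁻¹⁻¹ * v * d⁻¹ ∈ _
              rw [inv_inv]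
              exact h3) z hzSL
          rw [inv_inv] at h2
          have h3 := T.mul_mem h1 (T.inv_mem h2)
          rwa [show d * z * d⁻¹ * (z⁻¹ * (d * z * d⁻¹))⁻¹ = z by group] at h3
      set NU := Subgroup.normalizer (U : Set G) with hNU
      have haN : a ∈ NU := Subgroup.le_normalizer ha
      refine loc (Nat.card ↥(S : Subgroup G)) NU (hprop U hU1 (hS.to_le hc1)) (Nat.le_add_left _ _)
        (Subgroup.card_le_of_le (le_inf hc1 Subgroup.le_normalizer)) hc2 ⟨⟨?_, ?_⟩, ?_⟩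
      · exact (S : Subgroup G).mul_mem ((S : Subgroup G).inv_mem (hc1 ha))
          (hc1 ((Subgroup.mem_normalizer_iff''.1 hm a).1 ha))
      · exact NU.mul_mem (NU.inv_mem haN) (NU.mul_mem (NU.mul_mem (NU.inv_mem hm) haN) hm)
      · rw [show a⁻¹ * (m⁻¹ * a * m) = a⁻¹ * m⁻¹ * a⁻¹⁻¹ * m⁻¹⁻¹ by group, ← commutatorElement_def]
        exact Subgroup.commutator_mem_commutator (NU.inv_mem haN) (NU.inv_mem hm)
    · rintro _ ⟨a, rfl, rfl⟩
      show g⁻¹⁻¹ * a * g⁻¹ ∈ _
      rwa [inv_inv]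
  have h := main x rfl
  rwa [inv_inv] at h

theorem inf_le_Tset_sup_pCore (h𝓦 : ∀ W ∈ 𝓦, Cfsg.IsCharPFunctor.{u} p W) (hI : Ind p 𝓦 G)
    (hO : Cfsg.pCore p G ≠ ⊥) (S : Sylow p G) :
    (S : Subgroup G) ⊓ commutator G ≤ Tset 𝓦 (S : Subgroup G) ⊔ Cfsg.pCore p G := by
  set O := Cfsg.pCore p G with hOdef
  haveI hOn : O.Normal := CfsgLib.Core.normal_pCore p
  set f := QuotientGroup.mk' O with hf
  have hfs : Function.Surjective f := QuotientGroup.mk'_surjective O
  set S' := S.mapSurjective hfs with hS'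
  have hS'e : (S' : Subgroup (G ⧸ O)) = (S : Subgroup G).map f := rfl
  rcases eq_or_ne (S' : Subgroup (G ⧸ O)) ⊥ with h0 | h0
  · intro x hx
    refine Subgroup.mem_sup_right ((QuotientGroup.eq_one_iff x).1 ?_)
    have : f x ∈ (S' : Subgroup (G ⧸ O)) := ⟨x, hx.1, rfl⟩
    rwa [h0, Subgroup.mem_bot] at this
  intro x hx
  have h1 : f x ∈ Tset 𝓦 (S' : Subgroup (G ⧸ O)) := hI.quot O hO S' ⟨⟨x, hx.1, rfl⟩, by
    have := hx.2
    rw [commutator_def] at this ⊢
    rw [← Subgroup.map_top_of_surjective f hfs, ← Subgroup.map_commutator]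
    exact ⟨x, this, rfl⟩⟩
  have h2 : Tset 𝓦 (S' : Subgroup (G ⧸ O)) ≤ (Tset 𝓦 (S : Subgroup G)).map f := by
    refine iSup₂_le fun W hW => ?_
    set H := (Nm W (S' : Subgroup (G ⧸ O))).comap f with hH
    have hSH : (S : Subgroup G) ≤ H := fun s hs => le_Nm (h𝓦 W hW) S'.isPGroup' ⟨s, hs, rfl⟩
    have hHtop : H ≠ ⊤ := by
      intro e
      have e' : Nm W (S' : Subgroup (G ⧸ O)) = ⊤ := by
        rw [← Subgroup.map_comap_eq_self_of_surjective hfs (Nm W (S' : Subgroup (G ⧸ O))),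
          ← hH, e, Subgroup.map_top_of_surjective f hfs]
      haveI := Subgroup.normalizer_eq_top_iff.1 e'
      refine CfsgLib.Stable.inducedFunctor_ne_bot (h𝓦 W hW) S'.isPGroup' h0 (le_bot_iff.1 ?_)
      rw [← CfsgLib.Core.pCore_quotient_pCore (G := G) p]
      exact CfsgLib.Core.le_pCore inferInstance
        (S'.isPGroup'.to_le (CfsgLib.Stable.inducedFunctor_le _))
    have hmap : H.map f = Nm W (S' : Subgroup (G ⧸ O)) :=
      Subgroup.map_comap_eq_self_of_surjective hfs _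
    rw [← hmap, hS'e, ← map_inf_commutator f S hSH]
    exact Subgroup.map_mono (inf_commutator_le_of_proper h𝓦 S hSH (hI.sub H hHtop))
  obtain ⟨t, ht, hte⟩ := h2 h1
  rw [← mul_inv_cancel_left t x]
  exact Subgroup.mul_mem_sup ht (QuotientGroup.eq.1 hte)

theorem not_pCore_inf_le (h𝓦 : ∀ W ∈ 𝓦, Cfsg.IsCharPFunctor.{u} p W) (hI : Ind p 𝓦 G)
    (hG : ¬ Ctl p 𝓦 G) (S : Sylow p G) :
    ¬ Cfsg.pCore p G ⊓ commutator G ≤ Tset 𝓦 (S : Subgroup G) := by
  intro h
  refine hG (ctl_of_one h𝓦 S fun x hx => ?_)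
  haveI := CfsgLib.Core.normal_pCore (G := G) p
  obtain ⟨t, ht, o, ho, rfl⟩ := Subgroup.mem_sup_of_normal_right.1
    (inf_le_Tset_sup_pCore h𝓦 hI (pCore_ne_bot h𝓦 hI hG) S hx)
  refine Subgroup.mul_mem _ ht (h ⟨ho, ?_⟩)
  have := Subgroup.mul_mem _ (Subgroup.inv_mem _ (Tset_le_commutator _ ht).2) hx.2
  rwa [inv_mul_cancel_left] at this

/-- Evaluation of the transfer: a hom on `M` cutting out `Tset` on `S`. -/
theorem exists_hom {S : Sylow p G} {M : Subgroup G} (hSM : (S : Subgroup G) ≤ M)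
    (hM : (S : Subgroup G) ⊓ ⁅M, M⁆ ≤ Tset 𝓦 (S : Subgroup G)) :
    ∃ (A : Type u) (_ : CommGroup A) (φ : ↥M →* A),
      (∀ m : ↥M, (m : G) ∈ Tset 𝓦 (S : Subgroup G) → φ m = 1) ∧
      ∀ m : ↥M, (m : G) ∈ (S : Subgroup G) → φ m = 1 → (m : G) ∈ Tset 𝓦 (S : Subgroup G) := by
  set T := Tset 𝓦 (S : Subgroup G) with hT
  set K := commutator ↥M ⊔ T.subgroupOf M with hK
  haveI hKn : K.Normal := ⟨fun k hk g => by
    have : g * k * g⁻¹ * k⁻¹ ∈ commutator ↥M := by
      rw [← commutatorElement_def, commutator_def]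
      exact Subgroup.commutator_mem_commutator (Subgroup.mem_top g) (Subgroup.mem_top k)
    have := K.mul_mem (Subgroup.mem_sup_left this) hk
    rwa [inv_mul_cancel_right] at this⟩
  letI : CommGroup (↥M ⧸ K) :=
    { (inferInstance : Group (↥M ⧸ K)) with
      mul_comm := fun a b => by
        obtain ⟨x, rfl⟩ := QuotientGroup.mk_surjective a
        obtain ⟨y, rfl⟩ := QuotientGroup.mk_surjective b
        refine QuotientGroup.eq.2 (Subgroup.mem_sup_left ?_)
        rw [show (x * y)⁻¹ * (y * x) = y⁻¹ * x⁻¹ * y⁻¹⁻¹ * x⁻¹⁻¹ by group, ← commutatorElement_def,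
          commutator_def]
        exact Subgroup.commutator_mem_commutator (Subgroup.mem_top _) (Subgroup.mem_top _) }
  refine ⟨↥M ⧸ K, inferInstance, QuotientGroup.mk' K,
    fun m hm => (QuotientGroup.eq_one_iff m).2 (Subgroup.mem_sup_right hm), fun m hm h => ?_⟩
  obtain ⟨c, hc, t, ht, rfl⟩ :=
    Subgroup.mem_sup_of_normal_left.1 ((QuotientGroup.eq_one_iff m).1 h)
  refine T.mul_mem (hM ⟨?_, ?_⟩) ht
  · have := Subgroup.mul_mem _ hm ((S : Subgroup G).inv_mem (Tset_le _ ht))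
    rwa [Subgroup.coe_subtype, Subgroup.coe_mul, mul_inv_cancel_right] at this
  · rw [← Subgroup.map_subtype_commutator]; exact ⟨c, hc, rfl⟩

theorem centralizer_pCore_le (h𝓦 : ∀ W ∈ 𝓦, Cfsg.IsCharPFunctor.{u} p W) (hI : Ind p 𝓦 G)
    (hG : ¬ Ctl p 𝓦 G) :
    Subgroup.centralizer (Cfsg.pCore p G : Set G) ≤ Cfsg.pCore p G := by
  let S : Sylow p G := default
  by_contra hC
  refine not_pCore_inf_le h𝓦 hI hG S ?_
  set O := Cfsg.pCore p G with hOdef
  haveI hOn : O.Normal := CfsgLib.Core.normal_pCore p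
  have hOS : O ≤ (S : Subgroup G) := CfsgLib.Core.pCore_le_sylow S
  set C := Subgroup.centralizer (O : Set G) with hCdef
  haveI hCn : C.Normal := by rw [hCdef]; infer_instance
  set L := C ⊔ O with hL
  haveI hLn : L.Normal := by rw [hL]; infer_instance
  set P := L ⊓ (S : Subgroup G) with hP
  set M := Subgroup.normalizer (P : Set G) with hMdef
  have hSM : (S : Subgroup G) ≤ M := fun s hs => by
    rw [hMdef, Subgroup.mem_normalizer_iff]
    intro y
    refine ⟨fun hy => ⟨hLn.conj_mem y hy.1 s, (S : Subgroup G).mul_mem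
      ((S : Subgroup G).mul_mem hs hy.2) ((S : Subgroup G).inv_mem hs)⟩, fun hy => ⟨?_, ?_⟩⟩
    · have := hLn.conj_mem _ hy.1 s⁻¹
      simpa [mul_assoc] using this
    · have := (S : Subgroup G).mul_mem
        ((S : Subgroup G).mul_mem ((S : Subgroup G).inv_mem hs) hy.2) hs
      rwa [show s⁻¹ * (s * y * s⁻¹) * s = y by group] at this
  have hMtop : M ≠ ⊤ := by
    intro e
    haveI hPn : P.Normal := Subgroup.normalizer_eq_top_iff.1 e
    have hPO : P ≤ O := CfsgLib.Core.le_pCore hPn (S.isPGroup'.to_le inf_le_right)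
    -- the Sylow subgroup of `C` is central
    let Q : Sylow p ↥C := ((S.isPGroup'.comap_subtype (K := C))).toSylow
      (CfsgLib.Local.not_dvd_relIndex_of_normal S C)
    have hQ : (Q : Subgroup ↥C) ≤ Subgroup.center ↥C := by
      intro q hq
      have hqO : (q : G) ∈ O := hPO ⟨Subgroup.mem_sup_left q.2, hq⟩
      exact Subgroup.mem_center_iff.2 fun c =>
        Subtype.ext (Subgroup.mem_centralizer_iff.1 c.2 (q : G) hqO).symm
    have h1 := CfsgLib.Local.pPrimeCore_sup_of_central Q hQ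
    have h2 : Cfsg.pPrimeCore p ↥C = ⊥ := by
      refine (Subgroup.map_eq_bot_iff_of_injective _ C.subtype_injective).1 (le_bot_iff.1 ?_)
      rw [← pPrimeCore_eq_bot h𝓦 hI hG]
      exact CfsgLib.Core.pPrimeCore_map_subtype_le hCn
    rw [h2, bot_sup_eq] at h1
    refine hC fun c hc => hPO ⟨Subgroup.mem_sup_left hc, ?_⟩
    exact (show (⟨c, hc⟩ : ↥C) ∈ (Q : Subgroup ↥C) by rw [h1]; trivial)
  have hOM : O ≤ M := hOS.trans hSM
  have hdec : ∀ g : G, ∃ c ∈ C, ∃ m ∈ M, g = c * m := by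
    intro g
    obtain ⟨l, hl, n, hn, rfl⟩ := CfsgLib.Local.frattini_decomp S L g
    obtain ⟨c, hc, o, ho, rfl⟩ := Subgroup.mem_sup_of_normal_left.1 hl
    exact ⟨c, hc, o * n, M.mul_mem (hOM ho) hn, mul_assoc c o n⟩
  obtain ⟨A, _, φ, hφT, hφ⟩ := exists_hom hSM
    (inf_commutator_le_of_proper h𝓦 S hSM (hI.sub M hMtop))
  rintro a ⟨haO, haG⟩
  have hconj : ∀ g : G, g⁻¹ * a * g ∈ M := fun g => by
    have := hOn.conj_mem a haO g⁻¹
    rw [inv_inv] at this
    exact hOM this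
  have hψ : ∀ g : G, φ ⟨g⁻¹ * a * g, hconj g⟩ = φ ⟨a, hOM haO⟩ := by
    intro g
    obtain ⟨c, hc, m, hm, rfl⟩ := hdec g
    have e : (⟨(c * m)⁻¹ * a * (c * m), hconj _⟩ : ↥M) = ⟨m, hm⟩⁻¹ * ⟨a, hOM haO⟩ * ⟨m, hm⟩ := by
      refine Subtype.ext ?_
      show (c * m)⁻¹ * a * (c * m) = m⁻¹ * a * m
      have hca : a * c = c * a := Subgroup.mem_centralizer_iff.1 hc a haO
      calc (c * m)⁻¹ * a * (c * m) = m⁻¹ * c⁻¹ * (a * c) * m := by group
        _ = m⁻¹ * c⁻¹ * (c * a) * m := by rw [hca]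
        _ = _ := by group
    rw [e, map_mul, map_mul, map_inv, mul_comm (φ ⟨m, hm⟩)⁻¹, inv_mul_cancel_right]
  letI := Fintype.ofFinite (G ⧸ M)
  have htr := CfsgLib.Local.Transfer.transfer_of_fix φ (fun _ => φ ⟨a, hOM haO⟩) hconj
    (fun g => (hψ g).symm)
  have hone : MonoidHom.transfer φ a = 1 :=
    MonoidHom.mem_ker.1 (Abelianization.commutator_subset_ker (MonoidHom.transfer φ) haG)
  rw [hone, Finset.prod_const, Finset.card_univ, ← Nat.card_eq_fintype_card] at htr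
  obtain ⟨k, hk⟩ := S.isPGroup' ⟨a, hOS haO⟩
  have hk' : φ ⟨a, hOM haO⟩ ^ p ^ k = 1 := by
    rw [← map_pow]
    have : (⟨a, hOM haO⟩ : ↥M) ^ p ^ k = 1 := Subtype.ext (by simpa using congrArg Subtype.val hk)
    rw [this, map_one]
  have hcop : Nat.Coprime M.index (p ^ k) :=
    Nat.Coprime.pow_right k ((Nat.Prime.coprime_iff_not_dvd hp.out).2 fun h =>
      S.not_dvd_index (h.trans (Subgroup.index_dvd_of_le hSM))).symm
  refine hφ ⟨a, hOM haO⟩ (hOS haO) ?_
  have := pow_gcd_eq_one.2 ⟨htr.symm, hk'⟩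
  rwa [show Nat.gcd (Nat.card (G ⧸ M)) (p ^ k) = 1 from hcop, pow_one] at this

/-- Chief factors inside a `p`-group are elementary abelian. -/
theorem elementary_of_isChiefFactor {X Y : Subgroup G} (hX : IsPGroup p ↥X)
    (h : Cfsg.IsChiefFactor X Y) :
    (∀ x ∈ X, ∀ y ∈ X, x * y * x⁻¹ * y⁻¹ ∈ Y) ∧ ∀ x ∈ X, x ^ p ∈ Y := by
  obtain ⟨hlt, hXn, hYn, hmin⟩ := h
  haveI := hXn
  haveI := hYn
  set f := QuotientGroup.mk' Y with hf
  have hfs : Function.Surjective f := QuotientGroup.mk'_surjective Y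
  set V := X.map f with hV
  haveI hVn : V.Normal := hXn.map f hfs
  have hVp : IsPGroup p ↥V := hX.map f
  have hback : X = V.comap f := by
    rw [hV, Subgroup.comap_map_eq, QuotientGroup.ker_mk', sup_eq_left.2 hlt.le]
  have hVne : V ≠ ⊥ := fun e => by
    rw [e, MonoidHom.comap_bot, QuotientGroup.ker_mk'] at hback
    exact hlt.ne hback.symm
  have key : ∀ N : Subgroup (G ⧸ Y), N.Normal → N ≤ V → N ≠ ⊥ → V ≤ N := by
    intro N hN hNV hNne
    haveI := hN
    rcases hmin (N.comap f) inferInstance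
        (fun y hy => by
          show f y ∈ N
          rw [show f y = 1 from (QuotientGroup.eq_one_iff y).2 hy]; exact N.one_mem)
        (hback ▸ Subgroup.comap_mono hNV) with e | e
    · refine absurd ?_ hNne
      rw [← Subgroup.map_comap_eq_self_of_surjective hfs N, e]
      exact (Subgroup.map_eq_bot_iff Y).2 (QuotientGroup.ker_mk' Y).ge
    · rw [hV, ← e, Subgroup.map_comap_eq_self_of_surjective hfs]
  haveI : Nontrivial ↥V := (Subgroup.nontrivial_iff_ne_bot V).2 hVne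
  have hc1 : (Subgroup.center ↥V).map V.subtype ≠ ⊥ := fun e =>
    (Subgroup.nontrivial_iff_ne_bot _).1 hVp.center_nontrivial
      ((Subgroup.map_eq_bot_iff_of_injective _ V.subtype_injective).1 e)
  have hcomm : ∀ v ∈ V, ∀ w ∈ V, v * w = w * v := by
    intro v hv w hw
    obtain ⟨c, hc, rfl⟩ := key _ (CfsgLib.Core.map_subtype_normal_of_characteristic hVn inferInstance)
      (Subgroup.map_subtype_le _) hc1 hv
    exact (congrArg Subtype.val (Subgroup.mem_center_iff.1 hc ⟨w, hw⟩)).symm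
  let Ω : Subgroup (G ⧸ Y) :=
    { carrier := {v | v ∈ V ∧ v ^ p = 1}
      mul_mem' := fun {a b} ha hb => ⟨V.mul_mem ha.1 hb.1, by
        rw [Commute.mul_pow (hcomm a ha.1 b hb.1), ha.2, hb.2, one_mul]⟩
      one_mem' := ⟨V.one_mem, one_pow p⟩
      inv_mem' := fun {a} ha => ⟨V.inv_mem ha.1, by rw [inv_pow, ha.2, inv_one]⟩ }
  have hΩn : Ω.Normal := ⟨fun v hv g => ⟨hVn.conj_mem v hv.1 g, by
    rw [conj_pow, hv.2, mul_one, mul_inv_cancel]⟩⟩
  have hdvd : p ∣ Nat.card ↥V := by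
    obtain ⟨k, hk⟩ := IsPGroup.iff_card.1 hVp
    rw [hk]
    refine dvd_pow_self p fun h0 => ?_
    have := Finite.one_lt_card (α := ↥V)
    rw [hk, h0, pow_zero] at this
    exact lt_irrefl _ this
  obtain ⟨v, hv⟩ := exists_prime_orderOf_dvd_card' p hdvd
  have hvΩ : (v : G ⧸ Y) ∈ Ω := ⟨v.2, by
    rw [← SubgroupClass.coe_pow, ← hv, pow_orderOf_eq_one]; rfl⟩
  have hΩ : Ω ≠ ⊥ := fun e => by
    rw [e, Subgroup.mem_bot] at hvΩ
    have : v = 1 := Subtype.ext hvΩ
    rw [this, orderOf_one] at hv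
    exact hp.out.ne_one hv.symm
  refine ⟨fun x hx y hy => ?_, fun x hx => ?_⟩
  · refine (QuotientGroup.eq_one_iff _).1 ?_
    show f (x * y * x⁻¹ * y⁻¹) = 1
    rw [map_mul, map_mul, map_mul, map_inv, map_inv, hcomm (f x) ⟨x, hx, rfl⟩ (f y) ⟨y, hy, rfl⟩,
      mul_inv_cancel_right, mul_inv_cancel]
  · refine (QuotientGroup.eq_one_iff _).1 ?_
    exact (map_pow f x p).trans (key Ω hΩn (fun v hv => hv.1) hΩ ⟨x, hx, rfl⟩).2

/-- The transfer argument: elements of small degree force the focal condition on the `p`-core. -/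
theorem pCore_inf_le_of_degree (h𝓦 : ∀ W ∈ 𝓦, Cfsg.IsCharPFunctor.{u} p W) (hI : Ind p 𝓦 G)
    (S : Sylow p G) {M : Subgroup G} (hSM : (S : Subgroup G) ≤ M) (hM : M ≠ ⊤)
    (Us : Set G) (hUS : Us ⊆ (S : Subgroup G)) (hUinv : ∀ u ∈ Us, ∀ v ∈ Us, v * u * v⁻¹ ∈ Us)
    (hdeg : ∀ X Y : Subgroup G, Cfsg.IsChiefFactor X Y → X ≤ Cfsg.pCore p G ⊓ commutator G →
      (∀ Z : Subgroup G, Z.Normal → Z ≤ Cfsg.pCore p G ⊓ commutator G →
        Z ≤ Tset 𝓦 (S : Subgroup G) → Z ≤ Y) →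
      ∀ u ∈ Us, ∀ x ∈ X, (fun x => u⁻¹ * x * u * x⁻¹)^[p - 1] x ∈ Y)
    (hfix : ∀ g : G, (∀ u ∈ Us, g⁻¹ * u * g ∈ M) → g ∈ M) :
    Cfsg.pCore p G ⊓ commutator G ≤ Tset 𝓦 (S : Subgroup G) := by
  obtain ⟨A, _, φ, hφT, hφ⟩ := exists_hom hSM (inf_commutator_le_of_proper h𝓦 S hSM (hI.sub M hM))
  set T := Tset 𝓦 (S : Subgroup G) with hT
  haveI := CfsgLib.Core.normal_pCore (G := G) p
  set E := Cfsg.pCore p G ⊓ commutator G with hE
  haveI hEn : E.Normal := by rw [hE]; infer_instance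
  have hEp : IsPGroup p ↥E := (CfsgLib.Core.isPGroup_pCore p).to_le inf_le_left
  have hES : E ≤ (S : Subgroup G) := inf_le_left.trans (CfsgLib.Core.pCore_le_sylow S)
  by_contra hne
  obtain ⟨Y, ⟨hYn, hYE, hYT⟩, hYmax⟩ := Set.exists_max_image
    {Y : Subgroup G | Y.Normal ∧ Y ≤ E ∧ Y ≤ T} (fun Y => Nat.card ↥Y) (Set.toFinite _)
    ⟨⊥, inferInstance, bot_le, bot_le⟩
  haveI := hYn
  have hYall : ∀ Z : Subgroup G, Z.Normal → Z ≤ E → Z ≤ T → Z ≤ Y := fun Z hZn hZE hZT => by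
    haveI := hZn
    rw [Subgroup.eq_of_le_of_card_ge (le_sup_left : Y ≤ Y ⊔ Z)
      (hYmax _ ⟨inferInstance, sup_le hYE hZE, sup_le hYT hZT⟩)]
    exact le_sup_right
  have hYlt : Y < E := lt_of_le_of_ne hYE fun e => hne (e ▸ hYT)
  obtain ⟨X, ⟨hXn, hYX, hXE⟩, hXmin⟩ := Set.exists_min_image
    {X : Subgroup G | X.Normal ∧ Y < X ∧ X ≤ E} (fun X => Nat.card ↥X) (Set.toFinite _)
    ⟨E, inferInstance, hYlt, le_rfl⟩
  haveI := hXn
  have hchief : Cfsg.IsChiefFactor X Y := ⟨hYX, hXn, hYn, fun N hN h1 h2 => by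
    rcases eq_or_ne N Y with e | e
    · exact Or.inl e
    · exact Or.inr (Subgroup.eq_of_le_of_card_ge h2
        (hXmin N ⟨hN, lt_of_le_of_ne h1 (Ne.symm e), h2.trans hXE⟩))⟩
  -- `X / Y` is elementary abelian
  have hel := elementary_of_isChiefFactor (hEp.to_le hXE) hchief
  refine not_le_of_gt hYX (hYall X hXn hXE fun a ha => ?_)
  refine hφ ⟨a, (hXE.trans (hES.trans hSM)) ha⟩ (hES (hXE ha)) ?_
  exact CfsgLib.Local.Transfer.map_eq_one_of_degree φ (hXE.trans (hES.trans hSM)) hYX.le hel.1 hel.2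
    (fun y hy => hφT y (hYT hy)) Us hUinv
    (fun u hu => by
      obtain ⟨k, hk⟩ := IsPGroup.iff_orderOf.1 S.isPGroup' ⟨u, hUS hu⟩
      exact ⟨k, by rw [← hk, ← Subgroup.orderOf_coe]⟩)
    (hdeg X Y hchief hXE hYall)
    (S.isPGroup'.to_le ((Subgroup.closure_le _).2 hUS)) hfix (fun u hu => hSM (hUS hu)) ha (hXE ha).2

end Failure

end CfsgLib.Local.TransferCtl
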