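import Mathlib
import Cfsg.Agent.Lib.LocalTransferCtl

/-!
# The structure of a minimal failure of control of transfer
-/

set_option autoImplicit false

universe u

namespace CfsgLib.Local.TransferCtl

variable {G : Type u} [Group G] [Finite G] {p : ℕ} [hp : Fact p.Prime]
variable {𝓦 : Set (∀ (Q : Type u) [Group Q], Subgroup Q)}

/-- Conjugation commutes with the iterated maps. -/
theorem conj_iterate (g u : G) : ∀ (k : ℕ) (x : G),
    (fun y => (g * u * g⁻¹)⁻¹ * y * (g * u * g⁻¹) * y⁻¹)^[k] x =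
      g * ((fun y => u⁻¹ * y * u * y⁻¹)^[k] (g⁻¹ * x * g)) * g⁻¹
  | 0, x => by simp [mul_assoc]
  | k + 1, x => by
    rw [Function.iterate_succ_apply', Function.iterate_succ_apply', conj_iterate g u k x]
    group

theorem iterate_mem_iterCommutator {X : Subgroup G} {u x : G} (hx : x ∈ X) :
    ∀ k : ℕ, (fun y => u⁻¹ * y * u * y⁻¹)^[k] x ∈ Cfsg.iterCommutator X (Subgroup.zpowers u) k
  | 0 => hx
  | k + 1 => by
    rw [Function.iterate_succ_apply', Cfsg.iterCommutator]
    have h := Subgroup.inv_mem _ (Subgroup.commutator_mem_commutator (iterate_mem_iterCommutator (u := u) hx k)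
      (Subgroup.inv_mem _ (Subgroup.mem_zpowers u)))
    rw [commutatorElement_inv, commutatorElement_def, inv_inv] at h
    exact h

theorem iterCommutator_antitone {X Y U : Subgroup G} [Y.Normal] {m k : ℕ} (hmk : m ≤ k)
    (h : Cfsg.iterCommutator X U m ≤ Y) : Cfsg.iterCommutator X U k ≤ Y := by
  induction hmk with
  | refl => exact h
  | step _ ih =>
    exact (Subgroup.commutator_mono ih le_rfl).trans (Subgroup.commutator_le_left _ _)

/-- The structure of a minimal failure. -/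
theorem failure (h𝓦 : ∀ W ∈ 𝓦, Cfsg.IsCharPFunctor.{u} p W) (hne : 𝓦.Nonempty) (hI : Ind p 𝓦 G)
    (hG : ¬ Ctl p 𝓦 G) (S : Sylow p G) {M : Subgroup G}
    (hM : M = Subgroup.normalizer ((Tset 𝓦 (S : Subgroup G) ⊓ Cfsg.pCore p G : Subgroup G) : Set G)) :
    (M ≠ ⊤ ∧ ∀ H : Subgroup G, (S : Subgroup G) ≤ H → H ≠ ⊤ → H ≤ M) ∧
      (⁅Cfsg.pCore p G, M⁆ ≤ Cfsg.pCore p G ⊓ ⁅M, M⁆ ∧
        Cfsg.pCore p G ⊓ ⁅M, M⁆ ≤ Cfsg.pCore p G ⊓ Tset 𝓦 (S : Subgroup G)) ∧
      ∀ u : G, u ∈ (S : Subgroup G) → u ∉ Cfsg.pCore p G →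
        ∃ U V : Subgroup G, Cfsg.IsChiefFactor U V ∧ U ≤ Cfsg.pCore p G ∧
          ¬ Cfsg.iterCommutator U (Subgroup.zpowers u) (p - 1) ≤ V := by
  set T := Tset 𝓦 (S : Subgroup G) with hT
  set O := Cfsg.pCore p G with hO
  haveI hOn : O.Normal := CfsgLib.Core.normal_pCore p
  have hOS : O ≤ (S : Subgroup G) := CfsgLib.Core.pCore_le_sylow S
  have hSS : ⁅(S : Subgroup G), (S : Subgroup G)⁆ ≤ T := commutator_le_Tset h𝓦 hne S.isPGroup'
  have hnot := not_pCore_inf_le h𝓦 hI hG S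
  have hNS : Subgroup.normalizer ((S : Subgroup G) : Set G) ≠ ⊤ := by
    intro e
    refine hG (ctl_of_one h𝓦 S ?_)
    obtain ⟨W, hW⟩ := hne
    refine le_trans ?_ (le_iSup₂_of_le W hW le_rfl)
    have : Nm W (S : Subgroup G) = ⊤ := top_le_iff.1
      (e.ge.trans (CfsgLib.Stable.normalizer_le_inducedFunctor (h𝓦 W hW) S.isPGroup'))
    rw [this, ← commutator_def]
  have hSM : (S : Subgroup G) ≤ M := by
    rw [hM]
    intro s hs
    refine CfsgLib.Stable.mem_normalizer_of_map_eq fun d hd => ⟨?_, hOn.conj_mem d hd.2 s⟩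
    have := T.mul_mem (hSS (Subgroup.commutator_mem_commutator hs (Tset_le _ hd.1))) hd.1
    rwa [commutatorElement_def, inv_mul_cancel_right] at this
  have hMtop : M ≠ ⊤ := by
    intro e
    haveI hDn : (T ⊓ O).Normal := Subgroup.normalizer_eq_top_iff.1 (hM ▸ e)
    refine hnot (pCore_inf_le_of_degree h𝓦 hI S Subgroup.le_normalizer hNS
      ((S : Subgroup G) : Set G) subset_rfl
      (fun u hu v hv => (S : Subgroup G).mul_mem ((S : Subgroup G).mul_mem hv hu)
        ((S : Subgroup G).inv_mem hv)) ?_ ?_)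
    · intro X Y hXY hX hY u hu x hx
      haveI := hXY.2.2.1
      haveI := hXY.2.1
      refine iterCommutator_antitone (m := 1) ?_ ?_ (iterate_mem_iterCommutator hx (p - 1))
      · have := hp.out.two_le
        omega
      show ⁅X, Subgroup.zpowers u⁆ ≤ Y
      refine le_trans (le_inf ((Subgroup.commutator_le_left _ _).trans hX) ?_) (hY
        ((O ⊓ commutator G) ⊓ (T ⊓ O)) inferInstance inf_le_left (inf_le_right.trans inf_le_left))
      exact le_inf ((Subgroup.commutator_mono (hX.trans (inf_le_left.trans hOS))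
          (Subgroup.zpowers_le.2 hu)).trans hSS)
        ((Subgroup.commutator_le_left _ _).trans (hX.trans inf_le_left))
    · intro g hg
      have hle : (S : Subgroup G).map (MulAut.conj g⁻¹).toMonoidHom ≤
          Subgroup.normalizer ((S : Subgroup G) : Set G) := by
        rintro _ ⟨s, hs, rfl⟩
        show g⁻¹ * s * g⁻¹⁻¹ ∈ _
        rw [inv_inv]
        exact hg s hs
      -- the only Sylow subgroup of the normalizer
      set R := (S : Subgroup G).map (MulAut.conj g⁻¹).toMonoidHom with hR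
      have hsup : IsPGroup p ↥((S : Subgroup G) ⊔ R : Subgroup G) := by
        rw [sup_comm]
        exact IsPGroup.to_sup_of_normal_right' (S.isPGroup'.map _) S.isPGroup' hle
      have hRS : R ≤ (S : Subgroup G) := le_sup_right.trans (S.is_maximal' hsup le_sup_left).le
      have hgS : g⁻¹ ∈ Subgroup.normalizer ((S : Subgroup G) : Set G) :=
        CfsgLib.Stable.mem_normalizer_of_map_eq fun s hs => hRS ⟨s, hs, rfl⟩
      simpa using Subgroup.inv_mem _ hgS
  have hOM : O ≤ M := hOS.trans hSM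
  have hover : ∀ H : Subgroup G, (S : Subgroup G) ≤ H → H ≠ ⊤ → H ≤ M := by
    intro H hSH hH h hh
    rw [hM]
    refine CfsgLib.Stable.mem_normalizer_of_map_eq fun d hd => ?_
    have hc : h * d * h⁻¹ * d⁻¹ ∈ (S : Subgroup G) ⊓ ⁅H, H⁆ := by
      refine ⟨(S : Subgroup G).mul_mem (hOS (hOn.conj_mem d hd.2 h))
        ((S : Subgroup G).inv_mem (hOS hd.2)), ?_⟩
      rw [← commutatorElement_def]
      exact Subgroup.commutator_mem_commutator hh (hSH (hOS hd.2))
    have h1 := T.mul_mem (inf_commutator_le_of_proper h𝓦 S hSH (hI.sub H hH) hc) hd.1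
    rw [inv_mul_cancel_right] at h1
    exact ⟨h1, hOn.conj_mem d hd.2 h⟩
  refine ⟨⟨hMtop, hover⟩, ⟨le_inf (Subgroup.commutator_le_left _ _)
    (Subgroup.commutator_mono hOM le_rfl), fun x hx => ⟨hx.1,
      inf_commutator_le_of_proper h𝓦 S hSM (hI.sub M hMtop) ⟨hOS hx.1, hx.2⟩⟩⟩, ?_⟩
  intro u huS huO
  by_contra hno
  push_neg at hno
  set Us : Set G := {v | v ∈ (S : Subgroup G) ∧ ∃ g : G, v = g * u * g⁻¹} with hUs
  refine hnot (pCore_inf_le_of_degree h𝓦 hI S hSM hMtop Us (fun v hv => hv.1)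
    (fun v hv w hw => ?_) ?_ ?_)
  · obtain ⟨g, rfl⟩ := hv.2
    exact ⟨(S : Subgroup G).mul_mem ((S : Subgroup G).mul_mem hw.1 hv.1)
      ((S : Subgroup G).inv_mem hw.1), w * g, by group⟩
  · rintro X Y hXY hX - v ⟨-, g, rfl⟩ x hx
    haveI := hXY.2.2.1
    haveI := hXY.2.1
    have hx' : g⁻¹ * x * g ∈ X := by
      have := hXY.2.1.conj_mem x hx g⁻¹
      rwa [inv_inv] at this
    rw [conj_iterate]
    exact hXY.2.2.1.conj_mem _
      (hno X Y hXY (hX.trans inf_le_left) (iterate_mem_iterCommutator hx' (p - 1))) g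
  · intro g hg
    set R := Subgroup.closure Us with hR
    have hRS : R ≤ (S : Subgroup G) := (Subgroup.closure_le _).2 fun v hv => hv.1
    have hRn : ¬ R.Normal := fun h => huO (CfsgLib.Core.le_pCore h (S.isPGroup'.to_le hRS)
      (Subgroup.subset_closure ⟨huS, 1, by group⟩))
    have hSN : (S : Subgroup G) ≤ Subgroup.normalizer (R : Set G) := by
      intro s hs
      refine CfsgLib.Stable.mem_normalizer_of_map_eq fun r hr => ?_
      have hle : R ≤ R.comap (MulAut.conj s).toMonoidHom := (Subgroup.closure_le _).2 fun v hv => by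
        obtain ⟨h, rfl⟩ := hv.2
        exact Subgroup.subset_closure ⟨(S : Subgroup G).mul_mem ((S : Subgroup G).mul_mem hs hv.1)
          ((S : Subgroup G).inv_mem hs), s * h,
          by show s * (h * u * h⁻¹) * s⁻¹ = _; group⟩
      exact hle hr
    have hNR : Subgroup.normalizer (R : Set G) ≤ M :=
      hover _ hSN fun e => hRn (Subgroup.normalizer_eq_top_iff.1 e)
    -- move `R ^ g` back into `S` inside `M`
    have hRg : R.map (MulAut.conj g⁻¹).toMonoidHom ≤ M :=
      Subgroup.map_le_iff_le_comap.2 ((Subgroup.closure_le _).2 fun v hv => by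
        show g⁻¹ * v * g⁻¹⁻¹ ∈ M
        rw [inv_inv]
        exact hg v hv)
    obtain ⟨P, hP⟩ := (((S.isPGroup'.to_le hRS).map (MulAut.conj g⁻¹).toMonoidHom).comap_subtype
      (K := M)).exists_le_sylow
    obtain ⟨m, hm⟩ := MulAction.exists_smul_eq ↥M P (S.subtype hSM)
    have hmv : ∀ v ∈ Us, ((m : G) * g⁻¹) * v * ((m : G) * g⁻¹)⁻¹ ∈ Us := by
      intro v hv
      refine ⟨?_, ?_⟩
      · have hvM : g⁻¹ * v * g ∈ M := hg v hv
        have h1 : (⟨g⁻¹ * v * g, hvM⟩ : ↥M) ∈ (P : Subgroup ↥M) :=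
          hP ⟨v, Subgroup.subset_closure hv, by show g⁻¹ * v * g⁻¹⁻¹ = _; rw [inv_inv]; rfl⟩
        have h2 : m * ⟨g⁻¹ * v * g, hvM⟩ * m⁻¹ ∈ ((m • P : Sylow p ↥M) : Subgroup ↥M) := by
          rw [Sylow.coe_subgroup_smul, CfsgLib.Core.conj_smul_eq_map]
          exact ⟨_, h1, rfl⟩
        rw [hm] at h2
        have h3 : (m : G) * (g⁻¹ * v * g) * (m : G)⁻¹ ∈ (S : Subgroup G) := h2
        rwa [show (m : G) * g⁻¹ * v * ((m : G) * g⁻¹)⁻¹ = (m : G) * (g⁻¹ * v * g) * (m : G)⁻¹ by group]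
      · obtain ⟨h, rfl⟩ := hv.2
        exact ⟨(m : G) * g⁻¹ * h, by group⟩
    have hn : (m : G) * g⁻¹ ∈ Subgroup.normalizer (R : Set G) := by
      refine CfsgLib.Stable.mem_normalizer_of_map_eq fun r hr => ?_
      have hle : R ≤ R.comap (MulAut.conj ((m : G) * g⁻¹)).toMonoidHom :=
        (Subgroup.closure_le _).2 fun v hv => Subgroup.subset_closure (hmv v hv)
      exact hle hr
    have := M.mul_mem (M.inv_mem (hNR hn)) m.2
    rwa [show ((m : G) * g⁻¹)⁻¹ * (m : G) = g by group] at this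

/-- The frozen section hypothesis gives the inductive hypothesis. -/
theorem ind_of_sections (h𝓦 : ∀ W ∈ 𝓦, Cfsg.IsCharPFunctor.{u} p W)
    (hsec : ∀ (K R : Subgroup G) [hR : (R.subgroupOf K).Normal], (K = ⊤ → R ≠ ⊥) →
      Cfsg.FamilyControlsTransferIn p
        ((fun W => Cfsg.inducedFunctor (G := (↥K ⧸ R.subgroupOf K)) W) '' 𝓦) ⊤) : Ind p 𝓦 G := by
  refine ⟨fun H hH => ?_, fun N _ hN => ?_⟩
  · haveI : ((⊥ : Subgroup G).subgroupOf H).Normal := by
      rw [Subgroup.bot_subgroupOf]; infer_instance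
    have h := (ctl_iff_family h𝓦).2 (hsec H ⊥ fun e => absurd e hH)
    exact ctl_equiv h𝓦
      ((QuotientGroup.quotientMulEquivOfEq (Subgroup.bot_subgroupOf H)).trans QuotientGroup.quotientBot) h
  · haveI : (N.subgroupOf (⊤ : Subgroup G)).Normal := Subgroup.normal_subgroupOf
    have h := (ctl_iff_family h𝓦).2 (hsec ⊤ N fun _ => hN)
    exact ctl_equiv h𝓦 (QuotientGroup.congr (N.subgroupOf ⊤) N Subgroup.topEquiv (by
      show (N.subgroupOf ⊤).map (⊤ : Subgroup G).subtype = N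
      rw [Subgroup.subgroupOf_map_subtype, inf_top_eq])) h

end CfsgLib.Local.TransferCtl
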