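import Mathlib
import Cfsg.Agent.Lib.LocalKInfBase
import Cfsg.Agent.Lib.LocalKInfNormal
import Cfsg.Agent.Lib.LocalTransferFailure

/-!
# The K-infinity functors control transfer for primes at least five
-/

set_option autoImplicit false

universe u

namespace CfsgLib.Local.KInf

open CfsgLib.Local.TransferCtl

variable {p : ℕ} [hp : Fact p.Prime]

/-- The functors in question, with the property used. -/
theorem ctl_of_small_degree (h5 : 5 ≤ p) {W : ∀ (Q : Type u) [Group Q], Subgroup Q}
    (hW : Cfsg.IsCharPFunctor.{u} p W)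
    (hdeg : ∀ (X : Type u) [Group X] [Finite X] (S : Sylow p X),
      ¬ (Cfsg.inducedFunctor W (S : Subgroup X)).Normal →
        ∃ g : X, g ∈ (S : Subgroup X) ∧ g ∉ Cfsg.pCore p X ∧
          ∀ U V : Subgroup X, Cfsg.IsChiefFactor U V → U ≤ Cfsg.pCore p X →
            Cfsg.iterCommutator U (Subgroup.zpowers g) 4 ≤ V) :
    ∀ (n : ℕ) (X : Type u) [Group X] [Finite X], Nat.card X = n → Ctl p {W} X := by
  have hall : ∀ V ∈ ({W} : Set (∀ (Q : Type u) [Group Q], Subgroup Q)), Cfsg.IsCharPFunctor.{u} p V :=
    fun V hV => by rw [Set.mem_singleton_iff] at hV; subst hV; exact hW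
  intro n
  induction n using Nat.strong_induction_on with
  | _ n ih =>
    intro X _ _ hX
    by_contra hfail
    have hI : Ind p {W} X := by
      refine ⟨fun H hH => ih _ ?_ ↥H rfl, fun N _ hN => ih _ ?_ (X ⧸ N) rfl⟩
      · rw [← hX]
        refine lt_of_le_of_ne (Nat.card_le_card_of_injective _ H.subtype_injective) fun e => hH ?_
        exact (Subgroup.card_eq_iff_eq_top H).1 e
      · rw [← hX, N.card_eq_card_quotient_mul_card_subgroup]
        refine lt_mul_of_one_lt_right Nat.card_pos ?_
        exact Finite.one_lt_card_iff_nontrivial.2 ((Subgroup.nontrivial_iff_ne_bot N).2 hN)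
    let S : Sylow p X := default
    have hn : ¬ (Cfsg.inducedFunctor W (S : Subgroup X)).Normal := fun h => by
      haveI := h
      refine hfail (ctl_of_one hall S (le_trans ?_ (le_iSup₂_of_le W (Set.mem_singleton W) le_rfl)))
      rw [show Nm W (S : Subgroup X) = ⊤ from Subgroup.normalizer_eq_top_iff.2 h, ← commutator_def]
    obtain ⟨g, hgS, hgO, hg⟩ := hdeg X S hn
    obtain ⟨U, V, hUV, hUO, hbad⟩ :=
      (failure hall ⟨W, rfl⟩ hI hfail S rfl).2.2 g hgS hgO
    haveI := hUV.2.2.1
    exact hbad (iterCommutator_antitone (by omega) (hg U V hUV hUO))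

variable {G : Type u} [Group G] [Finite G]

theorem ctl_kInfLower (h5 : 5 ≤ p) : Ctl p {Cfsg.kInfLower} G :=
  ctl_of_small_degree h5 (isCharPFunctor_kInfLower p) (fun X _ _ S hn => by
    rw [inducedFunctor_kInfLower] at hn
    obtain ⟨g, h1, h2, h3, -⟩ := exists_small_degree S (Or.inl hn)
    exact ⟨g, h1, h2, h3⟩) _ G rfl

theorem ctl_kInfUpper (h5 : 5 ≤ p) : Ctl p {Cfsg.kInfUpper} G :=
  ctl_of_small_degree h5 (isCharPFunctor_kInfUpper p) (fun X _ _ S hn => by
    rw [inducedFunctor_kInfUpper] at hn
    obtain ⟨g, h1, h2, h3, -⟩ := exists_small_degree S (Or.inr hn)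
    exact ⟨g, h1, h2, h3⟩) _ G rfl

/-- A Sylow subgroup centralized by the `p'`-elements of its normalizer is not in the derived subgroup. -/
theorem not_sylow_le_commutator (h5 : 5 ≤ p) :
    ∀ (n : ℕ) (X : Type u) [Group X] [Finite X], Nat.card X = n → ∀ S : Sylow p X,
      (S : Subgroup X) ≠ ⊥ →
      (∀ g ∈ Subgroup.normalizer ((S : Subgroup X) : Set X), (orderOf g).Coprime p →
        g ∈ Subgroup.centralizer ((S : Subgroup X) : Set X)) →
      ¬ (S : Subgroup X) ≤ commutator X := by
  intro n
  induction n using Nat.strong_induction_on with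
  | _ n ih =>
    intro X _ _ hX S hS hN hle
    set K := Cfsg.inducedFunctor Cfsg.kInfLower (S : Subgroup X) with hK
    have hK1 : K ≠ ⊥ :=
      CfsgLib.Stable.inducedFunctor_ne_bot (isCharPFunctor_kInfLower p) S.isPGroup' hS
    have hctl := controlsTransfer_of_ctl (ctl_kInfLower (G := X) h5) S
    set N := Nm Cfsg.kInfLower (S : Subgroup X) with hNdef
    have hSN : (S : Subgroup X) ≤ N := le_Nm (isCharPFunctor_kInfLower p) S.isPGroup'
    have hSN' : (S : Subgroup X) ≤ ⁅N, N⁆ :=
      (le_inf le_rfl hle).trans (hctl.le.trans inf_le_right)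
    by_cases hNtop : N = ⊤
    · haveI hKn : K.Normal := Subgroup.normalizer_eq_top_iff.1 hNtop
      have hKS : K ≤ (S : Subgroup X) := CfsgLib.Stable.inducedFunctor_le _
      rcases eq_or_ne K (S : Subgroup X) with hKeq | hKeq
      · -- a normal Sylow subgroup
        have hSn : (S : Subgroup X).Normal := hKeq ▸ hKn
        haveI := hSn
        obtain ⟨Q, hQ⟩ := Subgroup.exists_right_complement'_of_coprime S.card_coprime_index
        have hQcard : Nat.card ↥Q = (S : Subgroup X).index := hQ.symm.index_eq_card.symm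
        have hQc : ∀ q ∈ Q, ∀ s ∈ (S : Subgroup X), s * q = q * s := by
          intro q hq
          have hcop : (orderOf q).Coprime p := by
            refine Nat.Coprime.coprime_dvd_left ?_
              ((Nat.Prime.coprime_iff_not_dvd hp.out).2 S.not_dvd_index).symm
            rw [← hQcard]
            exact Subgroup.orderOf_dvd_natCard Q hq
          exact Subgroup.mem_centralizer_iff.1 (hN q (by rw [Subgroup.normalizer_eq_top]; trivial) hcop)
        haveI hQn : Q.Normal := by
          refine ⟨fun q hq g => ?_⟩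
          obtain ⟨⟨s, w⟩, rfl⟩ := hQ.2 g
          show (s : X) * w * q * ((s : X) * w)⁻¹ ∈ Q
          have h1 : (w : X) * q * (w : X)⁻¹ ∈ Q := Q.mul_mem (Q.mul_mem w.2 hq) (Q.inv_mem w.2)
          rw [show (s : X) * w * q * ((s : X) * w)⁻¹ = (s : X) * ((w : X) * q * (w : X)⁻¹) * (s : X)⁻¹ by
            group, hQc _ h1 _ s.2, mul_inv_cancel_right]
          exact h1
        have hsurj : Function.Surjective
            ((QuotientGroup.mk' Q).comp (S : Subgroup X).subtype) := by
          intro y
          obtain ⟨g, rfl⟩ := QuotientGroup.mk'_surjective Q y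
          obtain ⟨⟨s, w⟩, rfl⟩ := hQ.2 g
          exact ⟨s, (QuotientGroup.eq (s := Q)).2 (by simp)⟩
        have hp' : IsPGroup p (X ⧸ Q) := S.isPGroup'.of_surjective _ hsurj
        have htop : commutator (X ⧸ Q) = ⊤ := top_le_iff.1 fun y _ => by
          obtain ⟨s, rfl⟩ := hsurj y
          rw [commutator_def, ← Subgroup.map_top_of_surjective _ (QuotientGroup.mk'_surjective Q),
            ← Subgroup.map_commutator]
          exact ⟨s, hle s.2, rfl⟩
        have hnt : Nontrivial (X ⧸ Q) := by
          obtain ⟨s, hs, hs1⟩ := (Subgroup.bot_or_exists_ne_one (S : Subgroup X)).resolve_left hS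
          refine ⟨⟨QuotientGroup.mk' Q s, 1, fun e => hs1 ?_⟩⟩
          have hsQ : s ∈ Q := (QuotientGroup.eq_one_iff s).1 e
          exact Subgroup.mem_bot.1 (hQ.disjoint.le_bot ⟨hs, hsQ⟩)
        haveI := hp'.isNilpotent
        exact (Group.IsSolvable.commutator_lt_top_of_nontrivial (X ⧸ Q)).ne htop
      · -- quotient
        set f := QuotientGroup.mk' K with hf
        have hfs : Function.Surjective f := QuotientGroup.mk'_surjective K
        have hlt : Nat.card (X ⧸ K) < n := by
          rw [← hX, K.card_eq_card_quotient_mul_card_subgroup]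
          exact lt_mul_of_one_lt_right Nat.card_pos
            (Finite.one_lt_card_iff_nontrivial.2 ((Subgroup.nontrivial_iff_ne_bot K).2 hK1))
        refine ih _ hlt (X ⧸ K) rfl (S.mapSurjective hfs) ?_ ?_ ?_
        · intro e
          refine hKeq (le_antisymm hKS fun s hs => (QuotientGroup.eq_one_iff s).1 ?_)
          have : f s ∈ (S : Subgroup X).map f := ⟨s, hs, rfl⟩
          rwa [show (S : Subgroup X).map f = ⊥ from e, Subgroup.mem_bot] at this
        · intro y hy hcop
          obtain ⟨g, rfl⟩ := hfs y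
          have hcm : ((S : Subgroup X).map f).comap f = (S : Subgroup X) := by
            rw [Subgroup.comap_map_eq, QuotientGroup.ker_mk', sup_eq_left.2 hKS]
          have hgN : g ∈ Subgroup.normalizer ((S : Subgroup X) : Set X) := by
            have hy' : g ∈ (Subgroup.normalizer (((S : Subgroup X).map f : Subgroup (X ⧸ K)) : Set (X ⧸ K))).comap f := hy
            rw [Subgroup.mem_normalizer_iff]
            intro s
            rw [← hcm, Subgroup.mem_comap, Subgroup.mem_comap, map_mul, map_mul, map_inv]
            exact Subgroup.mem_normalizer_iff.1 hy' (f s)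
          -- replace `g` by its `p'`-part
          obtain ⟨k, m, hm, hgo⟩ : ∃ k m : ℕ, ¬ p ∣ m ∧ orderOf g = p ^ k * m :=
            Nat.exists_eq_pow_mul_and_not_dvd (orderOf_pos g).ne' p hp.out.ne_one
          have hdm : orderOf (f g) ∣ m := by
            refine (Nat.Coprime.pow_right k hcop).dvd_of_dvd_mul_left ?_
            rw [← hgo]
            exact orderOf_map_dvd f g
          have hm0 : 1 < m ∨ m = 1 := by
            rcases m with _ | _ | m
            · exact absurd (dvd_zero p) hm
            · exact Or.inr rfl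
            · exact Or.inl (by omega)
          obtain ⟨r, hr⟩ : ∃ r : ℕ, p ^ k * r ≡ 1 [MOD m] := by
            rcases hm0 with hm1 | hm1
            · exact Nat.exists_mul_mod_eq_one_of_coprime
                (Nat.Coprime.pow_left k ((Nat.Prime.coprime_iff_not_dvd hp.out).2 hm)) hm1 |>.elim
                fun r hr => ⟨r, by show _ % m = 1 % m; rw [hr.2, Nat.mod_eq_of_lt hm1]⟩
            · exact ⟨0, by rw [hm1]; exact Nat.modEq_one⟩
          have hh : f (g ^ (p ^ k * r)) = f g := by
            rw [map_pow]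
            conv_rhs => rw [← pow_one (f g)]
            exact pow_eq_pow_iff_modEq.2 (hr.of_dvd hdm)
          have hhc := hN _ (Subgroup.pow_mem _ hgN (p ^ k * r)) (by
            refine Nat.Coprime.coprime_dvd_left ?_ ((Nat.Prime.coprime_iff_not_dvd hp.out).2 hm).symm
            rw [orderOf_dvd_iff_pow_eq_one, ← pow_mul, mul_right_comm, ← hgo, pow_mul,
              pow_orderOf_eq_one, one_pow])
          rw [← hh]
          refine Subgroup.mem_centralizer_iff.2 ?_
          rintro _ ⟨s, hs, rfl⟩
          rw [← map_mul, ← map_mul, Subgroup.mem_centralizer_iff.1 hhc s hs]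
        · rintro _ ⟨s, hs, rfl⟩
          rw [commutator_def, ← Subgroup.map_top_of_surjective f hfs, ← Subgroup.map_commutator]
          exact ⟨s, hle hs, rfl⟩
    · -- the local subgroup
      have hlt : Nat.card ↥N < n := by
        rw [← hX]
        exact lt_of_le_of_ne (Nat.card_le_card_of_injective _ N.subtype_injective) fun e => hNtop
          ((Subgroup.card_eq_iff_eq_top N).1 e)
      refine ih _ hlt ↥N rfl (S.subtype hSN) ?_ ?_ ?_
      · intro e
        refine hS (le_bot_iff.1 fun s hs => ?_)
        have : (⟨s, hSN hs⟩ : ↥N) ∈ ((S.subtype hSN : Sylow p ↥N) : Subgroup ↥N) := hs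
        rw [e, Subgroup.mem_bot] at this
        exact Subgroup.mem_bot.2 (congrArg Subtype.val this)
      · intro g hg hcop
        refine Subgroup.mem_centralizer_iff.2 fun s hs => Subtype.ext ?_
        refine Subgroup.mem_centralizer_iff.1 (hN (g : X) ?_ (by rwa [Subgroup.orderOf_coe])) (s : X) hs
        refine CfsgLib.Stable.mem_normalizer_of_map_eq fun t ht => ?_
        exact (Subgroup.mem_normalizer_iff.1 hg ⟨t, hSN ht⟩).1 ht
      · intro s hs
        have h1 := hSN' hs
        rw [← Subgroup.map_subtype_commutator] at h1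
        obtain ⟨t, ht, hts⟩ := h1
        rwa [show t = s from Subtype.ext hts] at ht

/-- A normal subgroup of index `p`. -/
theorem exists_normal_index_prime (S : Sylow p G) (h : ¬ (S : Subgroup G) ≤ commutator G) :
    ∃ N : Subgroup G, N.Normal ∧ N.index = p := by
  have hdvd : p ∣ (commutator G).index := by
    by_contra hnd
    refine h fun s hs => ?_
    obtain ⟨k, hk⟩ := S.isPGroup' ⟨s, hs⟩
    have h1 : (s : G) ^ p ^ k = 1 := congrArg Subtype.val hk
    have h2 : (QuotientGroup.mk s : G ⧸ commutator G) = 1 := by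
      refine orderOf_eq_one_iff.1 ?_
      refine Nat.eq_one_of_dvd_coprimes
        (Nat.Coprime.pow_right k ((Nat.Prime.coprime_iff_not_dvd hp.out).2 hnd).symm) ?_ ?_
      · exact orderOf_dvd_natCard _
      · rw [orderOf_dvd_iff_pow_eq_one, ← QuotientGroup.mk_pow, h1]; rfl
    exact (QuotientGroup.eq_one_iff s).1 h2
  set Q := G ⧸ commutator G
  have hc : ∀ x y : Q, x * y = y * x := by
    intro x y
    obtain ⟨a, rfl⟩ := QuotientGroup.mk_surjective x
    obtain ⟨b, rfl⟩ := QuotientGroup.mk_surjective y
    refine QuotientGroup.eq.2 ?_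
    rw [show (a * b)⁻¹ * (b * a) = b⁻¹ * a⁻¹ * b⁻¹⁻¹ * a⁻¹⁻¹ by group, ← commutatorElement_def,
      commutator_def]
    exact Subgroup.commutator_mem_commutator (Subgroup.mem_top _) (Subgroup.mem_top _)
  letI : CommGroup Q := { (inferInstance : Group Q) with mul_comm := hc }
  -- the `p`-th powers
  let P := (powMonoidHom p : Q →* Q).range
  have hP : P ≠ ⊤ := by
    intro e
    have hinj : Function.Injective (powMonoidHom p : Q →* Q) :=
      Finite.injective_iff_surjective.2 (MonoidHom.range_eq_top.1 e)
    obtain ⟨x, hx⟩ := exists_prime_orderOf_dvd_card' (G := Q) p hdvd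
    have : x = 1 := hinj (by
      rw [powMonoidHom_apply, powMonoidHom_apply, one_pow, ← hx, pow_orderOf_eq_one])
    rw [this, orderOf_one] at hx
    exact hp.out.ne_one hx.symm
  obtain ⟨M, hM, hPM⟩ := (eq_top_or_exists_le_coatom P).resolve_left hP
  refine ⟨M.comap (QuotientGroup.mk' (commutator G)), inferInstance, ?_⟩
  rw [Subgroup.index_comap_of_surjective _ (QuotientGroup.mk'_surjective _)]
  obtain ⟨x, hx⟩ : ∃ x, x ∉ M := by
    by_contra hc'; push_neg at hc'
    exact hM.1 (top_le_iff.1 fun x _ => hc' x)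
  have hgen : Subgroup.zpowers (QuotientGroup.mk x : Q ⧸ M) = ⊤ := by
    have h1 : M ⊔ Subgroup.zpowers x = ⊤ := hM.2 _ (lt_of_le_of_ne le_sup_left fun e => hx
      (e.ge (Subgroup.mem_sup_right (Subgroup.mem_zpowers x))))
    rw [← Subgroup.map_top_of_surjective (QuotientGroup.mk' M) (QuotientGroup.mk'_surjective M), ← h1,
      Subgroup.map_sup, MonoidHom.map_zpowers,
      (Subgroup.map_eq_bot_iff M).2 (QuotientGroup.ker_mk' M).ge, bot_sup_eq]
    rfl
  rw [Subgroup.index_eq_card, ← Subgroup.card_top (G := Q ⧸ M), ← hgen, Nat.card_zpowers]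
  refine orderOf_eq_prime ?_ fun e => hx ((QuotientGroup.eq_one_iff x).1 e)
  rw [← QuotientGroup.mk_pow]
  exact (QuotientGroup.eq_one_iff _).2 (hPM ⟨x, rfl⟩)

end CfsgLib.Local.KInf
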