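import Cfsg.Agent.Lib.LocalPReducedSubnormal

/-!
Kieler's lemma on centralisers of `Ω₁(Z(T))` in subnormal subgroups.
-/

set_option autoImplicit false

namespace CfsgLib.Local.PRed

open Subgroup
open scoped commutatorElement Pointwise

variable {G : Type*} [Group G] {p : ℕ}

theorem charP_of_normalized [Finite G] [Fact p.Prime] {K L : Subgroup G} (hLK : L ≤ K)
    (hn : K ≤ normalizer (L : Set G)) (hK : CharP p K) : CharP p L := by
  have hp' : IsPGroup p ↥(L ⊓ centralizer (Cfsg.pCoreOf p L : Set G)) := by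
    refine CfsgLib.Local.isPGroup_of_coprime_eq_one fun x hx hc => ?_
    obtain ⟨hxL, hxc⟩ := Subgroup.mem_inf.mp hx
    have hxQ : x ∈ Cfsg.pCoreOf p K := by
      refine hK (Subgroup.mem_inf.mpr ⟨hLK hxL, mem_centralizer_iff.mpr fun q hq => ?_⟩)
      have hm : x * q * x⁻¹ * q⁻¹ ∈ L ⊓ Cfsg.pCoreOf p K := by
        refine Subgroup.mem_inf.mpr ⟨?_, Subgroup.mul_mem _
          (conj_mem (pCoreOf_normalized K) (hLK hxL) hq) (Subgroup.inv_mem _ hq)⟩
        have := L.mul_mem hxL (conj_mem hn (pCoreOf_le K hq) (L.inv_mem hxL))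
        simpa [mul_assoc] using this
      have hin : L ⊓ Cfsg.pCoreOf p K ≤ Cfsg.pCoreOf p L :=
        PRed.le_pCoreOf inf_le_left
          (CfsgLib.Core.le_normalizer_inf Subgroup.le_normalizer
            (hLK.trans (pCoreOf_normalized K)))
          ((isPGroup_pCoreOf K).to_le inf_le_right)
      exact (CfsgLib.Local.fixed_of_coprime_step (isPGroup_pCoreOf K) (Subgroup.mem_inf.mp hm).2
        (mem_centralizer_iff.mp hxc _ (hin hm)).symm hc).symm
    exact CfsgLib.Local.eq_one_of_coprime_pgroup (isPGroup_pCoreOf K) hxQ hc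
  exact PRed.le_pCoreOf inf_le_left
    (CfsgLib.Core.le_normalizer_inf Subgroup.le_normalizer
      (CfsgLib.Core.le_normalizer_centralizer (pCoreOf_normalized L))) hp'

/-- Kieler's lemma for a normalized subgroup. -/
theorem kieler_normal [Finite G] [hp : Fact p.Prime] {K L S : Subgroup G} (hK : CharP p K)
    (hSK : S ≤ K) (hSp : IsPGroup p ↥S) (hS : ¬ p ∣ S.relIndex K) (hLK : L ≤ K)
    (hn : K ≤ normalizer (L : Set G)) :
    L ⊓ centralizer (OZ p S : Set G) = L ⊓ centralizer (OZ p (S ⊓ L) : Set G) := by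
  have hL : CharP p L := charP_of_normalized hLK hn hK
  have hPi : ¬ p ∣ (S ⊓ L).relIndex L := not_dvd_relIndex_inf hSK hLK (hSK.trans hn) hS
  have hPp : IsPGroup p ↥(S ⊓ L) := hSp.to_le inf_le_left
  have hQK : Cfsg.pCoreOf p K ≤ S := pCoreOf_le_of_index hSK hSp hS
  have hQL : Cfsg.pCoreOf p L ≤ S ⊓ L := pCoreOf_le_of_index inf_le_right hPp hPi
  have hPC : S ⊓ L ≤ centralizer (OZ p S : Set G) :=
    inf_le_left.trans (Subgroup.le_centralizer_iff.mp (oz_le_centralizer S))
  have hindex : ∀ C : Subgroup G, S ⊓ L ≤ C → ¬ p ∣ (S ⊓ L).relIndex (L ⊓ C) := by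
    intro C hC h
    refine hPi ?_
    rw [← Subgroup.relIndex_mul_relIndex (S ⊓ L) (L ⊓ C) L (le_inf inf_le_right hC) inf_le_left]
    exact h.mul_right _
  refine le_antisymm (le_inf inf_le_left ?_) (le_inf inf_le_left ?_)
  · set K1 := L ⊓ centralizer (OZ p S : Set G) with hK1
    set U := OZ p (Cfsg.pCoreOf p L) with hU
    set A := OZ p (S ⊓ L) with hA
    have hAU : A ≤ U := hL.oz_le inf_le_right hQL
    have hK1n : K1 ≤ normalizer (U : Set G) := inf_le_left.trans (oz_pCoreOf_normalized L)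
    have hi : ¬ p ∣ (S ⊓ L).relIndex K1 := hindex _ hPC
    obtain ⟨f, hf1, hf2, hf3⟩ := exists_tr (P := S ⊓ L) (elem_oz (Cfsg.pCoreOf p L)) hK1n
    have hfix : ∀ u : ↥U, (u : G) ∈ A → ∀ x ∈ S ⊓ L, x * (u : G) * x⁻¹ = u := fun u hu x hx =>
      mul_inv_eq_of_eq_mul (mem_centralizer_iff.mp (oz_le_centralizer _ hu) x hx)
    have hfA : ∀ u : ↥U, (u : G) ∈ A → (f u : G) ∈ A := by
      intro u hu
      refine mem_oz.mpr ⟨hQL (oz_le _ (f u).2), mem_centralizer_iff.mpr fun x hx => ?_,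
        (elem_oz _).2 _ (f u).2⟩
      exact mul_inv_eq_iff_eq_mul.mp
        (hf1 u (hfix u hu) x (Subgroup.mem_inf.mpr ⟨(Subgroup.mem_inf.mp hx).2, hPC hx⟩))
    have hpow : ∀ u : ↥U, (∀ k ∈ K1, k * (u : G) * k⁻¹ = u) →
        (f u : G) = (u : G) ^ (S ⊓ L).relIndex K1 := by
      intro u hu
      exact mul_inv_eq_one.mp (Subgroup.mem_bot.mp
        (hf2 ⊥ u fun k hk => by rw [hu k hk]; simp))
    let Ker : Subgroup G := (f.ker.map U.subtype) ⊓ A
    have hKer : Ker = ⊥ := by
      by_contra hne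
      have hKS : Ker ≤ S := inf_le_right.trans ((oz_le _).trans inf_le_left)
      have hSKer : S ≤ normalizer (Ker : Set G) := by
        refine le_normalizer_of_conj fun s hs x hx => ?_
        obtain ⟨⟨u, hu, rfl⟩, hxA⟩ := Subgroup.mem_inf.mp hx
        have hsL : ∀ y ∈ L, s * y * s⁻¹ ∈ L := fun y hy => conj_mem hn (hSK hs) hy
        have hsA : S ≤ normalizer (A : Set G) := oz_normalized
          (CfsgLib.Core.le_normalizer_inf Subgroup.le_normalizer (hSK.trans hn))
        have hxA' : s * (u : G) * s⁻¹ ∈ A := conj_mem hsA hs hxA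
        have hSC : S ≤ normalizer (centralizer (OZ p S : Set G) : Set G) :=
          CfsgLib.Core.le_normalizer_centralizer (oz_normalized Subgroup.le_normalizer)
        have hsK1 : ∀ k ∈ K1, s * k * s⁻¹ ∈ K1 := fun k hk => Subgroup.mem_inf.mpr
          ⟨hsL k (Subgroup.mem_inf.mp hk).1, conj_mem hSC hs (Subgroup.mem_inf.mp hk).2⟩
        have hSP : S ≤ normalizer ((S ⊓ L : Subgroup G) : Set G) :=
          CfsgLib.Core.le_normalizer_inf Subgroup.le_normalizer (hSK.trans hn)
        have h3 := hf3 s u ⟨_, hAU hxA'⟩ (hfix u hxA) hsK1 (fun x hx => conj_mem hSP hs hx)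
          (fun x hx => by simpa using conj_mem hSP (S.inv_mem hs) hx) rfl
        refine Subgroup.mem_inf.mpr ⟨⟨⟨_, hAU hxA'⟩, Subtype.ext ?_, rfl⟩, hxA'⟩
        rw [← h3, show f u = 1 from hu]
        simp
      haveI : Group.IsNilpotent ↥S := hSp.isNilpotent
      haveI : (Ker.subgroupOf S).Normal := subgroupOf_normal hSKer
      have hne' : Ker.subgroupOf S ≠ ⊥ := by
        rw [Ne, Subgroup.subgroupOf_eq_bot, disjoint_iff, inf_eq_left.mpr hKS]
        exact hne
      obtain ⟨⟨z, hz⟩, hz1⟩ := Subgroup.ne_bot_iff_exists_ne_one.mp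
        (CfsgLib.Core.nilpotent_inf_center_ne_bot hne')
      obtain ⟨hzK, hzc⟩ := Subgroup.mem_inf.mp hz
      obtain ⟨⟨u, hu, huz⟩, hzA⟩ := Subgroup.mem_inf.mp (Subgroup.mem_subgroupOf.mp hzK)
      have hzS : (z : G) ∈ OZ p S := mem_oz.mpr ⟨z.2, mem_centralizer_iff.mpr fun s hs =>
        congrArg Subtype.val (Subgroup.mem_center_iff.mp hzc ⟨s, hs⟩),
        (mem_oz.mp hzA).2.2⟩
      have huz' : (u : G) = (z : G) := huz
      have huK : ∀ k ∈ K1, k * (u : G) * k⁻¹ = u := fun k hk => mul_inv_eq_of_eq_mul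
        (mem_centralizer_iff.mp (Subgroup.mem_inf.mp hk).2 _ (huz' ▸ hzS)).symm
      have h1 := hpow u huK
      rw [show f u = 1 from hu, Subgroup.coe_one] at h1
      obtain ⟨t, ht⟩ := exists_pow_fix (elem_oz (Cfsg.pCoreOf p L)) hi u.2
      rw [← h1, one_pow] at ht
      refine hz1 (Subtype.ext (Subtype.ext ?_))
      show (z : G) = 1
      rw [← huz', ← ht]
    intro x hx
    refine mem_centralizer_iff.mpr fun a ha => ?_
    let u : ↥U := ⟨a, hAU ha⟩
    have hb := hf1 u (hfix u ha)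
    have hbA := hfA u ha
    obtain ⟨t, ht⟩ := exists_pow_fix (elem_oz (Cfsg.pCoreOf p L)) hi (f u).2
    have hfb := hpow (f u) hb
    have hfbt : f ((f u) ^ t) = f u := by
      refine Subtype.ext ?_
      rw [map_pow, Subgroup.coe_pow, hfb]
      exact ht
    have hmem : a * (((f u : ↥U) : G) ^ t)⁻¹ ∈ Ker := by
      refine Subgroup.mem_inf.mpr
        ⟨⟨u * ((f u) ^ t)⁻¹, ?_, by simp [u]⟩, A.mul_mem ha (A.inv_mem (A.pow_mem hbA t))⟩
      show f (u * ((f u) ^ t)⁻¹) = 1
      rw [map_mul, map_inv, hfbt, mul_inv_cancel]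
    rw [hKer, Subgroup.mem_bot, mul_inv_eq_one] at hmem
    rw [hmem]
    have hxb : Commute x ((f u : ↥U) : G) := mul_inv_eq_iff_eq_mul.mp (hb x hx)
    exact (hxb.pow_right t).symm
  · set K1 := L ⊓ centralizer (OZ p (S ⊓ L) : Set G) with hK1
    intro k hk
    refine mem_centralizer_iff.mpr fun u hu => ?_
    have hPC' : S ⊓ L ≤ centralizer (OZ p (S ⊓ L) : Set G) :=
      Subgroup.le_centralizer_iff.mp (oz_le_centralizer (S ⊓ L))
    have hK1n : K1 ≤ normalizer (OZ p (Cfsg.pCoreOf p K) : Set G) :=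
      (inf_le_left.trans hLK).trans (oz_pCoreOf_normalized K)
    have hu' : u ∈ OZ p (Cfsg.pCoreOf p K) := hK.oz_le hSK hQK hu
    have hfix : S ⊓ L ≤ centralizer ({u} : Set G) := fun x hx => mem_centralizer_iff.mpr fun h hh => by
      rw [Set.mem_singleton_iff.mp hh]
      exact (mem_centralizer_iff.mp (oz_le_centralizer S hu) x (Subgroup.mem_inf.mp hx).1).symm
    obtain ⟨m, hm, -, hum⟩ := exists_avg (M := OZ p (Cfsg.pCoreOf p K) ⊓ L)
      (elem_oz _) hK1n (hindex _ hPC') hu' hfix (fun g hg => by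
        refine Subgroup.mem_inf.mpr ⟨Subgroup.mul_mem _ (conj_mem hK1n hg hu')
          (Subgroup.inv_mem _ hu'), ?_⟩
        have hgL : g ∈ L := (Subgroup.mem_inf.mp hg).1
        have := L.mul_mem hgL
          (conj_mem hn (hSK (oz_le S hu)) (L.inv_mem hgL))
        simpa [mul_assoc] using this)
    obtain ⟨hmV, hmL⟩ := Subgroup.mem_inf.mp hm
    have hmA : m ∈ OZ p (S ⊓ L) := by
      refine mem_oz.mpr ⟨Subgroup.mem_inf.mpr ⟨hQK (oz_le _ hmV), hmL⟩,
        mem_centralizer_iff.mpr fun x hx => ?_, (elem_oz _).2 m hmV⟩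
      have h1 : Commute x (u * m) := mem_centralizer_iff.mp hum x
        (Subgroup.mem_inf.mpr ⟨(Subgroup.mem_inf.mp hx).2, hPC' hx⟩)
      have h2 : Commute x u := (mem_centralizer_iff.mp (hfix hx) u rfl).symm
      show Commute x m
      have := h2.inv_right.mul_right h1
      rwa [inv_mul_cancel_left] at this
    have h1 : Commute k (u * m) := mem_centralizer_iff.mp hum k hk
    have h2 : Commute k m := (mem_centralizer_iff.mp (Subgroup.mem_inf.mp hk).2 m hmA).symm
    have := h1.mul_right h2.inv_right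
    rw [mul_inv_cancel_right] at this
    exact this.symm

/-- Kieler's lemma. -/
theorem kieler [Finite G] [hp : Fact p.Prime] (hG : CharP p (⊤ : Subgroup G)) (T : Sylow p G)
    {L : Subgroup G} (hL : L.IsSubnormal) :
    CharP p L ∧ ¬ p ∣ ((T : Subgroup G) ⊓ L).relIndex L ∧
      L ⊓ centralizer (OZ p (T : Subgroup G) : Set G) =
        L ⊓ centralizer (OZ p ((T : Subgroup G) ⊓ L) : Set G) := by
  induction hL with
  | top =>
    refine ⟨hG, ?_, by rw [inf_top_eq]⟩
    rw [inf_top_eq, Subgroup.relIndex_top_right]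
    exact T.not_dvd_index
  | step H K hle _ hN ih =>
    obtain ⟨hc, hi, he⟩ := ih
    have hn : K ≤ normalizer (H : Set G) :=
      (Subgroup.normal_subgroupOf_iff_le_normalizer hle).mp hN
    have hTH : (T : Subgroup G) ⊓ K ⊓ H = (T : Subgroup G) ⊓ H := by
      rw [inf_assoc, inf_eq_right.mpr hle]
    refine ⟨charP_of_normalized hle hn hc, ?_, ?_⟩
    · rw [← hTH]
      exact not_dvd_relIndex_inf inf_le_right hle (inf_le_right.trans hn) hi
    · have h := kieler_normal hc inf_le_right (T.isPGroup'.to_le inf_le_left) hi hle hn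
      rw [hTH] at h
      rw [← h]
      conv_lhs => rw [← inf_eq_left.mpr hle, inf_assoc, he, ← inf_assoc, inf_eq_left.mpr hle]

end CfsgLib.Local.PRed
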