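import Cfsg.Agent.Lib.LocalMinimalOver

/-!
The L-Lemma.
-/

set_option autoImplicit false

namespace CfsgLib.Local.LLem

open Subgroup
open CfsgLib.Local.PRed
open scoped Pointwise

variable {G : Type*} [Group G] {p : ℕ}

/-- `O_p(G)` together with the conjugates of `A` inside `P`. -/
def gen (p : ℕ) (A P : Subgroup G) : Subgroup G :=
  Cfsg.pCore p G ⊔ ⨆ y : {y : G // MulAut.conj y • A ≤ P}, MulAut.conj y.1 • A

theorem gen_le {A P Z : Subgroup G} (hO : Cfsg.pCore p G ≤ Z)
    (h : ∀ y : G, MulAut.conj y • A ≤ P → MulAut.conj y • A ≤ Z) : gen p A P ≤ Z :=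
  sup_le hO (iSup_le fun y => h y.1 y.2)

theorem le_gen {A P : Subgroup G} {y : G} (h : MulAut.conj y • A ≤ P) :
    MulAut.conj y • A ≤ gen p A P :=
  le_sup_of_le_right (le_iSup_of_le ⟨y, h⟩ le_rfl)

theorem gen_le_self {A P : Subgroup G} (h : Cfsg.pCore p G ≤ P) : gen p A P ≤ P :=
  gen_le h fun _ hy => hy

theorem gen_mono {A P Q : Subgroup G} (h : P ≤ Q) : gen p A P ≤ gen p A Q :=
  gen_le le_sup_left fun _ hy => le_gen (hy.trans h)

theorem gen_gen {A P : Subgroup G} : gen p A (gen p A P) = gen p A P :=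
  le_antisymm (gen_le_self le_sup_left)
    (gen_le le_sup_left fun _ hy => le_gen (le_gen hy))

theorem smul_le_iff {X Z : Subgroup G} {c : G} :
    MulAut.conj c • X ≤ Z ↔ X ≤ MulAut.conj c⁻¹ • Z := by
  rw [← CfsgLib.Core.conj_smul_le_conj_smul (g := c) (H := X) (K := MulAut.conj c⁻¹ • Z),
    CfsgLib.Core.conj_smul_conj_smul, mul_inv_cancel, map_one, one_smul]

theorem conj_gen [Finite G] (A P : Subgroup G) (c : G) :
    MulAut.conj c • gen p A P ≤ gen p A (MulAut.conj c • P) := by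
  rw [smul_le_iff]
  refine gen_le ?_ fun y hy => ?_
  · haveI := CfsgLib.Local.pCore_normal' (G := G) p
    rw [← smul_le_iff, CfsgLib.Core.conj_smul_of_normal c (Cfsg.pCore p G)]
    exact le_sup_left
  · rw [← smul_le_iff, CfsgLib.Core.conj_smul_conj_smul]
    refine le_gen ?_
    rw [← CfsgLib.Core.conj_smul_conj_smul]
    exact CfsgLib.Core.conj_smul_le_conj_smul.mpr hy

theorem normalizer_le_gen [Finite G] (A P : Subgroup G) :
    normalizer (P : Set G) ≤ normalizer (gen p A P : Set G) := by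
  intro n hn
  rw [← CfsgLib.Core.conj_smul_eq_self_iff]
  refine CfsgLib.Core.eq_of_le_of_card_le ?_ ?_
  · have h := conj_gen (p := p) A P n
    rwa [CfsgLib.Core.conj_smul_of_mem_normalizer hn] at h
  · rw [CfsgLib.Core.conj_smul_eq_map, Subgroup.card_map_of_injective (MulEquiv.injective _)]

/-- A conjugate of `A` outside `W` normalises `W`. -/
theorem exists_normalizing [Finite G] [Fact p.Prime] {A W P : Subgroup G} (hW : gen p A W = W)
    (hP : IsPGroup p ↥P) (hWP : W ≤ P) (hne : gen p A P ≠ W) :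
    ∃ y : G, MulAut.conj y • A ≤ P ∧ ¬ MulAut.conj y • A ≤ W ∧
      MulAut.conj y • A ≤ normalizer (W : Set G) := by
  by_contra hno
  push Not at hno
  have hOP : Cfsg.pCore p G ≤ P := (le_sup_left.trans hW.le).trans hWP
  set P1 := P ⊓ normalizer (W : Set G) with hP1
  have hWP1 : W ≤ P1 := le_inf hWP Subgroup.le_normalizer
  have h1 : gen p A P1 = W := by
    refine le_antisymm (gen_le (le_sup_left.trans hW.le) fun y hy => ?_) ?_
    · by_contra hyW
      exact hno y (hy.trans inf_le_left) hyW (hy.trans inf_le_right)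
    · exact hW.ge.trans (gen_mono hWP1)
  have h2 : P1 = P := by
    by_contra hlt
    haveI := hP.isNilpotent
    have hne' : P1.subgroupOf P < ⊤ := lt_top_iff_ne_top.mpr fun h =>
      hlt (le_antisymm inf_le_left (Subgroup.subgroupOf_eq_top.mp h))
    obtain ⟨x, hx, hxP⟩ := SetLike.exists_of_lt
      (Group.normalizerCondition_of_isNilpotent _ hne')
    have hxn : (x : G) ∈ normalizer (P1 : Set G) := by
      refine Subgroup.mem_normalizer_iff.mpr fun t => ⟨fun ht => ?_, fun ht => ?_⟩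
      · exact (Subgroup.mem_normalizer_iff.mp hx ⟨t, (Subgroup.mem_inf.mp ht).1⟩).mp ht
      · have htP : t ∈ P := by
          have := mul_mem (mul_mem (inv_mem x.2) (Subgroup.mem_inf.mp ht).1) x.2
          simpa [mul_assoc] using this
        exact (Subgroup.mem_normalizer_iff.mp hx ⟨t, htP⟩).mpr ht
    refine hxP (Subgroup.mem_subgroupOf.mpr (Subgroup.mem_inf.mpr ⟨x.2, ?_⟩))
    have := normalizer_le_gen (p := p) A P1 hxn
    rwa [h1] at this
  exact hne (h2 ▸ h1)

/-- The admissible pairs. -/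
def IsPair (p : ℕ) (M A : Subgroup G) (g : G) (W : Subgroup G) : Prop :=
  Cfsg.pCore p G ≤ W ∧ W ≤ MulAut.conj g • M ∧ IsPGroup p ↥W ∧ gen p A W = W ∧
    ¬ normalizer (W : Set G) ≤ MulAut.conj g • M

theorem IsPair.conj [Finite G] {M A W : Subgroup G} {g : G} (h : IsPair p M A g W) (c : G) :
    IsPair p M A (c * g) (MulAut.conj c • W) := by
  haveI := CfsgLib.Local.pCore_normal' (G := G) p
  refine ⟨?_, ?_, ?_, ?_, fun hle => h.2.2.2.2 fun n hn => ?_⟩
  · rw [← CfsgLib.Core.conj_smul_of_normal c (Cfsg.pCore p G)]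
    exact CfsgLib.Core.conj_smul_le_conj_smul.mpr h.1
  · rw [← CfsgLib.Core.conj_smul_conj_smul]
    exact CfsgLib.Core.conj_smul_le_conj_smul.mpr h.2.1
  · rw [CfsgLib.Core.conj_smul_eq_map]
    exact h.2.2.1.map _
  · refine le_antisymm (gen_le_self ?_) ?_
    · rw [← CfsgLib.Core.conj_smul_of_normal c (Cfsg.pCore p G)]
      exact CfsgLib.Core.conj_smul_le_conj_smul.mpr h.1
    · have := conj_gen (p := p) A W c
      rwa [h.2.2.2.1] at this
  · have hn' : c * n * c⁻¹ ∈ normalizer ((MulAut.conj c • W : Subgroup G) : Set G) := by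
      rw [← CfsgLib.Core.conj_smul_eq_self_iff, CfsgLib.Core.conj_smul_conj_smul,
        show c * n * c⁻¹ * c = c * n by group, ← CfsgLib.Core.conj_smul_conj_smul,
        CfsgLib.Core.conj_smul_of_mem_normalizer hn]
    obtain ⟨m, hm, hmn⟩ := hle hn'
    refine ⟨g⁻¹ * n * g, ?_, by simp [mul_assoc]⟩
    have h1 : m = g⁻¹ * n * g := by
      have h2 : (c * g) * m * (c * g)⁻¹ = c * n * c⁻¹ := hmn
      calc m = (c * g)⁻¹ * ((c * g) * m * (c * g)⁻¹) * (c * g) := by group
        _ = (c * g)⁻¹ * (c * n * c⁻¹) * (c * g) := by rw [h2]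
        _ = g⁻¹ * n * g := by group
    exact h1 ▸ hm

/-- The L-Lemma, for a maximal subgroup `M` that alone contains the Sylow subgroup `T`. -/
theorem lLemma [Finite G] [hp : Fact p.Prime] (T : Sylow p G) {M : Subgroup G} (hM : IsCoatom M)
    (hTM : (T : Subgroup G) ≤ M)
    (huniq : ∀ X : Subgroup G, IsCoatom X → (T : Subgroup G) ≤ X → X = M)
    {A : Subgroup G} (hAT : A ≤ (T : Subgroup G)) (hA : ¬ A ≤ Cfsg.pCore p G) :
    ∃ L : Subgroup G, A ⊔ Cfsg.pCore p G ≤ L ∧ ∃ g : G, ¬ L ≤ MulAut.conj g • M ∧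
      A ⊔ Cfsg.pCoreOf p L ≤ L ⊓ MulAut.conj g • M ∧
      (∀ X : Subgroup G, A ⊔ Cfsg.pCoreOf p L ≤ X → X < L → X ≤ L ⊓ MulAut.conj g • M) ∧
      ∀ x ∈ L, x ∉ MulAut.conj g • M → A ⊔ MulAut.conj x • A ⊔ Cfsg.pCoreOf p L = L := by
  haveI := CfsgLib.Local.pCore_normal' (G := G) p
  set O := Cfsg.pCore p G with hO
  have hOT : O ≤ (T : Subgroup G) := CfsgLib.Local.pCore_le_sylow' T
  have hone : MulAut.conj (1 : G) • M = M := by rw [map_one, one_smul]
  obtain ⟨⟨g0, W0⟩, h0, hmax⟩ := Set.exists_max_image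
    {gW : G × Subgroup G | IsPair p M A gW.1 gW.2} (fun gW => Nat.card ↥gW.2) (Set.toFinite _)
    ⟨(1, O), le_rfl, by rw [hone]; exact hOT.trans hTM, T.isPGroup'.to_le hOT, by
      refine le_antisymm (gen_le_self le_rfl) le_sup_left, by
      rw [hone, Subgroup.normalizer_eq_top]
      exact fun h => hM.1 (eq_top_iff.mpr h)⟩
  dsimp only at hmax h0
  -- the unique maximal subgroup over a Sylow subgroup inside `M^g`
  have hover : ∀ (g : G) (P : Sylow p G), (P : Subgroup G) ≤ MulAut.conj g • M →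
      ∀ X : Subgroup G, (P : Subgroup G) ≤ X → X ≠ ⊤ → X ≤ MulAut.conj g • M := by
    intro g P hPM
    obtain ⟨k, hk⟩ := MulAction.exists_smul_eq G T P
    have hkT : MulAut.conj k • (T : Subgroup G) = (P : Subgroup G) := congrArg Sylow.toSubgroup hk
    have hk' : ∀ X : Subgroup G, (P : Subgroup G) ≤ X → X ≠ ⊤ → X ≤ MulAut.conj k • M := by
      intro X hPX hX
      have hne : MulAut.conj k⁻¹ • X ≠ ⊤ := by
        intro h
        refine hX (eq_top_iff.mpr ?_)
        rw [← CfsgLib.Core.conj_smul_le_conj_smul (g := k⁻¹), h]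
        exact le_top
      obtain ⟨Z, hZ, hXZ⟩ := (eq_top_or_exists_le_coatom _).resolve_left hne
      have hTZ : (T : Subgroup G) ≤ Z := by
        refine le_trans ?_ hXZ
        rw [← CfsgLib.Core.conj_smul_le_conj_smul (g := k), CfsgLib.Core.conj_smul_conj_smul,
          mul_inv_cancel, map_one, one_smul, hkT]
        exact hPX
      rw [← CfsgLib.Core.conj_smul_le_conj_smul (g := k⁻¹), CfsgLib.Core.conj_smul_conj_smul,
        inv_mul_cancel, map_one, one_smul]
      exact hXZ.trans (huniq Z hZ hTZ).le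
    intro X hPX hX
    have hgne : MulAut.conj g • M ≠ ⊤ := by
      intro h
      refine hM.1 (eq_top_iff.mpr ?_)
      rw [← CfsgLib.Core.conj_smul_le_conj_smul (g := g), h]
      exact le_top
    have heq : MulAut.conj g • M = MulAut.conj k • M := by
      refine CfsgLib.Core.eq_of_le_of_card_le (hk' _ hPM hgne) ?_
      rw [CfsgLib.Core.conj_smul_eq_map, CfsgLib.Core.conj_smul_eq_map,
        Subgroup.card_map_of_injective (MulEquiv.injective _),
        Subgroup.card_map_of_injective (MulEquiv.injective _)]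
    exact heq ▸ hk' X hPX hX
  -- a conjugate of `A` in `N(W0) ⊓ M^g0` outside `W0`
  obtain ⟨P, hPM, hWP⟩ : ∃ P : Sylow p G, (P : Subgroup G) ≤ MulAut.conj g0 • M ∧
      W0 ≤ (P : Subgroup G) := by
    set K := MulAut.conj g0 • M with hK
    obtain ⟨Q, hQ⟩ := (isPGroup_subgroupOf (L := K) h0.2.2.1).exists_le_sylow
    have hQi : ¬ p ∣ ((Q : Subgroup ↥K).map K.subtype).index := by
      rw [← Subgroup.relIndex_mul_index (Subgroup.map_subtype_le _ :
        (Q : Subgroup ↥K).map K.subtype ≤ K)]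
      intro hd
      rcases (Nat.Prime.dvd_mul hp.out).mp hd with h | h
      · rw [Subgroup.relIndex, Subgroup.subgroupOf,
          Subgroup.comap_map_eq_self_of_injective K.subtype_injective] at h
        exact Q.not_dvd_index h
      · have hle : MulAut.conj g0 • (T : Subgroup G) ≤ K :=
          CfsgLib.Core.conj_smul_le_conj_smul.mpr hTM
        exact (g0 • T : Sylow p G).not_dvd_index (h.trans (Subgroup.index_dvd_of_le hle))
    refine ⟨(Q.isPGroup'.map _ : IsPGroup p ↥((Q : Subgroup ↥K).map K.subtype)).toSylow hQi,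
      Subgroup.map_subtype_le _, fun w hw => ⟨⟨w, h0.2.1 hw⟩, hQ (Subgroup.mem_subgroupOf.mpr hw),
        rfl⟩⟩
  obtain ⟨y, hyP, hyW, hyN⟩ := exists_normalizing h0.2.2.2.1 P.isPGroup' hWP (by
    intro heq
    refine h0.2.2.2.2 (hover g0 P hPM _ ?_ ?_)
    · rw [← heq]
      exact Subgroup.le_normalizer.trans (normalizer_le_gen A (P : Subgroup G))
    · intro htop
      have hn : W0.Normal := Subgroup.normalizer_eq_top_iff.mp htop
      obtain ⟨k, hk⟩ := MulAction.exists_smul_eq G T P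
      have hkT : MulAut.conj k • (T : Subgroup G) = (P : Subgroup G) :=
        congrArg Sylow.toSubgroup hk
      have h1 : MulAut.conj k • A ≤ W0 :=
        (le_gen (hkT ▸ CfsgLib.Core.conj_smul_le_conj_smul.mpr hAT)).trans heq.le
      rw [← CfsgLib.Core.conj_smul_of_normal k W0, CfsgLib.Core.conj_smul_le_conj_smul] at h1
      exact hA (h1.trans (CfsgLib.Local.le_pCore' hn h0.2.2.1)))
  -- move that conjugate back to `A`
  set c := y⁻¹ with hc
  set g := c * g0 with hg
  set W := MulAut.conj c • W0 with hW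
  have hpair : IsPair p M A g W := h0.conj c
  set K := MulAut.conj g • M with hK
  have hcy : MulAut.conj c • (MulAut.conj y • A) = A := by
    rw [CfsgLib.Core.conj_smul_conj_smul, inv_mul_cancel, map_one, one_smul]
  have hAK : A ≤ K := by
    rw [← hcy, hK, hg, ← CfsgLib.Core.conj_smul_conj_smul]
    exact CfsgLib.Core.conj_smul_le_conj_smul.mpr (hyP.trans hPM)
  have hAW : ¬ A ≤ W := by
    rw [← hcy, hW, CfsgLib.Core.conj_smul_le_conj_smul]
    exact hyW
  have hAN : A ≤ normalizer (W : Set G) := by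
    intro a ha
    obtain ⟨b, hb, rfl⟩ := (show a ∈ MulAut.conj c • (MulAut.conj y • A) by rw [hcy]; exact ha)
    rw [← CfsgLib.Core.conj_smul_eq_self_iff]
    show MulAut.conj (c * b * c⁻¹) • W = W
    rw [hW, CfsgLib.Core.conj_smul_conj_smul, show c * b * c⁻¹ * c = c * b by group,
      ← CfsgLib.Core.conj_smul_conj_smul, CfsgLib.Core.conj_smul_of_mem_normalizer (hyN hb)]
  have hWmax : ∀ V : Subgroup G, IsPair p M A g V → W ≤ V → V = W := fun V hV hle => by
    refine (CfsgLib.Core.eq_of_le_of_card_le hle ((hmax (g, V) hV).trans ?_)).symm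
    rw [hW, CfsgLib.Core.conj_smul_eq_map, Subgroup.card_map_of_injective (MulEquiv.injective _)]
  -- `A` is not in `O_p` of a subgroup outside `K`
  have hclaim : ∀ Y : Subgroup G, Y ≤ normalizer (W : Set G) → W ≤ Y → ¬ Y ≤ K →
      ¬ A ≤ Cfsg.pCoreOf p Y := by
    intro Y hYN hWY hYK hAQ
    set Q := Cfsg.pCoreOf p Y with hQ
    have hWQ : W ≤ Q := PRed.le_pCoreOf hWY hYN hpair.2.2.1
    have hQp : IsPGroup p ↥Q := isPGroup_pCoreOf Y
    set V := gen p A (Q ⊓ K) with hV
    have hWQK : W ≤ Q ⊓ K := le_inf hWQ hpair.2.1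
    have hVQK : V ≤ Q ⊓ K := gen_le_self (hpair.1.trans hWQK)
    have hWV : W ≤ V := hpair.2.2.2.1.ge.trans (gen_mono hWQK)
    have hAV : A ≤ V := by
      have h1 := le_gen (p := p) (A := A) (P := Q ⊓ K) (y := 1)
        (by rw [map_one, one_smul]; exact le_inf hAQ hAK)
      rwa [map_one, one_smul] at h1
    have hnV : normalizer (V : Set G) ≤ K := by
      by_contra hn
      exact hAW (hAV.trans (hWmax V ⟨hpair.1.trans hWV, hVQK.trans inf_le_right,
        hQp.to_le (hVQK.trans inf_le_left), gen_gen, hn⟩ hWV).le)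
    by_cases hall : gen p A Q = V
    · exact hYK ((((pCoreOf_normalized Y).trans (normalizer_le_gen A Q)).trans
        (le_of_eq (by rw [hall]))).trans hnV)
    · obtain ⟨z, hzQ, hzV, hzN⟩ := exists_normalizing (gen_gen : gen p A V = V) hQp
        (hVQK.trans inf_le_left) hall
      exact hzV (le_gen (le_inf hzQ (hzN.trans hnV)))
  obtain ⟨L, ⟨hLN, hWL, hAL, hLK⟩, hLmin⟩ := Set.exists_min_image
    {Y : Subgroup G | Y ≤ normalizer (W : Set G) ∧ W ≤ Y ∧ A ≤ Y ∧ ¬ Y ≤ K}
    (fun Y => Nat.card ↥Y) (Set.toFinite _)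
    ⟨normalizer (W : Set G), le_rfl, Subgroup.le_normalizer, hAN, hpair.2.2.2.2⟩
  have hWcore : W ≤ Cfsg.pCoreOf p L := PRed.le_pCoreOf hWL hLN hpair.2.2.1
  have hLA := hclaim L hLN hWL hLK
  have hbelow : ∀ X : Subgroup G, A ⊔ Cfsg.pCoreOf p L ≤ X → X < L → X ≤ L ⊓ K := by
    intro X h1 h2
    refine le_inf h2.le ?_
    by_contra hXK
    exact h2.ne (CfsgLib.Core.eq_of_le_of_card_le h2.le (hLmin X ⟨h2.le.trans hLN,
      (hWcore.trans le_sup_right).trans h1, le_sup_left.trans h1, hXK⟩))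
  have hAO : A ⊔ Cfsg.pCoreOf p L ≤ L := sup_le hAL (PRed.pCoreOf_le L)
  have hAOlt : A ⊔ Cfsg.pCoreOf p L < L := by
    refine lt_of_le_of_ne hAO fun h => hLA ?_
    have hp' : IsPGroup p ↥L := h ▸ (T.isPGroup'.to_le hAT).to_sup_of_normal_right'
      (isPGroup_pCoreOf L) (hAL.trans (pCoreOf_normalized L))
    exact hAL.trans (PRed.le_pCoreOf le_rfl Subgroup.le_normalizer hp')
  have hAO0 : A ⊔ Cfsg.pCoreOf p L ≤ L ⊓ K := hbelow _ le_rfl hAOlt
  refine ⟨L, sup_le hAL (hpair.1.trans hWL), g, hLK, hAO0, hbelow, fun x hxL hxK => ?_⟩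
  set L0 := L ⊓ K with hL0
  set Z := A ⊔ MulAut.conj x • A ⊔ Cfsg.pCoreOf p L with hZ
  have hxAL : MulAut.conj x • A ≤ L := by
    rw [← CfsgLib.Core.conj_smul_of_mem_normalizer (Subgroup.le_normalizer hxL)]
    exact CfsgLib.Core.conj_smul_le_conj_smul.mpr hAL
  by_contra hne
  have hZ0 : Z ≤ L0 := hbelow Z (sup_le_sup_right le_sup_left _)
    (lt_of_le_of_ne (sup_le (sup_le hAL hxAL) (PRed.pCoreOf_le L)) hne)
  have hL0lt : L0 < L := lt_of_le_of_ne inf_le_left fun h => hLK (h ▸ inf_le_right)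
  have hcore0 : Cfsg.pCoreOf p L ≤ L0 := le_sup_right.trans hAO0
  have hxc : MulAut.conj x • Cfsg.pCoreOf p L = Cfsg.pCoreOf p L :=
    CfsgLib.Core.conj_smul_of_mem_normalizer (pCoreOf_normalized L hxL)
  set X := MulAut.conj x⁻¹ • L0 with hX
  have hXL : X < L := by
    refine lt_of_le_of_ne ?_ fun h => hL0lt.ne (CfsgLib.Core.eq_of_le_of_card_le inf_le_left ?_)
    · rw [← CfsgLib.Core.conj_smul_of_mem_normalizer (Subgroup.le_normalizer (L.inv_mem hxL))]
      exact CfsgLib.Core.conj_smul_le_conj_smul.mpr inf_le_left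
    · rw [← h, hX, CfsgLib.Core.conj_smul_eq_map,
        Subgroup.card_map_of_injective (MulEquiv.injective _)]
  have hXA : A ⊔ Cfsg.pCoreOf p L ≤ X := by
    rw [← CfsgLib.Core.conj_smul_le_conj_smul (g := x), hX, CfsgLib.Core.conj_smul_conj_smul,
      mul_inv_cancel, map_one, one_smul, Subgroup.smul_sup, hxc]
    exact sup_le ((le_sup_right.trans le_sup_left).trans hZ0) hcore0
  have hXeq : X = L0 := CfsgLib.Core.eq_of_le_of_card_le (hbelow X hXA hXL)
    (by rw [hX, CfsgLib.Core.conj_smul_eq_map,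
      Subgroup.card_map_of_injective (MulEquiv.injective _)])
  have hxn : x ∈ normalizer (L0 : Set G) := by
    rw [← inv_mem_iff, ← CfsgLib.Core.conj_smul_eq_self_iff]
    exact hXeq
  have hNlt : L ⊓ normalizer (L0 : Set G) = L := by
    by_contra hN
    have h1 := hbelow _ (le_inf hAO (hAO0.trans Subgroup.le_normalizer))
      (lt_of_le_of_ne inf_le_left hN)
    exact hxK (Subgroup.mem_inf.mp (h1 (Subgroup.mem_inf.mpr ⟨hxL, hxn⟩))).2
  have hLn : L ≤ normalizer (L0 : Set G) := hNlt.ge.trans inf_le_right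
  have hAOp : IsPGroup p ↥(A ⊔ Cfsg.pCoreOf p L) :=
    (T.isPGroup'.to_le hAT).to_sup_of_normal_right' (isPGroup_pCoreOf L)
      (hAL.trans (pCoreOf_normalized L))
  obtain ⟨R0, hR0⟩ := (isPGroup_subgroupOf (L := L0) hAOp).exists_le_sylow
  set R := (R0 : Subgroup ↥L0).map L0.subtype with hR
  have hAR : A ⊔ Cfsg.pCoreOf p L ≤ R :=
    fun a ha => ⟨⟨a, hAO0 ha⟩, hR0 (Subgroup.mem_subgroupOf.mpr ha), rfl⟩
  have hRi : ¬ p ∣ R.relIndex L0 := by
    rw [hR, Subgroup.relIndex, Subgroup.subgroupOf,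
      Subgroup.comap_map_eq_self_of_injective L0.subtype_injective]
    exact R0.not_dvd_index
  have hNR : L ⊓ normalizer (R : Set G) < L := by
    refine lt_of_le_of_ne inf_le_left fun h => hLA ?_
    exact (le_sup_left.trans hAR).trans (PRed.le_pCoreOf
      ((Subgroup.map_subtype_le _).trans inf_le_left) (h.ge.trans inf_le_right)
      (R0.isPGroup'.map _))
  have h1 := hbelow _ (le_inf hAO (hAR.trans Subgroup.le_normalizer)) hNR
  exact hL0lt.not_ge ((frattini_rel hLn inf_le_left (Subgroup.map_subtype_le _)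
    (R0.isPGroup'.map _) hRi).trans (sup_le h1 le_rfl))

end CfsgLib.Local.LLem
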