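import Cfsg.Agent.Lib.LocalPReducedParabolic
import Cfsg.Agent.Lib.LocalPIrreducible

/-!
Groups generated by the conjugates of a subgroup lying in one maximal subgroup only.
-/

set_option autoImplicit false

namespace CfsgLib.Local.MinOver

open Subgroup
open CfsgLib.Local.PRed
open scoped Pointwise

variable {G : Type*} [Group G] {p : ℕ} {Y L₀ : Subgroup G}

theorem le_of_ne_top [Finite G] (hmin : Cfsg.IsMinimalOver Y) (hL : IsCoatom L₀) (hY : Y ≤ L₀)
    {X : Subgroup G} (hYX : Y ≤ X) (hX : X ≠ ⊤) : X ≤ L₀ := by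
  obtain ⟨M, hM, hXM⟩ := (eq_top_or_exists_le_coatom X).resolve_left hX
  rwa [← hmin.2.unique ⟨hM, hYX.trans hXM⟩ ⟨hL, hY⟩]

theorem not_normal (hmin : Cfsg.IsMinimalOver Y) {X : Subgroup G} (hX : X ≠ ⊤) (hYX : Y ≤ X) :
    ¬ X.Normal := fun hn => by
  haveI := hn
  exact hX (eq_top_iff.mpr (hmin.1 ▸ Subgroup.normalClosure_le_normal
    (SetLike.coe_subset_coe.mpr hYX)))

theorem normalizer_le [Finite G] (hmin : Cfsg.IsMinimalOver Y) (hL : IsCoatom L₀) (hY : Y ≤ L₀)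
    {X : Subgroup G} (hYX : Y ≤ X) (hX : X ≠ ⊤) : normalizer (X : Set G) ≤ L₀ :=
  le_of_ne_top hmin hL hY (hYX.trans Subgroup.le_normalizer) fun h =>
    not_normal hmin hX hYX (Subgroup.normalizer_eq_top_iff.mp h)

theorem sylow_eq [Finite G] [hp : Fact p.Prime] (hmin : Cfsg.IsMinimalOver Y) (hL : IsCoatom L₀)
    (T : Sylow p ↥L₀) (hYT : Y ≤ (T : Subgroup ↥L₀).map L₀.subtype) :
    ∃ P : Sylow p G, (P : Subgroup G) = (T : Subgroup ↥L₀).map L₀.subtype := by
  set Tm := (T : Subgroup ↥L₀).map L₀.subtype with hTm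
  have hTL : Tm ≤ L₀ := Subgroup.map_subtype_le _
  obtain ⟨P, hP⟩ := (T.isPGroup'.map L₀.subtype).exists_le_sylow
  refine ⟨P, le_antisymm ?_ hP⟩
  have hN := normalizer_le hmin hL (hYT.trans hTL) hYT
    fun h => hL.1 (eq_top_iff.mpr (h ▸ hTL))
  by_contra hle
  haveI := P.isPGroup'.isNilpotent
  have hne : Tm.subgroupOf (P : Subgroup G) < ⊤ := lt_top_iff_ne_top.mpr fun h =>
    hle (Subgroup.subgroupOf_eq_top.mp h)
  obtain ⟨x, hx, hxT⟩ := SetLike.exists_of_lt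
    (Group.normalizerCondition_of_isNilpotent _ hne)
  have hxn : (x : G) ∈ normalizer (Tm : Set G) := by
    refine Subgroup.mem_normalizer_iff.mpr fun t => ⟨fun ht => ?_, fun ht => ?_⟩
    · exact (Subgroup.mem_normalizer_iff.mp hx ⟨t, hP ht⟩).mp ht
    · have htP : t ∈ (P : Subgroup G) := by
        have := mul_mem (mul_mem (inv_mem x.2) (hP ht)) x.2
        simpa [mul_assoc] using this
      exact (Subgroup.mem_normalizer_iff.mp hx ⟨t, htP⟩).mpr ht
  have h1 : Tm ⊔ Subgroup.zpowers (x : G) ≤ L₀ :=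
    sup_le hTL (Subgroup.zpowers_le.mpr (hN hxn))
  have h2 : IsPGroup p ↥((Tm ⊔ Subgroup.zpowers (x : G)).subgroupOf L₀) :=
    isPGroup_subgroupOf (P.isPGroup'.to_le (sup_le hP (Subgroup.zpowers_le.mpr x.2)))
  have h3 := T.is_maximal' h2 fun t ht =>
    Subgroup.mem_subgroupOf.mpr (Subgroup.mem_sup_left ⟨t, ht, rfl⟩)
  refine hxT (Subgroup.mem_subgroupOf.mpr ?_)
  have h4 : (⟨(x : G), hN hxn⟩ : ↥L₀) ∈ (T : Subgroup ↥L₀) := h3 ▸
    Subgroup.mem_subgroupOf.mpr (Subgroup.mem_sup_right (Subgroup.mem_zpowers (x : G)))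
  exact ⟨_, h4, rfl⟩

theorem pCore_le [Finite G] [Fact p.Prime] (hmin : Cfsg.IsMinimalOver Y) (hL : IsCoatom L₀)
    (T : Sylow p ↥L₀) (hYT : Y ≤ (T : Subgroup ↥L₀).map L₀.subtype) : Cfsg.pCore p G ≤ L₀ := by
  obtain ⟨P, hP⟩ := sylow_eq hmin hL T hYT
  exact (CfsgLib.Local.pCore_le_sylow' P).trans (hP.le.trans (Subgroup.map_subtype_le _))

/-- The `p`-elements of a normal subgroup below `L₀` lie in `O_p`. -/
theorem le_pCore_of_normal [Finite G] [Fact p.Prime] (hmin : Cfsg.IsMinimalOver Y)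
    (hL : IsCoatom L₀) (P : Sylow p G) (hYP : Y ≤ (P : Subgroup G))
    (hPL : (P : Subgroup G) ≤ L₀) {D : Subgroup G} (hD : D.Normal) (hDL : D ≤ L₀) :
    (P : Subgroup G) ⊓ D ≤ Cfsg.pCore p G ∧ ¬ p ∣ ((P : Subgroup G) ⊓ D).relIndex D := by
  haveI := hD
  have hn : ∀ X : Subgroup G, X ≤ normalizer (D : Set G) := fun X =>
    (Subgroup.normalizer_eq_top (H := D)).symm ▸ le_top
  have hi : ¬ p ∣ ((P : Subgroup G) ⊓ D).relIndex D := by
    have := not_dvd_relIndex_inf (L := ⊤) (S := (P : Subgroup G)) (N := D) le_top le_top (hn _)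
      (not_dvd_relIndex_of_le P le_top)
    exact this
  refine ⟨?_, hi⟩
  set S := (P : Subgroup G) ⊓ D with hS
  have hPS : (P : Subgroup G) ≤ normalizer (S : Set G) :=
    CfsgLib.Core.le_normalizer_inf Subgroup.le_normalizer (hn _)
  refine CfsgLib.Local.le_pCore' ?_ (P.isPGroup'.to_le inf_le_left)
  by_contra hnn
  have h1 := le_of_ne_top hmin hL (hYP.trans hPL) (hYP.trans hPS)
    fun h => hnn (Subgroup.normalizer_eq_top_iff.mp h)
  refine hL.1 (eq_top_iff.mpr (le_trans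
    (frattini_rel (M := ⊤) (hn _) le_top inf_le_right (P.isPGroup'.to_le inf_le_left) hi) ?_))
  exact sup_le (inf_le_right.trans h1) hDL

theorem isPClosed_of_normal [Finite G] [Fact p.Prime] (hmin : Cfsg.IsMinimalOver Y)
    (hL : IsCoatom L₀) (P : Sylow p G) (hYP : Y ≤ (P : Subgroup G))
    (hPL : (P : Subgroup G) ≤ L₀) {D : Subgroup G} (hD : D.Normal) (hDL : D ≤ L₀) :
    Cfsg.IsPClosed p ↥D ∧ ¬ p ∣ (Cfsg.pCore p ↥D).index := by
  obtain ⟨hle, hi⟩ := le_pCore_of_normal hmin hL P hYP hPL hD hDL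
  haveI := CfsgLib.Local.pCore_normal' (G := G) p
  set K := (Cfsg.pCore p G).subgroupOf D with hK
  have hKn : K.Normal := Subgroup.normal_subgroupOf
  have hKp : IsPGroup p ↥K := isPGroup_subgroupOf (CfsgLib.Local.pCore_isPGroup' p)
  have hKi : ¬ p ∣ K.index := by
    intro h
    exact hi (h.trans (Subgroup.relIndex_dvd_of_le_left D hle))
  let P0 : Sylow p ↥D := hKp.toSylow hKi
  haveI : (P0 : Subgroup ↥D).Normal := hKn
  haveI := Sylow.unique_of_normal P0 this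
  refine ⟨fun Q => ?_, fun h => hKi (h.trans (Subgroup.index_dvd_of_le ?_))⟩
  · rw [Subsingleton.elim Q P0]
    infer_instance
  · exact CfsgLib.Local.le_pCore' hKn hKp

theorem pCore_subgroupOf [Finite G] [Fact p.Prime] {D : Subgroup G} (hD : D.Normal) :
    Cfsg.pCore p ↥D = (Cfsg.pCore p G).subgroupOf D := by
  haveI := CfsgLib.Local.pCore_normal' (G := G) p
  refine le_antisymm (fun x hx => Subgroup.mem_subgroupOf.mpr
    (CfsgLib.Core.pCore_map_subtype_le hD ⟨x, hx, rfl⟩))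
    (CfsgLib.Local.le_pCore' Subgroup.normal_subgroupOf
      (isPGroup_subgroupOf (CfsgLib.Local.pCore_isPGroup' p)))

end CfsgLib.Local.MinOver
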