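import Mathlib
import Cfsg.Prelude.Def_Transfer
import Cfsg.Agent.Lib.CoreBasic
import Cfsg.Agent.Lib.CoreTransfer
import Cfsg.Agent.Lib.CoreOmega
import Cfsg.Agent.Lib.StableZJ

/-!
# Normal complements from the fusion of elements of order `p` (and `4`)
-/

set_option autoImplicit false

namespace CfsgLib.Local.OmegaFusion

open CfsgLib.Core CfsgLib.Stable

variable {G : Type*} [Group G] [Finite G] {p : ℕ} [hp : Fact p.Prime]

/-- An operator lowering the depth of every small element fixes all of them. -/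
theorem fixes_of_depth {Q : Subgroup G} (hQ : IsPGroup p ↥Q) {g : G}
    (hg : g ∈ Subgroup.normalizer (Q : Set G)) (hcop : (orderOf g).Coprime p)
    (F : ℕ → Subgroup G) (N : ℕ) (hN : F N = ⊥) (hmono : ∀ i, F (i + 1) ≤ F i)
    (hnorm : ∀ i, Q ⊓ F i ≤ Subgroup.normalizer (F (i + 1) : Set G))
    (hstep : ∀ i, ∀ a ∈ Q ⊓ F i, (a ^ p = 1 ∨ (p = 2 ∧ a ^ 4 = 1)) →
      g * a * g⁻¹ * a⁻¹ ∈ F (i + 1)) :
    ∀ a ∈ Q ⊓ F 0, (a ^ p = 1 ∨ (p = 2 ∧ a ^ 4 = 1)) → g * a * g⁻¹ = a := by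
  suffices key : ∀ k i, i + k = N → ∀ a ∈ Q ⊓ F i, (a ^ p = 1 ∨ (p = 2 ∧ a ^ 4 = 1)) →
      g * a * g⁻¹ = a from key N 0 (zero_add N)
  intro k
  induction k with
  | zero =>
    intro i hi a ha _
    obtain rfl : i = N := by omega
    rw [hN] at ha
    rw [Subgroup.mem_bot.1 ha.2]; simp
  | succ k ih =>
    intro i hi a ha hsm
    have ih' := ih (i + 1) (by omega)
    set Om : Set G := {b | b ∈ Q ⊓ F i ∧ (b ^ p = 1 ∨ (p = 2 ∧ b ^ 4 = 1))} with hOm
    set W := Subgroup.closure Om with hW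
    have hOmg : ∀ b ∈ Om, g * b * g⁻¹ ∈ Om := by
      rintro b ⟨hb, hb'⟩
      refine ⟨⟨(Subgroup.mem_normalizer_iff.1 hg b).1 hb.1, ?_⟩, ?_⟩
      · have h := mul_mem (hmono i (hstep i b hb hb')) hb.2
        rwa [inv_mul_cancel_right] at h
      · rw [conj_pow, conj_pow]
        rcases hb' with h | ⟨h1, h2⟩
        · left; rw [h, mul_one, mul_inv_cancel]
        · right; exact ⟨h1, by rw [h2, mul_one, mul_inv_cancel]⟩
    have hWQ : W ≤ Q ⊓ F i := (Subgroup.closure_le _).2 fun b hb => hb.1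
    have hWg : ∀ w ∈ W, g * w * g⁻¹ ∈ W := by
      intro w hw
      induction hw using Subgroup.closure_induction with
      | mem b hb => exact Subgroup.subset_closure (hOmg b hb)
      | one => simp
      | mul x y hx hy ihx ihy =>
        rw [show g * (x * y) * g⁻¹ = (g * x * g⁻¹) * (g * y * g⁻¹) by group]
        exact mul_mem ihx ihy
      | inv x hx ihx =>
        rw [show g * x⁻¹ * g⁻¹ = (g * x * g⁻¹)⁻¹ by group]
        exact inv_mem ihx
    have hWd : ∀ w ∈ W, g * w * g⁻¹ * w⁻¹ ∈ F (i + 1) := by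
      intro w hw
      induction hw using Subgroup.closure_induction with
      | mem b hb => exact hstep i b hb.1 hb.2
      | one => simp
      | mul x y hx hy ihx ihy =>
        rw [show g * (x * y) * g⁻¹ * (x * y)⁻¹ =
          (g * x * g⁻¹) * (g * y * g⁻¹ * y⁻¹) * (g * x * g⁻¹)⁻¹ * (g * x * g⁻¹ * x⁻¹) by group]
        exact mul_mem ((Subgroup.mem_normalizer_iff.1 (hnorm i (hWQ (hWg x hx))) _).1 ihy) ihx
      | inv x hx ihx =>
        rw [show g * x⁻¹ * g⁻¹ * x⁻¹⁻¹ =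
          (g * x * g⁻¹)⁻¹ * (g * x * g⁻¹ * x⁻¹)⁻¹ * (g * x * g⁻¹)⁻¹⁻¹ by group]
        exact (Subgroup.mem_normalizer_iff.1 (hnorm i (hWQ (W.inv_mem (hWg x hx)))) _).1 (inv_mem ihx)
    set U := W ⊓ F (i + 1) with hU
    have hgU : g ∈ Subgroup.normalizer (U : Set G) := by
      refine mem_normalizer_of_map_eq fun u hu => ⟨hWg u hu.1, ?_⟩
      have h := mul_mem (hWd u hu.1) hu.2
      rwa [inv_mul_cancel_right] at h
    have hfix : g ∈ Subgroup.centralizer (U : Set G) :=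
      mem_centralizer_of_fixes_omega (hQ.to_le (inf_le_left.trans (hWQ.trans inf_le_left))) hgU hcop
        fun x hx hx' => ih' x ⟨(hWQ hx.1).1, hx.2⟩ hx'
    have haW : a ∈ W := Subgroup.subset_closure ⟨ha, hsm⟩
    set c := g * a * g⁻¹ * a⁻¹ with hc
    have hcU : c ∈ U := ⟨W.mul_mem (hWg a haW) (W.inv_mem haW), hWd a haW⟩
    have hgc : g * c * g⁻¹ = c := by
      rw [← Subgroup.mem_centralizer_iff.1 hfix c hcU, mul_inv_cancel_right]
    have hga : g * a * g⁻¹ = c * a := by rw [hc, inv_mul_cancel_right]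
    have hpow : ∀ j : ℕ, g ^ j * a * (g ^ j)⁻¹ = c ^ j * a := by
      intro j
      induction j with
      | zero => simp
      | succ j ihj =>
        calc g ^ (j + 1) * a * (g ^ (j + 1))⁻¹ = g * (g ^ j * a * (g ^ j)⁻¹) * g⁻¹ := by
              rw [pow_succ']; group
          _ = g * (c ^ j * a) * g⁻¹ := by rw [ihj]
          _ = (g * c * g⁻¹) ^ j * (g * a * g⁻¹) := by rw [conj_pow]; group
          _ = c ^ (j + 1) * a := by rw [hgc, hga, ← mul_assoc, ← pow_succ]
    have h0 := hpow (orderOf g)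
    rw [pow_orderOf_eq_one, one_mul, inv_one, mul_one] at h0
    obtain ⟨n, hn⟩ := hQ ⟨c, (hWQ hcU.1).1⟩
    have hn' : c ^ p ^ n = 1 := congrArg Subtype.val hn
    have hco : orderOf c ∣ orderOf g := orderOf_dvd_of_pow_eq_one (mul_right_cancel
      (show c ^ orderOf g * a = 1 * a by rw [one_mul, ← h0]))
    have h1 : orderOf c = 1 := Nat.eq_one_of_dvd_coprimes (hcop.pow_right n) hco
      (orderOf_dvd_of_pow_eq_one hn')
    rw [hga, orderOf_eq_one_iff.1 h1, one_mul]

end CfsgLib.Local.OmegaFusion
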