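import Cfsg.Agent.Lib.LocalPGVBase
import Cfsg.Agent.Lib.InvolDihedral

/-!
The P(G,V)-theorem: a maximal offender normalises every component.
-/

set_option autoImplicit false

namespace CfsgLib.Local.PGV

open scoped Pointwise commutatorElement
open CfsgLib.Core

section Group

variable {G : Type*} [Group G] [Finite G]

/-- Distinct components commute elementwise. -/
theorem comm_of_components {K L : Subgroup G} (hK : Cfsg.IsComponent K) (hL : Cfsg.IsComponent L)
    (h : K ≠ L) {x y : G} (hx : x ∈ K) (hy : y ∈ L) : x * y = y * x := by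
  have h1 := Subgroup.commutator_mem_commutator hx hy
  rwa [components_commute hK hL h, Subgroup.mem_bot, commutatorElement_eq_one_iff_mul_comm] at h1

theorem conj_mem_conj_smul {g x : G} {K : Subgroup G} (hx : x ∈ K) :
    g * x * g⁻¹ ∈ MulAut.conj g • K := by
  rw [mem_conj_smul]; simpa [mul_assoc] using hx

theorem conj_smul_ne_self {g : G} {K : Subgroup G} (h : g ∉ Subgroup.normalizer (K : Set G)) :
    MulAut.conj g • K ≠ K := fun e => h (conj_smul_eq_self_iff.1 e)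

/-- An involution normalising but not centralising a quasisimple subgroup inverts a non-central
element of it of odd order. -/
theorem exists_inverted {K : Subgroup G} (hK : Cfsg.IsQuasisimple ↥K) {c : G} (hc2 : c * c = 1)
    (hcK : c ∈ Subgroup.normalizer (K : Set G)) (hnc : ∃ k ∈ K, c * k ≠ k * c) :
    ∃ h ∈ K, Odd (orderOf h) ∧ c * h * c = h⁻¹ ∧ ∃ k ∈ K, h * k ≠ k * h := by
  classical
  haveI : Fact (Nat.Prime 2) := ⟨Nat.prime_two⟩
  by_contra hno
  push_neg at hno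
  set N := Subgroup.normalizer (K : Set G)
  have hci : c⁻¹ = c := inv_eq_of_mul_eq_one_right hc2
  set H := Subgroup.zpowers c ⊔ K with hH
  have hzc : Subgroup.zpowers c ≤ N := by rw [Subgroup.zpowers_le]; exact hcK
  have hHN : H ≤ N := sup_le hzc Subgroup.le_normalizer
  set Z : Subgroup ↥H := (((Subgroup.center ↥K).map K.subtype)).subgroupOf H with hZ
  haveI hZn : Z.Normal := by
    refine ⟨fun z hz g => ?_⟩
    rw [hZ, Subgroup.mem_subgroupOf] at hz ⊢
    obtain ⟨m, hm, hmz⟩ := Subgroup.mem_map.1 hz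
    have hg : (g : G) ∈ N := hHN g.2
    refine Subgroup.mem_map.2
      ⟨⟨(g : G) * m * (g : G)⁻¹, (Subgroup.mem_normalizer_iff.1 hg _).1 m.2⟩, ?_, by simp [← hmz]⟩
    refine Subgroup.mem_center_iff.2 fun k => Subtype.ext ?_
    have hk' : (g : G)⁻¹ * k * g ∈ K := by
      have := (Subgroup.mem_normalizer_iff.1 (N.inv_mem hg) (k : G)).1 k.2
      simpa using this
    have h1 : ((g : G)⁻¹ * k * g) * m = m * ((g : G)⁻¹ * k * g) :=
      congrArg Subtype.val (Subgroup.mem_center_iff.1 hm ⟨_, hk'⟩)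
    show (k : G) * ((g : G) * m * (g : G)⁻¹) = ((g : G) * m * (g : G)⁻¹) * k
    calc (k : G) * ((g : G) * m * (g : G)⁻¹) = g * (((g : G)⁻¹ * k * g) * m) * (g : G)⁻¹ := by group
      _ = g * (m * ((g : G)⁻¹ * k * g)) * (g : G)⁻¹ := by rw [h1]
      _ = _ := by group
  set π := QuotientGroup.mk' Z with hπ
  have hcH : c ∈ H := Subgroup.mem_sup_left (Subgroup.mem_zpowers c)
  set c' : ↥H := ⟨c, hcH⟩ with hc'
  have hkey : ∀ g : ↥H ⧸ Z, IsPGroup 2
      ↥(Subgroup.closure ({π c', g * π c' * g⁻¹} : Set (↥H ⧸ Z))) := by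
    intro g
    obtain ⟨g, rfl⟩ := QuotientGroup.mk'_surjective Z g
    obtain ⟨a, ha, k, hk, hak⟩ := (mem_sup_iff_of_le_normalizer' (A := Subgroup.zpowers c) (K := K) hzc).1 g.2
    have hgc : (g : G) * c * (g : G)⁻¹ = a * c * a⁻¹ := by
      have : k * c * k⁻¹ = c := by
        obtain ⟨j, rfl⟩ := hk
        rw [((Commute.refl c).zpow_left j).eq, mul_inv_cancel_right]
      rw [← hak]
      calc a * k * c * (a * k)⁻¹ = a * (k * c * k⁻¹) * a⁻¹ := by group
        _ = a * c * a⁻¹ := by rw [this]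
    set d := c * ((g : G) * c * (g : G)⁻¹) with hd
    have hdK : d ∈ K := by
      rw [hd, hgc]
      have h1 : c * a * c⁻¹ ∈ K := (Subgroup.mem_normalizer_iff.1 hcK a).1 ha
      have := K.mul_mem h1 (K.inv_mem ha)
      rw [hci] at h1 this
      simpa [mul_assoc] using this
    have hdinv : c * d * c = d⁻¹ := by
      rw [hd]
      simp only [mul_inv_rev, inv_inv, hci, mul_assoc]
      rw [← mul_assoc c c, hc2, one_mul]
    obtain ⟨i, r, hr, hir⟩ := Nat.exists_eq_pow_mul_and_not_dvd (orderOf_pos d).ne' 2 (by norm_num)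
    set h := d ^ 2 ^ i with hh
    have hhodd : Odd (orderOf h) := by
      have hdvd : orderOf h ∣ r := by
        apply orderOf_dvd_of_pow_eq_one
        rw [hh, ← pow_mul, ← hir, pow_orderOf_eq_one]
      exact (Nat.odd_iff.2 (Nat.two_dvd_ne_zero.1 hr)).of_dvd_nat hdvd
    have hhinv : c * h * c = h⁻¹ := by
      have := conj_pow (i := 2 ^ i) (a := c) (b := d)
      rw [hci] at this
      rw [hh, ← this, hdinv, inv_pow]
    have hhK : h ∈ K := K.pow_mem hdK _
    have hhc := hno h hhK hhodd hhinv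
    have hhZ : (⟨h, Subgroup.mem_sup_right hhK⟩ : ↥H) ∈ Z := by
      rw [hZ, Subgroup.mem_subgroupOf]
      exact Subgroup.mem_map.2 ⟨⟨h, hhK⟩,
        Subgroup.mem_center_iff.2 fun k => Subtype.ext (hhc k k.2).symm, rfl⟩
    have hpow : (π c' * (π g * π c' * (π g)⁻¹)) ^ 2 ^ i = 1 := by
      rw [← map_inv, ← map_mul, ← map_mul, ← map_mul, ← map_pow]
      refine (QuotientGroup.eq_one_iff _).2 ?_
      convert hhZ using 1
      exact Subtype.ext (by simp [hc', hh, hd])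
    obtain ⟨j, -, hj⟩ := (Nat.dvd_prime_pow Nat.prime_two).1 (orderOf_dvd_of_pow_eq_one hpow)
    have hc'2 : π c' * π c' = 1 := by
      rw [← map_mul, show c' * c' = 1 from Subtype.ext hc2, map_one]
    by_cases h1 : π c' = 1
    · have hbot : Subgroup.closure ({π c', π g * π c' * (π g)⁻¹} : Set (↥H ⧸ Z)) = ⊥ := by
        rw [Subgroup.closure_eq_bot_iff]
        rintro x (rfl | rfl) <;> simp [h1]
      rw [hbot]; exact IsPGroup.of_bot
    · have ho : orderOf (π c') = 2 := orderOf_eq_prime (by rw [sq, hc'2]) h1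
      refine CfsgLib.Invol.isPGroup_closure_pair (a := j) ho ?_ hj
      rw [show π g * π c' * (π g)⁻¹ = MulAut.conj (π g) (π c') from rfl]
      exact (MulEquiv.orderOf_eq _ _).trans ho
  have hO := baer_suzuki hkey
  haveI hPn : (Cfsg.pCore 2 (↥H ⧸ Z)).Normal := normal_pCore 2
  have hP2 := isPGroup_pCore (G := ↥H ⧸ Z) 2
  set J := ((Cfsg.pCore 2 (↥H ⧸ Z)).comap π).map H.subtype with hJ
  have hKJ : K ≤ J := by
    refine le_of_commutators hK hcK hnc fun x hx => ?_
    have hxH : x ∈ H := Subgroup.mem_sup_right hx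
    refine Subgroup.mem_map.2 ⟨⟨x, hxH⟩ * c' * ⟨x, hxH⟩⁻¹ * c'⁻¹, ?_, by simp [hc']⟩
    rw [Subgroup.mem_comap, map_mul, map_mul, map_mul, map_inv, map_inv]
    exact Subgroup.mul_mem _ (hPn.conj_mem _ hO _) (Subgroup.inv_mem _ hO)
  -- so `K` modulo its centre is a 2-group
  haveI := hK.2
  haveI := hK.1
  haveI : Nontrivial (↥K ⧸ Subgroup.center ↥K) := hK.2.toNontrivial
  have hperf : Group.IsPerfect (↥K ⧸ Subgroup.center ↥K) := Group.IsPerfect.ofSurjective
    (f := QuotientGroup.mk' (Subgroup.center ↥K)) (QuotientGroup.mk'_surjective _)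
  have hQ2 : IsPGroup 2 (↥K ⧸ Subgroup.center ↥K) := by
    intro q
    obtain ⟨x, rfl⟩ := QuotientGroup.mk'_surjective (Subgroup.center ↥K) q
    obtain ⟨m, hm, hmx⟩ := Subgroup.mem_map.1 (hKJ x.2)
    obtain ⟨i, hi⟩ := hP2 ⟨π m, hm⟩
    refine ⟨i, ?_⟩
    have h1 : π (m ^ 2 ^ i) = 1 := by rw [map_pow]; exact congrArg Subtype.val hi
    have h2 : m ^ 2 ^ i ∈ Z := (QuotientGroup.eq_one_iff _).1 h1
    rw [hZ, Subgroup.mem_subgroupOf] at h2
    obtain ⟨z, hz, hzm⟩ := Subgroup.mem_map.1 h2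
    rw [← map_pow]
    refine (QuotientGroup.eq_one_iff _).2 ?_
    have e : z = x ^ 2 ^ i := by
      apply Subtype.ext
      have hzm' : (z : G) = (m : G) ^ 2 ^ i := by simpa using hzm
      rw [hzm', SubmonoidClass.coe_pow, show (m : G) = x from hmx]
    exact e ▸ hz
  haveI := hQ2.isNilpotent
  exact Group.IsPerfect.not_isSolvable (↥K ⧸ Subgroup.center ↥K) inferInstance

end Group

section Main

variable {G : Type*} [Group G] [Finite G] {p : ℕ} [Fact p.Prime] {V : Type*} [AddCommGroup V]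
  [Finite V] [Module (ZMod p) V] (ρ : Representation (ZMod p) G V)

theorem rho_inv_self (g : G) (v : V) : ρ g⁻¹ (ρ g v) = v := by simp

theorem rho_self_inv (g : G) (v : V) : ρ g (ρ g⁻¹ v) = v := by simp

theorem eq_zero_of_add_self (hp : p ≠ 2) {z : V} (h : z + z = 0) : z = 0 := by
  have h2 : addOrderOf z ∣ 2 := addOrderOf_dvd_of_nsmul_eq_zero (by rw [two_nsmul, h])
  have hco : Nat.Coprime 2 p := (Nat.coprime_primes Nat.prime_two (Fact.out)).2 (Ne.symm hp)
  exact AddMonoid.addOrderOf_eq_one_iff.1 (Nat.eq_one_of_dvd_coprimes hco h2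
    (addOrderOf_dvd_of_nsmul_eq_zero (p_nsmul (p := p) z)))

theorem eq_one_of_fix {g : G} (hf : Function.Injective ρ) (h : ∀ v, ρ g v = v) : g = 1 :=
  hf (LinearMap.ext fun v => by rw [h v, map_one]; rfl)

/-- For odd `p` an element acting quadratically cannot move a component. -/
theorem quadratic_normalizes (hp : p ≠ 2) (hf : Function.Injective ρ) {K : Subgroup G}
    (hK : Cfsg.IsComponent K) {e : G} (hep : e ^ p = 1)
    (hq : ∀ v, ρ e (ρ e v - v) = ρ e v - v) : e ∈ Subgroup.normalizer (K : Set G) := by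
  by_contra he
  obtain ⟨q, hqp, hqne, -, x, hx, ⟨i, hxi⟩, k, hk, hxk⟩ := exists_noncentral_prime_power hK.2 p
  set N := Subgroup.normalizer (K : Set G)
  have he2 : e ^ 2 ∉ N := by
    intro h
    obtain ⟨j, hj⟩ := (Fact.out : p.Prime).odd_of_ne_two hp
    have h1 : (e ^ 2) ^ (j + 1) ∈ N := N.pow_mem h _
    rw [← pow_mul, show 2 * (j + 1) = p + 1 by omega, pow_succ, hep, one_mul] at h1
    exact he h1
  set K1 := MulAut.conj e • K with hK1
  set K2 := MulAut.conj (e ^ 2) • K with hK2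
  have hK1c : Cfsg.IsComponent K1 := isComponent_conj_smul hK e
  have hK2c : Cfsg.IsComponent K2 := isComponent_conj_smul hK _
  have h01 : K1 ≠ K := conj_smul_ne_self he
  have h02 : K2 ≠ K := conj_smul_ne_self he2
  have h12 : K2 ≠ K1 := fun h => he (conj_smul_eq_self_iff.1 (by
    have h' : MulAut.conj e • (MulAut.conj e • K) = MulAut.conj e • K := by
      rw [conj_smul_conj_smul, ← sq]; exact h
    exact MulAction.injective _ h'))
  set x1 := e * x * e⁻¹ with hx1d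
  set x2 := e * x1 * e⁻¹ with hx2d
  have hx1 : x1 ∈ K1 := conj_mem_conj_smul hx
  have hx2 : x2 ∈ K2 := by
    have : x2 = e ^ 2 * x * (e ^ 2)⁻¹ := by rw [hx2d, hx1d, sq]; group
    rw [this]; exact conj_mem_conj_smul hx
  have c01 := comm_of_components hK hK1c h01.symm hx hx1
  have c12 := comm_of_components hK1c hK2c h12.symm hx1 hx2
  have hI : ∀ v, (ρ x2 (ρ e v) - ρ x1 (ρ e v)) + (ρ x2 (ρ e v) - ρ x1 (ρ e v)) = ρ x2 v - ρ x v := by
    intro v
    have hee : ∀ u, ρ e (ρ e u) = ρ e u + ρ e u - u := fun u => by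
      have := hq u
      rw [map_sub, sub_eq_iff_eq_add] at this
      rw [this]; abel
    have hl : ρ e (ρ e (ρ x v)) = ρ x2 (ρ e (ρ e v)) := by
      simp only [← rho_mul]
      congr 2
      rw [hx2d, hx1d]; group
    rw [hee, hee, map_sub, map_add,
      show ρ e (ρ x v) = ρ x1 (ρ e v) by simp only [← rho_mul]; congr 2; rw [hx1d]; group] at hl
    rw [sub_eq_sub_iff_add_eq_add] at hl
    have : (ρ x1 (ρ e v) + ρ x1 (ρ e v)) + ρ x2 v = (ρ x2 (ρ e v) + ρ x2 (ρ e v)) + ρ x v := hl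
    rw [sub_add_sub_comm, sub_eq_sub_iff_add_eq_add, ← this]
    abel
  -- conjugate the relation by `x1`
  set t := x1 * x2⁻¹ with ht
  have hd : ∀ w, ρ (x2⁻¹ * x1) (ρ (x2⁻¹ * x1) w - w) = ρ (x2⁻¹ * x1) w - w := by
    intro w
    obtain ⟨v, rfl⟩ := (ρ.apply_bijective e).surjective w
    set w := ρ e v with hw
    have h1 := hI v
    have h2 := congrArg (ρ x1) (hI (ρ x1⁻¹ v))
    have hA : ∀ g : G, g * x1 = x1 * g → ∀ u, ρ x1 (ρ g u) = ρ g (ρ x1 u) := fun g hg u => by
      rw [← rho_mul, ← hg, rho_mul]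
    have he' : ρ x1 (ρ e (ρ x1⁻¹ v)) = ρ t w := by
      rw [hw]
      simp only [← rho_mul]
      congr 2
      rw [ht, hx2d]; group
    simp only [map_add, map_sub, hA x c01, hA x1 rfl, hA x2 c12.symm, he', rho_self_inv] at h2
    rw [← h1] at h2
    have h3 := eq_zero_of_add_self (p := p) hp (z := (ρ x2 (ρ t w) - ρ x1 (ρ t w)) - (ρ x2 w - ρ x1 w))
      (by rw [sub_add_sub_comm, h2, sub_self])
    have h4 := congrArg (ρ x2⁻¹) h3
    simp only [map_sub, map_zero, rho_inv_self] at h4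
    have e1 : ρ t w = ρ (x2⁻¹ * x1) w := by
      congr 2
      have cc : Commute x1 x2 := c12
      rw [ht]; exact cc.inv_right.eq
    have e2 : ∀ u, ρ x2⁻¹ (ρ x1 u) = ρ (x2⁻¹ * x1) u := fun u => (rho_mul ρ _ _ u).symm
    rw [e1, e2, e2] at h4
    rw [map_sub]
    rw [← sub_eq_zero, ← neg_eq_zero, ← h4]
    abel
  have hord : (orderOf (x2⁻¹ * x1)).Coprime p := by
    have cc : Commute x2⁻¹ x1 := (show Commute x1 x2 from c12).symm.inv_left
    have hp1 : x1 ^ q ^ i = 1 := by rw [hx1d, conj_pow, hxi]; group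
    have hp2 : x2 ^ q ^ i = 1 := by rw [hx2d, conj_pow, hp1]; group
    refine Nat.Coprime.coprime_dvd_left (orderOf_dvd_of_pow_eq_one ?_)
      (((Nat.coprime_primes hqp Fact.out).2 hqne).pow_left i)
    rw [cc.mul_pow, inv_pow, hp2, hp1, inv_one, one_mul]
  have hone : x2⁻¹ * x1 = 1 := eq_one_of_fix ρ hf fun v => fixed_of_sub_fixed ρ hord (hd v)
  have heq : x1 = x2 := by
    calc x1 = x2 * (x2⁻¹ * x1) := by group
      _ = x2 := by rw [hone, mul_one]
  refine hxk ?_
  have hk1 : e * k * e⁻¹ ∈ K1 := conj_mem_conj_smul hk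
  have hcc := comm_of_components hK2c hK1c h12 (heq ▸ hx2 : x1 ∈ K2) hk1
  have : e * (x * k) * e⁻¹ = e * (k * x) * e⁻¹ := by
    calc e * (x * k) * e⁻¹ = x1 * (e * k * e⁻¹) := by rw [hx1d]; group
      _ = (e * k * e⁻¹) * x1 := hcc
      _ = e * (k * x) * e⁻¹ := by rw [hx1d]; group
  exact mul_left_cancel (mul_right_cancel this)

/-- A perfect group stabilising a two-step chain acts trivially. -/
theorem trivial_of_chain {K : Subgroup G} (hK : Cfsg.IsQuasisimple ↥K) {U : AddSubgroup V}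
    (hU : ∀ l ∈ K, ∀ k ∈ K, ∀ u ∈ U, ρ l (ρ k u - u) = ρ k u - u) :
    ∀ k ∈ K, ∀ u ∈ U, ρ k u = u := by
  have hKK : ⁅K, K⁆ = K := (Subgroup.isPerfect_iff).mp hK.1
  have h : K ≤ pointFix ρ (U : Set V) := by
    rw [← hKK, Subgroup.commutator_le]
    intro k hk l hl
    refine (mem_pointFix ρ).2 fun u hu => ?_
    have hcl : ρ k (ρ l u) = ρ l (ρ k u) := by
      have h1 := hU k hk l hl u hu
      have h2 := hU l hl k hk u hu
      rw [map_sub, sub_eq_iff_eq_add] at h1 h2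
      rw [h1, h2]; abel
    have h3 : ρ (k * l) u = ρ (l * k) u := by rw [rho_mul, rho_mul, hcl]
    have e : ⁅k, l⁆ = (k * l) * (l * k)⁻¹ := by rw [commutatorElement_def]; group
    have hgen : ∀ w, ρ (k * l) w = ρ (l * k) w → ρ ⁅k, l⁆ (ρ (l * k) w) = ρ (l * k) w := fun w hw => by
      rw [e, ← rho_mul, inv_mul_cancel_right]; exact hw
    -- `⁅k, l⁆ = [k⁻¹, l⁻¹]` conjugated: use `u` pulled back
    have hu' : ρ (k⁻¹ * l⁻¹) u ∈ {w : V | ρ (k * l) w = ρ (l * k) w} := by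
      set w := ρ (k⁻¹ * l⁻¹) u
      have hwU : ∀ g ∈ K, ∀ v, (∀ a ∈ K, ρ a v = v) → ρ g v = v := fun g hg v hv => hv g hg
      -- `w - u` is fixed by `K`
      have hfix : ∀ a ∈ K, ρ a (w - u) = w - u := fun a ha => hU a ha _ (K.mul_mem (K.inv_mem hk) (K.inv_mem hl)) u hu
      show ρ (k * l) w = ρ (l * k) w
      have ew : w = u + (w - u) := by abel
      rw [ew, map_add, map_add, h3, hwU _ (K.mul_mem hk hl) _ hfix, hwU _ (K.mul_mem hl hk) _ hfix]
    have h5 := hgen _ hu'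
    rwa [← rho_mul (g := l * k), show l * k * (k⁻¹ * l⁻¹) = 1 by group, rho_one] at h5
  exact fun k hk u hu => (mem_pointFix ρ).1 (h hk) u hu

/-- For odd `p` a quadratic element normalising a component centralises it if it is fixed, in the
commutator sense, by an element moving the component. -/
theorem quadratic_centralizes (hp : p ≠ 2) (hf : Function.Injective ρ) {K : Subgroup G}
    (hK : Cfsg.IsComponent K) {c a : G} (hac : a * c = c * a)
    (hcK : c ∈ Subgroup.normalizer (K : Set G)) (haK : a ∉ Subgroup.normalizer (K : Set G))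
    (hqc : ∀ v, ρ c (ρ c v - v) = ρ c v - v) (hqa : ∀ v, ρ a (ρ c v - v) = ρ c v - v) :
    ∀ k ∈ K, c * k = k * c := by
  by_contra hnc
  push_neg at hnc
  set K' := MulAut.conj a • K with hK'
  have hK'c : Cfsg.IsComponent K' := isComponent_conj_smul hK a
  have hne : K' ≠ K := conj_smul_ne_self haK
  have hcK' : c ∈ Subgroup.normalizer (K' : Set G) := by
    rw [← conj_smul_eq_self_iff, hK', conj_smul_conj_smul, ← hac, ← conj_smul_conj_smul,
      conj_smul_of_mem_normalizer hcK]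
  have hnc' : ∃ k ∈ K', c * k ≠ k * c := by
    obtain ⟨k, hk, hk'⟩ := hnc
    refine ⟨a * k * a⁻¹, conj_mem_conj_smul hk, fun e => hk' ?_⟩
    have : a * (c * k) * a⁻¹ = a * (k * c) * a⁻¹ := by
      calc a * (c * k) * a⁻¹ = (a * c) * k * a⁻¹ := by group
        _ = c * (a * k * a⁻¹) := by rw [hac]; group
        _ = a * k * a⁻¹ * c := e
        _ = a * (k * (a⁻¹ * (c * a))) * a⁻¹ := by group
        _ = a * (k * c) * a⁻¹ := by rw [← hac]; group
    exact mul_left_cancel (mul_right_cancel this)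
  have hinv : ∀ g : G, (∀ v, ρ g (ρ g v - v) = ρ g v - v) → ∀ v, ρ g⁻¹ v = v + v - ρ g v := by
    intro g hg v
    refine rho_inj ρ (g := g) ?_
    have := hg v
    rw [map_sub, sub_eq_iff_eq_add] at this
    rw [rho_self_inv, map_sub, map_add, this]; abel
  have hconj : ∀ x v, ρ (x * c * x⁻¹) (ρ (x * c * x⁻¹) v - v) = ρ (x * c * x⁻¹) v - v := by
    intro x v
    have := congrArg (ρ x) (hqc (ρ x⁻¹ v))
    simpa [rho_mul, map_sub] using this
  have hde : ∀ x ∈ K, ∀ y ∈ K', ∀ w,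
      ρ (y * c * y⁻¹ * c⁻¹) (ρ (x * c * x⁻¹ * c⁻¹) w - w) = ρ (x * c * x⁻¹ * c⁻¹) w - w := by
    intro x hx y hy w
    set d := x * c * x⁻¹ * c⁻¹ with hd
    set e := y * c * y⁻¹ * c⁻¹ with he
    have hdK : d ∈ K := by
      have := K.mul_mem hx ((Subgroup.mem_normalizer_iff.1 hcK _).1 (K.inv_mem hx))
      simpa [hd, mul_assoc] using this
    have heK : e ∈ K' := by
      have := K'.mul_mem hy ((Subgroup.mem_normalizer_iff.1 hcK' _).1 (K'.inv_mem hy))
      simpa [he, mul_assoc] using this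
    have cde := comm_of_components hK hK'c hne.symm hdK heK
    have hxy := comm_of_components hK hK'c hne.symm hx heK
    have e1 : d * c = x * c * x⁻¹ := by rw [hd]; group
    have e2 : e * c = y * c * y⁻¹ := by rw [he]; group
    have e3 : d * e * c = (x * y) * c * (x * y)⁻¹ := by
      calc d * e * c = e * (d * c) := by rw [cde]; group
        _ = (e * x) * c * x⁻¹ := by rw [e1]; group
        _ = (x * e) * c * x⁻¹ := by rw [hxy]
        _ = (x * y) * c * (x * y)⁻¹ := by rw [he]; group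
    obtain ⟨v, rfl⟩ : ∃ v, ρ d⁻¹ v = w := ⟨ρ d w, rho_inv_self ρ d w⟩
    have qd := hinv (d * c) (e1 ▸ hconj x) v
    have qe := hinv (e * c) (e2 ▸ hconj y) (ρ d⁻¹ v)
    have qde := hinv (d * e * c) (e3 ▸ hconj (x * y)) v
    have qc := hinv c hqc (ρ d⁻¹ v)
    simp only [mul_inv_rev, rho_mul] at qd qe qde
    rw [qe] at qde
    rw [qc, sub_eq_iff_eq_add] at qd
    have hED : ρ d (ρ e (ρ c v)) = ρ e (ρ d (ρ c v)) := by rw [← rho_mul, cde, rho_mul]
    rw [hED] at qde
    have qd' : ρ c (ρ d⁻¹ v) = ρ d⁻¹ v + ρ d⁻¹ v - (v + v) + ρ d (ρ c v) := by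
      rw [qd]; abel
    rw [qd', map_add, map_sub, map_add, map_add] at qde
    have hz : (ρ e (ρ d⁻¹ v - v) - (ρ d⁻¹ v - v)) + (ρ e (ρ d⁻¹ v - v) - (ρ d⁻¹ v - v)) = 0 := by
      rw [sub_eq_sub_iff_add_eq_add] at qde
      rw [map_sub, ← sub_eq_zero.2 qde.symm]
      abel
    rw [rho_self_inv, ← neg_sub (ρ d⁻¹ v), map_neg, sub_eq_zero.1 (eq_zero_of_add_self (p := p) hp hz)]
  have hKK' : ∀ k ∈ K, ∀ l ∈ K', ∀ w, ρ l (ρ k w - w) = ρ k w - w := by
    intro k hk l hl w
    let S : G → Subgroup G := fun e =>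
      { carrier := {k | ∀ w, ρ e (ρ k w - w) = ρ k w - w}
        one_mem' := fun w => by simp
        mul_mem' := fun {g h} hg hh w => by
          have e1 : ρ (g * h) w - w = (ρ g (ρ h w) - ρ h w) + (ρ h w - w) := by rw [rho_mul]; abel
          rw [e1, map_add, hg, hh]
        inv_mem' := fun {g} hg w => by
          have h1 := hg (ρ g⁻¹ w)
          rw [rho_self_inv, ← neg_sub (ρ g⁻¹ w), map_neg, neg_inj] at h1
          exact h1 }
    have hall : K' ≤ pointFix ρ {u | ∃ k ∈ K, ∃ w, ρ k w - w = u} := by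
      refine le_of_commutators hK'c.2 hcK' hnc' fun y hy => (mem_pointFix ρ).2 ?_
      rintro _ ⟨k, hk, w, rfl⟩
      exact (le_of_commutators (J := S (y * c * y⁻¹ * c⁻¹)) hK.2 hcK hnc
        fun x hx => hde x hx y hy) hk w
    exact (mem_pointFix ρ).1 (hall hl) _ ⟨k, hk, w, rfl⟩
  set gens : Set V := {u | ∃ k ∈ K, ∃ w, ρ k w - w = u} with hgens
  set U := AddSubgroup.closure gens with hU
  have hK'U : ∀ l ∈ K', ∀ u ∈ U, ρ l u = u := by
    intro l hl u hu
    have : U ≤ fixSet ρ {l} := by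
      rw [hU, AddSubgroup.closure_le]
      rintro _ ⟨k, hk, w, rfl⟩
      refine (mem_fixSet ρ).2 fun g hg => ?_
      rw [Set.mem_singleton_iff] at hg
      rw [hg]; exact hKK' k hk l hl w
    exact (mem_fixSet ρ).1 (this hu) l rfl
  have hstab : ∀ g : G, (∀ k ∈ K, g * k * g⁻¹ ∈ K) → ∀ u ∈ U, ρ g u ∈ U := by
    intro g hg u hu
    have : U ≤ U.comap (ρ g).toAddMonoidHom := by
      conv_lhs => rw [hU]
      rw [AddSubgroup.closure_le]
      rintro _ ⟨k, hk, w, rfl⟩
      refine AddSubgroup.subset_closure ⟨g * k * g⁻¹, hg k hk, ρ g w, ?_⟩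
      simp [rho_mul, map_sub]
    exact this hu
  have hKU : ∀ k ∈ K, ∀ u ∈ U, ρ k u ∈ U := fun k hk =>
    hstab k fun l hl => K.mul_mem (K.mul_mem hk hl) (K.inv_mem hk)
  have hcU : ∀ u ∈ U, ρ c u ∈ U :=
    hstab c fun k hk => (Subgroup.mem_normalizer_iff.1 hcK k).1 hk
  have hc'U : ∀ u ∈ U, ρ c⁻¹ u ∈ U := hstab c⁻¹ fun k hk =>
    (Subgroup.mem_normalizer_iff.1 ((Subgroup.normalizer (K : Set G)).inv_mem hcK) k).1 hk
  set Z := U ⊓ fixSet ρ (K : Set G) with hZ
  have hcZ : ∀ u ∈ U, ρ c u - u ∈ Z := by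
    intro u hu
    have hw : ρ c u - u ∈ U := AddSubgroup.sub_mem _ (hcU u hu) hu
    refine ⟨hw, (mem_fixSet ρ).2 fun k hk => ?_⟩
    have h1 := hqa u
    have h2 := hK'U (a * k * a⁻¹) (conj_mem_conj_smul hk) _ hw
    refine rho_inj ρ (g := a) ?_
    rw [h1]
    calc ρ a (ρ k (ρ c u - u)) = ρ (a * k * a⁻¹) (ρ a (ρ c u - u)) := by simp [rho_mul]
      _ = _ := by rw [h1]; exact h2
  have hKmod : ∀ k ∈ K, ∀ u ∈ U, ρ k u - u ∈ Z := by
    let S : Subgroup G :=
      { carrier := {g | g ∈ K ∧ ∀ u ∈ U, ρ g u - u ∈ Z}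
        one_mem' := ⟨K.one_mem, fun u _ => by simp [AddSubgroup.zero_mem]⟩
        mul_mem' := fun {g h} hg hh => ⟨K.mul_mem hg.1 hh.1, fun u hu => by
          have e1 : ρ (g * h) u - u = (ρ g (ρ h u) - ρ h u) + (ρ h u - u) := by rw [rho_mul]; abel
          rw [e1]
          exact AddSubgroup.add_mem _ (hg.2 _ (hKU h hh.1 u hu)) (hh.2 u hu)⟩
        inv_mem' := fun {g} hg => ⟨K.inv_mem hg.1, fun u hu => by
          have h1 := hg.2 u hu
          have h2 : ρ g⁻¹ (ρ g u - u) = ρ g u - u := (mem_fixSet ρ).1 h1.2 _ (K.inv_mem hg.1)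
          rw [map_sub, rho_inv_self] at h2
          have e1 : ρ g⁻¹ u - u = -(ρ g u - u) := by rw [← h2]; abel
          rw [e1]; exact AddSubgroup.neg_mem _ h1⟩ }
    intro k hk u hu
    refine ((le_of_commutators (J := S) hK.2 hcK hnc fun x hx => ⟨?_, fun u hu => ?_⟩) hk).2 u hu
    · have := K.mul_mem hx ((Subgroup.mem_normalizer_iff.1 hcK _).1 (K.inv_mem hx))
      simpa [mul_assoc] using this
    · set z₁ := ρ c⁻¹ u - u with hz₁
      have hz₁Z : z₁ ∈ Z := by
        have h1 := hcZ _ (hc'U u hu)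
        rw [rho_self_inv] at h1
        rw [hz₁, ← neg_sub]; exact AddSubgroup.neg_mem _ h1
      set u' := ρ x⁻¹ u with hu'
      set z₂ := ρ c u' - u' with hz₂
      have hz₂Z : z₂ ∈ Z := hcZ _ (hKU _ (K.inv_mem hx) u hu)
      have hcz₁ : ρ c z₁ ∈ Z := by
        have h1 := AddSubgroup.add_mem _ (hcZ _ hz₁Z.1) hz₁Z
        rwa [sub_add_cancel] at h1
      have e1 : ρ (x * c * x⁻¹ * c⁻¹) u - u = z₂ + ρ c z₁ := by
        have hs : ρ (x * c * x⁻¹ * c⁻¹) u = ρ x (ρ c (ρ x⁻¹ (u + z₁))) := by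
          simp [rho_mul, hz₁]
        have h3 : ρ x⁻¹ (u + z₁) = u' + z₁ := by
          rw [map_add, (mem_fixSet ρ).1 hz₁Z.2 _ (K.inv_mem hx)]
        have h4 : ρ c (u' + z₁) = u' + (z₂ + ρ c z₁) := by rw [map_add, hz₂]; abel
        have h5 : ρ x (z₂ + ρ c z₁) = z₂ + ρ c z₁ :=
          (mem_fixSet ρ).1 (AddSubgroup.add_mem _ hz₂Z hcz₁).2 _ hx
        rw [hs, h3, h4, map_add, h5, hu', rho_self_inv]; abel
      rw [e1]
      exact AddSubgroup.add_mem _ hz₂Z hcz₁
  have hU1 := trivial_of_chain ρ hK.2 (U := U) fun l hl k hk u hu =>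
    (mem_fixSet ρ).1 (hKmod k hk u hu).2 l hl
  have hV1 := trivial_of_chain ρ hK.2 (U := (⊤ : AddSubgroup V)) fun l hl k hk u _ =>
    hU1 l hl _ (AddSubgroup.subset_closure ⟨k, hk, u, rfl⟩)
  obtain ⟨k, hk, hk'⟩ := hnc
  exact hk' (by rw [eq_one_of_fix ρ hf fun v => hV1 k hk v trivial, mul_one, one_mul])

end Main

end CfsgLib.Local.PGV
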