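import Cfsg.Agent.Lib.LocalPGV

/-!
The characteristic 2 part of the P(G,V)-theorem.
-/

set_option autoImplicit false

namespace CfsgLib.Local.PGV

open scoped Pointwise commutatorElement
open CfsgLib.Core

variable {G : Type*} [Group G] [Finite G] {V : Type*} [AddCommGroup V]
  [Finite V] [Module (ZMod 2) V] (ρ : Representation (ZMod 2) G V)

theorem add_self (v : V) : v + v = 0 := by
  haveI : Fact (Nat.Prime 2) := ⟨Nat.prime_two⟩
  rw [← two_nsmul]; exact p_nsmul (p := 2) v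

theorem sub_eq_add' (a b : V) : a - b = a + b := by
  rw [sub_eq_add_neg, neg_eq_of_add_eq_zero_right (add_self b)]

theorem add_eq_zero_iff' {a b : V} : a + b = 0 ↔ a = b := by
  rw [← sub_eq_add', sub_eq_zero]

theorem eq_of_sq_fixed {g : G} (hg : Odd (orderOf g)) {v : V} (h : ρ g (ρ g v) = v) : ρ g v = v := by
  obtain ⟨j, hj⟩ := hg
  have h1 : ∀ n : ℕ, ρ (g ^ (2 * n)) v = v := by
    intro n
    induction n with
    | zero => simp
    | succ n ih => rw [show 2 * (n + 1) = 2 * n + 1 + 1 by ring, pow_succ, pow_succ, rho_mul, rho_mul, h, ih]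
  conv_rhs => rw [← rho_one ρ v, ← pow_orderOf_eq_one g, hj, pow_succ', rho_mul, h1]

/-- The decomposition of an invariant subgroup by a coprime element. -/
theorem exists_decomp {g : G} (hg : Odd (orderOf g)) (T : AddSubgroup V)
    (hT : ∀ v ∈ T, ρ g v ∈ T) {v : V} (hv : v ∈ T) :
    ∃ q, q ∈ T ∧ ρ g q = q ∧ ∃ z ∈ T, q + (ρ g z - z) = v := by
  haveI : Fact (Nat.Prime 2) := ⟨Nat.prime_two⟩
  set R : AddSubgroup V := T.map (comm ρ g)
  have hRT : R ≤ T := by
    rintro _ ⟨z, hz, rfl⟩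
    exact AddSubgroup.sub_mem _ (hT z hz) hz
  let f : ↥R → ↥R := fun r => ⟨ρ g (r : V) - r, ⟨r, hRT r.2, rfl⟩⟩
  have hf : Function.Injective f := by
    intro a b h
    have h1 : ρ g ((a : V) - b) = (a : V) - b := by
      have h2 : ρ g (a : V) - a = ρ g (b : V) - b := congrArg Subtype.val h
      rw [map_sub, sub_eq_sub_iff_add_eq_add, add_comm (ρ g (a : V)), add_comm (a : V)]
      rw [sub_eq_sub_iff_add_eq_add] at h2
      rw [add_comm (b : V), h2]
    obtain ⟨z, hz, hzd⟩ := AddSubgroup.sub_mem R a.2 b.2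
    rw [comm_apply] at hzd
    rw [← hzd] at h1
    have h3 := fixed_of_sub_fixed ρ (Nat.coprime_two_right.2 hg) h1
    rw [h3, sub_self] at hzd
    exact Subtype.ext (sub_eq_zero.1 hzd.symm)
  obtain ⟨r, hr⟩ := (Finite.injective_iff_surjective.1 hf) ⟨ρ g v - v, ⟨v, hv, rfl⟩⟩
  obtain ⟨z, hz, hzr⟩ := r.2
  refine ⟨v - r, AddSubgroup.sub_mem _ hv (hRT r.2), ?_, z, hz, by rw [← comm_apply, hzr]; abel⟩
  have h2 : ρ g (r : V) - r = ρ g v - v := congrArg Subtype.val hr
  rw [sub_eq_sub_iff_add_eq_add] at h2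
  rw [map_sub, sub_eq_sub_iff_add_eq_add, ← h2]; abel

section Pair

variable {c a h h' : G} (T : AddSubgroup V)
  (ha2 : a * a = 1) (hc2 : c * c = 1) (hac : a * c = c * a) (hh' : h' = a * h * a)
  (hinv : c * h * c = h⁻¹) (hcomm : h * h' = h' * h)
  (hTa : ∀ v ∈ T, ρ a v ∈ T) (hTc : ∀ v ∈ T, ρ c v ∈ T) (hTh : ∀ v ∈ T, ρ h v ∈ T)
  (hq : ∀ v ∈ T, ρ a (ρ c v - v) = ρ c v - v)

include ha2 hh' hTa hTh in
theorem pair_stable : ∀ v ∈ T, ρ h' v ∈ T := fun v hv => by
  rw [hh', rho_mul, rho_mul]; exact hTa _ (hTh _ (hTa v hv))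

theorem inv_stable {g : G} (hg : ∀ v ∈ T, ρ g v ∈ T) : ∀ v ∈ T, ρ g⁻¹ v ∈ T := by
  intro v hv
  let f : ↥T → ↥T := fun u => ⟨ρ g (u : V), hg u u.2⟩
  have hf : Function.Injective f := fun a b h => Subtype.ext (rho_inj ρ (congrArg Subtype.val h))
  obtain ⟨u, hu⟩ := (Finite.injective_iff_surjective.1 hf) ⟨v, hv⟩
  have hu' : ρ g (u : V) = v := congrArg Subtype.val hu
  rw [← hu', rho_inv_self]; exact u.2

include ha2 hc2 hh' hinv hcomm hTc hTh hq in
theorem pair_relation : ∀ v ∈ T,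
    ρ (h' * h) (ρ a v) + ρ (h' * h) (ρ c v) + ρ (h' * h) v + ρ (h * h'⁻¹) (ρ a v) +
      ρ (h * h) (ρ c v) + v = 0 := by
  intro v hv
  have hai : a⁻¹ = a := inv_eq_of_mul_eq_one_right ha2
  have hv' : ρ h⁻¹ v ∈ T := inv_stable ρ T hTh v hv
  have h1 := congrArg (ρ h) (hq _ hv')
  have e1 : h * a * h⁻¹ = h * h'⁻¹ * a := by
    rw [hh', mul_inv_rev, mul_inv_rev, hai]
    calc h * a * h⁻¹ = h * a * h⁻¹ * (a * a) := by rw [ha2, mul_one]
      _ = _ := by group
  have e2 : h * c * h⁻¹ = h * h * c := by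
    have : c * h⁻¹ = h * c := by
      have := congrArg Inv.inv hinv
      simp only [mul_inv_rev, inv_inv, inv_eq_of_mul_eq_one_right hc2] at this
      calc c * h⁻¹ = c * h⁻¹ * (c * c) := by rw [hc2, mul_one]
        _ = c * (h⁻¹ * c) * c := by group
        _ = h * c := by rw [this]
    rw [mul_assoc h c, this, mul_assoc]
  have e3 : h * a * c * h⁻¹ = (h' * h) * (a * c) := by
    have hx : a * h * h = h' * h' * a := by
      rw [hh']
      calc a * h * h = a * h * (a * a) * h * (a * a) := by rw [ha2, mul_one, mul_one]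
        _ = _ := by group
    calc h * a * c * h⁻¹ = (h * a * h⁻¹) * (h * c * h⁻¹) := by group
      _ = h * h'⁻¹ * (a * h * h) * c := by rw [e1, e2]; group
      _ = (h * h') * (a * c) := by rw [hx]; group
      _ = _ := by rw [hcomm]
  have hL : ρ h (ρ a (ρ c (ρ h⁻¹ v))) = ρ (h' * h) (ρ a v) + ρ (h' * h) (ρ c v) + ρ (h' * h) v := by
    have hacv : ρ a (ρ c v) = ρ a v + ρ c v + v := by
      have := hq v hv
      rw [sub_eq_add', map_add] at this
      calc ρ a (ρ c v) = ρ a (ρ c v) + ρ a v + ρ a v := by rw [add_assoc, add_self, add_zero]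
        _ = _ := by rw [this]; abel
    calc ρ h (ρ a (ρ c (ρ h⁻¹ v))) = ρ (h * a * c * h⁻¹) v := by simp [rho_mul]
      _ = ρ (h' * h) (ρ a (ρ c v)) := by rw [e3]; simp [rho_mul]
      _ = _ := by rw [hacv, map_add, map_add]
  simp only [sub_eq_add', map_add, rho_self_inv] at h1
  rw [hL] at h1
  have h2 : ρ h (ρ a (ρ h⁻¹ v)) = ρ (h * h'⁻¹) (ρ a v) := by
    rw [← rho_mul, ← rho_mul, ← rho_mul, ← e1]
  have h3 : ρ h (ρ c (ρ h⁻¹ v)) = ρ (h * h) (ρ c v) := by
    rw [← rho_mul, ← rho_mul, ← rho_mul, ← e2]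
  rw [h2, h3] at h1
  rw [← add_eq_zero_iff'] at h1
  rw [← h1]; abel

include ha2 hc2 hac hh' hinv hcomm hTa hTc hTh hq in
/-- `h' h` fixes `u v - v` for `u = h' h⁻¹`. -/
theorem pair_product (hodd : Odd (orderOf h)) : ∀ v ∈ T,
    ρ (h' * h) (ρ (h' * h⁻¹) v - v) = ρ (h' * h⁻¹) v - v := by
  intro w hw
  have hodd' : Odd (orderOf h') := by
    rw [hh', show a * h * a = MulAut.conj a h by
      rw [MulAut.conj_apply, inv_eq_of_mul_eq_one_right ha2], MulEquiv.orderOf_eq]
    exact hodd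
  have hsodd : Odd (orderOf (h' * h)) :=
    (hodd'.mul hodd).of_dvd_nat (Commute.orderOf_mul_dvd_mul_orderOf hcomm.symm)
  set s := h' * h with hs
  have hsT : ∀ v ∈ T, ρ s v ∈ T := fun v hv => by
    rw [hs, rho_mul]; exact pair_stable ρ T ha2 hh' hTa hTh _ (hTh v hv)
  obtain ⟨v, hv, rfl⟩ : ∃ v ∈ T, ρ c v = w :=
    ⟨ρ c w, hTc w hw, by rw [← rho_mul, hc2, rho_one]⟩
  have hci : c⁻¹ = c := inv_eq_of_mul_eq_one_right hc2
  have hsa : s * a = a * s := by
    rw [hs, hh']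
    calc a * h * a * h * a = a * h * (a * h * a) := by group
      _ = a * (h * h') := by rw [← hh']; group
      _ = a * (h' * h) := by rw [hcomm]
      _ = _ := by rw [hh']
  have hinv' : c * h' * c = h'⁻¹ := by
    rw [hh', mul_inv_rev, mul_inv_rev, inv_eq_of_mul_eq_one_right ha2]
    calc c * (a * h * a) * c = (c * a) * h * (a * c) := by group
      _ = (a * c) * h * (c * a) := by rw [hac]
      _ = a * (c * h * c) * a := by group
      _ = _ := by rw [hinv]; group
  have hsc : c * s * c = s⁻¹ := by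
    rw [hs, mul_inv_rev]
    calc c * (h' * h) * c = (c * h' * c) * (c * h * c) := by
          calc c * (h' * h) * c = c * h' * 1 * h * c := by group
            _ = _ := by rw [← hc2]; group
      _ = h'⁻¹ * h⁻¹ := by rw [hinv', hinv]
      _ = h⁻¹ * h'⁻¹ := by rw [← mul_inv_rev, ← mul_inv_rev, hcomm]
  have hcs : c * s⁻¹ = s * c := by
    rw [← hsc]
    calc c * (c * s * c) = (c * c) * s * c := by group
      _ = s * c := by rw [hc2, one_mul]
  have hrel := pair_relation ρ T ha2 hc2 hh' hinv hcomm hTc hTh hq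
  simp only [← hs] at hrel
  have h1 := hrel v hv
  have h2 := congrArg (ρ s) (hrel _ (inv_stable ρ T hsT v hv))
  have hsh : s * h = h * s := by rw [hs, ← mul_assoc h h', hcomm]
  have hsh' : s * h' = h' * s := by rw [hs, mul_assoc, hcomm]; 
  have hmove : ∀ g, s * g = g * s → ∀ u, ρ s (ρ g u) = ρ g (ρ s u) := fun g hg u => by
    rw [← rho_mul, hg, rho_mul]
  have hA : ρ s (ρ a (ρ s⁻¹ v)) = ρ a v := by rw [hmove a hsa, rho_self_inv]
  have hC : ρ s (ρ c (ρ s⁻¹ v)) = ρ (s * s) (ρ c v) := by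
    rw [← rho_mul, ← rho_mul, ← rho_mul]; congr 2
    rw [mul_assoc, hcs, ← mul_assoc]
  have hst : s * (h * h'⁻¹) = (h * h'⁻¹) * s :=
    ((show Commute s h from hsh).mul_right (show Commute s h' from hsh').inv_right).eq
  have hsx : s * (h * h) = (h * h) * s := ((show Commute s h from hsh).mul_right hsh).eq
  simp only [map_add, map_zero, hmove s rfl, hmove _ hst, hmove _ hsx, hA, hC, rho_self_inv] at h2
  have h3 : ρ s (ρ c v) + ρ (h * h) (ρ c v) + (ρ s (ρ (s * s) (ρ c v)) + ρ (h * h) (ρ (s * s) (ρ c v))) = 0 := by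
    have e := congrArg₂ (· + ·) h1 h2
    simp only [add_zero] at e
    rw [← e]
    have hdup : ∀ (A B S T' U W S' U' : V), A + S + B + T' + U + W + (A + S' + B + T' + U' + W) =
        S + U + (S' + U') + ((A + A) + (B + B) + (T' + T') + (W + W)) := by
      intros; abel
    rw [hdup]; simp only [add_self, add_zero]
  set w := ρ c v with hwdef
  set z := ρ (s * s) w + w with hz
  have h4 : ρ s z = ρ (h * h) z := by
    rw [← add_eq_zero_iff', hz, map_add, map_add, ← h3]; abel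
  -- `s = h' h`, so `h' z = h z`
  have h5 : ρ h' z = ρ h z := by
    refine rho_inj ρ (g := h) ?_
    rw [← rho_mul, ← rho_mul, hcomm]; exact h4
  have h6 : ρ (h' * h⁻¹) z = z := by
    have hc' : h' * h⁻¹ = h⁻¹ * h' := (show Commute h' h from hcomm.symm).inv_right.eq
    rw [hc', rho_mul, h5, rho_inv_self]
  -- so `y = u w - w` is fixed by `s * s`
  set y := ρ (h' * h⁻¹) w - w with hy
  refine eq_of_sq_fixed ρ hsodd ?_
  have hsu : s * (h' * h⁻¹) = (h' * h⁻¹) * s :=
    ((show Commute s h' from hsh').mul_right (show Commute s h from hsh).inv_right).eq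
  rw [hy, sub_eq_add', map_add, map_add, hmove _ hsu, hmove _ hsu]
  have h7 : ρ (h' * h⁻¹) (ρ s (ρ s w)) + ρ (h' * h⁻¹) w = ρ s (ρ s w) + w := by
    rw [← map_add, ← rho_mul ρ s s]; exact h6
  rw [← add_eq_zero_iff']
  rw [← add_eq_zero_iff'] at h7
  rw [← h7]; abel

include ha2 hc2 hac hh' hinv hcomm hTa hTc hTh hq in
theorem pair_fixed (hodd : Odd (orderOf h)) : ∀ v ∈ T, (ρ h v = v ↔ ρ h' v = v) := by
  haveI : Fact (Nat.Prime 2) := ⟨Nat.prime_two⟩
  have key : ∀ v ∈ T, ρ h v = v → ρ h' v = v := by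
    intro v hv hfix
    have h1 := pair_product ρ T ha2 hc2 hac hh' hinv hcomm hTa hTc hTh hq hodd v hv
    have hi : ρ h⁻¹ v = v := by conv_lhs => rw [← hfix, rho_inv_self]
    rw [rho_mul, rho_mul, hi, map_sub, map_sub, hfix, ← rho_mul ρ h h', hcomm, rho_mul, hfix, ← map_sub] at h1
    refine fixed_of_sub_fixed ρ ?_ h1
    rw [hh', show a * h * a = MulAut.conj a h by
      rw [MulAut.conj_apply, inv_eq_of_mul_eq_one_right ha2], MulEquiv.orderOf_eq]
    exact Nat.coprime_two_right.2 hodd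
  intro v hv
  refine ⟨key v hv, fun hfix => ?_⟩
  have e : h' * a = a * h := by rw [hh', mul_assoc, mul_assoc, ha2, mul_one]
  have e' : h * a = a * h' := by rw [hh', ← mul_assoc, ← mul_assoc, ha2, one_mul]
  have h1 : ρ h (ρ a v) = ρ a v := by rw [← rho_mul, e', rho_mul, hfix]
  have h2 := key _ (hTa v hv) h1
  rw [← rho_mul, e, rho_mul] at h2
  exact rho_inj ρ h2

variable (hfp : ∀ v ∈ T, ρ h v = v → v = 0)

include ha2 hh' hinv hcomm hTa hTc hTh hq hc2 hac hfp in
theorem pair_plus (hodd : Odd (orderOf h)) : ∀ v ∈ T, ρ h' v = ρ h v → ρ a v = v := by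
  intro v hv hu
  have hrel := pair_relation ρ T ha2 hc2 hh' hinv hcomm hTc hTh hq v hv
  have hinv' : c * h' * c = h'⁻¹ := by
    rw [hh', mul_inv_rev, mul_inv_rev, inv_eq_of_mul_eq_one_right ha2]
    calc c * (a * h * a) * c = (c * a) * h * (a * c) := by group
      _ = (a * c) * h * (c * a) := by rw [hac]
      _ = a * (c * h * c) * a := by group
      _ = _ := by rw [hinv]; group
  have hai : a⁻¹ = a := inv_eq_of_mul_eq_one_right ha2
  have hci : c⁻¹ = c := inv_eq_of_mul_eq_one_right hc2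
  -- `a v` and `c v` are plus vectors too
  have hua : ρ h' (ρ a v) = ρ h (ρ a v) := by
    have h1 := congrArg (ρ a) hu
    rw [← rho_mul, ← rho_mul] at h1 ⊢
    rw [show h' * a = a * h by rw [hh', mul_assoc, mul_assoc, ha2, mul_one],
      show h * a = a * h' by rw [hh', ← mul_assoc, ← mul_assoc, ha2, one_mul]]
    exact h1.symm
  have hinvcv : ∀ x : G, c * x * c = x⁻¹ → ∀ u, ρ x⁻¹ (ρ c u) = ρ c (ρ x u) := fun x hx u => by
    rw [← rho_mul, ← rho_mul]
    congr 2
    rw [← hx]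
    calc c * x * c * c = c * x * (c * c) := by group
      _ = c * x := by rw [hc2, mul_one]
  have huc : ρ h' (ρ c v) = ρ h (ρ c v) := by
    have h1 := congrArg (ρ c) hu
    rw [← hinvcv h' hinv', ← hinvcv h hinv] at h1
    -- h1 : h'⁻¹ (c v) = h⁻¹ (c v)
    have h2 := congrArg (ρ (h' * h)) h1
    have e1 : h' * h * h'⁻¹ = h := by rw [← hcomm]; group
    have e2 : h' * h * h⁻¹ = h' := by group
    rw [← rho_mul ρ (h' * h) h'⁻¹, ← rho_mul ρ (h' * h) h⁻¹, e1, e2] at h2
    exact h2.symm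
  have hz : ∀ z, ρ h' z = ρ h z → ρ (h' * h) z = ρ (h * h) z ∧ ρ (h * h'⁻¹) z = z := by
    intro z hz
    refine ⟨?_, ?_⟩
    · rw [← hcomm, rho_mul, hz, rho_mul]
    · have : h * h'⁻¹ = h'⁻¹ * h := (show Commute h h' from hcomm).inv_right.eq
      rw [this, rho_mul, ← hz, rho_inv_self]
  rw [(hz _ hua).1, (hz _ huc).1, (hz _ hu).1, (hz _ hua).2] at hrel
  set y := ρ a v + v with hy
  have h8 : ρ (h * h) y = y := by
    rw [← add_eq_zero_iff', hy, map_add]
    rw [← hrel]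
    have : ∀ (A B C D : V), A + B + C + D + B + v = A + C + (D + v) + (B + B) := by intros; abel
    rw [this, add_self, add_zero]
  rw [rho_mul] at h8
  have h9 := hfp y (AddSubgroup.add_mem _ (hTa v hv) hv) (eq_of_sq_fixed ρ hodd h8)
  rwa [hy, add_eq_zero_iff'] at h9

end Pair

end CfsgLib.Local.PGV
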