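import Cfsg.Agent.Lib.QuadPairSection
import Cfsg.Prelude.Def_PLocal
import Mathlib.FieldTheory.Finite.Basic

/-!
# `p`-stability from the absence of sections `SL₂(p)`
-/

set_option autoImplicit false

universe u v

namespace CfsgLib.PStableTwo

open Subgroup
open CfsgLib.Dickson
open scoped commutatorElement

variable {p : ℕ} [hp : Fact p.Prime]

/-- `G` has a subgroup mapping onto `SL₂(p)`. -/
def HasSL (p : ℕ) [Fact p.Prime] (G : Type u) [Group G] : Prop :=
  ∃ (K : Subgroup G) (ψ : K →* SL (ZMod p)), Function.Surjective ψ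

theorem HasSL.of_subgroup {G : Type u} [Group G] {N : Subgroup G} (h : HasSL p N) : HasSL p G := by
  obtain ⟨K, ψ, hψ⟩ := h
  exact ⟨K.map N.subtype,
    ψ.comp (K.equivMapOfInjective N.subtype N.subtype_injective).symm.toMonoidHom,
    hψ.comp (MulEquiv.surjective _)⟩

theorem HasSL.of_surjective {G : Type u} [Group G] {H : Type v} [Group H] (f : G →* H)
    (hf : Function.Surjective f) (h : HasSL p H) : HasSL p G := by
  obtain ⟨K, ψ, hψ⟩ := h
  exact ⟨K.comap f, ψ.comp (f.subgroupComap K),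
    hψ.comp (f.subgroupComap_surjective_of_surjective K hf)⟩

theorem HasSL.of_section {G : Type u} [Group G] {K L : Subgroup G} [(L.subgroupOf K).Normal]
    (e : (K ⧸ L.subgroupOf K) ≃* SL (ZMod p)) : HasSL p G :=
  ⟨K, e.toMonoidHom.comp (QuotientGroup.mk' _),
    e.surjective.comp (QuotientGroup.mk'_surjective _)⟩

theorem not_abelian_two (hp2 : p ≠ 2) {G : Type u} [Group G] [Finite G] (h : HasSL p G)
    (T : Sylow 2 G) : ¬ IsMulCommutative T := by
  intro hT
  obtain ⟨K, ψ, hψ⟩ := h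
  haveI : Fact (Nat.Prime 2) := ⟨Nat.prime_two⟩
  -- two elements of a quaternion subgroup
  obtain ⟨a, b, hab⟩ := ZMod.sq_add_sq p (-1)
  obtain ⟨x, hx⟩ : ∃ x : SL (ZMod p), x.1 = !![0, -1; 1, 0] :=
    ⟨⟨_, by simp [Matrix.det_fin_two]⟩, rfl⟩
  obtain ⟨y, hy⟩ : ∃ y : SL (ZMod p), y.1 = !![a, b; b, -a] :=
    ⟨⟨_, by rw [Matrix.det_fin_two]; simp; linear_combination -hab⟩, rfl⟩
  have hyi : y⁻¹.1 = !![-a, -b; -b, a] := by
    rw [Matrix.SpecialLinearGroup.coe_inv, hy, Matrix.adjugate_fin_two]; simp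
  have hxy : x * y = y⁻¹ * x := by
    refine sl_ext ?_ ?_ ?_ ?_ <;>
      simp [hx, hy, hyi, Matrix.mul_apply, Fin.sum_univ_two, Matrix.adjugate_fin_two]
  have hne : x * y ≠ y * x := by
    intro e
    have e1 := congrArg (fun g : SL (ZMod p) => g.1 0 0) e
    have e2 := congrArg (fun g : SL (ZMod p) => g.1 0 1) e
    simp [hx, hy, Matrix.mul_apply, Fin.sum_univ_two] at e1 e2
    have h2 := two_ne_zero_of_char (F := ZMod p) (p := p) hp2
    have hb : b = 0 := (mul_eq_zero_iff_left h2).mp (by linear_combination -e1)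
    have ha : a = 0 := (mul_eq_zero_iff_left h2).mp (by linear_combination e2)
    rw [ha, hb] at hab
    simp at hab
  have hpow : ∀ g : SL (ZMod p), g * g = -1 → g ^ (2 ^ 2) = 1 := fun g hg => by
    rw [show (2 : ℕ) ^ 2 = 2 + 2 from rfl, pow_add, sq, hg]; simp
  have hzp : ∀ g : SL (ZMod p), g * g = -1 → IsPGroup 2 (zpowers g) := fun g hg z => ⟨2, by
    obtain ⟨i, hi⟩ := z.2
    refine Subtype.ext ?_
    simp only [SubgroupClass.coe_pow, OneMemClass.coe_one, ← hi]
    rw [← zpow_natCast, ← zpow_mul, mul_comm, zpow_mul, zpow_natCast, hpow g hg, one_zpow]⟩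
  have hx2 : IsPGroup 2 (zpowers x) := hzp x (by
    refine sl_ext ?_ ?_ ?_ ?_ <;> simp [hx, Matrix.mul_apply, Fin.sum_univ_two])
  have hy2 : IsPGroup 2 (zpowers y) := hzp y (by
    refine sl_ext ?_ ?_ ?_ ?_ <;>
      simp [hy, Matrix.mul_apply, Fin.sum_univ_two] <;>
      (try linear_combination hab) <;> (try ring))
  have hn : zpowers x ≤ normalizer (zpowers y : Set (SL (ZMod p))) := by
    refine zpowers_le.mpr ?_
    have e : x * y * x⁻¹ = y⁻¹ := by rw [hxy, mul_inv_cancel_right]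
    refine mem_normalizer_fintype ?_
    rintro _ ⟨i, rfl⟩
    exact ⟨-i, by
      show y ^ (-i) = x * y ^ i * x⁻¹
      rw [← conj_zpow, e, inv_zpow, zpow_neg]⟩
  obtain ⟨P, hP⟩ := (hx2.to_sup_of_normal_right' hy2 hn).exists_le_sylow
  obtain ⟨Q, hQ⟩ := Sylow.mapSurjective_surjective hψ 2 P
  obtain ⟨R, hR⟩ := ((Q.2.map K.subtype).exists_le_sylow : ∃ R : Sylow 2 G, _)
  obtain ⟨g, hg⟩ := MulAction.exists_smul_eq G T R
  have hRc : IsMulCommutative (R : Subgroup G) := by
    rw [← hg]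
    exact ⟨⟨fun u v => ((T : Subgroup G).equivSMul (MulAut.conj g)).symm.injective (by
      rw [map_mul, map_mul]; exact hT.is_comm.comm _ _)⟩⟩
  obtain ⟨x', hx', hxe⟩ : x ∈ (Q : Subgroup K).map ψ := by
    rw [← Sylow.coe_mapSurjective hψ, hQ]; exact hP (mem_sup_left (mem_zpowers x))
  obtain ⟨y', hy', hye⟩ : y ∈ (Q : Subgroup K).map ψ := by
    rw [← Sylow.coe_mapSurjective hψ, hQ]; exact hP (mem_sup_right (mem_zpowers y))
  have h1 : x' * y' = y' * x' := Subtype.ext (congrArg (fun w : (R : Subgroup G) => (w : G))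
    (hRc.is_comm.comm (⟨(x' : G), hR ⟨x', hx', rfl⟩⟩ : (R : Subgroup G))
      ⟨(y' : G), hR ⟨y', hy', rfl⟩⟩))
  exact hne (by rw [← hxe, ← hye, ← map_mul, ← map_mul, h1])

theorem hasSL_of_unstable (hp2 : p ≠ 2) {G : Type u} [Group G] [Finite G] {V : Subgroup G}
    [V.Normal] (hV : IsPGroup p V) {a : G}
    (hq : ⁅⁅V, zpowers a⁆, zpowers a⁆ = ⊥)
    (hna : (QuotientGroup.mk a : G ⧸ centralizer (V : Set G)) ∉
      Cfsg.pCore p (G ⧸ centralizer (V : Set G))) : HasSL p G := by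
  set f := QuotientGroup.mk' (centralizer (V : Set G)) with hf
  obtain ⟨gb, hg⟩ : ∃ g, ¬ IsPGroup p (closure ({f a, g * f a * g⁻¹} : Set (G ⧸ centralizer (V : Set G)))) := by
    by_contra hc
    push Not at hc
    exact hna (CfsgLib.Core.baer_suzuki hc)
  obtain ⟨g, rfl⟩ := QuotientGroup.mk'_surjective (centralizer (V : Set G)) gb
  obtain ⟨wb, hw1, hwp⟩ := CfsgLib.QuadPair.exists_pprime_of_not_isPGroup hg
  have hmem := wb.2
  have himg : closure ({f a, f g * f a * (f g)⁻¹} : Set (G ⧸ centralizer (V : Set G))) =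
      (closure ({a, g * a * g⁻¹} : Set G)).map f := by
    rw [MonoidHom.map_closure, Set.image_pair, map_mul, map_mul, map_inv]
  obtain ⟨w, hw, hwe⟩ := himg.le hmem
  obtain ⟨e, m, hm, he⟩ :=
    Nat.exists_eq_pow_mul_and_not_dvd (orderOf_pos w).ne' p hp.out.ne_one
  have hN : ∀ z : G, z ∈ normalizer (V : Set G) := fun z => (normalizer_eq_top V) ▸ mem_top z
  obtain ⟨K, L, hL, -, ⟨iso⟩⟩ := CfsgLib.QuadPair.exists_section_of_pair hp2 hV (hN a)
    (hN (g * a * g⁻¹)) hq (CfsgLib.QuadPair.quad_conj (hN g) hq) (w := w ^ p ^ e)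
    (pow_mem hw _) (by
      rw [orderOf_pow, he, Nat.gcd_mul_right_left, Nat.mul_div_cancel_left m (pow_pos hp.out.pos e)]
      exact hm) (fun hc => hw1 (by
      have h1 : (wb : G ⧸ centralizer (V : Set G)) ^ p ^ e = 1 := by
        rw [← hwe, ← map_pow]
        exact (QuotientGroup.eq_one_iff _).mpr hc
      have h2 := orderOf_dvd_of_pow_eq_one h1
      rw [Subgroup.orderOf_coe] at h2
      exact orderOf_eq_one_iff.mp (Nat.Coprime.eq_one_of_dvd
        (((hp.out.coprime_iff_not_dvd).mpr hwp).symm.pow_right e) h2)))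
  haveI := hL
  exact HasSL.of_section iso

theorem isActionPStable (hp2 : p ≠ 2) {G : Type u} [Group G] [Finite G] (h : ¬ HasSL p G) :
    Cfsg.IsActionPStable p G := by
  refine ⟨fun V _ hV a ha => ?_, fun a ha => ?_, fun S V _ hV a ha => ?_⟩
  · by_contra hna
    exact h (hasSL_of_unstable hp2 (fun v => ⟨1, by
      rw [pow_one]; exact Subtype.ext (by simpa using hV.2 v v.2)⟩) ha hna)
  · haveI hQn : (Cfsg.pCore p G).Normal := CfsgLib.Core.normal_pCore p
    haveI hPhi : ((frattini ↥(Cfsg.pCore p G)).map (Cfsg.pCore p G).subtype).Normal :=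
      CfsgLib.Core.map_subtype_normal_of_characteristic hQn inferInstance
    set Φ := (frattini ↥(Cfsg.pCore p G)).map (Cfsg.pCore p G).subtype with hΦ
    set π := QuotientGroup.mk' Φ with hπ
    set W := (Cfsg.pCore p G).map π with hW
    haveI : W.Normal := hQn.map π (QuotientGroup.mk'_surjective Φ)
    set C := centralizer (W : Set (G ⧸ Φ)) with hC
    have hq : ⁅⁅W, zpowers (π a)⁆, zpowers (π a)⁆ = ⊥ := by
      rw [hW, ← MonoidHom.map_zpowers, ← Subgroup.map_commutator, ← Subgroup.map_commutator,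
        Subgroup.map_eq_bot_iff, hπ, QuotientGroup.ker_mk']
      exact ha
    have hmem : (QuotientGroup.mk (π a) : (G ⧸ Φ) ⧸ C) ∈ Cfsg.pCore p ((G ⧸ Φ) ⧸ C) := by
      by_contra hna
      exact h ((hasSL_of_unstable hp2 ((CfsgLib.Core.isPGroup_pCore p).map π) hq hna).of_surjective
        π (QuotientGroup.mk'_surjective Φ))
    set F := (QuotientGroup.mk' C).comp π with hF
    have hFs : Function.Surjective F :=
      (QuotientGroup.mk'_surjective C).comp (QuotientGroup.mk'_surjective Φ)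
    have hker : Cfsg.sectionKernel (Cfsg.pCore p G) Φ = F.ker := by
      rw [hF, ← MonoidHom.comap_ker, QuotientGroup.ker_mk']
      rfl
    haveI := CfsgLib.Core.normal_pCore (G := (G ⧸ Φ) ⧸ C) p
    refine ⟨(Cfsg.pCore p ((G ⧸ Φ) ⧸ C)).comap F, Subgroup.Normal.comap inferInstance F, ?_, ?_, hmem⟩
    · rw [hker]; exact Subgroup.ker_le_comap F _
    · rw [hker, Subgroup.relIndex_ker, Subgroup.map_comap_eq_self_of_surjective hFs]
      exact IsPGroup.iff_card.mp (CfsgLib.Core.isPGroup_pCore p)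
  · have hVp : IsPGroup p V :=
      (S.2.to_le (hV.trans (map_subtype_le _))).of_equiv
        (V.equivMapOfInjective _ (Subgroup.subtype_injective _)).symm
    by_contra hna
    exact h (hasSL_of_unstable hp2 hVp ha hna).of_subgroup

theorem not_hasSL_of_abelian (hp2 : p ≠ 2) {G : Type u} [Group G] [Finite G]
    (h : ∀ T : Sylow 2 G, IsMulCommutative T) : ¬ HasSL p G := fun hs =>
  not_abelian_two hp2 hs _ (h Classical.ofNonempty)

theorem not_hasSL_of_isPSolvable (hp5 : 5 ≤ p) {G : Type u} [Group G] [Finite G]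
    (h : Cfsg.IsPSolvable p G) : ¬ HasSL p G := fun ⟨_, ψ, hψ⟩ => by
  have := CfsgLib.QuadPair.three_of_isPSolvable (by omega : p ≠ 2) h ψ hψ
  omega

end CfsgLib.PStableTwo
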