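import Cfsg.Agent.Lib.LocalSylowJoin
import Cfsg.Agent.Lib.LocalKieler

/-!
Point stabilizers in groups of local characteristic `p`.
-/

set_option autoImplicit false

namespace CfsgLib.Local.PtStab

open Subgroup
open CfsgLib.Local.PRed
open scoped Pointwise

universe u

variable {G : Type u} [Group G] {p : ℕ}

theorem mem_centralizer_oz_subgroupOf {N X : Subgroup G} (hX : X ≤ N) (x : ↥N) :
    x ∈ centralizer (OZ p (X.subgroupOf N) : Set ↥N) ↔ (x : G) ∈ centralizer (OZ p X : Set G) := by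
  constructor
  · intro hx
    refine mem_centralizer_iff.mpr fun u hu => ?_
    obtain ⟨hu1, hu2, hu3⟩ := mem_oz.mp hu
    have : (⟨u, hX hu1⟩ : ↥N) ∈ OZ p (X.subgroupOf N) := mem_oz.mpr
      ⟨Subgroup.mem_subgroupOf.mpr hu1, mem_centralizer_iff.mpr fun t ht =>
        Subtype.ext (mem_centralizer_iff.mp hu2 t (Subgroup.mem_subgroupOf.mp ht)),
        Subtype.ext hu3⟩
    exact congrArg Subtype.val (mem_centralizer_iff.mp hx _ this)
  · intro hx
    refine mem_centralizer_iff.mpr fun u hu => Subtype.ext ?_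
    obtain ⟨hu1, hu2, hu3⟩ := mem_oz.mp hu
    refine mem_centralizer_iff.mp hx u.1 (mem_oz.mpr ⟨Subgroup.mem_subgroupOf.mp hu1,
      mem_centralizer_iff.mpr fun t ht => ?_, ?_⟩)
    · exact congrArg Subtype.val
        (mem_centralizer_iff.mp hu2 ⟨t, hX ht⟩ (Subgroup.mem_subgroupOf.mpr ht))
    · exact congrArg Subtype.val hu3

/-- One step of Kieler's lemma: `H ◁ K` with `K` subnormal. -/
theorem kieler_step [Finite G] [hp : Fact p.Prime] (hG : Cfsg.IsOfLocalCharacteristic p G)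
    (T : Sylow p G) {H K : Subgroup G} (hK : K.IsSubnormal) (hHK : H ≤ K)
    (hn : K ≤ normalizer (H : Set G)) (hne : (T : Subgroup G) ⊓ H ≠ ⊥) :
    H ⊓ centralizer (OZ p ((T : Subgroup G) ⊓ K) : Set G) =
      H ⊓ centralizer (OZ p ((T : Subgroup G) ⊓ H) : Set G) := by
  set S := (T : Subgroup G) ⊓ K with hS
  have hTS : (T : Subgroup G) ⊓ H ≤ S := inf_le_inf_left _ hHK
  have hSp : IsPGroup p ↥S := T.isPGroup'.to_le inf_le_left
  -- an element of order `p` in `OZ S ⊓ H`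
  set R := ((T : Subgroup G) ⊓ H).subgroupOf S with hR
  haveI hRn : R.Normal := subgroupOf_normal (CfsgLib.Core.le_normalizer_inf
    (inf_le_left.trans Subgroup.le_normalizer) (inf_le_right.trans hn))
  haveI : Nontrivial ↥R := (Subgroup.nontrivial_iff_ne_bot _).mpr fun h => hne
    ((Subgroup.subgroupOf_eq_bot.mp h).eq_bot_of_le hTS)
  have := hSp.isNilpotent
  have hI : R ⊓ Subgroup.center ↥S ≠ ⊥ :=
    CfsgLib.Core.nilpotent_inf_center_ne_bot ((Subgroup.nontrivial_iff_ne_bot R).mp inferInstance)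
  set I := R ⊓ Subgroup.center ↥S with hIdef
  have hdvd : p ∣ Nat.card ↥I := by
    obtain ⟨n, hn'⟩ := (hSp.to_subgroup I).exists_card_eq
    rcases Nat.eq_zero_or_pos n with h0 | h0
    · exact absurd (Subgroup.card_eq_one.mp (by rw [hn', h0, pow_zero])) hI
    · rw [hn']; exact dvd_pow_self p h0.ne'
  obtain ⟨w, hw⟩ := exists_prime_orderOf_dvd_card' (G := ↥I) p hdvd
  obtain ⟨hwR, hwC⟩ := Subgroup.mem_inf.mp w.2
  set z : G := ((w : ↥S) : G) with hz
  have hzo : orderOf z = p := by rw [hz, Subgroup.orderOf_coe, Subgroup.orderOf_coe]; exact hw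
  have hzH : z ∈ (T : Subgroup G) ⊓ H := Subgroup.mem_subgroupOf.mp hwR
  have hzcomm : ∀ t ∈ S, t * z = z * t := fun t ht =>
    congrArg Subtype.val (Subgroup.mem_center_iff.mp hwC ⟨t, ht⟩)
  have hzp : z ^ p = 1 := by rw [← hzo]; exact pow_orderOf_eq_one z
  have hz1 : z ∈ OZ p S := mem_oz.mpr ⟨hTS hzH, mem_centralizer_iff.mpr hzcomm, hzp⟩
  have hz2 : z ∈ OZ p ((T : Subgroup G) ⊓ H) :=
    mem_oz.mpr ⟨hzH, mem_centralizer_iff.mpr fun t ht => hzcomm t (hTS ht), hzp⟩
  set N := normalizer (Subgroup.zpowers z : Set G) with hN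
  have hNchar := hG.2 (Subgroup.zpowers z)
    (IsPGroup.of_card (n := 1) (by rw [Nat.card_zpowers, hzo, pow_one]))
    (fun h => hp.out.one_lt.ne' (by
      rw [Subgroup.zpowers_eq_bot] at h
      rw [← hzo, h, orderOf_one]))
  have hcen : ∀ x : G, x * z = z * x → x ∈ N := fun x hx => by
    refine (CfsgLib.Core.centralizer_le_normalizer (Subgroup.zpowers z))
      (mem_centralizer_iff.mpr fun u hu => ?_)
    obtain ⟨i, rfl⟩ := Subgroup.mem_zpowers_iff.mp hu
    exact ((Commute.zpow_right hx i).eq).symm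
  have hSN : S ≤ N := fun t ht => hcen t (hzcomm t ht)
  set K' := K.subgroupOf N with hK'
  set S' := S.subgroupOf N with hS'
  set H' := H.subgroupOf N with hH'
  obtain ⟨T'⟩ := (inferInstance : Nonempty (Sylow p ↥N))
  have hKc : CharP p K' := (kieler (charP_top hNchar) T' hK.subgroupOf).1
  have hSK : S' ≤ K' := Subgroup.comap_mono inf_le_right
  have hi : ¬ p ∣ S'.relIndex K' := by
    rw [hS', hK', ← Subgroup.inf_subgroupOf_right (H := K) (K := N),
      Subgroup.relIndex_subgroupOf inf_le_right]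
    intro hd
    refine CfsgLib.Local.SylJoin.not_dvd_relIndex_inf_subnormal T hK (hd.trans ?_)
    rw [← Subgroup.relIndex_mul_relIndex S (K ⊓ N) K (le_inf inf_le_right hSN) inf_le_left]
    exact Dvd.intro _ rfl
  have hk := kieler_normal (L := H') hKc hSK (isPGroup_subgroupOf hSp) hi
    (Subgroup.comap_mono hHK) (fun x hx => by
      refine Subgroup.mem_normalizer_iff.mpr fun y => ?_
      exact Subgroup.mem_normalizer_iff.mp (hn hx) y)
  have hinf : S' ⊓ H' = ((T : Subgroup G) ⊓ H).subgroupOf N := by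
    ext y
    simp only [hS', hH', hS, Subgroup.mem_subgroupOf, Subgroup.mem_inf]
    exact ⟨fun h => ⟨h.1.1, h.2⟩, fun h => ⟨⟨h.1, hHK h.2⟩, h.2⟩⟩
  rw [hinf] at hk
  ext x
  constructor
  · intro hx
    obtain ⟨hxH, hxc⟩ := Subgroup.mem_inf.mp hx
    have hxN := hcen x (mem_centralizer_iff.mp hxc z hz1).symm
    have h1 : (⟨x, hxN⟩ : ↥N) ∈ H' ⊓ centralizer (OZ p S' : Set ↥N) :=
      Subgroup.mem_inf.mpr ⟨hxH, (mem_centralizer_oz_subgroupOf hSN _).mpr hxc⟩
    rw [hk] at h1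
    exact Subgroup.mem_inf.mpr ⟨hxH,
      (mem_centralizer_oz_subgroupOf (hTS.trans hSN) _).mp (Subgroup.mem_inf.mp h1).2⟩
  · intro hx
    obtain ⟨hxH, hxc⟩ := Subgroup.mem_inf.mp hx
    have hxN := hcen x (mem_centralizer_iff.mp hxc z hz2).symm
    have h1 : (⟨x, hxN⟩ : ↥N) ∈ H' ⊓ centralizer
        (OZ p (((T : Subgroup G) ⊓ H).subgroupOf N) : Set ↥N) :=
      Subgroup.mem_inf.mpr ⟨hxH, (mem_centralizer_oz_subgroupOf (hTS.trans hSN) _).mpr hxc⟩
    rw [← hk] at h1
    exact Subgroup.mem_inf.mpr ⟨hxH,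
      (mem_centralizer_oz_subgroupOf hSN _).mp (Subgroup.mem_inf.mp h1).2⟩

/-- Kieler's lemma in a group of local characteristic `p`. -/
theorem kieler_local [Finite G] [hp : Fact p.Prime] (hG : Cfsg.IsOfLocalCharacteristic p G)
    (T : Sylow p G) {L : Subgroup G} (hL : L.IsSubnormal) (hne : (T : Subgroup G) ⊓ L ≠ ⊥) :
    L ⊓ centralizer (OZ p (T : Subgroup G) : Set G) =
      L ⊓ centralizer (OZ p ((T : Subgroup G) ⊓ L) : Set G) := by
  induction hL with
  | top => rw [inf_top_eq]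
  | step H K h_le hSubn hN ih =>
    have h1 := ih fun h0 => hne (le_bot_iff.mp (h0 ▸ inf_le_inf_left _ h_le))
    rw [← kieler_step hG T hSubn h_le
      ((Subgroup.normal_subgroupOf_iff_le_normalizer h_le).mp hN) hne]
    conv_lhs => rw [← inf_eq_left.mpr h_le, inf_assoc, h1, ← inf_assoc, inf_eq_left.mpr h_le]

/-- The generators of the point stabilizer. -/
def pEl (p : ℕ) (X : Subgroup G) : Set G := {x : G | x ∈ X ∧ ∃ k : ℕ, orderOf x = p ^ k}

/-- A subnormal subgroup of index prime to `p` contains every `p`-element. -/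
theorem mem_of_index [Finite G] [hp : Fact p.Prime] {J : Subgroup G} (hJ : J.IsSubnormal)
    {x : G} {k : ℕ} (hx : orderOf x = p ^ k) : ¬ p ∣ J.index → x ∈ J := by
  induction hJ with
  | top => exact fun _ => Subgroup.mem_top x
  | step H K h_le hSubn hN ih =>
    intro hi
    rw [← Subgroup.relIndex_mul_index h_le] at hi
    have hxK : x ∈ K := ih fun h => hi (h.mul_left _)
    haveI := hN
    have h1 := Subgroup.pow_index_mem (H.subgroupOf K) ⟨x, hxK⟩
    rw [Subgroup.mem_subgroupOf, show (H.subgroupOf K).index = H.relIndex K from rfl,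
      Subgroup.coe_pow] at h1
    obtain ⟨m, hm⟩ := exists_pow_eq_self_of_coprime (n := H.relIndex K) (x := x) (by
      rw [hx]
      exact Nat.Coprime.pow_right k
        ((hp.out.coprime_iff_not_dvd.mpr fun h => hi (h.mul_right _)).symm))
    rw [← hm]
    exact H.pow_mem h1 m

theorem closure_pEl_eq [Finite G] [hp : Fact p.Prime] (T : Sylow p G) {C L₁ L₂ : Subgroup G}
    (hTC : (T : Subgroup G) ≤ C) (h₁ : L₁.IsSubnormal) (h₂ : L₂.IsSubnormal) :
    Subgroup.closure (pEl p ((L₁ ⊔ L₂) ⊓ C)) =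
      Subgroup.closure (pEl p (L₁ ⊓ C)) ⊔ Subgroup.closure (pEl p (L₂ ⊓ C)) := by
  set L := L₁ ⊔ L₂ with hL
  set K := L ⊓ C with hK
  set J := Subgroup.closure (pEl p (L₁ ⊓ C)) ⊔ Subgroup.closure (pEl p (L₂ ⊓ C)) with hJ
  have hle : ∀ X : Subgroup G, X ≤ L → Subgroup.closure (pEl p (X ⊓ C)) ≤ K := fun X hX =>
    (Subgroup.closure_le _).mpr fun x hx => inf_le_inf_right C hX hx.1
  refine le_antisymm ((Subgroup.closure_le _).mpr fun x hx => ?_) (sup_le
    (Subgroup.closure_mono fun x hx => ⟨inf_le_inf_right C le_sup_left hx.1, hx.2⟩)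
    (Subgroup.closure_mono fun x hx => ⟨inf_le_inf_right C le_sup_right hx.1, hx.2⟩))
  have hsn : ∀ X : Subgroup G, X.IsSubnormal → X ≤ L →
      ((Subgroup.closure (pEl p (X ⊓ C))).subgroupOf K).IsSubnormal := by
    intro X hX hXL
    have h1 : (X ⊓ C).subgroupOf K = X.subgroupOf K := by
      ext y
      simp only [Subgroup.mem_subgroupOf, Subgroup.mem_inf]
      exact ⟨fun h => h.1, fun h => ⟨h, (Subgroup.mem_inf.mp y.2).2⟩⟩
    have hn : X ⊓ C ≤ normalizer (Subgroup.closure (pEl p (X ⊓ C)) : Set G) :=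
      le_normalizer_closure fun a ha y hy => Subgroup.subset_closure
        ⟨mul_mem (mul_mem ha hy.1) (inv_mem ha), hy.2.imp fun k hk => by
          rw [show a * y * a⁻¹ = (MulAut.conj a).toMonoidHom y from rfl,
            orderOf_injective _ (MulAut.conj a).injective]
          exact hk⟩
    refine Subgroup.IsSubnormal.step _ ((X ⊓ C).subgroupOf K)
      (Subgroup.comap_mono ((Subgroup.closure_le _).mpr fun y hy => hy.1)) (h1 ▸ hX.subgroupOf) ?_
    exact subgroupOf_normal fun a ha => Subgroup.mem_normalizer_iff.mpr fun y =>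
      Subgroup.mem_normalizer_iff.mp (hn ha) y
  have hJK : J ≤ K := sup_le (hle L₁ le_sup_left) (hle L₂ le_sup_right)
  have hJsn : (J.subgroupOf K).IsSubnormal := by
    rw [hJ, Subgroup.subgroupOf_sup (hle L₁ le_sup_left) (hle L₂ le_sup_right)]
    exact CfsgLib.Core.isSubnormal_sup (hsn L₁ h₁ le_sup_left) (hsn L₂ h₂ le_sup_right)
  have hRJ : (T : Subgroup G) ⊓ L ≤ J := by
    rw [inf_comm, hL, CfsgLib.Local.SylJoin.inf_sup T h₁ h₂]
    refine sup_le_sup ?_ ?_ <;>
    · intro y hy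
      obtain ⟨hy1, hy2⟩ := Subgroup.mem_inf.mp hy
      obtain ⟨k, hk⟩ := IsPGroup.iff_orderOf.mp T.isPGroup' ⟨y, hy2⟩
      exact Subgroup.subset_closure ⟨Subgroup.mem_inf.mpr ⟨hy1, hTC hy2⟩, k, by
        rw [← hk, Subgroup.orderOf_mk]⟩
  have hi : ¬ p ∣ (J.subgroupOf K).index := by
    intro hd
    refine CfsgLib.Local.SylJoin.not_dvd_relIndex_inf_subnormal T
      (CfsgLib.Core.isSubnormal_sup h₁ h₂) ((hd.trans ?_ : p ∣ ((T : Subgroup G) ⊓ L).relIndex L))
    rw [← Subgroup.relIndex_mul_relIndex ((T : Subgroup G) ⊓ L) J L hRJ (hJK.trans inf_le_left),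
      ← Subgroup.relIndex_mul_relIndex J K L hJK inf_le_left]
    exact Dvd.intro_left _ rfl |> fun h => (Dvd.intro _ rfl).trans h
  obtain ⟨hxK, k, hk⟩ := hx
  exact Subgroup.mem_subgroupOf.mp
    (mem_of_index hJsn (x := ⟨x, hxK⟩) (by rw [Subgroup.orderOf_mk]; exact hk) hi)

end CfsgLib.Local.PtStab
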