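import Cfsg.Agent.Lib.QuadPairQdZJ

/-!
# The Sylow subgroups of `Qd(p)` have class two
-/

set_option autoImplicit false
set_option linter.style.haveILetI false

universe u

namespace CfsgLib.Local.KInf

open CfsgLib.Dickson CfsgLib.QuadPair
open scoped commutatorElement

variable {p : ℕ} [hp : Fact p.Prime]

theorem exists_sylow_classTwo_qd (hodd : p ≠ 2) {X : Type u} [Group X] [Finite X]
    (e : X ≃* ↥(Cfsg.qd p)) :
    ∃ T : Sylow p X,
      ⁅(T : Subgroup X), (T : Subgroup X)⁆ ≤ Subgroup.centralizer (T : Set X) := by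
  let α : (Fin 2 → ZMod p) → SL (ZMod p) → X := fun v M => e.symm ⟨affine v M, affine_mem v M⟩
  have hαmul : ∀ v w M N, α v M * α w N = α (v + M.1.mulVec w) (M * N) := fun v w M N => by
    show e.symm _ * e.symm _ = e.symm _
    rw [← map_mul]
    exact congrArg e.symm (Subtype.ext (affine_mul v w M N))
  have hαinj : ∀ {v w M N}, α v M = α w N → v = w ∧ M = N := fun h =>
    affine_injective (congrArg Subtype.val (e.symm.injective h))
  have hαex : ∀ x : X, ∃ v M, x = α v M := fun x => by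
    obtain ⟨v, M, hM⟩ := exists_affine_of_mem (e x).2
    exact ⟨v, M, e.eq_symm_apply.2 (Subtype.ext hM)⟩
  have hα1 : α 0 1 = 1 := by
    show e.symm _ = 1
    rw [show (⟨affine 0 1, affine_mem 0 1⟩ : ↥(Cfsg.qd p)) = 1 from Subtype.ext affine_zero_one,
      map_one]
  have hsingle : ∀ c : ZMod p, ∀ a : ZMod p,
      (upperU a).1.mulVec (Pi.single 0 c) = (Pi.single 0 c : Fin 2 → ZMod p) := fun c a => by
    funext j
    fin_cases j <;> simp [coe_upperU, Matrix.mulVec, dotProduct]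
  -- the Sylow subgroup
  let Tset : Subgroup X :=
    { carrier := {x | ∃ v a, x = α v (upperU a)}
      one_mem' := ⟨0, 0, by rw [upperU_zero, hα1]⟩
      mul_mem' := by
        rintro _ _ ⟨v, a, rfl⟩ ⟨w, b, rfl⟩
        exact ⟨_, a + b, by rw [hαmul, upperU_add]⟩
      inv_mem' := by
        rintro _ ⟨v, a, rfl⟩
        refine ⟨-(upperU (-a)).1.mulVec v, -a, inv_eq_of_mul_eq_one_right ?_⟩
        rw [hαmul, upperU_add, add_neg_cancel, upperU_zero, Matrix.mulVec_neg, Matrix.mulVec_mulVec,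
          ← Matrix.SpecialLinearGroup.coe_mul, upperU_add, add_neg_cancel, upperU_zero,
          Matrix.SpecialLinearGroup.coe_one, Matrix.one_mulVec, add_neg_cancel, hα1] }
  have hmemT : ∀ {v a}, α v (upperU a) ∈ Tset := fun {v a} => ⟨v, a, rfl⟩
  have hTcard : Nat.card Tset = p ^ 3 := by
    have hb : Function.Bijective (fun va : (Fin 2 → ZMod p) × ZMod p =>
        (⟨α va.1 (upperU va.2), va.1, va.2, rfl⟩ : Tset)) := by
      refine ⟨fun x y hxy => ?_, ?_⟩
      · obtain ⟨h1, h2⟩ := hαinj (congrArg Subtype.val hxy)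
        refine Prod.ext h1 ?_
        have h3 := congrArg (fun g : SL (ZMod p) => g.1 0 1) h2
        simpa [coe_upperU] using h3
      · rintro ⟨x, v, a, rfl⟩
        exact ⟨(v, a), rfl⟩
    rw [← Nat.card_eq_of_bijective _ hb, Nat.card_prod, Nat.card_fun, Nat.card_zmod,
      Nat.card_eq_fintype_card, Fintype.card_fin]
    ring
  obtain ⟨T, hT⟩ := (IsPGroup.of_card hTcard).exists_le_sylow
  have hTeq : (T : Subgroup X) = Tset := by
    refine le_antisymm (fun x hx => ?_) hT
    obtain ⟨v, M, rfl⟩ := hαex x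
    let I : Subgroup (SL (ZMod p)) :=
      { carrier := {M | ∃ v, α v M ∈ (T : Subgroup X)}
        one_mem' := ⟨0, hα1 ▸ one_mem _⟩
        mul_mem' := by
          rintro M N ⟨v, hv⟩ ⟨w, hw⟩
          exact ⟨_, hαmul v w M N ▸ mul_mem hv hw⟩
        inv_mem' := by
          rintro M ⟨v, hv⟩
          refine ⟨-(M⁻¹).1.mulVec v, ?_⟩
          have e1 : α (-(M⁻¹).1.mulVec v) M⁻¹ = (α v M)⁻¹ := by
            refine eq_inv_of_mul_eq_one_right ?_
            rw [hαmul, mul_inv_cancel, Matrix.mulVec_neg, Matrix.mulVec_mulVec,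
              ← Matrix.SpecialLinearGroup.coe_mul, mul_inv_cancel,
              Matrix.SpecialLinearGroup.coe_one, Matrix.one_mulVec, add_neg_cancel, hα1]
          rw [e1]
          exact inv_mem hv }
    have hIp : IsPGroup p I := by
      rintro ⟨M', v', hv'⟩
      obtain ⟨k, hk⟩ := T.2 ⟨_, hv'⟩
      refine ⟨k, Subtype.ext ?_⟩
      show M' ^ p ^ k = 1
      have hpow : ∀ n : ℕ, ∃ w, α v' M' ^ n = α w (M' ^ n) := by
        intro n
        induction n with
        | zero => exact ⟨0, by rw [pow_zero, pow_zero, hα1]⟩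
        | succ n ih =>
          obtain ⟨w, hw⟩ := ih
          exact ⟨_, by rw [pow_succ, pow_succ, hw, hαmul]⟩
      obtain ⟨w, hw⟩ := hpow (p ^ k)
      have h0 : α v' M' ^ p ^ k = α 0 1 := (congrArg Subtype.val hk).trans hα1.symm
      exact (hαinj (hw.symm.trans h0)).2
    obtain ⟨a, rfl⟩ := exists_upperU_of_pgroup hodd hIp ⟨0, hT hmemT⟩ ⟨v, hx⟩
    exact hmemT
  refine ⟨T, ?_⟩
  rw [Subgroup.commutator_le]
  intro x hx y hy
  rw [hTeq] at hx hy
  obtain ⟨v, a, rfl⟩ := hx
  obtain ⟨w, b, rfl⟩ := hy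
  obtain ⟨c, hc⟩ : ∃ c, ⁅α v (upperU a), α w (upperU b)⁆ = α (Pi.single 0 c) 1 := by
    refine ⟨a * w 1 - b * v 1, ?_⟩
    rw [commutatorElement_def, mul_inv_eq_iff_eq_mul, mul_inv_eq_iff_eq_mul, hαmul, hαmul, hαmul,
      one_mul, upperU_add, upperU_add, add_comm b a, Matrix.SpecialLinearGroup.coe_one,
      Matrix.one_mulVec]
    congr 1
    funext j
    fin_cases j <;> simp [coe_upperU, Matrix.mulVec, dotProduct] <;> ring
  rw [hc, Subgroup.mem_centralizer_iff]
  intro z hz
  change z ∈ (T : Subgroup X) at hz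
  rw [hTeq] at hz
  obtain ⟨u, d, rfl⟩ := hz
  rw [hαmul, hαmul, hsingle, Matrix.SpecialLinearGroup.coe_one, Matrix.one_mulVec, mul_one, one_mul,
    add_comm]

end CfsgLib.Local.KInf
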