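import Cfsg.Agent.Lib.LocalWeakClosed
import Cfsg.Agent.Lib.FusionCenterControlGen
import Cfsg.Agent.Lib.FusionThompson

/-!
# Elements with a quadratic witness: central `p`-th powers
-/

set_option autoImplicit false

universe u

namespace CfsgLib.Local.QuadCenter

open CfsgLib.Core CfsgLib.Fusion CfsgLib.Local.WeakClosed CfsgLib.Stable
open scoped commutatorElement

variable {p : ℕ} [hp : Fact p.Prime] {W : ∀ (Q : Type u) [Group Q], Subgroup Q}

/-- `W` of a subgroup inside the group. -/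
def Wsub (W : ∀ (Q : Type u) [Group Q], Subgroup Q) {A : Type u} [Group A] (K : Subgroup A) : Subgroup A :=
  (W ↥K).map K.subtype

theorem Wsub_map (hW : IsPFunctor p W) {A B : Type u} [Group A] [Group B] (f : A →* B)
    (hf : Function.Injective f) (K : Subgroup A) [Finite K] (hK : IsPGroup p K) {K' : Subgroup B}
    (hK' : K.map f = K') : (Wsub W K).map f = Wsub W K' := by
  subst hK'
  rw [Wsub, Wsub, ← hW.map_eq ↥K ↥(K.map f) hK (K.equivMapOfInjective f hf), Subgroup.map_map,
    Subgroup.map_map]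
  rfl

theorem normalizer_le_Wsub (hW : IsPFunctor p W) {A : Type u} [Group A] (K : Subgroup A) [Finite K]
    (hK : IsPGroup p K) {n : A} (hn : n ∈ Subgroup.normalizer (K : Set A)) :
    n ∈ Subgroup.normalizer (Wsub W K : Set A) := by
  have h := Wsub_map hW (MulAut.conj n).toMonoidHom (MulAut.conj n).injective K hK (K' := K) (by
    ext y
    constructor
    · rintro ⟨a, ha, rfl⟩
      exact (Subgroup.mem_normalizer_iff.1 hn a).1 ha
    · intro hy
      exact ⟨n⁻¹ * y * n, (Subgroup.mem_normalizer_iff.1 hn _).2 (by simpa [mul_assoc] using hy),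
        show n * (n⁻¹ * y * n) * n⁻¹ = y by group⟩)
  haveI : Finite ↥(Wsub W K) := Finite.of_injective _
    (Subgroup.inclusion_injective (Subgroup.map_subtype_le (W ↥K)))
  exact mem_normalizer_of_conj_mem fun y hy => h.le ⟨y, hy, rfl⟩

/-- The quadratic hypothesis. -/
def QuadHyp (p : ℕ) (W : ∀ (Q : Type u) [Group Q], Subgroup Q) : Prop :=
  ∀ (G : Type u) [Group G] [Finite G] (P : Sylow p G),
    ¬ (((W ↥(P : Subgroup G)).map (P : Subgroup G).subtype : Subgroup G)).Normal →
    ∃ g : G, g ∈ (P : Subgroup G) ∧ g ∉ Cfsg.pCore p G ∧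
      ⁅⁅Subgroup.center ↥(Cfsg.pCore p G) |>.map (Cfsg.pCore p G).subtype, Subgroup.zpowers g⁆,
        Subgroup.zpowers g⁆ = ⊥

/-- The case of a minimal counterexample. -/
theorem central_step {G : Type u} [Group G] [Finite G] (hW : IsPFunctor p W) (hq : QuadHyp p W)
    (S : Sylow p G) (x : G) (hxS : x ∈ (S : Subgroup G)) (hxD : x ∈ Cfsg.pCore p G)
    (hN : ∀ g ∈ Subgroup.normalizer (Wsub W (S : Subgroup G) : Set G), g * x = x * g)
    (hxp : ∀ g, g * x ^ p * g⁻¹ = x ^ p)
    (hH : ∀ H : Subgroup G, (S : Subgroup G) ≤ H → H ≠ ⊤ → ∀ h ∈ H, h * x = x * h)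
    (hpow : p ≠ 2 ∨ ∃ z ∈ (S : Subgroup G), (∀ s ∈ (S : Subgroup G), s * z = z * s) ∧ z ^ p = x) :
    ∀ g : G, g * x = x * g := by
  classical
  haveI := CfsgLib.Core.normal_pCore (G := G) p
  have hSx : ∀ s ∈ (S : Subgroup G), s * x = x * s := fun s hs =>
    hN s (normalizer_le_Wsub hW _ S.2 (Subgroup.le_normalizer hs))
  by_contra hnc
  have hNS : Subgroup.normalizer ((S : Subgroup G) : Set G) ≠ ⊤ := fun e =>
    hnc fun g => hN g (normalizer_le_Wsub hW _ S.2 (e ▸ Subgroup.mem_top g))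
  set D := Cfsg.pCore p G with hD
  have hDS : D ≤ (S : Subgroup G) := CfsgLib.Core.pCore_le_sylow S
  set V := D ⊓ Subgroup.centralizer (D : Set G) with hV
  haveI hVn : V.Normal := by rw [hV]; infer_instance
  have hxV : x ∈ V := ⟨hxD, Subgroup.mem_centralizer_iff.2 fun d hd => hSx d (hDS hd)⟩
  have hVS : V ≤ (S : Subgroup G) := inf_le_left.trans hDS
  have hVc : ∀ a ∈ V, ∀ b ∈ V, a * b = b * a := fun a ha b hb =>
    Subgroup.mem_centralizer_iff.1 hb.2 a ha.1
  obtain ⟨g₀, hg₀S, hg₀D, hg₀⟩ := hq G S fun hn => hnc fun g => hN g (by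
    haveI : (Wsub W (S : Subgroup G)).Normal := hn
    rw [Subgroup.normalizer_eq_top]; exact Subgroup.mem_top g)
  have hg₀q : ∀ v ∈ V, g₀ * (g₀ * v * g₀⁻¹ * v⁻¹) = g₀ * v * g₀⁻¹ * v⁻¹ * g₀ := by
    intro v hv
    have h1 : ⁅v, g₀⁆ ∈ ⁅Subgroup.center ↥D |>.map D.subtype, Subgroup.zpowers g₀⁆ :=
      Subgroup.commutator_mem_commutator (by rw [map_center_subtype]; exact hv) (Subgroup.mem_zpowers g₀)
    have h2 : ⁅⁅v, g₀⁆, g₀⁆ ∈ (⊥ : Subgroup G) :=
      hg₀ ▸ Subgroup.commutator_mem_commutator h1 (Subgroup.mem_zpowers g₀)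
    have h3 : Commute ⁅v, g₀⁆ g₀ := commutatorElement_eq_one_iff_mul_comm.1 (Subgroup.mem_bot.1 h2)
    have h4 : g₀ * v * g₀⁻¹ * v⁻¹ = ⁅v, g₀⁆⁻¹ := by rw [commutatorElement_inv, commutatorElement_def]
    rw [h4]
    exact h3.symm.inv_right.eq
  -- the family
  set Q : Set (Subgroup G) := {F | ∃ a ∈ (S : Subgroup G), F = Subgroup.zpowers a ∧
    ∀ v ∈ V, a * (a * v * a⁻¹ * v⁻¹) = a * v * a⁻¹ * v⁻¹ * a} with hQ
  refine hnc (OrbitProd.central_of_family S V hVc x hxV hSx hxp hH hNS Q ?_ ?_ ?_ ?_ ?_)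
  · rintro F ⟨a, ha, rfl, -⟩
    exact Subgroup.zpowers_le.2 ha
  · -- invariance
    rintro F ⟨a, -, rfl, hav⟩ g hg
    rw [MonoidHom.map_zpowers] at hg ⊢
    refine ⟨_, hg (Subgroup.mem_zpowers _), rfl, fun v hv => ?_⟩
    have hv' : g⁻¹ * v * g ∈ V := by
      have := hVn.conj_mem v hv g⁻¹
      rwa [inv_inv] at this
    have h := congrArg (fun y => g * y * g⁻¹) (hav _ hv')
    show g * a * g⁻¹ * (g * a * g⁻¹ * v * (g * a * g⁻¹)⁻¹ * v⁻¹) =
      g * a * g⁻¹ * v * (g * a * g⁻¹)⁻¹ * v⁻¹ * (g * a * g⁻¹)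
    calc _ = g * (a * (a * (g⁻¹ * v * g) * a⁻¹ * (g⁻¹ * v * g)⁻¹)) * g⁻¹ := by group
      _ = g * (a * (g⁻¹ * v * g) * a⁻¹ * (g⁻¹ * v * g)⁻¹ * a) * g⁻¹ := h
      _ = _ := by group
  · -- the family does not generate a normal subgroup
    intro e
    haveI : (sSup Q).Normal := Subgroup.normalizer_eq_top_iff.1 e
    refine hg₀D (CfsgLib.Core.le_pCore inferInstance (S.2.to_le (sSup_le ?_))
      (le_sSup (show Subgroup.zpowers g₀ ∈ Q from ⟨g₀, hg₀S, rfl, hg₀q⟩) (Subgroup.mem_zpowers g₀)))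
    rintro F ⟨b, hb, rfl, -⟩
    exact Subgroup.zpowers_le.2 hb
  · -- quadratic action
    rintro F ⟨a, -, rfl, hav⟩ g f hf f' hf'
    set u := g * x * g⁻¹ with hu
    have huV : u ∈ V := hVn.conj_mem x hxV g
    let M : Subgroup G :=
      { carrier := {b | b * a = a * b ∧ a * (b * u * b⁻¹ * u⁻¹) = b * u * b⁻¹ * u⁻¹ * a}
        mul_mem' := by
          rintro b c ⟨hb, hb'⟩ ⟨hc, hc'⟩
          refine ⟨((show Commute a b from hb.symm).mul_right (show Commute a c from hc.symm)).eq.symm,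
            ?_⟩
          have h1 : Commute a (b * (c * u * c⁻¹ * u⁻¹) * b⁻¹) :=
            ((show Commute a b from hb.symm).mul_right
              (show Commute a (c * u * c⁻¹ * u⁻¹) from hc')).mul_right
              (show Commute a b from hb.symm).inv_right
          have h2 := h1.mul_right (show Commute a (b * u * b⁻¹ * u⁻¹) from hb')
          rw [show b * c * u * (b * c)⁻¹ * u⁻¹ =
            b * (c * u * c⁻¹ * u⁻¹) * b⁻¹ * (b * u * b⁻¹ * u⁻¹) by group]
          exact h2.eq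
        one_mem' := ⟨by group, by group⟩
        inv_mem' := by
          rintro b ⟨hb, hb'⟩
          have hab : Commute a b := hb.symm
          refine ⟨hab.inv_right.eq.symm, ?_⟩
          have h1 : Commute a (b⁻¹ * (b * u * b⁻¹ * u⁻¹)⁻¹ * b) :=
            (hab.inv_right.mul_right
              (show Commute a (b * u * b⁻¹ * u⁻¹) from hb').inv_right).mul_right hab
          rw [show b⁻¹ * u * b⁻¹⁻¹ * u⁻¹ = b⁻¹ * (b * u * b⁻¹ * u⁻¹)⁻¹ * b by group]
          exact h1.eq }
    have haM : Subgroup.zpowers a ≤ M := Subgroup.zpowers_le.2 ⟨rfl, hav u huV⟩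
    obtain ⟨j, rfl⟩ := hf'
    have h : Commute a (f * u * f⁻¹ * u⁻¹) := (haM hf).2
    show a ^ j * (f * u * f⁻¹ * u⁻¹) * (a ^ j)⁻¹ = _
    rw [(h.zpow_left j).eq, mul_inv_cancel_right]
  · -- no orbit of length two
    rintro h2 F ⟨a, haS, rfl, hav⟩ g ⟨f, hf, hfm⟩
    exfalso
    subst h2
    obtain ⟨z, hzS, hSz, hzx⟩ := hpow.resolve_left (not_not.2 rfl)
    set u := g * x * g⁻¹ with hu
    have huV : u ∈ V := hVn.conj_mem x hxV g
    have hau : a * u ≠ u * a := fun e => hfm (by
      obtain ⟨i, rfl⟩ := hf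
      exact ((show Commute a u from e).zpow_left i).eq)
    -- `z` lies in `V`
    have hzV : z ∈ V := by
      refine ⟨?_, Subgroup.mem_centralizer_iff.2 fun d hd => hSz d (hDS hd)⟩
      by_contra hzD
      set L := Subgroup.centralizer (D : Set G) with hL
      haveI hLn : L.Normal := by rw [hL]; infer_instance
      have hzL : z ∈ L ⊓ (S : Subgroup G) :=
        ⟨Subgroup.mem_centralizer_iff.2 fun d hd => hSz d (hDS hd), hzS⟩
      refine hnc (central_of_frattini S L (fun l hl =>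
        (Subgroup.mem_centralizer_iff.1 hl x hxD).symm) ?_)
      refine hH _ ?_ fun e => hzD ?_
      · intro s hs
        refine mem_normalizer_of_map_eq fun y hy => ⟨hLn.conj_mem y hy.1 s, ?_⟩
        exact (S : Subgroup G).mul_mem ((S : Subgroup G).mul_mem hs hy.2) ((S : Subgroup G).inv_mem hs)
      · haveI : (L ⊓ (S : Subgroup G)).Normal := Subgroup.normalizer_eq_top_iff.1 e
        exact CfsgLib.Core.le_pCore inferInstance (S.2.to_le inf_le_right) hzL
    -- the square of `a` fixes `u`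
    have huw : u * (a * u * a⁻¹ * u⁻¹) = a * u * a⁻¹ * u⁻¹ * u :=
      hVc _ huV _ (V.mul_mem (hVn.conj_mem u huV a) (V.inv_mem huV))
    have hu2 : a * (u * u) * a⁻¹ = u * u := by
      have hxx : ∀ k : G, k * (x * x) * k⁻¹ = x * x := fun k => by
        have := hxp k; rwa [pow_two] at this
      rw [show u * u = g * (x * x) * g⁻¹ by rw [hu]; group, hxx, hxx]
    have key : ∀ v ∈ V, a * a * v * (a * a)⁻¹ * v⁻¹ =
        (a * v * a⁻¹ * v⁻¹) * (a * v * a⁻¹ * v⁻¹) := by
      intro v hv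
      calc a * a * v * (a * a)⁻¹ * v⁻¹
          = a * (a * v * a⁻¹ * v⁻¹) * a⁻¹ * (a * v * a⁻¹ * v⁻¹) := by group
        _ = _ := by rw [hav v hv, mul_inv_cancel_right]
    have hw2 : (a * u * a⁻¹ * u⁻¹) * (a * u * a⁻¹ * u⁻¹) = 1 := by
      calc (a * u * a⁻¹ * u⁻¹) * (a * u * a⁻¹ * u⁻¹)
          = (a * u * a⁻¹ * u⁻¹) * (a * u * a⁻¹ * u⁻¹) * (u * u) * (u * u)⁻¹ := by group
        _ = (a * u * a⁻¹) * (a * u * a⁻¹) * (u * u)⁻¹ := by
            congr 1
            calc (a * u * a⁻¹ * u⁻¹) * (a * u * a⁻¹ * u⁻¹) * (u * u)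
                = (a * u * a⁻¹ * u⁻¹) * ((a * u * a⁻¹ * u⁻¹) * u) * u := by group
              _ = (a * u * a⁻¹ * u⁻¹) * (u * (a * u * a⁻¹ * u⁻¹)) * u := by rw [huw]
              _ = _ := by group
        _ = 1 := by
            rw [show (a * u * a⁻¹) * (a * u * a⁻¹) = a * (u * u) * a⁻¹ by group, hu2,
              mul_inv_cancel]
    have haau : a * a ∈ (S : Subgroup G) ⊓ Subgroup.centralizer ({u} : Set G) := by
      refine ⟨mul_mem haS haS, Subgroup.mem_centralizer_singleton_iff.2 ?_⟩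
      have := key u huV
      rw [hw2, mul_inv_eq_one, mul_inv_eq_iff_eq_mul] at this
      exact this
    -- a conjugate of `z` with square `u`
    have hgS : ((g • S : Sylow 2 G) : Subgroup G) ≤ Subgroup.centralizer ({u} : Set G) := by
      rw [Sylow.coe_subgroup_smul]
      rintro _ ⟨s, hs, rfl⟩
      refine Subgroup.mem_centralizer_singleton_iff.2 ?_
      show g * s * g⁻¹ * u = u * (g * s * g⁻¹)
      rw [hu, show g * s * g⁻¹ * (g * x * g⁻¹) = g * (s * x) * g⁻¹ by group, hSx s hs]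
      group
    obtain ⟨c, hc, hcR⟩ := exists_conj_mem_sylow (g • S) hgS (S.2.to_le inf_le_left) inf_le_right
    have hcu : c * u = u * c := Subgroup.mem_centralizer_singleton_iff.1 hc
    set k := c⁻¹ * g with hk
    set u' := k * z * k⁻¹ with hu'
    have hu'V : u' ∈ V := hVn.conj_mem z hzV k
    have hu'u : u' * u' = u := by
      rw [hu', show k * z * k⁻¹ * (k * z * k⁻¹) = c⁻¹ * (g * (z * z) * g⁻¹) * c by rw [hk]; group,
        ← pow_two, hzx, ← hu, mul_assoc, ← hcu, inv_mul_cancel_left]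
    have hfix : a * a * u' = u' * (a * a) := by
      have h1 := hcR _ haau
      rw [Sylow.coe_subgroup_smul] at h1
      obtain ⟨s, hs, hs'⟩ := h1
      have hs2 : a * a = k * s * k⁻¹ := by
        have : g * s * g⁻¹ = c * (a * a) * c⁻¹ := hs'
        rw [hk, show c⁻¹ * g * s * (c⁻¹ * g)⁻¹ = c⁻¹ * (g * s * g⁻¹) * c by group, this]
        group
      rw [hs2, hu', show k * s * k⁻¹ * (k * z * k⁻¹) = k * (s * z) * k⁻¹ by group, hSz s hs]
      group
    set w := a * u' * a⁻¹ * u'⁻¹ with hw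
    have hww : w * w = 1 := by
      rw [hw, ← key u' hu'V, hfix, mul_inv_cancel_right, mul_inv_cancel]
    have huw' : u' * w = w * u' :=
      hVc _ hu'V _ (V.mul_mem (hVn.conj_mem u' hu'V a) (V.inv_mem hu'V))
    refine hau ?_
    have e : a * u * a⁻¹ = u := by
      calc a * u * a⁻¹ = w * u' * (w * u') := by rw [← hu'u, hw]; group
        _ = w * (u' * w) * u' := by group
        _ = w * w * (u' * u') := by rw [huw']; group
        _ = u := by rw [hww, one_mul, hu'u]
    calc a * u = a * u * a⁻¹ * a := by group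
      _ = u * a := by rw [e]

/-- The group theorem. -/
theorem central (hW : IsPFunctor p W) (hq : QuadHyp p W) :
    ∀ (n : ℕ) (X : Type u) [Group X] [Finite X], Nat.card X ≤ n →
      ∀ (S : Sylow p X) (x : X), x ∈ (S : Subgroup X) → x ∈ Cfsg.pCore p X →
      (∀ g ∈ Subgroup.normalizer (Wsub W (S : Subgroup X) : Set X), g * x = x * g) →
      (∃ z ∈ (S : Subgroup X), (∀ s ∈ (S : Subgroup X), s * z = z * s) ∧ z ^ p = x) →
      ∀ g : X, g * x = x * g := by
  intro n
  induction n with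
  | zero => intro X _ _ hX; exact absurd hX (not_le.2 Nat.card_pos)
  | succ n ih =>
    intro X _ _ hX S
    suffices key : ∀ m, ∀ x : X, orderOf x ≤ m → x ∈ (S : Subgroup X) → x ∈ Cfsg.pCore p X →
        (∀ g ∈ Subgroup.normalizer (Wsub W (S : Subgroup X) : Set X), g * x = x * g) →
        (∃ z ∈ (S : Subgroup X), (∀ s ∈ (S : Subgroup X), s * z = z * s) ∧ z ^ p = x) →
        ∀ g : X, g * x = x * g from fun x => key _ x le_rfl
    intro m
    induction m with
    | zero => intro x hx; exact absurd hx (not_le.2 (orderOf_pos x))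
    | succ m ihm =>
      intro x hxm hxS hxD hN hyp
      rcases eq_or_ne x 1 with rfl | hx1
      · intro g; rw [mul_one, one_mul]
      obtain ⟨z, hzS, hSz, hzx⟩ := id hyp
      have hxp : ∀ g, g * x ^ p * g⁻¹ = x ^ p := by
        intro g
        obtain ⟨k, hk⟩ := S.2 ⟨x, hxS⟩
        have hk' : x ^ p ^ k = 1 := congrArg Subtype.val hk
        obtain ⟨j, -, hj⟩ := (Nat.dvd_prime_pow hp.out).1 (orderOf_dvd_of_pow_eq_one hk')
        have hj0 : j ≠ 0 := fun e => hx1 (orderOf_eq_one_iff.1 (by rw [hj, e, pow_zero]))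
        have hdvd : p ∣ orderOf x := by rw [hj]; exact dvd_pow_self p hj0
        have hlt : orderOf (x ^ p) ≤ m := by
          rw [orderOf_pow_of_dvd hp.out.ne_zero hdvd]
          have := Nat.div_lt_self (orderOf_pos x) hp.out.one_lt
          omega
        have := ihm (x ^ p) hlt (pow_mem hxS p) (pow_mem hxD p)
          (fun g hg => ((show Commute g x from hN g hg).pow_right p).eq)
          ⟨z ^ p, pow_mem hzS p, fun s hs => ((show Commute s z from hSz s hs).pow_right p).eq,
            by rw [hzx]⟩ g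
        rw [this, mul_inv_cancel_right]
      have hH : ∀ H : Subgroup X, (S : Subgroup X) ≤ H → H ≠ ⊤ → ∀ h ∈ H, h * x = x * h := by
        intro H hSH hHt h hh
        have hlt : Nat.card ↥H ≤ n := by
          have h1 := Subgroup.card_le_card_group H
          have h2 : Nat.card ↥H ≠ Nat.card X := fun e => hHt (Subgroup.eq_top_of_card_eq H e)
          omega
        have hmap : ((S.subtype hSH : Sylow p ↥H) : Subgroup ↥H).map H.subtype = (S : Subgroup X) := by
          rw [Sylow.coe_subtype, Subgroup.map_subgroupOf_eq_of_le hSH]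
        have hcore : (Cfsg.pCore p X).subgroupOf H ≤ Cfsg.pCore p ↥H := by
          haveI := CfsgLib.Core.normal_pCore (G := X) p
          exact CfsgLib.Core.le_pCore inferInstance
            ((CfsgLib.Core.isPGroup_pCore p).comap_of_injective H.subtype H.subtype_injective)
        have := ih ↥H hlt (S.subtype hSH) ⟨x, hSH hxS⟩
          (by rw [Sylow.coe_subtype]; exact hxS) (hcore hxD)
          (fun g hg => Subtype.ext (hN g (by
            have hg' := Subgroup.le_normalizer_map (H := Wsub W ((S.subtype hSH : Sylow p ↥H) : Subgroup ↥H))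
              H.subtype ⟨g, hg, rfl⟩
            rwa [Wsub_map hW _ H.subtype_injective _ (S.subtype hSH).2 hmap] at hg')))
          ⟨⟨z, hSH hzS⟩, by rw [Sylow.coe_subtype]; exact hzS,
            fun s hs => Subtype.ext (hSz s (by rw [Sylow.coe_subtype] at hs; exact hs)),
            Subtype.ext hzx⟩ ⟨h, hh⟩
        exact congrArg Subtype.val this
      exact central_step hW hq S x hxS hxD hN hxp hH (Or.inr hyp)

/-- The local center condition for `p`-th powers. -/
theorem cloc (hW : IsPFunctor p W) (hq : QuadHyp p W) :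
    CenterGen.CLoc.{u, 0} p W (Multiplicative ℤ) True := by
  intro G _ _ P x _ hxD hxN hpw
  obtain ⟨⟨y, hy⟩, hyc, rfl⟩ := hxN
  exact Subgroup.mem_center_iff.2 (central hW hq _ G le_rfl P y (CfsgLib.Core.pCore_le_sylow P hxD) hxD
    (fun g hg => congrArg Subtype.val (Subgroup.mem_center_iff.1 hyc ⟨g, hg⟩)) (hpw trivial))

theorem powers_inf_center (hW : IsPFunctor p W) (hWZ : ∀ (Q : Type u) [Group Q] [Finite Q], IsPGroup p Q →
    Subgroup.center Q ≤ W Q) (hq : QuadHyp p W) {Ω : Type u} [Group Ω] {S : Subgroup Ω} [Finite S]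
    (hS : IsPGroup p S) {F : Cfsg.FusionSystem S} (hF : F.IsSaturated p)
    {N : Cfsg.FusionSystem (Cfsg.FusionSystem.normalizerIn S ((W ↥S).map S.subtype))}
    (hN : F.IsNormalizerSystem ((W ↥S).map S.subtype) N) :
    Subgroup.closure ((fun z => z ^ p) '' ((S ⊓ Subgroup.centralizer (S : Set Ω) : Subgroup Ω) : Set Ω)) ⊓
      N.center ≤ F.center := by
  intro x hx
  refine CenterGen.mem_center_of_local hW hWZ (cloc hW hq) hS hF (sectionFree_int F) rfl hN hx.2
    fun _ => ?_
  have hle : Subgroup.closure ((fun z : Ω => z ^ p) '' ((S ⊓ Subgroup.centralizer (S : Set Ω) : Subgroup Ω) : Set Ω)) ≤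
      { carrier := {y | ∃ z ∈ S, (∀ s ∈ S, s * z = z * s) ∧ z ^ p = y}
        one_mem' := ⟨1, S.one_mem, fun s _ => by simp, one_pow p⟩
        mul_mem' := by
          rintro a b ⟨z, hz, hzc, rfl⟩ ⟨w, hw, hwc, rfl⟩
          exact ⟨z * w, S.mul_mem hz hw, fun s hs =>
            ((show Commute s z from hzc s hs).mul_right (show Commute s w from hwc s hs)).eq,
            (show Commute z w from hwc z hz).mul_pow p⟩
        inv_mem' := by
          rintro a ⟨z, hz, hzc, rfl⟩
          exact ⟨z⁻¹, S.inv_mem hz, fun s hs => ((show Commute s z from hzc s hs).inv_right).eq,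
            inv_pow z p⟩ } := by
    rw [Subgroup.closure_le]
    rintro _ ⟨z, ⟨hzS, hzC⟩, rfl⟩
    exact ⟨z, hzS, fun s hs => Subgroup.mem_centralizer_iff.1 hzC s hs, rfl⟩
  exact hle hx.1

end CfsgLib.Local.QuadCenter
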