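import Cfsg.Agent.Lib.LocalWeakProduct
import Cfsg.Agent.Lib.LocalPIrreducible
import Cfsg.Agent.Lib.CoreLayer
import Cfsg.Prelude.Def_CaseTheorems
import Mathlib.GroupTheory.Nilpotent
import Mathlib.GroupTheory.Frattini

/-!
Quasisimple residuals of the weak closure of a large subgroup.
-/

set_option autoImplicit false
set_option linter.style.haveILetI false

open Subgroup
open CfsgLib.Local.PRed
open scoped commutatorElement Pointwise

namespace CfsgLib.Local.QuasiLarge

variable {G : Type*} [Group G] {p : ℕ}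

/-- An element with central commutators centralises a perfect subgroup. -/
theorem comm_trivial {R : Subgroup G} (hR : ⁅R, R⁆ = R) {w : G}
    (h : ∀ r ∈ R, w * r * w⁻¹ * r⁻¹ ∈ R ⊓ centralizer (R : Set G)) :
    w ∈ centralizer (R : Set G) := by
  let f : ↥R →* ↥(R ⊓ centralizer (R : Set G)) :=
    { toFun := fun r => ⟨w * r * w⁻¹ * (r : G)⁻¹, h r r.2⟩
      map_one' := Subtype.ext (by simp)
      map_mul' := fun a b => Subtype.ext (by
        have hb := (Subgroup.mem_inf.mp (h b b.2)).2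
        have hc : (a : G) * (w * b * w⁻¹ * (b : G)⁻¹) = (w * b * w⁻¹ * (b : G)⁻¹) * a :=
          mem_centralizer_iff.mp hb a a.2
        simp only [Subgroup.coe_mul]
        calc w * (↑a * ↑b) * w⁻¹ * (↑a * ↑b)⁻¹
            = w * ↑a * w⁻¹ * ((w * ↑b * w⁻¹ * (b : G)⁻¹) * (a : G)⁻¹) := by group
          _ = w * ↑a * w⁻¹ * ((a : G)⁻¹ * ((a : G) * (w * ↑b * w⁻¹ * (b : G)⁻¹)) * (a : G)⁻¹) := by
              group
          _ = w * ↑a * w⁻¹ * ((a : G)⁻¹ * ((w * ↑b * w⁻¹ * (b : G)⁻¹) * a) * (a : G)⁻¹) := by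
              rw [hc]
          _ = _ := by group) }
  haveI : IsMulCommutative ↥(R ⊓ centralizer (R : Set G)) := ⟨⟨fun a b => Subtype.ext
    (mem_centralizer_iff.mp (Subgroup.mem_inf.mp b.2).2 a (Subgroup.mem_inf.mp a.2).1)⟩⟩
  have hker : ⁅(⊤ : Subgroup ↥R), (⊤ : Subgroup ↥R)⁆ ≤ f.ker := by
    refine Subgroup.commutator_le.mpr fun a _ b _ => ?_
    rw [MonoidHom.mem_ker, map_commutatorElement, commutatorElement_eq_one_iff_mul_comm]
    exact mul_comm' _ _
  rw [mem_centralizer_iff]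
  intro r hr
  have htop : ⁅(⊤ : Subgroup ↥R), (⊤ : Subgroup ↥R)⁆ = ⊤ := by
    refine Subgroup.map_injective R.subtype_injective ?_
    rw [Subgroup.map_commutator, ← MonoidHom.range_eq_map, Subgroup.range_subtype, hR]
  have h1 := congrArg Subtype.val (MonoidHom.mem_ker.mp
    (hker (htop.ge (mem_top (⟨r, hr⟩ : ↥R)))))
  have h2 : w * r * w⁻¹ * r⁻¹ = 1 := h1
  rw [mul_inv_eq_one, mul_inv_eq_iff_eq_mul] at h2
  exact h2.symm

/-- A perfect central extension of a quasisimple group is quasisimple. -/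
theorem quasisimple_of_ext {H K : Type*} [Group H] [Group K] (f : H →* K)
    (hf : Function.Surjective f) (hker : f.ker ≤ center H) (hH : ⁅(⊤ : Subgroup H), (⊤ : Subgroup H)⁆ = ⊤)
    (hK : Cfsg.IsQuasisimple K) : Cfsg.IsQuasisimple H := by
  have hcen : (center K).comap f = center H := by
    refine le_antisymm (fun x hx => ?_) (fun x hx => mem_center_iff.mpr fun k => ?_)
    · have h1 := comm_trivial (R := (⊤ : Subgroup H)) hH (w := x) (fun r _ => ⟨mem_top _,
        mem_centralizer_iff.mpr fun s _ => mem_center_iff.mp (hker (by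
          rw [MonoidHom.mem_ker, map_mul, map_mul, map_mul, map_inv, map_inv,
            ← mem_center_iff.mp hx (f r), mul_inv_cancel_right, mul_inv_cancel])) s⟩)
      exact mem_center_iff.mpr fun s => (mem_centralizer_iff.mp h1 s (mem_top s))
    · obtain ⟨h, rfl⟩ := hf k
      rw [← map_mul, ← map_mul, mem_center_iff.mp hx h]
  refine ⟨⟨hH⟩, ?_⟩
  haveI := hK.2
  let e : H ⧸ center H ≃* K ⧸ center K :=
    (QuotientGroup.quotientMulEquivOfEq (by
        rw [← hcen, ← MonoidHom.comap_ker, QuotientGroup.ker_mk'] :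
        center H = ((QuotientGroup.mk' (center K)).comp f).ker)).trans
      (QuotientGroup.quotientKerEquivOfSurjective _
        ((QuotientGroup.mk'_surjective _).comp hf))
  exact e.isSimpleGroup

/-- A perfect group modulo a normal subgroup `K` with `[H, K]` in a normal `p`-subgroup. -/
theorem perfect_step [Finite G] [Fact p.Prime] {H K N P : Subgroup G} (hH : ORes p H = H)
    (hN : N ≤ H) (hNn : H ≤ normalizer (N : Set G)) (hKn : H ≤ normalizer (K : Set G))
    (hP : IsPGroup p ↥P) (hPn : H ≤ normalizer (P : Set G)) (hcom : ⁅H, K⁆ ≤ P)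
    (hsup : ⁅H, H⁆ = H) (htop : H ≤ N ⊔ K) (hKH : K ≤ H) : N = H := by
  refine le_antisymm hN ?_
  have hNP : H ≤ normalizer ((N ⊔ P : Subgroup G) : Set G) :=
    CfsgLib.Core.le_normalizer_sup hNn hPn
  have h1 : H ≤ N ⊔ P := by
    rw [← hsup]
    refine Subgroup.commutator_le.mpr fun a ha b hb => ?_
    have hH' : N ⊔ K ≤ H := sup_le hN hKH
    obtain ⟨m, hm, k, hk, rfl⟩ :=
      (CfsgLib.Core.mem_sup_iff_of_le_normalizer (hN.trans hKn)).mp (htop ha)
    have e : ⁅m * k, b⁆ = m * ⁅k, b⁆ * m⁻¹ * ⁅m, b⁆ := by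
      simp only [commutatorElement_def]; group
    rw [e]
    refine mul_mem (CfsgLib.Local.PRed.conj_mem hNP (hN hm) (Subgroup.mem_sup_right ?_))
      (Subgroup.mem_sup_left ?_)
    · rw [← commutatorElement_inv]
      exact P.inv_mem (hcom (Subgroup.commutator_mem_commutator hb hk))
    · have := N.mul_mem hm (CfsgLib.Local.PRed.conj_mem hNn hb (N.inv_mem hm))
      simpa [commutatorElement_def, mul_assoc] using this
  intro x hx
  rw [← hH] at hx
  revert x
  show ORes p H ≤ N
  refine CfsgLib.Local.WProd.oRes_le_of_pMod ?_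
  intro y hy
  obtain ⟨n, hn, z, hz, rfl⟩ : ∃ n ∈ N, ∃ z ∈ P, n * z = y :=
    (CfsgLib.Core.mem_sup_iff_of_le_normalizer (hN.trans hPn)).mp (h1 hy)
  have hzH : z ∈ H := by simpa using H.mul_mem (H.inv_mem (hN hn)) hy
  have hmod : PMod p (P ⊓ H ⊔ N) N :=
    pMod_sup (CfsgLib.Local.WProd.pMod_of_isPGroup (hP.to_le inf_le_left))
      (inf_le_right.trans hNn)
  exact hmod _ (mul_mem (Subgroup.mem_sup_right hn)
    (Subgroup.mem_sup_left (Subgroup.mem_inf.mpr ⟨hz, hzH⟩)))

/-- The main conclusions. -/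
theorem main [Finite G] [hp : Fact p.Prime] {Q U E : Subgroup G} (hQp : IsPGroup p ↥Q) (hQ1 : Q ≠ ⊥)
    (hQ : Cfsg.IsLarge Q) (hQE : Q ≤ E)
    (hQn : ¬ E ≤ normalizer (Q : Set G)) {B : Type*} [Group B] (φ : ↥E →* B)
    (hφ : Function.Surjective φ) (hker : φ.ker = (centralizer (U : Set G)).subgroupOf E)
    (hred : Cfsg.pCore p B = ⊥) (hqs : Cfsg.IsQuasisimple ↥(((ORes p E).subgroupOf E).map φ))
    {W : Subgroup G} (hW : W = cl E Q)
    (hcom : ⁅W, E ⊓ centralizer (U : Set G)⁆ ≤ Cfsg.pCoreOf p W) :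
    ORes p E ⊔ (E ⊓ centralizer (U : Set G)) = ORes p W ⊔ (E ⊓ centralizer (U : Set G)) ∧
      ⁅ORes p W, ORes p W⁆ = ORes p W ∧ ORes p (ORes p W) = ORes p W ∧
      (∀ [(centralizer (U : Set G)).subgroupOf (ORes p W) |>.Normal],
        Cfsg.IsQuasisimple (↥(ORes p W) ⧸ (centralizer (U : Set G)).subgroupOf (ORes p W))) ∧
      Cfsg.IsQuasisimple (↥(ORes p W) ⧸ Cfsg.pCore p ↥(ORes p W)) ∧
      ∀ Y : Subgroup G, Y ≤ E → IsPGroup p ↥Y → ¬ Y ≤ centralizer (U : Set G) →
        ⁅ORes p W, Y⁆ = ORes p W := by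
  classical
  haveI : Finite B := Finite.of_surjective φ hφ
  set C := E ⊓ centralizer (U : Set G) with hC
  set R := ORes p E with hR
  set Er := ORes p W with hEr
  have hwc := CfsgLib.Local.WC.wClosed_of_isLarge (p := p) hQ1 hQ
  have hWE : W ≤ E := hW ▸ cl_le hQE Subgroup.le_normalizer
  have hWn : E ≤ normalizer (W : Set G) := hW ▸ cl_normalized E Q
  have hQW : Q ≤ W := hW ▸ le_cl E Q
  have hgen : W ≤ cl W Q := by
    conv_lhs => rw [hW]
    refine CfsgLib.Local.WC.cl_le_iff_conj fun g hg => ?_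
    obtain ⟨k, hk, he⟩ := hwc.conj_in hQp hQ1 hQW (g := g)
      (hW ▸ CfsgLib.Local.WC.conj_le_cl hg)
    rw [he]
    exact CfsgLib.Local.WC.conj_le_cl hk
  obtain ⟨hWQ, hErQ⟩ := CfsgLib.Local.WProd.oRes_eq_commutator hQp hQW hgen
  have hErn : E ≤ normalizer (Er : Set G) := oRes_normalized hWn
  have hErE : Er ≤ E := (oRes_le W).trans hWE
  have hRE : R ≤ E := oRes_le E
  have hErR : Er ≤ R := CfsgLib.Local.WProd.oRes_le_oRes hWE
  have hRn : E ≤ normalizer (R : Set G) := oRes_normalized Subgroup.le_normalizer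
  let b : Subgroup G → Subgroup B := fun X => (X.subgroupOf E).map φ
  have hbn : ∀ X : Subgroup G, E ≤ normalizer (X : Set G) → (b X).Normal := fun X hX =>
    (subgroupOf_normal hX).map φ hφ
  have hbp : ∀ X : Subgroup G, IsPGroup p ↥X → IsPGroup p ↥(b X) := fun X hX =>
    (isPGroup_subgroupOf hX).map φ
  have hperf : ⁅b R, b R⁆ = b R := by
    have h1 := hqs.1.commutator_eq_top
    rw [_root_.commutator_def] at h1
    have h2 := congrArg (Subgroup.map (b R).subtype) h1
    rwa [Subgroup.map_commutator, ← MonoidHom.range_eq_map, Subgroup.range_subtype] at h2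
  haveI hRbn : (b R).Normal := hbn R hRn
  -- a normal subgroup inside `b R` is everything or central
  have cases' : ∀ X : Subgroup B, X ≤ b R → b R ≤ normalizer (X : Set B) →
      X = b R ∨ X ≤ centralizer (b R : Set B) := by
    intro X hX hXn
    haveI : (X.subgroupOf (b R)).Normal := subgroupOf_normal hXn
    rcases CfsgLib.Core.quasisimple_normal_cases hqs (X.subgroupOf (b R)) with h | h
    · exact Or.inl (le_antisymm hX (Subgroup.subgroupOf_eq_top.mp h))
    · refine Or.inr fun x hx => mem_centralizer_iff.mpr fun r hr => ?_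
      have h1 := mem_center_iff.mp (h (x := (⟨x, hX hx⟩ : ↥(b R))) hx) ⟨r, hr⟩
      exact congrArg Subtype.val h1
  have hpcore : ∀ X : Subgroup B, X.Normal → IsPGroup p ↥X → X = ⊥ := fun X h1 h2 =>
    le_bot_iff.mp (hred ▸ CfsgLib.Local.le_pCore' h1 h2)
  -- `Q` does not lie in `C(U)`
  have hQC : ¬ Q ≤ centralizer (U : Set G) := by
    intro h
    refine hQn fun e he => ?_
    have hQc : Q ≤ C := le_inf hQE h
    have hQO : Q ≤ Cfsg.pCoreOf p W := le_pCoreOf hQW (fun w hw => ?_) hQp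
    · rw [← CfsgLib.Core.conj_smul_eq_self_iff]
      refine hwc.eq_of_le hQp hQ1 (isPGroup_pCoreOf W) hQO ?_
      intro x hx
      rw [CfsgLib.Core.mem_conj_smul] at hx
      have hn : E ≤ normalizer (Cfsg.pCoreOf p W : Set G) := by
        refine le_normalizer_of_conj fun a ha z hz => ?_
        obtain ⟨w, hw', rfl⟩ := hz
        let f : ↥W ≃* ↥W :=
          { toFun := fun v => ⟨a * v * a⁻¹, CfsgLib.Local.PRed.conj_mem hWn ha v.2⟩
            invFun := fun v => ⟨a⁻¹ * v * a, by
              simpa using CfsgLib.Local.PRed.conj_mem hWn (E.inv_mem ha) v.2⟩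
            left_inv := fun v => Subtype.ext (by simp [mul_assoc])
            right_inv := fun v => Subtype.ext (by simp [mul_assoc])
            map_mul' := fun a b => Subtype.ext (by simp [mul_assoc]) }
        exact ⟨f w, by rw [← CfsgLib.Core.map_pCore_of_mulEquiv p f]; exact ⟨w, hw', rfl⟩, rfl⟩
      have := CfsgLib.Local.PRed.conj_mem hn he (hQO hx)
      simpa [mul_assoc] using this
    · -- `W` normalises `Q`
      have h1 : W ≤ normalizer (Q : Set G) := by
        conv_lhs => rw [hW]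
        refine CfsgLib.Local.WC.cl_le_iff_conj fun g hg => ?_
        have h2 : MulAut.conj g • Q ≤ C := by
          intro x hx
          rw [CfsgLib.Core.mem_conj_smul] at hx
          have hx' : (⟨g⁻¹ * x * g, hQE hx⟩ : ↥E) ∈ φ.ker := hker ▸ h hx
          have h3 := (inferInstance : φ.ker.Normal).conj_mem _ hx' ⟨g, hg⟩
          rw [hker, Subgroup.mem_subgroupOf] at h3
          simp [mul_assoc] at h3
          refine ⟨?_, h3⟩
          have := E.mul_mem (E.mul_mem hg (hQE hx)) (E.inv_mem hg)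
          simpa [mul_assoc] using this
        intro x hx
        rw [← CfsgLib.Core.conj_smul_eq_self_iff]
        have hxC := h2 hx
        obtain ⟨k, hk, he'⟩ : ∃ k ∈ W, MulAut.conj g • Q = MulAut.conj k • Q := hwc.conj_in hQp hQ1 hQW (hW ▸ CfsgLib.Local.WC.conj_le_cl hg)
        refine hwc.eq_of_le hQp hQ1 (hQp.to_sup_of_normal_right'
          ((isPGroup_pCoreOf W)) (hQW.trans (pCoreOf_normalized W))) le_sup_left ?_
        intro y hy
        rw [CfsgLib.Core.mem_conj_smul] at hy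
        have h4 : x * (x⁻¹ * y * x) * x⁻¹ * (x⁻¹ * y * x)⁻¹ ∈ Cfsg.pCoreOf p W := by
          have h5 := hcom (Subgroup.commutator_mem_commutator (hQW hy) hxC)
          rw [← inv_mem_iff]
          simpa [commutatorElement_def, mul_assoc] using h5
        have h6 := mul_mem (Subgroup.mem_sup_right (S := Q) h4) (Subgroup.mem_sup_left hy)
        simpa [mul_assoc] using h6
      exact h1 hw
  -- the image of `Er`
  have hbEr : b Er = b R := by
    have hle : b Er ≤ b R := Subgroup.map_mono fun x hx => hErR hx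
    haveI := hbn Er hErn
    rcases cases' _ hle (by rw [Subgroup.normalizer_eq_top]; exact le_top) with h | h
    · exact h
    exfalso
    have hbW : b W = b Q ⊔ b Er := by
      simp only [b]
      rw [← Subgroup.map_sup, ← Subgroup.subgroupOf_sup hQE hErE, hWQ]
    haveI hWbn := hbn W hWn
    rcases cases' (b W ⊓ b R) inf_le_right (by rw [Subgroup.normalizer_eq_top]; exact le_top) with h1 | h1
    · -- then `b R` would be contained in `b Er`
      have hmod : PMod p (b W) (b Er) := by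
        rw [hbW]
        exact pMod_sup (CfsgLib.Local.WProd.pMod_of_isPGroup (hbp Q hQp))
          (by rw [Subgroup.normalizer_eq_top]; exact le_top)
      have hRc : b R ≤ b Er := by
        rw [← hperf]
        have hQ2 : IsPGroup p ↥((b R).map (QuotientGroup.mk' (b Er))) := by
          rintro ⟨_, x, hx, rfl⟩
          obtain ⟨k, hk⟩ := hmod x ((h1.ge.trans inf_le_left) hx)
          refine ⟨k, Subtype.ext ?_⟩
          show (QuotientGroup.mk' (b Er) x) ^ p ^ k = 1
          rw [← map_pow]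
          exact (QuotientGroup.eq_one_iff _).mpr hk
        have hp' : ⁅(b R).map (QuotientGroup.mk' (b Er)), (b R).map (QuotientGroup.mk' (b Er))⁆ =
            (b R).map (QuotientGroup.mk' (b Er)) := by rw [← Subgroup.map_commutator, hperf]
        have hbot : (b R).map (QuotientGroup.mk' (b Er)) = ⊥ := by
          by_contra hne
          haveI := hQ2.isNilpotent
          haveI := (Subgroup.nontrivial_iff_ne_bot _).mpr hne
          haveI : Group.IsSolvable ↥((b R).map (QuotientGroup.mk' (b Er))) := inferInstance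
          have hlt := Group.IsSolvable.commutator_lt_top_of_nontrivial
            ↥((b R).map (QuotientGroup.mk' (b Er)))
          refine hlt.ne ?_
          refine Subgroup.map_injective (Subgroup.subtype_injective _) ?_
          rw [_root_.commutator_def, Subgroup.map_commutator, ← MonoidHom.range_eq_map,
            Subgroup.range_subtype, hp']
        rw [hperf]
        rw [Subgroup.map_eq_bot_iff, QuotientGroup.ker_mk'] at hbot
        exact hbot
      have hab : b R ≤ centralizer (b R : Set B) := hRc.trans h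
      have h3 : ⁅b R, b R⁆ = ⊥ :=
        Subgroup.commutator_eq_bot_iff_le_centralizer.mpr hab
      rw [hperf] at h3
      haveI := CfsgLib.Core.quasisimple_nontrivial hqs
      exact (Subgroup.nontrivial_iff_ne_bot _).mp inferInstance h3
    · -- `b W` centralises `b R`
      have hcW : b W ≤ centralizer (b R : Set B) := fun w hw =>
        comm_trivial hperf fun r hr => by
          have h2 : w * r * w⁻¹ * r⁻¹ ∈ b W ⊓ b R := by
            refine ⟨?_, (b R).mul_mem (hRbn.conj_mem r hr w) ((b R).inv_mem hr)⟩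
            simpa [mul_assoc] using (b W).mul_mem hw (hWbn.conj_mem _ ((b W).inv_mem hw) r)
          exact ⟨h2.2, h1 h2⟩
      obtain ⟨S, hS⟩ := (isPGroup_subgroupOf hQp : IsPGroup p ↥(Q.subgroupOf E)).exists_le_sylow
      have hSn : (S : Subgroup ↥E) ≤ normalizer ((Q.subgroupOf E : Subgroup ↥E) : Set ↥E) := by
        intro s hs
        have h2 : (s : G) ∈ normalizer (Q : Set G) :=
          hwc.le_normalizer (S.isPGroup'.map E.subtype)
            (fun x hx => ⟨⟨x, hQE hx⟩, hS hx, rfl⟩) ⟨s, hs, rfl⟩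
        rw [mem_normalizer_iff]
        exact fun n => mem_normalizer_iff.mp h2 n
      have hQn' : (b Q).Normal := by
        rw [← Subgroup.normalizer_eq_top_iff, eq_top_iff]
        have h2 : (⊤ : Subgroup ↥E) ≤ (S : Subgroup ↥E) ⊔ R.subgroupOf E := by
          rw [← CfsgLib.Local.sylow_sup_pResidual S, hR]
          refine sup_le_sup_left ?_ _
          rw [← map_pResidual]
          exact fun x hx => ⟨x, hx, rfl⟩
        intro x _
        obtain ⟨e, rfl⟩ := hφ x
        have h3 : (S : Subgroup ↥E) ⊔ R.subgroupOf E ≤ (normalizer (b Q : Set B)).comap φ := by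
          refine sup_le (fun s hs => ?_) (fun r hr => ?_)
          · exact Subgroup.le_normalizer_map φ ⟨s, hSn hs, rfl⟩
          · rw [Subgroup.mem_comap]
            refine Subgroup.centralizer_le_normalizer _ ?_
            refine mem_centralizer_iff.mpr fun y hy => ?_
            have hy' : y ∈ b W :=
              Subgroup.map_mono (show Q.subgroupOf E ≤ W.subgroupOf E from fun z hz => hQW hz) hy
            exact (mem_centralizer_iff.mp (hcW hy') (φ r) ⟨r, hr, rfl⟩).symm
        exact h3 (h2 (mem_top e))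
      have h4 := hpcore _ hQn' (hbp Q hQp)
      refine hQC fun x hx => ?_
      have h5 : φ ⟨x, hQE hx⟩ ∈ b Q := ⟨⟨x, hQE hx⟩, hx, rfl⟩
      rw [h4, Subgroup.mem_bot, ← MonoidHom.mem_ker, hker] at h5
      exact h5
  have hfirst : R ⊔ C = Er ⊔ C := by
    refine le_antisymm (sup_le (fun x hx => ?_) le_sup_right) (sup_le_sup_right hErR C)
    have h1 : φ ⟨x, hRE hx⟩ ∈ b Er := hbEr ▸ ⟨⟨x, hRE hx⟩, hx, rfl⟩
    obtain ⟨y, hy, hyx⟩ := h1
    have h2 : y⁻¹ * ⟨x, hRE hx⟩ ∈ φ.ker := by
      rw [MonoidHom.mem_ker, map_mul, map_inv, hyx, inv_mul_cancel]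
    rw [hker, Subgroup.mem_subgroupOf] at h2
    have h3 : (y : G)⁻¹ * x ∈ C := ⟨E.mul_mem (E.inv_mem y.2) (hRE hx), h2⟩
    simpa using mul_mem (Subgroup.mem_sup_left (show (y : G) ∈ Er from hy)) (Subgroup.mem_sup_right h3)
  -- structure of `Er`
  have hidem : ORes p Er = Er := CfsgLib.Local.WProd.oRes_idem W
  set P := Cfsg.pCoreOf p Er with hP
  set K := Er ⊓ C with hK
  have hCn : E ≤ normalizer (C : Set G) := by
    refine le_normalizer_of_conj fun a ha x hx => ⟨E.mul_mem (E.mul_mem ha hx.1) (E.inv_mem ha), ?_⟩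
    have h1 : (⟨x, hx.1⟩ : ↥E) ∈ φ.ker := hker ▸ hx.2
    have h2 := (inferInstance : φ.ker.Normal).conj_mem _ h1 ⟨a, ha⟩
    rw [hker] at h2
    exact h2
  have hcK : ⁅Er, C⁆ ≤ P := by
    refine le_trans (le_inf ((Subgroup.commutator_mono (oRes_le W) le_rfl).trans hcom) ?_)
      (le_pCoreOf inf_le_right ?_ ((isPGroup_pCoreOf W).to_le inf_le_left))
    · refine Subgroup.commutator_le.mpr fun a ha c hc => ?_
      have := Er.mul_mem ha (CfsgLib.Local.PRed.conj_mem hErn hc.1 (Er.inv_mem ha))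
      simpa [commutatorElement_def, mul_assoc] using this
    · exact CfsgLib.Core.le_normalizer_inf ((oRes_le W).trans (pCoreOf_normalized W))
        Subgroup.le_normalizer
  have hbker : ∀ x (hx : x ∈ E), φ ⟨x, hx⟩ = 1 ↔ x ∈ C := fun x hx => by
    rw [← MonoidHom.mem_ker, hker, Subgroup.mem_subgroupOf]
    exact ⟨fun h => ⟨hx, h⟩, fun h => h.2⟩
  have hPK : P ≤ K := by
    refine le_inf (pCoreOf_le Er) ?_
    have h1 : IsPGroup p ↥(b P) := hbp P (isPGroup_pCoreOf Er)
    have hPn' : E ≤ normalizer (P : Set G) := by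
      refine le_normalizer_of_conj fun a ha z hz => ?_
      obtain ⟨w, hw', rfl⟩ := hz
      let f : ↥Er ≃* ↥Er :=
        { toFun := fun v => ⟨a * v * a⁻¹, CfsgLib.Local.PRed.conj_mem hErn ha v.2⟩
          invFun := fun v => ⟨a⁻¹ * v * a, by
            simpa using CfsgLib.Local.PRed.conj_mem hErn (E.inv_mem ha) v.2⟩
          left_inv := fun v => Subtype.ext (by simp [mul_assoc])
          right_inv := fun v => Subtype.ext (by simp [mul_assoc])
          map_mul' := fun a b => Subtype.ext (by simp [mul_assoc]) }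
      exact ⟨f w, by rw [← CfsgLib.Core.map_pCore_of_mulEquiv p f]; exact ⟨w, hw', rfl⟩, rfl⟩
    have h2 := hpcore _ (hbn P hPn') h1
    intro x hx
    refine (hbker x (hErE (pCoreOf_le Er hx))).mp ?_
    have h3 : φ ⟨x, hErE (pCoreOf_le Er hx)⟩ ∈ b P := ⟨_, hx, rfl⟩
    rwa [h2, Subgroup.mem_bot] at h3
  have hQEr : Q ≤ normalizer (Er : Set G) := hQE.trans hErn
  have hErn' : Er ≤ normalizer (Er : Set G) := Subgroup.le_normalizer
  have hPn : Er ≤ normalizer (P : Set G) := pCoreOf_normalized Er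
  have hDn : E ≤ normalizer ((⁅Er, Er⁆ : Subgroup G) : Set G) := by
    refine le_normalizer_of_conj fun a ha x hx => ?_
    have h1 : (⁅Er, Er⁆ : Subgroup G).map (MulAut.conj a).toMonoidHom ≤ ⁅Er, Er⁆ := by
      rw [Subgroup.map_commutator]
      exact Subgroup.commutator_mono (Subgroup.map_le_iff_le_comap.mpr fun y hy =>
        CfsgLib.Local.PRed.conj_mem hErn ha hy) (Subgroup.map_le_iff_le_comap.mpr fun y hy =>
        CfsgLib.Local.PRed.conj_mem hErn ha hy)
    exact h1 ⟨x, hx, rfl⟩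
  have hErC : ∀ x ∈ Er, ∃ d ∈ (⁅Er, Er⁆ : Subgroup G), ∃ k ∈ K, d * k = x := by
    intro x hx
    have h1 : φ ⟨x, hErE hx⟩ ∈ ⁅b Er, b Er⁆ := by
      rw [hbEr, hperf, ← hbEr]; exact ⟨_, hx, rfl⟩
    rw [show (⁅b Er, b Er⁆ : Subgroup B) = (⁅Er.subgroupOf E, Er.subgroupOf E⁆).map φ from
      (Subgroup.map_commutator _ _ φ).symm] at h1
    obtain ⟨d, hd, hdx⟩ := h1
    have hd' : (d : G) ∈ (⁅Er, Er⁆ : Subgroup G) := by
      have h2 : (d : G) ∈ (⁅Er.subgroupOf E, Er.subgroupOf E⁆).map E.subtype := ⟨d, hd, rfl⟩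
      rwa [Subgroup.map_commutator, Subgroup.map_subgroupOf_eq_of_le hErE] at h2
    have hdEr : (d : G) ∈ Er := commutator_le_self Er hd'
    refine ⟨d, hd', (d : G)⁻¹ * x, ⟨Er.mul_mem (Er.inv_mem hdEr) hx, ?_⟩, by group⟩
    refine (hbker _ (E.mul_mem (E.inv_mem d.2) (hErE hx))).mp ?_
    have : φ (d⁻¹ * ⟨x, hErE hx⟩) = 1 := by rw [map_mul, map_inv, hdx, inv_mul_cancel]
    exact this
  have hperfEr : ⁅Er, Er⁆ = Er := by
    refine le_antisymm (commutator_le_self Er) ?_
    have h1 : Er ≤ ⁅Er, Er⁆ ⊔ P := by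
      refine le_trans hErQ.ge ?_
      refine Subgroup.commutator_le.mpr fun a ha q hq => ?_
      obtain ⟨d, hd, k, hk, rfl⟩ := hErC a ha
      have e : ⁅d * k, q⁆ = d * ⁅k, q⁆ * d⁻¹ * ⁅d, q⁆ := by
        simp only [commutatorElement_def]; group
      rw [e]
      refine mul_mem (mul_mem (mul_mem (Subgroup.mem_sup_left hd) (Subgroup.mem_sup_right ?_))
        (inv_mem (Subgroup.mem_sup_left hd))) (Subgroup.mem_sup_left ?_)
      · have hkq : ⁅k, q⁆ ∈ Cfsg.pCoreOf p W := by
          rw [← commutatorElement_inv]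
          exact inv_mem (hcom (Subgroup.commutator_mem_commutator (hQW hq) hk.2))
        have hkq' : ⁅k, q⁆ ∈ Er := by
          have := Er.mul_mem hk.1 (CfsgLib.Local.PRed.conj_mem hQEr hq (Er.inv_mem hk.1))
          simpa [commutatorElement_def, mul_assoc] using this
        exact le_pCoreOf inf_le_right
          (CfsgLib.Core.le_normalizer_inf ((oRes_le W).trans (pCoreOf_normalized W))
            Subgroup.le_normalizer)
          ((isPGroup_pCoreOf W).to_le inf_le_left) (⟨hkq, hkq'⟩ : _ ∈ Cfsg.pCoreOf p W ⊓ Er)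
      · have := mul_mem hd (CfsgLib.Local.PRed.conj_mem hDn (hQE hq) (inv_mem hd))
        simpa [commutatorElement_def, mul_assoc] using this
    intro x hx
    rw [← hidem] at hx
    revert x
    show ORes p Er ≤ ⁅Er, Er⁆
    refine CfsgLib.Local.WProd.oRes_le_of_pMod ?_
    intro y hy
    have hmod : PMod p (P ⊔ ⁅Er, Er⁆) ⁅Er, Er⁆ :=
      pMod_sup (CfsgLib.Local.WProd.pMod_of_isPGroup (isPGroup_pCoreOf Er))
        ((pCoreOf_le Er).trans (hErE.trans hDn))
    exact hmod y (sup_comm P ⁅Er, Er⁆ ▸ h1 hy)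
  -- the quotient by `C(U)`
  let ψ : ↥Er →* ↥(b R) := (φ.comp (Subgroup.inclusion hErE)).codRestrict (b R)
    (fun x => hbEr ▸ ⟨Subgroup.inclusion hErE x, x.2, rfl⟩)
  have hψ : Function.Surjective ψ := by
    rintro ⟨y, hy⟩
    obtain ⟨x, hx, rfl⟩ := hbEr.ge hy
    exact ⟨⟨x, hx⟩, rfl⟩
  have hψker : ψ.ker = (centralizer (U : Set G)).subgroupOf Er := by
    ext x
    rw [MonoidHom.mem_ker, Subgroup.mem_subgroupOf]
    refine ⟨fun h => ?_, fun h => Subtype.ext ((hbker _ _).mpr ⟨hErE x.2, h⟩)⟩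
    exact ((hbker _ (hErE x.2)).mp (congrArg Subtype.val h)).2
  have hKn : Er ≤ normalizer (K : Set G) :=
    CfsgLib.Core.le_normalizer_inf Subgroup.le_normalizer (hErE.trans hCn)
  refine ⟨hfirst, hperfEr, hidem, ?_, ?_, ?_⟩
  · intro hn
    exact CfsgLib.Core.quasisimple_congr ((QuotientGroup.quotientKerEquivOfSurjective ψ hψ).symm.trans
      (QuotientGroup.quotientMulEquivOfEq hψker)) hqs
  · have hle : Cfsg.pCore p ↥Er ≤ ψ.ker := by
      rw [hψker]
      intro x hx
      exact (hPK ⟨x, hx, rfl⟩).2.2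
    haveI := CfsgLib.Local.pCore_normal' (G := ↥Er) p
    refine quasisimple_of_ext (QuotientGroup.lift _ ψ hle)
      (fun y => by obtain ⟨x, rfl⟩ := hψ y; exact ⟨x, rfl⟩) ?_ ?_ hqs
    · rw [QuotientGroup.ker_lift]
      rintro _ ⟨k, hk, rfl⟩
      rw [mem_center_iff]
      intro z
      obtain ⟨a, rfl⟩ := QuotientGroup.mk'_surjective _ z
      have hk' : (k : G) ∈ C := ⟨hErE k.2, by rw [hψker] at hk; exact hk⟩
      have h1 : ⁅a, k⁆ ∈ Cfsg.pCore p ↥Er := by
        obtain ⟨w, hw, he⟩ := hcK (Subgroup.commutator_mem_commutator a.2 hk')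
        exact (Subtype.ext he : w = ⁅a, k⁆) ▸ hw
      have h2 : QuotientGroup.mk' (Cfsg.pCore p ↥Er) ⁅a, k⁆ = 1 := (QuotientGroup.eq_one_iff _).mpr h1
      rw [map_commutatorElement, commutatorElement_eq_one_iff_mul_comm] at h2
      exact h2
    · have h1 : ⁅(⊤ : Subgroup ↥Er), (⊤ : Subgroup ↥Er)⁆ = ⊤ := by
        refine Subgroup.map_injective Er.subtype_injective ?_
        rw [Subgroup.map_commutator, ← MonoidHom.range_eq_map, Subgroup.range_subtype, hperfEr]
      rw [← Subgroup.map_top_of_surjective _ (QuotientGroup.mk'_surjective (Cfsg.pCore p ↥Er)),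
        ← Subgroup.map_commutator, h1]
  intro Y hYE hYp hYC
  set N := ⁅Er, Y⁆ with hN
  have hNE : N ≤ Er := Subgroup.commutator_le.mpr fun a ha y hy => by
    have := Er.mul_mem ha (CfsgLib.Local.PRed.conj_mem hErn (hYE hy) (Er.inv_mem ha))
    simpa [commutatorElement_def, mul_assoc] using this
  have hNn : Er ≤ normalizer (N : Set G) := by
    refine le_normalizer_of_conj fun a ha x hx => ?_
    have h1 : N ≤ N.comap (MulAut.conj a).toMonoidHom := by
      refine Subgroup.commutator_le.mpr fun c hc y hy => ?_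
      rw [Subgroup.mem_comap]
      have e : (MulAut.conj a).toMonoidHom ⁅c, y⁆ = ⁅a * c, y⁆ * ⁅a, y⁆⁻¹ := by
        simp only [MulEquiv.coe_toMonoidHom, MulAut.conj_apply, commutatorElement_def]; group
      rw [e]
      exact mul_mem (Subgroup.commutator_mem_commutator (Er.mul_mem ha hc) hy)
        (inv_mem (Subgroup.commutator_mem_commutator ha hy))
    exact h1 hx
  by_cases htop : b N = b R
  · refine perfect_step hidem hNE hNn hKn (isPGroup_pCoreOf Er) hPn
      ((Subgroup.commutator_mono le_rfl inf_le_right).trans hcK) hperfEr ?_ inf_le_left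
    intro x hx
    have h1 : φ ⟨x, hErE hx⟩ ∈ b N := by rw [htop, ← hbEr]; exact ⟨_, hx, rfl⟩
    obtain ⟨y, hy, hyx⟩ := h1
    have h2 : (y : G)⁻¹ * x ∈ K := by
      refine ⟨Er.mul_mem (Er.inv_mem (hNE hy)) hx,
        (hbker _ (E.mul_mem (E.inv_mem y.2) (hErE hx))).mp ?_⟩
      have : φ (y⁻¹ * ⟨x, hErE hx⟩) = 1 := by rw [map_mul, map_inv, hyx, inv_mul_cancel]
      exact this
    simpa using mul_mem (Subgroup.mem_sup_left (show (y : G) ∈ N from hy)) (Subgroup.mem_sup_right h2)
  exfalso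
  have hNb : b N ≤ b R := hbEr ▸ Subgroup.map_mono fun x hx => hNE hx
  have hNbn : b R ≤ normalizer (b N : Set B) := by
    rw [← hbEr]
    rintro _ ⟨x, hx, rfl⟩
    refine Subgroup.le_normalizer_map φ ⟨x, ?_, rfl⟩
    rw [SetLike.mem_coe, mem_normalizer_iff]
    exact fun n => mem_normalizer_iff.mp (hNn hx) n
  have hcen : b N ≤ centralizer (b R : Set B) := (cases' _ hNb hNbn).resolve_left htop
  set C0 := centralizer (b R : Set B) with hC0
  haveI hC0n : C0.Normal := by rw [hC0]; infer_instance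
  have hYC0 : b Y ≤ C0 := by
    rintro _ ⟨y, hy, rfl⟩
    refine comm_trivial hperf fun r hr => ?_
    rw [← hbEr] at hr
    obtain ⟨x, hx, rfl⟩ := hr
    have h1 : φ y * φ x * (φ y)⁻¹ * (φ x)⁻¹ ∈ b N := by
      refine ⟨y * x * y⁻¹ * x⁻¹, ?_, by simp⟩
      show ((y * x * y⁻¹ * x⁻¹ : ↥E) : G) ∈ N
      have h2 := inv_mem (Subgroup.commutator_mem_commutator (H₁ := Er) (H₂ := Y) hx hy)
      simpa [commutatorElement_def, mul_assoc] using h2
    exact ⟨hNb h1, hcen h1⟩
  -- `C₀` is nilpotent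
  obtain ⟨S⟩ : Nonempty (Sylow p ↥E) := inferInstance
  have hquot : IsPGroup p (B ⧸ b R) := by
    intro z
    obtain ⟨x, rfl⟩ := QuotientGroup.mk'_surjective (b R) z
    obtain ⟨e, rfl⟩ := hφ x
    have hmod : PMod p ((S : Subgroup ↥E) ⊔ Cfsg.pResidual p ↥E) (Cfsg.pResidual p ↥E) := by
      haveI := CfsgLib.Local.pResidual_normal' p ↥E
      exact pMod_sup (CfsgLib.Local.WProd.pMod_of_isPGroup S.isPGroup')
        (by rw [Subgroup.normalizer_eq_top]; exact le_top)
    obtain ⟨k, hk⟩ := hmod e (by rw [CfsgLib.Local.sylow_sup_pResidual]; exact mem_top e)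
    refine ⟨k, ?_⟩
    rw [← map_pow, ← map_pow]
    refine (QuotientGroup.eq_one_iff _).mpr ⟨_, ?_, rfl⟩
    show ((e ^ p ^ k : ↥E) : G) ∈ R
    rw [hR, ← map_pResidual]
    exact ⟨_, hk, rfl⟩
  haveI : Group.IsNilpotent ↥C0 := by
    let f : ↥C0 →* B ⧸ b R := (QuotientGroup.mk' (b R)).comp C0.subtype
    haveI := hquot.isNilpotent
    refine Subgroup.isNilpotent_of_ker_le_center f ?_
    intro c hc
    rw [MonoidHom.mem_ker, MonoidHom.comp_apply, QuotientGroup.mk'_apply,
      QuotientGroup.eq_one_iff] at hc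
    exact mem_center_iff.mpr fun d => Subtype.ext (mem_centralizer_iff.mp d.2 c hc).symm
  have hYp' : IsPGroup p ↥((b Y).subgroupOf C0) := isPGroup_subgroupOf (hbp Y hYp)
  obtain ⟨T, hT⟩ := hYp'.exists_le_sylow
  haveI : (T : Subgroup ↥C0).Normal := inferInstance
  have h1 : ((T : Subgroup ↥C0).map C0.subtype).Normal := by
    haveI := Sylow.characteristic_of_normal T ‹_›
    exact CfsgLib.Core.map_subtype_normal_of_characteristic hC0n ‹_›
  have h2 := hpcore _ h1 (T.isPGroup'.map _)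
  refine hYC fun y hy => ?_
  have h3 : φ ⟨y, hYE hy⟩ ∈ b Y := ⟨_, hy, rfl⟩
  have h4 : φ ⟨y, hYE hy⟩ ∈ (T : Subgroup ↥C0).map C0.subtype :=
    ⟨⟨_, hYC0 h3⟩, hT h3, rfl⟩
  rw [h2, Subgroup.mem_bot] at h4
  exact ((hbker y (hYE hy)).mp h4).2

end CfsgLib.Local.QuasiLarge
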