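import Cfsg.Agent.Lib.TransferMore
import Cfsg.Agent.Lib.TransferPGroups
import Cfsg.Agent.Lib.CoreCoprime2
import Cfsg.Prelude.Def_CaseTheorems

/-!
# `p`-groups of rank at most two: the subgroup generated by the elements of order `p`
-/

set_option autoImplicit false

universe u

namespace CfsgLib.RankTwo

open Subgroup CfsgLib.Core
open scoped commutatorElement IsMulCommutative

set_option linter.unusedSectionVars false

variable {G : Type u} [Group G] [Finite G] {p : ℕ} [hp : Fact p.Prime]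

/-- A group of exponent `p` and rank at most two has order at most `p³`. -/
theorem card_le_cube (N : Subgroup G) (hexp : ∀ x ∈ N, x ^ p = 1)
    (hrk : ∀ E : Subgroup G, IsMulCommutative E → (∀ e ∈ E, e ^ p = 1) → Nat.card E ≤ p ^ 2) :
    Nat.card N ≤ p ^ 3 := by
  have hN : IsPGroup p N := fun x => ⟨1, Subtype.ext (by
    show (x : G) ^ p ^ 1 = 1
    rw [pow_one]; exact hexp x x.2)⟩
  obtain ⟨A, ⟨hAn, hAc⟩, hmax⟩ := Set.exists_max_image
    {A : Subgroup N | A.Normal ∧ IsMulCommutative A} (fun A => Nat.card A) (Set.toFinite _)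
    ⟨⊥, inferInstance, inferInstance⟩
  haveI := hAn
  haveI := hAc
  obtain ⟨a, ha⟩ := IsPGroup.iff_card.mp (hN.to_subgroup A)
  have ha2 : a ≤ 2 := by
    have h := hrk (A.map N.subtype) inferInstance (by
      rintro _ ⟨x, -, rfl⟩
      exact hexp x x.2)
    rw [card_map_of_injective N.subtype_injective, ha] at h
    exact (Nat.pow_le_pow_iff_right hp.out.one_lt).mp h
  have h := CfsgLib.Transfer.card_le_of_maximal_abelian hN A hAc
    (fun B hB hBc hAB => (eq_of_le_of_card_le hAB (hmax B ⟨hB, hBc⟩)).symm) a ha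
  refine h.trans (Nat.pow_le_pow_right hp.out.pos ?_)
  interval_cases a <;> norm_num

theorem choose_vanish {x : G} (h : x ^ p = 1) {k : ℕ} (hk : k ≠ 0) (hkp : k < p) :
    x ^ p.choose k = 1 := by
  obtain ⟨m, hm⟩ := hp.out.dvd_choose_self hk hkp
  rw [hm, pow_mul, h, one_pow]

/-- The power of a product in a small configuration. -/
theorem mul_pow_of_three (hp3 : 3 < p) {x y c d e : G}
    (hc : c ^ p = 1) (hd : d ^ p = 1) (he : e ^ p = 1)
    (hyx : y * x * y⁻¹ = x * c) (hyc : y * c * y⁻¹ = c * d) (hyd : y * d * y⁻¹ = d)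
    (hcx : c * x = x * c * e) (hdx : Commute d x) (hdc : Commute d c)
    (hex : Commute e x) (hec : Commute e c) (hed : Commute e d) :
    (x * y) ^ p = x ^ p * y ^ p := by
  have hσ : ∀ k : ℕ, y ^ k * x * (y ^ k)⁻¹ = x * c ^ k * d ^ k.choose 2 := by
    intro k
    induction k with
    | zero => simp
    | succ k ih =>
      have e1 : y * c ^ k * y⁻¹ = c ^ k * d ^ k := by
        rw [← conj_pow, hyc, hdc.symm.mul_pow]
      have e2 : y * d ^ k.choose 2 * y⁻¹ = d ^ k.choose 2 := by rw [← conj_pow, hyd]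
      calc y ^ (k + 1) * x * (y ^ (k + 1))⁻¹ = y * (y ^ k * x * (y ^ k)⁻¹) * y⁻¹ := by
            rw [pow_succ']; group
        _ = (y * x * y⁻¹) * (y * c ^ k * y⁻¹) * (y * d ^ k.choose 2 * y⁻¹) := by rw [ih]; group
        _ = _ := by
            rw [hyx, e1, e2, Nat.choose_succ_succ', Nat.choose_one_right, pow_succ' c, pow_add]
            simp only [mul_assoc]
  have hmove : ∀ a : ℕ, c ^ a * x = x * c ^ a * e ^ a := by
    intro a
    induction a with
    | zero => simp
    | succ a ih =>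
      calc c ^ (a + 1) * x = c * (c ^ a * x) := by rw [pow_succ']; group
        _ = (c * x) * (c ^ a * e ^ a) := by rw [ih]; group
        _ = x * c * (e * c ^ a) * e ^ a := by rw [hcx]; group
        _ = x * c * (c ^ a * e) * e ^ a := by rw [(hec.pow_right a).eq]
        _ = _ := by rw [pow_succ' c, pow_succ' e]; simp only [mul_assoc]
  have key : ∀ k : ℕ, (x * y) ^ k =
      x ^ k * c ^ k.choose 2 * d ^ k.choose 3 * e ^ k.choose 3 * y ^ k := by
    intro k
    induction k with
    | zero => simp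
    | succ k ih =>
      set a := k.choose 2
      set b := k.choose 3
      have h1 : e ^ b * (x * c ^ k * d ^ a) = x * c ^ k * d ^ a * e ^ b :=
        ((((hex.pow_left b).mul_right (hec.pow_pow b k))).mul_right (hed.pow_pow b a)).eq
      have h2 : d ^ b * (x * c ^ k) = x * c ^ k * d ^ b :=
        ((hdx.pow_left b).mul_right (hdc.pow_pow b k)).eq
      calc (x * y) ^ (k + 1)
          = x ^ k * c ^ a * d ^ b * e ^ b * (y ^ k * x * (y ^ k)⁻¹) * y ^ (k + 1) := by
            rw [pow_succ, ih, pow_succ y]; group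
        _ = x ^ k * c ^ a * d ^ b * (e ^ b * (x * c ^ k * d ^ a)) * y ^ (k + 1) := by
            rw [hσ, show k.choose 2 = a from rfl]; simp only [mul_assoc]
        _ = x ^ k * c ^ a * (d ^ b * (x * c ^ k)) * d ^ a * e ^ b * y ^ (k + 1) := by
            rw [h1]; simp only [mul_assoc]
        _ = x ^ k * (c ^ a * x) * c ^ k * d ^ b * d ^ a * e ^ b * y ^ (k + 1) := by
            rw [h2]; simp only [mul_assoc]
        _ = x ^ k * x * c ^ a * (e ^ a * c ^ k) * d ^ b * d ^ a * e ^ b * y ^ (k + 1) := by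
            rw [hmove]; simp only [mul_assoc]
        _ = x ^ k * x * c ^ a * c ^ k * (e ^ a * (d ^ b * d ^ a)) * e ^ b * y ^ (k + 1) := by
            rw [(hec.pow_pow a k).eq]; simp only [mul_assoc]
        _ = x ^ (k + 1) * c ^ (a + k) * d ^ (b + a) * e ^ (a + b) * y ^ (k + 1) := by
            rw [← pow_add d, (hed.pow_pow a (b + a)).eq, pow_succ x, pow_add c, pow_add e]
            simp only [mul_assoc]
        _ = _ := by
            rw [Nat.choose_succ_succ' k 1, Nat.choose_one_right, Nat.choose_succ_succ' k 2,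
              show k + k.choose (1 + 1) = a + k from add_comm _ _,
              show k.choose 2 + k.choose (2 + 1) = a + b from rfl, add_comm b a]
  rw [key p, choose_vanish hc two_ne_zero (by omega),
    choose_vanish hd (by norm_num) hp3, choose_vanish he (by norm_num) hp3]
  simp

theorem mul_pow_eq_one (hp3 : 3 < p) (hG : IsPGroup p G)
    (hrk : ∀ E : Subgroup G, IsMulCommutative E → (∀ e ∈ E, e ^ p = 1) → Nat.card E ≤ p ^ 2) :
    ∀ (n : ℕ) (K : Subgroup G), Nat.card K = n → ∀ x ∈ K, ∀ y ∈ K,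
      x ^ p = 1 → y ^ p = 1 → (x * y) ^ p = 1 := by
  intro n
  induction n using Nat.strong_induction_on with
  | _ n ih =>
  intro K hn x hx y hy hxp hyp
  by_cases hgen : zpowers x = K
  · obtain ⟨i, rfl⟩ := mem_zpowers_iff.mp (hgen.ge hy)
    rw [((Commute.refl x).zpow_right i).mul_pow, hxp, hyp, one_mul]
  haveI := (hG.to_subgroup K).isNilpotent
  have hne : zpowers (⟨x, hx⟩ : K) ≠ ⊤ := fun e => hgen (by
    have := congrArg (Subgroup.map K.subtype) e
    rwa [MonoidHom.map_zpowers, ← MonoidHom.range_eq_map, range_subtype] at this)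
  obtain ⟨M, hM, hle⟩ := (eq_top_or_exists_le_coatom _).resolve_left hne
  haveI hMn : M.Normal :=
    NormalizerCondition.normal_of_coatom M Group.normalizerCondition_of_isNilpotent hM
  set M' := M.map K.subtype with hM'
  have hxM : x ∈ M' := ⟨⟨x, hx⟩, hle (mem_zpowers _), rfl⟩
  have hlt : Nat.card M' < n := by
    rw [hM', card_map_of_injective K.subtype_injective, ← hn]
    exact lt_of_le_of_ne (card_le_card_group M) fun e => hM.1 (eq_top_of_card_eq M e)
  let N : Subgroup G :=
    { carrier := {g | g ∈ M' ∧ g ^ p = 1}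
      one_mem' := ⟨one_mem _, one_pow _⟩
      mul_mem' := fun {a b} ha hb =>
        ⟨mul_mem ha.1 hb.1, ih _ hlt M' rfl a ha.1 b hb.1 ha.2 hb.2⟩
      inv_mem' := fun {a} ha => ⟨inv_mem ha.1, by rw [inv_pow, ha.2, inv_one]⟩ }
  have hKN : K ≤ normalizer (N : Set G) := le_normalizer_iff_forall.mpr fun k hk g hg => by
    obtain ⟨⟨m, hm, hm'⟩, hgp⟩ := hg
    refine ⟨⟨⟨k, hk⟩ * m * ⟨k, hk⟩⁻¹, hMn.conj_mem m hm _, ?_⟩, by
      rw [conj_pow, hgp, mul_one, mul_inv_cancel]⟩
    simp [← hm']
  have hxN : x ∈ N := ⟨hxM, hxp⟩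
  have hNK : N ≤ K := fun g hg => by
    obtain ⟨m, -, rfl⟩ := hg.1
    exact m.2
  have hcN := card_le_cube N (fun g hg => hg.2) hrk
  -- three steps down
  have hstep : ∀ U : Subgroup G, U ≤ K → K ≤ normalizer (U : Set G) →
      ⁅U, K⁆ ≤ U ∧ K ≤ normalizer ((⁅U, K⁆ : Subgroup G) : Set G) ∧
        (U ≠ ⊥ → Nat.card ↥⁅U, K⁆ * p ≤ Nat.card U) := by
    intro U hUK hKU
    refine ⟨commutator_le_of_le_normalizer hKU, le_normalizer_commutator_right U K, fun hU => ?_⟩
    have hne := commutator_lt_of_isPGroup (p := p) (hG.to_subgroup U) (hG.to_subgroup K) hKU hU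
    obtain ⟨a, ha⟩ := IsPGroup.iff_card.mp (hG.to_subgroup U)
    obtain ⟨b, hab, hb⟩ := (Nat.dvd_prime_pow hp.out).mp
      (ha ▸ card_dvd_of_le (commutator_le_of_le_normalizer hKU))
    have : b ≠ a := fun e => hne (eq_of_le_of_card_le (commutator_le_of_le_normalizer hKU)
      (by rw [hb, ha, e]))
    rw [ha, hb, ← pow_succ]
    exact Nat.pow_le_pow_right hp.out.pos (by omega)
  set N₁ := ⁅N, K⁆ with hN₁
  set N₂ := ⁅N₁, K⁆ with hN₂
  obtain ⟨h1le, h1n, h1c⟩ := hstep N hNK hKN
  obtain ⟨h2le, h2n, h2c⟩ := hstep N₁ (h1le.trans hNK) h1n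
  obtain ⟨h3le, -, h3c⟩ := hstep N₂ ((h2le.trans h1le).trans hNK) h2n
  have hpos : ∀ U : Subgroup G, 0 < Nat.card U := fun U => Nat.card_pos
  have hN3 : ⁅N₂, K⁆ = ⊥ := by
    by_contra hne
    have hN2 : N₂ ≠ ⊥ := fun e => hne (eq_bot_iff.mpr (h3le.trans e.le))
    have hN1 : N₁ ≠ ⊥ := fun e => hN2 (eq_bot_iff.mpr (h2le.trans e.le))
    have hN0 : N ≠ ⊥ := fun e => hN1 (eq_bot_iff.mpr (h1le.trans e.le))
    have h4 : p * p * p * p ≤ p ^ 3 := by
      have h5 : p ≤ Nat.card ↥⁅N₂, K⁆ := by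
        obtain ⟨a, ha⟩ := IsPGroup.iff_card.mp (hG.to_subgroup ⁅N₂, K⁆)
        rcases Nat.eq_zero_or_pos a with rfl | hpos
        · exact absurd (eq_bot_of_card_eq _ (by simpa using ha)) hne
        · rw [ha]; exact Nat.le_self_pow hpos.ne' p
      calc p * p * p * p ≤ Nat.card ↥⁅N₂, K⁆ * p * p * p := by gcongr
        _ ≤ Nat.card N₂ * p * p := by gcongr; exact h3c hN2
        _ ≤ Nat.card N₁ * p := by gcongr; exact h2c hN1
        _ ≤ Nat.card N := h1c hN0
        _ ≤ _ := hcN
    have : p ^ 4 ≤ p ^ 3 := by rwa [show p ^ 4 = p * p * p * p by ring]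
    exact absurd ((Nat.pow_le_pow_iff_right hp.out.one_lt).mp this) (by norm_num)
  have hcentral : ∀ g ∈ N₂, ∀ k ∈ K, Commute g k := fun g hg k hk => by
    have := commutator_mem_commutator hg hk
    rw [hN3, mem_bot, commutatorElement_eq_one_iff_mul_comm] at this
    exact this
  set c := x⁻¹ * (y * x * y⁻¹) with hcdef
  have hc1 : c ∈ N₁ := by
    rw [hN₁, hcdef, show x⁻¹ * (y * x * y⁻¹) = ⁅x⁻¹, y⁆ by rw [commutatorElement_def]; group]
    exact commutator_mem_commutator (inv_mem hxN) hy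
  set d := c⁻¹ * (y * c * y⁻¹) with hddef
  have hd2 : d ∈ N₂ := by
    rw [hN₂, hddef, show c⁻¹ * (y * c * y⁻¹) = ⁅c⁻¹, y⁆ by rw [commutatorElement_def]; group]
    exact commutator_mem_commutator (inv_mem hc1) hy
  set e := (x * c)⁻¹ * (c * x) with hedef
  have he2 : e ∈ N₂ := by
    rw [hN₂, hedef, show (x * c)⁻¹ * (c * x) = ⁅c⁻¹, x⁻¹⁆ by rw [commutatorElement_def]; group]
    exact commutator_mem_commutator (inv_mem hc1) (inv_mem hx)
  have hcK : c ∈ K := hNK (h1le hc1)
  refine (mul_pow_of_three (x := x) (y := y) hp3 (h1le hc1).2 (h1le (h2le hd2)).2 (h1le (h2le he2)).2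
    (by rw [hcdef]; group) (by rw [hddef]; group)
    (by rw [← (hcentral d hd2 y hy).eq, mul_inv_cancel_right])
    (by rw [hedef]; group) (hcentral d hd2 x hx) (hcentral d hd2 c hcK)
    (hcentral e he2 x hx) (hcentral e he2 c hcK) (hcentral e he2 d (hNK (h1le (h2le hd2))))).trans ?_
  rw [hxp, hyp, one_mul]

theorem omega_exponent (hp3 : 3 < p) (hG : IsPGroup p G)
    (hrk : ∀ E : Subgroup G, IsMulCommutative E → (∀ e ∈ E, e ^ p = 1) → Nat.card E ≤ p ^ 2)
    (g : G) (hg : g ∈ closure {x : G | x ^ p = 1}) : g ^ p = 1 := by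
  induction hg using closure_induction with
  | mem x hx => exact hx
  | one => exact one_pow _
  | mul x y _ _ hx hy => exact mul_pow_eq_one hp3 hG hrk _ ⊤ rfl x (mem_top x) y (mem_top y) hx hy
  | inv x _ hx => rw [inv_pow, hx, inv_one]

/-- An automorphism of prime order `q` fixing a set of size congruent to it. -/
theorem modEq_fixed {q : ℕ} [Fact q.Prime] (a : MulAut G) (ha : a ^ q = 1) :
    ∃ F : Subgroup G, (∀ x, x ∈ F ↔ a x = x) ∧ Nat.card G ≡ Nat.card F [MOD q] := by
  let F : Subgroup G := (a.toMonoidHom).eqLocus (MonoidHom.id G)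
  refine ⟨F, fun x => Iff.rfl, ?_⟩
  haveI : Finite (MulAut G) := Finite.of_injective _ DFunLike.coe_injective
  have hY : IsPGroup q (zpowers a) := by
    intro z
    refine ⟨1, Subtype.ext ?_⟩
    obtain ⟨i, hi⟩ := mem_zpowers_iff.mp z.2
    rw [Subgroup.coe_pow, ← hi, pow_one, ← zpow_natCast, ← zpow_mul, mul_comm, zpow_mul,
      zpow_natCast, ha, one_zpow, Subgroup.coe_one]
  refine (hY.card_modEq_card_fixedPoints G).trans ?_
  rw [Nat.card_congr (α := MulAction.fixedPoints (zpowers a) G) (β := F)]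
  exact
  { toFun := fun w => ⟨w.1, w.2 ⟨a, mem_zpowers a⟩⟩
    invFun := fun w => ⟨w.1, fun y => by
      obtain ⟨i, hi⟩ := mem_zpowers_iff.mp y.2
      have hst : a ∈ MulAction.stabilizer (MulAut G) (w.1 : G) := w.2
      have := zpow_mem hst i
      rw [hi] at this
      exact this⟩
    left_inv := fun w => rfl
    right_inv := fun w => rfl }

theorem prime_dvd_aut (hp2 : p ≠ 2) (hG : IsPGroup p G) (hrk : Cfsg.PRankLE p 2 G) (q : ℕ)
    (hq : q.Prime) (hqp : q ≠ p) (hdvd : q ∣ Nat.card (MulAut G)) : q ∣ p ^ 2 - 1 ∧ q < p := by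
  haveI : Fact q.Prime := ⟨hq⟩
  haveI : Finite (MulAut G) := Finite.of_injective _ DFunLike.coe_injective
  obtain ⟨a, ha⟩ := exists_prime_orderOf_dvd_card' q hdvd
  have haq : a ^ q = 1 := ha ▸ pow_orderOf_eq_one a
  have hacop : (orderOf a).Coprime p := ha ▸ (Nat.coprime_primes hq hp.out).mpr hqp
  obtain ⟨H, hHc, -, hHZ, hself⟩ := CfsgLib.Transfer.exists_critical hG
  haveI := hHc
  have hfix : ∀ x, x ∈ H → a x ∈ H := fun x hx =>
    (characteristic_iff_map_eq.mp hHc a).le ⟨x, hx, rfl⟩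
  have hclass : ⁅_root_.commutator H, (⊤ : Subgroup H)⁆ = ⊥ := by
    rw [eq_bot_iff, commutator_def, ← map_le_map_iff_of_injective H.subtype_injective,
      map_commutator, map_commutator, ← MonoidHom.range_eq_map, range_subtype, Subgroup.map_bot]
    refine le_bot_iff.mpr (commutator_eq_bot_iff_le_centralizer.mpr ?_)
    exact (commutator_mono le_rfl le_top).trans (hHZ.trans inf_le_right)
  let W : Subgroup G :=
    { carrier := {g | g ∈ H ∧ g ^ p = 1}
      one_mem' := ⟨one_mem _, one_pow _⟩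
      mul_mem' := fun {x y} hx hy => ⟨mul_mem hx.1 hy.1, congrArg Subtype.val
        (CfsgLib.Transfer.class_two_exponent hp2 hclass ((⟨x, hx.1⟩ : H) * ⟨y, hy.1⟩)
          (mul_mem (subset_closure (Subtype.ext hx.2)) (subset_closure (Subtype.ext hy.2))))⟩
      inv_mem' := fun {x} hx => ⟨inv_mem hx.1, by rw [inv_pow, hx.2, inv_one]⟩ }
  have hWfix : ∀ x ∈ W, a x ∈ W := fun x hx => ⟨hfix x hx.1, by rw [← map_pow, hx.2, map_one]⟩
  have hmap : W.map a.toMonoidHom = W := eq_of_le_of_card_le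
    (by rintro _ ⟨x, hx, rfl⟩; exact hWfix x hx)
    (by rw [card_map_of_injective (f := a.toMonoidHom) a.injective])
  let b : MulAut W := (a.subgroupMap W).trans (MulEquiv.subgroupCongr hmap)
  have hbcoe : ∀ w : W, ((b w : W) : G) = a (w : G) := fun w => rfl
  have hbpow : ∀ (k : ℕ) (w : W), (((b ^ k) w : W) : G) = (a ^ k) (w : G) := by
    intro k
    induction k with
    | zero => intro w; rfl
    | succ k ih => intro w; rw [pow_succ, pow_succ, MulAut.mul_apply, MulAut.mul_apply, ih, hbcoe]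
  have hbq : b ^ q = 1 := MulEquiv.ext fun w => Subtype.ext (by rw [hbpow, haq]; rfl)
  have hb1 : ¬ ∀ w : W, b w = w := by
    intro hb
    have hH : ∀ x ∈ H, a x = x := by
      have hmapH : H.map a.toMonoidHom = H := characteristic_iff_map_eq.mp hHc a
      let c : MulAut H := (a.subgroupMap H).trans (MulEquiv.subgroupCongr hmapH)
      have hcpow : ∀ (k : ℕ) (w : H), (((c ^ k) w : H) : G) = (a ^ k) (w : G) := by
        intro k
        induction k with
        | zero => intro w; rfl
        | succ k ih =>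
          intro w
          rw [pow_succ, pow_succ, MulAut.mul_apply, MulAut.mul_apply, ih]
          rfl
      have hcq : c ^ q = 1 := MulEquiv.ext fun w => Subtype.ext (by rw [hcpow, haq]; rfl)
      have hc1 : c = 1 := CfsgLib.Transfer.aut_eq_one_of_omega hp2 (hG.to_subgroup H) c
        (Nat.Coprime.coprime_dvd_left (orderOf_dvd_of_pow_eq_one hcq)
          ((Nat.coprime_primes hq hp.out).mpr hqp))
        fun w hw => Subtype.ext (congrArg Subtype.val (hb ⟨w, w.2, congrArg Subtype.val hw⟩) :)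
      intro x hx
      exact congrArg Subtype.val (DFunLike.congr_fun hc1 (⟨x, hx⟩ : H) : c ⟨x, hx⟩ = ⟨x, hx⟩)
    have ha1 := CfsgLib.Transfer.aut_eq_one_of_self_centralizing H inferInstance
      (hG.to_subgroup H) hself a hacop hH
    rw [ha1, orderOf_one] at ha
    exact hq.one_lt.ne ha
  obtain ⟨F, hF, hFmod⟩ := modEq_fixed b hbq
  have hFne : F ≠ ⊤ := fun e => hb1 fun w => (hF w).mp (e ▸ mem_top w)
  have hW3 : Nat.card W ≤ p ^ 3 := card_le_cube W (fun x hx => hx.2) hrk
  obtain ⟨n, hn⟩ := IsPGroup.iff_card.mp (hG.to_subgroup W)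
  obtain ⟨f, hf⟩ := IsPGroup.iff_card.mp ((hG.to_subgroup W).to_subgroup F)
  have hfn : f < n := by
    have hlt : Nat.card F < Nat.card W :=
      lt_of_le_of_ne (card_le_card_group F) fun e => hFne (eq_top_of_card_eq F e)
    rw [hf, hn] at hlt
    exact (Nat.pow_lt_pow_iff_right hp.out.one_lt).mp hlt
  have hn3 : n ≤ 3 := (Nat.pow_le_pow_iff_right hp.out.one_lt).mp (hn ▸ hW3)
  have hsplit : ∀ i j : ℕ, p ^ (i + j) ≡ p ^ i [MOD q] → q ∣ p ^ j - 1 := by
    intro i j h
    have h1 := (Nat.modEq_iff_dvd' (Nat.pow_le_pow_right hp.out.pos (Nat.le_add_right i j))).mp h.symm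
    rw [pow_add, ← Nat.mul_sub_one] at h1
    exact (hq.dvd_mul.mp h1).resolve_left fun hd =>
      hqp ((Nat.prime_dvd_prime_iff_eq hq hp.out).mp (hq.dvd_of_dvd_pow hd))
  have hone : q ∣ p - 1 → q ∣ p ^ 2 - 1 := fun h => h.trans (by
    simpa using Nat.sub_dvd_pow_sub_pow p 1 2)
  have hmain : q ∣ p ^ 2 - 1 := by
    rw [hn, hf] at hFmod
    obtain ⟨j, rfl⟩ := Nat.exists_eq_add_of_le hfn.le
    have hj := hsplit f j hFmod
    by_cases hj2 : j ≤ 2
    · interval_cases j
      · omega
      · exact hone (by simpa using hj)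
      · exact hj
    -- the only remaining case: a free action on a group of order `p³`
    obtain rfl : f = 0 := by omega
    obtain rfl : j = 3 := by omega
    set Z := center W with hZ
    have hWne : ¬ IsMulCommutative W := fun hc => by
      have := hrk W hc (fun x hx => hx.2)
      rw [hn] at this
      exact absurd ((Nat.pow_le_pow_iff_right hp.out.one_lt).mp this) (by norm_num)
    obtain ⟨z, hz⟩ := IsPGroup.iff_card.mp ((hG.to_subgroup W).to_subgroup Z)
    have hnW : Nontrivial W := Finite.one_lt_card_iff_nontrivial.mp (by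
      rw [hn]; exact Nat.one_lt_pow (by norm_num) hp.out.one_lt)
    have hz1 : 1 ≤ z := by
      by_contra h0
      have hb : Z = ⊥ := eq_bot_of_card_eq _ (by rw [hz, show z = 0 by omega, pow_zero])
      exact absurd hb ((hG.to_subgroup W).center_nontrivial |> (Subgroup.nontrivial_iff_ne_bot _).mp)
    have hz3 : z ≤ 2 := by
      by_contra h0
      have hle : p ^ z ≤ p ^ (0 + 3) := by rw [← hz, ← hn]; exact card_le_card_group Z
      have hz3' : z = 3 := le_antisymm ((Nat.pow_le_pow_iff_right hp.out.one_lt).mp hle) (by omega)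
      have ht : Z = ⊤ := eq_top_of_card_eq _ (by rw [hz, hn, hz3'])
      exact hWne ⟨⟨fun x y => (Subgroup.mem_center_iff.mp (hZ ▸ ht ▸ mem_top y) x)⟩⟩
    have hZmap : Z.map b.toMonoidHom = Z := characteristic_iff_map_eq.mp inferInstance b
    let c : MulAut Z := (b.subgroupMap Z).trans (MulEquiv.subgroupCongr hZmap)
    have hcpow : ∀ (k : ℕ) (w : Z), (((c ^ k) w : Z) : W) = (b ^ k) (w : W) := by
      intro k
      induction k with
      | zero => intro w; rfl
      | succ k ih =>
        intro w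
        rw [pow_succ, pow_succ, MulAut.mul_apply, MulAut.mul_apply, ih]
        rfl
    obtain ⟨F', hF', hmod'⟩ := modEq_fixed c
      (MulEquiv.ext fun w => Subtype.ext (by rw [hcpow, hbq]; rfl))
    have hbot : F' = ⊥ := by
      have hFb : F = ⊥ := eq_bot_of_card_eq _ (by rw [hf, pow_zero])
      refine eq_bot_iff.mpr fun w hw => Subgroup.mem_bot.mpr (Subtype.ext ?_)
      have h1 : (w : W) ∈ F := (hF _).mpr (congrArg Subtype.val ((hF' w).mp hw) :)
      rw [hFb, Subgroup.mem_bot] at h1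
      exact h1
    rw [hz, hbot, card_bot] at hmod'
    have hd := hsplit 0 z (by simpa using hmod')
    interval_cases z
    · exact hone (by simpa using hd)
    · exact hd
  refine ⟨hmain, ?_⟩
  have h2 : 2 ≤ p := hp.out.two_le
  rw [show p ^ 2 - 1 = (p + 1) * (p - 1) by simpa using Nat.sq_sub_sq p 1] at hmain
  rcases hq.dvd_mul.mp hmain with h | h
  · by_contra hlt
    have hle : q ≤ p + 1 := Nat.le_of_dvd (by omega) h
    have hqeq : q = p + 1 := by omega
    have hodd := hp.out.odd_of_ne_two hp2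
    have heven : Even q := hqeq ▸ hodd.add_one
    have := hq.even_iff.mp heven
    omega
  · have := Nat.le_of_dvd (by omega) h
    omega

end CfsgLib.RankTwo
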