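import Cfsg.Prelude.Def_PLocal
import Cfsg.Agent.Lib.CoreCoprime
import Cfsg.Agent.Lib.CoreSubnormal

/-!
# Quadratic action and elementary properties of the Thompson subgroup
-/

set_option autoImplicit false

universe u

namespace CfsgLib.LocalThompson

open Subgroup
open scoped commutatorElement

set_option linter.unusedSectionVars false

variable {G : Type u} [Group G] [Finite G] {p : ℕ} [hp : Fact p.Prime]

theorem ea_comm {A : Subgroup G} (h : Cfsg.IsElementaryAbelian p A) {a b : G} (ha : a ∈ A)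
    (hb : b ∈ A) : Commute a b :=
  congrArg Subtype.val (h.1.is_comm.comm (⟨a, ha⟩ : A) ⟨b, hb⟩)

theorem isPGroup_of_pow {A : Subgroup G} (h : ∀ a ∈ A, a ^ p = 1) : IsPGroup p A :=
  fun a => ⟨1, Subtype.ext (by
    show (a : G) ^ p ^ 1 = 1
    rw [pow_one]; exact h a a.2)⟩

theorem isEA_sup {A B : Subgroup G} (hA : Cfsg.IsElementaryAbelian p A)
    (hB : Cfsg.IsElementaryAbelian p B) (h : ∀ a ∈ A, ∀ b ∈ B, Commute a b) :
    Cfsg.IsElementaryAbelian p (A ⊔ B) := by
  have hn : A ≤ normalizer (B : Set G) := fun a ha =>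
    centralizer_le_normalizer _ (mem_centralizer_iff.mpr fun b hb => (h a ha b hb).symm.eq)
  have hmem : ∀ g ∈ A ⊔ B, ∃ a ∈ A, ∃ b ∈ B, a * b = g := fun g hg =>
    (CfsgLib.Core.mem_sup_iff_of_le_normalizer hn).mp hg
  refine ⟨⟨⟨fun u v => Subtype.ext ?_⟩⟩, fun g hg => ?_⟩
  · obtain ⟨a, ha, b, hb, hab⟩ := hmem u u.2
    obtain ⟨c, hc, d, hd, hcd⟩ := hmem v v.2
    show (u : G) * v = v * u
    rw [← hab, ← hcd]
    exact (((ea_comm hA ha hc).mul_right (h a ha d hd)).mul_left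
      ((h c hc b hb).symm.mul_right (ea_comm hB hb hd))).eq
  · obtain ⟨a, ha, b, hb, rfl⟩ := hmem g hg
    rw [(h a ha b hb).mul_pow, hA.2 a ha, hB.2 b hb, one_mul]

theorem isEA_of_le {A B : Subgroup G} (hA : Cfsg.IsElementaryAbelian p A) (h : B ≤ A) :
    Cfsg.IsElementaryAbelian p B :=
  ⟨⟨⟨fun u v => Subtype.ext (ea_comm hA (h u.2) (h v.2)).eq⟩⟩, fun g hg => hA.2 g (h hg)⟩

theorem isEA_zpowers {x : G} (hx : x ^ p = 1) : Cfsg.IsElementaryAbelian p (zpowers x) := by
  refine ⟨inferInstance, ?_⟩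
  rintro _ ⟨i, rfl⟩
  show (x ^ i) ^ p = 1
  rw [← zpow_natCast, ← zpow_mul, mul_comm, zpow_mul, zpow_natCast, hx, one_zpow]

theorem isEA_map {H : Type u} [Group H] (f : G →* H) {A : Subgroup G}
    (hA : Cfsg.IsElementaryAbelian p A) : Cfsg.IsElementaryAbelian p (A.map f) := by
  have := hA.1
  refine ⟨inferInstance, ?_⟩
  rintro _ ⟨a, ha, rfl⟩
  rw [← map_pow, hA.2 a ha, map_one]

theorem isEA_of_map {H : Type u} [Group H] (f : G →* H) (hf : Function.Injective f) {A : Subgroup G}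
    (hA : Cfsg.IsElementaryAbelian p (A.map f)) : Cfsg.IsElementaryAbelian p A := by
  refine ⟨⟨⟨fun u v => Subtype.ext (hf ?_)⟩⟩, fun a ha => hf ?_⟩
  · show f ((u : G) * v) = f ((v : G) * u)
    rw [map_mul, map_mul]
    exact congrArg Subtype.val (hA.1.is_comm.comm (⟨_, u, u.2, rfl⟩ : A.map f) ⟨_, v, v.2, rfl⟩)
  · rw [map_pow, map_one]; exact hA.2 _ ⟨a, ha, rfl⟩

theorem exists_max : ∃ A, A ∈ Cfsg.maxElementaryAbelianSubgroups p G := by
  obtain ⟨A, hA, hmax⟩ := Set.Finite.exists_maximalFor (fun A : Subgroup G => Nat.card A)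
    {A : Subgroup G | Cfsg.IsElementaryAbelian p A} (Set.toFinite _) ⟨⊥, inferInstance, fun a ha => by rw [mem_bot.mp ha, one_pow]⟩
  exact ⟨A, hA, fun B hB => by
    rcases le_total (Nat.card B) (Nat.card A) with h | h
    · exact h
    · exact hmax hB h⟩

theorem mem_of_max_of_commute {A : Subgroup G} (hA : A ∈ Cfsg.maxElementaryAbelianSubgroups p G)
    {x : G} (hx : x ^ p = 1) (hc : ∀ a ∈ A, Commute a x) : x ∈ A := by
  have h1 := isEA_sup hA.1 (isEA_zpowers hx) (by
    rintro a ha _ ⟨i, rfl⟩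
    exact (hc a ha).zpow_right i)
  rw [CfsgLib.Core.eq_of_le_of_card_le le_sup_left (hA.2 _ h1)]
  exact mem_sup_right (mem_zpowers x)

theorem quad_kills (V H : Subgroup G) (hV : Cfsg.IsElementaryAbelian p V)
    (hHV : H ≤ normalizer (V : Set G)) (hq : ⁅⁅V, H⁆, H⁆ = ⊥) :
    ⁅H, H⁆ ≤ centralizer (V : Set G) ∧ ∀ a ∈ H, a ^ p ∈ centralizer (V : Set G) := by
  have hcV : ∀ g ∈ H, ∀ v ∈ V, ⁅g, v⁆ ∈ V := fun g hg v hv => by
    rw [commutatorElement_def]
    exact mul_mem ((mem_normalizer_iff.mp (hHV hg) v).mp hv) (inv_mem hv)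
  have hfix : ∀ g ∈ H, ∀ h ∈ H, ∀ v ∈ V, Commute h ⁅g, v⁆ := fun g hg h hh v hv => by
    have h1 : ⁅⁅g, v⁆, h⁆ ∈ ⁅⁅V, H⁆, H⁆ := commutator_mem_commutator
      (commutator_comm V H ▸ commutator_mem_commutator hg hv) hh
    rw [hq, mem_bot, commutatorElement_eq_one_iff_mul_comm] at h1
    exact h1.symm
  have hconj : ∀ g v : G, g * v * g⁻¹ = ⁅g, v⁆ * v := fun g v => by
    rw [commutatorElement_def, inv_mul_cancel_right]
  have hcomp : ∀ g ∈ H, ∀ h ∈ H, ∀ v ∈ V, g * h * v * (g * h)⁻¹ = ⁅h, v⁆ * ⁅g, v⁆ * v := by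
    intro g hg h hh v hv
    calc g * h * v * (g * h)⁻¹ = g * (h * v * h⁻¹) * g⁻¹ := by group
      _ = (g * ⁅h, v⁆ * g⁻¹) * (g * v * g⁻¹) := by rw [hconj h v]; group
      _ = _ := by rw [(hfix h hh g hg v hv).eq, mul_inv_cancel_right, hconj g v, mul_assoc]
  constructor
  · refine Subgroup.commutator_le.mpr fun g hg h hh => mem_centralizer_iff.mpr fun v hv => ?_
    have e : g * h * v * (g * h)⁻¹ = h * g * v * (h * g)⁻¹ := by
      rw [hcomp g hg h hh v hv, hcomp h hh g hg v hv, (ea_comm hV (hcV h hh v hv) (hcV g hg v hv)).eq]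
    have e2 : (h * g)⁻¹ * (g * h) * v * ((h * g)⁻¹ * (g * h))⁻¹ = v := by
      calc _ = (h * g)⁻¹ * (g * h * v * (g * h)⁻¹) * (h * g) := by group
        _ = (h * g)⁻¹ * (h * g * v * (h * g)⁻¹) * (h * g) := by rw [e]
        _ = v := by group
    have e3 : ∀ w ∈ V, Commute ((h * g)⁻¹ * (g * h)) w := by
      intro w hw
      have e' : g * h * w * (g * h)⁻¹ = h * g * w * (h * g)⁻¹ := by
        rw [hcomp g hg h hh w hw, hcomp h hh g hg w hw, (ea_comm hV (hcV h hh w hw) (hcV g hg w hw)).eq]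
      show (h * g)⁻¹ * (g * h) * w = w * ((h * g)⁻¹ * (g * h))
      calc (h * g)⁻¹ * (g * h) * w = (h * g)⁻¹ * (g * h * w * (g * h)⁻¹) * (g * h) := by group
        _ = (h * g)⁻¹ * (h * g * w * (h * g)⁻¹) * (g * h) := by rw [e']
        _ = _ := by group
    have hn : (h * g)⁻¹ * v * (h * g) ∈ V := by
      have := (mem_normalizer_iff.mp (inv_mem (mul_mem (hHV hh) (hHV hg))) v).mp hv
      rwa [inv_inv] at this
    rw [commutatorElement_def]
    calc v * (g * h * g⁻¹ * h⁻¹)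
        = h * g * ((h * g)⁻¹ * v * (h * g) * ((h * g)⁻¹ * (g * h))) * (h * g)⁻¹ := by group
      _ = h * g * (((h * g)⁻¹ * (g * h)) * ((h * g)⁻¹ * v * (h * g))) * (h * g)⁻¹ := by
          rw [(e3 _ hn).eq]
      _ = _ := by group
  · intro a ha
    refine mem_centralizer_iff.mpr fun v hv => ?_
    have key : ∀ k : ℕ, a ^ k * v * (a ^ k)⁻¹ = ⁅a, v⁆ ^ k * v := by
      intro k
      induction k with
      | zero => simp
      | succ k ih =>
        calc a ^ (k + 1) * v * (a ^ (k + 1))⁻¹ = a * (a ^ k * v * (a ^ k)⁻¹) * a⁻¹ := by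
              rw [pow_succ']; group
          _ = (a * ⁅a, v⁆ ^ k * a⁻¹) * (a * v * a⁻¹) := by rw [ih]; group
          _ = _ := by
              rw [((hfix a ha a ha v hv).pow_right k).eq, mul_inv_cancel_right, hconj, ← mul_assoc,
                ← pow_succ]
    have h := key p
    rw [hV.2 _ (hcV a ha v hv), one_mul, mul_inv_eq_iff_eq_mul] at h
    exact h.symm

theorem quad_card (V : Subgroup G) (hV : Cfsg.IsElementaryAbelian p V) (a : G)
    (ha : a ∈ normalizer (V : Set G))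
    (hq : ⁅⁅V, zpowers a⁆, zpowers a⁆ = ⊥) :
    Nat.card V ≤ Nat.card ↥(V ⊓ centralizer (zpowers a : Set G)) ^ 2 := by
  let φ : V →* V :=
    { toFun := fun v => ⟨⁅a, (v : G)⁆, by
        rw [commutatorElement_def]
        exact mul_mem ((mem_normalizer_iff.mp ha v).mp v.2) (inv_mem v.2)⟩
      map_one' := Subtype.ext (by simp)
      map_mul' := fun u v => Subtype.ext (by
        show ⁅a, (u : G) * v⁆ = ⁅a, (u : G)⁆ * ⁅a, (v : G)⁆
        have hc : Commute (u : G) ⁅a, (v : G)⁆ := ea_comm hV u.2 (by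
          rw [commutatorElement_def]
          exact mul_mem ((mem_normalizer_iff.mp ha v).mp v.2) (inv_mem v.2))
        calc ⁅a, (u : G) * v⁆ = ⁅a, (u : G)⁆ * ((u : G) * ⁅a, (v : G)⁆ * (u : G)⁻¹) := by
              simp only [commutatorElement_def]; group
          _ = _ := by rw [hc.eq, mul_inv_cancel_right]) }
  set C := V ⊓ centralizer (zpowers a : Set G) with hC
  have hmem : ∀ v : G, v ∈ C ↔ v ∈ V ∧ Commute a v := fun v => by
    rw [hC, mem_inf, mem_centralizer_iff]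
    refine and_congr_right fun _ => ⟨fun h => h a (mem_zpowers a), ?_⟩
    rintro h _ ⟨i, rfl⟩
    exact (h.zpow_left i).eq
  have hk : φ.ker = C.subgroupOf V := by
    ext v
    rw [MonoidHom.mem_ker, mem_subgroupOf, hmem]
    refine ⟨fun h => ⟨v.2, ?_⟩, fun h => Subtype.ext ?_⟩
    · exact commutatorElement_eq_one_iff_mul_comm.mp (congrArg Subtype.val h)
    · exact commutatorElement_eq_one_iff_mul_comm.mpr h.2.eq
  have hr : φ.range ≤ φ.ker := by
    rintro _ ⟨v, rfl⟩
    rw [hk, mem_subgroupOf, hmem]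
    refine ⟨(φ v).2, ?_⟩
    have h1 : ⁅⁅a, (v : G)⁆, a⁆ ∈ ⁅⁅V, zpowers a⁆, zpowers a⁆ := commutator_mem_commutator
      (commutator_comm V (zpowers a) ▸ commutator_mem_commutator (mem_zpowers a) v.2) (mem_zpowers a)
    rw [hq, mem_bot, commutatorElement_eq_one_iff_mul_comm] at h1
    exact h1.symm
  have hkc : Nat.card φ.ker = Nat.card C := by
    rw [hk]; exact Nat.card_congr (subgroupOfEquivOfLe inf_le_left).toEquiv
  calc Nat.card V = Nat.card φ.ker * φ.ker.index := (φ.ker.card_mul_index).symm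
    _ = Nat.card φ.ker * Nat.card φ.range := by rw [Subgroup.index_ker]
    _ ≤ Nat.card φ.ker * Nat.card φ.ker := Nat.mul_le_mul_left _ (card_le_of_le hr)
    _ = _ := by rw [hkc, sq]

theorem commutator_le_pCore (V H : Subgroup G) (hV : Cfsg.IsElementaryAbelian p V)
    (hHV : H ≤ normalizer (V : Set G)) (hf : H ⊓ centralizer (V : Set G) = ⊥)
    (E₁ E₂ : Subgroup G) (h₁ : E₁ ≤ H) (h₂ : E₂ ≤ H) (hs₁ : (E₁.subgroupOf H).IsSubnormal)
    (hs₂ : (E₂.subgroupOf H).IsSubnormal) (hc : ⁅⁅V, E₁⁆, E₂⁆ = ⊥) :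
    ⁅E₁, E₂⁆ ≤ (Cfsg.pCore p H).map H.subtype := by
  set W := ⁅V, E₁⁆ with hW
  have hWV : W ≤ V := Subgroup.commutator_le.mpr fun v hv e he => by
    rw [commutatorElement_def, show v * e * v⁻¹ * e⁻¹ = v * (e * v⁻¹ * e⁻¹) by group]
    exact mul_mem hv ((mem_normalizer_iff.mp (hHV (h₁ he)) _).mp (inv_mem hv))
  have hWE₁ : ∀ e ∈ E₁, ∀ w ∈ W, e * w * e⁻¹ ∈ W := fun e he w hw =>
    (mem_normalizer_iff.mp (CfsgLib.Core.le_normalizer_commutator_right V E₁ he) w).mp hw
  -- the stabilizer of the chain `1 ≤ W ≤ V`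
  let R : Subgroup G :=
    { carrier := {g | (∀ w ∈ W, Commute g w) ∧ ∀ v ∈ V, ⁅g, v⁆ ∈ W}
      one_mem' := ⟨fun w _ => Commute.one_left w, fun v _ => by simp⟩
      mul_mem' := by
        rintro g k ⟨hg, hg'⟩ ⟨hk, hk'⟩
        refine ⟨fun w hw => (hg w hw).mul_left (hk w hw), fun v hv => ?_⟩
        rw [show ⁅g * k, v⁆ = (g * ⁅k, v⁆ * g⁻¹) * ⁅g, v⁆ by simp only [commutatorElement_def]; group,
          (hg _ (hk' v hv)).eq, mul_inv_cancel_right]
        exact mul_mem (hk' v hv) (hg' v hv)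
      inv_mem' := by
        rintro g ⟨hg, hg'⟩
        refine ⟨fun w hw => (hg w hw).inv_left, fun v hv => ?_⟩
        rw [show ⁅g⁻¹, v⁆ = g⁻¹ * ⁅g, v⁆⁻¹ * g by simp only [commutatorElement_def]; group,
          ← ((hg _ (inv_mem (hg' v hv))).inv_left).symm.eq, inv_mul_cancel_right]
        exact inv_mem (hg' v hv) }
  have hcomm : ⁅E₁, E₂⁆ ≤ R := by
    refine Subgroup.commutator_le.mpr fun e he x hx => ?_
    have hxW : ∀ w ∈ W, Commute x w := fun w hw => by
      have h1 : ⁅w, x⁆ ∈ ⁅W, E₂⁆ := commutator_mem_commutator hw hx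
      rw [hc, mem_bot, commutatorElement_eq_one_iff_mul_comm] at h1
      exact h1.symm
    refine ⟨fun w hw => ?_, fun v hv => ?_⟩
    · show ⁅e, x⁆ * w = w * ⁅e, x⁆
      have hw' := hWE₁ e⁻¹ (inv_mem he) w hw
      rw [inv_inv] at hw'
      rw [← mul_inv_eq_iff_eq_mul]
      calc ⁅e, x⁆ * w * ⁅e, x⁆⁻¹ = e * (x * (e⁻¹ * (x⁻¹ * w * x) * e) * x⁻¹) * e⁻¹ := by
            simp only [commutatorElement_def]; group
        _ = e * (x * (e⁻¹ * w * e) * x⁻¹) * e⁻¹ := by
            rw [show x⁻¹ * w * x = w by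
              rw [((hxW w hw).inv_left).eq, inv_mul_cancel_right]]
        _ = _ := by rw [(hxW _ hw').eq, mul_inv_cancel_right]; group
    · have hmod : ∀ u ∈ V, ⁅e, u⁆ ∈ W := fun u hu => by
        rw [hW, commutator_comm]; exact commutator_mem_commutator he hu
      set u := x⁻¹ * v * x with hu
      have hu' : u ∈ V := by
        have := (mem_normalizer_iff.mp (hHV (inv_mem (h₂ hx))) v).mp hv
        rwa [inv_inv] at this
      have hw1 : ⁅e⁻¹, u⁆ ∈ W := by rw [hW, commutator_comm]; exact commutator_mem_commutator (inv_mem he) hu'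
      have key : ⁅e, x⁆ * v * ⁅e, x⁆⁻¹ = e * (x * ⁅e⁻¹, u⁆ * x⁻¹) * e⁻¹ * (e * v * e⁻¹) := by
        simp only [commutatorElement_def, hu]; group
      rw [show ⁅⁅e, x⁆, v⁆ = (⁅e, x⁆ * v * ⁅e, x⁆⁻¹) * v⁻¹ from commutatorElement_def _ _, key,
        (hxW _ hw1).eq, mul_inv_cancel_right,
        show e * ⁅e⁻¹, u⁆ * e⁻¹ * (e * v * e⁻¹) * v⁻¹ = (e * ⁅e⁻¹, u⁆ * e⁻¹) * ⁅e, v⁆ by
          simp only [commutatorElement_def]; group]
      exact mul_mem (hWE₁ e he _ hw1) (hmod v hv)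
  set D := ⁅E₁, E₂⁆ with hD
  have hDH : D ≤ H := Subgroup.commutator_le.mpr fun e he x hx => by
    rw [commutatorElement_def]
    exact mul_mem (mul_mem (mul_mem (h₁ he) (h₂ hx)) (inv_mem (h₁ he))) (inv_mem (h₂ hx))
  have hDp : IsPGroup p D := isPGroup_of_pow fun g hg => by
    obtain ⟨hgW, hgV⟩ := hcomm hg
    have key : ∀ (k : ℕ) (v : G), v ∈ V → g ^ k * v * (g ^ k)⁻¹ = ⁅g, v⁆ ^ k * v := by
      intro k v hv
      induction k with
      | zero => simp
      | succ k ih =>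
        calc g ^ (k + 1) * v * (g ^ (k + 1))⁻¹ = g * (g ^ k * v * (g ^ k)⁻¹) * g⁻¹ := by
              rw [pow_succ']; group
          _ = (g * ⁅g, v⁆ ^ k * g⁻¹) * (g * v * g⁻¹) := by rw [ih]; group
          _ = _ := by
              rw [((hgW _ (hgV v hv)).pow_right k).eq, mul_inv_cancel_right,
                show g * v * g⁻¹ = ⁅g, v⁆ * v by rw [commutatorElement_def, inv_mul_cancel_right],
                ← mul_assoc, ← pow_succ]
    refine mem_bot.mp (hf ▸ mem_inf.mpr ⟨pow_mem (hDH hg) p, mem_centralizer_iff.mpr fun v hv => ?_⟩)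
    have h := key p v hv
    rw [hV.2 _ (hWV (hgV v hv)), one_mul, mul_inv_eq_iff_eq_mul] at h
    exact h.symm
  -- subnormality
  set K := E₁ ⊔ E₂ with hK
  have hKH : K ≤ H := sup_le h₁ h₂
  have hKs : (K.subgroupOf H).IsSubnormal := by
    rw [hK, Subgroup.subgroupOf_sup h₁ h₂]
    exact CfsgLib.Core.isSubnormal_sup hs₁ hs₂
  have hDK : D ≤ K := Subgroup.commutator_le.mpr fun e he x hx => by
    rw [commutatorElement_def]
    exact mul_mem (mul_mem (mul_mem (mem_sup_left he) (mem_sup_right hx)) (inv_mem (mem_sup_left he)))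
      (inv_mem (mem_sup_right hx))
  haveI hn : (D.subgroupOf K).Normal := normal_subgroupOf_of_le_normalizer
    (sup_le (CfsgLib.Core.le_normalizer_commutator_left E₁ E₂)
      (CfsgLib.Core.le_normalizer_commutator_right E₁ E₂))
  have hDs : (D.subgroupOf H).IsSubnormal :=
    CfsgLib.Core.isSubnormal_subgroupOf_trans hDK hKH hn.isSubnormal hKs
  have h := map_mono (f := H.subtype) (CfsgLib.Core.le_pCore_of_isSubnormal hDs
    (hDp.comap_of_injective H.subtype H.subtype_injective))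
  rwa [map_subgroupOf_eq_of_le hDH] at h

theorem pCore_quotient_eq_bot (V : Subgroup G) [V.Normal]
    (hgen : V = ⨆ S : Sylow p G, V ⊓ centralizer ((S : Subgroup G) : Set G)) :
    Cfsg.pCore p (G ⧸ centralizer (V : Set G)) = ⊥ := by
  rw [eq_bot_iff]
  intro w hw
  obtain ⟨x, rfl⟩ := QuotientGroup.mk'_surjective _ w
  rw [mem_bot]
  refine (QuotientGroup.eq_one_iff x).mpr ?_
  suffices h : V ≤ centralizer ({x} : Set G) from
    mem_centralizer_iff.mpr fun v hv => mem_centralizer_singleton_iff.mp (h hv)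
  conv_lhs => rw [hgen]
  refine iSup_le fun S => ?_
  intro v hv
  obtain ⟨hvV, hvS⟩ := mem_inf.mp hv
  obtain ⟨s, hs, he⟩ : QuotientGroup.mk' (centralizer (V : Set G)) x ∈
      ((S.mapSurjective (QuotientGroup.mk'_surjective (centralizer (V : Set G))) :
        Sylow p (G ⧸ centralizer (V : Set G))) : Subgroup _) :=
    haveI := CfsgLib.Core.normal_pCore (G := G ⧸ centralizer (V : Set G)) p
    (CfsgLib.Core.isPGroup_pCore p).le_sylow_of_normal _ hw
  have h1 : s⁻¹ * x ∈ centralizer (V : Set G) := QuotientGroup.eq.mp he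
  have h2 : Commute v s := ((mem_centralizer_iff.mp hvS) s hs).symm
  have h3 : Commute v (s⁻¹ * x) := mem_centralizer_iff.mp h1 v hvV
  rw [mem_centralizer_singleton_iff]
  have h4 := h2.mul_right h3
  rw [mul_inv_cancel_left] at h4
  exact h4.eq

theorem omega_center_closure (hc : centralizer (Cfsg.pCore p G : Set G) ≤ Cfsg.pCore p G)
    (W : Subgroup G)
    (hW : W = ⨆ S : Sylow p G, Cfsg.omegaOne p ((S : Subgroup G) ⊓ centralizer ((S : Subgroup G) : Set G))) :
    W.Normal ∧ Cfsg.IsElementaryAbelian p W ∧ ∀ D : Subgroup G, D.Normal →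
      centralizer (W : Set G) ≤ D → (∃ k : ℕ, (centralizer (W : Set G)).relIndex D = p ^ k) →
      D = centralizer (W : Set G) := by
  classical
  have hWn : W.Normal := by
    refine ⟨fun w hw g => ?_⟩
    have hle : W ≤ W.comap (MulAut.conj g).toMonoidHom := by
      conv_lhs => rw [hW]
      refine iSup_le fun S => (closure_le _).mpr ?_
      rintro x ⟨hx, hxp⟩
      obtain ⟨hxS, hxC⟩ := mem_inf.mp hx
      show g * x * g⁻¹ ∈ W
      rw [hW]
      refine mem_iSup_of_mem (g • S) (subset_closure ⟨mem_inf.mpr ⟨⟨x, hxS, rfl⟩, ?_⟩, ?_⟩)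
      · refine mem_centralizer_iff.mpr ?_
        rintro _ ⟨s, hs, rfl⟩
        show g * s * g⁻¹ * (g * x * g⁻¹) = g * x * g⁻¹ * (g * s * g⁻¹)
        calc g * s * g⁻¹ * (g * x * g⁻¹) = g * (s * x) * g⁻¹ := by group
          _ = g * (x * s) * g⁻¹ := by rw [mem_centralizer_iff.mp hxC s hs]
          _ = _ := by group
      · rw [conj_pow, hxp, mul_one, mul_inv_cancel]
    exact hle hw
  set P := Cfsg.pCore p G with hP
  haveI := CfsgLib.Core.normal_pCore (G := G) p
  set Z := P ⊓ centralizer (P : Set G) with hZ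
  have hgenle : ∀ (S : Sylow p G), ∀ x ∈ (S : Subgroup G) ⊓ centralizer ((S : Subgroup G) : Set G),
      x ∈ Z := fun S x hx => by
    have hPS : P ≤ (S : Subgroup G) := (CfsgLib.Core.isPGroup_pCore p).le_sylow_of_normal S
    have h1 : x ∈ centralizer (P : Set G) := centralizer_le hPS (mem_inf.mp hx).2
    exact mem_inf.mpr ⟨hc h1, h1⟩
  have hEA : Cfsg.IsElementaryAbelian p W := by
    have hle : W ≤ closure {x : G | x ∈ Z ∧ x ^ p = 1} := by
      rw [hW]
      exact iSup_le fun S => closure_mono fun x hx => ⟨hgenle S x hx.1, hx.2⟩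
    let O : Subgroup G :=
      { carrier := {x : G | x ∈ Z ∧ x ^ p = 1}
        one_mem' := ⟨one_mem _, one_pow _⟩
        inv_mem' := fun {x} hx => ⟨inv_mem hx.1, by rw [inv_pow, hx.2, inv_one]⟩
        mul_mem' := fun {x y} hx hy => ⟨mul_mem hx.1 hy.1, by
          have hxy : Commute x y := mem_centralizer_iff.mp (mem_inf.mp hy.1).2 x (mem_inf.mp hx.1).1
          rw [hxy.mul_pow, hx.2, hy.2, one_mul]⟩ }
    have hO : Cfsg.IsElementaryAbelian p O := ⟨⟨⟨fun u v => Subtype.ext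
      (mem_centralizer_iff.mp (mem_inf.mp v.2.1).2 u (mem_inf.mp u.2.1).1)⟩⟩, fun x hx => hx.2⟩
    exact isEA_of_le hO (hle.trans ((closure_le O).mpr fun x hx => hx))
  refine ⟨hWn, hEA, fun D hDn hCD ⟨k, hk⟩ => ?_⟩
  haveI := hWn
  set C := centralizer (W : Set G) with hC
  haveI := hDn
  have hp' : IsPGroup p (D.map (QuotientGroup.mk' C)) := IsPGroup.of_card (n := k) (by
    rw [← hk, Subgroup.relIndex,
      show C.subgroupOf D = ((QuotientGroup.mk' C).comp D.subtype).ker by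
        rw [← MonoidHom.comap_ker, QuotientGroup.ker_mk']; rfl,
      index_ker, MonoidHom.range_comp, range_subtype])
  refine le_antisymm (fun x hx => ?_) hCD
  have h1 := CfsgLib.Core.le_pCore (Normal.map inferInstance _ (QuotientGroup.mk'_surjective C)) hp'
    ⟨x, hx, rfl⟩
  rw [pCore_quotient_eq_bot W ?_, mem_bot, QuotientGroup.mk'_apply, QuotientGroup.eq_one_iff] at h1
  · exact h1
  refine le_antisymm ?_ (iSup_le fun S => inf_le_left)
  conv_lhs => rw [hW]
  refine iSup_mono fun S => (closure_le _).mpr fun y hy => mem_inf.mpr ⟨?_, (mem_inf.mp hy.1).2⟩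
  rw [hW]; exact mem_iSup_of_mem S (subset_closure hy)

theorem thompson_characteristic : (Cfsg.thompsonSubgroup p G).Characteristic := by
  rw [characteristic_iff_map_le]
  intro e
  rw [Cfsg.thompsonSubgroup, sSup_eq_iSup', Subgroup.map_iSup]
  refine iSup_le fun A => le_iSup_of_le ⟨(A : Subgroup G).map e.toMonoidHom, isEA_map _ A.2.1, fun B hB => ?_⟩ le_rfl
  rw [card_map_of_injective (f := e.toMonoidHom) e.injective]
  exact A.2.2 B hB

theorem thompson_ne_bot (h : p ∣ Nat.card G) : Cfsg.thompsonSubgroup p G ≠ ⊥ := by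
  intro e
  obtain ⟨x, hx⟩ := exists_prime_orderOf_dvd_card' p h
  obtain ⟨A, hA⟩ := exists_max (G := G) (p := p)
  have hxA : x ∈ A := by
    refine mem_of_max_of_commute hA (by rw [← hx, pow_orderOf_eq_one]) fun a ha => ?_
    have := le_sSup hA ha
    rw [show sSup (Cfsg.maxElementaryAbelianSubgroups p G) = ⊥ from e, mem_bot] at this
    rw [this]; exact Commute.one_left x
  have h1 : x ∈ (⊥ : Subgroup G) := e ▸ le_sSup hA hxA
  rw [mem_bot] at h1
  rw [h1, orderOf_one] at hx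
  exact hp.out.one_lt.ne hx

/-- The members for `↥U` are the maximal-order members inside `U`. -/
theorem map_max_iff (U : Subgroup G) {A : Subgroup G} :
    (∃ B ∈ Cfsg.maxElementaryAbelianSubgroups p U, B.map U.subtype = A) ↔
      A ≤ U ∧ Cfsg.IsElementaryAbelian p A ∧
        ∀ C : Subgroup G, C ≤ U → Cfsg.IsElementaryAbelian p C → Nat.card C ≤ Nat.card A := by
  constructor
  · rintro ⟨B, ⟨hB, hmax⟩, rfl⟩
    refine ⟨map_subtype_le _, isEA_map _ hB, fun C hC hCe => ?_⟩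
    rw [card_map_of_injective (f := U.subtype) U.subtype_injective,
      ← Nat.card_congr (subgroupOfEquivOfLe hC).toEquiv]
    refine hmax _ (isEA_of_map U.subtype U.subtype_injective ?_)
    rwa [map_subgroupOf_eq_of_le hC]
  · rintro ⟨hAU, hA, hmax⟩
    refine ⟨A.subgroupOf U, ⟨isEA_of_map U.subtype U.subtype_injective
      (by rwa [map_subgroupOf_eq_of_le hAU]), fun B hB => ?_⟩, map_subgroupOf_eq_of_le hAU⟩
    rw [Nat.card_congr (subgroupOfEquivOfLe hAU).toEquiv,
      ← card_map_of_injective (f := U.subtype) U.subtype_injective]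
    exact hmax _ (map_subtype_le _) (isEA_map _ hB)

theorem thompsonOf_eq (U : Subgroup G) : Cfsg.thompsonSubgroupOf p U =
    sSup {A | A ≤ U ∧ Cfsg.IsElementaryAbelian p A ∧
      ∀ C : Subgroup G, C ≤ U → Cfsg.IsElementaryAbelian p C → Nat.card C ≤ Nat.card A} := by
  rw [Cfsg.thompsonSubgroupOf, Cfsg.thompsonSubgroup, sSup_eq_iSup', Subgroup.map_iSup]
  refine le_antisymm (iSup_le fun B => le_sSup ((map_max_iff U).mp ⟨B, B.2, rfl⟩)) (sSup_le ?_)
  intro A hA
  obtain ⟨B, hB, rfl⟩ := (map_max_iff U).mpr hA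
  exact le_iSup_of_le ⟨B, hB⟩ le_rfl

theorem thompsonOf_of_le (U : Subgroup G) (hU : Cfsg.thompsonSubgroup p G ≤ U) :
    Cfsg.thompsonSubgroupOf p U = Cfsg.thompsonSubgroup p G := by
  rw [thompsonOf_eq]
  obtain ⟨A₀, hA₀⟩ := exists_max (G := G) (p := p)
  refine le_antisymm (sSup_le fun A hA => le_sSup ⟨hA.2.1, fun B hB => ?_⟩)
    (sSup_le fun A hA => le_sSup ⟨(le_sSup hA).trans hU, hA.1, fun C _ hC => hA.2 C hC⟩)
  exact (hA₀.2 B hB).trans (hA.2.2 A₀ ((le_sSup hA₀).trans hU) hA₀.1)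

theorem thompson_eq_iSup :
    Cfsg.thompsonSubgroup p G = ⨆ S : Sylow p G, Cfsg.thompsonSubgroupOf p (S : Subgroup G) := by
  obtain ⟨A₀, hA₀⟩ := exists_max (G := G) (p := p)
  refine le_antisymm (sSup_le fun A hA => ?_) (iSup_le fun S => ?_)
  · obtain ⟨S, hS⟩ := (isPGroup_of_pow hA.1.2).exists_le_sylow
    refine le_iSup_of_le S ?_
    rw [thompsonOf_eq]
    exact le_sSup ⟨hS, hA.1, fun C _ hC => hA.2 C hC⟩
  · rw [thompsonOf_eq]
    refine sSup_le fun A hA => le_sSup ⟨hA.2.1, fun B hB => (hA₀.2 B hB).trans ?_⟩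
    obtain ⟨T, hT⟩ := (isPGroup_of_pow hA₀.1.2).exists_le_sylow
    obtain ⟨g, hg⟩ := MulAction.exists_smul_eq G T S
    have h := hA.2.2 (A₀.map (MulAut.conj g).toMonoidHom) (hg ▸ map_mono hT) (isEA_map _ hA₀.1)
    rwa [card_map_of_injective (f := (MulAut.conj g).toMonoidHom) (MulAut.conj g).injective] at h

theorem bestOffender_of_max (V : Subgroup G) [V.Normal] (hV : Cfsg.IsElementaryAbelian p V)
    {A : Subgroup G} (hA : A ∈ Cfsg.maxElementaryAbelianSubgroups p G) :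
    Cfsg.IsBestOffenderOn p V A := by
  refine ⟨fun B hB => ?_, ?_, fun a ha => by rw [hA.1.2 a ha]; exact one_mem _⟩
  · set CB := V ⊓ centralizer (B : Set G) with hCB
    have hc : ∀ b ∈ B, ∀ v ∈ CB, Commute b v := fun b hb v hv =>
      mem_centralizer_iff.mp (mem_inf.mp hv).2 b hb
    have hEA := isEA_sup (isEA_of_le hA.1 hB) (isEA_of_le hV (inf_le_left : CB ≤ V)) hc
    have hn : B ≤ normalizer (CB : Set G) := fun b hb => centralizer_le_normalizer _
      (mem_centralizer_iff.mpr fun v hv => (hc b hb v hv).symm.eq)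
    rw [← CfsgLib.Core.card_sup_mul_card_inf hn]
    refine Nat.mul_le_mul (hA.2 _ hEA) (card_le_of_le fun g hg => ?_)
    obtain ⟨hgB, hgC⟩ := mem_inf.mp hg
    exact mem_inf.mpr ⟨(mem_inf.mp hgC).1, mem_centralizer_iff.mpr fun a ha =>
      (ea_comm hA.1 ha (hB hgB)).eq⟩
  · refine Subgroup.commutator_le.mpr fun a ha b hb => ?_
    rw [(commutatorElement_eq_one_iff_mul_comm).mpr (ea_comm hA.1 ha hb).eq]
    exact one_mem _

theorem sInf_max_eq_omega :
    sInf (Cfsg.maxElementaryAbelianSubgroups p G) = Cfsg.omegaCenterThompson p G ∧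
      Cfsg.omegaCenterThompson p G =
        Cfsg.omegaOne p (centralizer (Cfsg.thompsonSubgroup p G : Set G)) := by
  set J := Cfsg.thompsonSubgroup p G with hJ
  have h1 : Cfsg.omegaOne p (centralizer (J : Set G)) ≤ sInf (Cfsg.maxElementaryAbelianSubgroups p G) :=
    (closure_le _).mpr fun x hx => mem_sInf.mpr fun A hA =>
      mem_of_max_of_commute hA hx.2 fun a ha => mem_centralizer_iff.mp hx.1 a (le_sSup hA ha)
  have h2 : Cfsg.omegaCenterThompson p G ≤ Cfsg.omegaOne p (centralizer (J : Set G)) :=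
    closure_mono fun x hx => ⟨(mem_inf.mp hx.1).2, hx.2⟩
  have h3 : sInf (Cfsg.maxElementaryAbelianSubgroups p G) ≤ Cfsg.omegaCenterThompson p G := by
    intro x hx
    obtain ⟨A₀, hA₀⟩ := exists_max (G := G) (p := p)
    refine subset_closure ⟨mem_inf.mpr ⟨le_sSup hA₀ (mem_sInf.mp hx _ hA₀), ?_⟩,
      hA₀.1.2 x (mem_sInf.mp hx _ hA₀)⟩
    have hle : J ≤ centralizer ({x} : Set G) := sSup_le fun A hA a ha =>
      mem_centralizer_singleton_iff.mpr (ea_comm hA.1 ha (mem_sInf.mp hx _ hA)).eq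
    exact mem_centralizer_iff.mpr fun a ha => mem_centralizer_singleton_iff.mp (hle ha)
  exact ⟨le_antisymm h3 (h2.trans h1), le_antisymm h2 (h1.trans h3)⟩

theorem sInf_maxAbelian (𝒜 : Set (Subgroup G)) (hne : 𝒜.Nonempty)
    (hab : ∀ A ∈ 𝒜, IsMulCommutative A)
    (hmax : ∀ A ∈ 𝒜, ∀ B : Subgroup G, IsMulCommutative B → A ≤ B → B = A) :
    sInf 𝒜 = centralizer ((sSup 𝒜 : Subgroup G) : Set G) := by
  refine le_antisymm (fun x hx => ?_) (fun x hx => mem_sInf.mpr fun A hA => ?_)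
  · have hle : sSup 𝒜 ≤ centralizer ({x} : Set G) := sSup_le fun A hA a ha =>
      mem_centralizer_singleton_iff.mpr (congrArg Subtype.val
        ((hab A hA).is_comm.comm (⟨a, ha⟩ : A) ⟨x, mem_sInf.mp hx A hA⟩))
    exact mem_centralizer_iff.mpr fun a ha => mem_centralizer_singleton_iff.mp (hle ha)
  · have hxA : ∀ a ∈ A, a * x = x * a := fun a ha => mem_centralizer_iff.mp hx a (le_sSup hA ha)
    haveI := hab A hA
    have hc : IsMulCommutative (A ⊔ zpowers x : Subgroup G) := by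
      rw [sup_eq_closure]
      refine isMulCommutative_closure ?_
      rintro a (ha | ⟨i, rfl⟩) b (hb | ⟨j, rfl⟩)
      · exact congrArg Subtype.val ((hab A hA).is_comm.comm (⟨a, ha⟩ : A) ⟨b, hb⟩)
      · exact ((show Commute a x from hxA a ha).zpow_right j).eq
      · exact ((show Commute b x from hxA b hb).zpow_right i).eq.symm
      · exact ((Commute.refl x).zpow_zpow i j).eq
    rw [← hmax A hA _ hc le_sup_left]
    exact mem_sup_right (mem_zpowers x)

theorem exists_normalizes_normalizer (hS : IsPGroup p G) (B : Subgroup G) [B.Normal]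
    (A : Subgroup G) (hnot : ¬ B ≤ normalizer (A : Set G)) :
    ∃ b ∈ B, b ∈ normalizer ((normalizer (A : Set G) : Subgroup G) : Set G) ∧
      b ∉ normalizer (A : Set G) := by
  set N := normalizer (A : Set G) with hN
  set X := N ⊔ B with hX
  have hlt : N.subgroupOf X < ⊤ := lt_of_le_of_ne le_top fun e =>
    hnot (le_sup_right.trans (subgroupOf_eq_top.mp e))
  haveI := (hS.to_subgroup X).isNilpotent
  have h1 := Group.normalizerCondition_of_isNilpotent _ hlt
  obtain ⟨x, hx, hxN⟩ := SetLike.exists_of_lt h1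
  rw [← subgroupOf_normalizer_eq le_sup_left, mem_subgroupOf] at hx
  have hxX : (x : G) ∈ N ⊔ B := x.2
  rw [← SetLike.mem_coe, mul_normal] at hxX
  obtain ⟨n, hn, b, hb, he⟩ := hxX
  refine ⟨b, hb, ?_, fun hbN => hxN ?_⟩
  · have h2 : n⁻¹ * (n * b) ∈ normalizer ((N : Subgroup G) : Set G) :=
      mul_mem (inv_mem (le_normalizer hn)) (by rw [show n * b = (x : G) from he]; exact hx)
    rwa [inv_mul_cancel_left] at h2
  · rw [mem_subgroupOf, ← show n * b = (x : G) from he]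
    exact mul_mem hn hbN

end CfsgLib.LocalThompson
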