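import Cfsg.Prelude.Def_PLocal
import Cfsg.Agent.Lib.StableReplace
import Cfsg.Agent.Lib.LocalThompsonBasic

/-!
# The replacement property
-/

set_option autoImplicit false

universe u

namespace CfsgLib.LocalReplaceProp

open Subgroup
open CfsgLib.Stable (IsAb IsMax)
open scoped commutatorElement

variable {G : Type u} [Group G] [Finite G] {p : ℕ} [hp : Fact p.Prime]

theorem property (hodd : p ≠ 2) {e : ℕ} (he : e = 0 ∨ e = p) (hS : IsPGroup p G) (D : Subgroup G)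
    [D.Normal] (B : Subgroup G) [B.Normal] (hcl : ⁅⁅B, B⁆, B⁆ = ⊥)
    (U : Subgroup G) (hU : IsMax e D U) (hBU : ⁅B, B⁆ ≤ U) (hBn : ¬ B ≤ U) :
    ∃ A : Subgroup G, IsMax e D A ∧ ⁅B, B⁆ ≤ A ∧ ¬ B ≤ A ∧ B ≤ normalizer (A : Set G) := by
  obtain ⟨A, ⟨hA, hBA, hnA⟩, hmax⟩ := Set.exists_max_image
    {A : Subgroup G | IsMax e D A ∧ ⁅B, B⁆ ≤ A ∧ ¬ B ≤ A}
    (fun A => Nat.card ↥(A ⊓ B)) (Set.toFinite _) ⟨U, hU, hBU, hBn⟩
  refine ⟨A, hA, hBA, hnA, ?_⟩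
  by_contra hnot
  have h2 : ∀ x ∈ B, ∀ y ∈ B, ∀ z ∈ B,
      z * (x * y * x⁻¹ * y⁻¹) = (x * y * x⁻¹ * y⁻¹) * z := fun x hx y hy z hz => by
    have h1 : ⁅⁅x, y⁆, z⁆ ∈ ⁅⁅B, B⁆, B⁆ :=
      commutator_mem_commutator (commutator_mem_commutator hx hy) hz
    rw [hcl, mem_bot, commutatorElement_eq_one_iff_mul_comm, commutatorElement_def] at h1
    exact h1.symm
  have h3 : ∀ x ∈ B, ∀ y ∈ B, ∀ a ∈ A,
      a * (x * y * x⁻¹ * y⁻¹) = (x * y * x⁻¹ * y⁻¹) * a := fun x hx y hy a ha =>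
    hA.2.1.1 a ha _ (hBA (by rw [← commutatorElement_def]; exact commutator_mem_commutator hx hy))
  obtain ⟨As, hAs, hAsN, hlt, -⟩ := CfsgLib.Stable.replacement hodd he (P := (⊤ : Subgroup G))
    (hS.to_subgroup ⊤) le_top (le_top.trans (normalizer_eq_top D).ge) le_top hA
    (le_top.trans (normalizer_eq_top B).ge) h2 h3 hnot
  have h1 : ⁅B, B⁆ ≤ As := (le_inf hBA (commutator_le_left B B)).trans (hlt.le.trans inf_le_left)
  refine absurd (hmax As ⟨hAs, h1, fun h => hnot (h.trans hAsN)⟩) (not_le.mpr ?_)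
  refine lt_of_le_of_ne (card_le_of_le hlt.le) fun e' => hlt.ne ?_
  exact CfsgLib.Core.eq_of_le_of_card_le hlt.le e'.ge

theorem maxAbelian_iff (D A : Subgroup G) :
    A ∈ Set.image (fun A : Subgroup ↥D => A.map D.subtype) (Cfsg.maxAbelianSubgroups ↥D) ↔
      IsMax 0 D A := by
  constructor
  · rintro ⟨B, ⟨hB, hmax⟩, rfl⟩
    refine ⟨map_subtype_le _, ⟨fun a ha b hb => ?_, fun a _ => pow_zero a⟩, fun C hC hCa => ?_⟩
    · exact congrArg Subtype.val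
        ((inferInstance : IsMulCommutative (B.map D.subtype)).is_comm.comm ⟨a, ha⟩ ⟨b, hb⟩)
    · rw [card_map_of_injective (f := D.subtype) D.subtype_injective,
        ← Nat.card_congr (subgroupOfEquivOfLe hC).toEquiv]
      exact hmax _ ⟨⟨fun u v => Subtype.ext (Subtype.ext (hCa.1 _ u.2 _ v.2))⟩⟩
  · rintro ⟨hAD, ⟨hc, -⟩, hmax⟩
    refine ⟨A.subgroupOf D, ⟨⟨⟨fun u v => Subtype.ext (Subtype.ext (hc _ u.2 _ v.2))⟩⟩, fun B hB => ?_⟩,
      map_subgroupOf_eq_of_le hAD⟩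
    rw [Nat.card_congr (subgroupOfEquivOfLe hAD).toEquiv,
      ← card_map_of_injective (f := D.subtype) D.subtype_injective]
    exact hmax _ (map_subtype_le _) ⟨fun a ha b hb => congrArg Subtype.val
      ((inferInstance : IsMulCommutative (B.map D.subtype)).is_comm.comm ⟨a, ha⟩ ⟨b, hb⟩),
      fun a _ => pow_zero a⟩

theorem maxEA_iff (D A : Subgroup G) :
    A ∈ Set.image (fun A : Subgroup ↥D => A.map D.subtype) (Cfsg.maxElementaryAbelianSubgroups p ↥D) ↔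
      IsMax p D A := by
  have key : ∀ C : Subgroup G, IsAb p C ↔ Cfsg.IsElementaryAbelian p C := fun C =>
    ⟨fun h => ⟨⟨⟨fun u v => Subtype.ext (h.1 _ u.2 _ v.2)⟩⟩, h.2⟩,
      fun h => ⟨fun a ha b hb => congrArg Subtype.val (h.1.is_comm.comm ⟨a, ha⟩ ⟨b, hb⟩), h.2⟩⟩
  refine (CfsgLib.LocalThompson.map_max_iff (p := p) D (A := A)).trans ?_
  rw [CfsgLib.Stable.IsMax, key]
  exact and_congr_right fun _ => and_congr_right fun _ => forall_congr' fun C => by rw [key]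

end CfsgLib.LocalReplaceProp
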