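import Cfsg.Agent.Lib.LocalFFModel
import Cfsg.Agent.Lib.LocalPStableTwo

/-!
# The Thompson factorization of a solvable group
-/

set_option autoImplicit false

universe u

namespace CfsgLib.LocalFF

open Subgroup CfsgLib.Core

set_option linter.unusedSectionVars false

variable {G : Type u} [Group G] [Finite G] {p : ℕ} [hp : Fact p.Prime]

theorem isPSolvable_of_quotient (N : Subgroup G) [N.Normal]
    (hN : (∃ m : ℕ, Nat.card N = p ^ m) ∨ (Nat.card N).Coprime p)
    (h : Cfsg.IsPSolvable p (G ⧸ N)) : Cfsg.IsPSolvable p G := by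
  obtain ⟨n, H, h0, hl, hm, hn, hs⟩ := h
  set f := QuotientGroup.mk' N with hf
  refine ⟨n + 1, Fin.cases ⊥ fun i => (H i).comap f, rfl, ?_, ?_, ?_, ?_⟩
  · show (Fin.cases ⊥ (fun i => (H i).comap f) (Fin.last n).succ : Subgroup G) = ⊤
    rw [Fin.cases_succ, hl, comap_top]
  · intro i j hij
    induction i using Fin.cases with
    | zero => exact bot_le
    | succ i =>
      induction j using Fin.cases with
      | zero => exact absurd hij (by simp [Fin.le_def])
      | succ j => exact comap_mono (hm (Fin.succ_le_succ_iff.mp hij))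
  · intro i
    induction i using Fin.cases with
    | zero => exact normal_bot
    | succ i => exact (hn i).comap f
  · intro i
    induction i using Fin.cases with
    | zero =>
      show (∃ m : ℕ, (⊥ : Subgroup G).relIndex ((H 0).comap f) = p ^ m) ∨
        ((⊥ : Subgroup G).relIndex ((H 0).comap f)).Coprime p
      rwa [h0, MonoidHom.comap_bot, hf, QuotientGroup.ker_mk', relIndex_bot_left]
    | succ i =>
      show (∃ m : ℕ, ((H i.castSucc).comap f).relIndex ((H i.succ).comap f) = p ^ m) ∨
        (((H i.castSucc).comap f).relIndex ((H i.succ).comap f)).Coprime p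
      rw [relIndex_comap, map_comap_eq_self_of_surjective (QuotientGroup.mk'_surjective N)]
      exact hs i

theorem isPSolvable_of_solvable :
    ∀ (n : ℕ) {G : Type u} [Group G] [Finite G], Nat.card G = n → Group.IsSolvable G →
      Cfsg.IsPSolvable p G := by
  intro n
  induction n using Nat.strong_induction_on with
  | _ n ih =>
  intro G _ _ hcard hs
  haveI := hs
  rcases subsingleton_or_nontrivial G with hG | hG
  · exact ⟨0, fun _ => ⊥, rfl, Subsingleton.elim _ _, fun _ _ _ => le_rfl,
      fun _ => normal_bot, fun i => i.elim0⟩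
  obtain ⟨k, hk⟩ := (Group.isSolvable_def G).mp hs
  classical
  have hex : ∃ k, derivedSeries G k = ⊥ := ⟨k, hk⟩
  have hpos : Nat.find hex ≠ 0 := fun e => by
    have := Nat.find_spec hex
    rw [e, derivedSeries_zero] at this
    exact top_ne_bot this
  obtain ⟨j, hj⟩ := Nat.exists_eq_succ_of_ne_zero hpos
  set A := derivedSeries G j with hA
  have hA1 : A ≠ ⊥ := Nat.find_min hex (by omega)
  have hAA : ⁅A, A⁆ = ⊥ := by
    have := Nat.find_spec hex
    rwa [hj, derivedSeries_succ] at this
  haveI : A.Normal := derivedSeries_normal G j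
  haveI : IsMulCommutative A := le_centralizer_iff_isMulCommutative.mp
    (commutator_eq_bot_iff_le_centralizer.mp hAA)
  obtain ⟨P⟩ : Nonempty (Sylow p A) := inferInstance
  have hPn : ((P : Subgroup A).map A.subtype).Normal :=
    map_subtype_normal_of_characteristic inferInstance
      (P.characteristic_of_normal inferInstance)
  have key : ∀ N : Subgroup G, N.Normal → N ≠ ⊥ →
      ((∃ m : ℕ, Nat.card N = p ^ m) ∨ (Nat.card N).Coprime p) → Cfsg.IsPSolvable p G := by
    intro N hN hN1 hc
    refine isPSolvable_of_quotient N hc (ih (Nat.card (G ⧸ N)) ?_ rfl inferInstance)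
    rw [← hcard, card_eq_card_quotient_mul_card_subgroup N]
    exact lt_mul_of_one_lt_right Nat.card_pos ((one_lt_card_iff_ne_bot N).mpr hN1)
  by_cases hP : (P : Subgroup A).map A.subtype = ⊥
  · refine key A inferInstance hA1 (Or.inr ?_)
    have hb : (P : Subgroup A) = ⊥ := (map_eq_bot_iff_of_injective _ A.subtype_injective).mp hP
    have := P.not_dvd_index
    rw [hb, index_bot] at this
    exact ((hp.out.coprime_iff_not_dvd).mpr this).symm
  · refine key _ hPn hP (Or.inl ?_)
    obtain ⟨m, hm⟩ := IsPGroup.iff_card.mp P.2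
    exact ⟨m, by rw [card_map_of_injective A.subtype_injective, hm]⟩

theorem thompson_factorization_solvable (hp2 : p ≠ 2) (hs : Group.IsSolvable G)
    (h3 : p = 3 → ∀ T : Sylow 2 G, IsMulCommutative T) (hO : Cfsg.pPrimeCore p G = ⊥) :
    Cfsg.IsThompsonFactorizable p G := by
  by_contra hnf
  obtain ⟨hp23, E, -, -, -, hn, ⟨e⟩⟩ :=
    thompson_factor_structure (isPSolvable_of_solvable _ rfl hs) hO hnf _ rfl
  rcases hp23 with h | h
  · exact hp2 h
  haveI : Fact (Nat.Prime 2) := ⟨Nat.prime_two⟩
  obtain ⟨T⟩ : Nonempty (Sylow 2 G) := inferInstance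
  exact CfsgLib.PStableTwo.not_abelian_two hp2
    (CfsgLib.PStableTwo.HasSL.of_section e) T (h3 h T)

theorem thompson_factorization_classical (hp2 : p ≠ 2) (hs : Group.IsSolvable G)
    (h3 : p = 3 → ∀ T : Sylow 2 G, IsMulCommutative T)
    (hF : ∀ N : Subgroup G, N.Normal → Nat.Coprime (Nat.card N) p → N = ⊥) (P : Sylow p G) (g : G) :
    ∃ a ∈ normalizer (Cfsg.thompsonSubgroupOf p (P : Subgroup G) : Set G),
      ∃ c ∈ centralizer {x : G | x ∈ (P : Subgroup G) ∧
        (∀ y ∈ (P : Subgroup G), x * y = y * x) ∧ x ^ p = 1}, g = a * c := by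
  have hO : Cfsg.pPrimeCore p G = ⊥ := eq_bot_iff.mpr (sSup_le fun N hN => (hF N hN.1 hN.2).le)
  obtain ⟨x, hx, c, hc, n, hn, he⟩ := thompson_factorization_solvable hp2 hs h3 hO P g⁻¹
  rw [hO, mem_bot] at hx
  rw [hx, one_mul] at he
  refine ⟨n⁻¹, inv_mem hn, c⁻¹, inv_mem (centralizer_le ?_ hc), by
    rw [← mul_inv_rev, ← he, inv_inv]⟩
  rintro z ⟨hz, hzc, hzp⟩
  exact subset_closure ⟨mem_inf.mpr ⟨hz, mem_centralizer_iff.mpr fun y hy => (hzc y hy).symm⟩, hzp⟩

end CfsgLib.LocalFF
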