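import Cfsg.Agent.Lib.CoreGaschutz
import Cfsg.Agent.Lib.CoreSubnormal
import Cfsg.Agent.Lib.LocalPReduced

/-!
Sylow subgroups of a join of two subnormal subgroups.
-/

set_option autoImplicit false

namespace CfsgLib.Local.SylJoin

open Subgroup
open scoped Pointwise commutatorElement

universe u

variable {G : Type u} [Group G] {p : ℕ}

theorem relIndex_sup_eq [Finite G] {A K : Subgroup G} (h : A ≤ normalizer (K : Set G)) :
    A.relIndex (A ⊔ K) = A.relIndex K := by
  have h1 := CfsgLib.Core.card_sup_mul_card_inf h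
  rw [← CfsgLib.Core.card_mul_relIndex (le_sup_left : A ≤ A ⊔ K),
    ← CfsgLib.Core.card_inf_mul_relIndex A K] at h1
  refine Nat.eq_of_mul_eq_mul_left (Nat.mul_pos (Nat.card_pos (α := ↥A))
    (Nat.card_pos (α := ↥(A ⊓ K)))) ?_
  linarith

theorem product_index [Finite G] [hp : Fact p.Prime] {Z X Y V PX PY : Subgroup G}
    (hZV : Z ≤ V) (hXV : X ≤ V) (hYV : Y ≤ V) (hX : V ≤ normalizer (X : Set G))
    (hY : V ≤ normalizer (Y : Set G)) (hV : V ≤ X ⊔ Y) (h1 : PX ≤ Z) (h2 : PY ≤ Z)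
    (hPX : ¬ p ∣ PX.relIndex X) (hPY : ¬ p ∣ PY.relIndex Y) : ¬ p ∣ Z.relIndex V := by
  intro hd
  have hV' : V = Z ⊔ X ⊔ Y :=
    le_antisymm (hV.trans (sup_le_sup_right le_sup_right _)) (sup_le (sup_le hZV hXV) hYV)
  rw [← Subgroup.relIndex_mul_relIndex Z (Z ⊔ X) V le_sup_left (sup_le hZV hXV)] at hd
  rcases (Nat.Prime.dvd_mul hp.out).mp hd with h | h
  · rw [relIndex_sup_eq (hZV.trans hX)] at h
    exact hPX (h.trans (Subgroup.relIndex_dvd_of_le_left X h1))
  · rw [show (Z ⊔ X).relIndex V = (Z ⊔ X).relIndex (Z ⊔ X ⊔ Y) by rw [← hV'],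
      relIndex_sup_eq ((sup_le hZV hXV).trans hY)] at h
    exact hPY (h.trans (Subgroup.relIndex_dvd_of_le_left Y (h2.trans le_sup_left)))

/-- A subnormal subgroup meets a Sylow subgroup in a Sylow subgroup. -/
theorem not_dvd_relIndex_inf_subnormal [Finite G] [Fact p.Prime] (S : Sylow p G) {L : Subgroup G}
    (hL : L.IsSubnormal) : ¬ p ∣ ((S : Subgroup G) ⊓ L).relIndex L := by
  induction hL with
  | top => rw [inf_top_eq, Subgroup.relIndex_top_right]; exact S.not_dvd_index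
  | step H K h_le hSubn hN ih =>
    have hKn : K ≤ normalizer (H : Set G) :=
      (Subgroup.normal_subgroupOf_iff_le_normalizer h_le).mp hN
    have h1 := CfsgLib.Local.PRed.not_dvd_relIndex_inf (L := K) (N := H)
      (S := (S : Subgroup G) ⊓ K) inf_le_right h_le (inf_le_right.trans hKn) ih
    rwa [inf_assoc, inf_eq_right.mpr h_le] at h1

theorem join_index_aux [hp : Fact p.Prime] : ∀ (n : ℕ) (G : Type u) [Group G] [Finite G],
    Nat.card G = n → ∀ (A B PA PB : Subgroup G), A.IsSubnormal → B.IsSubnormal → A ⊔ B = ⊤ →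
      PA ≤ A → PB ≤ B → IsPGroup p ↥(PA ⊔ PB) → ¬ p ∣ PA.relIndex A → ¬ p ∣ PB.relIndex B →
      ¬ p ∣ (PA ⊔ PB).index := by
  intro n
  induction n using Nat.strong_induction_on with
  | _ n ih =>
  intro G _ _ hn A B PA PB hA hB htop hPA hPB hP hiA hiB
  set P0 := PA ⊔ PB with hP0
  by_cases hab : commutator G = ⊥
  · have hall : ∀ X : Subgroup G, (⊤ : Subgroup G) ≤ normalizer (X : Set G) := fun X => by
      refine CfsgLib.Local.PRed.le_normalizer_of_conj fun a _ x hx => ?_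
      have h1 : ⁅a, x⁆ ∈ commutator G :=
        Subgroup.commutator_mem_commutator (Subgroup.mem_top a) (Subgroup.mem_top x)
      rw [hab, Subgroup.mem_bot, commutatorElement_eq_one_iff_mul_comm] at h1
      rw [h1, mul_inv_cancel_right]
      exact hx
    rw [← Subgroup.relIndex_top_right]
    exact product_index le_top le_top le_top (hall A) (hall B) htop.ge le_sup_left le_sup_right
      hiA hiB
  obtain ⟨V, ⟨hVn, hV0, hVc⟩, hVmin⟩ := (Set.toFinite
    {V : Subgroup G | V.Normal ∧ V ≠ ⊥ ∧ V ≤ commutator G}).exists_minimal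
    ⟨commutator G, inferInstance, hab, le_rfl⟩
  haveI := hVn
  have hmin : ∀ K : Subgroup G, K.Normal → K ≤ V → K = ⊥ ∨ K = V := fun K hK hKV =>
    or_iff_not_imp_left.mpr fun h0 =>
      le_antisymm hKV (hVmin ⟨hK, h0, hKV.trans hVc⟩ hKV)
  have hVA := CfsgLib.Core.minimal_normal_le_normalizer hVn hV0 hmin hA
  have hVB := CfsgLib.Core.minimal_normal_le_normalizer hVn hV0 hmin hB
  have hnV : ∀ X : Subgroup G, X ≤ normalizer (V : Set G) := fun X =>
    (Subgroup.normalizer_eq_top (H := V)).symm ▸ le_top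
  -- the quotient by `V`
  set q := QuotientGroup.mk' V with hq
  have hqs : Function.Surjective q := QuotientGroup.mk'_surjective V
  have hrel : ∀ X PX : Subgroup G, V ≤ normalizer (X : Set G) → PX ≤ X → ¬ p ∣ PX.relIndex X →
      ¬ p ∣ (PX.map q).relIndex (X.map q) := by
    intro X PX hVX hle hi hd
    rw [Subgroup.relIndex_map_map, hq, QuotientGroup.ker_mk',
      show X ⊔ V = (PX ⊔ V) ⊔ X by
        rw [sup_comm PX V, sup_assoc, sup_eq_right.mpr hle, sup_comm],
      relIndex_sup_eq (sup_le (hle.trans Subgroup.le_normalizer) hVX)] at hd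
    exact hi (hd.trans (Subgroup.relIndex_dvd_of_le_left X le_sup_left))
  have hlt : Nat.card (G ⧸ V) < n := by
    rw [← hn, Subgroup.card_eq_card_quotient_mul_card_subgroup V]
    exact lt_mul_of_one_lt_right Nat.card_pos (V.one_lt_card_iff_ne_bot.mpr hV0)
  have hquot : ¬ p ∣ (P0 ⊔ V).index := by
    have h1 := ih _ hlt (G ⧸ V) rfl (A.map q) (B.map q) (PA.map q) (PB.map q) (hA.map hqs)
      (hB.map hqs) (by rw [← Subgroup.map_sup, htop, Subgroup.map_top_of_surjective q hqs])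
      (Subgroup.map_mono hPA) (Subgroup.map_mono hPB)
      (by rw [← Subgroup.map_sup]; exact hP.map q) (hrel A PA hVA hPA hiA) (hrel B PB hVB hPB hiB)
    rwa [← Subgroup.map_sup, Subgroup.index_map, hq, QuotientGroup.ker_mk',
      MonoidHom.range_eq_top.mpr (QuotientGroup.mk'_surjective V), Subgroup.index_top, mul_one] at h1
  obtain ⟨S, hS⟩ := hP.exists_le_sylow
  suffices hrelV : ¬ p ∣ P0.relIndex V by
    rw [← Subgroup.relIndex_mul_index (le_sup_left : P0 ≤ P0 ⊔ V),
      relIndex_sup_eq (hnV P0)]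
    exact fun hd => ((Nat.Prime.dvd_mul hp.out).mp hd).elim hrelV hquot
  set W := (V ⊓ A) ⊔ (V ⊓ B) with hW
  have hWn : W.Normal := by
    have h1 : ∀ X Y : Subgroup G, V ≤ normalizer (X : Set G) → Y ≤ V → ∀ a ∈ X, ∀ w ∈ Y,
        a * w * a⁻¹ ∈ (V ⊓ X) ⊔ Y := by
      intro X Y hVX hY a ha w hw
      have e : a * w * a⁻¹ * w⁻¹ ∈ V ⊓ X := Subgroup.mem_inf.mpr
        ⟨V.mul_mem (hVn.conj_mem w (hY hw) a) (V.inv_mem (hY hw)), by
          have := X.mul_mem ha (CfsgLib.Local.PRed.conj_mem hVX (hY hw) (X.inv_mem ha))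
          simpa [mul_assoc] using this⟩
      have := mul_mem (Subgroup.mem_sup_left (T := Y) e) (Subgroup.mem_sup_right (S := V ⊓ X) hw)
      simpa using this
    have hWV : W ≤ V := sup_le inf_le_left inf_le_left
    have hNA : A ≤ normalizer (W : Set G) := CfsgLib.Local.PRed.le_normalizer_of_conj
      fun a ha w hw => (sup_le (le_sup_left : V ⊓ A ≤ W) (le_refl W)) (h1 A W hVA hWV a ha w hw)
    have hNB : B ≤ normalizer (W : Set G) := CfsgLib.Local.PRed.le_normalizer_of_conj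
      fun a ha w hw => (sup_le (le_sup_right : V ⊓ B ≤ W) (le_refl W)) (h1 B W hVB hWV a ha w hw)
    exact Subgroup.normalizer_eq_top_iff.mp (top_le_iff.mp (htop ▸ sup_le hNA hNB))
  rcases hmin W hWn (sup_le inf_le_left inf_le_left) with hW0 | hWV
  · -- `V` is central
    rw [hW, sup_eq_bot_iff] at hW0
    have hcent : ∀ X : Subgroup G, V ≤ normalizer (X : Set G) → V ⊓ X = ⊥ → ∀ v ∈ V, ∀ a ∈ X,
        v * a = a * v := by
      intro X hVX h0 v hv a ha
      have e : v * a * v⁻¹ * a⁻¹ ∈ V ⊓ X := by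
        refine Subgroup.mem_inf.mpr ⟨?_,
          X.mul_mem (CfsgLib.Local.PRed.conj_mem hVX hv ha) (X.inv_mem ha)⟩
        have := V.mul_mem hv (hVn.conj_mem _ (V.inv_mem hv) a)
        simpa [mul_assoc] using this
      rw [h0, Subgroup.mem_bot] at e
      exact mul_inv_eq_iff_eq_mul.mp (mul_inv_eq_one.mp e)
    have hVz : ∀ v ∈ V, ∀ g : G, v * g = g * v := by
      intro v hv g
      have h1 : (⊤ : Subgroup G) ≤ Subgroup.centralizer {v} := by
        rw [← htop]
        exact sup_le (fun a ha => Subgroup.mem_centralizer_singleton_iff.mpr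
          (hcent A hVA hW0.1 v hv a ha).symm) (fun a ha => Subgroup.mem_centralizer_singleton_iff.mpr
          (hcent B hVB hW0.2 v hv a ha).symm)
      exact (Subgroup.mem_centralizer_singleton_iff.mp (h1 (Subgroup.mem_top g))).symm
    haveI : IsMulCommutative ↥V := ⟨⟨fun a b => Subtype.ext (hVz a a.2 b)⟩⟩
    obtain ⟨r, hr, hrd⟩ := Nat.exists_prime_and_dvd
      (n := Nat.card ↥V) (V.one_lt_card_iff_ne_bot.mpr hV0).ne'
    haveI : Fact r.Prime := ⟨hr⟩
    obtain ⟨v, hv⟩ := exists_prime_orderOf_dvd_card' (G := ↥V) r hrd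
    have hVv : V = Subgroup.zpowers (v : G) := by
      have hzn : (Subgroup.zpowers (v : G)).Normal := ⟨fun x hx g => by
        have hxV : x ∈ V := Subgroup.zpowers_le.mpr v.2 hx
        rwa [← hVz x hxV g, mul_inv_cancel_right]⟩
      refine ((hmin _ hzn (Subgroup.zpowers_le.mpr v.2)).resolve_left fun h => ?_).symm
      rw [Subgroup.zpowers_eq_bot] at h
      exact hr.one_lt.ne' (hv ▸ orderOf_eq_one_iff.mpr (Subtype.ext h))
    have hcardV : Nat.card ↥V = r := by
      rw [hVv, Nat.card_zpowers, Subgroup.orderOf_coe, hv]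
    intro hd
    have h1 : P0.relIndex V ∣ r := hcardV ▸ Subgroup.index_dvd_card _
    have hrp : r = p := ((Nat.prime_dvd_prime_iff_eq hp.out hr).mp (hd.trans h1)).symm
    have hinf : P0 ⊓ V = ⊥ := by
      by_contra hne
      have hone : Nat.card ↥(P0 ⊓ V) = r := by
        rcases (Nat.dvd_prime hr).mp (hcardV ▸ Subgroup.card_dvd_of_le (inf_le_right : P0 ⊓ V ≤ V))
          with h | h
        · exact absurd (Subgroup.card_eq_one.mp h) hne
        · exact h
      have h2 := CfsgLib.Core.card_inf_mul_relIndex P0 V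
      rw [hone, hcardV] at h2
      have h3 : P0.relIndex V = 1 := by
        have := hr.pos
        nlinarith
      exact hp.out.ne_one (Nat.dvd_one.mp (h3 ▸ hd))
    obtain ⟨K, hK⟩ := CfsgLib.Core.gaschutz_exists (K := V) (U := P0 ⊔ V) le_sup_right
      (by rw [hcardV, hrp]; exact (hp.out.coprime_iff_not_dvd.mpr hquot))
      (A := P0) le_sup_left hinf (sup_comm _ _)
    -- `V` would meet `G'` trivially
    have hKV : ∀ g : G, ∃ v ∈ V, ∃ k ∈ K, v * k = g := fun g => by
      obtain ⟨⟨v, k⟩, hvk⟩ := hK.2 g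
      exact ⟨v, v.2, k, k.2, hvk⟩
    have hcK : commutator G ≤ K := by
      rw [_root_.commutator_def, Subgroup.commutator_le]
      intro a _ b _
      obtain ⟨v1, hv1, k1, hk1, rfl⟩ := hKV a
      obtain ⟨v2, hv2, k2, hk2, rfl⟩ := hKV b
      have : ⁅v1 * k1, v2 * k2⁆ = ⁅k1, k2⁆ := by
        rw [commutatorElement_def, commutatorElement_def, mul_inv_rev, mul_inv_rev]
        calc v1 * k1 * (v2 * k2) * (k1⁻¹ * v1⁻¹) * (k2⁻¹ * v2⁻¹)
            = v1 * (k1 * v2) * k2 * k1⁻¹ * (v1⁻¹ * k2⁻¹) * v2⁻¹ := by group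
          _ = v1 * (v2 * k1) * k2 * k1⁻¹ * (k2⁻¹ * v1⁻¹) * v2⁻¹ := by
              rw [← hVz v2 hv2 k1, hVz v1⁻¹ (V.inv_mem hv1) k2⁻¹]
          _ = (v1 * v2) * (k1 * k2 * k1⁻¹ * k2⁻¹) * (v1⁻¹ * v2⁻¹) := by group
          _ = (k1 * k2 * k1⁻¹ * k2⁻¹) * (v1 * v2) * (v1⁻¹ * v2⁻¹) := by
              rw [hVz _ (V.mul_mem hv1 hv2)]
          _ = k1 * k2 * k1⁻¹ * k2⁻¹ := by
              rw [show v1⁻¹ * v2⁻¹ = v2⁻¹ * v1⁻¹ from hVz _ (V.inv_mem hv1) _]
              group
      rw [this, commutatorElement_def]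
      exact K.mul_mem (K.mul_mem (K.mul_mem hk1 hk2) (K.inv_mem hk1)) (K.inv_mem hk2)
    have := hK.disjoint
    exact hV0 (this le_rfl (hVc.trans hcK) |> le_bot_iff.mp)
  · have hPA' : (S : Subgroup G) ⊓ A = PA := by
      refine (CfsgLib.Core.eq_of_le_of_card_le (le_inf (le_sup_left.trans hS) hPA) ?_).symm
      by_contra hlt
      rw [not_le] at hlt
      have hidx := CfsgLib.Core.card_mul_relIndex (le_inf (le_sup_left.trans hS) hPA)
      obtain ⟨a, ha⟩ := (S.isPGroup'.to_le (inf_le_left : (S : Subgroup G) ⊓ A ≤ _)).exists_card_eq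
      have hdd : PA.relIndex ((S : Subgroup G) ⊓ A) ∣ p ^ a := ⟨_, by rw [mul_comm, hidx, ha]⟩
      obtain ⟨b, -, hb⟩ := (Nat.dvd_prime_pow hp.out).mp hdd
      rcases Nat.eq_zero_or_pos b with h0 | h0
      · rw [hb, h0, pow_zero, mul_one] at hidx
        omega
      · refine hiA ((hb ▸ dvd_pow_self p h0.ne').trans ?_)
        rw [← Subgroup.relIndex_mul_relIndex PA _ A (le_inf (le_sup_left.trans hS) hPA) inf_le_right]
        exact Dvd.intro _ rfl
    have hPB' : (S : Subgroup G) ⊓ B = PB := by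
      refine (CfsgLib.Core.eq_of_le_of_card_le (le_inf (le_sup_right.trans hS) hPB) ?_).symm
      by_contra hlt
      rw [not_le] at hlt
      have hidx := CfsgLib.Core.card_mul_relIndex (le_inf (le_sup_right.trans hS) hPB)
      obtain ⟨a, ha⟩ := (S.isPGroup'.to_le (inf_le_left : (S : Subgroup G) ⊓ B ≤ _)).exists_card_eq
      have hdd : PB.relIndex ((S : Subgroup G) ⊓ B) ∣ p ^ a := ⟨_, by rw [mul_comm, hidx, ha]⟩
      obtain ⟨b, -, hb⟩ := (Nat.dvd_prime_pow hp.out).mp hdd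
      rcases Nat.eq_zero_or_pos b with h0 | h0
      · rw [hb, h0, pow_zero, mul_one] at hidx
        omega
      · refine hiB ((hb ▸ dvd_pow_self p h0.ne').trans ?_)
        rw [← Subgroup.relIndex_mul_relIndex PB _ B (le_inf (le_sup_right.trans hS) hPB) inf_le_right]
        exact Dvd.intro _ rfl
    have hsn : ∀ X : Subgroup G, X.IsSubnormal → V ≤ normalizer (X : Set G) →
        ¬ p ∣ ((S : Subgroup G) ⊓ (V ⊓ X)).relIndex (V ⊓ X) := fun X hX _ =>
      not_dvd_relIndex_inf_subnormal S (hVn.isSubnormal.inf hX)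
    set Z := ((S : Subgroup G) ⊓ (V ⊓ A)) ⊔ ((S : Subgroup G) ⊓ (V ⊓ B)) with hZ
    have hZV : Z ≤ V := sup_le (inf_le_right.trans inf_le_left) (inf_le_right.trans inf_le_left)
    have hZP : Z ≤ P0 := sup_le
      ((inf_le_inf_left _ inf_le_right).trans (hPA'.le.trans le_sup_left))
      ((inf_le_inf_left _ inf_le_right).trans (hPB'.le.trans le_sup_right))
    exact fun hd => product_index hZV inf_le_left inf_le_left
      (CfsgLib.Core.le_normalizer_inf (hnV V) hVA) (CfsgLib.Core.le_normalizer_inf (hnV V) hVB)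
      hWV.ge le_sup_left le_sup_right (hsn A hA hVA) (hsn B hB hVB)
      (hd.trans (Subgroup.relIndex_dvd_of_le_left V hZP))

/-- `S` meets a join of two subnormal subgroups in the join of the intersections. -/
theorem inf_sup [Finite G] [hp : Fact p.Prime] (S : Sylow p G) {A B : Subgroup G}
    (hA : A.IsSubnormal) (hB : B.IsSubnormal) :
    (A ⊔ B) ⊓ (S : Subgroup G) = (A ⊓ (S : Subgroup G)) ⊔ (B ⊓ (S : Subgroup G)) := by
  set L := A ⊔ B with hL
  set PA := A ⊓ (S : Subgroup G) with hPAdef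
  set PB := B ⊓ (S : Subgroup G) with hPBdef
  have hAL : A ≤ L := le_sup_left
  have hBL : B ≤ L := le_sup_right
  have hP : IsPGroup p ↥(PA ⊔ PB) := S.isPGroup'.to_le (sup_le inf_le_right inf_le_right)
  have hrel : ∀ X : Subgroup G, X.IsSubnormal → X ≤ L →
      ¬ p ∣ ((X ⊓ (S : Subgroup G)).subgroupOf L).relIndex (X.subgroupOf L) := fun X hX hXL => by
    rw [Subgroup.relIndex_subgroupOf hXL, inf_comm]
    exact not_dvd_relIndex_inf_subnormal S hX
  have h1 := join_index_aux _ ↥L rfl (A.subgroupOf L) (B.subgroupOf L) (PA.subgroupOf L)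
    (PB.subgroupOf L) hA.subgroupOf hB.subgroupOf
    (by rw [← Subgroup.subgroupOf_sup hAL hBL]; exact Subgroup.subgroupOf_self L)
    (fun x hx => (Subgroup.mem_inf.mp (Subgroup.mem_subgroupOf.mp hx)).1)
    (fun x hx => (Subgroup.mem_inf.mp (Subgroup.mem_subgroupOf.mp hx)).1)
    (by
      rw [← Subgroup.subgroupOf_sup (inf_le_left.trans hAL) (inf_le_left.trans hBL)]
      exact CfsgLib.Local.PRed.isPGroup_subgroupOf hP)
    (hrel A hA hAL) (hrel B hB hBL)
  rw [← Subgroup.subgroupOf_sup (inf_le_left.trans hAL) (inf_le_left.trans hBL)] at h1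
  refine le_antisymm ?_ (sup_le (inf_le_inf_right _ hAL) (inf_le_inf_right _ hBL))
  have hle : PA ⊔ PB ≤ L ⊓ (S : Subgroup G) :=
    sup_le (inf_le_inf_right _ hAL) (inf_le_inf_right _ hBL)
  have h2 : (PA ⊔ PB).relIndex (L ⊓ (S : Subgroup G)) = 1 := by
    obtain ⟨a, ha⟩ := (S.isPGroup'.to_le (inf_le_right : L ⊓ (S : Subgroup G) ≤ _)).exists_card_eq
    obtain ⟨b, -, hb⟩ := (Nat.dvd_prime_pow hp.out).mp
      (ha ▸ Subgroup.index_dvd_card ((PA ⊔ PB).subgroupOf (L ⊓ (S : Subgroup G))))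
    rcases Nat.eq_zero_or_pos b with h0 | h0
    · rw [Subgroup.relIndex, hb, h0, pow_zero]
    · refine absurd ?_ h1
      have h3 : (PA ⊔ PB).relIndex (L ⊓ (S : Subgroup G)) ∣ (PA ⊔ PB).relIndex L := by
        rw [← Subgroup.relIndex_mul_relIndex _ _ L hle inf_le_left]
        exact Dvd.intro _ rfl
      exact (dvd_pow_self p h0.ne').trans (hb ▸ h3)
  exact Subgroup.relIndex_eq_one.mp h2

end CfsgLib.Local.SylJoin
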