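import Cfsg.Agent.Lib.StableReplace
import Cfsg.Agent.Lib.LocalPReducedParabolic
import Cfsg.Agent.Lib.LocalSylowJoin

/-!
A pair of tightly embedded subgroups meeting in odd order.
-/

set_option autoImplicit false

namespace CfsgLib.Local.Tight

open Subgroup
open scoped Pointwise commutatorElement

variable {G : Type*} [Group G]

theorem eq_one_of_odd [Finite G] {D P : Subgroup G} (hD : Odd (Nat.card ↥D)) (hP : IsPGroup 2 ↥P)
    {x : G} (hxD : x ∈ D) (hxP : x ∈ P) : x = 1 := by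
  haveI : Fact (Nat.Prime 2) := ⟨Nat.prime_two⟩
  obtain ⟨k, hk⟩ := IsPGroup.iff_orderOf.mp hP ⟨x, hxP⟩
  rw [Subgroup.orderOf_mk] at hk
  have h1 := orderOf_dvd_natCard (⟨x, hxD⟩ : ↥D)
  rw [Subgroup.orderOf_mk, hk] at h1
  exact orderOf_eq_one_iff.mp (hk ▸ Nat.eq_one_of_dvd_coprimes
    (Nat.Coprime.pow_right k (Nat.coprime_two_right.mpr hD)) h1 dvd_rfl)

theorem odd_inf_map {K : Subgroup G} (h : ∀ x : G, x ∉ normalizer (K : Set G) →
      Odd (Nat.card ↥(K ⊓ K.map (MulAut.conj x).toMonoidHom))) {x : G}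
    (hx : x ∉ normalizer (K : Set G)) :
    Odd (Nat.card ↥(K ⊓ MulAut.conj x • K)) := h x hx

/-- An element centralising a nontrivial `2`-subgroup of `K` normalises `K`. -/
theorem mem_normalizer [Finite G] {K T : Subgroup G} (h : ∀ x : G, x ∉ normalizer (K : Set G) →
      Odd (Nat.card ↥(K ⊓ K.map (MulAut.conj x).toMonoidHom))) (hTK : T ≤ K)
    (hT : IsPGroup 2 ↥T) (hT1 : T ≠ ⊥) {r : G} (hr : r ∈ centralizer (T : Set G)) :
    r ∈ normalizer (K : Set G) := by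
  by_contra hn
  refine hT1 ((Subgroup.eq_bot_iff_forall _).mpr fun t ht => eq_one_of_odd (h r hn) hT
    (Subgroup.mem_inf.mpr ⟨hTK ht, t, hTK ht, ?_⟩) ht)
  show r * t * r⁻¹ = t
  rw [← mem_centralizer_iff.mp hr t ht, mul_inv_cancel_right]

/-- If `R = C_A(T)` is proper in `A` then `T` embeds in `R`. -/
theorem embed [Finite G] {Q K A T R : Subgroup G} (hK : ∀ x : G, x ∉ normalizer (K : Set G) →
      Odd (Nat.card ↥(K ⊓ K.map (MulAut.conj x).toMonoidHom)))
    (hQK : Odd (Nat.card ↥(Q ⊓ K))) (hAQ : A ≤ Q) (hA : IsPGroup 2 ↥A) (hTK : T ≤ K)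
    (hT : IsPGroup 2 ↥T) (hTA : T ≤ normalizer (A : Set G)) (hTQ : T ≤ normalizer (Q : Set G))
    (hR : R = A ⊓ centralizer (T : Set G)) (hRA : R ≠ A) :
    ∃ f : ↥T →* ↥R, Function.Injective f := by
  haveI : Fact (Nat.Prime 2) := ⟨Nat.prime_two⟩
  have hTQ1 : ∀ t, t ∈ T → t ∈ Q → t = 1 := fun t ht hq =>
    eq_one_of_odd hQK hT (Subgroup.mem_inf.mpr ⟨hq, hTK ht⟩) ht
  have hRle : R ≤ A := hR ▸ inf_le_left
  have hRn : R ≤ normalizer (T : Set G) :=
    hR ▸ inf_le_right.trans (CfsgLib.Core.centralizer_le_normalizer T)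
  have hcomm : ∀ t ∈ T, ∀ r ∈ R, t * r = r * t := fun t ht r hr =>
    mem_centralizer_iff.mp (Subgroup.mem_inf.mp (hR ▸ hr)).2 t ht
  set P := A ⊔ T with hP
  have hPp : IsPGroup 2 ↥P := hA.to_sup_of_normal_left' hT hTA
  have hlt : T ⊔ R < P := by
    refine lt_of_le_of_ne (sup_le le_sup_right (hRle.trans le_sup_left)) fun e => hRA ?_
    refine le_antisymm hRle fun a ha => ?_
    obtain ⟨r, hr, t, ht, he⟩ := (CfsgLib.Core.mem_sup_iff_of_le_normalizer hRn).mp
      (sup_comm T R ▸ e ▸ Subgroup.mem_sup_left ha : a ∈ R ⊔ T)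
    have ht1 : t = 1 := hTQ1 t ht (by
      have : t = r⁻¹ * a := by rw [← he]; group
      rw [this]
      exact mul_mem (inv_mem (hAQ (hRle hr))) (hAQ ha))
    rw [ht1, mul_one] at he
    exact he ▸ hr
  obtain ⟨s, hsP, hsn, hsN⟩ := CfsgLib.Stable.exists_normalizer_gt hlt hPp
  have hsQ : s ∈ normalizer (Q : Set G) :=
    (sup_le (hAQ.trans Subgroup.le_normalizer) hTQ : P ≤ _) hsP
  have hsK : s ∉ normalizer (K : Set G) := by
    intro hsK
    obtain ⟨t, ht, a, ha, he⟩ := (CfsgLib.Core.mem_sup_iff_of_le_normalizer hTA).mp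
      (sup_comm A T ▸ hsP : s ∈ T ⊔ A)
    have haK : a ∈ normalizer (K : Set G) := by
      have : a = t⁻¹ * s := by rw [← he]; group
      rw [this]
      exact mul_mem (inv_mem (Subgroup.le_normalizer (hTK ht))) hsK
    refine hsn (he ▸ mul_mem (Subgroup.mem_sup_left ht) (Subgroup.mem_sup_right
      (hR ▸ Subgroup.mem_inf.mpr ⟨ha, mem_centralizer_iff.mpr fun u hu => ?_⟩)))
    have h1 : a * u * a⁻¹ * u⁻¹ ∈ Q ⊓ K := Subgroup.mem_inf.mpr ⟨by
      have := mul_mem (hAQ ha) ((Subgroup.mem_normalizer_iff.mp (hTQ hu) a⁻¹).mp (inv_mem (hAQ ha)))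
      simpa [mul_assoc] using this,
      mul_mem ((Subgroup.mem_normalizer_iff.mp haK u).mp (hTK hu)) (inv_mem (hTK hu))⟩
    have h2 : a * u * a⁻¹ * u⁻¹ ∈ P := mul_mem (mul_mem (mul_mem (Subgroup.mem_sup_left ha)
      (Subgroup.mem_sup_right hu)) (inv_mem (Subgroup.mem_sup_left ha)))
      (inv_mem (Subgroup.mem_sup_right hu))
    exact (mul_inv_eq_iff_eq_mul.mp (mul_inv_eq_one.mp (eq_one_of_odd hQK hPp h1 h2))).symm
  have huniq : ∀ t ∈ T, ∀ r ∈ R, ∀ t' ∈ T, ∀ r' ∈ R, t * r = t' * r' → r = r' := by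
    intro t ht r hr t' ht' r' hr' he
    have h1 : t'⁻¹ * t = r' * r⁻¹ := by
      calc t'⁻¹ * t = t'⁻¹ * (t * r) * r⁻¹ := by group
        _ = t'⁻¹ * (t' * r') * r⁻¹ := by rw [he]
        _ = r' * r⁻¹ := by group
    have h2 := hTQ1 _ (mul_mem (inv_mem ht') ht) (h1 ▸ hAQ (hRle (mul_mem hr' (inv_mem hr))))
    rw [h2] at h1
    exact (mul_inv_eq_one.mp h1.symm).symm
  have hex : ∀ t : ↥T, ∃ r : ↥R, ∃ u ∈ T, s * (t : G) * s⁻¹ = u * (r : G) := by
    intro t
    have h1 := (Subgroup.mem_normalizer_iff.mp hsN (t : G)).mp (Subgroup.mem_sup_left t.2)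
    obtain ⟨r, hr, u, hu, he⟩ := (CfsgLib.Core.mem_sup_iff_of_le_normalizer hRn).mp
      (sup_comm T R ▸ h1 : s * (t : G) * s⁻¹ ∈ R ⊔ T)
    exact ⟨⟨r, hr⟩, u, hu, by rw [← he, ← hcomm u hu r hr]⟩
  choose f u hu hf using hex
  refine ⟨{ toFun := f, map_one' := ?_, map_mul' := fun a b => ?_ }, ?_⟩
  · refine Subtype.ext ?_
    refine huniq (u 1) (hu 1) _ (f 1).2 1 T.one_mem 1 R.one_mem ?_
    rw [← hf 1]; simp
  · refine Subtype.ext ?_
    refine huniq (u (a * b)) (hu _) _ (f _).2 (u a * u b) (mul_mem (hu a) (hu b))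
      ((f a : G) * (f b : G)) (mul_mem (f a).2 (f b).2) ?_
    rw [← hf]
    calc s * ((a * b : ↥T) : G) * s⁻¹ = (s * (a : G) * s⁻¹) * (s * (b : G) * s⁻¹) := by
          rw [Subgroup.coe_mul]; group
      _ = u a * ((f a : G) * u b) * (f b : G) := by rw [hf a, hf b]; group
      _ = u a * (u b * (f a : G)) * (f b : G) := by rw [hcomm _ (hu b) _ (f a).2]
      _ = _ := by group
  · refine (injective_iff_map_eq_one _).mpr fun a ha => Subtype.ext ?_
    have h1 := hf a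
    rw [show (f a : G) = 1 from congrArg Subtype.val ha, mul_one] at h1
    have h2 : u a = 1 := eq_one_of_odd (hK s hsK) hT
      (Subgroup.mem_inf.mpr ⟨hTK (hu a), (a : G), hTK a.2, h1⟩) (hu a)
    rw [h2] at h1
    have h3 := congrArg (fun z => s⁻¹ * z * s) h1
    simpa [mul_assoc] using h3

theorem equiv_of_injective_card {X Y : Type*} [Group X] [Group Y] [Finite X] [Finite Y]
    (f : X →* Y) (hf : Function.Injective f) (h : Nat.card X = Nat.card Y) : Nonempty (X ≃* Y) :=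
  ⟨MulEquiv.ofBijective f (hf.bijective_of_nat_card_le h.ge)⟩

/-- A `2`-subgroup has order at most that of a Sylow subgroup. -/
theorem card_le_sylow [Finite G] {K T A : Subgroup G} (hTK : T ≤ K) (hT : IsPGroup 2 ↥T)
    (hAK : A ≤ K) (hA : IsPGroup 2 ↥A) (hi : ¬ 2 ∣ A.relIndex K) :
    Nat.card ↥T ≤ Nat.card ↥A := by
  haveI : Fact (Nat.Prime 2) := ⟨Nat.prime_two⟩
  obtain ⟨a, ha⟩ := hT.exists_card_eq
  obtain ⟨b, hb⟩ := hA.exists_card_eq
  have h1 : 2 ^ a ∣ 2 ^ b * A.relIndex K := by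
    rw [← ha, ← hb, CfsgLib.Core.card_mul_relIndex hAK]
    exact Subgroup.card_dvd_of_le hTK
  have h2 : 2 ^ a ∣ 2 ^ b := (Nat.Coprime.pow_left a
    (Nat.prime_two.coprime_iff_not_dvd.mpr hi)).dvd_of_dvd_mul_right h1
  rw [ha, hb]
  exact Nat.le_of_dvd (pow_pos two_pos b) h2

theorem exists_iso [Finite G] {Q : Subgroup G} (hQ : Even (Nat.card ↥Q) ∧
      ∀ x : G, x ∉ normalizer (Q : Set G) →
        Odd (Nat.card ↥(Q ⊓ Q.map (MulAut.conj x).toMonoidHom)))
    {g : G} (hg : g ∉ normalizer (Q : Set G)) {K T S : Subgroup G}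
    (hK : K = Q.map (MulAut.conj g).toMonoidHom) (hT1 : T ≠ ⊥) (hTK : T ≤ K)
    (hTQ : T ≤ normalizer (Q : Set G)) (hT : IsPGroup 2 ↥T)
    (hTi : ¬ 2 ∣ T.relIndex (K ⊓ normalizer (Q : Set G))) (hTS : T ≤ S) (hS : S ≤ Q ⊔ T)
    (hSp : IsPGroup 2 ↥S) (hSi : ¬ 2 ∣ S.relIndex (Q ⊔ T)) :
    Nonempty (↥(S ⊓ normalizer (T : Set G) ⊓ Q) ≃* ↥T) := by
  haveI : Fact (Nat.Prime 2) := ⟨Nat.prime_two⟩
  have hKt : ∀ x : G, x ∉ normalizer (K : Set G) →
      Odd (Nat.card ↥(K ⊓ K.map (MulAut.conj x).toMonoidHom)) := by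
    intro x hx
    set x' := g⁻¹ * x * g with hx'
    have hx'n : x' ∉ normalizer (Q : Set G) := by
      intro h
      refine hx ?_
      rw [hK, ← Subgroup.map_equiv_normalizer_eq]
      exact ⟨x', h, by simp [hx', mul_assoc]⟩
    have he : K.map (MulAut.conj x).toMonoidHom =
        (Q.map (MulAut.conj x').toMonoidHom).map (MulAut.conj g).toMonoidHom := by
      rw [hK, Subgroup.map_map, Subgroup.map_map]
      congr 1
      ext y
      simp [hx', mul_assoc]
    rw [he, hK, ← Subgroup.map_inf _ _ _ (MulEquiv.injective _),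
      Subgroup.card_map_of_injective (MulEquiv.injective _)]
    exact hQ.2 x' hx'n
  have hQK : Odd (Nat.card ↥(Q ⊓ K)) := hK ▸ hQ.2 g hg
  set A := S ⊓ Q with hA
  have hTA : T ≤ normalizer (A : Set G) :=
    CfsgLib.Core.le_normalizer_inf (hTS.trans Subgroup.le_normalizer) hTQ
  set R := S ⊓ normalizer (T : Set G) ⊓ Q with hR
  have hRA : R = A ⊓ centralizer (T : Set G) := by
    refine le_antisymm (fun r hr => ?_) (fun r hr => ?_)
    · obtain ⟨hr1, hrQ⟩ := Subgroup.mem_inf.mp hr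
      obtain ⟨hrS, hrN⟩ := Subgroup.mem_inf.mp hr1
      refine Subgroup.mem_inf.mpr ⟨Subgroup.mem_inf.mpr ⟨hrS, hrQ⟩,
        mem_centralizer_iff.mpr fun t ht => ?_⟩
      have h1 : r * t * r⁻¹ * t⁻¹ ∈ T :=
        mul_mem ((Subgroup.mem_normalizer_iff.mp hrN t).mp ht) (inv_mem ht)
      have h2 : r * t * r⁻¹ * t⁻¹ ∈ Q := by
        have := mul_mem hrQ ((Subgroup.mem_normalizer_iff.mp (hTQ ht) r⁻¹).mp (inv_mem hrQ))
        simpa [mul_assoc] using this
      exact (mul_inv_eq_iff_eq_mul.mp (mul_inv_eq_one.mp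
        (eq_one_of_odd hQK hT (Subgroup.mem_inf.mpr ⟨h2, hTK h1⟩) h1))).symm
    · obtain ⟨hrA, hrC⟩ := Subgroup.mem_inf.mp hr
      obtain ⟨hrS, hrQ⟩ := Subgroup.mem_inf.mp hrA
      exact Subgroup.mem_inf.mpr ⟨Subgroup.mem_inf.mpr
        ⟨hrS, CfsgLib.Core.centralizer_le_normalizer T hrC⟩, hrQ⟩
  have hAp : IsPGroup 2 ↥A := hSp.to_le inf_le_left
  have hAi : ¬ 2 ∣ A.relIndex Q := CfsgLib.Local.PRed.not_dvd_relIndex_inf hS le_sup_left
    (hS.trans (sup_le Subgroup.le_normalizer hTQ)) hSi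
  have hA1 : A ≠ ⊥ := fun e => hAi (by
    rw [e, Subgroup.relIndex_bot_left]; exact even_iff_two_dvd.mp hQ.1)
  have hR1 : R ≠ ⊥ := by
    intro e
    -- a fixed point of `T` on `A`
    set P := A ⊔ T with hP
    have hPp : IsPGroup 2 ↥P := hAp.to_sup_of_normal_left' hT hTA
    haveI : (A.subgroupOf P).Normal := CfsgLib.Local.PRed.subgroupOf_normal
      (sup_le Subgroup.le_normalizer hTA)
    haveI := hPp.isNilpotent
    have h1 := CfsgLib.Core.nilpotent_inf_center_ne_bot (N := A.subgroupOf P) (fun h =>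
      hA1 ((Subgroup.subgroupOf_eq_bot.mp h).eq_bot_of_le le_sup_left))
    refine h1 ((Subgroup.eq_bot_iff_forall _).mpr fun x hx => Subtype.ext ?_)
    obtain ⟨hx1, hx2⟩ := Subgroup.mem_inf.mp hx
    have : (x : G) ∈ R := hRA ▸ Subgroup.mem_inf.mpr ⟨Subgroup.mem_subgroupOf.mp hx1,
      mem_centralizer_iff.mpr fun t ht => congrArg Subtype.val
        (Subgroup.mem_center_iff.mp hx2 ⟨t, Subgroup.mem_sup_right ht⟩)⟩
    rw [e, Subgroup.mem_bot] at this
    exact this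
  have hRp : IsPGroup 2 ↥R := hAp.to_le (hRA ▸ inf_le_left)
  have hRQ : R ≤ Q := inf_le_right
  have hRT : R ≤ centralizer (T : Set G) := hRA ▸ inf_le_right
  have hRK : R ≤ normalizer (K : Set G) := fun r hr => mem_normalizer hKt hTK hT hT1 (hRT hr)
  -- the other side
  set KR := K ⊔ R with hKR
  obtain ⟨S2, hS2⟩ := (CfsgLib.Local.PRed.isPGroup_subgroupOf (L := KR)
    (hT.to_sup_of_normal_left' hRp (hRT.trans (CfsgLib.Core.centralizer_le_normalizer T)))
    ).exists_le_sylow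
  set S2' := (S2 : Subgroup ↥KR).map KR.subtype with hS2'
  have hTR : T ⊔ R ≤ S2' := fun x hx => ⟨⟨x, sup_le_sup_right hTK R hx⟩,
    hS2 (Subgroup.mem_subgroupOf.mpr hx), rfl⟩
  set B := S2' ⊓ K with hB
  have hBp : IsPGroup 2 ↥B := (S2.isPGroup'.map _).to_le inf_le_left
  have hBi : ¬ 2 ∣ B.relIndex K := by
    refine CfsgLib.Local.PRed.not_dvd_relIndex_inf (Subgroup.map_subtype_le _) le_sup_left
      ((Subgroup.map_subtype_le _).trans (sup_le Subgroup.le_normalizer hRK)) ?_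
    rw [hS2', Subgroup.relIndex, Subgroup.subgroupOf,
      Subgroup.comap_map_eq_self_of_injective KR.subtype_injective]
    exact S2.not_dvd_index
  have hTB : T ≤ B := le_inf (le_sup_left.trans hTR) hTK
  have hRB : R ≤ normalizer (B : Set G) :=
    CfsgLib.Core.le_normalizer_inf ((le_sup_right.trans hTR).trans Subgroup.le_normalizer) hRK
  have hTeq : T = B ⊓ centralizer (R : Set G) := by
    refine CfsgLib.Core.eq_of_le_of_card_le (le_inf hTB (Subgroup.le_centralizer_iff.mp hRT)) ?_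
    have hle : B ⊓ centralizer (R : Set G) ≤ K ⊓ normalizer (Q : Set G) :=
      le_inf (inf_le_left.trans inf_le_right) fun b hb =>
        mem_normalizer hQ.2 hRQ hRp hR1 (Subgroup.mem_inf.mp hb).2
    exact card_le_sylow hle (hBp.to_le inf_le_left) (le_inf hTK hTQ) hT hTi


  have hmap : ∀ X : Subgroup G, Nat.card ↥(X.map (MulAut.conj g).toMonoidHom) = Nat.card ↥X :=
    fun X => Subgroup.card_map_of_injective (MulEquiv.injective _)
  have hKA : (A.map (MulAut.conj g).toMonoidHom).relIndex K = A.relIndex Q := by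
    rw [hK, Subgroup.relIndex_map_map_of_injective _ _ (MulEquiv.injective _)]
  have hT_le : Nat.card ↥T ≤ Nat.card ↥R := by
    by_cases h : R = A
    · rw [h, ← hmap A]
      exact card_le_sylow hTK hT (hK ▸ Subgroup.map_mono inf_le_right) (hAp.map _)
        (hKA ▸ hAi)
    · obtain ⟨f, hf⟩ := embed hKt hQK inf_le_right hAp hTK hT hTA hTQ hRA h
      exact Nat.card_le_card_of_injective f hf
  have hR_le : Nat.card ↥R ≤ Nat.card ↥T := by
    by_cases h : T = B
    · rw [h, ← hmap R]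
      exact card_le_sylow (hK ▸ Subgroup.map_mono hRQ) (hRp.map _) inf_le_right hBp hBi
    · obtain ⟨f, hf⟩ := embed hQ.2 (by rwa [inf_comm] at hQK) inf_le_right hBp hRQ hRp hRB hRK hTeq h
      exact Nat.card_le_card_of_injective f hf
  by_cases h : R = A
  · by_cases h' : T = B
    · let e := A.equivMapOfInjective (MulAut.conj g).toMonoidHom (MulEquiv.injective _)
      set A' := A.map (MulAut.conj g).toMonoidHom with hA'
      have hA'K : A' ≤ K := hK ▸ Subgroup.map_mono inf_le_right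
      let P1 : Sylow 2 ↥K := (CfsgLib.Local.PRed.isPGroup_subgroupOf (L := K)
        (hAp.map (MulAut.conj g).toMonoidHom)).toSylow
        (show ¬ 2 ∣ A'.relIndex K by rw [hKA]; exact hAi)
      let P2 : Sylow 2 ↥K := (CfsgLib.Local.PRed.isPGroup_subgroupOf (L := K) hBp).toSylow hBi
      let e2 : ↥(A'.subgroupOf K) ≃* ↥(B.subgroupOf K) := P1.equiv P2
      exact ⟨(MulEquiv.subgroupCongr h).trans (e.trans ((Subgroup.subgroupOfEquivOfLe hA'K).symm.trans
        (e2.trans ((Subgroup.subgroupOfEquivOfLe inf_le_right).trans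
          (MulEquiv.subgroupCongr h'.symm)))))⟩
    · obtain ⟨f, hf⟩ := embed hQ.2 (by rwa [inf_comm] at hQK) inf_le_right hBp hRQ hRp hRB hRK hTeq h'
      exact equiv_of_injective_card f hf (le_antisymm hR_le hT_le)
  · obtain ⟨f, hf⟩ := embed hKt hQK inf_le_right hAp hTK hT hTA hTQ hRA h
    obtain ⟨e⟩ := equiv_of_injective_card f hf (le_antisymm hT_le hR_le)
    exact ⟨e.symm⟩

end CfsgLib.Local.Tight
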