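import Cfsg.Agent.Lib.LocalWeaklyClosed
import Cfsg.Agent.S2814

/-!
Weak closures in a product of two normal subgroups.
-/

set_option autoImplicit false

namespace CfsgLib.Local.WProd

open Subgroup
open CfsgLib.Local.PRed
open CfsgLib.Local.WC
open scoped commutatorElement Pointwise

universe u

variable {G : Type u} [Group G] {p : ℕ}

theorem core_le_of_normalized [Finite G] [Fact p.Prime] {K L : Subgroup G} (hKL : K ≤ L)
    (hn : L ≤ normalizer (K : Set G)) : Cfsg.pCoreOf p K ≤ Cfsg.pCoreOf p L := by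
  rintro _ ⟨x, hx, rfl⟩
  have hN := subgroupOf_normal hn
  let e := Subgroup.subgroupOfEquivOfLe hKL
  obtain ⟨y, hy, hyx⟩ := (CfsgLib.Core.map_pCore_of_mulEquiv p e).ge hx
  refine ⟨(y : ↥L), CfsgLib.Core.pCore_map_subtype_le hN ⟨y, hy, rfl⟩, ?_⟩
  rw [← hyx]
  rfl

/-- A group generated by the conjugates of a `p`-subgroup `Q` is `O^p · Q` with `O^p = [O^p, Q]`. -/
theorem oRes_eq_commutator [Finite G] [Fact p.Prime] {Q W : Subgroup G} (hQp : IsPGroup p ↥Q)
    (hQW : Q ≤ W) (hgen : W ≤ cl W Q) :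
    Q ⊔ ORes p W = W ∧ ⁅ORes p W, Q⁆ = ORes p W := by
  set Q' := Q.subgroupOf W with hQ'
  have hclos : Subgroup.normalClosure (Q' : Set ↥W) = ⊤ := by
    refine eq_top_iff.mpr fun w _ => ?_
    have h1 : cl W Q ≤ (Subgroup.normalClosure (Q' : Set ↥W)).map W.subtype := by
      refine cl_le_iff_conj fun n hn y hy => ?_
      rw [CfsgLib.Core.mem_conj_smul] at hy
      refine ⟨⟨n, hn⟩ * ⟨n⁻¹ * y * n, hQW hy⟩ * ⟨n, hn⟩⁻¹,
        Subgroup.normalClosure_normal.conj_mem _
          (Subgroup.subset_normalClosure (Subgroup.mem_subgroupOf.mpr hy)) _, by simp [mul_assoc]⟩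
    obtain ⟨z, hz, hzw⟩ := h1 (hgen w.2)
    rwa [← Subtype.ext (a1 := z) (a2 := w) hzw]
  have htop : ∀ N : Subgroup ↥W, N.IsSubnormal → Q' ≤ N → N = ⊤ := by
    intro N hN
    induction hN with
    | top => exact fun _ => rfl
    | step H K h_le hSubn hN ih =>
      intro hQH
      have hK := ih (hQH.trans h_le)
      subst hK
      have hHn : H.Normal := ⟨fun h hh g => by
        simpa [Subgroup.mem_subgroupOf] using
          hN.conj_mem ⟨h, Subgroup.mem_top h⟩ (Subgroup.mem_subgroupOf.mpr hh)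
            ⟨g, Subgroup.mem_top g⟩⟩
      haveI := hHn
      exact eq_top_iff.mpr (hclos.ge.trans (Subgroup.normalClosure_le_normal
        (SetLike.coe_subset_coe.mpr hQH)))
  have hK : (⊤ : Subgroup ↥W) = Cfsg.subnormalClosure Q' :=
    (eq_top_iff.mpr (le_sInf fun N hN => (htop N hN.2 hN.1).ge)).symm
  obtain ⟨-, -, h3, h4⟩ := Cfsg.Agent.S2814.result (p := p) Q' ⊤ hK
  have h5 := h4 (isPGroup_subgroupOf hQp)
  rw [map_pResidual, oRes_top] at h3 h5
  constructor
  · have h6 := congrArg (Subgroup.map W.subtype) h3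
    rwa [Subgroup.map_sup, Subgroup.map_subgroupOf_eq_of_le hQW, map_pResidual,
      ← MonoidHom.range_eq_map, Subgroup.range_subtype] at h6
  · have h6 := congrArg (Subgroup.map W.subtype) h5
    rwa [Subgroup.map_commutator, Subgroup.map_subgroupOf_eq_of_le hQW, map_pResidual] at h6

theorem oRes_le_oRes {K L : Subgroup G} (h : K ≤ L) : ORes p K ≤ ORes p L :=
  Subgroup.closure_mono fun _ hx => ⟨h hx.1, hx.2⟩

theorem oRes_idem [Finite G] (K : Subgroup G) : ORes p (ORes p K) = ORes p K :=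
  le_antisymm (oRes_le _) ((Subgroup.closure_le _).mpr fun _ hx =>
    mem_oRes (Subgroup.subset_closure hx) hx.2)

theorem oRes_le_of_pMod [Finite G] {K C : Subgroup G} (h : PMod p K C) : ORes p K ≤ C :=
  (Subgroup.closure_le _).mpr fun _ hx => h.pprime hx.1 hx.2

theorem pMod_oRes [Finite G] [Fact p.Prime] (K : Subgroup G) : PMod p K (ORes p K) :=
  pMod_of_pprime fun _ hx h => mem_oRes hx h

theorem pMod_of_isPGroup {K C : Subgroup G} (h : IsPGroup p ↥K) : PMod p K C := fun x hx => by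
  obtain ⟨k, hk⟩ := h ⟨x, hx⟩
  refine ⟨k, ?_⟩
  rw [show x ^ p ^ k = 1 from congrArg Subtype.val hk]
  exact C.one_mem

theorem commutator_le_of_mem {X Y Z : Subgroup G}
    (h : ∀ x ∈ X, ∀ y ∈ Y, x * y * x⁻¹ * y⁻¹ ∈ Z) : ⁅X, Y⁆ ≤ Z :=
  Subgroup.commutator_le.mpr fun x hx y hy => by
    simpa [commutatorElement_def] using h x hx y hy

/-- The data of one factor. -/
theorem factor [Finite G] [Fact p.Prime] {Q Hc A B : Subgroup G} (h : WClosed p Q)
    (hQp : IsPGroup p ↥Q) (hQ1 : Q ≠ ⊥) (hQH : Q ≤ Hc) (hgen : Hc ≤ cl Hc Q)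
    (hA : A ≤ Hc) (hAn : Hc ≤ normalizer (A : Set G))
    (hB : B ≤ Hc) (hBn : Hc ≤ normalizer (B : Set G)) (hprod : A ⊔ B = Hc)
    (hcomm : ⁅A, B⁆ ≤ normalizer (Q : Set G)) :
    let K := ORes p (cl A Q)
    ⁅K, Q⁆ = K ∧ ⁅K, A⁆ = K ∧ K ≤ ⁅A, A⁆ ∧ Hc ≤ normalizer (K : Set G) ∧ K ≤ A ∧
      ⁅K, B⁆ ≤ Cfsg.pCoreOf p Hc ∧ cl A Q ≤ Q ⊔ K ∧ K ≤ ORes p Hc := by
  intro K
  set O := Cfsg.pCoreOf p Hc with hO
  set D := ⁅A, B⁆ with hD
  set W := cl A Q with hW
  have hDA : D ≤ A := commutator_le_of_mem fun a ha b hb => by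
    have := A.mul_mem ha (conj_mem hAn (hB hb) (A.inv_mem ha))
    simpa [mul_assoc] using this
  have hDH : D ≤ Hc := hDA.trans hA
  have hDn : Hc ≤ normalizer (D : Set G) := commutator_normalized hAn hBn
  have hOn : Hc ≤ normalizer (O : Set G) := pCoreOf_normalized Hc
  have hOH : O ≤ Hc := pCoreOf_le Hc
  have hOp : IsPGroup p ↥O := isPGroup_pCoreOf Hc
  -- `[D, H°] ≤ O`
  have hDO : ∀ x ∈ Hc, ∀ d ∈ D, d * x * d⁻¹ * x⁻¹ ∈ O := by
    let S : Subgroup G :=
      { carrier := {x | x ∈ Hc ∧ ∀ d ∈ D, d * x * d⁻¹ * x⁻¹ ∈ O}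
        one_mem' := ⟨Hc.one_mem, fun d _ => by simp⟩
        mul_mem' := by
          rintro a b ⟨ha, ha'⟩ ⟨hb, hb'⟩
          refine ⟨Hc.mul_mem ha hb, fun d hd => ?_⟩
          have := O.mul_mem (ha' d hd) (conj_mem hOn ha (hb' d hd))
          simpa [mul_assoc] using this
        inv_mem' := by
          rintro a ⟨ha, ha'⟩
          refine ⟨Hc.inv_mem ha, fun d hd => ?_⟩
          have := conj_mem hOn (Hc.inv_mem ha) (O.inv_mem (ha' d hd))
          simpa [mul_assoc] using this }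
    have hle : Hc ≤ S := hgen.trans (cl_le_iff_conj fun n hn x hx => by
      have hxH : x ∈ Hc := by
        rw [CfsgLib.Core.mem_conj_smul] at hx
        have := Hc.mul_mem (Hc.mul_mem hn (hQH hx)) (Hc.inv_mem hn)
        simpa [mul_assoc] using this
      have hDQ : D ≤ normalizer ((MulAut.conj n • Q : Subgroup G) : Set G) := by
        intro d hd
        have h1 : n⁻¹ * d * n ∈ normalizer (Q : Set G) := hcomm (by
          simpa using conj_mem hDn (Hc.inv_mem hn) hd)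
        rw [← CfsgLib.Core.conj_smul_eq_self_iff, CfsgLib.Core.conj_smul_conj_smul,
          show d * n = n * (n⁻¹ * d * n) by group, ← CfsgLib.Core.conj_smul_conj_smul,
          CfsgLib.Core.conj_smul_of_mem_normalizer h1]
      refine ⟨hxH, fun d hd => ?_⟩
      have hV : (MulAut.conj n • Q) ⊓ D ≤ O :=
        (PRed.le_pCoreOf inf_le_right
          (CfsgLib.Core.le_normalizer_inf hDQ Subgroup.le_normalizer)
          ((show IsPGroup p ↥(MulAut.conj n • Q : Subgroup G) by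
            rw [CfsgLib.Core.conj_smul_eq_map]; exact hQp.map _).to_le inf_le_left)).trans
          (core_le_of_normalized hDH hDn)
      refine hV (Subgroup.mem_inf.mpr
        ⟨Subgroup.mul_mem _ (conj_mem hDQ hd hx) (Subgroup.inv_mem _ hx), ?_⟩)
      have := D.mul_mem hd (conj_mem hDn hxH (D.inv_mem hd))
      simpa [mul_assoc] using this)
    exact fun x hx => (hle hx).2
  haveI hOn' : (O.subgroupOf Hc).Normal := subgroupOf_normal hOn
  set q := QuotientGroup.mk' (O.subgroupOf Hc) with hq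
  have hq1 : ∀ z : ↥Hc, (z : G) ∈ O → q z = 1 := fun z hz =>
    (QuotientGroup.eq_one_iff z).mpr (Subgroup.mem_subgroupOf.mpr hz)
  -- `[[A, A] D, B] ≤ O`
  have hcentral : ∀ (x : ↥Hc), (x : G) ∈ D → ∀ y : ↥Hc, q x * q y = q y * q x := by
    intro x hx y
    have h1 : q (x * y * x⁻¹ * y⁻¹) = 1 := hq1 _ (hDO y y.2 x hx)
    rw [map_mul, map_mul, map_mul, map_inv, map_inv] at h1
    exact commutatorElement_eq_one_iff_mul_comm.mp (by simpa [commutatorElement_def] using h1)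
  have hAAB : ∀ z ∈ ⁅A, A⁆ ⊔ D, ∀ b ∈ B, z * b * z⁻¹ * b⁻¹ ∈ O := by
    intro z hz b hb
    let S : Subgroup G :=
      { carrier := {x | ∃ hx : x ∈ Hc, q ⟨x, hx⟩ * q ⟨b, hB hb⟩ = q ⟨b, hB hb⟩ * q ⟨x, hx⟩}
        one_mem' := ⟨Hc.one_mem, by
          rw [show (⟨1, Hc.one_mem⟩ : ↥Hc) = 1 from rfl, map_one, one_mul, mul_one]⟩
        mul_mem' := by
          rintro a a' ⟨ha, ha1⟩ ⟨ha', ha2⟩
          refine ⟨Hc.mul_mem ha ha', ?_⟩
          rw [show (⟨a * a', Hc.mul_mem ha ha'⟩ : ↥Hc) = ⟨a, ha⟩ * ⟨a', ha'⟩ from rfl, map_mul]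
          exact (Commute.mul_left ha1 ha2 :)
        inv_mem' := by
          rintro a ⟨ha, ha1⟩
          refine ⟨Hc.inv_mem ha, ?_⟩
          rw [show (⟨a⁻¹, Hc.inv_mem ha⟩ : ↥Hc) = ⟨a, ha⟩⁻¹ from rfl, map_inv]
          exact (Commute.inv_left ha1 :) }
    have hAA : ⁅A, A⁆ ≤ S := Subgroup.commutator_le.mpr fun a ha a' ha' => by
      refine ⟨Subgroup.commutator_le.mpr (fun s hs t ht => by
        rw [commutatorElement_def]
        exact Hc.mul_mem (Hc.mul_mem (Hc.mul_mem hs ht) (Hc.inv_mem hs)) (Hc.inv_mem ht))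
        (Subgroup.commutator_mem_commutator (hA ha) (hA ha')), ?_⟩
      set x := q ⟨a, hA ha⟩ with hx
      set y := q ⟨a', hA ha'⟩ with hy
      set w := q ⟨b, hB hb⟩ with hw
      have hzc : ∀ t : ↥Hc, (t : G) ∈ A → ∀ u, ⁅q t, w⁆ * q u = q u * ⁅q t, w⁆ := by
        intro t ht u
        rw [hw, ← map_commutatorElement]
        exact hcentral _ (Subgroup.commutator_mem_commutator ht hb) u
      have h1 : ∀ t : ↥Hc, (t : G) ∈ A → w * q t * w⁻¹ = ⁅q t, w⁆⁻¹ * q t := fun t _ => by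
        rw [commutatorElement_def]; group
      have hcx := hzc ⟨a, hA ha⟩ ha
      have hcy := hzc ⟨a', hA ha'⟩ ha'
      rw [← hx] at hcx
      rw [← hy] at hcy
      have h2 : w * ⁅x, y⁆ * w⁻¹ = ⁅x, y⁆ := by
        have h3 : w * ⁅x, y⁆ * w⁻¹ = ⁅w * x * w⁻¹, w * y * w⁻¹⁆ := by
          simp [commutatorElement_def, mul_assoc]
        rw [h3, hx, hy, h1 _ (show ((⟨a, hA ha⟩ : ↥Hc) : G) ∈ A from ha),
          h1 _ (show ((⟨a', hA ha'⟩ : ↥Hc) : G) ∈ A from ha'), ← hx, ← hy]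
        have e1 : ∀ u, Commute (⁅x, w⁆⁻¹) (q u) := fun u => Commute.inv_left (hcx u)
        have e2 : ∀ u, Commute (⁅y, w⁆⁻¹) (q u) := fun u => Commute.inv_left (hcy u)
        have e1' : ∀ u, Commute (⁅x, w⁆⁻¹) u := fun u => by
          obtain ⟨v, rfl⟩ := QuotientGroup.mk'_surjective (O.subgroupOf Hc) u
          exact e1 v
        have e2' : ∀ u, Commute (⁅y, w⁆⁻¹) u := fun u => by
          obtain ⟨v, rfl⟩ := QuotientGroup.mk'_surjective (O.subgroupOf Hc) u
          exact e2 v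
        generalize ⁅x, w⁆⁻¹ = c at e1'
        generalize ⁅y, w⁆⁻¹ = d at e2'
        rw [commutatorElement_def, commutatorElement_def, mul_inv_rev, mul_inv_rev]
        calc c * x * (d * y) * (x⁻¹ * c⁻¹) * (y⁻¹ * d⁻¹)
            = c * (x * d) * y * x⁻¹ * (c⁻¹ * y⁻¹) * d⁻¹ := by group
          _ = c * (d * x) * y * x⁻¹ * (y⁻¹ * c⁻¹) * d⁻¹ := by
              rw [(e2' x).eq, ((e1' y).inv_inv).eq]
          _ = (c * d) * (x * y * x⁻¹ * y⁻¹) * (c⁻¹ * d⁻¹) := by group
          _ = (x * y * x⁻¹ * y⁻¹) * (c * d) * (c⁻¹ * d⁻¹) := by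
              rw [((e1' _).mul_left (e2' (x * y * x⁻¹ * y⁻¹))).eq]
          _ = x * y * x⁻¹ * y⁻¹ := by
              rw [(e1' d).eq]
              group
      have h4 : ∀ hm, q ⟨⁅a, a'⁆, hm⟩ = ⁅x, y⁆ := fun hm => by
        rw [hx, hy, ← map_commutatorElement]
        rfl
      rw [h4]
      exact (mul_inv_eq_iff_eq_mul.mp h2).symm
    have hDS : D ≤ S := fun x hx => ⟨hDH hx, hcentral _ hx _⟩
    obtain ⟨hzH, hz'⟩ := sup_le hAA hDS hz
    have h5 : q ⁅(⟨z, hzH⟩ : ↥Hc), ⟨b, hB hb⟩⁆ = 1 := by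
      rw [map_commutatorElement]
      exact commutatorElement_eq_one_iff_mul_comm.mpr hz'
    exact Subgroup.mem_subgroupOf.mp ((QuotientGroup.eq_one_iff _).mp h5)
  have hWA : W ≤ A ⊔ Q := cl_le_sup (hQH.trans hAn)
  have hWH : W ≤ Hc := hWA.trans (sup_le hA hQH)
  have hKA : K ≤ A := oRes_le_of_pMod (fun x hx => by
    have h1 := pMod_sup (pMod_of_isPGroup (C := A) hQp) (hQH.trans hAn) x
      (by rw [sup_comm]; exact hWA hx)
    exact h1)
  have hKW : K ≤ W := oRes_le W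
  have hKH : K ≤ Hc := hKA.trans hA
  have hAW : A ≤ normalizer (W : Set G) := cl_normalized A Q
  have hAK : A ≤ normalizer (K : Set G) := oRes_normalized hAW
  have hWW : W ≤ cl W Q := cl_le_iff_conj fun a ha => by
    have hle : MulAut.conj a • Q ≤ W := conj_le_cl ha
    obtain ⟨w, hw, he⟩ := h.conj_in hQp hQ1 (le_cl A Q) hle
    rw [he]
    exact conj_le_cl hw
  obtain ⟨hQK, hKQ⟩ := oRes_eq_commutator hQp (le_cl A Q) hWW
  have hKB : ⁅K, B⁆ ≤ O := by
    refine commutator_le_of_mem fun k hk b hb => hAAB k ?_ b hb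
    have hle : ⁅K, Q⁆ ≤ ⁅A, A⁆ ⊔ D := commutator_le_of_mem fun x hx y hy => by
      obtain ⟨a, ha, c, hc, rfl⟩ :=
        (CfsgLib.Core.mem_sup_iff_of_le_normalizer (hA.trans hBn)).mp (hprod.ge (hQH hy))
      have hxA := hKA hx
      have e1 : x * a * x⁻¹ * a⁻¹ ∈ ⁅A, A⁆ := by
        simpa [commutatorElement_def] using Subgroup.commutator_mem_commutator hxA ha
      have e2 : x * c * x⁻¹ * c⁻¹ ∈ D := by
        simpa [commutatorElement_def] using Subgroup.commutator_mem_commutator hxA hc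
      have := mul_mem (Subgroup.mem_sup_left (T := D) e1)
        (Subgroup.mem_sup_right (S := ⁅A, A⁆) (conj_mem hDn (hA ha) e2))
      simpa [mul_assoc] using this
    exact hle (hKQ.ge hk)
  -- normality of `K`
  have hX : Hc ≤ normalizer ((K ⊔ (O ⊓ A) : Subgroup G) : Set G) := by
    have hOA : Hc ≤ normalizer ((O ⊓ A : Subgroup G) : Set G) :=
      CfsgLib.Core.le_normalizer_inf hOn hAn
    rw [← hprod]
    refine sup_le (le_normalizer_of_conj fun a ha x hx => ?_)
      (le_normalizer_of_conj fun b hb x hx => ?_)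
    · obtain ⟨k, hk, o, ho, rfl⟩ :=
        (CfsgLib.Core.mem_sup_iff_of_le_normalizer (hKH.trans hOA)).mp hx
      have := mul_mem (Subgroup.mem_sup_left (T := O ⊓ A) (conj_mem hAK ha hk))
        (Subgroup.mem_sup_right (S := K) (conj_mem hOA (hA ha) ho))
      simpa [mul_assoc] using this
    · obtain ⟨k, hk, o, ho, rfl⟩ :=
        (CfsgLib.Core.mem_sup_iff_of_le_normalizer (hKH.trans hOA)).mp hx
      have e1 : k * b * k⁻¹ * b⁻¹ ∈ O ⊓ A := Subgroup.mem_inf.mpr
        ⟨hKB (by simpa [commutatorElement_def] using Subgroup.commutator_mem_commutator hk hb),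
          hDA (by simpa [commutatorElement_def] using
            Subgroup.commutator_mem_commutator (hKA hk) hb)⟩
      have := mul_mem (mul_mem (Subgroup.mem_sup_right (S := K) (inv_mem e1))
        (Subgroup.mem_sup_left (T := O ⊓ A) hk))
        (Subgroup.mem_sup_right (S := K) (conj_mem hOA (hB hb) ho))
      simpa [mul_assoc] using this
  have hXK : ORes p (K ⊔ (O ⊓ A)) = K := by
    refine le_antisymm (oRes_le_of_pMod ?_)
      (le_trans (oRes_idem W).ge (oRes_le_oRes le_sup_left))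
    have := pMod_sup (pMod_of_isPGroup (C := K) (hOp.to_le (inf_le_left : O ⊓ A ≤ O)))
      ((inf_le_right : O ⊓ A ≤ A).trans hAK)
    rwa [sup_comm] at this
  have hKn : Hc ≤ normalizer (K : Set G) := by
    rw [← hXK]
    exact oRes_normalized hX
  -- `K = [K, A]`
  have hKAK : ⁅K, A⁆ = K := by
    set N := ⁅K, A⁆ with hN
    have hNK : N ≤ K := commutator_le_of_mem fun k hk a ha => by
      have := K.mul_mem hk (conj_mem hAK ha (K.inv_mem hk))
      simpa [mul_assoc] using this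
    refine le_antisymm hNK ?_
    have hNn : Hc ≤ normalizer (N : Set G) := commutator_normalized hKn hAn
    have hZ : K ≤ (O ⊓ K) ⊔ N := hKQ.ge.trans (commutator_le_of_mem fun x hx y hy => by
      obtain ⟨a, ha, c, hc, rfl⟩ :=
        (CfsgLib.Core.mem_sup_iff_of_le_normalizer (hA.trans hBn)).mp (hprod.ge (hQH hy))
      have e1 : x * a * x⁻¹ * a⁻¹ ∈ N := by
        simpa [commutatorElement_def] using Subgroup.commutator_mem_commutator hx ha
      have e2 : x * c * x⁻¹ * c⁻¹ ∈ O ⊓ K := Subgroup.mem_inf.mpr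
        ⟨hKB (by simpa [commutatorElement_def] using Subgroup.commutator_mem_commutator hx hc),
          by
            have := K.mul_mem hx (conj_mem hKn (hB hc) (K.inv_mem hx))
            simpa [mul_assoc] using this⟩
      have := mul_mem (Subgroup.mem_sup_right (S := O ⊓ K) e1)
        (Subgroup.mem_sup_left (T := N)
          (conj_mem (CfsgLib.Core.le_normalizer_inf hOn hKn) (hA ha) e2))
      simpa [mul_assoc] using this)
    have h1 : PMod p ((O ⊓ K) ⊔ N) N :=
      pMod_sup (pMod_of_isPGroup (hOp.to_le inf_le_left))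
        ((inf_le_left.trans hOH).trans hNn)
    have h2 := oRes_le_of_pMod (fun x hx => h1 x (hZ hx) : PMod p K N)
    rwa [oRes_idem] at h2
  refine ⟨hKQ, hKAK, ?_, hKn, hKA, hKB, hQK.ge, oRes_le_oRes hWH⟩
  exact hKAK.ge.trans (Subgroup.commutator_mono hKA le_rfl)

end CfsgLib.Local.WProd
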