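import Mathlib

/-!
# Zsigmondy's theorem on primitive prime divisors of `a ^ n - 1`
-/

namespace CfsgLib.Local

open Polynomial

private theorem zsig_two_pow_gt {r : ℕ} (h : 5 ≤ r) : 3 * r + 1 < 2 ^ r := by
  induction r, h using Nat.le_induction with
  | base => norm_num
  | succ r hr ih => rw [pow_succ]; omega

private theorem zsig_geom_sum_sq {r : ℕ} (hr : r.Prime) (hr2 : r ≠ 2) {b : ℤ}
    (hb : (r : ℤ) ∣ b - 1) : ¬ ((r : ℤ) ^ 2 ∣ ∑ i ∈ Finset.range r, b ^ i) := by
  obtain ⟨c, hc⟩ := hb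
  have hbi : ∀ i : ℕ, (r : ℤ) ^ 2 ∣ b ^ i - (1 + (i : ℤ) * (r * c)) := by
    intro i
    induction i with
    | zero => simp
    | succ i ih =>
      obtain ⟨d, hd⟩ := ih
      refine ⟨d * b + (i : ℤ) * c ^ 2, ?_⟩
      have hb' : b = 1 + r * c := by linarith
      have hd' : b ^ i = (1 + (i : ℤ) * (r * c)) + (r : ℤ) ^ 2 * d := by linarith
      rw [pow_succ, hd']
      push_cast
      rw [hb']
      ring
  intro hdvd
  have h1 : (r : ℤ) ^ 2 ∣ ∑ i ∈ Finset.range r, (1 + (i : ℤ) * (r * c)) := by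
    have h2 : (r : ℤ) ^ 2 ∣ ∑ i ∈ Finset.range r, (b ^ i - (1 + (i : ℤ) * (r * c))) :=
      Finset.dvd_sum fun i _ => hbi i
    rw [Finset.sum_sub_distrib] at h2
    exact (dvd_sub_right hdvd).mp h2
  rw [Finset.sum_add_distrib, ← Finset.sum_mul] at h1
  simp only [Finset.sum_const, Finset.card_range, nsmul_eq_mul, mul_one] at h1
  obtain ⟨t, ht⟩ := hr.odd_of_ne_two hr2
  have hsum : (∑ i ∈ Finset.range r, (i : ℤ)) = (r : ℤ) * t := by
    have h := Finset.sum_range_id_mul_two r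
    rw [← Nat.cast_sum]
    have h' : (∑ i ∈ Finset.range r, i) = r * t := by
      have he : r - 1 = t * 2 := by omega
      rw [he, ← mul_assoc] at h
      exact Nat.eq_of_mul_eq_mul_right (by norm_num) h
    rw [h']; push_cast; ring
  rw [hsum] at h1
  have h3 : (r : ℤ) ^ 2 ∣ (r : ℤ) * t * (r * c) := ⟨t * c, by ring⟩
  have h4 : (r : ℤ) ^ 2 ∣ (r : ℤ) := (dvd_add_left h3).mp h1
  have h5 : r ^ 2 ∣ r := by exact_mod_cast h4
  have h6 := Nat.le_of_dvd hr.pos h5
  have h7 := hr.two_le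
  nlinarith

private theorem zsig_ord_two_mod_three : orderOf ((2 : ℕ) : ZMod 3) = 2 := by
  rw [orderOf_eq_prime_iff]
  exact ⟨by decide, by decide⟩

/-- **Zsigmondy's theorem**: `a ^ n - 1` has a primitive prime divisor unless `(a, n) = (2, 6)` or
`n = 2` and `a + 1` is a power of two. -/
theorem zsigmondy (a n : ℕ) (ha : 1 < a) (hn : 1 < n) (h6 : ¬ (a = 2 ∧ n = 6))
    (h2 : ¬ (n = 2 ∧ ∃ m : ℕ, a + 1 = 2 ^ m)) :
    ∃ r : ℕ, r.Prime ∧ r ∣ a ^ n - 1 ∧ ∀ k : ℕ, 0 < k → k < n → ¬ r ∣ a ^ k - 1 := by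
  by_contra hno
  push Not at hno
  rcases (Nat.succ_le_of_lt hn : 2 ≤ n).eq_or_lt' with hn2 | hn3
  · subst hn2
    apply h2
    refine ⟨rfl, _, Nat.eq_prime_pow_of_unique_prime_dvd (p := 2) (by omega) ?_⟩
    intro d hd hda
    have hd2 : d ∣ a ^ 2 - 1 := by
      rw [← one_pow 2, Nat.sq_sub_sq]
      exact Dvd.dvd.mul_right hda _
    obtain ⟨k, hk0, hk, hdk⟩ := hno d hd hd2
    obtain rfl : k = 1 := by omega
    rw [pow_one] at hdk
    have h := Nat.dvd_sub hda hdk
    rw [show a + 1 - (a - 1) = 2 by omega] at h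
    exact (Nat.prime_dvd_prime_iff_eq hd Nat.prime_two).mp h
  have hn0 : n ≠ 0 := by omega
  set N := ((cyclotomic n ℤ).eval (a : ℤ)).natAbs with hNdef
  have hNlt : (a - 1) ^ n.totient < N :=
    sub_one_pow_totient_lt_natAbs_cyclotomic_eval hn (by omega)
  have hN2 : 2 ≤ N := by
    have h : 1 ≤ (a - 1) ^ n.totient := Nat.one_le_pow _ _ (by omega)
    omega
  have hNdvd : (N : ℤ) ∣ (a : ℤ) ^ n - 1 := by
    rw [hNdef, Int.natAbs_dvd]
    have h := (cyclotomic.dvd_X_pow_sub_one n ℤ)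
    simpa using Polynomial.eval_dvd (x := (a : ℤ)) h
  have hNdvd' : N ∣ a ^ n - 1 := by
    have h : 1 ≤ a ^ n := Nat.one_le_pow _ _ (by omega)
    rw [← Int.natCast_dvd_natCast, Nat.cast_sub h]
    exact_mod_cast hNdvd
  -- the key property of each prime divisor of `N`
  have key : ∀ r : ℕ, r.Prime → r ∣ N → r ∣ n ∧ ∀ s : ℕ, s.Prime → s ∣ n → s ≤ r := by
    intro r hr hrN
    haveI := Fact.mk hr
    have hra : r ∣ a ^ n - 1 := hrN.trans hNdvd'
    obtain ⟨k, hk0, hkn, hrk⟩ := hno r hr hra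
    have hpow : ∀ j : ℕ, r ∣ a ^ j - 1 → (a : ZMod r) ^ j = 1 := by
      intro j hj
      have h : 1 ≤ a ^ j := Nat.one_le_pow _ _ (by omega)
      have := (ZMod.natCast_eq_zero_iff (a ^ j - 1) r).mpr hj
      rw [Nat.cast_sub h, Nat.cast_pow, Nat.cast_one, sub_eq_zero] at this
      exact this
    have hroot : (cyclotomic n (ZMod r)).IsRoot (a : ZMod r) := by
      have h := cyclotomic.eval_apply (a : ℤ) n (Int.castRingHom (ZMod r))
      simp only [Int.coe_castRingHom, Int.cast_natCast] at h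
      rw [IsRoot.def, h, ZMod.intCast_zmod_eq_zero_iff_dvd]
      exact Int.natCast_dvd.mpr hrN
    have hord : orderOf (a : ZMod r) ≤ k := orderOf_le_of_pow_eq_one hk0 (hpow k hrk)
    obtain ⟨e, m, hrm, hnm⟩ := Nat.exists_eq_pow_mul_and_not_dvd hn0 r hr.ne_one
    haveI : NeZero (m : ZMod r) := ⟨fun h => hrm ((ZMod.natCast_eq_zero_iff m r).mp h)⟩
    rw [hnm, isRoot_cyclotomic_prime_pow_mul_iff_of_charP] at hroot
    have hmeq := hroot.eq_orderOf
    have hane : (a : ZMod r) ≠ 0 := fun h => by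
      have h1 := hpow k hrk
      rw [h, zero_pow hk0.ne'] at h1
      exact zero_ne_one h1
    have hm1 : m ∣ r - 1 := hmeq ▸ ZMod.orderOf_dvd_card_sub_one hane
    have he : e ≠ 0 := by
      rintro rfl
      rw [pow_zero, one_mul] at hnm
      omega
    refine ⟨hnm ▸ (dvd_pow_self r he).mul_right m, fun s hs hsn => ?_⟩
    rw [hnm] at hsn
    rcases (Nat.Prime.dvd_mul hs).mp hsn with h | h
    · exact ((Nat.prime_dvd_prime_iff_eq hs hr).mp (hs.dvd_of_dvd_pow h)).le
    · have := Nat.le_of_dvd (by have := hr.two_le; omega) (h.trans hm1)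
      omega
  set r := N.minFac with hrdef
  have hr : r.Prime := Nat.minFac_prime (by omega)
  have hrN : r ∣ N := Nat.minFac_dvd N
  obtain ⟨hrn, hrmax⟩ := key r hr hrN
  clear_value r
  haveI := Fact.mk hr
  have huniq : ∀ {s : ℕ}, s.Prime → s ∣ N → s = r := by
    intro s hs hsN
    obtain ⟨hsn, hsmax⟩ := key s hs hsN
    exact le_antisymm (hrmax s hs hsn) (hsmax r hr hrn)
  obtain ⟨q, hq⟩ := hrn
  have hq0 : q ≠ 0 := by rintro rfl; omega
  have hqlt : q < n := by
    rw [hq]; exact lt_mul_of_one_lt_left (Nat.pos_of_ne_zero hq0) hr.one_lt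
  -- `a ^ q ≡ 1` modulo `r`
  have hra : (a : ZMod r) ^ n = 1 := by
    have h : 1 ≤ a ^ n := Nat.one_le_pow _ _ (by omega)
    have h' := (ZMod.natCast_eq_zero_iff (a ^ n - 1) r).mpr (hrN.trans hNdvd')
    rw [Nat.cast_sub h, Nat.cast_pow, Nat.cast_one, sub_eq_zero] at h'
    exact h'
  have hbq : (a : ZMod r) ^ q = 1 := by
    rw [hq, mul_comm, pow_mul, ZMod.pow_card] at hra
    exact hra
  have hb : (r : ℤ) ∣ (a : ℤ) ^ q - 1 := by
    rw [← ZMod.intCast_zmod_eq_zero_iff_dvd]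
    push_cast
    rw [hbq, sub_self]
  have hbne : (a : ℤ) ^ q - 1 ≠ 0 := by
    have h : a ^ q ≠ 1 := (Nat.one_lt_pow hq0 ha).ne'
    intro h'
    apply h
    exact_mod_cast sub_eq_zero.mp h'
  have hS : (cyclotomic n ℤ).eval (a : ℤ) ∣ ∑ i ∈ Finset.range r, ((a : ℤ) ^ q) ^ i := by
    have hmem : q ∈ n.properDivisors :=
      Nat.mem_properDivisors.mpr ⟨hq ▸ dvd_mul_left q r, hqlt⟩
    have h := Polynomial.eval_dvd (x := (a : ℤ))
      (X_pow_sub_one_mul_cyclotomic_dvd_X_pow_sub_one_of_dvd ℤ hmem)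
    simp only [eval_mul, eval_sub, eval_pow, eval_X, eval_one] at h
    rw [show (a : ℤ) ^ n = ((a : ℤ) ^ q) ^ r by rw [← pow_mul, hq, mul_comm],
      ← geom_sum_mul ((a : ℤ) ^ q) r, mul_comm (∑ i ∈ _, _)] at h
    exact (mul_dvd_mul_iff_left hbne).mp h
  have hNr : N = r := by
    have hNpow := Nat.eq_prime_pow_of_unique_prime_dvd (p := r) (n := N) (by omega) huniq
    rcases Nat.lt_or_ge N.primeFactorsList.length 2 with hlen | hlen
    · have : N.primeFactorsList.length = 1 := by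
        rcases Nat.eq_zero_or_pos N.primeFactorsList.length with h0 | h0
        · rw [h0, pow_zero] at hNpow; omega
        · omega
      rw [this, pow_one] at hNpow
      exact hNpow
    · exfalso
      have hsqN : r ^ 2 ∣ N := by rw [hNpow]; exact Nat.pow_dvd_pow r hlen
      have hsqS : ((r : ℤ) ^ 2) ∣ ∑ i ∈ Finset.range r, ((a : ℤ) ^ q) ^ i := by
        refine dvd_trans ?_ hS
        rw [← Int.dvd_natAbs]
        exact_mod_cast hsqN
      by_cases hr2 : r = 2
      · rw [hr2, show (Finset.range 2) = {0, 1} from rfl] at hsqS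
        simp at hsqS
        -- all prime divisors of `n` are `≤ 2`, so `q` is even
        have h2q : 2 ∣ q := by
          have hq1 : q ≠ 1 := by rintro rfl; omega
          have hs := Nat.minFac_prime hq1
          have hle := hrmax _ hs ((Nat.minFac_dvd q).trans (hq ▸ dvd_mul_left q r))
          have hge := hs.two_le
          have : q.minFac = 2 := by omega
          exact this ▸ Nat.minFac_dvd q
        obtain ⟨j, hj⟩ := h2q
        rw [hj, mul_comm, pow_mul] at hsqS hb
        rcases Int.even_or_odd ((a : ℤ) ^ j) with ⟨t, ht⟩ | ⟨t, ht⟩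
        · rw [ht, hr2] at hb
          obtain ⟨c, hc⟩ := hb
          push_cast at hc
          have : (1 : ℤ) = 2 * (2 * t ^ 2 - c) := by linear_combination (-1) * hc
          omega
        · rw [ht] at hsqS
          obtain ⟨c, hc⟩ := hsqS
          have : (2 : ℤ) = 4 * (c - t ^ 2 - t) := by linear_combination hc
          omega
      · exact zsig_geom_sum_sq hr hr2 hb hsqS
  have htot : r - 1 ≤ n.totient := by
    rw [← Nat.totient_prime hr]
    exact Nat.le_of_dvd (Nat.totient_pos.mpr (by omega))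
      (Nat.totient_dvd_of_dvd (hq ▸ dvd_mul_right r q))
  rcases Nat.lt_or_ge a 3 with ha3 | ha3
  swap
  · have h1 : 2 ^ (r - 1) ≤ (a - 1) ^ n.totient :=
      le_trans (Nat.pow_le_pow_left (by omega : 2 ≤ a - 1) _)
        (Nat.pow_le_pow_right (by omega) htot)
    have h2 : r - 1 < 2 ^ (r - 1) := Nat.lt_two_pow_self
    have := hr.two_le
    omega
  obtain rfl : a = 2 := by omega
  have hr2 : r ≠ 2 := by
    intro h
    have h1 := hrN.trans hNdvd'
    rw [h] at h1
    have h2 : (2 : ℕ) ∣ 2 ^ n := dvd_pow_self 2 hn0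
    have h3 : 1 ≤ 2 ^ n := Nat.one_le_pow _ _ (by omega)
    omega
  have hr3 : 3 ≤ r := by have := hr.two_le; omega
  have hq1 : 1 < q := by
    by_contra h
    obtain rfl : q = 1 := by omega
    rw [pow_one, Nat.cast_ofNat] at hbq
    have h1 : ((1 : ℕ) : ZMod r) = 0 := by
      push_cast
      linear_combination hbq
    rw [ZMod.natCast_eq_zero_iff] at h1
    exact hr.ne_one (Nat.dvd_one.mp h1)
  have hgt := sub_one_pow_totient_lt_natAbs_cyclotomic_eval (q := 2 ^ r) hq1
    (Nat.one_lt_two_pow hr.ne_zero).ne'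
  have h2r : r < 2 ^ r := Nat.lt_two_pow_self
  have hφ : 1 ≤ q.totient := Nat.totient_pos.mpr (by omega)
  have hexp : ((cyclotomic q ℤ).eval ((2 ^ r : ℕ) : ℤ)) =
      (expand ℤ r (cyclotomic q ℤ)).eval ((2 : ℕ) : ℤ) := by
    rw [expand_eval]; push_cast; rfl
  by_cases hrq : r ∣ q
  · rw [hexp, cyclotomic_expand_eq_cyclotomic hr hrq, show q * r = n by rw [hq, mul_comm],
      ← hNdef, hNr] at hgt
    have : 2 ^ r - 1 ≤ (2 ^ r - 1) ^ q.totient := Nat.le_self_pow (by omega) _
    omega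
  · rw [hexp, cyclotomic_expand_eq_cyclotomic_mul hr hrq, show q * r = n by rw [hq, mul_comm],
      eval_mul, Int.natAbs_mul, ← hNdef, hNr] at hgt
    have hB : ((cyclotomic q ℤ).eval ((2 : ℕ) : ℤ)).natAbs ≤ 3 ^ q.totient := by
      rw [← @Nat.cast_le ℝ, Nat.cast_pow, Nat.cast_natAbs]
      refine le_trans (le_of_eq ?_)
        ((cyclotomic_eval_le_add_one_pow_totient (q := (2 : ℝ)) one_lt_two q).trans ?_)
      · have h := cyclotomic.eval_apply (((2 : ℕ) : ℤ)) q (algebraMap ℤ ℝ)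
        simp only [algebraMap_int_eq, Int.coe_castRingHom, Int.cast_natCast, Nat.cast_ofNat] at h
        have hnn : (0 : ℝ) ≤ (cyclotomic q ℝ).eval 2 := cyclotomic_nonneg q one_le_two
        push_cast at h ⊢
        rw [h] at hnn ⊢
        simp only [abs_of_nonneg hnn]
      · norm_num
    have h3 : (2 ^ r - 1) ^ q.totient < (3 * r) ^ q.totient := by
      calc (2 ^ r - 1) ^ q.totient < r * ((cyclotomic q ℤ).eval ((2 : ℕ) : ℤ)).natAbs := hgt
        _ ≤ r * 3 ^ q.totient := Nat.mul_le_mul_left r hB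
        _ ≤ r ^ q.totient * 3 ^ q.totient :=
            Nat.mul_le_mul_right _ (Nat.le_self_pow (by omega) _)
        _ = (3 * r) ^ q.totient := by rw [← mul_pow, mul_comm r 3]
    have h4 : 2 ^ r - 1 < 3 * r := lt_of_pow_lt_pow_left₀ _ (by omega) h3
    have hr5 : r < 5 := by
      by_contra h
      have := zsig_two_pow_gt (r := r) (by omega)
      omega
    obtain rfl | rfl : r = 3 ∨ r = 4 := by omega
    · -- `r = 3`, so the order of `2` is `2` and `n = 6`
      have hord := zsig_ord_two_mod_three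
      have h2q : 2 ∣ q := hord ▸ orderOf_dvd_of_pow_eq_one hbq
      -- every prime divisor of `q` equals `2` and `q` divides `r - 1`
      have hq2 : q ∣ 2 := by
        have hroot : (cyclotomic n (ZMod 3)).IsRoot ((2 : ℕ) : ZMod 3) := by
          have h := cyclotomic.eval_apply ((2 : ℕ) : ℤ) n (Int.castRingHom (ZMod 3))
          simp only [Int.coe_castRingHom, Int.cast_natCast] at h
          rw [IsRoot.def, h, ZMod.intCast_zmod_eq_zero_iff_dvd]
          exact Int.natCast_dvd.mpr hrN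
        haveI : NeZero (q : ZMod 3) := ⟨fun h => hrq ((ZMod.natCast_eq_zero_iff q 3).mp h)⟩
        rw [hq, show 3 * q = 3 ^ 1 * q by rw [pow_one],
          isRoot_cyclotomic_prime_pow_mul_iff_of_charP] at hroot
        rw [hroot.eq_orderOf, hord]
      have : q = 2 := le_antisymm (Nat.le_of_dvd (by norm_num) hq2) (by omega)
      exact h6 ⟨rfl, by omega⟩
    · norm_num at hr

end CfsgLib.Local
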