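import Mathlib
import Cfsg.Prelude.Def_Classical

/-!
# A subgroup of order 168 in `SU(3,3)`: tables over the field of nine elements
-/

set_option autoImplicit false
set_option maxRecDepth 20000

namespace CfsgLib.PSUThreeSeven

/-- A pair of residues modulo three standing for `x + y i`. -/
structure Nine where
  x : ZMod 3
  y : ZMod 3
deriving DecidableEq

instance : Add Nine := ⟨fun u v => ⟨u.x + v.x, u.y + v.y⟩⟩
instance : Mul Nine := ⟨fun u v => ⟨u.x * v.x - u.y * v.y, u.x * v.y + u.y * v.x⟩⟩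

/-- Nine entries. -/
structure Mat where
  a : Nine
  b : Nine
  c : Nine
  d : Nine
  e : Nine
  f : Nine
  g : Nine
  h : Nine
  i : Nine
deriving DecidableEq

/-- Product of two matrices. -/
def mm (A B : Mat) : Mat :=
  ⟨A.a * B.a + A.b * B.d + A.c * B.g, A.a * B.b + A.b * B.e + A.c * B.h, A.a * B.c + A.b * B.f + A.c * B.i,
   A.d * B.a + A.e * B.d + A.f * B.g, A.d * B.b + A.e * B.e + A.f * B.h, A.d * B.c + A.e * B.f + A.f * B.i,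
   A.g * B.a + A.h * B.d + A.i * B.g, A.g * B.b + A.h * B.e + A.i * B.h, A.g * B.c + A.h * B.f + A.i * B.i⟩

/-- The nine elements. -/
abbrev e00 : Nine := ⟨0, 0⟩
abbrev e01 : Nine := ⟨0, 1⟩
abbrev e02 : Nine := ⟨0, 2⟩
abbrev e10 : Nine := ⟨1, 0⟩
abbrev e11 : Nine := ⟨1, 1⟩
abbrev e12 : Nine := ⟨1, 2⟩
abbrev e20 : Nine := ⟨2, 0⟩
abbrev e21 : Nine := ⟨2, 1⟩
abbrev e22 : Nine := ⟨2, 2⟩

/-- The list of the 168 matrices. -/
def elts : List Mat := [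
  ⟨e10, e00, e00, e00, e10, e00, e00, e00, e10⟩,
  ⟨e00, e00, e01, e00, e20, e00, e02, e00, e00⟩,
  ⟨e00, e11, e11, e12, e20, e10, e21, e20, e10⟩,
  ⟨e22, e02, e01, e21, e10, e20, e00, e12, e12⟩,
  ⟨e12, e22, e00, e02, e10, e11, e02, e10, e22⟩,
  ⟨e00, e11, e22, e12, e20, e20, e12, e10, e10⟩,
  ⟨e10, e01, e12, e01, e20, e22, e22, e21, e00⟩,
  ⟨e11, e01, e01, e21, e10, e10, e00, e12, e21⟩,
  ⟨e10, e01, e12, e22, e21, e00, e02, e10, e11⟩,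
  ⟨e21, e22, e00, e01, e10, e11, e02, e20, e11⟩,
  ⟨e10, e01, e21, e11, e12, e00, e02, e10, e22⟩,
  ⟨e10, e02, e21, e02, e20, e22, e11, e21, e00⟩,
  ⟨e22, e02, e01, e00, e12, e12, e12, e20, e10⟩,
  ⟨e10, e01, e21, e02, e10, e22, e22, e21, e00⟩,
  ⟨e10, e21, e02, e22, e00, e12, e01, e11, e10⟩,
  ⟨e11, e02, e01, e00, e21, e21, e21, e20, e10⟩,
  ⟨e12, e22, e00, e01, e20, e11, e02, e10, e11⟩,
  ⟨e20, e21, e01, e11, e00, e21, e02, e11, e20⟩,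
  ⟨e11, e01, e01, e00, e12, e21, e12, e20, e20⟩,
  ⟨e11, e02, e01, e21, e20, e10, e00, e12, e12⟩,
  ⟨e20, e12, e01, e22, e00, e12, e02, e22, e20⟩,
  ⟨e10, e21, e01, e02, e22, e10, e11, e00, e12⟩,
  ⟨e11, e02, e02, e00, e21, e12, e12, e10, e10⟩,
  ⟨e00, e11, e11, e12, e10, e20, e12, e20, e10⟩,
  ⟨e10, e12, e02, e11, e00, e21, e01, e22, e10⟩,
  ⟨e21, e00, e11, e01, e11, e20, e02, e11, e10⟩,
  ⟨e10, e02, e21, e11, e21, e00, e01, e10, e11⟩,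
  ⟨e00, e00, e01, e02, e00, e00, e00, e10, e00⟩,
  ⟨e11, e02, e02, e12, e10, e10, e00, e12, e21⟩,
  ⟨e20, e12, e02, e02, e22, e10, e22, e00, e21⟩,
  ⟨e10, e12, e01, e02, e11, e10, e22, e00, e21⟩,
  ⟨e20, e01, e21, e22, e12, e00, e02, e20, e11⟩,
  ⟨e00, e01, e00, e01, e00, e00, e00, e00, e10⟩,
  ⟨e00, e11, e22, e21, e20, e20, e12, e20, e20⟩,
  ⟨e12, e00, e22, e01, e11, e20, e01, e22, e20⟩,
  ⟨e12, e00, e22, e01, e22, e20, e02, e22, e10⟩,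
  ⟨e20, e21, e01, e02, e11, e20, e22, e00, e12⟩,
  ⟨e10, e00, e00, e00, e00, e10, e00, e20, e00⟩,
  ⟨e20, e01, e21, e02, e20, e11, e11, e21, e00⟩,
  ⟨e00, e01, e00, e00, e00, e10, e02, e00, e00⟩,
  ⟨e20, e21, e02, e02, e11, e10, e11, e00, e12⟩,
  ⟨e12, e11, e00, e01, e10, e11, e01, e10, e22⟩,
  ⟨e20, e01, e21, e11, e21, e00, e01, e10, e22⟩,
  ⟨e12, e00, e11, e01, e22, e10, e01, e11, e10⟩,
  ⟨e00, e02, e00, e00, e00, e20, e02, e00, e00⟩,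
  ⟨e21, e22, e00, e01, e10, e22, e01, e10, e11⟩,
  ⟨e10, e00, e00, e00, e00, e20, e00, e10, e00⟩,
  ⟨e21, e00, e11, e01, e22, e20, e01, e11, e20⟩,
  ⟨e20, e01, e12, e02, e20, e22, e22, e12, e00⟩,
  ⟨e20, e01, e12, e22, e12, e00, e01, e10, e11⟩,
  ⟨e10, e12, e02, e01, e22, e10, e22, e00, e12⟩,
  ⟨e21, e00, e11, e02, e11, e10, e02, e22, e10⟩,
  ⟨e00, e11, e11, e21, e20, e10, e21, e10, e20⟩,
  ⟨e12, e00, e11, e01, e11, e10, e02, e11, e20⟩,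
  ⟨e00, e02, e00, e02, e00, e00, e00, e00, e10⟩,
  ⟨e10, e02, e12, e11, e21, e00, e02, e20, e11⟩,
  ⟨e00, e22, e11, e12, e20, e20, e21, e20, e20⟩,
  ⟨e11, e02, e02, e00, e12, e21, e21, e20, e20⟩,
  ⟨e12, e00, e11, e02, e11, e20, e02, e22, e20⟩,
  ⟨e10, e12, e01, e01, e22, e20, e11, e00, e12⟩,
  ⟨e22, e01, e02, e12, e10, e20, e00, e12, e12⟩,
  ⟨e10, e21, e02, e02, e22, e20, e22, e00, e12⟩,
  ⟨e00, e00, e01, e01, e00, e00, e00, e20, e00⟩,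
  ⟨e10, e02, e21, e22, e12, e00, e02, e20, e22⟩,
  ⟨e22, e02, e02, e21, e10, e10, e00, e21, e12⟩,
  ⟨e22, e02, e02, e00, e21, e12, e12, e20, e20⟩,
  ⟨e12, e00, e22, e02, e22, e10, e02, e11, e10⟩,
  ⟨e12, e22, e00, e02, e10, e22, e01, e20, e22⟩,
  ⟨e00, e11, e22, e12, e10, e10, e21, e10, e10⟩,
  ⟨e12, e00, e11, e02, e22, e20, e01, e22, e10⟩,
  ⟨e10, e12, e01, e11, e00, e12, e02, e11, e10⟩,
  ⟨e22, e01, e02, e00, e12, e12, e21, e20, e10⟩,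
  ⟨e22, e01, e01, e00, e12, e21, e12, e10, e10⟩,
  ⟨e21, e00, e22, e02, e11, e20, e01, e11, e10⟩,
  ⟨e20, e00, e00, e00, e10, e00, e00, e00, e20⟩,
  ⟨e00, e01, e00, e02, e00, e00, e00, e00, e20⟩,
  ⟨e10, e21, e01, e01, e11, e20, e22, e00, e21⟩,
  ⟨e20, e02, e12, e01, e20, e11, e22, e21, e00⟩,
  ⟨e22, e01, e01, e21, e20, e20, e00, e12, e21⟩,
  ⟨e20, e12, e01, e01, e11, e10, e22, e00, e12⟩,
  ⟨e10, e21, e01, e22, e00, e21, e02, e22, e10⟩,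
  ⟨e22, e02, e01, e00, e21, e21, e21, e10, e20⟩,
  ⟨e11, e01, e01, e00, e21, e12, e21, e10, e10⟩,
  ⟨e20, e21, e01, e01, e22, e10, e11, e00, e21⟩,
  ⟨e00, e00, e02, e00, e20, e00, e01, e00, e00⟩,
  ⟨e00, e00, e02, e01, e00, e00, e00, e10, e00⟩,
  ⟨e20, e01, e12, e01, e10, e11, e11, e21, e00⟩,
  ⟨e10, e01, e12, e02, e10, e11, e11, e12, e00⟩,
  ⟨e21, e22, e00, e02, e20, e11, e02, e20, e22⟩,
  ⟨e10, e12, e01, e22, e00, e21, e01, e22, e20⟩,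
  ⟨e20, e02, e12, e22, e21, e00, e02, e10, e22⟩,
  ⟨e21, e00, e22, e01, e22, e10, e02, e22, e20⟩,
  ⟨e00, e22, e22, e12, e20, e10, e12, e10, e20⟩,
  ⟨e00, e02, e00, e00, e00, e10, e01, e00, e00⟩,
  ⟨e11, e02, e01, e00, e12, e12, e12, e10, e20⟩,
  ⟨e21, e22, e00, e02, e20, e22, e01, e10, e22⟩,
  ⟨e21, e11, e00, e01, e20, e22, e02, e10, e22⟩,
  ⟨e10, e02, e12, e01, e10, e22, e11, e21, e00⟩,
  ⟨e20, e12, e02, e11, e00, e12, e02, e22, e10⟩,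
  ⟨e10, e01, e12, e11, e12, e00, e01, e20, e22⟩,
  ⟨e10, e12, e02, e02, e11, e20, e11, e00, e21⟩,
  ⟨e11, e01, e02, e21, e10, e20, e00, e21, e21⟩,
  ⟨e20, e00, e00, e00, e00, e20, e00, e20, e00⟩,
  ⟨e11, e01, e02, e00, e21, e21, e12, e20, e10⟩,
  ⟨e22, e02, e02, e12, e20, e20, e00, e12, e21⟩,
  ⟨e10, e12, e02, e22, e00, e12, e02, e11, e20⟩,
  ⟨e22, e02, e01, e12, e20, e10, e00, e21, e21⟩,
  ⟨e10, e01, e21, e22, e21, e00, e01, e20, e11⟩,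
  ⟨e10, e21, e02, e01, e11, e10, e11, e00, e21⟩,
  ⟨e10, e21, e01, e11, e00, e12, e01, e11, e20⟩,
  ⟨e20, e01, e21, e01, e10, e22, e22, e12, e00⟩,
  ⟨e21, e11, e00, e02, e10, e22, e02, e10, e11⟩,
  ⟨e20, e21, e02, e01, e22, e20, e22, e00, e21⟩,
  ⟨e21, e11, e00, e02, e10, e11, e01, e20, e11⟩,
  ⟨e22, e01, e02, e21, e20, e10, e00, e21, e21⟩,
  ⟨e00, e11, e22, e21, e10, e10, e21, e20, e20⟩,
  ⟨e10, e21, e02, e11, e00, e21, e02, e22, e20⟩,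
  ⟨e00, e22, e22, e21, e10, e20, e21, e20, e10⟩,
  ⟨e20, e02, e21, e11, e12, e00, e02, e10, e11⟩,
  ⟨e21, e00, e22, e02, e22, e20, e02, e11, e20⟩,
  ⟨e20, e21, e02, e22, e00, e21, e02, e11, e10⟩,
  ⟨e12, e11, e00, e02, e20, e11, e01, e10, e11⟩,
  ⟨e10, e01, e21, e01, e20, e11, e11, e12, e00⟩,
  ⟨e12, e00, e22, e02, e11, e10, e01, e11, e20⟩,
  ⟨e20, e02, e21, e01, e20, e22, e11, e12, e00⟩,
  ⟨e00, e22, e22, e12, e10, e20, e21, e10, e20⟩,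
  ⟨e00, e00, e02, e00, e10, e00, e02, e00, e00⟩,
  ⟨e20, e21, e01, e22, e00, e12, e01, e22, e10⟩,
  ⟨e11, e01, e01, e12, e20, e20, e00, e21, e12⟩,
  ⟨e20, e12, e01, e02, e22, e20, e11, e00, e21⟩,
  ⟨e11, e02, e02, e21, e20, e20, e00, e21, e12⟩,
  ⟨e00, e22, e22, e21, e20, e10, e12, e20, e10⟩,
  ⟨e20, e02, e21, e02, e10, e11, e22, e21, e00⟩,
  ⟨e20, e12, e02, e01, e11, e20, e11, e00, e12⟩,
  ⟨e10, e02, e12, e22, e12, e00, e01, e10, e22⟩,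
  ⟨e20, e02, e21, e22, e21, e00, e01, e20, e22⟩,
  ⟨e20, e02, e12, e02, e10, e22, e11, e12, e00⟩,
  ⟨e22, e01, e01, e12, e10, e10, e00, e21, e12⟩,
  ⟨e10, e00, e00, e00, e20, e00, e00, e00, e20⟩,
  ⟨e20, e12, e01, e11, e00, e21, e01, e11, e10⟩,
  ⟨e00, e22, e11, e21, e10, e10, e12, e10, e10⟩,
  ⟨e21, e00, e22, e01, e11, e10, e01, e22, e10⟩,
  ⟨e00, e22, e11, e12, e10, e10, e12, e20, e20⟩,
  ⟨e11, e02, e01, e12, e10, e20, e00, e21, e21⟩,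
  ⟨e12, e22, e00, e01, e20, e22, e01, e20, e11⟩,
  ⟨e21, e00, e11, e02, e22, e10, e01, e22, e20⟩,
  ⟨e20, e01, e12, e11, e21, e00, e02, e20, e22⟩,
  ⟨e20, e02, e12, e11, e12, e00, e01, e20, e11⟩,
  ⟨e21, e11, e00, e01, e20, e11, e01, e20, e22⟩,
  ⟨e00, e22, e11, e21, e20, e20, e21, e10, e10⟩,
  ⟨e20, e00, e00, e00, e20, e00, e00, e00, e10⟩,
  ⟨e11, e01, e02, e12, e20, e10, e00, e12, e12⟩,
  ⟨e10, e02, e21, e01, e10, e11, e22, e12, e00⟩,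
  ⟨e00, e00, e01, e00, e10, e00, e01, e00, e00⟩,
  ⟨e20, e12, e02, e22, e00, e21, e01, e11, e20⟩,
  ⟨e00, e01, e00, e00, e00, e20, e01, e00, e00⟩,
  ⟨e12, e11, e00, e02, e20, e22, e02, e20, e11⟩,
  ⟨e22, e01, e01, e00, e21, e12, e21, e20, e20⟩,
  ⟨e11, e01, e02, e00, e12, e12, e21, e10, e20⟩,
  ⟨e10, e02, e12, e02, e20, e11, e22, e12, e00⟩,
  ⟨e00, e11, e11, e21, e10, e20, e12, e10, e20⟩,
  ⟨e20, e21, e02, e11, e00, e12, e01, e22, e20⟩,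
  ⟨e20, e00, e00, e00, e00, e10, e00, e10, e00⟩,
  ⟨e22, e02, e02, e00, e12, e21, e21, e10, e10⟩,
  ⟨e22, e01, e02, e00, e21, e21, e12, e10, e20⟩,
  ⟨e12, e11, e00, e01, e10, e22, e02, e20, e22⟩,
  ⟨e00, e02, e00, e01, e00, e00, e00, e00, e20⟩,
  ⟨e00, e00, e02, e02, e00, e00, e00, e20, e00⟩]

/-- Table. -/
def timesA : List ℕ := [1, 0, 4, 6, 2, 9, 3, 11, 12, 5, 15, 7, 8, 19, 20, 10, 23, 24, 26, 13, 14, 30, 31, 16, 17, 35, 18, 37, 38, 40, 21, 22, 44, 45, 47, 25, 50, 27, 28, 54, 29, 56, 57, 58, 32, 33, 62, 34, 64, 65, 36, 66, 67, 69, 39, 72, 41, 42, 43, 76, 77, 79, 46, 82, 48, 49, 51, 52, 88, 53, 80, 90, 55, 91, 84, 93, 59, 60, 97, 61, 70, 99, 63, 100, 74, 102, 104, 106, 68, 109, 71, 73, 113, 75, 107, 115, 117, 78, 120, 81, 83, 124, 85, 118, 86, 127, 87, 94, 129, 89, 130, 131, 133, 92, 136, 95, 139, 96, 103, 141, 98, 142, 143, 145, 101, 148,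 150, 105, 152, 108, 110, 111, 151, 112, 157, 158, 114, 159, 153, 116, 156, 119, 121, 122, 160, 123, 163, 164, 125, 165, 126, 132, 128, 138, 161, 166, 140, 134, 135, 137, 144, 154, 167, 146, 147, 149, 155, 162]

/-- Table. -/
def timesB : List ℕ := [2, 3, 5, 7, 8, 0, 10, 1, 13, 14, 16, 17, 18, 4, 21, 22, 6, 25, 27, 28, 29, 9, 32, 33, 34, 11, 36, 12, 39, 41, 42, 43, 15, 46, 48, 49, 51, 52, 53, 19, 55, 20, 58, 59, 60, 61, 23, 63, 24, 50, 35, 26, 68, 70, 71, 73, 74, 75, 30, 31, 78, 80, 81, 83, 84, 85, 86, 87, 37, 89, 38, 72, 54, 40, 92, 94, 95, 96, 44, 98, 45, 82, 62, 47, 101, 103, 105, 107, 108, 110, 111, 112, 56, 114, 57, 116, 118, 119, 121, 122, 123, 64, 125, 65, 126, 66, 128, 67, 109, 88, 69, 132, 134, 135, 137, 138, 76, 140, 77, 120, 97, 79, 144, 146, 147, 149, 151, 145, 153, 154, 155, 142, 90, 156, 91, 136, 113, 93, 160, 133, 150, 161, 162,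 130, 99, 152, 100, 148, 124, 102, 117, 104, 127, 106, 165, 143, 139, 166, 163, 141, 115, 159, 131, 167, 157, 129, 164, 158]

/-- Table. -/
def parent : List (ℕ × ℕ) := [(0, 0), (0, 0), (0, 1), (1, 1), (2, 0), (2, 1), (3, 0), (3, 1), (4, 1), (5, 0), (6, 1), (7, 0), (8, 0), (8, 1), (9, 1), (10, 0), (10, 1), (11, 1), (12, 1), (13, 0), (14, 0), (14, 1), (15, 1), (16, 0), (17, 0), (17, 1), (18, 0), (18, 1), (19, 1), (20, 1), (21, 0), (22, 0), (22, 1), (23, 1), (24, 1), (25, 0), (26, 1), (27, 0), (28, 0), (28, 1), (29, 0), (29, 1), (30, 1), (31, 1), (32, 0), (33, 0), (33, 1), (34, 0), (34, 1), (35, 1), (36, 0), (36, 1), (37, 1), (38, 1), (39, 0), (40, 1), (41, 0), (42, 0), (42, 1), (43, 1), (44, 1), (45, 1), (46, 0), (47, 1), (48, 0), (49, 0), (51, 0), (52, 0), (52, 1), (53, 0), (53, 1), (54, 1), (55, 0), (55, 1), (56, 1), (57, 1), (59, 0), (60,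 0), (60, 1), (61, 0), (61, 1), (62, 1), (63, 0), (63, 1), (64, 1), (65, 1), (66, 1), (67, 1), (68, 0), (69, 1), (71, 0), (73, 0), (74, 1), (75, 0), (75, 1), (76, 1), (77, 1), (78, 0), (79, 1), (81, 0), (83, 0), (84, 1), (85, 0), (85, 1), (86, 0), (86, 1), (87, 0), (87, 1), (88, 1), (89, 0), (89, 1), (90, 1), (91, 1), (92, 0), (93, 1), (95, 0), (95, 1), (96, 0), (96, 1), (97, 1), (98, 0), (98, 1), (99, 1), (100, 1), (101, 0), (102, 1), (104, 1), (105, 0), (106, 1), (108, 0), (110, 0), (111, 0), (111, 1), (112, 0), (112, 1), (113, 1), (114, 0), (114, 1), (115, 1), (116, 0), (117, 1), (119, 0), (121, 0), (122, 0), (122, 1), (123, 0), (123, 1), (124, 1), (125, 0), (125, 1), (126, 0), (126, 1), (128, 0), (128, 1), (129, 1), (130, 1), (133, 1), (134, 0), (135, 0), (137, 0), (138, 1), (141, 1), (142, 1), (146, 0), (147, 0), (149, 0), (155, 0), (162,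 0)]

/-- Table. -/
def reduce : List (ℕ × ℕ × ℕ) := [(1, 0, 1), (1, 0, 1), (1, 0, 2), (1, 0, 3), (1, 1, 3), (1, 117, 2), (1, 1, 2), (3, 115, 3), (3, 77, 3), (3, 104, 3), (1, 109, 3), (1, 106, 2), (1, 120, 3), (1, 2, 1), (1, 5, 1), (3, 67, 3), (2, 114, 1), (2, 89, 1), (2, 63, 1), (2, 114, 1), (2, 89, 1), (1, 4, 3), (3, 109, 3), (1, 3, 1), (1, 7, 1), (3, 1, 3), (3, 120, 3), (1, 4, 2), (3, 4, 3), (1, 9, 2), (3, 0, 3), (2, 55, 1), (2, 36, 1), (2, 34, 1), (2, 18, 1), (1, 6, 3), (2, 55, 1), (2, 43, 1), (2, 29, 1), (1, 124, 2), (2, 22, 1), (1, 82, 3), (1, 79, 2), (1, 104, 3), (1, 6, 2), (3, 6, 3), (2, 43, 1), (1, 11, 2), (2, 29, 1), (2, 22, 1), (1, 115, 3), (3, 47, 3), (2, 25, 1), (2, 10, 1), (2, 36, 1), (3, 45, 3), (2, 34, 1), (2, 18, 1), (2, 63, 1), (1, 20, 3), (1, 57, 3), (1, 31, 3), (1, 113, 2), (1, 15, 3), (1, 72, 3), (1, 69, 2), (1, 24, 3),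 (1, 50, 3), (1, 8, 1), (1, 26, 3), (1, 13, 1), (1, 77, 3), (1, 12, 3), (3, 82, 3), (1, 14, 1), (1, 21, 1), (3, 40, 3), (2, 21, 1), (1, 91, 2), (2, 8, 1), (1, 114, 1), (1, 141, 2), (3, 38, 3), (1, 76, 2), (1, 89, 1), (1, 99, 2), (1, 44, 2), (1, 63, 1), (1, 100, 2), (1, 65, 2), (1, 129, 2), (1, 66, 2), (2, 25, 1), (1, 90, 2), (2, 10, 1), (1, 47, 2), (1, 26, 2), (1, 10, 1), (1, 54, 2), (1, 67, 3), (3, 72, 3), (3, 20, 3), (1, 25, 1), (3, 15, 3), (1, 40, 2), (1, 12, 2), (1, 31, 2), (3, 12, 3), (3, 57, 3), (1, 62, 2), (1, 19, 2), (3, 26, 3), (1, 20, 2), (3, 24, 3), (1, 30, 2), (1, 37, 2), (1, 158, 2), (1, 55, 1), (2, 8, 1), (1, 127, 2), (1, 57, 2), (2, 7, 1), (1, 104, 2), (2, 2, 1), (2, 21, 1), (1, 131, 2), (2, 14, 1), (1, 157, 2), (2, 13, 1), (1, 133, 2), (2, 5, 1), (1, 115, 2), (1, 93, 2), (2, 3, 1), (1, 38, 3), (1, 88, 2), (1, 130, 2), (1, 40,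 3), (1, 43, 1), (1, 15, 2), (1, 22, 1), (3, 50, 3), (1, 23, 2), (3, 31, 3), (2, 5, 1), (1, 24, 2), (1, 45, 2), (2, 3, 1), (1, 35, 2), (1, 56, 2), (1, 36, 1), (2, 7, 1), (1, 18, 1), (2, 14, 1), (2, 0, 1), (1, 67, 2), (2, 13, 1), (1, 38, 2), (2, 2, 1), (1, 64, 2), (1, 102, 2), (2, 0, 1), (1, 34, 1), (1, 45, 3), (1, 97, 2), (1, 47, 3), (1, 29, 1), (1, 77, 2)]

/-- The element with a given index. -/
def elt (i : ℕ) : Mat := elts.getD i ⟨e10, e00, e00, e00, e10, e00, e00, e00, e10⟩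

theorem elts_length : elts.length = 168 := rfl

theorem elts_nodup : elts.Nodup := by decide +kernel

theorem closed : ∀ i < 168, timesA.getD i 0 < 168 ∧ timesB.getD i 0 < 168 ∧
    mm (elt i) (elt 1) = elt (timesA.getD i 0) ∧ mm (elt i) (elt 2) = elt (timesB.getD i 0) := by
  decide +kernel

theorem reached : ∀ i < 168, i = 0 ∨ ((parent.getD i (0, 0)).1 < i ∧
    elt i = mm (elt (parent.getD i (0, 0)).1) (elt ((parent.getD i (0, 0)).2 + 1)) ∧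
    (parent.getD i (0, 0)).2 ≤ 1) := by
  decide +kernel

/-- A power with exponent one, two or three. -/
def pw (A : Mat) : ℕ → Mat
  | 1 => A
  | 2 => mm A A
  | _ => mm (mm A A) A

theorem reduced : ∀ i < 168, i = 0 ∨ ((reduce.getD i (0, 0, 0)).1 ∈ [1, 2, 3] ∧
    (reduce.getD i (0, 0, 0)).2.1 < 168 ∧ (reduce.getD i (0, 0, 0)).2.2 ∈ [1, 2, 3] ∧
    mm (pw (elt i) (reduce.getD i (0, 0, 0)).1) (elt (reduce.getD i (0, 0, 0)).2.1) =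
      mm (elt (reduce.getD i (0, 0, 0)).2.1) (elt (reduce.getD i (0, 0, 0)).2.2)) := by
  decide +kernel

theorem word_1_1 : mm (elt 13) (elt 13) = elt 0 ∧ mm (elt 114) (elt 95) = elt 0 ∧
    elt 1 = mm (mm (mm (elt 13) (elt 1)) (elt 13)) (mm (mm (elt 114) (elt 1)) (elt 95)) := by
  decide +kernel

theorem word_1_2 : mm (elt 55) (elt 59) = elt 0 ∧ mm (elt 22) (elt 43) = elt 0 ∧
    elt 2 = mm (mm (mm (elt 55) (elt 1)) (elt 59)) (mm (mm (elt 22) (elt 1)) (elt 43)) := by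
  decide +kernel

theorem word_2_1 : mm (elt 44) (elt 62) = elt 0 ∧ mm (elt 30) (elt 10) = elt 0 ∧
    elt 1 = mm (mm (mm (elt 44) (elt 2)) (elt 62)) (mm (mm (elt 30) (elt 2)) (elt 10)) := by
  decide +kernel

theorem word_2_2 : mm (elt 117) (elt 117) = elt 0 ∧ mm (elt 117) (elt 117) = elt 0 ∧
    elt 2 = mm (mm (mm (elt 117) (elt 2)) (elt 117)) (mm (mm (elt 117) (elt 2)) (elt 117)) := by
  decide +kernel

theorem word_3_1 : mm (elt 109) (elt 105) = elt 0 ∧ mm (elt 4) (elt 7) = elt 0 ∧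
    elt 1 = mm (mm (mm (elt 109) (elt 3)) (elt 105)) (mm (mm (elt 4) (elt 3)) (elt 7)) := by
  decide +kernel

theorem word_3_2 : mm (elt 31) (elt 36) = elt 0 ∧ mm (elt 50) (elt 26) = elt 0 ∧
    elt 2 = mm (mm (mm (elt 31) (elt 3)) (elt 36)) (mm (mm (elt 50) (elt 3)) (elt 26)) := by
  decide +kernel

end CfsgLib.PSUThreeSeven
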