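import Mathlib

namespace Cfsg.Agent.PermDerangement

open MulAction

variable {G Ω : Type*} [Group G] [MulAction G Ω]

/-- The subgroup generated by the fixed-point-free elements. -/
abbrev derSub (G Ω : Type*) [Group G] [MulAction G Ω] : Subgroup G :=
  Subgroup.closure {g : G | ∀ ω : Ω, g • ω ≠ ω}

instance derSub_normal : (derSub G Ω).Normal := by
  refine ⟨fun n hn g => ?_⟩
  have hle : derSub G Ω ≤ (derSub G Ω).comap (MulAut.conj g).toMonoidHom := by
    rw [Subgroup.closure_le]
    intro d hd
    refine Subgroup.subset_closure fun ω h => hd (g⁻¹ • ω) ?_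
    change (g * d * g⁻¹) • ω = ω at h
    rw [mul_smul, mul_smul] at h
    rwa [← eq_inv_smul_iff] at h
  exact hle hn

theorem exists_fixed {g : G} (hg : g ∉ derSub G Ω) : ∃ ω : Ω, g • ω = ω := by
  by_contra h
  push Not at h
  exact hg (Subgroup.subset_closure h)

/-- Counting fixed points in the generated subgroup. -/
theorem der_transitive [Finite G] [Finite Ω] [IsPretransitive G Ω] [Nonempty Ω] :
    IsPretransitive (derSub G Ω) Ω := by
  classical
  haveI : Fintype G := Fintype.ofFinite G
  haveI : Fintype Ω := Fintype.ofFinite Ω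
  haveI : Fintype (orbitRel.Quotient G Ω) := Fintype.ofFinite _
  haveI : Fintype (orbitRel.Quotient (derSub G Ω) Ω) := Fintype.ofFinite _
  rw [pretransitive_iff_subsingleton_quotient, ← Fintype.card_le_one_iff_subsingleton]
  have hG := sum_card_fixedBy_eq_card_orbits_mul_card_group G Ω
  have hD := sum_card_fixedBy_eq_card_orbits_mul_card_group (derSub G Ω) Ω
  have h1 : Fintype.card (orbitRel.Quotient G Ω) = 1 := by
    haveI : Subsingleton (orbitRel.Quotient G Ω) :=
      (pretransitive_iff_subsingleton_quotient G Ω).mp ‹_›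
    haveI : Nonempty (orbitRel.Quotient G Ω) := ⟨Quotient.mk'' (Classical.arbitrary Ω)⟩
    exact Fintype.card_eq_one_iff_nonempty_unique.2 ⟨uniqueOfSubsingleton (Classical.arbitrary _)⟩
  rw [h1, one_mul] at hG
  by_contra hr
  push Not at hr
  rw [← Finset.sum_filter_add_sum_filter_not Finset.univ (fun g => g ∈ derSub G Ω)] at hG
  have hin : ∑ g ∈ Finset.univ.filter (fun g => g ∈ derSub G Ω), Fintype.card (fixedBy Ω g) =
      ∑ g : derSub G Ω, Fintype.card (fixedBy Ω g) := by
    exact (Finset.sum_subtype _ (fun x => by simp) _).trans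
      (Finset.sum_congr rfl fun g _ => Fintype.card_congr (Equiv.refl _))
  have hout : (Finset.univ.filter (fun g : G => g ∉ derSub G Ω)).card ≤
      ∑ g ∈ Finset.univ.filter (fun g => g ∉ derSub G Ω), Fintype.card (fixedBy Ω g) := by
    rw [Finset.card_eq_sum_ones]
    refine Finset.sum_le_sum fun g hg => ?_
    obtain ⟨ω, hω⟩ := exists_fixed (Finset.mem_filter.1 hg).2
    exact Fintype.card_pos_iff.2 ⟨⟨ω, hω⟩⟩
  rw [hin, hD] at hG
  have hcard : (Finset.univ.filter (fun g : G => g ∈ derSub G Ω)).card = Fintype.card (derSub G Ω) :=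
    (Fintype.card_subtype _).symm
  have hsum := Finset.card_filter_add_card_filter_not (s := (Finset.univ : Finset G))
    (fun g => g ∈ derSub G Ω)
  rw [hcard, Finset.card_univ] at hsum
  have hpos : 0 < Fintype.card (derSub G Ω) := Fintype.card_pos
  have : 2 * Fintype.card (derSub G Ω) ≤
      Fintype.card (orbitRel.Quotient (derSub G Ω) Ω) * Fintype.card (derSub G Ω) :=
    Nat.mul_le_mul_right _ hr
  simp only [orbitRel.Quotient, ← Nat.card_eq_fintype_card] at this hG hsum hpos hout
  omega

/-- Outside the generated subgroup, fixed points are unique. -/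
theorem fixed_unique [Finite G] [Finite Ω] [IsPretransitive G Ω] {g : G} (hg : g ∉ derSub G Ω)
    {a b : Ω} (ha : g • a = a) (hb : g • b = b) : a = b := by
  classical
  haveI : Nonempty Ω := ⟨a⟩
  haveI := der_transitive (G := G) (Ω := Ω)
  haveI : Fintype G := Fintype.ofFinite G
  haveI : Fintype Ω := Fintype.ofFinite Ω
  set D := derSub G Ω
  by_contra hab
  -- double count pairs in the coset
  let A : Ω → Finset ↥D := fun ω => Finset.univ.filter fun d => (g * (d : G)) • ω = ω
  let B : ↥D → Finset Ω := fun d => Finset.univ.filter fun ω => (g * (d : G)) • ω = ω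
  have hswap : ∑ ω, (A ω).card = ∑ d, (B d).card := by
    simp only [A, B, Finset.card_filter]
    exact Finset.sum_comm
  have hA : ∀ ω, (A ω).card * Fintype.card Ω = Fintype.card ↥D := by
    intro ω
    obtain ⟨d₀, hd₀⟩ := exists_smul_eq ↥D ω (g⁻¹ • ω)
    have e : (A ω).card = Fintype.card (stabilizer ↥D ω) := by
      rw [Fintype.card_subtype (fun d => d ∈ stabilizer ↥D ω)]
      refine (Finset.card_bij (fun d _ => d₀ * d) ?_ ?_ ?_).symm
      · intro d hd
        simp only [A, Finset.mem_filter, Finset.mem_univ, true_and] at hd ⊢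
        rw [mem_stabilizer_iff] at hd
        change (g * ((d₀ : G) * (d : G))) • ω = ω
        rw [mul_smul, mul_smul]
        change g • (d₀ • (d • ω)) = ω
        rw [hd, hd₀, smul_inv_smul]
      · intro _ _ _ _ h
        exact mul_left_cancel h
      · intro d hd
        simp only [A, Finset.mem_filter, Finset.mem_univ, true_and] at hd
        refine ⟨d₀⁻¹ * d, ?_, by group⟩
        simp only [Finset.mem_filter, Finset.mem_univ, true_and, mem_stabilizer_iff]
        rw [mul_smul, inv_smul_eq_iff, hd₀, eq_inv_smul_iff]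
        rw [mul_smul] at hd
        exact hd
    rw [e, mul_comm, ← card_orbit_mul_card_stabilizer_eq_card_group ↥D ω]
    congr 1
    rw [← Nat.card_eq_fintype_card, ← Nat.card_eq_fintype_card, orbit_eq_univ, Nat.card_univ]
  have hB : ∀ d, 1 ≤ (B d).card := by
    intro d
    obtain ⟨ω, hω⟩ := exists_fixed (Ω := Ω) (g := g * (d : G)) fun h => hg (by
      simpa using D.mul_mem h (D.inv_mem d.2))
    exact Finset.card_pos.2 ⟨ω, by simp [B, hω]⟩
  have htot : (∑ ω, (A ω).card) * Fintype.card Ω = Fintype.card Ω * Fintype.card ↥D := by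
    rw [Finset.sum_mul, Finset.sum_congr rfl (fun ω _ => hA ω), Finset.sum_const, Finset.card_univ,
      smul_eq_mul]
  have hlt : ∑ _d : ↥D, 1 < ∑ d, (B d).card := by
    refine Finset.sum_lt_sum (fun d _ => hB d) ⟨1, Finset.mem_univ _, ?_⟩
    refine lt_of_lt_of_le (b := ({a, b} : Finset Ω).card) (by simp [hab]) (Finset.card_le_card ?_)
    intro x hx
    simp only [Finset.mem_insert, Finset.mem_singleton] at hx
    rcases hx with rfl | rfl <;> simp [B, ha, hb]
  rw [← hswap, Finset.sum_const, Finset.card_univ, smul_eq_mul, mul_one] at hlt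
  have hpos : 0 < Fintype.card Ω := Fintype.card_pos
  have := Nat.mul_lt_mul_of_pos_right hlt hpos
  rw [htot, mul_comm] at this
  omega

/-- Elements of a point stabilizer fixing another point lie in the subgroup. -/
theorem mem_of_fix_two [Finite G] [Finite Ω] [IsPretransitive G Ω] {g : G} {a b : Ω}
    (hab : a ≠ b) (ha : g • a = a) (hb : g • b = b) : g ∈ derSub G Ω := by
  by_contra hg
  exact hab (fixed_unique hg ha hb)

theorem index_eq [Finite G] [Finite Ω] [IsPretransitive G Ω] (a : Ω) :
    (derSub G Ω).index = (derSub G Ω).relIndex (stabilizer G a) := by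
  haveI : Nonempty Ω := ⟨a⟩
  haveI := der_transitive (G := G) (Ω := Ω)
  have htop : derSub G Ω ⊔ stabilizer G a = ⊤ := by
    refine eq_top_iff.2 fun g _ => ?_
    obtain ⟨d, hd⟩ := exists_smul_eq ↥(derSub G Ω) a (g • a)
    have h1 : (d : G)⁻¹ * g ∈ stabilizer G a := by
      rw [mem_stabilizer_iff, mul_smul, inv_smul_eq_iff]
      exact hd.symm
    simpa using Subgroup.mul_mem _ (Subgroup.mem_sup_left (T := stabilizer G a) d.2)
      (Subgroup.mem_sup_right h1)
  rw [← Subgroup.relIndex_sup_right (stabilizer G a) (derSub G Ω), sup_comm, htop,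
    Subgroup.relIndex_top_right]

theorem relIndex_dvd_orbit [Finite G] [Finite Ω] [IsPretransitive G Ω] {a x : Ω} (hx : x ≠ a) :
    (derSub G Ω).relIndex (stabilizer G a) ∣ Nat.card (orbit (stabilizer G a) x) := by
  rw [← Nat.card_congr (orbitEquivQuotientStabilizer (stabilizer G a) x).symm,
    ← Subgroup.index_eq_card]
  refine Subgroup.index_dvd_of_le fun g hg => ?_
  rw [Subgroup.mem_subgroupOf]
  exact mem_of_fix_two hx.symm g.2 hg

theorem index_dvd [Finite G] [Finite Ω] [IsPretransitive G Ω] [Nonempty Ω] :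
    (derSub G Ω).index ∣ Nat.card Ω - 1 := by
  classical
  obtain ⟨a⟩ := ‹Nonempty Ω›
  rw [index_eq a]
  haveI : Fintype Ω := Fintype.ofFinite Ω
  set H := stabilizer G a
  have hsum : Nat.card Ω - 1 = ((Finset.univ : Finset Ω).erase a).card := by
    rw [Finset.card_erase_of_mem (Finset.mem_univ a), Finset.card_univ, Nat.card_eq_fintype_card]
  rw [hsum, Finset.card_eq_sum_card_image (fun x => (Quotient.mk'' x : orbitRel.Quotient H Ω))]
  refine Finset.dvd_sum fun o ho => ?_
  obtain ⟨x, hx, rfl⟩ := Finset.mem_image.1 ho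
  have hxa : x ≠ a := (Finset.mem_erase.1 hx).1
  have e : ((Finset.univ.erase a).filter fun y =>
      (Quotient.mk'' y : orbitRel.Quotient H Ω) = Quotient.mk'' x).card = Nat.card (orbit H x) := by
    rw [← Nat.card_eq_finsetCard]
    refine Nat.card_congr (Equiv.subtypeEquivRight fun y => ?_)
    simp only [Finset.mem_filter, Finset.mem_erase, Finset.mem_univ, and_true, Quotient.eq'',
      orbitRel_apply]
    refine ⟨fun h => h.2, fun h => ⟨?_, h⟩⟩
    rintro rfl
    obtain ⟨k, hk⟩ := h
    have hk' : (k : G) • x = y := hk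
    exact hxa (MulAction.injective (k : G) (hk'.trans k.2.symm))
  rw [e]
  exact relIndex_dvd_orbit hxa

theorem isPrimePow_of_index [Finite G] [Finite Ω] [IsPretransitive G Ω] [FaithfulSMul G Ω]
    (hn : 2 ≤ Nat.card Ω) (h : (derSub G Ω).index = Nat.card Ω - 1) : IsPrimePow (Nat.card Ω) := by
  classical
  haveI : Nonempty Ω := (Nat.card_pos_iff.1 (by omega)).1
  obtain ⟨a⟩ := ‹Nonempty Ω›
  haveI := der_transitive (G := G) (Ω := Ω)
  haveI : Fintype Ω := Fintype.ofFinite Ω
  rw [index_eq a] at h
  set H := stabilizer G a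
  -- a single orbit away from the point
  have horb : ∀ x, x ≠ a → ∀ y, y ≠ a → y ∈ orbit H x := by
    intro x hx y hy
    have hsub : orbit H x ⊆ {a}ᶜ := by
      rintro z ⟨k, rfl⟩ hz
      exact hx (MulAction.injective (k : G) ((show (k : G) • x = a from hz).trans k.2.symm))
    have hc : ({a}ᶜ : Set Ω).ncard = Nat.card Ω - 1 := by
      rw [Set.ncard_compl, Set.ncard_singleton]
    haveI : Nonempty (orbit H x) := ⟨⟨x, mem_orbit_self x⟩⟩
    have hpos : 0 < Nat.card (orbit H x) := Nat.card_pos
    have hle : Nat.card Ω - 1 ≤ Nat.card (orbit H x) := by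
      rw [← h]; exact Nat.le_of_dvd hpos (relIndex_dvd_orbit hx)
    have heq : orbit H x = {a}ᶜ := Set.eq_of_subset_of_ncard_le hsub (by
      rw [hc, ← Nat.card_coe_set_eq (s := orbit H x)]; exact hle)
    rw [heq]
    exact hy
  -- the point stabilizer in the subgroup is trivial
  have hreg : ∀ d ∈ derSub G Ω, d • a = a → d = 1 := by
    intro d hd hda
    refine FaithfulSMul.eq_of_smul_eq_smul fun x : Ω => ?_
    rw [one_smul]
    rcases eq_or_ne x a with rfl | hx
    · exact hda
    have hidx : ((derSub G Ω).subgroupOf H).index = (stabilizer H x).index := by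
      rw [show ((derSub G Ω).subgroupOf H).index = Nat.card Ω - 1 from h, index_stabilizer]
      have heq : orbit H x = {a}ᶜ := by
        ext y
        refine ⟨?_, fun hy => horb x hx y hy⟩
        rintro ⟨k, rfl⟩ hy
        exact hx (MulAction.injective (k : G) ((show (k : G) • x = a from hy).trans k.2.symm))
      rw [heq, Set.ncard_compl, Set.ncard_singleton]
    have hle : stabilizer H x ≤ (derSub G Ω).subgroupOf H := fun g hg =>
      Subgroup.mem_subgroupOf.2 (mem_of_fix_two hx.symm g.2 hg)
    have heq : stabilizer H x = (derSub G Ω).subgroupOf H := by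
      refine Subgroup.eq_of_le_of_card_ge hle ?_
      have h1 := (stabilizer H x).card_mul_index
      have h2 := ((derSub G Ω).subgroupOf H).card_mul_index
      rw [hidx] at h2
      have hpos : 0 < (stabilizer H x).index := Nat.pos_of_ne_zero Subgroup.index_ne_zero_of_finite
      exact le_of_eq (Nat.eq_of_mul_eq_mul_right hpos (h2.trans h1.symm))
    have hm : (⟨d, hda⟩ : H) ∈ stabilizer H x := by
      rw [heq]; exact Subgroup.mem_subgroupOf.2 hd
    exact hm
  have hcard : Nat.card (derSub G Ω) = Nat.card Ω := by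
    refine Nat.card_congr (Equiv.ofBijective (fun d : derSub G Ω => (d : G) • a) ⟨?_, ?_⟩)
    · intro d e hde
      have := hreg ((e : G)⁻¹ * d) (mul_mem (inv_mem e.2) d.2) (by
        rw [mul_smul]; exact inv_smul_eq_iff.2 hde)
      exact Subtype.ext (inv_mul_eq_one.1 this).symm
    · intro x
      exact exists_smul_eq ↥(derSub G Ω) a x
  -- all nonidentity elements share an order
  have hord : ∀ d ∈ derSub G Ω, d ≠ 1 → ∀ e ∈ derSub G Ω, e ≠ 1 → orderOf d = orderOf e := by
    intro d hd hd1 e he he1
    have hda : d • a ≠ a := fun h => hd1 (hreg d hd h)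
    have hea : e • a ≠ a := fun h => he1 (hreg e he h)
    obtain ⟨k, hk⟩ := horb _ hda _ hea
    have hk' : (k : G) • d • a = e • a := hk
    have hmem : (k : G) * d * (k : G)⁻¹ ∈ derSub G Ω := derSub_normal.conj_mem d hd k
    have hee : e⁻¹ * ((k : G) * d * (k : G)⁻¹) = 1 := hreg _ (mul_mem (inv_mem he) hmem) (by
      rw [mul_smul, mul_smul, mul_smul, inv_smul_eq_iff.2 k.2.symm, hk', inv_smul_smul])
    rw [inv_mul_eq_one] at hee
    rw [hee]
    exact (MulEquiv.orderOf_eq (MulAut.conj (k : G)) d).symm
  obtain ⟨p, hp, hpd⟩ := Nat.exists_prime_and_dvd (n := Nat.card Ω) (by omega)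
  haveI := Fact.mk hp
  obtain ⟨d, hd⟩ := exists_prime_orderOf_dvd_card' (G := derSub G Ω) p (hcard ▸ hpd)
  have hP : IsPGroup p (derSub G Ω) := by
    intro e
    refine ⟨1, ?_⟩
    rw [pow_one]
    rcases eq_or_ne (e : G) 1 with he | he
    · exact Subtype.ext (by simp [he])
    · have h1 : (d : G) ≠ 1 := fun h => by
        rw [show d = 1 from Subtype.ext h, orderOf_one] at hd
        exact hp.ne_one hd.symm
      have h2 := hord _ d.2 h1 _ e.2 he
      rw [Subgroup.orderOf_coe, Subgroup.orderOf_coe, hd] at h2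
      rw [h2]
      exact pow_orderOf_eq_one e
  obtain ⟨j, hj⟩ := IsPGroup.iff_card.1 hP
  rw [hcard] at hj
  rw [hj]
  refine hp.isPrimePow.pow ?_
  rintro rfl
  rw [pow_zero] at hj
  omega

theorem card_transporter [Finite G] [Finite Ω] [IsPretransitive G Ω] (x y : Ω) :
    Nat.card {d : derSub G Ω // (d : G) • x = y} * Nat.card Ω = Nat.card (derSub G Ω) := by
  haveI : Nonempty Ω := ⟨x⟩
  haveI := der_transitive (G := G) (Ω := Ω)
  obtain ⟨d₀, hd₀⟩ := exists_smul_eq ↥(derSub G Ω) x y
  have e : Nat.card {d : derSub G Ω // (d : G) • x = y} = Nat.card (stabilizer ↥(derSub G Ω) x) := by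
    refine Nat.card_congr ((Equiv.mulLeft d₀⁻¹).subtypeEquiv fun d => ?_)
    rw [Equiv.coe_mulLeft, mem_stabilizer_iff, mul_smul, inv_smul_eq_iff, hd₀]
    exact Iff.rfl
  rw [e, ← (stabilizer ↥(derSub G Ω) x).card_mul_index, index_stabilizer_of_transitive]

/-- Divisibility for an invariant finite set all of whose stabilizers are small. -/
theorem index_dvd_card {H X : Type*} [Group H] [Finite H] [MulAction H X] [DecidableEq X]
    (K : Subgroup H) (s : Finset X) (hs : ∀ h : H, ∀ x ∈ s, h • x ∈ s)
    (hK : ∀ x ∈ s, stabilizer H x ≤ K) : K.index ∣ s.card := by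
  classical
  rw [Finset.card_eq_sum_card_image (fun x => (Quotient.mk'' x : orbitRel.Quotient H X))]
  refine Finset.dvd_sum fun o ho => ?_
  obtain ⟨x, hx, rfl⟩ := Finset.mem_image.1 ho
  have e : (s.filter fun y => (Quotient.mk'' y : orbitRel.Quotient H X) = Quotient.mk'' x).card =
      Nat.card (orbit H x) := by
    rw [← Nat.card_eq_finsetCard]
    refine Nat.card_congr (Equiv.subtypeEquivRight fun y => ?_)
    simp only [Finset.mem_filter, Quotient.eq'', orbitRel_apply]
    refine ⟨fun h => h.2, fun h => ⟨?_, h⟩⟩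
    obtain ⟨k, rfl⟩ := h
    exact hs k x hx
  rw [e, ← Nat.card_congr (orbitEquivQuotientStabilizer H x).symm, ← Subgroup.index_eq_card]
  exact Subgroup.index_dvd_of_le (hK x hx)

open scoped Pointwise in
theorem index_sq_le [Finite G] [Finite Ω] [IsPretransitive G Ω] [Nonempty Ω]
    (himp : ¬ IsPreprimitive G Ω) :
    ((derSub G Ω).index + 1) ^ 2 ≤ Nat.card Ω := by
  classical
  obtain ⟨a⟩ := ‹Nonempty Ω›
  haveI : Fintype Ω := Fintype.ofFinite Ω
  obtain ⟨B, hB, haB, hne⟩ : ∃ B : Set Ω, IsBlock G B ∧ a ∈ B ∧ ¬ IsTrivialBlock B := by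
    by_contra h
    push Not at h
    exact himp (IsPreprimitive.of_isTrivialBlock_base a fun ha hB => h _ hB ha)
  have hBs : ¬ B.Subsingleton := fun h => hne (Or.inl h)
  have hBu : B ≠ Set.univ := fun h => hne (Or.inr h)
  set H := stabilizer G a
  have hHB : ∀ h : H, (h : G) • B = B := by
    intro h
    rcases isBlock_iff_smul_eq_smul_or_disjoint.1 hB (h : G) 1 with e | e
    · rwa [one_smul] at e
    · exfalso
      rw [one_smul] at e
      exact Set.disjoint_left.1 e ⟨a, haB, h.2⟩ haB
  rw [index_eq a]
  -- the block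
  have h1 : ((derSub G Ω).subgroupOf H).index ∣ (B.toFinset.erase a).card := by
    refine index_dvd_card _ _ ?_ ?_
    · intro h x hx
      simp only [Finset.mem_erase, Set.mem_toFinset] at hx ⊢
      refine ⟨fun e => hx.1 (MulAction.injective (h : G) (e.trans h.2.symm)), ?_⟩
      have : (h : G) • x ∈ (h : G) • B := Set.smul_mem_smul_set hx.2
      rwa [hHB] at this
    · intro x hx k hk
      exact Subgroup.mem_subgroupOf.2
        (mem_of_fix_two (Finset.mem_erase.1 hx).1.symm k.2 hk)
  -- the other translates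
  let blocks : Finset (Set Ω) := (Set.range fun g : G => g • B).toFinset.erase B
  have h2 : ((derSub G Ω).subgroupOf H).index ∣ blocks.card := by
    refine index_dvd_card _ _ ?_ ?_
    · intro h C hC
      simp only [blocks, Finset.mem_erase, Set.mem_toFinset, Set.mem_range] at hC ⊢
      obtain ⟨hC1, g, rfl⟩ := hC
      refine ⟨fun e => hC1 ?_, (h : G) * g, mul_smul _ _ _⟩
      exact MulAction.injective (h : G) (e.trans (hHB h).symm)
    · intro C hC k hk
      rw [Subgroup.mem_subgroupOf]
      simp only [blocks, Finset.mem_erase, Set.mem_toFinset, Set.mem_range] at hC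
      obtain ⟨hC1, g, rfl⟩ := hC
      by_contra hkD
      have hkC : (k : G) • g • B = g • B := hk
      haveI : Nonempty Ω := ⟨a⟩
      haveI : Fintype (derSub G Ω) := Fintype.ofFinite _
      -- a point of the translate fixed as well
      obtain ⟨x₀, hx₀⟩ : (g • B).Nonempty := ⟨g • a, Set.smul_mem_smul_set haB⟩
      let S : Finset (derSub G Ω) := Finset.univ.filter fun d => (d : G) • x₀ ∈ g • B
      let A : Ω → Finset (derSub G Ω) := fun x => Finset.univ.filter fun d => (k : G) • (d : G) • x = x
      have hAcard : ∀ x, (A x).card * Nat.card Ω = Nat.card (derSub G Ω) := by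
        intro x
        rw [← card_transporter x ((k : G)⁻¹ • x), Nat.card_eq_fintype_card
          (α := {d : derSub G Ω // (d : G) • x = (k : G)⁻¹ • x}), Fintype.card_subtype]
        simp only [A, eq_inv_smul_iff]
      have hScard : S.card * Nat.card Ω = (g • B).toFinset.card * Nat.card (derSub G Ω) := by
        have hfib := Finset.card_eq_sum_card_fiberwise (s := S) (t := (g • B).toFinset)
          (f := fun d : derSub G Ω => (d : G) • x₀) (by intro d hd; simpa [S] using hd)
        rw [hfib, Finset.sum_mul, Finset.sum_congr rfl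
          (g := fun _ => Nat.card (derSub G Ω)), Finset.sum_const, smul_eq_mul]
        intro y hy
        rw [← card_transporter x₀ y, Nat.card_eq_fintype_card
          (α := {d : derSub G Ω // (d : G) • x₀ = y}), Fintype.card_subtype]
        congr 2
        ext d
        simp only [S, Finset.mem_filter, Finset.mem_univ, true_and]
        exact ⟨fun h => h.2, fun h => ⟨h ▸ Set.mem_toFinset.1 hy, h⟩⟩
      have hsub : ∀ x ∈ (g • B).toFinset, A x ⊆ S := by
        intro x hx d hdA
        simp only [A, S, Finset.mem_filter, Finset.mem_univ, true_and] at hdA ⊢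
        rw [Set.mem_toFinset] at hx
        have hdx : (d : G) • x ∈ g • B := by
          rw [← hkC, ← hdA] at hx
          exact Set.smul_mem_smul_set_iff.1 hx
        rcases isBlock_iff_smul_eq_smul_or_disjoint.1 hB ((d : G) * g) g with e | e
        · rw [mul_smul] at e
          rw [← e]
          exact Set.smul_mem_smul_set hx₀
        · exfalso
          rw [mul_smul] at e
          exact Set.disjoint_left.1 e (Set.smul_mem_smul_set hx) hdx
      have hdisj : ∀ x ∈ (g • B).toFinset, ∀ y ∈ (g • B).toFinset, x ≠ y → Disjoint (A x) (A y) := by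
        intro x _ y _ hxy
        rw [Finset.disjoint_left]
        intro d hdx hdy
        simp only [A, Finset.mem_filter, Finset.mem_univ, true_and, ← mul_smul] at hdx hdy
        exact hxy (fixed_unique (fun h => hkD (by
          simpa using (derSub G Ω).mul_mem h ((derSub G Ω).inv_mem d.2))) hdx hdy)
      have hU : (g • B).toFinset.biUnion A = S := by
        refine Finset.eq_of_subset_of_card_le (Finset.biUnion_subset.2 hsub) ?_
        rw [Finset.card_biUnion hdisj]
        have hn : 0 < Nat.card Ω := Nat.card_pos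
        refine Nat.le_of_mul_le_mul_right ?_ hn
        rw [Finset.sum_mul, Finset.sum_congr rfl (fun x _ => hAcard x), Finset.sum_const, smul_eq_mul,
          hScard]
      have h1S : (1 : derSub G Ω) ∈ S := by simp [S, hx₀]
      rw [← hU, Finset.mem_biUnion] at h1S
      obtain ⟨x, hx, hxA⟩ := h1S
      simp only [A, Finset.mem_filter, Finset.mem_univ, true_and, Subgroup.coe_one, one_smul] at hxA
      have hxa : x = a := fixed_unique hkD hxA k.2
      subst hxa
      rcases isBlock_iff_smul_eq_smul_or_disjoint.1 hB g 1 with e | e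
      · exact hC1 (by rwa [one_smul] at e)
      · rw [one_smul] at e
        exact Set.disjoint_left.1 e (Set.mem_toFinset.1 hx) haB
  rw [← Subgroup.relIndex] at h1 h2
  have hb : B.ncard * (Set.range fun g : G => g • B).ncard = Nat.card Ω :=
    hB.ncard_block_mul_ncard_orbit_eq ⟨a, haB⟩
  rw [Set.ncard_eq_toFinset_card' B, Set.ncard_eq_toFinset_card' (Set.range fun g : G => g • B)] at hb
  have hB2 : 1 < B.toFinset.card := by
    rw [← Set.ncard_eq_toFinset_card', Set.one_lt_ncard]
    exact Set.not_subsingleton_iff.1 hBs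
  rw [Finset.card_erase_of_mem (Set.mem_toFinset.2 haB)] at h1
  have hmem : B ∈ (Set.range fun g : G => g • B).toFinset := Set.mem_toFinset.2 ⟨1, one_smul _ _⟩
  rw [show blocks.card = _ from Finset.card_erase_of_mem hmem] at h2
  have hc2 : 1 < (Set.range fun g : G => g • B).toFinset.card := by
    by_contra hle
    push Not at hle
    have hlt : B.toFinset.card < Nat.card Ω := by
      rw [← Set.ncard_eq_toFinset_card', ← Set.ncard_univ]
      exact Set.ncard_lt_ncard (Set.ssubset_univ_iff.2 hBu)
    have := Nat.mul_le_mul_left B.toFinset.card hle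
    rw [hb, mul_one] at this
    omega
  have hm1 := Nat.le_of_dvd (by omega) h1
  have hm2 := Nat.le_of_dvd (by omega) h2
  change ((derSub G Ω).relIndex H + 1) ^ 2 ≤ _
  rw [← hb, sq]
  exact Nat.mul_le_mul (by omega) (by omega)

end Cfsg.Agent.PermDerangement
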