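import Cfsg.Agent.Lib.PermFpfUnique
import Mathlib.LinearAlgebra.Matrix.SpecialLinearGroup
import Mathlib.Data.ZMod.Basic
import Mathlib.Data.Rat.Lemmas

/-!
# The binary icosahedral group inside a fixed-point-free representation
-/

set_option autoImplicit false
set_option linter.unusedSectionVars false
set_option maxRecDepth 20000

namespace CfsgLib.FpfQuat

universe u v

abbrev S5 := Matrix.SpecialLinearGroup (Fin 2) (ZMod 5)

namespace Icosa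

/-- Coordinates of the icosians. -/
def tab : List ℕ := [0, 0, 0, 0, 0, 0, 0, 0, 0, 0, 0, 0, 0, 0, 0, 0, 0, 0, 0, 0, 0, 0, 0, 0, 0, 0, 0, 0, 0, 0, 0, 0, 0, 0, 0, 0, 0, 0, 0, 0, 0, 0, 0, 0, 0, 2901266, 3705550, 2980834, 2748336, 2076014, 0, 0, 0, 0, 0, 0, 0, 0, 0, 0, 2899248, 3703550, 1941152, 3826336, 2041714, 0, 0, 0, 0, 0, 0, 0, 0, 0, 0, 0, 0, 0, 0, 0, 0, 0, 0, 0, 0, 0, 0, 0, 0, 0, 2865552, 3723086, 1938464, 3823648, 2061250, 0, 0, 0, 0, 0, 0, 0, 0, 0, 0, 2863534, 3688786, 3016464, 2783966, 2059250, 0, 0, 0, 0, 0, 0, 0, 0, 0, 0, 0, 0, 0, 0, 0, 0, 4529486, 0, 0, 0, 0, 3000384, 0, 0, 0, 0, 1941250, 0, 0, 0, 0, 1941166, 0, 0, 0, 0, 2999714, 0, 0, 0, 0, 3019250, 0, 0, 0, 0, 0, 2764400, 0, 0, 0, 0, 0, 2039600, 0, 0, 0, 0, 0, 2865650, 3723100, 0, 0, 0, 0, 0, 1958014, 0, 0, 0, 0, 0, 0, 2058466, 0, 3688800, 0, 0, 0, 0, 0, 0, 3821534, 0, 0, 0, 0, 0, 0, 2885186,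 0, 1924402, 0, 0, 0, 0, 0, 0, 0, 2882414, 0, 0, 3840400, 0, 0, 3708336, 0, 0, 0, 0, 0, 0, 0, 2056448, 0, 0, 2980848, 0, 0, 0, 3706336, 0, 0, 0, 0, 0, 0, 0, 0, 2901950, 0, 0, 0, 2075314, 0, 0, 0, 2747552, 0, 0, 0, 0, 0, 2885200, 0, 0, 0, 0, 2862848, 0, 0, 0, 0, 2916014, 0, 0, 0, 0, 2863536, 0, 0, 0, 0, 2884402, 0, 0, 0, 0, 2881714, 0, 0, 2781950, 0, 0, 0, 0, 0, 0, 0, 3686686, 0, 0, 2078016, 0, 0, 2983634, 0, 0, 0, 0, 0, 0, 0, 2880384, 0, 0, 0, 0, 0, 3705552, 1943952, 0, 0, 0, 0, 0, 3806784, 0, 0, 0, 0, 0, 2075328, 0, 0, 0, 0, 0, 2899166, 0, 0, 0, 2042386, 0, 0, 0, 3825650, 0, 0, 0, 1941264, 0, 0, 0, 0, 0, 0, 0, 0, 3703534, 0, 0, 0, 2865536, 0, 3019264, 0, 0, 0, 0, 0, 0, 2039698, 0, 0, 0, 0, 0, 0, 3722400, 0, 2765102, 0, 0, 0, 0, 0, 2879600, 0, 0, 0, 0, 2880398, 0, 0, 0, 0, 2901264, 0, 0, 0, 0, 2848786, 0, 0, 0, 0, 2901952, 0, 0, 0, 0, 2899264, 0, 0, 0, 0,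 0, 0, 2999698, 0, 2042400, 0, 0, 0, 0, 0, 0, 3725102, 0, 2745536, 0, 0, 0, 0, 0, 0, 2865634, 0, 0, 0, 2061266, 0, 0, 0, 3823536, 0, 0, 0, 0, 0, 0, 0, 0, 1939150, 0, 0, 0, 3722414, 0, 0, 0, 2884416, 0, 0, 0, 0, 0, 3689472, 0, 0, 0, 0, 0, 1958016, 3820848, 0, 0, 0, 0, 0, 2059248, 0, 0, 0, 0, 0, 2883086, 0, 0, 2781166, 0, 0, 0, 0, 0, 0, 0, 3686784, 0, 0, 2078114, 0, 0, 0, 0, 0, 0, 0, 2982850, 0, 0, 0, 0, 1235314, 0, 0, 0, 0, 2765086, 0, 0, 0, 0, 3823634, 0, 0, 0, 0, 3823550, 0, 0, 0, 0, 2764416, 0, 0, 0, 0, 2783952, 0, 0, 0, 3017248, 0, 0, 0, 3689486, 0, 0, 0, 2862850, 0, 0, 0, 2058464, 0, 0, 0, 0, 0, 0, 0, 0, 3840398, 0, 0, 3708352, 0, 0, 2056464, 0, 0, 0, 0, 0, 0, 0, 1924400, 0, 0, 2882386, 0, 0, 0, 0, 0, 0, 0, 3806786, 0, 2879614, 0, 0, 0, 0, 0, 0, 1943266, 0, 2076000, 0, 0, 0, 0, 0, 0, 3706334, 0, 0, 0, 0, 0, 0, 2745550, 2041700, 0, 0, 0, 0, 0, 2899150,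 0, 0, 0, 0, 0, 3725200, 0, 0, 0, 0, 0, 3000400, 0]

/-- Word lengths. -/
def lev : List ℕ := [0, 0, 0, 0, 0, 0, 0, 0, 0, 0, 0, 0, 0, 0, 0, 0, 0, 0, 0, 0, 0, 0, 0, 0, 0, 0, 0, 0, 0, 0, 0, 0, 0, 0, 0, 0, 0, 0, 0, 0, 0, 0, 0, 0, 0, 7, 8, 8, 4, 1, 0, 0, 0, 0, 0, 0, 0, 0, 0, 0, 8, 6, 8, 6, 8, 0, 0, 0, 0, 0, 0, 0, 0, 0, 0, 0, 0, 0, 0, 0, 0, 0, 0, 0, 0, 0, 0, 0, 0, 0, 8, 6, 8, 6, 8, 0, 0, 0, 0, 0, 0, 0, 0, 0, 0, 7, 8, 8, 4, 1, 0, 0, 0, 0, 0, 0, 0, 0, 0, 0, 0, 0, 0, 0, 0, 0, 0, 0, 0, 0, 0, 6, 0, 0, 0, 0, 7, 0, 0, 0, 0, 7, 0, 0, 0, 0, 6, 0, 0, 0, 0, 6, 0, 0, 0, 0, 0, 2, 0, 0, 0, 0, 0, 5, 0, 0, 0, 0, 0, 7, 9, 0, 0, 0, 0, 0, 7, 0, 0, 0, 0, 0, 0, 5, 0, 6, 0, 0, 0, 0, 0, 0, 3, 0, 0, 0, 0, 0, 0, 7, 0, 7, 0, 0, 0, 0, 0, 0, 0, 7, 0, 0, 3, 0, 0, 6, 0, 0, 0, 0, 0, 0, 0, 5, 0, 0, 6, 0, 0, 0, 9, 0, 0, 0, 0, 0, 0, 0, 0, 7, 0, 0, 0, 5, 0, 0, 0, 2, 0, 0, 0, 0, 0, 10, 0, 0, 0, 0,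 5, 0, 0, 0, 0, 7, 0, 0, 0, 0, 7, 0, 0, 0, 0, 5, 0, 0, 0, 0, 5, 0, 0, 4, 0, 0, 0, 0, 0, 0, 0, 8, 0, 0, 7, 0, 0, 6, 0, 0, 0, 0, 0, 0, 0, 7, 0, 0, 0, 0, 0, 8, 4, 0, 0, 0, 0, 0, 6, 0, 0, 0, 0, 0, 7, 0, 0, 0, 0, 0, 7, 0, 0, 0, 7, 0, 0, 0, 6, 0, 0, 0, 4, 0, 0, 0, 0, 0, 0, 0, 0, 8, 0, 0, 0, 5, 0, 6, 0, 0, 0, 0, 0, 0, 7, 0, 0, 0, 0, 0, 0, 8, 0, 4, 0, 0, 0, 0, 0, 5, 0, 0, 0, 0, 7, 0, 0, 0, 0, 8, 0, 0, 0, 0, 8, 0, 0, 0, 0, 7, 0, 0, 0, 0, 7, 0, 0, 0, 0, 0, 0, 8, 0, 4, 0, 0, 0, 0, 0, 0, 6, 0, 5, 0, 0, 0, 0, 0, 0, 8, 0, 0, 0, 4, 0, 0, 0, 9, 0, 0, 0, 0, 0, 0, 0, 0, 7, 0, 0, 0, 6, 0, 0, 0, 8, 0, 0, 0, 0, 0, 6, 0, 0, 0, 0, 0, 7, 9, 0, 0, 0, 0, 0, 4, 0, 0, 0, 0, 0, 7, 0, 0, 5, 0, 0, 0, 0, 0, 0, 0, 6, 0, 0, 4, 0, 0, 0, 0, 0, 0, 0, 8, 0, 0, 0, 0, 10, 0, 0, 0, 0, 7, 0, 0, 0, 0, 3, 0, 0, 0, 0, 3, 0, 0, 0, 0, 7, 0, 0, 0, 0, 7, 0, 0, 0, 9, 0, 0, 0, 6, 0, 0, 0, 5, 0, 0, 0, 2, 0,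 0, 0, 0, 0, 0, 0, 0, 3, 0, 0, 6, 0, 0, 7, 0, 0, 0, 0, 0, 0, 0, 8, 0, 0, 5, 0, 0, 0, 0, 0, 0, 0, 3, 0, 5, 0, 0, 0, 0, 0, 0, 8, 0, 7, 0, 0, 0, 0, 0, 0, 6, 0, 0, 0, 0, 0, 0, 7, 2, 0, 0, 0, 0, 0, 5, 0, 0, 0, 0, 0, 6, 0, 0, 0, 0, 0, 9, 0]

/-- Gaussian-style pairs multiply by `c * c = 1 - c`. -/
def cm (x y : ℤ × ℤ) : ℤ × ℤ := (x.1 * y.1 + x.2 * y.2, x.1 * y.2 + x.2 * y.1 - x.2 * y.2)

abbrev Quad := (ℤ × ℤ) × (ℤ × ℤ) × (ℤ × ℤ) × (ℤ × ℤ)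

/-- Doubled product. -/
def qm (u v : Quad) : Quad :=
  (cm u.1 v.1 - cm u.2.1 v.2.1 - cm u.2.2.1 v.2.2.1 - cm u.2.2.2 v.2.2.2,
   cm u.1 v.2.1 + cm u.2.1 v.1 + cm u.2.2.1 v.2.2.2 - cm u.2.2.2 v.2.2.1,
   cm u.1 v.2.2.1 + cm u.2.2.1 v.1 + cm u.2.2.2 v.2.1 - cm u.2.1 v.2.2.2,
   cm u.1 v.2.2.2 + cm u.2.2.2 v.1 + cm u.2.1 v.2.2.1 - cm u.2.2.1 v.2.1)

/-- A digit. -/
def dig (t k : ℕ) : ℤ := ((t / 7 ^ k % 7 : ℕ) : ℤ) - 3

/-- The index of a matrix. -/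
def idx (a b c d : ZMod 5) : ℕ := ((a.val * 5 + b.val) * 5 + c.val) * 5 + d.val

/-- The doubled image of a matrix. -/
def img (a b c d : ZMod 5) : Quad :=
  ((dig (tab.getD (idx a b c d) 0) 7, dig (tab.getD (idx a b c d) 0) 6),
   (dig (tab.getD (idx a b c d) 0) 5, dig (tab.getD (idx a b c d) 0) 4),
   (dig (tab.getD (idx a b c d) 0) 3, dig (tab.getD (idx a b c d) 0) 2),
   (dig (tab.getD (idx a b c d) 0) 1, dig (tab.getD (idx a b c d) 0) 0))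

def imgG : Quad := ((-1, 0), (1, 0), (1, 0), (1, 0))

def imgY : Quad := ((-1, 0), (0, 0), (1, 1), (0, 1))

set_option synthInstance.maxSize 2048 in
theorem spec : ∀ a b c d : ZMod 5, a * d - b * c = 1 →
    qm imgG (img a b c d) = img c d (-a - c) (-b - d) + img c d (-a - c) (-b - d) ∧
    qm imgY (img a b c d) = img (-c) (-d) (a - c) (b - d) + img (-c) (-d) (a - c) (b - d) ∧
    (img a b c d = img 1 0 0 1 → a = 1 ∧ b = 0 ∧ c = 0 ∧ d = 1) := by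
  decide +kernel

theorem descent : ∀ a b c d : ZMod 5, a * d - b * c = 1 → (a = 1 ∧ b = 0 ∧ c = 0 ∧ d = 1) ∨
    lev.getD (idx (-a - c) (-b - d) a b) 0 < lev.getD (idx a b c d) 0 ∨
    lev.getD (idx (c - a) (d - b) (-a) (-b)) 0 < lev.getD (idx a b c d) 0 := by
  decide +kernel

theorem img_one : img 1 0 0 1 = ((2, 0), (0, 0), (0, 0), (0, 0)) := by decide +kernel

def genG : S5 := ⟨!![0, 1; 4, 4], by decide +kernel⟩

def genY : S5 := ⟨!![0, 4; 1, 4], by decide +kernel⟩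

theorem card_three : (Finset.univ.filter fun x : S5 => x ^ 3 = 1 ∧ x ≠ 1).card = 20 := by
  decide +kernel

theorem card_pairs : (((Finset.univ.filter fun x : S5 => x ^ 3 = 1 ∧ x ≠ 1) ×ˢ
    (Finset.univ.filter fun x : S5 => x ^ 3 = 1 ∧ x ≠ 1)).filter fun p =>
      (p.1 * p.2) ^ 5 ≠ 1 ∧ (p.1 * p.2) ^ 10 = 1).card = 120 := by
  decide +kernel

theorem gens_mem : (genG ^ 3 = 1 ∧ genG ≠ 1) ∧ (genY ^ 3 = 1 ∧ genY ≠ 1) ∧
    (genG * genY) ^ 5 ≠ 1 ∧ (genG * genY) ^ 10 = 1 := by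
  decide +kernel

theorem card_center : (Finset.univ.filter fun x : S5 => x * genG = genG * x ∧ x * genY = genY * x).card = 2 := by
  decide +kernel

theorem card_all : Fintype.card S5 = 120 := by decide +kernel

theorem det_eq (M : S5) : M.1 0 0 * M.1 1 1 - M.1 0 1 * M.1 1 0 = 1 := by
  rw [← Matrix.det_fin_two]; exact M.2

/-- The image of a matrix. -/
def im (M : S5) : Quad := img (M.1 0 0) (M.1 0 1) (M.1 1 0) (M.1 1 1)

theorem mul_genG (M : S5) : (genG * M).1 = !![M.1 1 0, M.1 1 1; -M.1 0 0 - M.1 1 0, -M.1 0 1 - M.1 1 1] := by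
  show !![0, 1; 4, 4] * M.1 = _
  have h4 : (4 : ZMod 5) = -1 := by decide
  ext i j
  fin_cases i <;> fin_cases j <;> simp [Matrix.mul_apply, Fin.sum_univ_two, h4] <;> ring

theorem mul_genY (M : S5) : (genY * M).1 = !![-M.1 1 0, -M.1 1 1; M.1 0 0 - M.1 1 0, M.1 0 1 - M.1 1 1] := by
  show !![0, 4; 1, 4] * M.1 = _
  have h4 : (4 : ZMod 5) = -1 := by decide
  ext i j
  fin_cases i <;> fin_cases j <;> simp [Matrix.mul_apply, Fin.sum_univ_two, h4] <;> ring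

theorem im_genG (M : S5) : qm imgG (im M) = im (genG * M) + im (genG * M) := by
  simp only [im, mul_genG]
  simpa using (spec _ _ _ _ (det_eq M)).1

theorem im_genY (M : S5) : qm imgY (im M) = im (genY * M) + im (genY * M) := by
  simp only [im, mul_genY]
  simpa using (spec _ _ _ _ (det_eq M)).2.1

theorem gen_induction {P : S5 → Prop} (h1 : P 1) (hG : ∀ N, P N → P (genG * N))
    (hY : ∀ N, P N → P (genY * N)) : ∀ (n : ℕ) (N : S5),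
    lev.getD (idx (N.1 0 0) (N.1 0 1) (N.1 1 0) (N.1 1 1)) 0 = n → P N := by
  intro n
  induction n using Nat.strong_induction_on with
  | _ n ih =>
    intro N hn
    rcases descent _ _ _ _ (det_eq N) with ⟨ha, hb, hc, hd⟩ | h | h
    · have : N = 1 := by
        apply Subtype.ext
        rw [Matrix.eta_fin_two N.1, ha, hb, hc, hd]; simp [Matrix.one_fin_two]
      rw [this]; exact h1
    · let N' : S5 := ⟨!![-N.1 0 0 - N.1 1 0, -N.1 0 1 - N.1 1 1; N.1 0 0, N.1 0 1], by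
        rw [Matrix.det_fin_two_of]; linear_combination det_eq N⟩
      have hN : genG * N' = N := by
        apply Subtype.ext
        rw [mul_genG, Matrix.eta_fin_two N.1]
        ext i j
        fin_cases i <;> fin_cases j <;> simp [N'] <;> ring
      rw [← hN]
      exact hG _ (ih _ (by rw [← hn]; simpa [N'] using h) N' rfl)
    · let N' : S5 := ⟨!![N.1 1 0 - N.1 0 0, N.1 1 1 - N.1 0 1; -N.1 0 0, -N.1 0 1], by
        rw [Matrix.det_fin_two_of]; linear_combination det_eq N⟩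
      have hN : genY * N' = N := by
        apply Subtype.ext
        rw [mul_genY, Matrix.eta_fin_two N.1]
        ext i j
        fin_cases i <;> fin_cases j <;> simp [N'] <;> ring
      rw [← hN]
      exact hY _ (ih _ (by rw [← hn]; simpa [N'] using h) N' rfl)

theorem closure_gens : Subgroup.closure ({genG, genY} : Set S5) = ⊤ := by
  refine (Subgroup.eq_top_iff' _).mpr fun N => ?_
  exact gen_induction (P := fun N => N ∈ Subgroup.closure ({genG, genY} : Set S5))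
    (Subgroup.one_mem _)
    (fun M hM => Subgroup.mul_mem _ (Subgroup.subset_closure (by simp)) hM)
    (fun M hM => Subgroup.mul_mem _ (Subgroup.subset_closure (by simp)) hM) _ N rfl

end Icosa

open Icosa

variable {G : Type u} [Group G] [Finite G] {A : Type v} [Ring A] [Algebra ℚ A] {R : FpfRep G A}

theorem not_golden_int {p q : ℤ} (h : p * p - p * q - q * q = 0) : q = 0 := by
  by_contra hq
  have hq' : (q : ℚ) ≠ 0 := Int.cast_ne_zero.mpr hq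
  have h' : (p : ℚ) * p - p * q - q * q = 0 := by exact_mod_cast h
  have h5 : IsSquare ((5 : ℕ) : ℚ) := ⟨(2 * p - q) / q, by push_cast; field_simp; linear_combination (-4 : ℚ) * h'⟩
  rw [Rat.isSquare_natCast_iff] at h5
  revert h5
  decide +kernel

/-- An icosahedral pair spans a copy of `SL(2, 5)`. -/
theorem exists_sl25_hom [Nontrivial A] {g y : G} (hg : orderOf g = 3) (hy : orderOf y = 3)
    (h20 : R.S g y * R.S g y = 20) :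
    ∃ φ : S5 →* G, Function.Injective φ ∧ φ genG = g ∧ φ genY = y := by
  classical
  set z := y * g * y⁻¹ with hzdef
  have hz : orderOf z = 3 := by rw [hzdef, FpfRep.orderOf_conj', hg]
  have hgz : R.S g z = -2 := R.S_step hy hg (by rw [R.S_comm]; exact h20)
  obtain ⟨F, hF⟩ := exists_frame hg hz hgz
  have h0 : R.U g = F.Q 0 1 1 1 := by simpa [tetra, sgn] using hF 0
  have h1 : R.U z⁻¹ = F.Q 0 1 (-1) (-1) := by simpa [tetra, sgn] using hF 1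
  obtain ⟨c, hu, hc⟩ := partner_coords F hy hz h0 h1 rfl
  let val : ℤ × ℤ → F.D := fun x => (x.1 : F.D) + x.2 * c
  have hcc : c * c = 1 - c := eq_sub_of_add_eq hc
  have vadd : ∀ x y, val (x + y) = val x + val y := fun x y => by
    simp only [val, Prod.fst_add, Prod.snd_add, Int.cast_add]; noncomm_ring
  have vsub : ∀ x y, val (x - y) = val x - val y := fun x y => by
    simp only [val, Prod.fst_sub, Prod.snd_sub, Int.cast_sub]; noncomm_ring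
  have vmul : ∀ x y, val (cm x y) = val x * val y := fun x y => by
    simp only [val, cm, Int.cast_add, Int.cast_sub, Int.cast_mul]
    calc _ = (x.1 : F.D) * y.1 + (x.1 : F.D) * y.2 * c + (x.2 : F.D) * y.1 * c
          + (x.2 : F.D) * y.2 * (1 - c) := by noncomm_ring
      _ = (x.1 : F.D) * y.1 + (x.1 : F.D) * y.2 * c + (x.2 : F.D) * y.1 * c
          + (x.2 : F.D) * y.2 * (c * c) := by rw [hcc]
      _ = _ := by
          rw [add_mul, mul_add, mul_add]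
          have e1 : (x.2 : F.D) * c * (y.1 : F.D) = (x.2 : F.D) * y.1 * c := by
            rw [mul_assoc, (Int.cast_commute y.1 c).symm.eq, ← mul_assoc]
          have e2 : (x.2 : F.D) * c * ((y.2 : F.D) * c) = (x.2 : F.D) * y.2 * (c * c) := by
            rw [mul_assoc, ← mul_assoc c, (Int.cast_commute y.2 c).symm.eq]; noncomm_ring
          rw [e1, e2]; noncomm_ring
  let val4 : Quad → A := fun v => F.Q (val v.1) (val v.2.1) (val v.2.2.1) (val v.2.2.2)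
  have v4mul : ∀ v w, val4 (qm v w) = val4 v * val4 w := fun v w => by
    simp only [val4, qm, vsub, vadd, vmul, F.Q_mul]
  have v4add : ∀ v w, val4 (v + w) = val4 v + val4 w := fun v w => by
    simp only [val4, Prod.fst_add, Prod.snd_add, vadd, F.Q_add]
  have hvG : val4 imgG = 2 * R.ρ g := by
    have e : 2 * R.ρ g = R.U g - 1 := by rw [FpfRep.U]; noncomm_ring
    rw [e, h0, F.Q_one, F.Q_sub]
    simp [val4, val, imgG]
  have hvY : val4 imgY = 2 * R.ρ y := by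
    have e : 2 * R.ρ y = R.U y - 1 := by rw [FpfRep.U]; noncomm_ring
    rw [e, hu, F.Q_one, F.Q_sub]
    simp [val4, val, imgY, add_comm]
  let Ψ : S5 → A := fun M => (1 / 2 : ℚ) • val4 (im M)
  have h2s : ∀ X : A, (2 : ℚ) • X = 2 * X := fun X => by rw [Algebra.smul_def, map_ofNat]
  have step : ∀ (gen : S5) (q : Quad) (x : G) (M : S5), val4 q = 2 * R.ρ x →
      qm q (im M) = im (gen * M) + im (gen * M) → Ψ (gen * M) = R.ρ x * Ψ M := by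
    intro gen q x M hq hm
    have e := congrArg val4 hm
    rw [v4mul, v4add, hq, ← two_mul, mul_assoc] at e
    simp only [Ψ, mul_smul_comm]
    refine congrArg _ (sub_eq_zero.mp (FpfRep.smul_cancel (A := A) (n := 2) two_ne_zero ?_))
    rw [Nat.cast_ofNat, mul_sub, e, sub_self]
  have hΨ1 : Ψ 1 = 1 := by
    have : im 1 = ((2, 0), (0, 0), (0, 0), (0, 0)) := by
      simpa [im, Matrix.one_fin_two] using img_one
    simp only [Ψ, this, val4, val]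
    simp only [Int.cast_zero, Int.cast_ofNat, zero_mul, add_zero, F.Q_scalar]
    rw [show ((2 : F.D) : A) = (2 : ℚ) • (1 : A) by rw [h2s, mul_one]; rfl, smul_smul]
    norm_num
  have hall : ∀ N : S5, (∀ M, Ψ (N * M) = Ψ N * Ψ M) ∧ ∃ x : G, R.ρ x = Ψ N := by
    intro N
    refine gen_induction (P := fun N : S5 => (∀ M, Ψ (N * M) = Ψ N * Ψ M) ∧ ∃ x : G, R.ρ x = Ψ N)
      ⟨fun M => by rw [one_mul, hΨ1, one_mul], 1, by rw [map_one, hΨ1]⟩ ?_ ?_ _ N rfl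
    · rintro N ⟨hN, x, hx⟩
      have hs := fun M => step genG imgG g M hvG (im_genG M)
      refine ⟨fun M => ?_, g * x, by rw [map_mul, hx, hs]⟩
      rw [mul_assoc, hs, hN, hs N, mul_assoc]
    · rintro N ⟨hN, x, hx⟩
      have hs := fun M => step genY imgY y M hvY (im_genY M)
      refine ⟨fun M => ?_, y * x, by rw [map_mul, hx, hs]⟩
      rw [mul_assoc, hs, hN, hs N, mul_assoc]
  choose φ hφ using fun N => (hall N).2
  let φh : S5 →* G := MonoidHom.mk' φ fun a b => R.inj (by rw [map_mul, hφ, hφ, hφ, (hall a).1])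
  have hsc : ∀ gen q x, val4 q = 2 * R.ρ x → (∀ M, qm q (im M) = im (gen * M) + im (gen * M)) →
      φ gen = x := fun gen q x hq hm => R.inj (by
        rw [hφ, ← mul_one gen, step gen q x 1 hq (hm 1), hΨ1, mul_one])
  refine ⟨φh, (injective_iff_map_eq_one φh).mpr fun M hM => ?_, hsc _ _ _ hvG im_genG, hsc _ _ _ hvY im_genY⟩
  have hv : Ψ M = Ψ 1 := by
    rw [hΨ1, ← hφ, show φ M = 1 from hM, map_one]
  have hval : ∀ x y : ℤ × ℤ, val x = val y → x = y := by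
    intro x y e
    have h2 : val (x - y) = 0 := by rw [vsub, e, sub_self]
    set p := (x - y).1
    set q := (x - y).2
    have hpq : (p : F.D) + q * c = 0 := h2
    have h3 : ((p * p - p * q - q * q : ℤ) : F.D) = 0 := by
      have hqc : (q : F.D) * c = -(p : F.D) := eq_neg_of_add_eq_zero_right hpq
      have h4 : (q : F.D) * c * ((q : F.D) * c) = (q : F.D) * q * (c * c) := by
        rw [mul_assoc, ← mul_assoc c, (Int.cast_commute q c).symm.eq]; noncomm_ring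
      rw [hqc, hcc, mul_sub, mul_one, mul_assoc, hqc, neg_mul_neg, mul_neg] at h4
      push_cast
      rw [h4, (Int.cast_commute q (p : F.D)).eq]
      abel
    have h5 : p * p - p * q - q * q = 0 := by
      refine FpfRep.scalar_inj (A := A) ?_
      have := congrArg F.D.val h3
      rwa [map_intCast, map_zero, ← Int.cast_zero] at this
    have hq0 := not_golden_int h5
    have hp0 : p = 0 := by
      rw [hq0] at h5
      simpa using h5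
    exact sub_eq_zero.mp (Prod.ext hp0 hq0)
  have h4 : val4 (im M) = val4 (im 1) :=
    smul_right_injective A (by norm_num : (1 / 2 : ℚ) ≠ 0) hv
  obtain ⟨a1, a2, a3, a4⟩ := F.Q_inj h4
  have him : im M = im 1 :=
    Prod.ext (hval _ _ a1) (Prod.ext (hval _ _ a2) (Prod.ext (hval _ _ a3) (hval _ _ a4)))
  have h1' : im 1 = img 1 0 0 1 := by simp [im]
  obtain ⟨ha, hb, hcM, hd⟩ := (spec _ _ _ _ (det_eq M)).2.2 (him.trans h1')
  apply Subtype.ext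
  rw [Matrix.eta_fin_two M.1, ha, hb, hcM, hd]; simp [Matrix.one_fin_two]

end CfsgLib.FpfQuat
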