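import Mathlib

/-! Relative index against a normal subgroup. -/

set_option autoImplicit false

namespace CfsgLib.RelIdxNormal

variable {G : Type*} [Group G]

theorem card_inf_mul_relIndex (A B : Subgroup G) : Nat.card ↥(B ⊓ A) * A.relIndex B = Nat.card B := by
  have e1 : (A.subgroupOf B).map B.subtype = B ⊓ A := by rw [Subgroup.subgroupOf_map_subtype, inf_comm]
  rw [← e1, ← Nat.card_congr ((A.subgroupOf B).equivMapOfInjective B.subtype B.subtype_injective).toEquiv]
  exact Subgroup.card_mul_index _

theorem relIndex_normal_sup [Finite G] (S K : Subgroup G) [K.Normal] : S.relIndex (S ⊔ K) = S.relIndex K := by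
  have h1 := card_inf_mul_relIndex S (S ⊔ K)
  have h2 := card_inf_mul_relIndex K (S ⊔ K)
  have h3 := card_inf_mul_relIndex K S
  have h4 := card_inf_mul_relIndex S K
  rw [inf_eq_right.2 le_sup_left] at h1
  rw [inf_eq_right.2 le_sup_right, Subgroup.relIndex_sup_right] at h2
  rw [inf_comm] at h4
  refine Nat.eq_of_mul_eq_mul_left (Nat.card_pos (α := ↥S)) ?_
  rw [h1, ← h2, ← h4, ← h3]
  ring

theorem relIndex_dvd_index [Finite G] (S K : Subgroup G) [K.Normal] : S.relIndex K ∣ S.index :=
  relIndex_normal_sup S K ▸ Subgroup.relIndex_dvd_index_of_le le_sup_left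

end CfsgLib.RelIdxNormal
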