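import Mathlib

/-! Groups with the same prime graph: split extensions by modules on which only `p`-elements fix a vector. -/

namespace CfsgLib.PrimeGraphExt

/-- If only `p`-elements of `G` fix a nonzero vector of the `p`-module `V`, the groups `V^k ⋊ G` are arbitrarily
large groups with the prime divisors and the prime graph edges of `G`. -/
theorem exists_large {G : Type*} [Group G] [Finite G] {V : Type*} [AddCommGroup V] [Finite V]
    [Nontrivial V] [DistribMulAction G V] (p : ℕ) (hp : p.Prime) (hpG : p ∣ Nat.card G)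
    (hV : ∀ v : V, p • v = 0)
    (hfix : ∀ (g : G) (v : V), v ≠ 0 → g • v = v → ∃ k : ℕ, orderOf g = p ^ k) (N : ℕ) :
    ∃ (H : Type) (_ : Group H) (_ : Finite H), N < Nat.card H ∧
      (∀ q : ℕ, q.Prime → (q ∣ Nat.card G ↔ q ∣ Nat.card H)) ∧
      (∀ r s : ℕ, r.Prime → s.Prime → r ≠ s →
        ((∃ g : G, orderOf g = r * s) ↔ (∃ h : H, orderOf h = r * s))) := by
  classical
  haveI : Fintype V := Fintype.ofFinite V
  let A := Multiplicative (Fin N → V)
  let φ : G →* MulAut A :=
    { toFun := fun g => AddEquiv.toMultiplicative (DistribMulAction.toAddEquiv (Fin N → V) g)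
      map_one' := by ext x; simp [A]
      map_mul' := fun g h => by ext x; simp [A, mul_smul] }
  haveI : Finite (A ⋊[φ] G) := Finite.of_equiv _ (SemidirectProduct.equivProd (φ := φ)).symm
  have hcardS : Nat.card (A ⋊[φ] G) = Nat.card A * Nat.card G := SemidirectProduct.card
  have hA : ∀ a : A, a ^ p = 1 := by
    intro a
    have h : p • (Multiplicative.toAdd a) = 0 := funext fun i => hV _
    exact Multiplicative.toAdd.injective h
  -- an element of prime order `r` of the kernel forces `r = p`
  have hker : ∀ (x : (A ⋊[φ] G)) (r : ℕ), r.Prime → orderOf x = r → x.right = 1 → r = p := by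
    intro x r hr hx hx1
    have hxe : x = SemidirectProduct.inl x.left := by ext <;> simp [hx1]
    have : x ^ p = 1 := by rw [hxe, ← map_pow, hA, map_one]
    have := orderOf_dvd_of_pow_eq_one this
    rw [hx] at this
    exact (Nat.prime_dvd_prime_iff_eq hr hp).mp this
  have hedge : ∀ r s : ℕ, r.Prime → s.Prime → r ≠ s → ∀ x : (A ⋊[φ] G), orderOf x = r * s →
      orderOf x.right ∣ s → False := by
    intro r s hr hs hrs x hx hxs
    have ho : orderOf (x ^ s) = r := by
      rw [orderOf_pow, hx, Nat.gcd_eq_right (dvd_mul_left s r), Nat.mul_div_cancel _ hs.pos]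
    have ha1 : (x ^ s).right = 1 := by
      rw [← SemidirectProduct.rightHom_eq_right, map_pow]
      exact orderOf_dvd_iff_pow_eq_one.mp hxs
    have hrp : r = p := hker _ r hr ho ha1
    have hob : orderOf (x ^ r) = s := by
      rw [orderOf_pow, hx, Nat.gcd_eq_right (dvd_mul_right r s), Nat.mul_div_cancel_left _ hr.pos]
    have hb1 : (x ^ r).right ≠ 1 := fun h => hrs (hrp.trans (hker _ s hs hob h).symm)
    have hcomm : x ^ r * x ^ s = x ^ s * x ^ r := (Commute.pow_pow (Commute.refl x) r s).eq
    have hfl : φ (x ^ r).right (x ^ s).left = (x ^ s).left := by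
      have := congrArg SemidirectProduct.left hcomm
      simp [ha1, map_one] at this 

      rw [mul_comm (x ^ s).left] at this
      exact mul_left_cancel this
    have hne : (x ^ s).left ≠ 1 := by
      intro h
      have : x ^ s = 1 := by ext <;> simp [h, ha1]
      rw [this, orderOf_one] at ho
      exact hr.ne_one ho.symm
    obtain ⟨i, hi⟩ : ∃ i, Multiplicative.toAdd (x ^ s).left i ≠ 0 := by
      by_contra! h
      exact hne (Multiplicative.toAdd.injective (funext h))
    obtain ⟨k, hk⟩ := hfix (x ^ r).right _ hi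
      (congrFun (congrArg Multiplicative.toAdd hfl) i)
    have hdvd : orderOf (x ^ r).right ∣ s := by
      have := orderOf_map_dvd (SemidirectProduct.rightHom (φ := φ)) (x ^ r)
      rwa [hob, SemidirectProduct.rightHom_eq_right] at this
    rcases (Nat.dvd_prime hs).mp hdvd with h | h
    · exact hb1 (orderOf_eq_one_iff.mp h)
    · rw [hk] at h
      have := (Nat.Prime.pow_eq_iff hs).mp h
      exact hrs (hrp.trans this.1)
  let e : Shrink.{0} (A ⋊[φ] G) ≃* (A ⋊[φ] G) := Shrink.mulEquiv
  refine ⟨Shrink.{0} (A ⋊[φ] G), inferInstance, Finite.of_equiv _ e.toEquiv.symm, ?_, ?_, ?_⟩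
  · rw [Nat.card_congr e.toEquiv, hcardS]
    calc N < 2 ^ N := Nat.lt_two_pow_self
      _ ≤ Nat.card V ^ N := Nat.pow_le_pow_left Finite.one_lt_card N
      _ = Nat.card A := by
        show _ = Nat.card (Fin N → V)
        rw [Nat.card_fun, Nat.card_fin]
      _ ≤ _ := Nat.le_mul_of_pos_right _ Nat.card_pos
  · intro q hq
    rw [Nat.card_congr e.toEquiv, hcardS]
    constructor
    · exact fun h => h.mul_left _
    · intro h
      rcases (Nat.Prime.dvd_mul hq).mp h with h | h
      · haveI := Fact.mk hq
        obtain ⟨a, ha⟩ := exists_prime_orderOf_dvd_card' q h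
        have := orderOf_dvd_of_pow_eq_one (hA a)
        rw [ha] at this
        rw [(Nat.prime_dvd_prime_iff_eq hq hp).mp this]
        exact hpG
      · exact h
  · intro r s hr hs hrs
    constructor
    · rintro ⟨g, hg⟩
      refine ⟨e.symm (SemidirectProduct.inr g), ?_⟩
      rw [MulEquiv.orderOf_eq, orderOf_injective _ SemidirectProduct.inr_injective, hg]
    · rintro ⟨h, hh⟩
      have hx : orderOf (e h) = r * s := by rw [MulEquiv.orderOf_eq, hh]
      refine ⟨(e h).right, ?_⟩
      have hd : orderOf (e h).right ∣ r * s := by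
        have := orderOf_map_dvd (SemidirectProduct.rightHom (φ := φ)) (e h)
        rwa [hx, SemidirectProduct.rightHom_eq_right] at this
      by_cases h1 : r ∣ orderOf (e h).right
      · by_cases h2 : s ∣ orderOf (e h).right
        · exact Nat.dvd_antisymm hd
            (((Nat.coprime_primes hr hs).mpr hrs).mul_dvd_of_dvd_of_dvd h1 h2)
        · exfalso
          refine hedge s r hs hr (Ne.symm hrs) (e h) (by rw [hx, mul_comm]) ?_
          exact ((hs.coprime_iff_not_dvd.mpr h2).symm).dvd_of_dvd_mul_right hd
      · exfalso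
        refine hedge r s hr hs hrs (e h) hx ?_
        exact ((hr.coprime_iff_not_dvd.mpr h1).symm).dvd_of_dvd_mul_left hd

end CfsgLib.PrimeGraphExt
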