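import Mathlib
import Cfsg.Agent.Lib.CoreFpf

namespace Cfsg.Agent.PrimeGraphThree

open scoped Pointwise

variable {G : Type*} [Group G] [Finite G]

/-- No element has order the product. -/
def NonAdj (G : Type*) [Group G] (p q : ℕ) : Prop := ¬ ∃ x : G, orderOf x = p * q

omit [Finite G] in
theorem NonAdj.symm {p q : ℕ} (h : NonAdj G p q) : NonAdj G q p := by
  rwa [NonAdj, mul_comm]

theorem not_commute {a b : ℕ} (ha : a.Prime) (hb : b.Prime) (hab : a ≠ b) (h : NonAdj G a b)
    {x y : G} (hx : a ∣ orderOf x) (hy : b ∣ orderOf y) (hc : Commute x y) : False := by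
  refine h ⟨x ^ (orderOf x / a) * y ^ (orderOf y / b), ?_⟩
  have h1 : orderOf (x ^ (orderOf x / a)) = a := orderOf_pow_orderOf_div (orderOf_pos x).ne' hx
  have h2 : orderOf (y ^ (orderOf y / b)) = b := orderOf_pow_orderOf_div (orderOf_pos y).ne' hy
  rw [(hc.pow_pow _ _).orderOf_mul_eq_mul_orderOf_of_coprime, h1, h2]
  rw [h1, h2]
  exact (Nat.coprime_primes ha hb).2 hab

theorem card_quot (K M : Subgroup G) [K.Normal] (hKM : K ≤ M) :
    Nat.card M = Nat.card K * Nat.card (M.map (QuotientGroup.mk' K)) := by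
  have h1 : (M.map (QuotientGroup.mk' K)).index = M.index :=
    M.index_map_eq (QuotientGroup.mk'_surjective K) (by rw [QuotientGroup.ker_mk']; exact hKM)
  have h2 := (M.map (QuotientGroup.mk' K)).card_mul_index
  have h3 := M.card_mul_index
  have h4 := K.card_mul_index
  rw [h1, ← Subgroup.index_eq_card] at h2
  have hpos : 0 < M.index := Nat.pos_of_ne_zero Subgroup.index_ne_zero_of_finite
  refine Nat.eq_of_mul_eq_mul_right hpos ?_
  rw [h3, mul_assoc, h2, h4]

/-- Three primes in three consecutive sections. -/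
theorem no_three (K M : Subgroup G) [K.Normal] [M.Normal] (hKM : K ≤ M) {p q r : ℕ}
    (hp : p.Prime) (hq : q.Prime) (hr : r.Prime) (hpq : p ≠ q) (hpr : p ≠ r) (hqr : q ≠ r)
    (hpK : p ∣ Nat.card K) (hqM : q ∣ Nat.card (M.map (QuotientGroup.mk' K)))
    (hrG : r ∣ M.index)
    (npq : NonAdj G p q) (npr : NonAdj G p r) (nqr : NonAdj G q r) : False := by
  haveI := Fact.mk hp; haveI := Fact.mk hq; haveI := Fact.mk hr
  obtain ⟨P0⟩ : Nonempty (Sylow p ↥K) := inferInstance
  set P : Subgroup G := (P0 : Subgroup ↥K).map K.subtype with hP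
  have hPne : P ≠ ⊥ := by
    intro h
    have h1 : p ∣ Nat.card (P0 : Subgroup ↥K) := P0.dvd_card_of_dvd_card hpK
    rw [← Subgroup.card_map_of_injective (f := K.subtype) K.subtype_injective, ← hP, h,
      Subgroup.card_bot] at h1
    exact hp.not_dvd_one h1
  have hPp : IsPGroup p P := P0.isPGroup'.map _
  set N := Subgroup.normalizer (P : Set G) with hN
  have htop : N ⊔ K = ⊤ := Sylow.normalizer_sup_eq_top P0
  set π := QuotientGroup.mk' K with hπ
  -- a Sylow subgroup in the middle
  have hMmap : (N ⊓ M).map π = M.map π := by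
    refine le_antisymm (Subgroup.map_mono inf_le_right) ?_
    rintro _ ⟨m, hm, rfl⟩
    have hm' : m ∈ N ⊔ K := by rw [htop]; trivial
    obtain ⟨n, hn, k, hk, rfl⟩ := Subgroup.mem_sup_of_normal_right.1 hm'
    refine ⟨n, ⟨hn, by simpa using M.mul_mem hm (M.inv_mem (hKM hk))⟩, ?_⟩
    rw [map_mul, show π k = 1 from (QuotientGroup.eq_one_iff _).2 hk, mul_one]
  have hqNM : q ∣ Nat.card ↥(N ⊓ M) := by
    rw [← hMmap] at hqM
    exact hqM.trans (Subgroup.card_map_dvd _ π)
  obtain ⟨Q0⟩ : Nonempty (Sylow q ↥(N ⊓ M)) := inferInstance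
  set Q : Subgroup G := (Q0 : Subgroup ↥(N ⊓ M)).map (N ⊓ M).subtype with hQ
  have hQne : Q ≠ ⊥ := by
    intro h
    have h1 : q ∣ Nat.card (Q0 : Subgroup ↥(N ⊓ M)) := Q0.dvd_card_of_dvd_card hqNM
    rw [← Subgroup.card_map_of_injective (f := (N ⊓ M).subtype) (N ⊓ M).subtype_injective, ← hQ, h,
      Subgroup.card_bot] at h1
    exact hq.not_dvd_one h1
  have hQq : IsPGroup q Q := Q0.isPGroup'.map _
  have hQNM : Q ≤ N ⊓ M := Subgroup.map_subtype_le _
  -- an element on top normalizing both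
  have hfr : ∀ n ∈ N, ∃ m ∈ N ⊓ M, m * n ∈ Subgroup.normalizer (Q : Set G) := by
    intro n hn
    have hnorm : n ∈ Subgroup.normalizer ((N ⊓ M : Subgroup G) : Set G) := by
      refine Subgroup.mem_normalizer_iff.2 fun x => ?_
      simp only [Subgroup.mem_inf]
      constructor
      · exact fun hx => ⟨N.mul_mem (N.mul_mem hn hx.1) (N.inv_mem hn),
          Subgroup.Normal.conj_mem ‹M.Normal› x hx.2 n⟩
      · intro hx
        have h1 := N.mul_mem (N.mul_mem (N.inv_mem hn) hx.1) hn
        have h2 := Subgroup.Normal.conj_mem ‹M.Normal› _ hx.2 n⁻¹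
        simp only [mul_assoc, inv_mul_cancel_left, inv_mul_cancel, mul_one, inv_inv] at h1 h2
        exact ⟨h1, h2⟩
    let φ : MulAut ↥(N ⊓ M) := Subgroup.normalizerMonoidHom (N ⊓ M) ⟨n, hnorm⟩
    obtain ⟨m, hm⟩ := MulAction.exists_smul_eq ↥(N ⊓ M) (φ • Q0) Q0
    refine ⟨m, m.2, Subgroup.mem_normalizer_fintype fun x hx => ?_⟩
    obtain ⟨x0, hx0, rfl⟩ := hx
    have h1 : φ x0 ∈ ((φ • Q0 : Sylow q ↥(N ⊓ M)) : Subgroup ↥(N ⊓ M)) := by
      rw [Sylow.pointwise_smul_def]
      exact Subgroup.smul_mem_pointwise_smul x0 φ _ hx0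
    have h2 : m * φ x0 * m⁻¹ ∈ (Q0 : Subgroup ↥(N ⊓ M)) := by
      rw [← hm, Sylow.coe_subgroup_smul]
      exact Subgroup.smul_mem_pointwise_smul (φ x0) (MulAut.conj m) _ h1
    refine ⟨_, h2, ?_⟩
    show ((m * φ x0 * m⁻¹ : ↥(N ⊓ M)) : G) = (m : G) * n * (x0 : G) * ((m : G) * n)⁻¹
    rw [mul_inv_rev]
    show (m : G) * (n * (x0 : G) * n⁻¹) * (m : G)⁻¹ = _
    group
  have htopM : (N ⊓ Subgroup.normalizer (Q : Set G)).map (QuotientGroup.mk' M) = ⊤ := by
    rw [eq_top_iff]
    rintro y -
    obtain ⟨g, rfl⟩ := QuotientGroup.mk'_surjective M y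
    have hg : g ∈ N ⊔ K := by rw [htop]; trivial
    obtain ⟨n, hn, k, hk, rfl⟩ := Subgroup.mem_sup_of_normal_right.1 hg
    obtain ⟨m, hm, hmn⟩ := hfr n hn
    refine ⟨m * n, ⟨N.mul_mem hm.1 hn, hmn⟩, ?_⟩
    rw [map_mul, map_mul, show QuotientGroup.mk' M m = 1 from (QuotientGroup.eq_one_iff _).2 hm.2,
      show QuotientGroup.mk' M k = 1 from (QuotientGroup.eq_one_iff _).2 (hKM hk), one_mul, mul_one]
  have hrR : r ∣ Nat.card ↥(N ⊓ Subgroup.normalizer (Q : Set G)) := by
    refine dvd_trans ?_ (Subgroup.card_map_dvd _ (QuotientGroup.mk' M))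
    rw [htopM, Subgroup.card_top, ← Subgroup.index_eq_card]
    exact hrG
  obtain ⟨b0, hb0⟩ := exists_prime_orderOf_dvd_card' r hrR
  set b : G := (b0 : G) with hb
  have hbo : orderOf b = r := by rw [hb, Subgroup.orderOf_coe, hb0]
  have hdvd : ∀ x ∈ Q, x ≠ 1 → q ∣ orderOf x := by
    intro x hx hx1
    obtain ⟨k, hk⟩ := hQq ⟨x, hx⟩
    have h1 : orderOf x ∣ q ^ k := orderOf_dvd_of_pow_eq_one (by simpa using congrArg Subtype.val hk)
    obtain ⟨j, -, hj⟩ := (Nat.dvd_prime_pow hq).1 h1
    rw [hj]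
    rcases j.eq_zero_or_pos with rfl | hj0
    · rw [pow_zero, orderOf_eq_one_iff] at hj; exact absurd hj hx1
    · exact dvd_pow_self q hj0.ne'
  have hbQ : b ∈ Subgroup.normalizer (Q : Set G) := (Subgroup.mem_inf.1 b0.2).2
  refine hPne (CfsgLib.Core.eq_bot_of_fpf (K := P) (Q := Q) (b := b) (q := q) hr hbo hQq hQne
    hbQ ?_ ?_ ?_)
  · exact sup_le (hQNM.trans inf_le_left) (by rw [Subgroup.zpowers_le]; exact b0.2.1)
  · intro x hx hxb
    by_contra hx1
    exact not_commute hq hr hqr nqr (hdvd x hx hx1) (hbo ▸ dvd_rfl) hxb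
  · intro g hg hg1 v hv hgv
    by_contra hv1
    have hvd : p ∣ orderOf v := by
      obtain ⟨k, hk⟩ := hPp ⟨v, hv⟩
      have h1 : orderOf v ∣ p ^ k := orderOf_dvd_of_pow_eq_one (by simpa using congrArg Subtype.val hk)
      obtain ⟨j, -, hj⟩ := (Nat.dvd_prime_pow hp).1 h1
      rw [hj]
      rcases j.eq_zero_or_pos with rfl | hj0
      · rw [pow_zero, orderOf_eq_one_iff] at hj; exact absurd hj hv1
      · exact dvd_pow_self p hj0.ne'
    -- prime divisors of the order of g
    set NQ := Subgroup.normalizer (Q : Set G)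
    have hle : Q ⊔ Subgroup.zpowers b ≤ NQ :=
      sup_le Subgroup.le_normalizer (by rw [Subgroup.zpowers_le]; exact hbQ)
    haveI : (Q.subgroupOf NQ).Normal :=
      (Subgroup.normal_subgroupOf_iff_le_normalizer Subgroup.le_normalizer).2 le_rfl
    set ρ := QuotientGroup.mk' (Q.subgroupOf NQ)
    have himg : ((Q ⊔ Subgroup.zpowers b).subgroupOf NQ) ≤
        (Subgroup.zpowers (ρ ⟨b, hbQ⟩)).comap ρ := by
      rw [Subgroup.subgroupOf_sup Subgroup.le_normalizer (by rw [Subgroup.zpowers_le]; exact hbQ)]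
      refine sup_le ?_ ?_
      · intro z hz
        rw [Subgroup.mem_comap, show ρ z = 1 from (QuotientGroup.eq_one_iff _).2 hz]
        exact one_mem _
      · intro z hz
        rw [Subgroup.mem_subgroupOf] at hz
        obtain ⟨i, hi⟩ := Subgroup.mem_zpowers_iff.1 hz
        refine Subgroup.mem_comap.2 (Subgroup.mem_zpowers_iff.2 ⟨i, ?_⟩)
        rw [← map_zpow]
        exact congrArg ρ (Subtype.ext (by simpa using hi))
    have hz := himg (x := ⟨g, hle hg⟩) (Subgroup.mem_subgroupOf.2 hg)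
    obtain ⟨i, hi⟩ := Subgroup.mem_zpowers_iff.1 (Subgroup.mem_comap.1 hz)
    have hgr : g ^ r ∈ Q := by
      have h1 : ρ (⟨g, hle hg⟩ ^ r) = 1 := by
        rw [map_pow, ← hi, ← zpow_natCast, ← zpow_mul, mul_comm, zpow_mul, zpow_natCast, ← map_pow,
          show (⟨b, hbQ⟩ : NQ) ^ r = 1 from Subtype.ext (by
            rw [← hbo]; simpa using pow_orderOf_eq_one b), map_one, one_zpow]
      have h2 := Subgroup.mem_subgroupOf.1 ((QuotientGroup.eq_one_iff _).1 h1)
      simpa using h2
    rcases eq_or_ne (g ^ r) 1 with h0 | h0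
    · have : orderOf g = r := orderOf_eq_prime h0 hg1
      exact not_commute hp hr hpr npr hvd (this ▸ dvd_rfl) hgv.symm
    · have : q ∣ orderOf g := (hdvd _ hgr h0).trans (orderOf_pow_dvd r)
      exact not_commute hp hq hpq npq hvd this hgv.symm

/-- A solvable normal subgroup meets three pairwise nonadjacent primes in at most one. -/
theorem at_most_one : ∀ (n : ℕ) (K : Subgroup G), Nat.card K ≤ n → K.Normal → Group.IsSolvable K →
    ∀ {r s t : ℕ}, r.Prime → s.Prime → t.Prime → r ≠ s → r ≠ t → s ≠ t →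
      r ∣ Nat.card K → s ∣ Nat.card K → t ∣ Nat.card G →
      NonAdj G r s → NonAdj G r t → NonAdj G s t → False := by
  intro n
  induction n with
  | zero =>
    intro K hK
    exact absurd hK (by have := Nat.card_pos (α := K); omega)
  | succ n ih =>
    intro K hK hKn hKs r s t hr hs ht hrs hrt hst hrK hsK htG nrs nrt nst
    haveI := hKn
    haveI := hKs
    haveI : Nontrivial K := Finite.one_lt_card_iff_nontrivial.1
      (lt_of_lt_of_le hr.one_lt (Nat.le_of_dvd Nat.card_pos hrK))
    set L : Subgroup G := ⁅K, K⁆ with hL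
    haveI hLn : L.Normal := Subgroup.commutator_normal K K
    have hLK : L ≤ K := Subgroup.commutator_le_self K
    have hmapL : (commutator ↥K).map K.subtype = L := by
      rw [commutator_def, Subgroup.map_commutator, ← MonoidHom.range_eq_map, Subgroup.range_subtype]
    have hcardL : Nat.card (commutator ↥K) = Nat.card L := by
      rw [← hmapL, Subgroup.card_map_of_injective K.subtype_injective]
    have hlt : Nat.card L ≤ n := by
      have h1 : commutator ↥K < ⊤ := IsSolvable.commutator_lt_top_of_nontrivial ↥K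
      have h2 : Nat.card (commutator ↥K) < Nat.card K := by
        refine lt_of_le_of_ne (Subgroup.card_le_card_group _) fun h => h1.ne ?_
        exact Subgroup.eq_top_of_card_eq _ h
      omega
    haveI : Group.IsSolvable L := solvable_of_solvable_injective (Subgroup.inclusion_injective hLK)
    have hmul : Nat.card K = Nat.card L * (commutator ↥K).index := by
      rw [← hcardL, Subgroup.card_mul_index]
    -- two primes in the abelian section give an edge
    have hab : ∀ {a b : ℕ}, a.Prime → b.Prime → a ≠ b → a ∣ (commutator ↥K).index →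
        b ∣ (commutator ↥K).index → NonAdj G a b → False := by
      intro a b ha hb hne hda hdb hn
      haveI := Fact.mk ha; haveI := Fact.mk hb
      rw [Subgroup.index_eq_card] at hda hdb
      obtain ⟨y, hy⟩ := exists_prime_orderOf_dvd_card' a hda
      obtain ⟨z, hz⟩ := exists_prime_orderOf_dvd_card' b hdb
      have hc : Commute y z := @mul_comm (Abelianization ↥K) _ y z
      have hyz : orderOf (y * z) = a * b := by
        rw [hc.orderOf_mul_eq_mul_orderOf_of_coprime, hy, hz]
        rw [hy, hz]; exact (Nat.coprime_primes ha hb).2 hne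
      obtain ⟨w, hw⟩ := QuotientGroup.mk_surjective (y * z)
      have hd : a * b ∣ orderOf (w : G) := by
        rw [Subgroup.orderOf_coe, ← hyz, ← hw]
        exact orderOf_map_dvd (QuotientGroup.mk' (commutator ↥K)) w
      exact hn ⟨(w : G) ^ (orderOf (w : G) / (a * b)),
        orderOf_pow_orderOf_div (orderOf_pos _).ne' hd⟩
    -- one prime above, one below
    have hmix : ∀ {a b : ℕ}, a.Prime → b.Prime → a ≠ b → a ≠ t → b ≠ t → a ∣ Nat.card L →
        b ∣ (commutator ↥K).index →
        NonAdj G a b → NonAdj G a t → NonAdj G b t → False := by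
      intro a b ha hb hab' hat hbt haL hbI nab nat nbt
      rw [← K.card_mul_index] at htG
      rcases ht.dvd_mul.1 htG with htK | htK
      · rw [hmul] at htK
        rcases ht.dvd_mul.1 htK with htL | htI
        · exact ih L hlt hLn ‹_› ha ht hb hat hab' hbt.symm haL htL
            (hbI.trans ((Subgroup.index_dvd_card _).trans (Subgroup.card_subgroup_dvd_card K)))
            nat nab nbt.symm
        · exact hab hb ht hbt hbI htI nbt
      · refine no_three L K hLK ha hb ht hab' hat hbt haL ?_ htK nab nat nbt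
        have h1 := card_quot L K hLK
        rw [hmul] at h1
        rw [← Nat.eq_of_mul_eq_mul_left Nat.card_pos h1]
        exact hbI
    rw [hmul] at hrK hsK
    rcases hr.dvd_mul.1 hrK with hrL | hrI <;> rcases hs.dvd_mul.1 hsK with hsL | hsI
    · exact ih L hlt hLn ‹_› hr hs ht hrs hrt hst hrL hsL htG nrs nrt nst
    · exact hmix hr hs hrs hrt hst hrL hsI nrs nrt nst
    · exact hmix hs hr hrs.symm hst hrt hsL hrI nrs.symm nst nrt
    · exact hab hr hs hrs hrI hsI nrs

end Cfsg.Agent.PrimeGraphThree
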