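import Cfsg.Agent.Lib.DicksonMain

/-!
# Two quadratic elements and `SL₂`

Two quadratically acting generators of a linear group that is not a `p`-group map onto the
generators `!![1, c; 0, 1]`, `!![1, 0; 1, 1]` of a subgroup of `SL₂` over a finite field.
-/

set_option autoImplicit false
set_option linter.style.haveILetI false

universe u v w

namespace CfsgLib.QuadPair

open CfsgLib.Dickson
open scoped IsMulCommutative

variable {H : Type v} [Group H] [Finite H] {K : Type u} [Field K] {p : ℕ} [hp : Fact p.Prime]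
  [CharP K p]

omit hp in
theorem mem_of_generators {a b : H} (hgen : Subgroup.closure ({a, b} : Set H) = ⊤) (S : Submonoid H)
    (ha : a ∈ S) (hb : b ∈ S) (h : H) : h ∈ S := by
  have h1 : h ∈ (Subgroup.closure ({a, b} : Set H)).toSubmonoid := by
    rw [hgen]; trivial
  rw [Subgroup.closure_toSubmonoid_of_finite] at h1
  exact Submonoid.closure_le.2 (by rintro x (rfl | rfl) <;> assumption) h1

omit [Finite H] in
theorem eq_one_of_pow {M : Type*} [Monoid M] (ρ : H →* M) {g : H} (hg : ¬ p ∣ orderOf g)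
    (h : ρ g ^ p = 1) : ρ g = 1 := by
  obtain ⟨m, hm⟩ := exists_pow_eq_self_of_coprime ((hp.out.coprime_iff_not_dvd).2 hg)
  calc ρ g = ρ ((g ^ p) ^ m) := by rw [hm]
    _ = 1 := by rw [map_pow, map_pow, h, one_pow]

theorem pow_eq_one_of_sq {W : Type w} [AddCommGroup W] [Module K W] {x : Module.End K W}
    (h : (x - 1) ^ 2 = 0) : x ^ p = 1 := by
  rcases subsingleton_or_nontrivial W with hW | hW
  · exact Subsingleton.elim _ _
  haveI : Nontrivial (Module.End K W) := inferInstance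
  haveI : CharP (Module.End K W) p :=
    charP_of_injective_algebraMap (algebraMap K (Module.End K W)).injective p
  have h1 : (x - 1) ^ p = x ^ p - 1 := by
    rw [sub_pow_char_of_commute p (Commute.one_right x), one_pow]
  obtain ⟨k, hk⟩ := Nat.exists_eq_add_of_le hp.out.two_le
  rw [← sub_eq_zero, ← h1, hk, pow_add, h, zero_mul]

/-- The conclusion of the quadratic pair theorem. -/
def HasSLTwo (K : Type u) [Field K] {M : Type*} [Monoid M] (ρ : H →* M) (a b g : H) : Prop :=
  ∃ (E : Type w) (_ : Field E) (_ : Algebra K E) (_ : Finite E) (φ : H →* SL E) (c : E),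
    c ≠ 0 ∧ φ a = upperU c ∧ φ b = lowerU 1 ∧ φ g ≠ 1 ∧ ∀ h, ρ h = 1 → φ h = 1

/-- The natural action of a two by two matrix on pairs. -/
def act {E : Type w} [Field E] (M : SL E) (v : E × E) : E × E :=
  (M.1 0 0 * v.1 + M.1 0 1 * v.2, M.1 1 0 * v.1 + M.1 1 1 * v.2)

/-- The quadratic pair theorem with the constituent on which the natural action appears. -/
def HasModule (K : Type u) [Field K] {W : Type w} [AddCommGroup W] [Module K W]
    (ρ : H →* Module.End K W) (a b g : H) : Prop :=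
  ∃ (E : Type w) (_ : Field E) (_ : Algebra K E) (_ : Finite E) (φ : H →* SL E) (c : E),
    c ≠ 0 ∧ φ a = upperU c ∧ φ b = lowerU 1 ∧ φ g ≠ 1 ∧ (∀ h, ρ h = 1 → φ h = 1) ∧
      ∃ (U : Submodule K W) (θ : U →ₗ[K] E × E) (hU : ∀ h, ∀ x ∈ U, ρ h x ∈ U),
        Function.Surjective θ ∧ ∀ (h : H) (x : U), θ ⟨ρ h x, hU h x x.2⟩ = act (φ h) (θ x)

omit [Finite H] in
theorem HasModule.hasSLTwo {W : Type w} [AddCommGroup W] [Module K W] {ρ : H →* Module.End K W}
    {a b g : H} (h : HasModule K ρ a b g) : HasSLTwo.{u, v, w} K ρ a b g := by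
  obtain ⟨E, i1, i2, i3, φ, c, h1, h2, h3, h4, h5, -⟩ := h
  exact ⟨E, i1, i2, i3, φ, c, h1, h2, h3, h4, h5⟩

/-- The irreducible case. -/
theorem hasSLTwo_of_irreducible {W : Type w} [AddCommGroup W] [Module K W] [Finite W]
    (ρ : H →* Module.End K W) {a b g : H} (hgen : Subgroup.closure ({a, b} : Set H) = ⊤)
    (ha : (ρ a - 1) ^ 2 = 0) (hb : (ρ b - 1) ^ 2 = 0) (hA0 : ρ a ≠ 1) (hg : ρ g ≠ 1)
    (hirr : ∀ U : Submodule K W, (∀ x ∈ U, ρ a x ∈ U) → (∀ x ∈ U, ρ b x ∈ U) → U = ⊥ ∨ U = ⊤) :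
    HasModule K ρ a b g := by
  set A := ρ a - 1 with hA
  set B := ρ b - 1 with hB
  have hAA : A * A = 0 := by rw [← pow_two]; exact ha
  have hBB : B * B = 0 := by rw [← pow_two]; exact hb
  have hρa : ∀ x, ρ a x = x + A x := fun x => by simp [hA]
  have hρb : ∀ x, ρ b x = x + B x := fun x => by simp [hB]
  have hirr' : ∀ U : Submodule K W, U ≠ ⊥ → (∀ x ∈ U, A x ∈ U) → (∀ x ∈ U, B x ∈ U) → U = ⊤ :=
    fun U hU h1 h2 => (hirr U (fun x hx => by rw [hρa]; exact U.add_mem hx (h1 x hx))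
      (fun x hx => by rw [hρb]; exact U.add_mem hx (h2 x hx))).resolve_left hU
  have hAne : A ≠ 0 := fun e => hA0 (sub_eq_zero.1 e)
  obtain ⟨x₀, hx₀⟩ : ∃ x, A x ≠ 0 := by
    by_contra hc
    push Not at hc
    exact hAne (LinearMap.ext hc)
  set v := A x₀ with hv
  have hv0 : v ≠ 0 := hx₀
  have hAv : A v = 0 := LinearMap.congr_fun hAA x₀
  set u := B v with hu
  have hBu : B u = 0 := LinearMap.congr_fun hBB v
  set c := A * B + B * A with hc
  have hAc : A * c = c * A := by
    rw [hc, mul_add, add_mul, ← mul_assoc, hAA, zero_mul, zero_add, mul_assoc B A A, hAA,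
      mul_zero, add_zero, mul_assoc]
  have hBc : B * c = c * B := by
    rw [hc, mul_add, add_mul, ← mul_assoc B B A, hBB, zero_mul, add_zero, mul_assoc A B B, hBB,
      mul_zero, zero_add, mul_assoc]
  have hAu : A u = c v := by
    rw [hc, LinearMap.add_apply, Module.End.mul_apply, Module.End.mul_apply, hAv, map_zero,
      add_zero]
  have hline : ∀ y : W, A y = 0 → B y = 0 → y = 0 := by
    intro y h1 h2
    by_contra hy
    refine hAne (LinearMap.ext fun z => ?_)
    have hz : z ∈ Submodule.span K ({y} : Set W) := by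
      rw [hirr' (Submodule.span K ({y} : Set W)) (by simpa using hy) (fun x hx => ?_) (fun x hx => ?_)]
      · trivial
      all_goals
        obtain ⟨k, rfl⟩ := Submodule.mem_span_singleton.1 hx
        simp [h1, h2]
    obtain ⟨k, rfl⟩ := Submodule.mem_span_singleton.1 hz
    simp [h1]
  have hu0 : u ≠ 0 := fun e => hv0 (hline v hAv e)
  have hcv : c v ≠ 0 := fun e => hu0 (hline u (hAu.trans e) hBu)
  set E := Algebra.adjoin K ({c} : Set (Module.End K W)) with hE
  have hEcomm : ∀ e ∈ E, Commute e A ∧ Commute e B := by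
    intro e he
    have h1 : E ≤ Subalgebra.centralizer K ({A, B} : Set (Module.End K W)) := by
      rw [hE, Algebra.adjoin_le_iff]
      rintro _ rfl
      rw [SetLike.mem_coe, Subalgebra.mem_centralizer_iff]
      rintro y (rfl | rfl)
      · exact hAc
      · exact hBc
    have h2 := Subalgebra.mem_centralizer_iff K |>.1 (h1 he)
    exact ⟨(h2 A (by simp)).symm, (h2 B (by simp)).symm⟩
  have hkill : ∀ e ∈ E, ∀ y : W, y ≠ 0 → e y = 0 → e = 0 := by
    intro e he y hy hey
    obtain ⟨cA, cB⟩ := hEcomm e he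
    refine LinearMap.ker_eq_top.1 (hirr' _ ?_ (fun x hx => ?_) (fun x hx => ?_))
    · intro hbot
      exact hy ((Submodule.mem_bot K).1 (hbot ▸ LinearMap.mem_ker.2 hey))
    · rw [LinearMap.mem_ker] at hx ⊢
      rw [← Module.End.mul_apply, cA.eq, Module.End.mul_apply, hx, map_zero]
    · rw [LinearMap.mem_ker] at hx ⊢
      rw [← Module.End.mul_apply, cB.eq, Module.End.mul_apply, hx, map_zero]
  haveI : Nontrivial W := ⟨v, 0, hv0⟩
  haveI : Finite (Module.End K W) := Finite.of_injective _ DFunLike.coe_injective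
  haveI : Finite ↥E := Subtype.finite
  haveI : NoZeroDivisors ↥E := ⟨fun {x y} hxy => by
    rcases eq_or_ne y 0 with hy | hy
    · exact Or.inr hy
    obtain ⟨z, hz⟩ : ∃ z, (y : Module.End K W) z ≠ 0 := by
      by_contra hc
      push Not at hc
      exact hy (Subtype.ext (LinearMap.ext hc))
    exact Or.inl (Subtype.ext (hkill x.1 x.2 _ hz (LinearMap.congr_fun (congrArg Subtype.val hxy) z)))⟩
  haveI : IsDomain ↥E := NoZeroDivisors.to_isDomain _
  letI instF : Field ↥E := (Finite.isField_of_domain ↥E).toField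
  let c' : ↥E := ⟨c, Algebra.subset_adjoin rfl⟩
  have hc'0 : c' ≠ 0 := fun e => hcv (by
    rw [show c = 0 from congrArg Subtype.val e]; rfl)
  let Φ : ↥E × ↥E →ₗ[K] W :=
    { toFun := fun st => (st.1 : Module.End K W) v + (st.2 : Module.End K W) u
      map_add' := fun x y => by simp; abel
      map_smul' := fun k x => by simp [smul_add] }
  have hΦ : ∀ st : ↥E × ↥E, Φ st = (st.1 : Module.End K W) v + (st.2 : Module.End K W) u :=
    fun _ => rfl
  have hAΦ : ∀ s t : ↥E, A (Φ (s, t)) = Φ (c' * t, 0) := by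
    intro s t
    have cs := (hEcomm s.1 s.2).1
    have ct := (hEcomm t.1 t.2).1
    have hct : Commute (c' : Module.End K W) (t : Module.End K W) :=
      congrArg Subtype.val (mul_comm c' t)
    simp only [hΦ, map_add, Subalgebra.coe_mul, Subalgebra.coe_zero, LinearMap.zero_apply, add_zero]
    rw [← Module.End.mul_apply A, ← cs.eq, Module.End.mul_apply, hAv, map_zero, zero_add,
      ← Module.End.mul_apply A, ← ct.eq, Module.End.mul_apply, hAu, ← Module.End.mul_apply,
      hct.eq]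
  have hBΦ : ∀ s t : ↥E, B (Φ (s, t)) = Φ (0, s) := by
    intro s t
    have cs := (hEcomm s.1 s.2).2
    have ct := (hEcomm t.1 t.2).2
    simp only [hΦ, map_add, Subalgebra.coe_zero, LinearMap.zero_apply, zero_add]
    rw [← Module.End.mul_apply B, ← cs.eq, Module.End.mul_apply, ← hu,
      ← Module.End.mul_apply B, ← ct.eq, Module.End.mul_apply, hBu, map_zero, add_zero]
  have hΦ10 : Φ (1, 0) = v := by simp [hΦ]
  have hΦi : Function.Injective Φ := by
    rw [← LinearMap.ker_eq_bot, eq_bot_iff]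
    rintro ⟨s, t⟩ hst
    rw [LinearMap.mem_ker] at hst
    have h1 := hAΦ s t
    rw [hst, map_zero, hΦ] at h1
    simp only [Subalgebra.coe_zero, LinearMap.zero_apply, add_zero] at h1
    have ht : t = 0 := (mul_eq_zero.1 (Subtype.ext (hkill _ (c' * t).2 v hv0 h1.symm) :
      c' * t = 0)).resolve_left hc'0
    subst ht
    rw [hΦ] at hst
    simp only [Subalgebra.coe_zero, LinearMap.zero_apply, add_zero] at hst
    have hs : s = 0 := Subtype.ext (hkill _ s.2 v hv0 hst)
    subst hs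
    rfl
  have hΦs : Function.Surjective Φ := by
    rw [← LinearMap.range_eq_top]
    refine hirr' _ (fun e => hv0 ((Submodule.mem_bot K).1 (e ▸ ⟨(1, 0), hΦ10⟩))) ?_ ?_
    · rintro _ ⟨⟨s, t⟩, rfl⟩
      exact ⟨_, (hAΦ s t).symm⟩
    · rintro _ ⟨⟨s, t⟩, rfl⟩
      exact ⟨_, (hBΦ s t).symm⟩
  let R : H → SL ↥E → Prop := fun h M =>
    ∀ s t : ↥E, ρ h (Φ (s, t)) = Φ (M.1 0 0 * s + M.1 0 1 * t, M.1 1 0 * s + M.1 1 1 * t)
  have hR1 : R 1 1 := fun s t => by simp
  have hRm : ∀ h k M N, R h M → R k N → R (h * k) (M * N) := by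
    intro h k M N hM hN s t
    rw [map_mul, Module.End.mul_apply, hN s t, hM]
    refine congrArg Φ (Prod.ext ?_ ?_) <;>
      simp [Matrix.mul_apply, Fin.sum_univ_two] <;> ring
  have hRa : R a (upperU c') := fun s t => by
    rw [hρa, hAΦ, ← map_add]
    simp [coe_upperU]
  have hRb : R b (lowerU 1) := fun s t => by
    rw [hρb, hBΦ, ← map_add]
    simp [coe_lowerU, add_comm]
  have hex : ∀ h, ∃ M, R h M := mem_of_generators hgen
    { carrier := {h | ∃ M, R h M}
      one_mem' := ⟨1, hR1⟩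
      mul_mem' := fun ⟨M, hM⟩ ⟨N, hN⟩ => ⟨M * N, hRm _ _ M N hM hN⟩ } ⟨_, hRa⟩ ⟨_, hRb⟩
  have huniq : ∀ {h M N}, R h M → R h N → M = N := by
    intro h M N hM hN
    have h1 := hΦi ((hM 1 0).symm.trans (hN 1 0))
    have h2 := hΦi ((hM 0 1).symm.trans (hN 0 1))
    simp only [mul_one, mul_zero, add_zero, zero_add, Prod.mk.injEq] at h1 h2
    exact sl_ext h1.1 h2.1 h1.2 h2.2
  let φ : H →* SL ↥E := MonoidHom.mk' (fun h => (hex h).choose) fun h k =>
    huniq (hex (h * k)).choose_spec (hRm _ _ _ _ (hex h).choose_spec (hex k).choose_spec)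
  have hφ : ∀ h, R h (φ h) := fun h => (hex h).choose_spec
  let Φe : (↥E × ↥E) ≃ₗ[K] W := LinearEquiv.ofBijective Φ ⟨hΦi, hΦs⟩
  refine ⟨↥E, instF, Subalgebra.algebra E, inferInstance, φ, c', hc'0, huniq (hφ a) hRa,
    huniq (hφ b) hRb, fun e => hg ?_, fun h hh => huniq (hφ h) (fun s t => by rw [hh]; simp),
    ⊤, Φe.symm.toLinearMap.comp (Submodule.subtype ⊤), fun _ _ _ => Submodule.mem_top,
    fun y => ⟨⟨Φe y, Submodule.mem_top⟩, Φe.symm_apply_apply y⟩, fun h x => ?_⟩
  rotate_left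
  · obtain ⟨⟨s, t⟩, hst⟩ := hΦs (x : W)
    have h1 : Φe.symm (x : W) = (s, t) := by rw [← hst]; exact Φe.symm_apply_apply (s, t)
    show Φe.symm (ρ h (x : W)) = act (φ h) (Φe.symm (x : W))
    rw [h1, ← hst, hφ h s t]
    exact Φe.symm_apply_apply _
  refine LinearMap.ext fun x => ?_
  obtain ⟨⟨s, t⟩, rfl⟩ := hΦs x
  rw [hφ g s t, e]
  simp

/-- Two quadratic generators such that an element of order prime to `p` acts nontrivially. -/
theorem hasModule_of_quadratic {W : Type w} [AddCommGroup W] [Module K W] [Finite W]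
    (ρ : H →* Module.End K W) {a b g : H} (hgen : Subgroup.closure ({a, b} : Set H) = ⊤)
    (ha : (ρ a - 1) ^ 2 = 0) (hb : (ρ b - 1) ^ 2 = 0) (hg : ¬ p ∣ orderOf g) (hg1 : ρ g ≠ 1) :
    HasModule K ρ a b g := by
  obtain ⟨n, hn⟩ : ∃ n, Nat.card W = n := ⟨_, rfl⟩
  induction n using Nat.strong_induction_on generalizing W with
  | h n ih =>
  have hA0 : ρ a ≠ 1 := by
    intro e
    refine hg1 (eq_one_of_pow ρ hg ?_)
    obtain ⟨m, hm⟩ := mem_of_generators hgen
      { carrier := {h | ∃ m : ℕ, ρ h = ρ b ^ m}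
        one_mem' := ⟨0, by simp⟩
        mul_mem' := fun ⟨m, hm⟩ ⟨k, hk⟩ => ⟨m + k, by rw [map_mul, hm, hk, pow_add]⟩ }
      ⟨0, by rw [e, pow_zero]⟩ ⟨1, (pow_one _).symm⟩ g
    rw [hm, ← pow_mul, mul_comm, pow_mul, pow_eq_one_of_sq hb, one_pow]
  by_cases hirr : ∀ U : Submodule K W, (∀ x ∈ U, ρ a x ∈ U) → (∀ x ∈ U, ρ b x ∈ U) → U = ⊥ ∨ U = ⊤
  · exact hasSLTwo_of_irreducible ρ hgen ha hb hA0 hg1 hirr
  push Not at hirr
  obtain ⟨U, hUa, hUb, hUbot, hUtop⟩ := hirr
  have hU : ∀ h, ∀ x ∈ U, ρ h x ∈ U := mem_of_generators hgen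
    { carrier := {h | ∀ x ∈ U, ρ h x ∈ U}
      one_mem' := fun x hx => by simpa using hx
      mul_mem' := fun {h k} hh hk x hx => by rw [map_mul]; exact hh _ (hk x hx) } hUa hUb
  let ρU : H →* Module.End K U :=
    { toFun := fun h => (ρ h).restrict (hU h)
      map_one' := by ext x; simp
      map_mul' := fun h k => by ext x; simp }
  let ρQ : H →* Module.End K (W ⧸ U) :=
    { toFun := fun h => U.mapQ U (ρ h) (hU h)
      map_one' := by
        refine Submodule.linearMap_qext _ (LinearMap.ext fun x => ?_)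
        simp
      map_mul' := fun h k => by
        refine Submodule.linearMap_qext _ (LinearMap.ext fun x => ?_)
        simp }
  have hqU : ∀ h, (ρ h - 1) ^ 2 = 0 → (ρU h - 1) ^ 2 = 0 := by
    intro h e
    refine LinearMap.ext fun x => Subtype.ext ?_
    simpa [pow_two, ρU] using LinearMap.congr_fun e x.1
  have hqQ : ∀ h, (ρ h - 1) ^ 2 = 0 → (ρQ h - 1) ^ 2 = 0 := by
    intro h e
    refine Submodule.linearMap_qext _ (LinearMap.ext fun x => ?_)
    have := congrArg (Submodule.Quotient.mk (p := U)) (LinearMap.congr_fun e x)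
    simpa [pow_two, ρQ] using this
  haveI : Finite (W ⧸ U) := Finite.of_surjective _ (Submodule.Quotient.mk_surjective U)
  by_cases hwU : ρU g = 1
  · by_cases hwQ : ρQ g = 1
    · refine absurd (eq_one_of_pow ρ hg (pow_eq_one_of_sq ?_)) hg1
      refine LinearMap.ext fun x => ?_
      have h1 : ρ g x - x ∈ U := (Submodule.Quotient.eq U).1
        (LinearMap.congr_fun hwQ (Submodule.Quotient.mk x))
      have h2 := congrArg Subtype.val (LinearMap.congr_fun hwU ⟨_, h1⟩)
      simp [ρU] at h2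
      rw [pow_two, Module.End.mul_apply, LinearMap.sub_apply, Module.End.one_apply,
        LinearMap.sub_apply, Module.End.one_apply, LinearMap.zero_apply, sub_eq_zero, map_sub, h2]
    · obtain ⟨E, i1, i2, i3, φ, c, h1, h2, h3, h4, h5, U', θ, hU', hθ, hθe⟩ := ih (Nat.card (W ⧸ U)) (by
          rw [← hn, Submodule.card_eq_card_quotient_mul_card U]
          haveI : Nontrivial U := Submodule.nontrivial_iff_ne_bot.2 hUbot
          exact lt_mul_of_one_lt_left Nat.card_pos Finite.one_lt_card) ρQ (hqQ a ha) (hqQ b hb) hwQ rfl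
      let π : U'.comap U.mkQ →ₗ[K] U' := U.mkQ.restrict (fun x hx => hx)
      refine ⟨E, i1, i2, i3, φ, c, h1, h2, h3, h4, fun h hh => h5 h ?_,
        U'.comap U.mkQ, θ.comp π, fun h x hx => ?_, hθ.comp ?_, fun h x => ?_⟩
      · refine Submodule.linearMap_qext _ (LinearMap.ext fun x => ?_)
        simp [ρQ, hh]
      · exact hU' h _ hx
      · rintro ⟨y, hy⟩
        obtain ⟨x, rfl⟩ := Submodule.Quotient.mk_surjective U y
        exact ⟨⟨x, hy⟩, rfl⟩
      · exact hθe h (π x)
  · obtain ⟨E, i1, i2, i3, φ, c, h1, h2, h3, h4, h5, U', θ, hU', hθ, hθe⟩ := ih (Nat.card U) (by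
        rw [← hn, Submodule.card_eq_card_quotient_mul_card U]
        haveI : Nontrivial (W ⧸ U) := Submodule.Quotient.nontrivial_iff.2 hUtop
        exact lt_mul_of_one_lt_right Nat.card_pos Finite.one_lt_card) ρU (hqU a ha) (hqU b hb) hwU rfl
    let e := Submodule.equivMapOfInjective U.subtype U.injective_subtype U'
    have hinv : ∀ h, ∀ x ∈ U'.map U.subtype, ρ h x ∈ U'.map U.subtype := by
      rintro h _ ⟨x, hx, rfl⟩
      exact ⟨_, hU' h x hx, rfl⟩
    refine ⟨E, i1, i2, i3, φ, c, h1, h2, h3, h4, fun h hh => h5 h ?_,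
      U'.map U.subtype, θ.comp e.symm.toLinearMap, hinv, hθ.comp e.symm.surjective, fun h x => ?_⟩
    · ext x
      simp [ρU, hh]
    · obtain ⟨y, rfl⟩ := e.surjective x
      have he : (⟨ρ h (e y : W), hinv h _ (e y).2⟩ : U'.map U.subtype) = e ⟨ρU h y, hU' h y y.2⟩ :=
        Subtype.ext rfl
      show θ (e.symm _) = act (φ h) (θ (e.symm (e y)))
      rw [he, e.symm_apply_apply, e.symm_apply_apply]
      exact hθe h y

/-- Two quadratic generators: the homomorphism to `SL₂`. -/
theorem hasSLTwo_of_quadratic {W : Type w} [AddCommGroup W] [Module K W] [Finite W]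
    (ρ : H →* Module.End K W) {a b g : H} (hgen : Subgroup.closure ({a, b} : Set H) = ⊤)
    (ha : (ρ a - 1) ^ 2 = 0) (hb : (ρ b - 1) ^ 2 = 0) (hg : ¬ p ∣ orderOf g) (hg1 : ρ g ≠ 1) :
    HasSLTwo.{u, v, w} K ρ a b g :=
  (hasModule_of_quadratic (p := p) ρ hgen ha hb hg hg1).hasSLTwo

end CfsgLib.QuadPair
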