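import Cfsg.Agent.Lib.QuadPairQd
import Cfsg.Agent.Lib.StableControlApps

/-!
# Freedom from `Qd(p)` or `SL₂(p)` and stability
-/

set_option autoImplicit false
set_option linter.style.haveILetI false

universe u v

namespace CfsgLib.QuadPair

open CfsgLib.Dickson
open scoped commutatorElement

variable {p : ℕ} [hp : Fact p.Prime]

theorem involves_of_isSec {G X : Type u} [Group G] [Group X] (hX : CfsgLib.Stable.IsSec X G)
    {M : Type v} [Group M] {Y : Subgroup X} (Φ : Y →* M) (hΦ : Function.Surjective Φ) :
    Cfsg.Involves M G := by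
  obtain ⟨K, f, hf⟩ := hX
  let Y' : Subgroup G := (Y.comap f).map K.subtype
  let e := (Y.comap f).equivMapOfInjective K.subtype K.subtype_injective
  refine involves_of_hom (Y := Y') ((Φ.comp (f.subgroupComap Y)).comp e.symm.toMonoidHom) ?_
  exact (hΦ.comp (f.subgroupComap_surjective_of_surjective Y hf)).comp e.symm.surjective

/-- Stability in the normalizer form from stability on normal subgroups of all subgroups. -/
theorem normalizerPStable_of_forall {X : Type u} [Group X] [Finite X]
    (h : ∀ (N : Subgroup X) (V : Subgroup N) [V.Normal], IsPGroup p V → ∀ a : N,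
      ⁅⁅V, Subgroup.zpowers a⁆, Subgroup.zpowers a⁆ = ⊥ →
        (QuotientGroup.mk a : N ⧸ Subgroup.centralizer (V : Set N)) ∈
          Cfsg.pCore p (N ⧸ Subgroup.centralizer (V : Set N))) :
    Cfsg.IsNormalizerPStable p X := by
  intro P hP g hg hq
  set N := Subgroup.normalizer (P : Set X) with hN
  haveI : (P.subgroupOf N).Normal := Subgroup.normal_in_normalizer
  have hPN : P ≤ N := Subgroup.le_normalizer
  have hq' : ⁅⁅P.subgroupOf N, Subgroup.zpowers (⟨g, hg⟩ : N)⁆,
      Subgroup.zpowers (⟨g, hg⟩ : N)⁆ = ⊥ := by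
    apply Subgroup.map_injective N.subtype_injective
    rw [Subgroup.map_commutator, Subgroup.map_commutator, MonoidHom.map_zpowers,
      Subgroup.map_subgroupOf_eq_of_le hPN, Subgroup.map_bot]
    exact hq
  have h1 := h N (P.subgroupOf N) (hP.comap_of_injective N.subtype N.subtype_injective)
    ⟨g, hg⟩ hq'
  let f : N ⧸ Subgroup.centralizer ((P.subgroupOf N : Subgroup N) : Set N) →*
      N ⧸ (Subgroup.centralizer (P : Set X)).subgroupOf N :=
    QuotientGroup.map _ _ (MonoidHom.id N) (fun x hx => by
      rw [Subgroup.mem_comap, MonoidHom.id_apply, Subgroup.mem_subgroupOf,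
        Subgroup.mem_centralizer_iff]
      exact fun y hy => congrArg Subtype.val
        (Subgroup.mem_centralizer_iff.1 hx ⟨y, hPN hy⟩ hy))
  have hf : Function.Surjective f := by
    intro q
    obtain ⟨x, rfl⟩ := QuotientGroup.mk_surjective q
    exact ⟨QuotientGroup.mk x, rfl⟩
  exact CfsgLib.Core.map_pCore_le_of_surjective p f hf ⟨_, h1, rfl⟩

/-- A section of a group without `Qd(p)` is stable. -/
theorem normalizerPStable_of_qdFree (hodd : p ≠ 2) {G X : Type u} [Group G] [Group X] [Finite X]
    (hG : ¬ Cfsg.Involves ↥(Cfsg.qd p) G) (hX : CfsgLib.Stable.IsSec X G) :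
    Cfsg.IsNormalizerPStable p X := by
  refine normalizerPStable_of_forall fun N V _ hV a hq => ?_
  by_contra hnot
  obtain ⟨Y, Φ, hΦ⟩ := exists_onto_qd_of_unstable hodd hV hq hnot
  exact hG (involves_of_isSec (hX.subgroup N) Φ hΦ)

/-- A section of a group without `SL₂(p)` is stable. -/
theorem normalizerPStable_of_slFree (hodd : p ≠ 2) {G X : Type u} [Group G] [Group X] [Finite X]
    (hG : ¬ Cfsg.Involves (SL (ZMod p)) G) (hX : CfsgLib.Stable.IsSec X G) :
    Cfsg.IsNormalizerPStable p X := by
  refine normalizerPStable_of_forall fun N V _ hV a hq => ?_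
  by_contra hnot
  obtain ⟨K, ψ, hψ⟩ := exists_section_of_not_pCore hodd hV hq hnot
  exact hG (involves_of_isSec (hX.subgroup N) ψ hψ)

theorem localData_zsub_qdFree (hodd : p ≠ 2) {G : Type u} [Group G] {e : ℕ} (he : e = 0 ∨ e = p)
    (hG : ¬ Cfsg.Involves ↥(Cfsg.qd p) G) :
    CfsgLib.Stable.LocalData p G (fun _ _ D => CfsgLib.Stable.Zsub e D) False :=
  CfsgLib.Stable.localData_zsub hodd he fun hX _ =>
    CfsgLib.Stable.stab_of_normalizerPStable (normalizerPStable_of_qdFree hodd hG hX)

/-- An element of the translation-normal group `Qd(p)` acting as a transvection is not in the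
`p`-core modulo the translations. -/
theorem not_normalizerPStable_of_iso (hodd : p ≠ 2) {X : Type u} [Group X] [Finite X]
    (e : X ≃* ↥(Cfsg.qd p)) : ¬ Cfsg.IsNormalizerPStable p X := by
  intro hst
  set T : Subgroup X := ((transHom p).range).comap e.toMonoidHom with hT
  haveI hTn : T.Normal := by
    have : (transHom p).range.Normal := ⟨fun x hx g => by
      obtain ⟨v, rfl⟩ := hx
      obtain ⟨w, M, hg⟩ := exists_affine_of_mem g.2
      refine ⟨Multiplicative.ofAdd (M.1.mulVec (Multiplicative.toAdd v)), ?_⟩
      rw [eq_mul_inv_iff_mul_eq]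
      apply Subtype.ext
      show affine _ 1 * g.1 = g.1 * affine _ 1
      rw [hg, affine_mul, affine_mul, Matrix.SpecialLinearGroup.coe_one, Matrix.one_mulVec,
        toAdd_ofAdd, one_mul, mul_one, add_comm]⟩
    exact this.comap _
  have hTp : IsPGroup p T := by
    intro x
    obtain ⟨v, hv⟩ := x.2
    refine ⟨1, Subtype.ext (e.injective ?_)⟩
    rw [pow_one, SubgroupClass.coe_pow, map_pow, OneMemClass.coe_one, map_one,
      show e (x : X) = transHom p v from hv.symm, ← map_pow]
    have h0 : v ^ p = 1 := Multiplicative.toAdd.injective (by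
      rw [toAdd_pow, toAdd_one]
      funext i
      simp)
    rw [h0, map_one]
  let lin : ↥(Cfsg.qd p) →* SL (ZMod p) :=
    { toFun := fun A => (exists_affine_of_mem A.2).choose_spec.choose
      map_one' := (affine_injective ((exists_affine_of_mem (1 : ↥(Cfsg.qd p)).2).choose_spec.choose_spec.symm.trans
        affine_zero_one.symm)).2
      map_mul' := fun A B => (affine_injective ((exists_affine_of_mem (A * B).2).choose_spec.choose_spec.symm.trans
        ((congrArg₂ (· * ·) (exists_affine_of_mem A.2).choose_spec.choose_spec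
          (exists_affine_of_mem B.2).choose_spec.choose_spec).trans (affine_mul _ _ _ _)))).2 }
  have hlin : ∀ v M, lin ⟨affine v M, affine_mem v M⟩ = M := fun v M =>
    (affine_injective (exists_affine_of_mem (affine_mem v M)).choose_spec.choose_spec).2.symm
  set g := e.symm (linHom p (upperU 1)) with hg
  have hgN : g ∈ Subgroup.normalizer (T : Set X) := by
    rw [Subgroup.normalizer_eq_top]; exact Subgroup.mem_top g
  have heg : e g = linHom p (upperU 1) := e.apply_symm_apply _
  have hq : ⁅⁅T, Subgroup.zpowers g⁆, Subgroup.zpowers g⁆ = ⊥ := by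
    have hmemT : ∀ x : X, x ∈ T ↔ ∃ v, affine v 1 = (e x : Matrix.SpecialLinearGroup (Fin 3) (ZMod p)) :=
      fun x => ⟨fun ⟨v, hv⟩ => ⟨_, congrArg Subtype.val hv⟩,
        fun ⟨v, hv⟩ => ⟨Multiplicative.ofAdd v, Subtype.ext hv⟩⟩
    -- the translations along the first axis
    set T₀ : Subgroup X := ((AddMonoidHom.toMultiplicative
      (AddMonoidHom.single (fun _ : Fin 2 => ZMod p) 0)).range.map (transHom p)).comap e.toMonoidHom
    rw [Subgroup.commutator_eq_bot_iff_le_centralizer]
    refine le_trans (?_ : _ ≤ T₀) ?_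
    · rw [Subgroup.commutator_le]
      rintro x hx _ ⟨i, rfl⟩
      obtain ⟨v, hv⟩ := (hmemT x).1 hx
      refine ⟨Multiplicative.ofAdd (Pi.single 0 (-(i : ZMod p) * v 1)),
        ⟨Multiplicative.ofAdd (-(i : ZMod p) * v 1), rfl⟩, ?_⟩
      show _ = e ⁅x, g ^ i⁆
      rw [map_commutatorElement, map_zpow, heg, ← map_zpow (linHom p),
        show e x = transHom p (Multiplicative.ofAdd v) from Subtype.ext hv.symm,
        commutatorElement_def, eq_mul_inv_iff_mul_eq, eq_mul_inv_iff_mul_eq]
      apply Subtype.ext
      have hui : (upperU (1 : ZMod p)) ^ i = upperU (i : ZMod p) := by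
        obtain ⟨n, rfl | rfl⟩ := i.eq_nat_or_neg
        · rw [zpow_natCast, upperU_pow, mul_one, Int.cast_natCast]
        · rw [zpow_neg, zpow_natCast, upperU_pow, mul_one, Int.cast_neg, Int.cast_natCast]
          exact inv_eq_of_mul_eq_one_right (by rw [upperU_add, add_neg_cancel, upperU_zero])
      show affine _ 1 * affine 0 _ * affine _ 1 = affine _ 1 * affine 0 _
      rw [hui, affine_mul, affine_mul, affine_mul, toAdd_ofAdd, toAdd_ofAdd, Matrix.mulVec_zero,
        add_zero, one_mul, mul_one]
      congr 1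
      funext j
      fin_cases j <;> simp [coe_upperU, Matrix.mulVec, dotProduct]
    · rintro x ⟨_, ⟨c, rfl⟩, hx⟩
      rw [Subgroup.mem_centralizer_iff]
      rintro _ ⟨i, rfl⟩
      refine (Commute.zpow_left (e.injective ?_) i).eq
      rw [map_mul, map_mul, heg, ← show _ = e x from hx]
      apply Subtype.ext
      show affine 0 _ * affine _ 1 = affine _ 1 * affine 0 _
      rw [affine_mul, affine_mul, Matrix.mulVec_zero, add_zero, zero_add, mul_one, one_mul]
      congr 1
      funext j
      fin_cases j <;> simp [coe_upperU, Matrix.mulVec, dotProduct]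
  have h1 := hst T hTp g hgN hq
  -- push into `SL₂`
  set C := (Subgroup.centralizer (T : Set X)).subgroupOf (Subgroup.normalizer (T : Set X))
  let ψ : ↥(Subgroup.normalizer (T : Set X)) ⧸ C →* SL (ZMod p) :=
    QuotientGroup.lift C ((lin.comp e.toMonoidHom).comp (Subgroup.normalizer (T : Set X)).subtype)
      (fun x hx => by
        rw [MonoidHom.mem_ker]
        show lin (e (x : X)) = 1
        obtain ⟨w, M, hM⟩ := exists_affine_of_mem (e (x : X)).2
        rw [show e (x : X) = ⟨affine w M, affine_mem w M⟩ from Subtype.ext hM, hlin]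
        apply Subtype.ext
        rw [Matrix.SpecialLinearGroup.coe_one]
        refine Matrix.ext_of_mulVec_single fun j => ?_
        have h2 := congrArg e (Subgroup.mem_centralizer_iff.1 hx
          (e.symm (transHom p (Multiplicative.ofAdd (Pi.single j 1))))
          (show _ ∈ T from ⟨_, (e.apply_symm_apply _).symm⟩))
        rw [map_mul, map_mul, MulEquiv.apply_symm_apply] at h2
        have h3 : affine (Pi.single j 1) 1 * affine w M = affine w M * affine (Pi.single j 1) 1 := by
          rw [← hM]
          exact congrArg Subtype.val h2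
        rw [affine_mul, affine_mul, Matrix.SpecialLinearGroup.coe_one, Matrix.one_mulVec] at h3
        have h4 := (affine_injective h3).1
        rw [Matrix.one_mulVec]
        rw [add_comm] at h4
        exact (add_left_cancel h4).symm)
  have hψ : Function.Surjective ψ := fun M =>
    ⟨QuotientGroup.mk ⟨e.symm (linHom p M), by
      rw [Subgroup.normalizer_eq_top]; exact Subgroup.mem_top _⟩, by
      show lin (e (e.symm (linHom p M))) = M
      rw [e.apply_symm_apply]
      exact hlin 0 M⟩
  have h5 := CfsgLib.Core.map_pCore_le_of_surjective p ψ hψ ⟨_, h1, rfl⟩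
  have h6 : ψ (QuotientGroup.mk ⟨g, hgN⟩) = upperU 1 := by
    show lin (e g) = _
    rw [heg]
    exact hlin 0 _
  rw [h6] at h5
  haveI := CfsgLib.Core.normal_pCore (G := SL (ZMod p)) p
  refine not_isPGroup (p := p) (one_ne_zero (α := ZMod p)) h5 ?_ (CfsgLib.Core.isPGroup_pCore p)
  let w : SL (ZMod p) := upperU 1 * lowerU (-1) * upperU 1
  have h7 := inv_mem ((inferInstance : (Cfsg.pCore p (SL (ZMod p))).Normal).conj_mem _ h5 w)
  convert h7 using 1
  rw [eq_comm, inv_eq_iff_mul_eq_one, ← eq_mul_inv_iff_mul_eq, one_mul]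
  refine sl_ext ?_ ?_ ?_ ?_ <;>
    simp [w, coe_upperU, coe_lowerU, Matrix.mul_apply, Fin.sum_univ_two, Matrix.adjugate_fin_two]

end CfsgLib.QuadPair
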