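import Cfsg.Agent.Lib.QuadPair
import Cfsg.Agent.Lib.CoreCoprime2

/-!
# Quadratic pairs acting on `p`-groups, and `SL₂(p)` sections
-/

set_option autoImplicit false
set_option linter.style.haveILetI false

universe u v w

namespace CfsgLib.QuadPair

open CfsgLib.Dickson
open scoped commutatorElement

variable {E : Type w} [Field E] {p : ℕ} [hp : Fact p.Prime] [CharP E p]

/-- Two nontrivial opposite transvections do not lie in a common finite `p`-group. -/
theorem not_isPGroup {L : Subgroup (SL E)} [Finite L] {c : E} (hc : c ≠ 0) (ha : upperU c ∈ L)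
    (hb : lowerU 1 ∈ L) : ¬ IsPGroup p L := by
  intro hL
  haveI : Nontrivial L := (Subgroup.nontrivial_iff_ne_bot _).2 fun e => by
    have := Subgroup.mem_bot.1 (e ▸ ha)
    have h := congrArg (fun g : SL E => g.1 0 1) this
    simp [coe_upperU] at h
    exact hc h
  haveI := hL.center_nontrivial
  obtain ⟨z, hz⟩ := exists_ne (1 : Subgroup.center L)
  have h1 : ∀ g ∈ L, Commute ((z : L) : SL E) g := fun g hg =>
    (congrArg Subtype.val (Subgroup.mem_center_iff.1 z.2 ⟨g, hg⟩)).symm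
  obtain ⟨e1, e2, e3⟩ := commute_iff_entries.1 (h1 _ ha)
  obtain ⟨d1, d2, d3⟩ := commute_iff_entries.1 (h1 _ hb)
  simp [coe_upperU, hc] at e1 e2
  simp [coe_lowerU] at d1
  obtain ⟨k, hk⟩ := hL (z : L)
  have hzk : ((z : L) : SL E) ^ p ^ k = 1 := congrArg Subtype.val hk
  set M := ((z : L) : SL E).1 with hM
  have ha1 : M 0 0 = 1 := by
    have hdiag : M = (M 0 0) • (1 : Matrix (Fin 2) (Fin 2) E) := by
      ext i j
      fin_cases i <;> fin_cases j <;> simp [d1, e1]
      exact (sub_eq_zero.1 e2).symm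
    have h2 := congrArg Subtype.val hzk
    rw [Matrix.SpecialLinearGroup.coe_pow, ← hM, hdiag, smul_pow, one_pow,
      Matrix.SpecialLinearGroup.coe_one] at h2
    have h3 := congrFun (congrFun h2 0) 0
    simp at h3
    have h4 : (M 0 0 - 1) ^ p ^ k = 0 := by rw [sub_pow_char_pow, h3, one_pow, sub_self]
    exact sub_eq_zero.1 (eq_zero_of_pow_eq_zero h4)
  refine hz (Subtype.ext (Subtype.ext (sl_ext ?_ ?_ ?_ ?_)))
  · simpa using ha1
  · simpa using d1
  · simpa using e1
  · simpa using (sub_eq_zero.1 e2).symm.trans ha1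

theorem one_lt_card_sylow {L : Subgroup (SL E)} [Finite L] {c : E} (hc : c ≠ 0)
    (ha : upperU c ∈ L) (hb : lowerU 1 ∈ L) (hgen : L ≤ Subgroup.closure {upperU c, lowerU 1}) :
    1 < Nat.card (Sylow p L) := by
  by_contra hle
  haveI : Subsingleton (Sylow p L) :=
    Finite.card_le_one_iff_subsingleton.1 (by omega)
  obtain ⟨P⟩ := (inferInstance : Nonempty (Sylow p L))
  haveI := Sylow.normal_of_subsingleton P
  have hmem : ∀ x : L, x ^ p = 1 → x ∈ (P : Subgroup L) := fun x hx => by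
    have h1 : IsPGroup p (Subgroup.zpowers x) := fun y => ⟨1, by
      obtain ⟨i, hi⟩ := y.2
      apply Subtype.ext
      simp only [SubgroupClass.coe_pow, OneMemClass.coe_one, pow_one, ← hi]
      rw [← zpow_natCast, ← zpow_mul, mul_comm, zpow_mul, zpow_natCast, hx, one_zpow]⟩
    obtain ⟨Q, hQ⟩ := h1.exists_le_sylow
    exact (Subsingleton.elim Q P) ▸ hQ (Subgroup.mem_zpowers x)
  refine not_isPGroup (p := p) hc ha hb ?_
  have htop : (P : Subgroup L) = ⊤ := by
    refine eq_top_iff.2 fun x _ => ?_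
    have h1 : (x : SL E) ∈ (P : Subgroup L).map L.subtype := by
      refine (Subgroup.closure_le _).2 ?_ (hgen x.2)
      rintro g (rfl | rfl)
      · exact ⟨⟨_, ha⟩, hmem _ (Subtype.ext (pow_eq_one_of_trace (by simp [coe_upperU]; norm_num))), rfl⟩
      · exact ⟨⟨_, hb⟩, hmem _ (Subtype.ext (pow_eq_one_of_trace (by simp [coe_lowerU]; norm_num))), rfl⟩
    obtain ⟨y, hy, hyx⟩ := h1
    exact Subtype.ext hyx ▸ hy
  exact IsPGroup.of_equiv (htop ▸ P.2 : IsPGroup p (⊤ : Subgroup L)) Subgroup.topEquiv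

/-- A surjection from a subgroup gives a section. -/
theorem exists_section {G : Type u} [Group G] {M : Type v} [Group M] {H₀ : Subgroup G}
    {K' : Subgroup ↥H₀} (ψ : K' →* M) (hψ : Function.Surjective ψ) :
    ∃ (K L : Subgroup G) (hL : (L.subgroupOf K).Normal), K ≤ H₀ ∧
      Nonempty ((K ⧸ L.subgroupOf K) ≃* M) := by
  let e := K'.equivMapOfInjective H₀.subtype H₀.subtype_injective
  let ψ' : ↥(K'.map H₀.subtype) →* M := ψ.comp e.symm.toMonoidHom
  have hsub : (ψ'.ker.map (K'.map H₀.subtype).subtype).subgroupOf (K'.map H₀.subtype) = ψ'.ker :=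
    Subgroup.comap_map_eq_self_of_injective (Subgroup.subtype_injective _) _
  haveI hn : ((ψ'.ker.map (K'.map H₀.subtype).subtype).subgroupOf (K'.map H₀.subtype)).Normal := by
    rw [hsub]; infer_instance
  exact ⟨K'.map H₀.subtype, ψ'.ker.map (K'.map H₀.subtype).subtype, hn, Subgroup.map_subtype_le _,
    ⟨(QuotientGroup.quotientMulEquivOfEq hsub).trans
      (QuotientGroup.quotientKerEquivOfSurjective ψ' (hψ.comp e.symm.surjective))⟩⟩

/-- A quadratic pair produces a map of a subgroup onto `SL₂(p)`. -/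
theorem exists_onto_sl2 (hodd : p ≠ 2) {H : Type v} [Group H] [Finite H] {a b : H}
    (hgen : Subgroup.closure ({a, b} : Set H) = ⊤) (φ : H →* SL E) {c : E} (hc : c ≠ 0)
    (ha : φ a = upperU c) (hb : φ b = lowerU 1) :
    ∃ (K : Subgroup H) (ψ : K →* SL (ZMod p)), Function.Surjective ψ := by
  haveI : Finite φ.range := Finite.of_surjective φ.rangeRestrict φ.rangeRestrict_surjective
  have hsy : 1 < Nat.card (Sylow p φ.range) := by
    refine one_lt_card_sylow hc ⟨a, ha⟩ ⟨b, hb⟩ ?_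
    rw [MonoidHom.range_eq_map, ← hgen, MonoidHom.map_closure, Set.image_pair, ha, hb]
  obtain ⟨f, hf⟩ := exists_sl2_zmod (p := p) hodd (ι := φ.range.subtype) φ.range.subtype_injective hsy
  let K := f.range.comap φ.rangeRestrict
  let e := MonoidHom.ofInjective hf
  refine ⟨K, e.symm.toMonoidHom.comp ((φ.rangeRestrict.comp K.subtype).codRestrict f.range
    (fun x => x.2)), ?_⟩
  refine e.symm.surjective.comp ?_
  rintro ⟨y, hy⟩
  obtain ⟨x, hx⟩ := φ.rangeRestrict_surjective y
  refine ⟨⟨x, ?_⟩, Subtype.ext hx⟩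
  show φ.rangeRestrict x ∈ f.range
  rwa [hx]

omit [CharP E p] in
theorem hasSLTwo_of_addEnd {H : Type v} [Group H] [Finite H] {A : Type u} [AddCommGroup A]
    [Module (ZMod p) A] [Finite A] (f : H →* AddMonoid.End A) {a b g : H}
    (hgen : Subgroup.closure ({a, b} : Set H) = ⊤)
    (ha : ∀ x, f a (f a x - x) = f a x - x) (hb : ∀ x, f b (f b x - x) = f b x - x)
    (hg : ¬ p ∣ orderOf g) (hg1 : f g ≠ 1) :
    HasSLTwo.{0, v, u} (ZMod p) f a b g := by
  let ρ : H →* Module.End (ZMod p) A :=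
    { toFun := fun h =>
        { toFun := fun x => f h x
          map_add' := fun x y => map_add (f h) x y
          map_smul' := fun k x => ZMod.map_smul (f h : A →+ A) k x }
      map_one' := LinearMap.ext fun x => by simp
      map_mul' := fun h k => LinearMap.ext fun x => by simp }
  have hρ : ∀ (h : H) (x : A), ρ h x = f h x := fun h x => rfl
  have hsq : ∀ h, (∀ x, f h (f h x - x) = f h x - x) → (ρ h - 1) ^ 2 = 0 := by
    intro h hh
    refine LinearMap.ext fun x => ?_
    rw [pow_two, Module.End.mul_apply, LinearMap.sub_apply, Module.End.one_apply,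
      LinearMap.sub_apply, Module.End.one_apply, hρ, hρ, hh, sub_self]
    rfl
  obtain ⟨F, iF, iA, iFin, φ, c, hc, h1, h2, h3, h4⟩ := hasSLTwo_of_quadratic (p := p) ρ hgen
    (hsq a ha) (hsq b hb) hg (fun e => hg1 (AddMonoidHom.ext fun x => LinearMap.congr_fun e x))
  exact ⟨F, iF, iA, iFin, φ, c, hc, h1, h2, h3, fun h hh => h4 h (LinearMap.ext fun x => by
    rw [hρ, hh]; rfl)⟩

omit [CharP E p] in
/-- Quadratic automorphisms of an abelian group of exponent `p`. -/
theorem hasSLTwo_of_mulAut {H : Type v} [Group H] [Finite H] {A : Type u} [CommGroup A] [Finite A]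
    (hA : ∀ x : A, x ^ p = 1) (act : H →* MulAut A) {a b g : H}
    (hgen : Subgroup.closure ({a, b} : Set H) = ⊤)
    (ha : ∀ x, act a (act a x * x⁻¹) = act a x * x⁻¹)
    (hb : ∀ x, act b (act b x * x⁻¹) = act b x * x⁻¹)
    (hg : ¬ p ∣ orderOf g) (hg1 : act g ≠ 1) :
    HasSLTwo.{0, v, u} (ZMod p) act a b g := by
  letI : Module (ZMod p) (Additive A) := AddCommGroup.zmodModule (fun x => hA (Additive.toMul x))
  let f : H →* AddMonoid.End (Additive A) :=
    { toFun := fun h => MonoidHom.toAdditive (act h).toMonoidHom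
      map_one' := AddMonoidHom.ext fun x => by rw [map_one]; rfl
      map_mul' := fun h k => AddMonoidHom.ext fun x => by rw [map_mul]; rfl }
  have hf : ∀ (h : H) (x : A), f h (Additive.ofMul x) = Additive.ofMul (act h x) := fun h x => rfl
  have hsq : ∀ h, (∀ x, act h (act h x * x⁻¹) = act h x * x⁻¹) →
      ∀ v, f h (f h v - v) = f h v - v := by
    intro h hh v
    obtain ⟨x, rfl⟩ := Additive.ofMul.surjective v
    rw [hf, ← ofMul_div, div_eq_mul_inv, hf, hh]
  obtain ⟨F, iF, iA, iFin, φ, c, hc, h1, h2, h3, h4⟩ := hasSLTwo_of_addEnd f hgen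
    (hsq a ha) (hsq b hb) hg (fun e => hg1 (MulEquiv.ext fun x =>
      Additive.ofMul.injective (DFunLike.congr_fun e (Additive.ofMul x))))
  exact ⟨F, iF, iA, iFin, φ, c, hc, h1, h2, h3, fun h hh => h4 h (AddMonoidHom.ext fun v => by
    obtain ⟨x, rfl⟩ := Additive.ofMul.surjective v
    exact (hf h x).trans (by rw [hh]; rfl))⟩

omit [CharP E p] in
/-- A quadratic pair on a `p`-group with an element of order prime to `p` acting nontrivially. -/
theorem exists_hom_of_pgroup {X : Type u} [Group X] [Finite X] {P : Subgroup X}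
    (hP : IsPGroup p P) {a b : X} (ha : a ∈ Subgroup.normalizer (P : Set X))
    (hb : b ∈ Subgroup.normalizer (P : Set X))
    (hqa : ⁅⁅P, Subgroup.zpowers a⁆, Subgroup.zpowers a⁆ = ⊥)
    (hqb : ⁅⁅P, Subgroup.zpowers b⁆, Subgroup.zpowers b⁆ = ⊥) {g : X}
    (hg : g ∈ Subgroup.closure ({a, b} : Set X)) (hgo : ¬ p ∣ orderOf g)
    (hgP : g ∉ Subgroup.centralizer (P : Set X)) :
    ∃ (F : Type u) (_ : Field F) (_ : CharP F p) (_ : Finite F)
      (φ : ↥(Subgroup.closure ({a, b} : Set X)) →* SL F) (c : F), c ≠ 0 ∧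
      φ ⟨a, Subgroup.subset_closure (by simp)⟩ = upperU c ∧
      φ ⟨b, Subgroup.subset_closure (by simp)⟩ = lowerU 1 ∧ φ ⟨g, hg⟩ ≠ 1 ∧
      ∀ h : ↥(Subgroup.closure ({a, b} : Set X)),
        (h : X) ∈ Subgroup.centralizer (P : Set X) → φ h = 1 := by
  set H₀ := Subgroup.closure ({a, b} : Set X) with hH₀
  have hH₀N : H₀ ≤ Subgroup.normalizer (P : Set X) := by
    rw [hH₀, Subgroup.closure_le]
    rintro x (rfl | rfl) <;> assumption
  set Φ := frattini ↥P with hΦ
  letI : CommGroup (↥P ⧸ Φ) :=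
    { (inferInstance : Group (↥P ⧸ Φ)) with
      mul_comm := fun x y => by
        induction x using QuotientGroup.induction_on with
        | H x =>
          induction y using QuotientGroup.induction_on with
          | H y =>
            refine QuotientGroup.eq.2 (CfsgLib.Core.pgroup_commutator_le_frattini hP ?_)
            rw [show (x * y)⁻¹ * (y * x) = ⁅y⁻¹, x⁻¹⁆ by rw [commutatorElement_def]; group]
            exact Subgroup.commutator_mem_commutator (Subgroup.mem_top _) (Subgroup.mem_top _) }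
  have hexp : ∀ x : ↥P ⧸ Φ, x ^ p = 1 := fun x => by
    induction x using QuotientGroup.induction_on with
    | H y =>
      rw [← QuotientGroup.mk_pow, QuotientGroup.eq_one_iff]
      exact CfsgLib.Core.pgroup_pow_mem_frattini hP y
  let act : ↥H₀ →* MulAut ↥P := P.normalizerMonoidHom.comp (Subgroup.inclusion hH₀N)
  let q : ↥H₀ →* MulAut (↥P ⧸ Φ) :=
    { toFun := fun h => QuotientGroup.congr Φ Φ (act h)
        (Subgroup.characteristic_iff_map_eq.1 inferInstance (act h))
      map_one' := MulEquiv.ext fun x => by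
        obtain ⟨y, rfl⟩ := QuotientGroup.mk_surjective x
        simp
      map_mul' := fun h k => MulEquiv.ext fun x => by
        obtain ⟨y, rfl⟩ := QuotientGroup.mk_surjective x
        simp
        rfl }
  have hact : ∀ (h : ↥H₀) (y : ↥P), ((act h y : ↥P) : X) = (h : X) * y * (h : X)⁻¹ := fun h y => rfl
  have hρ : ∀ (h : ↥H₀) (y : ↥P), q h (y : ↥P ⧸ Φ) = ((act h y : ↥P) : ↥P ⧸ Φ) := fun h y => rfl
  have hsq : ∀ (x : X) (hx : x ∈ H₀), ⁅⁅P, Subgroup.zpowers x⁆, Subgroup.zpowers x⁆ = ⊥ →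
      ∀ v, q ⟨x, hx⟩ (q ⟨x, hx⟩ v * v⁻¹) = q ⟨x, hx⟩ v * v⁻¹ := by
    intro x hx hq v
    obtain ⟨y, rfl⟩ := QuotientGroup.mk_surjective v
    set z : ↥P := act ⟨x, hx⟩ y * y⁻¹ with hz
    have hfix : act ⟨x, hx⟩ z = z := by
      apply Subtype.ext
      have h1 : (z : X) = ⁅x, (y : X)⁆ := by
        rw [hz, Subgroup.coe_mul, Subgroup.coe_inv, hact, commutatorElement_def]
      have h2 : ⁅(z : X), x⁆ = 1 := by
        have h3 : ⁅(z : X), x⁆ ∈ ⁅⁅P, Subgroup.zpowers x⁆, Subgroup.zpowers x⁆ := by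
          refine Subgroup.commutator_mem_commutator ?_ (Subgroup.mem_zpowers x)
          rw [h1, Subgroup.commutator_comm]
          exact Subgroup.commutator_mem_commutator (Subgroup.mem_zpowers x) y.2
        rwa [hq, Subgroup.mem_bot] at h3
      rw [hact]
      show x * (z : X) * x⁻¹ = z
      rw [← (commutatorElement_eq_one_iff_mul_comm.1 h2), mul_inv_cancel_right]
    rw [hρ, ← QuotientGroup.mk_inv, ← QuotientGroup.mk_mul, hρ, ← hz, hfix]
  have hg1 : q ⟨g, hg⟩ ≠ 1 := by
    intro e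
    refine hgP (CfsgLib.Core.le_centralizer_of_trivial_mod_frattini (A := Subgroup.zpowers g)
      (K := P) (Subgroup.zpowers_le.2 (hH₀N hg)) ?_ ?_ (Subgroup.mem_zpowers g))
    · obtain ⟨n, hn⟩ := IsPGroup.iff_card.1 (hP.to_subgroup (frattini ↥P))
      rw [hn, Nat.card_zpowers]
      exact ((hp.out.coprime_iff_not_dvd).2 hgo).symm.pow_right n
    · intro h hh k hk
      have hh' : h ∈ H₀ := Subgroup.zpowers_le.2 hg hh
      have h1 : q ⟨h, hh'⟩ = 1 := by
        obtain ⟨i, rfl⟩ := hh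
        have h2 : (⟨g, hg⟩ : ↥H₀) ^ i ∈ q.ker := zpow_mem (by exact e) i
        exact (congrArg q (Subtype.ext (by simp))).trans h2
      have h2 := DFunLike.congr_fun h1 ((⟨k, hk⟩ : ↥P) : ↥P ⧸ Φ)
      rw [hρ, MulAut.one_apply] at h2
      have h3 := QuotientGroup.eq.1 h2.symm
      have h4 : act ⟨h, hh'⟩ ⟨k, hk⟩ * (⟨k, hk⟩ : ↥P)⁻¹ ∈ Φ := by
        have := (inferInstance : Φ.Normal).mem_comm h3
        simpa using this
      exact ⟨_, h4, by rw [Subgroup.subtype_apply, Subgroup.coe_mul, Subgroup.coe_inv, hact]⟩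
  have hgen : Subgroup.closure ({⟨a, Subgroup.subset_closure (by simp)⟩,
      ⟨b, Subgroup.subset_closure (by simp)⟩} : Set ↥H₀) = ⊤ := by
    apply Subgroup.map_injective H₀.subtype_injective
    rw [MonoidHom.map_closure, Set.image_pair, ← MonoidHom.range_eq_map, Subgroup.range_subtype]
    rfl
  obtain ⟨F, iF, iA, iFin, φ, c, hc, h1, h2, h3, h4⟩ := hasSLTwo_of_mulAut hexp q hgen
    (hsq a _ hqa) (hsq b _ hqb) (g := ⟨g, hg⟩) (by rwa [← Subgroup.orderOf_coe]) hg1
  refine ⟨F, iF, charP_of_injective_algebraMap (algebraMap (ZMod p) F).injective p, iFin, φ, c, hc,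
    h1, h2, h3, fun h hh => h4 h (MulEquiv.ext fun v => ?_)⟩
  obtain ⟨y, rfl⟩ := QuotientGroup.mk_surjective v
  rw [hρ, MulAut.one_apply]
  refine congrArg _ (Subtype.ext ?_)
  rw [hact, ← Subgroup.mem_centralizer_iff.1 hh _ y.2, mul_inv_cancel_right]

end CfsgLib.QuadPair
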