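import Cfsg.Agent.Lib.QuadPairSection

/-!
# The natural `SL₂` module inside a quadratic pair
-/

set_option autoImplicit false
set_option linter.style.haveILetI false

universe u v w

namespace CfsgLib.QuadPair

open CfsgLib.Dickson
open scoped commutatorElement

variable {p : ℕ} [hp : Fact p.Prime]

theorem hasModule_of_addEnd {H : Type v} [Group H] [Finite H] {A : Type u} [AddCommGroup A]
    [Module (ZMod p) A] [Finite A] (f : H →* AddMonoid.End A) {a b g : H}
    (hgen : Subgroup.closure ({a, b} : Set H) = ⊤)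
    (ha : ∀ x, f a (f a x - x) = f a x - x) (hb : ∀ x, f b (f b x - x) = f b x - x)
    (hg : ¬ p ∣ orderOf g) (hg1 : f g ≠ 1) :
    ∃ (E : Type u) (_ : Field E) (_ : CharP E p) (_ : Finite E) (φ : H →* SL E) (c : E),
      c ≠ 0 ∧ φ a = upperU c ∧ φ b = lowerU 1 ∧ φ g ≠ 1 ∧ (∀ h, f h = 1 → φ h = 1) ∧
        ∃ (U : AddSubgroup A) (θ : U →+ E × E) (hU : ∀ h, ∀ x ∈ U, f h x ∈ U),
          Function.Surjective θ ∧ ∀ (h : H) (x : U), θ ⟨f h x, hU h x x.2⟩ = act (φ h) (θ x) := by
  let ρ : H →* Module.End (ZMod p) A :=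
    { toFun := fun h =>
        { toFun := fun x => f h x
          map_add' := fun x y => map_add (f h) x y
          map_smul' := fun k x => ZMod.map_smul (f h : A →+ A) k x }
      map_one' := LinearMap.ext fun x => by simp
      map_mul' := fun h k => LinearMap.ext fun x => by simp }
  have hρ : ∀ (h : H) (x : A), ρ h x = f h x := fun h x => rfl
  have hsq : ∀ h, (∀ x, f h (f h x - x) = f h x - x) → (ρ h - 1) ^ 2 = 0 := by
    intro h hh
    refine LinearMap.ext fun x => ?_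
    rw [pow_two, Module.End.mul_apply, LinearMap.sub_apply, Module.End.one_apply,
      LinearMap.sub_apply, Module.End.one_apply, hρ, hρ, hh, sub_self]
    rfl
  obtain ⟨F, iF, iA, iFin, φ, c, hc, h1, h2, h3, h4, U, θ, hU, hθ, hθe⟩ :=
    hasModule_of_quadratic (p := p) ρ hgen (hsq a ha) (hsq b hb) hg
      (fun e => hg1 (AddMonoidHom.ext fun x => LinearMap.congr_fun e x))
  exact ⟨F, iF, charP_of_injective_algebraMap (algebraMap (ZMod p) F).injective p, iFin, φ, c, hc,
    h1, h2, h3, fun h hh => h4 h (LinearMap.ext fun x => by rw [hρ, hh]; rfl),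
    U.toAddSubgroup, θ.toAddMonoidHom, hU, hθ, hθe⟩

theorem hasModule_of_mulAut {H : Type v} [Group H] [Finite H] {A : Type u} [CommGroup A] [Finite A]
    (hA : ∀ x : A, x ^ p = 1) (f : H →* MulAut A) {a b g : H}
    (hgen : Subgroup.closure ({a, b} : Set H) = ⊤)
    (ha : ∀ x, f a (f a x * x⁻¹) = f a x * x⁻¹)
    (hb : ∀ x, f b (f b x * x⁻¹) = f b x * x⁻¹)
    (hg : ¬ p ∣ orderOf g) (hg1 : f g ≠ 1) :
    ∃ (E : Type u) (_ : Field E) (_ : CharP E p) (_ : Finite E) (φ : H →* SL E) (c : E),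
      c ≠ 0 ∧ φ a = upperU c ∧ φ b = lowerU 1 ∧ φ g ≠ 1 ∧ (∀ h, f h = 1 → φ h = 1) ∧
        ∃ (U : Subgroup A) (θ : U →* Multiplicative (E × E)) (hU : ∀ h, ∀ x ∈ U, f h x ∈ U),
          Function.Surjective θ ∧
            ∀ (h : H) (x : U), θ ⟨f h x, hU h x x.2⟩ =
              Multiplicative.ofAdd (act (φ h) (Multiplicative.toAdd (θ x))) := by
  letI : Module (ZMod p) (Additive A) := AddCommGroup.zmodModule (fun x => hA (Additive.toMul x))
  let f' : H →* AddMonoid.End (Additive A) :=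
    { toFun := fun h => MonoidHom.toAdditive (f h).toMonoidHom
      map_one' := AddMonoidHom.ext fun x => by rw [map_one]; rfl
      map_mul' := fun h k => AddMonoidHom.ext fun x => by rw [map_mul]; rfl }
  have hf : ∀ (h : H) (x : A), f' h (Additive.ofMul x) = Additive.ofMul (f h x) := fun h x => rfl
  have hsq : ∀ h, (∀ x, f h (f h x * x⁻¹) = f h x * x⁻¹) →
      ∀ v, f' h (f' h v - v) = f' h v - v := by
    intro h hh v
    obtain ⟨x, rfl⟩ := Additive.ofMul.surjective v
    rw [hf, ← ofMul_div, div_eq_mul_inv, hf, hh]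
  obtain ⟨F, iF, iC, iFin, φ, c, hc, h1, h2, h3, h4, U, θ, hU, hθ, hθe⟩ :=
    hasModule_of_addEnd f' hgen (hsq a ha) (hsq b hb) hg (fun e => hg1 (MulEquiv.ext fun x =>
      Additive.ofMul.injective (DFunLike.congr_fun e (Additive.ofMul x))))
  let U' : Subgroup A :=
    { carrier := {x | Additive.ofMul x ∈ U}
      one_mem' := U.zero_mem
      mul_mem' := fun h h' => U.add_mem h h'
      inv_mem' := fun h => U.neg_mem h }
  let θ' : U' →* Multiplicative (F × F) :=
    { toFun := fun x => Multiplicative.ofAdd (θ ⟨Additive.ofMul x.1, x.2⟩)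
      map_one' := congrArg Multiplicative.ofAdd (map_zero θ)
      map_mul' := fun x y => congrArg Multiplicative.ofAdd
        (map_add θ ⟨Additive.ofMul x.1, x.2⟩ ⟨Additive.ofMul y.1, y.2⟩) }
  refine ⟨F, iF, iC, iFin, φ, c, hc, h1, h2, h3, fun h hh => h4 h (AddMonoidHom.ext fun v => ?_),
    U', θ', fun h x hx => hU h (Additive.ofMul x) hx, fun y => ?_, fun h x => ?_⟩
  · obtain ⟨x, rfl⟩ := Additive.ofMul.surjective v
    exact (hf h x).trans (by rw [hh]; rfl)
  · obtain ⟨⟨x, hx⟩, e⟩ := hθ (Multiplicative.toAdd y)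
    exact ⟨⟨Additive.toMul x, hx⟩, congrArg Multiplicative.ofAdd e⟩
  · exact congrArg Multiplicative.ofAdd (hθe h ⟨Additive.ofMul x.1, x.2⟩)

/-- The action of a quadratic pair on an invariant section of the `p`-group. -/
theorem exists_module_of_pgroup {X : Type u} [Group X] [Finite X] {P : Subgroup X}
    (hP : IsPGroup p P) {a b : X} (ha : a ∈ Subgroup.normalizer (P : Set X))
    (hb : b ∈ Subgroup.normalizer (P : Set X))
    (hqa : ⁅⁅P, Subgroup.zpowers a⁆, Subgroup.zpowers a⁆ = ⊥)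
    (hqb : ⁅⁅P, Subgroup.zpowers b⁆, Subgroup.zpowers b⁆ = ⊥) {g : X}
    (hg : g ∈ Subgroup.closure ({a, b} : Set X)) (hgo : ¬ p ∣ orderOf g)
    (hgP : g ∉ Subgroup.centralizer (P : Set X)) :
    ∃ (F : Type u) (_ : Field F) (_ : CharP F p) (_ : Finite F)
      (φ : ↥(Subgroup.closure ({a, b} : Set X)) →* SL F) (c : F), c ≠ 0 ∧
      φ ⟨a, Subgroup.subset_closure (by simp)⟩ = upperU c ∧
      φ ⟨b, Subgroup.subset_closure (by simp)⟩ = lowerU 1 ∧
      ∃ (P₁ : Subgroup X) (θ : P₁ →* Multiplicative (F × F)) (_ : P₁ ≤ P)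
        (hn : ∀ h ∈ Subgroup.closure ({a, b} : Set X), ∀ x ∈ P₁, h * x * h⁻¹ ∈ P₁),
        Function.Surjective θ ∧
          ∀ (h : ↥(Subgroup.closure ({a, b} : Set X))) (x : P₁),
            θ ⟨(h : X) * x * (h : X)⁻¹, hn h h.2 x x.2⟩ =
              Multiplicative.ofAdd (act (φ h) (Multiplicative.toAdd (θ x))) := by
  set H₀ := Subgroup.closure ({a, b} : Set X) with hH₀
  have hH₀N : H₀ ≤ Subgroup.normalizer (P : Set X) := by
    rw [hH₀, Subgroup.closure_le]
    rintro x (rfl | rfl) <;> assumption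
  set Φ := frattini ↥P with hΦ
  letI : CommGroup (↥P ⧸ Φ) :=
    { (inferInstance : Group (↥P ⧸ Φ)) with
      mul_comm := fun x y => by
        induction x using QuotientGroup.induction_on with
        | H x =>
          induction y using QuotientGroup.induction_on with
          | H y =>
            refine QuotientGroup.eq.2 (CfsgLib.Core.pgroup_commutator_le_frattini hP ?_)
            rw [show (x * y)⁻¹ * (y * x) = ⁅y⁻¹, x⁻¹⁆ by rw [commutatorElement_def]; group]
            exact Subgroup.commutator_mem_commutator (Subgroup.mem_top _) (Subgroup.mem_top _) }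
  have hexp : ∀ x : ↥P ⧸ Φ, x ^ p = 1 := fun x => by
    induction x using QuotientGroup.induction_on with
    | H y =>
      rw [← QuotientGroup.mk_pow, QuotientGroup.eq_one_iff]
      exact CfsgLib.Core.pgroup_pow_mem_frattini hP y
  let conj : ↥H₀ →* MulAut ↥P := P.normalizerMonoidHom.comp (Subgroup.inclusion hH₀N)
  let q : ↥H₀ →* MulAut (↥P ⧸ Φ) :=
    { toFun := fun h => QuotientGroup.congr Φ Φ (conj h)
        (Subgroup.characteristic_iff_map_eq.1 inferInstance (conj h))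
      map_one' := MulEquiv.ext fun x => by
        obtain ⟨y, rfl⟩ := QuotientGroup.mk_surjective x
        simp
      map_mul' := fun h k => MulEquiv.ext fun x => by
        obtain ⟨y, rfl⟩ := QuotientGroup.mk_surjective x
        simp
        rfl }
  have hact : ∀ (h : ↥H₀) (y : ↥P), ((conj h y : ↥P) : X) = (h : X) * y * (h : X)⁻¹ := fun h y => rfl
  have hρ : ∀ (h : ↥H₀) (y : ↥P), q h (y : ↥P ⧸ Φ) = ((conj h y : ↥P) : ↥P ⧸ Φ) := fun h y => rfl
  have hsq : ∀ (x : X) (hx : x ∈ H₀), ⁅⁅P, Subgroup.zpowers x⁆, Subgroup.zpowers x⁆ = ⊥ →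
      ∀ v, q ⟨x, hx⟩ (q ⟨x, hx⟩ v * v⁻¹) = q ⟨x, hx⟩ v * v⁻¹ := by
    intro x hx hq v
    obtain ⟨y, rfl⟩ := QuotientGroup.mk_surjective v
    set z : ↥P := conj ⟨x, hx⟩ y * y⁻¹ with hz
    have hfix : conj ⟨x, hx⟩ z = z := by
      apply Subtype.ext
      have h1 : (z : X) = ⁅x, (y : X)⁆ := by
        rw [hz, Subgroup.coe_mul, Subgroup.coe_inv, hact, commutatorElement_def]
      have h2 : ⁅(z : X), x⁆ = 1 := by
        have h3 : ⁅(z : X), x⁆ ∈ ⁅⁅P, Subgroup.zpowers x⁆, Subgroup.zpowers x⁆ := by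
          refine Subgroup.commutator_mem_commutator ?_ (Subgroup.mem_zpowers x)
          rw [h1, Subgroup.commutator_comm]
          exact Subgroup.commutator_mem_commutator (Subgroup.mem_zpowers x) y.2
        rwa [hq, Subgroup.mem_bot] at h3
      rw [hact]
      show x * (z : X) * x⁻¹ = z
      rw [← (commutatorElement_eq_one_iff_mul_comm.1 h2), mul_inv_cancel_right]
    rw [hρ, ← QuotientGroup.mk_inv, ← QuotientGroup.mk_mul, hρ, ← hz, hfix]
  have hg1 : q ⟨g, hg⟩ ≠ 1 := by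
    intro e
    refine hgP (CfsgLib.Core.le_centralizer_of_trivial_mod_frattini (A := Subgroup.zpowers g)
      (K := P) (Subgroup.zpowers_le.2 (hH₀N hg)) ?_ ?_ (Subgroup.mem_zpowers g))
    · obtain ⟨n, hn⟩ := IsPGroup.iff_card.1 (hP.to_subgroup (frattini ↥P))
      rw [hn, Nat.card_zpowers]
      exact ((hp.out.coprime_iff_not_dvd).2 hgo).symm.pow_right n
    · intro h hh k hk
      have hh' : h ∈ H₀ := Subgroup.zpowers_le.2 hg hh
      have h1 : q ⟨h, hh'⟩ = 1 := by
        obtain ⟨i, rfl⟩ := hh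
        have h2 : (⟨g, hg⟩ : ↥H₀) ^ i ∈ q.ker := zpow_mem (by exact e) i
        exact (congrArg q (Subtype.ext (by simp))).trans h2
      have h2 := DFunLike.congr_fun h1 ((⟨k, hk⟩ : ↥P) : ↥P ⧸ Φ)
      rw [hρ, MulAut.one_apply] at h2
      have h3 := QuotientGroup.eq.1 h2.symm
      have h4 : conj ⟨h, hh'⟩ ⟨k, hk⟩ * (⟨k, hk⟩ : ↥P)⁻¹ ∈ Φ := by
        have := (inferInstance : Φ.Normal).mem_comm h3
        simpa using this
      exact ⟨_, h4, by rw [Subgroup.subtype_apply, Subgroup.coe_mul, Subgroup.coe_inv, hact]⟩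
  have hgen : Subgroup.closure ({⟨a, Subgroup.subset_closure (by simp)⟩,
      ⟨b, Subgroup.subset_closure (by simp)⟩} : Set ↥H₀) = ⊤ := by
    apply Subgroup.map_injective H₀.subtype_injective
    rw [MonoidHom.map_closure, Set.image_pair, ← MonoidHom.range_eq_map, Subgroup.range_subtype]
    rfl
  obtain ⟨F, iF, iC, iFin, φ, c, hc, h1, h2, -, -, U, θ, hU, hθ, hθe⟩ := hasModule_of_mulAut hexp q
    hgen (hsq a _ hqa) (hsq b _ hqb) (g := ⟨g, hg⟩) (by rwa [← Subgroup.orderOf_coe]) hg1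
  let V : Subgroup ↥P := U.comap (QuotientGroup.mk' Φ)
  let e := V.equivMapOfInjective P.subtype P.subtype_injective
  have hn : ∀ h ∈ H₀, ∀ x ∈ V.map P.subtype, h * x * h⁻¹ ∈ V.map P.subtype := by
    rintro h hh _ ⟨y, hy, rfl⟩
    exact ⟨conj ⟨h, hh⟩ y, hU ⟨h, hh⟩ _ hy, hact ⟨h, hh⟩ y⟩
  let π : V →* U := (((QuotientGroup.mk' Φ).comp V.subtype).codRestrict U (fun x => x.2))
  refine ⟨F, iF, iC, iFin, φ, c, hc, h1, h2, V.map P.subtype,
    (θ.comp π).comp e.symm.toMonoidHom, Subgroup.map_subtype_le _, hn,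
    (hθ.comp ?_).comp e.symm.surjective, fun h x => ?_⟩
  · rintro ⟨u, hu⟩
    obtain ⟨y, rfl⟩ := QuotientGroup.mk'_surjective Φ u
    exact ⟨⟨y, hu⟩, rfl⟩
  · obtain ⟨y, rfl⟩ := e.surjective x
    have he : (⟨(h : X) * (e y : X) * (h : X)⁻¹, hn h h.2 _ (e y).2⟩ : ↥(V.map P.subtype)) =
        e ⟨conj h y, hU h _ y.2⟩ := Subtype.ext (hact h y.1).symm
    show θ (π (e.symm _)) = Multiplicative.ofAdd (act (φ h) (Multiplicative.toAdd (θ (π (e.symm (e y))))))
    rw [he, e.symm_apply_apply, e.symm_apply_apply]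
    exact hθe h (π y)

theorem act_add {F : Type w} [Field F] (M : SL F) (x y : F × F) :
    act M (x + y) = act M x + act M y := by
  refine Prod.ext ?_ ?_ <;> simp [act] <;> ring

theorem act_one {F : Type w} [Field F] (x : F × F) : act (1 : SL F) x = x := by
  simp [act]

theorem act_mul {F : Type w} [Field F] (M N : SL F) (x : F × F) :
    act (M * N) x = act M (act N x) := by
  refine Prod.ext ?_ ?_ <;> simp [act, Matrix.mul_apply, Fin.sum_univ_two] <;> ring

/-- An embedded `SL₂(p)` leaves a natural module invariant. -/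
theorem exists_natural_basis {F : Type w} [Field F] [CharP F p] (hodd : p ≠ 2)
    (f : SL (ZMod p) →* SL F) (hf : Function.Injective f) :
    ∃ j : (Fin 2 → ZMod p) →+ F × F, Function.Injective j ∧
      ∀ (g : SL (ZMod p)) (x : Fin 2 → ZMod p), j (g.1.mulVec x) = act (f g) (j x) := by
  have h2 := two_ne_zero_of_char (F := F) hodd
  have h2' := two_ne_zero_of_char (F := ZMod p) hodd
  have hup : (upperU (1 : ZMod p)) ^ p = 1 :=
    pow_eq_one_of_trace (by simp [coe_upperU]; norm_num)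
  have hlp : (lowerU (1 : ZMod p)) ^ p = 1 :=
    pow_eq_one_of_trace (by simp [coe_lowerU]; norm_num)
  have hu1 : f (upperU 1) ≠ 1 := fun e => by
    have := hf (e.trans (map_one f).symm)
    have h := congrArg (fun g : SL (ZMod p) => g.1 0 1) this
    simp [coe_upperU] at h
  have hl1 : f (lowerU 1) ≠ 1 := fun e => by
    have := hf (e.trans (map_one f).symm)
    have h := congrArg (fun g : SL (ZMod p) => g.1 1 0) this
    simp [coe_lowerU] at h
  obtain ⟨P₀, hP₀⟩ := exists_conj_upper (trace_of_pow (p := p) (k := 1)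
    (by rw [pow_one, ← map_pow, hup, map_one] : f (upperU 1) ^ p ^ 1 = 1)) hu1
  set f₁ := (conjHom P₀).comp f with hf₁
  have hf₁i : Function.Injective f₁ := (conjHom_injective P₀).comp hf
  set Y := f₁ (lowerU 1) with hY
  have hYt : Y.1 0 0 + Y.1 1 1 = 2 := trace_of_pow (p := p) (k := 1)
    (by rw [pow_one, ← map_pow, hlp, map_one] : f₁ (lowerU 1) ^ p ^ 1 = 1)
  have hdY := det_eq Y
  have hc : Y.1 1 0 ≠ 0 := by
    intro e
    have hcomm : Commute Y (upperU 1) := by
      rw [commute_upperU_iff]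
      refine ⟨e, ?_⟩
      have : (Y.1 0 0 - 1) ^ 2 = 0 := by linear_combination Y.1 0 0 * hYt - hdY - Y.1 0 1 * e
      linear_combination 2 * (pow_eq_zero_iff two_ne_zero).1 this - hYt
    rw [show upperU (1 : F) = f₁ (upperU 1) from hP₀.symm] at hcomm
    have h := commute_iff_entries.1 (Commute.of_map hf₁i hcomm)
    simp [coe_upperU, coe_lowerU] at h
  set s := (1 - Y.1 0 0) / Y.1 1 0 with hs
  set f₂ := (MulAut.conj (upperU s)).toMonoidHom.comp f₁ with hf₂
  have hf₂i : Function.Injective f₂ := fun x y h => hf₁i ((MulAut.conj (upperU s)).injective h)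
  set lam := Y.1 1 0 with hlam
  have hu2 : f₂ (upperU 1) = upperU 1 := by
    show upperU s * f₁ (upperU 1) * (upperU s)⁻¹ = _
    rw [show f₁ (upperU 1) = upperU 1 from hP₀, upperU_add, add_comm, ← upperU_add,
      mul_inv_cancel_right]
  have hl2 : f₂ (lowerU 1) = lowerU lam := by
    show upperU s * Y * (upperU s)⁻¹ = _
    refine sl_ext ?_ ?_ ?_ ?_ <;>
      simp [coe_upperU, coe_lowerU, Matrix.mul_apply, Fin.sum_univ_two, Matrix.adjugate_fin_two,
        Matrix.vecMul, dotProduct, hs, ← hlam] <;> (try field_simp)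
    · ring
    · linear_combination hYt - hdY
    · linear_combination hYt
  -- `lam = 1`
  set wz : SL (ZMod p) := upperU 1 * (lowerU 1)⁻¹ * upperU 1 with hwz
  set w : SL F := upperU 1 * (lowerU lam)⁻¹ * upperU 1 with hw
  have hww : f₂ wz = w := by rw [hwz, map_mul, map_mul, map_inv, hu2, hl2]
  have hz4 : (wz * wz) * (wz * wz) = 1 := by
    refine sl_ext ?_ ?_ ?_ ?_ <;>
      simp [hwz, coe_upperU, coe_lowerU, Matrix.mul_apply, Fin.sum_univ_two,
        Matrix.adjugate_fin_two] <;> ring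
  have hzne : wz * wz ≠ 1 := fun e => by
    have h := congrArg (fun g : SL (ZMod p) => g.1 0 0) e
    simp [hwz, coe_upperU, coe_lowerU, Matrix.mul_apply, Fin.sum_univ_two,
      Matrix.adjugate_fin_two] at h
    exact h2' (by linear_combination -h)
  set z := w * w with hz
  have hzz : z * z = 1 := by rw [hz, ← hww, ← map_mul, ← map_mul, hz4, map_one]
  have hz1 : z ≠ 1 := by
    rw [hz, ← hww, ← map_mul]
    exact fun e => hzne (hf₂i (e.trans (map_one f₂).symm))
  have hlam1 : lam = 1 := by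
    have hd := det_eq z
    have e1 := congrArg Subtype.val hzz
    simp only [Matrix.SpecialLinearGroup.coe_mul, Matrix.SpecialLinearGroup.coe_one] at e1
    have e00 := congrFun (congrFun e1 0) 0
    have e01 := congrFun (congrFun e1 0) 1
    have e10 := congrFun (congrFun e1 1) 0
    have e11 := congrFun (congrFun e1 1) 1
    simp [Matrix.mul_apply, Fin.sum_univ_two] at e00 e01 e10 e11
    have hprod : (z.1 0 0 + z.1 1 1 - 2) * (z.1 0 0 + z.1 1 1 + 2) = 0 := by
      linear_combination e00 + e11 + 2 * hd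
    have ht2 : z.1 0 0 + z.1 1 1 + 2 = 0 := by
      rcases mul_eq_zero.1 hprod with h | h
      · exfalso
        have htr : z.1 0 0 + z.1 1 1 = 2 := by linear_combination h
        have h3 := pow_eq_one_of_trace (p := p) htr
        have h4 : z ^ 2 = 1 := by rw [pow_two]; exact hzz
        refine hz1 (orderOf_eq_one_iff.1 (Nat.eq_one_of_dvd_coprimes
          ((Nat.coprime_primes hp.out Nat.prime_two).2 hodd)
          (orderOf_dvd_of_pow_eq_one h3) (orderOf_dvd_of_pow_eq_one h4)))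
      · exact h
    have hsq : (w.1 0 0 + w.1 1 1) ^ 2 = 0 := by
      have hdw := det_eq w
      simp [hz, Matrix.mul_apply, Fin.sum_univ_two] at ht2
      linear_combination ht2 + 2 * hdw
    have h5 := (pow_eq_zero_iff two_ne_zero).1 hsq
    simp [hw, coe_upperU, coe_lowerU, Matrix.mul_apply, Fin.sum_univ_two,
      Matrix.adjugate_fin_two] at h5
    have h6 : 2 * (1 - lam) = 0 := by linear_combination h5
    exact (sub_eq_zero.1 ((mul_eq_zero.1 h6).resolve_left h2)).symm
  rw [hlam1] at hl2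
  let γ : ZMod p →+* F := ZMod.castHom dvd_rfl F
  have hstd : ∀ g : SL (ZMod p), f₂ g = Matrix.SpecialLinearGroup.map γ g := by
    intro g
    have hle : (⊤ : Subgroup (SL (ZMod p))) ≤ f₂.eqLocus (Matrix.SpecialLinearGroup.map γ) := by
      rw [← sl_zmod_closure, Subgroup.closure_le]
      rintro x (rfl | rfl)
      · refine hu2.trans (sl_ext ?_ ?_ ?_ ?_) <;> simp [coe_upperU]
      · refine hl2.trans (sl_ext ?_ ?_ ?_ ?_) <;> simp [coe_lowerU]
    exact hle (Subgroup.mem_top g)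
  -- the basis
  set B : Matrix (Fin 2) (Fin 2) F := (P₀ : Matrix (Fin 2) (Fin 2) F) * (upperU (-s)).1 with hB
  have hBf : ∀ g : SL (ZMod p), (f g).1 * B = B * (Matrix.SpecialLinearGroup.map γ g).1 := by
    intro g
    have h1 : upperU (-s) * f₂ g = f₁ g * upperU (-s) := by
      show upperU (-s) * (upperU s * f₁ g * (upperU s)⁻¹) = _
      rw [show (upperU s)⁻¹ = upperU (-s) from inv_eq_of_mul_eq_one_right
        (by rw [upperU_add, add_neg_cancel, upperU_zero]), ← mul_assoc, ← mul_assoc, upperU_add,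
        neg_add_cancel, upperU_zero, one_mul]
    have h2 := (conjHom_eq_iff P₀ (f g) (f₁ g)).1 rfl
    have h3 := congrArg Subtype.val h1
    simp only [Matrix.SpecialLinearGroup.coe_mul] at h3
    rw [← hstd g, hB, ← Matrix.mul_assoc, h2, Matrix.mul_assoc, ← h3, ← Matrix.mul_assoc]
  let j : (Fin 2 → ZMod p) →+ F × F :=
    { toFun := fun x => ((B.mulVec (γ ∘ x)) 0, (B.mulVec (γ ∘ x)) 1)
      map_zero' := by simp [Matrix.mulVec, dotProduct]
      map_add' := fun x y => by simp [Matrix.mulVec, dotProduct]; constructor <;> ring }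
  refine ⟨j, fun x y h => ?_, fun g x => ?_⟩
  · have hdet : B.det ≠ 0 := by
      rw [hB, Matrix.det_mul, (upperU (-s)).2, mul_one]
      exact (Matrix.isUnits_det_units P₀).ne_zero
    have h1 : B.mulVec (γ ∘ x) = B.mulVec (γ ∘ y) := by
      funext i
      fin_cases i
      · exact congrArg Prod.fst h
      · exact congrArg Prod.snd h
    have h2 := (Matrix.mulVec_injective_iff_isUnit.2
      ((Matrix.isUnit_iff_isUnit_det B).2 (isUnit_iff_ne_zero.2 hdet))) h1
    funext i
    exact γ.injective (congrFun h2 i)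
  · have h1 : γ ∘ g.1.mulVec x = (Matrix.SpecialLinearGroup.map γ g).1.mulVec (γ ∘ x) := by
      funext i
      fin_cases i <;> simp [Matrix.mulVec, dotProduct]
    have h2 : B.mulVec (γ ∘ g.1.mulVec x) = (f g).1.mulVec (B.mulVec (γ ∘ x)) := by
      rw [h1, Matrix.mulVec_mulVec, ← hBf g, ← Matrix.mulVec_mulVec]
    show ((B.mulVec (γ ∘ g.1.mulVec x)) 0, (B.mulVec (γ ∘ g.1.mulVec x)) 1) = _
    rw [h2]
    simp [act, j, Matrix.mulVec, dotProduct]

/-- A natural module for a subgroup mapping onto `SL₂(p)`. -/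
theorem exists_natural (hodd : p ≠ 2) {X : Type u} [Group X] [Finite X] {P : Subgroup X}
    (hP : IsPGroup p P) {a b : X} (ha : a ∈ Subgroup.normalizer (P : Set X))
    (hb : b ∈ Subgroup.normalizer (P : Set X))
    (hqa : ⁅⁅P, Subgroup.zpowers a⁆, Subgroup.zpowers a⁆ = ⊥)
    (hqb : ⁅⁅P, Subgroup.zpowers b⁆, Subgroup.zpowers b⁆ = ⊥) {g : X}
    (hg : g ∈ Subgroup.closure ({a, b} : Set X)) (hgo : ¬ p ∣ orderOf g)
    (hgP : g ∉ Subgroup.centralizer (P : Set X)) :
    ∃ (P₁ K : Subgroup X) (θ : P₁ →* Multiplicative (Fin 2 → ZMod p)) (ψ : K →* SL (ZMod p))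
      (_ : IsPGroup p P₁) (hn : ∀ k ∈ K, ∀ x ∈ P₁, k * x * k⁻¹ ∈ P₁),
      Function.Surjective θ ∧ Function.Surjective ψ ∧
        ∀ (k : K) (x : P₁), θ ⟨(k : X) * x * (k : X)⁻¹, hn k k.2 x x.2⟩ =
          Multiplicative.ofAdd ((ψ k).1.mulVec (Multiplicative.toAdd (θ x))) := by
  obtain ⟨F, iF, iC, iFin, φ, c, hc, h1, h2, P₁, θ, hP₁, hn, hθ, hθe⟩ :=
    exists_module_of_pgroup hP ha hb hqa hqb hg hgo hgP
  haveI : Finite φ.range := Finite.of_surjective φ.rangeRestrict φ.rangeRestrict_surjective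
  have hsy : 1 < Nat.card (Sylow p φ.range) := by
    refine one_lt_card_sylow hc ⟨_, h1⟩ ⟨_, h2⟩ ?_
    rintro _ ⟨⟨x, hx⟩, rfl⟩
    have hle : Subgroup.closure ({a, b} : Set X) ≤ ((Subgroup.closure {upperU c, lowerU (1 : F)}).comap φ).map (Subgroup.closure ({a, b} : Set X)).subtype := by
      rw [Subgroup.closure_le]
      intro y hy
      rcases hy with e | e
      · refine ⟨⟨a, Subgroup.subset_closure (by simp)⟩, ?_, e.symm⟩
        show φ ⟨_, _⟩ ∈ Subgroup.closure ({upperU c, lowerU 1} : Set (SL F))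
        rw [h1]
        exact Subgroup.subset_closure (by simp)
      · refine ⟨⟨b, Subgroup.subset_closure (by simp)⟩, ?_, (Set.mem_singleton_iff.1 e).symm⟩
        show φ ⟨_, _⟩ ∈ Subgroup.closure ({upperU c, lowerU 1} : Set (SL F))
        rw [h2]
        exact Subgroup.subset_closure (by simp)
    obtain ⟨y, hy, hyx⟩ := hle hx
    exact (Subtype.ext hyx : y = ⟨x, hx⟩) ▸ hy
  obtain ⟨f, hf⟩ := exists_sl2_zmod (p := p) hodd (ι := φ.range.subtype) φ.range.subtype_injective hsy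
  obtain ⟨j, hj, hje⟩ := exists_natural_basis hodd (φ.range.subtype.comp f)
    (φ.range.subtype_injective.comp hf)
  set K₀ : Subgroup ↥(Subgroup.closure ({a, b} : Set X)) := f.range.comap φ.rangeRestrict with hK₀
  let eK := K₀.equivMapOfInjective (Subgroup.closure ({a, b} : Set X)).subtype (Subgroup.subtype_injective _)
  let ef := MonoidHom.ofInjective hf
  let ψ₀ : K₀ →* SL (ZMod p) := ef.symm.toMonoidHom.comp
    ((φ.rangeRestrict.comp K₀.subtype).codRestrict f.range (fun x => x.2))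
  have hψ₀ : ∀ k : K₀, ((f (ψ₀ k) : φ.range) : SL F) = φ k := by
    intro k
    have h3 : (ef (ψ₀ k) : φ.range) = φ.rangeRestrict k := by
      show ((ef (ef.symm _) : f.range) : φ.range) = _
      rw [ef.apply_symm_apply]
      rfl
    exact congrArg Subtype.val h3
  let jm : Multiplicative (Fin 2 → ZMod p) →* Multiplicative (F × F) :=
    AddMonoidHom.toMultiplicative j
  have hjm : Function.Injective jm := fun x y h => Multiplicative.toAdd.injective
    (hj (congrArg Multiplicative.toAdd h))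
  let ej := MonoidHom.ofInjective hjm
  let V₀ : Subgroup ↥P₁ := jm.range.comap θ
  let eV := V₀.equivMapOfInjective P₁.subtype P₁.subtype_injective
  let θ₀ : V₀ →* Multiplicative (Fin 2 → ZMod p) := ej.symm.toMonoidHom.comp
    ((θ.comp V₀.subtype).codRestrict jm.range (fun x => x.2))
  have hθ₀ : ∀ x : V₀, jm (θ₀ x) = θ x := by
    intro x
    have h3 : ((ej (θ₀ x) : jm.range) : Multiplicative (F × F)) = θ x := by
      show ((ej (ej.symm _) : jm.range) : Multiplicative (F × F)) = _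
      rw [ej.apply_symm_apply]
      rfl
    exact h3
  have hmem : ∀ k ∈ K₀.map (Subgroup.closure ({a, b} : Set X)).subtype, ∀ x ∈ V₀.map P₁.subtype,
      k * x * k⁻¹ ∈ V₀.map P₁.subtype := by
    rintro _ ⟨k, hk, rfl⟩ _ ⟨x, hx, rfl⟩
    refine ⟨⟨(k : X) * x * (k : X)⁻¹, hn k k.2 x x.2⟩, ?_, rfl⟩
    show θ _ ∈ jm.range
    obtain ⟨v, hv⟩ := hx
    rw [hθe k x, ← hv, ← hψ₀ ⟨k, hk⟩]
    exact ⟨Multiplicative.ofAdd ((ψ₀ ⟨k, hk⟩).1.mulVec (Multiplicative.toAdd v)),
      congrArg Multiplicative.ofAdd (hje (ψ₀ ⟨k, hk⟩) (Multiplicative.toAdd v))⟩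
  refine ⟨V₀.map P₁.subtype, K₀.map (Subgroup.closure ({a, b} : Set X)).subtype, θ₀.comp eV.symm.toMonoidHom,
    ψ₀.comp eK.symm.toMonoidHom, hP.to_le ((Subgroup.map_subtype_le _).trans hP₁), hmem,
    (ej.symm.surjective.comp ?_).comp eV.symm.surjective,
    (ef.symm.surjective.comp ?_).comp eK.symm.surjective, fun k x => ?_⟩
  · rintro ⟨v, hv⟩
    obtain ⟨x, hx⟩ := hθ v
    exact ⟨⟨x, (show θ x ∈ jm.range by rw [hx]; exact hv)⟩, Subtype.ext hx⟩
  · rintro ⟨y, hy⟩
    obtain ⟨x, hx⟩ := φ.rangeRestrict_surjective y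
    exact ⟨⟨x, (show φ.rangeRestrict x ∈ f.range by rw [hx]; exact hy)⟩, Subtype.ext hx⟩
  · obtain ⟨k', rfl⟩ := eK.surjective k
    obtain ⟨x', rfl⟩ := eV.surjective x
    have hx2 : (⟨((k' : ↥(Subgroup.closure ({a, b} : Set X))) : X) * (x' : ↥P₁) * ((k' : ↥(Subgroup.closure ({a, b} : Set X))) : X)⁻¹,
        hn _ (k' : ↥(Subgroup.closure ({a, b} : Set X))).2 _ (x' : ↥P₁).2⟩ : ↥P₁) ∈ V₀ := by
      obtain ⟨y, hy, hye⟩ := hmem _ (eK k').2 _ (eV x').2
      exact (show y = ⟨((k' : ↥(Subgroup.closure ({a, b} : Set X))) : X) * ((x' : ↥P₁) : X) * ((k' : ↥(Subgroup.closure ({a, b} : Set X))) : X)⁻¹,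
        hn _ (k' : ↥(Subgroup.closure ({a, b} : Set X))).2 _ (x' : ↥P₁).2⟩ from Subtype.ext hye) ▸ hy
    have he : (⟨(eK k' : X) * (eV x' : X) * (eK k' : X)⁻¹, hmem _ (eK k').2 _ (eV x').2⟩ :
        ↥(V₀.map P₁.subtype)) = eV ⟨_, hx2⟩ := Subtype.ext rfl
    show θ₀ (eV.symm _) = Multiplicative.ofAdd
      ((ψ₀ (eK.symm (eK k'))).1.mulVec (Multiplicative.toAdd (θ₀ (eV.symm (eV x')))))
    rw [he, eV.symm_apply_apply, eV.symm_apply_apply, eK.symm_apply_apply]
    apply hjm
    rw [hθ₀]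
    show θ _ = Multiplicative.ofAdd (j _)
    rw [toAdd_ofAdd, hje, hθe]
    have h4 : Multiplicative.toAdd (θ (x' : ↥P₁)) = j (Multiplicative.toAdd (θ₀ x')) :=
      congrArg Multiplicative.toAdd (hθ₀ x').symm
    rw [h4, ← hψ₀ k']
    rfl

end CfsgLib.QuadPair
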