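import Cfsg.Agent.Lib.QuadPairSection
import Cfsg.Agent.Lib.StableBridge

/-!
# Failure of quadratic stability gives `SL₂(p)` sections
-/

set_option autoImplicit false
set_option linter.style.haveILetI false

universe u v

namespace CfsgLib.QuadPair

open CfsgLib.Dickson

variable {p : ℕ} [hp : Fact p.Prime]

/-- A quadratic element outside `O_p` modulo the kernel of the action gives a conjugate pair. -/
theorem exists_pair_of_not_pCore {X : Type u} [Group X] [Finite X] {P : Subgroup X} [P.Normal]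
    {a : X} (hnot : (QuotientGroup.mk a : X ⧸ Subgroup.centralizer (P : Set X)) ∉
      Cfsg.pCore p (X ⧸ Subgroup.centralizer (P : Set X))) :
    ∃ g : X, ∃ w ∈ Subgroup.closure ({a, g * a * g⁻¹} : Set X), ¬ p ∣ orderOf w ∧
      w ∉ Subgroup.centralizer (P : Set X) := by
  set C := Subgroup.centralizer (P : Set X) with hC
  obtain ⟨gq, hgq⟩ : ∃ g : X ⧸ C, ¬ IsPGroup p
      (Subgroup.closure ({(a : X ⧸ C), g * (a : X ⧸ C) * g⁻¹} : Set (X ⧸ C))) := by
    by_contra hc
    push Not at hc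
    exact hnot (CfsgLib.Core.baer_suzuki hc)
  obtain ⟨g, rfl⟩ := QuotientGroup.mk_surjective gq
  obtain ⟨wq, hwq1, hwqp⟩ := exists_pprime_of_not_isPGroup hgq
  have hmem : (wq : X ⧸ C) ∈
      (Subgroup.closure ({a, g * a * g⁻¹} : Set X)).map (QuotientGroup.mk' C) := by
    rw [MonoidHom.map_closure, Set.image_pair]
    exact wq.2
  obtain ⟨w₀, hw₀, hw₀q⟩ := hmem
  obtain ⟨e, m, hm, he⟩ := Nat.exists_eq_pow_mul_and_not_dvd (orderOf_pos w₀).ne' p hp.out.ne_one
  refine ⟨g, w₀ ^ p ^ e, pow_mem hw₀ _, fun h => hm (h.trans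
    (orderOf_dvd_of_pow_eq_one (by rw [← pow_mul, ← he, pow_orderOf_eq_one]))), fun hc => hwq1 ?_⟩
  refine orderOf_eq_one_iff.1 (Nat.eq_one_of_dvd_coprimes
    (((hp.out.coprime_iff_not_dvd).2 hwqp).pow_left e) (orderOf_dvd_of_pow_eq_one ?_) dvd_rfl)
  apply Subtype.ext
  rw [Subgroup.coe_pow, Subgroup.coe_one, ← hw₀q, ← map_pow]
  exact (QuotientGroup.eq_one_iff _).2 hc

/-- A quadratic element outside `O_p` modulo the kernel gives a section isomorphic to `SL₂(p)`. -/
theorem exists_section_of_not_pCore (hodd : p ≠ 2) {X : Type u} [Group X] [Finite X]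
    {P : Subgroup X} [hPn : P.Normal] (hP : IsPGroup p P) {a : X}
    (hq : ⁅⁅P, Subgroup.zpowers a⁆, Subgroup.zpowers a⁆ = ⊥)
    (hnot : (QuotientGroup.mk a : X ⧸ Subgroup.centralizer (P : Set X)) ∉
      Cfsg.pCore p (X ⧸ Subgroup.centralizer (P : Set X))) :
    ∃ (K : Subgroup X) (ψ : K →* SL (ZMod p)), Function.Surjective ψ := by
  obtain ⟨g, w, hw, hwp, hwP⟩ := exists_pair_of_not_pCore (p := p) hnot
  have hN : ∀ x : X, x ∈ Subgroup.normalizer (P : Set X) := fun x => by
    rw [Subgroup.normalizer_eq_top]; exact Subgroup.mem_top x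
  obtain ⟨K, L, hL, -, ⟨e⟩⟩ := exists_section_of_pair hodd hP (hN a) (hN _) hq
    (quad_conj (hN g) hq) hw hwp hwP
  exact ⟨K, e.toMonoidHom.comp (QuotientGroup.mk' (L.subgroupOf K)),
    e.surjective.comp (QuotientGroup.mk'_surjective _)⟩

/-- Lift a map of a subgroup of a quotient onto a group to a section. -/
theorem exists_section_of_quotient {G : Type u} [Group G] {N : Subgroup G} [N.Normal]
    {K : Subgroup (G ⧸ N)} {M : Type v} [Group M] (ψ : K →* M) (hψ : Function.Surjective ψ) :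
    ∃ (K' L : Subgroup G) (hL : (L.subgroupOf K').Normal), K' ≤ ⊤ ∧
      Nonempty ((K' ⧸ L.subgroupOf K') ≃* M) := by
  refine exists_section (H₀ := (⊤ : Subgroup G))
    (K' := K.comap ((QuotientGroup.mk' N).comp (⊤ : Subgroup G).subtype))
    (ψ.comp ((((QuotientGroup.mk' N).comp (⊤ : Subgroup G).subtype).comp
      (Subgroup.subtype _)).codRestrict K (fun x => x.2))) (hψ.comp ?_)
  rintro ⟨y, hy⟩
  obtain ⟨x, rfl⟩ := QuotientGroup.mk'_surjective N y
  exact ⟨⟨⟨x, Subgroup.mem_top x⟩, hy⟩, rfl⟩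

theorem mk_not_mem_pCore_of_normalizer {X : Type u} [Group X] {P : Subgroup X}
    [P.Normal] {a : X} (ha : a ∈ Subgroup.normalizer (P : Set X))
    (hnot : (QuotientGroup.mk (⟨a, ha⟩ : ↥(Subgroup.normalizer (P : Set X))) :
      ↥(Subgroup.normalizer (P : Set X)) ⧸
        (Subgroup.centralizer (P : Set X)).subgroupOf (Subgroup.normalizer (P : Set X))) ∉
      Cfsg.pCore p _) :
    (QuotientGroup.mk a : X ⧸ Subgroup.centralizer (P : Set X)) ∉
      Cfsg.pCore p (X ⧸ Subgroup.centralizer (P : Set X)) := by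
  intro h
  set N := Subgroup.normalizer (P : Set X)
  set C := Subgroup.centralizer (P : Set X)
  have hN : ∀ x : X, x ∈ N := fun x => by
    show x ∈ Subgroup.normalizer (P : Set X)
    rw [Subgroup.normalizer_eq_top]; exact Subgroup.mem_top x
  let i : X →* ↥N := (MonoidHom.id X).codRestrict N hN
  let f : X ⧸ C →* ↥N ⧸ C.subgroupOf N :=
    QuotientGroup.map C (C.subgroupOf N) i (fun x hx => hx)
  have hf : Function.Surjective f := by
    intro q
    obtain ⟨⟨x, hx⟩, rfl⟩ := QuotientGroup.mk_surjective q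
    exact ⟨(x : X ⧸ C), rfl⟩
  exact hnot (CfsgLib.Core.map_pCore_le_of_surjective p f hf ⟨_, h, rfl⟩)

end CfsgLib.QuadPair
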