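import Cfsg.Agent.Lib.QuadPairModule
import Cfsg.Agent.Lib.QuadPairStable
import Cfsg.Prelude.Def_PLocal
import Cfsg.Prelude.Def_LocalEven

/-!
# `Qd(p)` is involved in a group with a natural `SL₂(p)` module
-/

set_option autoImplicit false
set_option linter.style.haveILetI false

universe u v

namespace CfsgLib.QuadPair

open CfsgLib.Dickson
open scoped commutatorElement

variable {p : ℕ} [hp : Fact p.Prime]

/-- The affine map with translation part `v` and linear part `M`. -/
def affine (v : Fin 2 → ZMod p) (M : SL (ZMod p)) :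
    Matrix.SpecialLinearGroup (Fin 3) (ZMod p) :=
  ⟨!![M.1 0 0, M.1 0 1, v 0; M.1 1 0, M.1 1 1, v 1; 0, 0, 1], by
    rw [Matrix.det_fin_three]
    simp
    linear_combination det_eq M⟩

theorem coe_affine (v : Fin 2 → ZMod p) (M : SL (ZMod p)) :
    (affine v M).1 = !![M.1 0 0, M.1 0 1, v 0; M.1 1 0, M.1 1 1, v 1; 0, 0, 1] := rfl

theorem affine_mem (v : Fin 2 → ZMod p) (M : SL (ZMod p)) : affine v M ∈ Cfsg.qd p :=
  Subgroup.subset_closure ⟨by simp [coe_affine], by simp [coe_affine], by simp [coe_affine]⟩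

theorem affine_mul (v w : Fin 2 → ZMod p) (M N : SL (ZMod p)) :
    affine v M * affine w N = affine (v + M.1.mulVec w) (M * N) := by
  apply Subtype.ext
  rw [Matrix.SpecialLinearGroup.coe_mul, coe_affine, coe_affine, coe_affine]
  ext i j
  fin_cases i <;> fin_cases j <;>
    simp [Matrix.mul_apply, Fin.sum_univ_three, Fin.sum_univ_two, Matrix.mulVec, dotProduct] <;> ring

theorem affine_zero_one : affine (0 : Fin 2 → ZMod p) 1 = 1 := by
  apply Subtype.ext
  rw [coe_affine]
  ext i j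
  fin_cases i <;> fin_cases j <;> simp

theorem affine_injective {v w : Fin 2 → ZMod p} {M N : SL (ZMod p)} (h : affine v M = affine w N) :
    v = w ∧ M = N := by
  have e : ∀ i j, (affine v M).1 i j = (affine w N).1 i j := fun i j => by rw [h]
  refine ⟨funext fun i => ?_, sl_ext ?_ ?_ ?_ ?_⟩
  · fin_cases i
    · simpa [coe_affine] using e 0 2
    · simpa [coe_affine] using e 1 2
  · simpa [coe_affine] using e 0 0
  · simpa [coe_affine] using e 0 1
  · simpa [coe_affine] using e 1 0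
  · simpa [coe_affine] using e 1 1

theorem exists_affine_of_mem {A : Matrix.SpecialLinearGroup (Fin 3) (ZMod p)}
    (hA : A ∈ Cfsg.qd p) : ∃ v M, A = affine v M := by
  induction hA using Subgroup.closure_induction with
  | mem A h =>
    obtain ⟨h0, h1, h2⟩ := h
    refine ⟨![A.1 0 2, A.1 1 2], ⟨!![A.1 0 0, A.1 0 1; A.1 1 0, A.1 1 1], ?_⟩, Subtype.ext ?_⟩
    · have hd := A.2
      rw [Matrix.det_fin_three, h0, h1, h2] at hd
      rw [Matrix.det_fin_two]
      simp
      linear_combination hd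
    · ext i j
      fin_cases i <;> fin_cases j <;> simp [affine, h0, h1, h2]
  | one => exact ⟨0, 1, affine_zero_one.symm⟩
  | mul A B _ _ hA hB =>
    obtain ⟨v, M, rfl⟩ := hA
    obtain ⟨w, N, rfl⟩ := hB
    exact ⟨_, _, affine_mul v w M N⟩
  | inv A _ hA =>
    obtain ⟨v, M, rfl⟩ := hA
    refine ⟨-(M⁻¹).1.mulVec v, M⁻¹, inv_eq_of_mul_eq_one_right ?_⟩
    rw [affine_mul, mul_inv_cancel, Matrix.mulVec_neg, Matrix.mulVec_mulVec,
      ← Matrix.SpecialLinearGroup.coe_mul, mul_inv_cancel, Matrix.SpecialLinearGroup.coe_one,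
      Matrix.one_mulVec, add_neg_cancel, affine_zero_one]

/-- The translations. -/
def transHom (p : ℕ) [Fact p.Prime] :
    Multiplicative (Fin 2 → ZMod p) →* ↥(Cfsg.qd p) where
  toFun v := ⟨affine (Multiplicative.toAdd v) 1, affine_mem _ _⟩
  map_one' := Subtype.ext affine_zero_one
  map_mul' v w := Subtype.ext (by
    show affine _ 1 = affine _ 1 * affine _ 1
    rw [affine_mul, mul_one, Matrix.SpecialLinearGroup.coe_one, Matrix.one_mulVec, toAdd_mul])

/-- The linear part. -/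
def linHom (p : ℕ) [Fact p.Prime] : SL (ZMod p) →* ↥(Cfsg.qd p) where
  toFun M := ⟨affine 0 M, affine_mem _ _⟩
  map_one' := Subtype.ext affine_zero_one
  map_mul' M N := Subtype.ext (by
    show affine _ (M * N) = affine _ M * affine _ N
    rw [affine_mul, Matrix.mulVec_zero, add_zero])

theorem exists_onto_qd (hodd : p ≠ 2) {X : Type u} [Group X] [Finite X] {P₁ K : Subgroup X}
    (θ : P₁ →* Multiplicative (Fin 2 → ZMod p)) (ψ : K →* SL (ZMod p)) (hP₁ : IsPGroup p P₁)
    (hn : ∀ k ∈ K, ∀ x ∈ P₁, k * x * k⁻¹ ∈ P₁) (hθ : Function.Surjective θ)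
    (hψ : Function.Surjective ψ)
    (heq : ∀ (k : K) (x : P₁), θ ⟨(k : X) * x * (k : X)⁻¹, hn k k.2 x x.2⟩ =
      Multiplicative.ofAdd ((ψ k).1.mulVec (Multiplicative.toAdd (θ x)))) :
    ∃ (Y : Subgroup X) (Φ : Y →* ↥(Cfsg.qd p)), Function.Surjective Φ := by
  haveI : Fact (Nat.Prime 2) := ⟨Nat.prime_two⟩
  have h2 := two_ne_zero_of_char (F := ZMod p) hodd
  let m : SL (ZMod p) := ⟨!![-1, 0; 0, -1], by simp [Matrix.det_fin_two]⟩
  have hm : m.1 = !![-1, 0; 0, -1] := rfl
  have hmc : ∀ g, Commute m g := fun g =>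
    IsScal.commute (by exact ⟨by simp [hm], by simp [hm], by simp [hm]⟩) g
  have hm2 : m * m = 1 := by
    refine sl_ext ?_ ?_ ?_ ?_ <;> simp [hm, Matrix.mul_apply, Fin.sum_univ_two]
  have hm1 : m ≠ 1 := fun e => by
    have h := congrArg (fun g : SL (ZMod p) => g.1 0 0) e
    simp [hm] at h
    exact h2 (by linear_combination -h)
  haveI : (Subgroup.zpowers m).Normal := ⟨fun x hx g => by
    obtain ⟨i, rfl⟩ := hx
    refine ⟨i, ?_⟩
    rw [((hmc g).zpow_left i).symm.eq, mul_inv_cancel_right]⟩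
  set Z := (Subgroup.zpowers m).comap ψ with hZ
  obtain ⟨S⟩ := (inferInstance : Nonempty (Sylow 2 Z))
  set SK := (S : Subgroup Z).map Z.subtype with hSK
  obtain ⟨t, htS, htm⟩ : ∃ t ∈ SK, ψ t = m := by
    let ψZ : Z →* Subgroup.zpowers m := ψ.subgroupComap (Subgroup.zpowers m)
    have hs : Function.Surjective ψZ := ψ.subgroupComap_surjective_of_surjective _ hψ
    have hp2 : IsPGroup 2 (Subgroup.zpowers m) := fun y => ⟨1, by
      obtain ⟨i, hi⟩ := y.2
      apply Subtype.ext
      simp only [SubgroupClass.coe_pow, OneMemClass.coe_one, pow_one, ← hi]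
      rw [← zpow_natCast, ← zpow_mul, mul_comm, zpow_mul, zpow_natCast, pow_two, hm2, one_zpow]⟩
    have htop : (S : Subgroup Z).map ψZ = ⊤ := by
      rw [← Sylow.coe_mapSurjective hs S]
      exact ((S.mapSurjective hs).3 (hp2.to_subgroup ⊤) le_top).symm
    obtain ⟨x, hx, hxe⟩ := htop.ge (Subgroup.mem_top (⟨m, Subgroup.mem_zpowers m⟩ : Subgroup.zpowers m))
    exact ⟨Z.subtype x, ⟨x, hx, rfl⟩, congrArg Subtype.val hxe⟩
  set N := Subgroup.normalizer (SK : Set K) with hN
  have hNtop : N.map ψ = ⊤ := by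
    have h1 : N ⊔ Z = ⊤ := Sylow.normalizer_sup_eq_top S
    have h2 : Z.map ψ ≤ N.map ψ := by
      rw [hZ, Subgroup.map_comap_eq_self_of_surjective hψ, Subgroup.zpowers_le]
      exact ⟨t, Subgroup.le_normalizer htS, htm⟩
    rw [← Subgroup.map_top_of_surjective ψ hψ, ← h1, Subgroup.map_sup, sup_eq_left.2 h2]
  set K' := N.map K.subtype with hK'
  let eN := N.equivMapOfInjective K.subtype K.subtype_injective
  -- the intersection acts trivially
  have hcap : ∀ (x : P₁) (k : N), (x : X) * ((k : K) : X) = 1 → θ x = 1 ∧ ψ (k : K) = 1 := by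
    intro x k hxk
    have hkx : ((k : K) : X) = ((x⁻¹ : P₁) : X) := by
      rw [Subgroup.coe_inv]; exact eq_inv_of_mul_eq_one_right hxk
    have hψk : ψ (k : K) = 1 := by
      have h1 : ∀ v : Fin 2 → ZMod p, (ψ (k : K)).1.mulVec v = v := by
        intro v
        obtain ⟨y, hy⟩ := hθ (Multiplicative.ofAdd v)
        have h2 := heq (k : K) y
        rw [hy, toAdd_ofAdd] at h2
        have h3 : (⟨((k : K) : X) * y * ((k : K) : X)⁻¹, hn _ (k : K).2 _ y.2⟩ : P₁) =
            x⁻¹ * y * x⁻¹⁻¹ := Subtype.ext (by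
          show ((k : K) : X) * y * ((k : K) : X)⁻¹ = _
          rw [hkx]
          rfl)
        rw [h3, map_mul, map_mul, map_inv θ x⁻¹, mul_right_comm, mul_inv_cancel, one_mul, hy] at h2
        exact (Multiplicative.ofAdd.injective h2).symm
      apply Subtype.ext
      rw [Matrix.SpecialLinearGroup.coe_one]
      exact Matrix.ext_of_mulVec_single fun j => by rw [h1, Matrix.one_mulVec]
    refine ⟨?_, hψk⟩
    -- `k` commutes with `t`
    have hkp : ∃ j, (k : K) ^ p ^ j = 1 := by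
      obtain ⟨j, hj⟩ := hP₁ x⁻¹
      refine ⟨j, Subtype.ext ?_⟩
      rw [SubgroupClass.coe_pow, hkx, ← SubgroupClass.coe_pow, hj]
      rfl
    have hc1 : (k : K) * t * (k : K)⁻¹ * t⁻¹ ∈ SK :=
      mul_mem ((Subgroup.mem_normalizer_iff.1 k.2 t).1 htS) (inv_mem htS)
    have hc2 : ((((k : K) * t * (k : K)⁻¹ * t⁻¹ : K)) : X) ∈ P₁ := by
      have hkP : ((k : K) : X) ∈ P₁ := hkx ▸ (x⁻¹).2
      have h1 := mul_mem hkP (hn _ t.2 _ (inv_mem hkP))
      simpa [mul_assoc] using h1
    have hc : (k : K) * t * (k : K)⁻¹ * t⁻¹ = 1 := by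
      obtain ⟨i, hi⟩ := hP₁ ⟨_, hc2⟩
      obtain ⟨i', hi'⟩ := (S.2.map Z.subtype) ⟨_, hc1⟩
      refine orderOf_eq_one_iff.1 (Nat.eq_one_of_dvd_coprimes
        (((Nat.coprime_primes hp.out Nat.prime_two).2 hodd).pow i i')
        (orderOf_dvd_of_pow_eq_one (Subtype.ext ?_))
        (orderOf_dvd_of_pow_eq_one (congrArg Subtype.val hi')))
      rw [SubgroupClass.coe_pow]
      exact congrArg Subtype.val hi
    rw [mul_inv_eq_one, mul_inv_eq_iff_eq_mul] at hc
    have h3 : (⟨(t : X) * (x : X) * (t : X)⁻¹, hn _ t.2 _ x.2⟩ : P₁) = x := by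
      apply Subtype.ext
      show (t : X) * (x : X) * (t : X)⁻¹ = x
      have h4 : (x : X) = ((k : K) : X)⁻¹ := eq_inv_of_mul_eq_one_left hxk
      have hc' : ((k : K) : X) * (t : X) = (t : X) * ((k : K) : X) := congrArg Subtype.val hc
      rw [h4]
      calc (t : X) * ((k : K) : X)⁻¹ * (t : X)⁻¹ = ((t : X) * ((k : K) : X) * (t : X)⁻¹)⁻¹ := by group
        _ = (((k : K) : X) * (t : X) * (t : X)⁻¹)⁻¹ := by rw [hc']
        _ = _ := by group
    have h5 := heq t x
    rw [h3, htm] at h5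
    have h6 := congrArg Multiplicative.toAdd h5
    rw [toAdd_ofAdd] at h6
    apply Multiplicative.toAdd.injective
    funext i
    have h7 := congrFun h6 i
    rw [toAdd_one, Pi.zero_apply]
    fin_cases i <;> simp [hm, Matrix.mulVec, dotProduct] at h7 ⊢
    · exact (mul_eq_zero.1 (show 2 * Multiplicative.toAdd (θ x) 0 = 0 by linear_combination h7)).resolve_left h2
    · exact (mul_eq_zero.1 (show 2 * Multiplicative.toAdd (θ x) 1 = 0 by linear_combination h7)).resolve_left h2
  -- the semidirect product and its two maps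
  let act' : N →* MulAut P₁ :=
    (P₁.normalizerMonoidHom).comp ((K.subtype.comp N.subtype).codRestrict
      (Subgroup.normalizer (P₁ : Set X)) (fun k => by
        rw [Subgroup.mem_normalizer_iff]
        intro y
        refine ⟨hn _ (k : K).2 y, fun hy => ?_⟩
        have := hn _ (inv_mem (k : K).2) _ hy
        simpa [mul_assoc] using this))
  have hact' : ∀ (k : N) (y : P₁), ((act' k y : P₁) : X) = ((k : K) : X) * y * ((k : K) : X)⁻¹ :=
    fun k y => rfl
  let f₁ : P₁ ⋊[act'] N →* X := SemidirectProduct.lift P₁.subtype (K.subtype.comp N.subtype)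
    (fun k => MonoidHom.ext fun y => hact' k y)
  let f₂ : P₁ ⋊[act'] N →* ↥(Cfsg.qd p) := SemidirectProduct.lift ((transHom p).comp θ)
    ((linHom p).comp (ψ.comp N.subtype)) (fun k => MonoidHom.ext fun y => by
      have h1 : θ (act' k y) =
          Multiplicative.ofAdd ((ψ (k : K)).1.mulVec (Multiplicative.toAdd (θ y))) :=
        (congrArg θ (Subtype.ext (hact' k y))).trans (heq (k : K) y)
      show transHom p (θ (act' k y)) =
        linHom p (ψ (k : K)) * transHom p (θ y) * (linHom p (ψ (k : K)))⁻¹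
      rw [eq_mul_inv_iff_mul_eq, h1]
      apply Subtype.ext
      show affine _ 1 * affine 0 _ = affine 0 _ * affine _ 1
      rw [affine_mul, affine_mul, toAdd_ofAdd, Matrix.mulVec_zero, add_zero, one_mul, mul_one,
        zero_add])
  have hker : f₁.rangeRestrict.ker ≤ f₂.ker := by
    intro z hz
    rw [MonoidHom.ker_rangeRestrict, MonoidHom.mem_ker] at hz
    obtain ⟨h1, h2⟩ := hcap z.left z.right hz
    rw [MonoidHom.mem_ker]
    show transHom p (θ z.left) * linHom p (ψ (z.right : K)) = 1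
    rw [h1, h2, map_one, map_one, one_mul]
  let Φ := f₁.rangeRestrict.liftOfSurjective f₁.rangeRestrict_surjective ⟨f₂, hker⟩
  have hf₂ : Function.Surjective f₂ := by
    rintro ⟨A, hA⟩
    obtain ⟨v, M, rfl⟩ := exists_affine_of_mem hA
    obtain ⟨x, hx⟩ := hθ (Multiplicative.ofAdd v)
    obtain ⟨k, hk, hk'⟩ := hNtop.ge (Subgroup.mem_top M)
    refine ⟨⟨x, ⟨k, hk⟩⟩, Subtype.ext ?_⟩
    show affine (Multiplicative.toAdd (θ x)) 1 * affine 0 (ψ k) = affine v M
    rw [hx, hk', toAdd_ofAdd, affine_mul, one_mul, Matrix.mulVec_zero, add_zero]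
  refine ⟨f₁.range, Φ, fun y => ?_⟩
  obtain ⟨z, rfl⟩ := hf₂ y
  exact ⟨f₁.rangeRestrict z,
    f₁.rangeRestrict.liftOfRightInverse_comp_apply _ _ ⟨f₂, hker⟩ z⟩

/-- A quadratic element outside `O_p(N(P)/C(P))` makes `Qd(p)` a section. -/
theorem exists_onto_qd_of_unstable (hodd : p ≠ 2) {X : Type u} [Group X] [Finite X]
    {P : Subgroup X} [P.Normal] (hP : IsPGroup p P) {a : X}
    (hq : ⁅⁅P, Subgroup.zpowers a⁆, Subgroup.zpowers a⁆ = ⊥)
    (hnot : (QuotientGroup.mk a : X ⧸ Subgroup.centralizer (P : Set X)) ∉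
      Cfsg.pCore p (X ⧸ Subgroup.centralizer (P : Set X))) :
    ∃ (Y : Subgroup X) (Φ : Y →* ↥(Cfsg.qd p)), Function.Surjective Φ := by
  obtain ⟨g, w, hw, hwp, hwP⟩ := exists_pair_of_not_pCore (p := p) hnot
  have hN : ∀ x : X, x ∈ Subgroup.normalizer (P : Set X) := fun x => by
    rw [Subgroup.normalizer_eq_top]; exact Subgroup.mem_top x
  obtain ⟨P₁, K, θ, ψ, hP₁, hn, hθ, hψ, heq⟩ := exists_natural hodd hP (hN a) (hN _) hq
    (quad_conj (hN g) hq) hw hwp hwP
  exact exists_onto_qd hodd θ ψ hP₁ hn hθ hψ heq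

theorem involves_of_hom {G : Type u} [Group G] {M : Type v} [Group M] {Y : Subgroup G}
    (Φ : Y →* M) (hΦ : Function.Surjective Φ) : Cfsg.Involves M G := by
  have hsub : (Φ.ker.map Y.subtype).subgroupOf Y = Φ.ker :=
    Subgroup.comap_map_eq_self_of_injective (Subgroup.subtype_injective _) _
  have hn : ((Φ.ker.map Y.subtype).subgroupOf Y).Normal := by rw [hsub]; infer_instance
  exact ⟨Y, Φ.ker.map Y.subtype, hn, ⟨(QuotientGroup.quotientMulEquivOfEq hsub).trans
    (QuotientGroup.quotientKerEquivOfSurjective Φ hΦ)⟩⟩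

end CfsgLib.QuadPair
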