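import Cfsg.Agent.Lib.QuadPairFree

/-!
# In `Qd(p)` the normalizer of `Z(J(T))` does not control fusion
-/

set_option autoImplicit false
set_option linter.style.haveILetI false

universe u

namespace CfsgLib.QuadPair

open CfsgLib.Dickson

variable {p : ℕ} [hp : Fact p.Prime]

/-- A `p`-group of two by two matrices containing a transvection consists of transvections. -/
theorem exists_upperU_of_pgroup (hodd : p ≠ 2) {I : Subgroup (SL (ZMod p))} (hI : IsPGroup p I)
    (h1 : upperU 1 ∈ I) {y : SL (ZMod p)} (hy : y ∈ I) : ∃ a, y = upperU a := by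
  haveI : Nontrivial I := (Subgroup.nontrivial_iff_ne_bot _).2 fun e => by
    have h := congrArg (fun g : SL (ZMod p) => g.1 0 1) (Subgroup.mem_bot.1 (e ▸ h1))
    simp [coe_upperU] at h
  haveI := hI.center_nontrivial
  obtain ⟨z, hz⟩ := exists_ne (1 : Subgroup.center I)
  have hc : ∀ g ∈ I, Commute g ((z : I) : SL (ZMod p)) := fun g hg =>
    congrArg Subtype.val (Subgroup.mem_center_iff.1 z.2 ⟨g, hg⟩)
  have h2 := two_ne_zero_of_char (F := ZMod p) hodd
  have htr : ∀ g ∈ I, g.1 0 0 + g.1 1 1 = 2 := fun g hg => by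
    obtain ⟨k, hk⟩ := hI ⟨g, hg⟩
    exact trace_of_pow (p := p) (k := k) (congrArg Subtype.val hk)
  obtain ⟨b, hb⟩ : ∃ b, ((z : I) : SL (ZMod p)) = upperU b :=
    ⟨_, eq_upperU (hc _ h1).symm (htr _ (z : I).2) h2⟩
  have hzs : ¬ IsScal ((z : I) : SL (ZMod p)) := by
    intro h
    have hb0 : b = 0 := by have := h.1; rw [hb] at this; simpa [coe_upperU] using this
    exact hz (Subtype.ext (Subtype.ext (by rw [hb, hb0, upperU_zero]; rfl)))
  exact ⟨_, eq_upperU (commute_of_commute hzs (hc _ hy) (hc _ h1)) (htr _ hy) h2⟩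

/-- In a copy of `Qd(p)` some `Z(J(T))` does not control strong fusion. -/
theorem not_controls_of_iso (hodd : p ≠ 2) {X : Type u} [Group X] [Finite X]
    (e : X ≃* ↥(Cfsg.qd p)) :
    ¬ ∀ T : Sylow p X, Cfsg.ControlsStrongFusion p (Cfsg.centerThompsonAOf (T : Subgroup X)) := by
  intro h
  let α : (Fin 2 → ZMod p) → SL (ZMod p) → X := fun v M => e.symm ⟨affine v M, affine_mem v M⟩
  have hαmul : ∀ v w M N, α v M * α w N = α (v + M.1.mulVec w) (M * N) := fun v w M N => by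
    show e.symm _ * e.symm _ = e.symm _
    rw [← map_mul]
    exact congrArg e.symm (Subtype.ext (affine_mul v w M N))
  have hαinj : ∀ {v w M N}, α v M = α w N → v = w ∧ M = N := fun h =>
    affine_injective (congrArg Subtype.val (e.symm.injective h))
  have hαex : ∀ x : X, ∃ v M, x = α v M := fun x => by
    obtain ⟨v, M, hM⟩ := exists_affine_of_mem (e x).2
    exact ⟨v, M, e.eq_symm_apply.2 (Subtype.ext hM)⟩
  have hα1 : α 0 1 = 1 := by
    show e.symm _ = 1
    rw [show (⟨affine 0 1, affine_mem 0 1⟩ : ↥(Cfsg.qd p)) = 1 from Subtype.ext affine_zero_one,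
      map_one]
  have hsingle : ∀ c : ZMod p, ∀ a : ZMod p,
      (upperU a).1.mulVec (Pi.single 0 c) = (Pi.single 0 c : Fin 2 → ZMod p) := fun c a => by
    funext j
    fin_cases j <;> simp [coe_upperU, Matrix.mulVec, dotProduct]
  -- the Sylow subgroup
  let Tset : Subgroup X :=
    { carrier := {x | ∃ v a, x = α v (upperU a)}
      one_mem' := ⟨0, 0, by rw [upperU_zero, hα1]⟩
      mul_mem' := by
        rintro _ _ ⟨v, a, rfl⟩ ⟨w, b, rfl⟩
        exact ⟨_, a + b, by rw [hαmul, upperU_add]⟩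
      inv_mem' := by
        rintro _ ⟨v, a, rfl⟩
        refine ⟨-(upperU (-a)).1.mulVec v, -a, inv_eq_of_mul_eq_one_right ?_⟩
        rw [hαmul, upperU_add, add_neg_cancel, upperU_zero, Matrix.mulVec_neg, Matrix.mulVec_mulVec,
          ← Matrix.SpecialLinearGroup.coe_mul, upperU_add, add_neg_cancel, upperU_zero,
          Matrix.SpecialLinearGroup.coe_one, Matrix.one_mulVec, add_neg_cancel, hα1] }
  have hmemT : ∀ {v a}, α v (upperU a) ∈ Tset := fun {v a} => ⟨v, a, rfl⟩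
  have hTcard : Nat.card Tset = p ^ 3 := by
    have hb : Function.Bijective (fun va : (Fin 2 → ZMod p) × ZMod p =>
        (⟨α va.1 (upperU va.2), va.1, va.2, rfl⟩ : Tset)) := by
      refine ⟨fun x y hxy => ?_, ?_⟩
      · obtain ⟨h1, h2⟩ := hαinj (congrArg Subtype.val hxy)
        refine Prod.ext h1 ?_
        have h3 := congrArg (fun g : SL (ZMod p) => g.1 0 1) h2
        simpa [coe_upperU] using h3
      · rintro ⟨x, v, a, rfl⟩
        exact ⟨(v, a), rfl⟩
    rw [← Nat.card_eq_of_bijective _ hb, Nat.card_prod, Nat.card_fun, Nat.card_zmod,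
      Nat.card_eq_fintype_card, Fintype.card_fin]
    ring
  obtain ⟨T, hT⟩ := (IsPGroup.of_card hTcard).exists_le_sylow
  have hTeq : (T : Subgroup X) = Tset := by
    refine le_antisymm (fun x hx => ?_) hT
    obtain ⟨v, M, rfl⟩ := hαex x
    let I : Subgroup (SL (ZMod p)) :=
      { carrier := {M | ∃ v, α v M ∈ (T : Subgroup X)}
        one_mem' := ⟨0, hα1 ▸ one_mem _⟩
        mul_mem' := by
          rintro M N ⟨v, hv⟩ ⟨w, hw⟩
          exact ⟨_, hαmul v w M N ▸ mul_mem hv hw⟩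
        inv_mem' := by
          rintro M ⟨v, hv⟩
          refine ⟨-(M⁻¹).1.mulVec v, ?_⟩
          have e1 : α (-(M⁻¹).1.mulVec v) M⁻¹ = (α v M)⁻¹ := by
            refine eq_inv_of_mul_eq_one_right ?_
            rw [hαmul, mul_inv_cancel, Matrix.mulVec_neg, Matrix.mulVec_mulVec,
              ← Matrix.SpecialLinearGroup.coe_mul, mul_inv_cancel,
              Matrix.SpecialLinearGroup.coe_one, Matrix.one_mulVec, add_neg_cancel, hα1]
          rw [e1]
          exact inv_mem hv }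
    have hIp : IsPGroup p I := by
      rintro ⟨M', v', hv'⟩
      obtain ⟨k, hk⟩ := T.2 ⟨_, hv'⟩
      refine ⟨k, Subtype.ext ?_⟩
      show M' ^ p ^ k = 1
      have hpow : ∀ n : ℕ, ∃ w, α v' M' ^ n = α w (M' ^ n) := by
        intro n
        induction n with
        | zero => exact ⟨0, by rw [pow_zero, pow_zero, hα1]⟩
        | succ n ih =>
          obtain ⟨w, hw⟩ := ih
          exact ⟨_, by rw [pow_succ, pow_succ, hw, hαmul]⟩
      obtain ⟨w, hw⟩ := hpow (p ^ k)
      have h0 : α v' M' ^ p ^ k = α 0 1 := (congrArg Subtype.val hk).trans hα1.symm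
      exact (hαinj (hw.symm.trans h0)).2
    obtain ⟨a, rfl⟩ := exists_upperU_of_pgroup hodd hIp ⟨0, hT hmemT⟩ ⟨v, hx⟩
    exact hmemT
  set U := Cfsg.centerThompsonAOf (T : Subgroup X) with hU
  have hUeq : U = CfsgLib.Stable.Zsub 0 Tset := by
    rw [hU, CfsgLib.Stable.centerThompsonAOf_eq, hTeq]
  -- the two maximal abelian subgroups
  have hnab : ¬ ∀ x ∈ Tset, ∀ y ∈ Tset, x * y = y * x := by
    intro hc
    have h1 := hc _ (hmemT (v := 0) (a := 1)) _ (hmemT (v := Pi.single 1 1) (a := 0))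
    rw [hαmul, hαmul] at h1
    have h2 := congrFun (hαinj h1).1 0
    simp [coe_upperU, Matrix.mulVec, dotProduct] at h2
  have hmax : ∀ (f : (ZMod p × ZMod p) → X), Function.Injective f → ∀ A : Subgroup X, A ≤ Tset →
      (∀ c, f c ∈ A) → (∀ x ∈ A, ∀ y ∈ A, x * y = y * x) → A ≤ CfsgLib.Stable.Jsub 0 Tset := by
    intro f hf A hA hfA hAc
    have hcard : p ^ 2 ≤ Nat.card A := by
      have := Nat.card_le_card_of_injective (fun c => (⟨f c, hfA c⟩ : A))
        (fun c d hcd => hf (congrArg Subtype.val hcd))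
      rwa [Nat.card_prod, Nat.card_zmod, ← pow_two] at this
    refine CfsgLib.Stable.isMax_le_Jsub ⟨hA, ⟨hAc, fun a _ => pow_zero a⟩, fun B hB hBab => ?_⟩
    refine le_trans ?_ hcard
    obtain ⟨i, hi, hi'⟩ := (Nat.dvd_prime_pow hp.out).1 (hTcard ▸ Subgroup.card_dvd_of_le hB)
    rcases Nat.lt_or_ge i 3 with h3 | h3
    · rw [hi']
      exact Nat.pow_le_pow_right hp.out.pos (by omega)
    · refine absurd ?_ hnab
      have : B = Tset := Subgroup.eq_of_le_of_card_ge hB (by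
        rw [hi', hTcard]; exact Nat.pow_le_pow_right hp.out.pos h3)
      exact this ▸ hBab.1
  let A₁ : Subgroup X :=
    { carrier := {x | ∃ v, x = α v 1}
      one_mem' := ⟨0, hα1.symm⟩
      mul_mem' := by
        rintro _ _ ⟨v, rfl⟩ ⟨w, rfl⟩
        exact ⟨_, by rw [hαmul, mul_one]⟩
      inv_mem' := by
        rintro _ ⟨v, rfl⟩
        refine ⟨-v, inv_eq_of_mul_eq_one_right ?_⟩
        rw [hαmul, mul_one, Matrix.SpecialLinearGroup.coe_one, Matrix.one_mulVec, add_neg_cancel,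
          hα1] }
  let A₂ : Subgroup X :=
    { carrier := {x | ∃ c a, x = α (Pi.single 0 c) (upperU a)}
      one_mem' := ⟨0, 0, by rw [Pi.single_zero, upperU_zero, hα1]⟩
      mul_mem' := by
        rintro _ _ ⟨c, a, rfl⟩ ⟨d, b, rfl⟩
        exact ⟨c + d, a + b, by rw [hαmul, upperU_add, hsingle, Pi.single_add]⟩
      inv_mem' := by
        rintro _ ⟨c, a, rfl⟩
        refine ⟨-c, -a, inv_eq_of_mul_eq_one_right ?_⟩
        rw [hαmul, upperU_add, hsingle, ← Pi.single_add, add_neg_cancel, add_neg_cancel,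
          upperU_zero, Pi.single_zero, hα1] }
  have hA₁J : A₁ ≤ CfsgLib.Stable.Jsub 0 Tset := by
    refine hmax (fun c => α ![c.1, c.2] 1) (fun c d hcd => ?_) A₁ ?_ (fun c => ⟨_, rfl⟩) ?_
    · have h1 := (hαinj hcd).1
      exact Prod.ext (congrFun h1 0) (congrFun h1 1)
    · rintro _ ⟨v, rfl⟩
      rw [← upperU_zero]
      exact hmemT
    · rintro _ ⟨v, rfl⟩ _ ⟨w, rfl⟩
      rw [hαmul, hαmul, Matrix.SpecialLinearGroup.coe_one, Matrix.one_mulVec, Matrix.one_mulVec,
        add_comm]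
  have hA₂J : A₂ ≤ CfsgLib.Stable.Jsub 0 Tset := by
    refine hmax (fun c => α (Pi.single 0 c.1) (upperU c.2)) (fun c d hcd => ?_) A₂ ?_
      (fun c => ⟨_, _, rfl⟩) ?_
    · obtain ⟨h1, h2⟩ := hαinj hcd
      have h3 := congrArg (fun g : SL (ZMod p) => g.1 0 1) h2
      exact Prod.ext (by simpa using congrFun h1 0) (by simpa [coe_upperU] using h3)
    · rintro _ ⟨c, a, rfl⟩
      exact hmemT
    · rintro _ ⟨c, a, rfl⟩ _ ⟨d, b, rfl⟩
      rw [hαmul, hαmul, hsingle, hsingle, upperU_add, upperU_add, add_comm a,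
        add_comm (Pi.single 0 c : Fin 2 → ZMod p)]
  have hJ : Tset ≤ CfsgLib.Stable.Jsub 0 Tset := by
    rintro _ ⟨v, a, rfl⟩
    have h1 : α v 1 * α (Pi.single 0 0) (upperU a) = α v (upperU a) := by
      rw [hαmul, Pi.single_zero, Matrix.mulVec_zero, add_zero, one_mul]
    rw [← h1]
    exact mul_mem (hA₁J ⟨v, rfl⟩) (hA₂J ⟨0, a, rfl⟩)
  have hU1 : ∀ x ∈ U, ∃ c, x = α (Pi.single 0 c) 1 := by
    intro x hx
    rw [hUeq] at hx
    obtain ⟨v, a, rfl⟩ : x ∈ Tset := CfsgLib.Stable.Zsub_le 0 _ hx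
    have h1 := CfsgLib.Stable.Zsub_comm_Jsub hx (hA₁J ⟨Pi.single 1 1, rfl⟩)
    have h2 := CfsgLib.Stable.Zsub_comm_Jsub hx (hA₂J ⟨0, 1, rfl⟩)
    rw [hαmul, hαmul] at h1 h2
    have e1 := congrFun (hαinj h1).1 0
    have e2 := congrFun (hαinj h2).1 0
    simp [coe_upperU, Matrix.mulVec, dotProduct] at e1 e2
    have ha : a = 0 := by
      first
        | exact e1
        | linear_combination e1
    have hv : v 1 = 0 := by
      first
        | exact e2
        | linear_combination e2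
        | linear_combination -e2
    refine ⟨v 0, ?_⟩
    rw [ha, upperU_zero]
    congr 1
    funext j
    fin_cases j <;> simp [hv]
  have hU2 : α (Pi.single 0 1) 1 ∈ U := by
    rw [hUeq]
    refine ⟨hJ (by rw [← upperU_zero]; exact hmemT), ?_⟩
    show _ ∈ Subgroup.centralizer (CfsgLib.Stable.Jsub 0 Tset : Set X)
    rw [Subgroup.mem_centralizer_iff]
    intro y hy
    obtain ⟨v, a, rfl⟩ : y ∈ Tset := CfsgLib.Stable.Jsub_le 0 _ hy
    rw [hαmul, hαmul, hsingle, Matrix.SpecialLinearGroup.coe_one, Matrix.one_mulVec, mul_one,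
      one_mul, add_comm]
  obtain ⟨T', -, hctrl⟩ := h T
  have hA₁n : A₁.Normal := ⟨fun x hx g => by
    obtain ⟨v, rfl⟩ := hx
    obtain ⟨w, M, rfl⟩ := hαex g
    refine ⟨M.1.mulVec v, ?_⟩
    rw [mul_inv_eq_iff_eq_mul, hαmul, hαmul, Matrix.SpecialLinearGroup.coe_one, Matrix.one_mulVec,
      mul_one, one_mul, add_comm]⟩
  haveI := hA₁n
  have hA₁T' : A₁ ≤ (T' : Subgroup X) := by
    refine le_trans (CfsgLib.Core.le_pCore hA₁n (IsPGroup.to_le ?_ (hA₁J.trans
      (CfsgLib.Stable.Jsub_le 0 _)))) (CfsgLib.Core.pCore_le_sylow T')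
    exact IsPGroup.of_card hTcard
  set w : SL (ZMod p) := upperU 1 * lowerU (-1) * upperU 1 with hw
  obtain ⟨-, hfus⟩ := hctrl {α (Pi.single 0 1) 1} (by
    rintro _ rfl
    exact hA₁T' ⟨_, rfl⟩)
  obtain ⟨x, hx, hxe⟩ := hfus (α 0 w) (by
    rintro _ ⟨_, rfl, rfl⟩
    exact hA₁T' (hA₁n.conj_mem _ ⟨_, rfl⟩ _))
  have h1 := (Subgroup.mem_normalizer_iff.1 hx _).1 hU2
  rw [← hxe _ rfl] at h1
  obtain ⟨c, hc⟩ := hU1 _ h1
  rw [mul_inv_eq_iff_eq_mul, hαmul, hαmul] at hc
  have h2 := congrFun (hαinj hc).1 1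
  simp [hw, coe_upperU, coe_lowerU, Matrix.mul_apply, Fin.sum_univ_two, Matrix.mulVec, dotProduct] at h2

end CfsgLib.QuadPair
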