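import Mathlib
import Cfsg.Agent.Lib.CharBurnside

/-!
# A solvable group with the element orders of `PSU(3,3)`
-/

set_option autoImplicit false
set_option maxRecDepth 20000

namespace CfsgLib.SpectrumUThreeThree

/-- The field of order `7²`. -/
abbrev Q : Type := QuadraticAlgebra (ZMod 7) (-1) 0

/-- Two by two matrices over `Q`. -/
structure M2 where
  a : Q
  b : Q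
  c : Q
  d : Q
deriving DecidableEq

@[ext] theorem M2.ext' {A B : M2} (h1 : A.a = B.a) (h2 : A.b = B.b) (h3 : A.c = B.c) (h4 : A.d = B.d) : A = B := by
  cases A; cases B; simp_all

instance : Mul M2 := ⟨fun A B => ⟨A.a * B.a + A.b * B.c, A.a * B.b + A.b * B.d, A.c * B.a + A.d * B.c, A.c * B.b + A.d * B.d⟩⟩
instance : One M2 := ⟨⟨1, 0, 0, 1⟩⟩

theorem M2.mul_def (A B : M2) : A * B =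
    ⟨A.a * B.a + A.b * B.c, A.a * B.b + A.b * B.d, A.c * B.a + A.d * B.c, A.c * B.b + A.d * B.d⟩ := rfl

theorem M2.one_def : (1 : M2) = ⟨1, 0, 0, 1⟩ := rfl

instance : Monoid M2 where
  mul_assoc A B C := by simp only [M2.mul_def]; ext1 <;> ring
  one_mul A := by simp only [M2.mul_def, M2.one_def]; ext1 <;> simp
  mul_one A := by simp only [M2.mul_def, M2.one_def]; ext1 <;> simp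


/-- The 24 matrices. -/
def elts : List M2 := [
  ⟨⟨1, 0⟩, ⟨0, 0⟩, ⟨0, 0⟩, ⟨1, 0⟩⟩,
  ⟨⟨0, 0⟩, ⟨0, 1⟩, ⟨1, 0⟩, ⟨0, 0⟩⟩,
  ⟨⟨2, 0⟩, ⟨0, 0⟩, ⟨0, 0⟩, ⟨4, 0⟩⟩,
  ⟨⟨0, 1⟩, ⟨0, 0⟩, ⟨0, 0⟩, ⟨0, 1⟩⟩,
  ⟨⟨0, 0⟩, ⟨0, 4⟩, ⟨2, 0⟩, ⟨0, 0⟩⟩,
  ⟨⟨0, 0⟩, ⟨0, 2⟩, ⟨4, 0⟩, ⟨0, 0⟩⟩,
  ⟨⟨4, 0⟩, ⟨0, 0⟩, ⟨0, 0⟩, ⟨2, 0⟩⟩,
  ⟨⟨0, 0⟩, ⟨6, 0⟩, ⟨0, 1⟩, ⟨0, 0⟩⟩,
  ⟨⟨0, 2⟩, ⟨0, 0⟩, ⟨0, 0⟩, ⟨0, 4⟩⟩,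
  ⟨⟨0, 4⟩, ⟨0, 0⟩, ⟨0, 0⟩, ⟨0, 2⟩⟩,
  ⟨⟨6, 0⟩, ⟨0, 0⟩, ⟨0, 0⟩, ⟨6, 0⟩⟩,
  ⟨⟨0, 0⟩, ⟨3, 0⟩, ⟨0, 2⟩, ⟨0, 0⟩⟩,
  ⟨⟨0, 0⟩, ⟨5, 0⟩, ⟨0, 4⟩, ⟨0, 0⟩⟩,
  ⟨⟨0, 0⟩, ⟨0, 6⟩, ⟨6, 0⟩, ⟨0, 0⟩⟩,
  ⟨⟨5, 0⟩, ⟨0, 0⟩, ⟨0, 0⟩, ⟨3, 0⟩⟩,
  ⟨⟨3, 0⟩, ⟨0, 0⟩, ⟨0, 0⟩, ⟨5, 0⟩⟩,
  ⟨⟨0, 6⟩, ⟨0, 0⟩, ⟨0, 0⟩, ⟨0, 6⟩⟩,
  ⟨⟨0, 0⟩, ⟨0, 3⟩, ⟨5, 0⟩, ⟨0, 0⟩⟩,
  ⟨⟨0, 0⟩, ⟨0, 5⟩, ⟨3, 0⟩, ⟨0, 0⟩⟩,
  ⟨⟨0, 0⟩, ⟨1, 0⟩, ⟨0, 6⟩, ⟨0, 0⟩⟩,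
  ⟨⟨0, 5⟩, ⟨0, 0⟩, ⟨0, 0⟩, ⟨0, 3⟩⟩,
  ⟨⟨0, 3⟩, ⟨0, 0⟩, ⟨0, 0⟩, ⟨0, 5⟩⟩,
  ⟨⟨0, 0⟩, ⟨4, 0⟩, ⟨0, 5⟩, ⟨0, 0⟩⟩,
  ⟨⟨0, 0⟩, ⟨2, 0⟩, ⟨0, 3⟩, ⟨0, 0⟩⟩]

/-- Table. -/
def timesA : List ℕ := [1, 3, 5, 7, 9, 8, 4, 10, 12, 11, 13, 15, 14, 16, 18, 17, 19, 21, 20, 0, 23, 22, 6, 2]

/-- Table. -/
def timesB : List ℕ := [2, 4, 6, 8, 5, 1, 0, 11, 9, 3, 14, 12, 7, 17, 15, 10, 20, 18, 13, 22, 21, 16, 23, 19]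

/-- A listed matrix. -/
def elt (i : ℕ) : M2 := elts.getD i 1

theorem elts_zero : elt 0 = 1 := by decide +kernel

theorem closed : ∀ i < 24, timesA.getD i 0 < 24 ∧ timesB.getD i 0 < 24 ∧
    elt i * elt 1 = elt (timesA.getD i 0) ∧ elt i * elt 2 = elt (timesB.getD i 0) := by
  decide +kernel

theorem a_mul : elt 1 * (elt 1 * elt 1 * elt 1 * elt 1 * elt 1 * elt 1 * elt 1) = 1 := by decide +kernel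

theorem a_mul' : (elt 1 * elt 1 * elt 1 * elt 1 * elt 1 * elt 1 * elt 1) * elt 1 = 1 := by decide +kernel

theorem b_mul : elt 2 * (elt 2 * elt 2) = 1 := by decide +kernel

theorem b_mul' : (elt 2 * elt 2) * elt 2 = 1 := by decide +kernel

/-- The sum with the identity matrix. -/
def plusOne (A : M2) : M2 := ⟨A.a + 1, A.b, A.c, A.d + 1⟩

/-- The zero matrix. -/
def zeroM : M2 := ⟨0, 0, 0, 0⟩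

/-- Every listed element other than one has a power equal to minus one, or is a root of `x² + x + 1`. -/
theorem roots : ∀ i < 24, i = 0 ∨ plusOne (elt i * elt i * elt i * elt i) = zeroM ∨ plusOne (elt i * elt i) = zeroM ∨
    plusOne (elt i) = zeroM ∨ plusOne (elt i * elt i * elt i) = zeroM ∨
    plusOne (elt i * elt i * elt i * elt i * elt i * elt i) = zeroM ∨
    (⟨(elt i * elt i).a + (elt i).a + 1, (elt i * elt i).b + (elt i).b, (elt i * elt i).c + (elt i).c,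
      (elt i * elt i).d + (elt i).d + 1⟩ : M2) = zeroM := by
  decide +kernel

theorem orders : ∀ i < 24, elt i * elt i * elt i * elt i * elt i * elt i * elt i * elt i = 1 ∨
    elt i * elt i * elt i * elt i * elt i * elt i * elt i * elt i * elt i * elt i * elt i * elt i = 1 := by
  decide +kernel

theorem twelve : elt 1 * elt 1 * elt 2 = elt 8 ∧ elt 8 * elt 8 * elt 8 * elt 8 ≠ 1 ∧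
    elt 8 * elt 8 * elt 8 * elt 8 * elt 8 * elt 8 ≠ 1 ∧
    elt 8 * elt 8 * elt 8 * elt 8 * elt 8 * elt 8 * elt 8 * elt 8 * elt 8 * elt 8 * elt 8 * elt 8 = 1 := by
  decide +kernel

theorem eight : elt 1 * elt 1 * elt 1 * elt 1 ≠ 1 := by decide +kernel

end CfsgLib.SpectrumUThreeThree
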