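import Cfsg.Prelude.Def_Sporadic_a

/-!
Bit-mask model of the 24 coordinates, for kernel computation about the length-24 code.
Point `none` is bit 23, residue `x` is bit `x.val`.
-/

set_option autoImplicit false

namespace CfsgLib.Spor
open Cfsg
open scoped Pointwise

/-- The number of a coordinate. -/
def ix : GolayPt → ℕ
  | none => 23
  | some x => x.val

/-- The coordinate with a given number. -/
def pt (i : ℕ) : GolayPt := if i = 23 then none else some (i : ZMod 23)

theorem ix_lt (p : GolayPt) : ix p < 24 := by
  cases p with
  | none => simp [ix]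
  | some x => have := ZMod.val_lt x; simp [ix]; omega

theorem pt_ix : ∀ p : GolayPt, pt (ix p) = p := by decide +kernel

theorem ix_inj : Function.Injective ix := Function.LeftInverse.injective pt_ix

theorem ix_pt_all : ∀ i ∈ List.range 24, ix (pt i) = i := by decide +kernel

theorem ix_pt {i : ℕ} (h : i < 24) : ix (pt i) = i := ix_pt_all i (List.mem_range.2 h)

/-- The set with a given mask. -/
def setOfMask (m : ℕ) : Finset GolayPt := Finset.univ.filter fun p => m.testBit (ix p) = true

@[simp] theorem mem_setOfMask {m : ℕ} {p : GolayPt} : p ∈ setOfMask m ↔ m.testBit (ix p) = true := by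
  simp [setOfMask]

/-- Apply `f` to the value of `n`: makes the kernel compute the value once. -/
noncomputable def forceNat {α : Type} (n : ℕ) (f : ℕ → α) : α :=
  @Nat.rec (fun _ => α) (f 0) (fun k _ => f (Nat.succ k)) n

@[simp] theorem forceNat_eq {α : Type} (n : ℕ) (f : ℕ → α) : forceNat n f = f n := by
  cases n <;> rfl

/-- The natural number with given binary digits, lowest first. -/
def fromBits : List Bool → ℕ
  | [] => 0
  | b :: bs => Nat.bit b (fromBits bs)

theorem testBit_fromBits (l : List Bool) : ∀ i, (fromBits l).testBit i = l.getD i false := by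
  induction l with
  | nil => intro i; simp [fromBits]
  | cons b bs ih =>
    intro i
    cases i with
    | zero => simp [fromBits]
    | succ i => rw [fromBits, Nat.testBit_bit_succ, ih, List.getD_cons_succ]

theorem fromBits_lt (l : List Bool) : fromBits l < 2 ^ l.length := by
  induction l with
  | nil => simp [fromBits]
  | cons b bs ih => simp only [fromBits, List.length_cons, pow_succ, Nat.bit_val]; cases b <;> simp <;> omega

/-- The mask of a set. -/
def maskOf (s : Finset GolayPt) : ℕ := fromBits ((List.range 24).map fun i => decide (pt i ∈ s))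

theorem maskOf_lt (s : Finset GolayPt) : maskOf s < 2 ^ 24 := by
  simpa [maskOf] using fromBits_lt ((List.range 24).map fun i => decide (pt i ∈ s))

@[simp] theorem setOfMask_maskOf (s : Finset GolayPt) : setOfMask (maskOf s) = s := by
  ext p
  simp [maskOf, testBit_fromBits, List.getD, List.getElem?_range (ix_lt p), pt_ix]

theorem setOfMask_inj {m n : ℕ} (hm : m < 2 ^ 24) (hn : n < 2 ^ 24) (h : setOfMask m = setOfMask n) :
    m = n := by
  apply Nat.eq_of_testBit_eq
  intro i
  by_cases hi : i < 24
  · have := Finset.ext_iff.1 h (pt i)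
    simp [ix_pt hi] at this
    exact this
  · have h24 : 2 ^ 24 ≤ 2 ^ i := Nat.pow_le_pow_right (by norm_num) (by omega)
    rw [Nat.testBit_eq_false_of_lt (by omega), Nat.testBit_eq_false_of_lt (by omega)]

@[simp] theorem maskOf_setOfMask {m : ℕ} (h : m < 2 ^ 24) : maskOf (setOfMask m) = m :=
  setOfMask_inj (maskOf_lt _) h (setOfMask_maskOf _)

theorem setOfMask_and (m n : ℕ) : setOfMask (m &&& n) = setOfMask m ∩ setOfMask n := by ext p; simp

theorem setOfMask_or (m n : ℕ) : setOfMask (m ||| n) = setOfMask m ∪ setOfMask n := by ext p; simp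

theorem setOfMask_compl (m : ℕ) : setOfMask (16777215 ^^^ m) = (setOfMask m)ᶜ := by
  ext p
  have h : (16777215 : ℕ).testBit (ix p) = true := by
    have : (16777215 : ℕ) = 2 ^ 24 - 1 := by norm_num
    rw [this, Nat.testBit_two_pow_sub_one]
    simpa using ix_lt p
  simp [Nat.testBit_xor, h]

/-- The number of the set bits among the lowest `k`. -/
noncomputable def pcount (k : ℕ) : ℕ → ℕ :=
  @Nat.rec (fun _ => ℕ → ℕ) (fun _ => 0)
    (fun _ ih m => forceNat m fun v => Nat.add (Nat.mod v 2) (ih (Nat.div v 2))) k

theorem pcount_zero (m : ℕ) : pcount 0 m = 0 := rfl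

theorem pcount_succ (k m : ℕ) : pcount (k + 1) m = m % 2 + pcount k (m / 2) := by
  show forceNat m (fun v => Nat.add (Nat.mod v 2) (pcount k (Nat.div v 2))) = _
  rw [forceNat_eq]; rfl

theorem pcount_eq (k : ℕ) : ∀ m, pcount k m = ((Finset.range k).filter fun i => m.testBit i = true).card := by
  induction k with
  | zero => intro m; simp [pcount_zero]
  | succ k ih =>
    intro m
    have e : (Finset.range (k + 1)).filter (fun i => m.testBit i = true)
        = ((Finset.range 1).filter fun i => m.testBit i = true) ∪
          ((Finset.range k).filter fun i => (m / 2).testBit i = true).map ⟨Nat.succ, Nat.succ_injective⟩ := by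
      ext i
      cases i with
      | zero => simp
      | succ i => simp [Nat.testBit_succ]
    rw [e, Finset.card_union_of_disjoint, Finset.card_map, pcount_succ, ← ih]
    · congr 1
      rcases Nat.mod_two_eq_zero_or_one m with h | h <;> simp [h, Finset.filter_singleton]
    · rw [Finset.disjoint_left]
      intro i hi hj
      simp at hi hj
      obtain ⟨a, -, rfl⟩ := hj
      exact Nat.succ_ne_zero a hi.1

/-- The weight of a mask. -/
noncomputable def wt (m : ℕ) : ℕ := pcount 24 m

theorem card_setOfMask (m : ℕ) : (setOfMask m).card = wt m := by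
  rw [wt, pcount_eq]
  refine Finset.card_bij (fun p _ => ix p) ?_ ?_ ?_
  · intro p hp; simp at hp; simp [ix_lt, hp]
  · intro a _ b _ h; exact ix_inj h
  · intro i hi; simp at hi; exact ⟨pt i, by simp [ix_pt hi.1, hi.2], ix_pt hi.1⟩

/-- The word with a given mask. -/
def wordOf (m : ℕ) : GolayPt → ZMod 2 := fun p => if m.testBit (ix p) then 1 else 0

theorem support₂_wordOf (m : ℕ) : support₂ (wordOf m) = setOfMask m := by
  ext p; simp [support₂, wordOf]

theorem wordOf_xor (m n : ℕ) : wordOf (m ^^^ n) = wordOf m + wordOf n := by
  funext p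
  simp only [wordOf, Nat.testBit_xor, Pi.add_apply]
  cases m.testBit (ix p) <;> cases n.testBit (ix p) <;> decide

theorem wordOf_zero : wordOf 0 = 0 := by funext p; simp [wordOf]

theorem hammingNorm_eq_card {α : Type*} [Fintype α] (w : α → ZMod 2) :
    hammingNorm w = (support₂ w).card := by
  simp [hammingNorm, support₂]

theorem support₂_injective {α : Type*} [Fintype α] : Function.Injective (support₂ (α := α)) := by
  intro v w h
  funext a
  have := Finset.ext_iff.1 h a
  simp [support₂] at this
  revert this
  generalize v a = x; generalize w a = y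
  revert x y; decide

theorem wordOf_maskOf_support₂ (w : GolayPt → ZMod 2) : wordOf (maskOf (support₂ w)) = w :=
  support₂_injective (by rw [support₂_wordOf, setOfMask_maskOf])

end CfsgLib.Spor
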