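import Cfsg.Agent.Lib.SporObj

/-!
Groups given by all of their elements as rows of a straight-line program.
-/

set_option autoImplicit false

namespace CfsgLib.Spor
open Cfsg
open scoped Pointwise

theorem Rep.ext {g g' : P24} {L : List ℕ} (h : Rep g L) (h' : Rep g' L) : g = g' := by
  ext1 p
  exact ix_inj (by rw [h p, h' p])

/-- All rows are distinct. -/
def rowsDistinct (tab : List (List ℕ × ℕ × ℕ)) : Bool := decide (tab.map Prod.fst).Nodup

theorem row_eq_getElem {tab : List (List ℕ × ℕ × ℕ)} {k : ℕ} (hk : k < tab.length) :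
    row tab k = (tab.map Prod.fst)[k]'(by simpa using hk) := by
  simp [row, List.getD_eq_getElem, hk]

/-- If the rows are as many as the elements, every element is a row. -/
theorem exists_row {K : Subgroup P24} {n : ℕ} {tab : List (List ℕ × ℕ × ℕ)} (hok : slpOK n tab = true)
    (hgen : ∀ k < n, ∃ g ∈ K, Rep g (row tab k)) (hnd : rowsDistinct tab = true) (hcard : Nat.card K = tab.length) :
    ∀ g ∈ K, ∃ k < tab.length, Rep g (row tab k) := by
  have hs : ∀ k : Fin tab.length, ∃ g ∈ K, Rep g (row tab k) := fun k => slp_sound hok hgen k k.2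
  choose f hf hr using hs
  have hnd' : (tab.map Prod.fst).Nodup := by simpa [rowsDistinct] using hnd
  have hinj : Function.Injective fun k => (⟨f k, hf k⟩ : K) := by
    intro a b e
    have e' : f a = f b := congrArg Subtype.val e
    have hl : ∀ k : Fin tab.length, (row tab k).length = 24 := fun k => by
      have := List.all_eq_true.1 hok k (List.mem_range.2 k.2)
      simp only [Bool.and_eq_true, Nat.beq_eq] at this
      exact this.1
    have er : row tab a = row tab b := by
      refine List.ext_getElem (by rw [hl, hl]) fun i h1 h2 => ?_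
      have hi : i < 24 := hl a ▸ h1
      have ea := hr a (pt i)
      have eb := hr b (pt i)
      rw [ix_pt hi, List.getD_eq_getElem _ _ h1] at ea
      rw [ix_pt hi, List.getD_eq_getElem _ _ h2] at eb
      rw [← ea, ← eb, e']
    rw [row_eq_getElem a.2, row_eq_getElem b.2, List.Nodup.getElem_inj_iff hnd'] at er
    exact Fin.ext er
  intro g hg
  obtain ⟨k, hk⟩ := ((Nat.bijective_iff_injective_and_card _).2 ⟨hinj, by rw [Nat.card_fin, hcard]⟩).2 ⟨g, hg⟩
  have : f k = g := congrArg Subtype.val hk
  exact ⟨k, k.2, this ▸ hr k⟩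

/-- Counting the elements with a property through the rows. -/
theorem card_subtype_rows {K : Subgroup P24} {n : ℕ} {tab : List (List ℕ × ℕ × ℕ)} (hok : slpOK n tab = true)
    (hgen : ∀ k < n, ∃ g ∈ K, Rep g (row tab k)) (hnd : rowsDistinct tab = true) (hcard : Nat.card K = tab.length)
    (P : P24 → Prop) (Q : List ℕ → Bool)
    (hPQ : ∀ g ∈ K, ∀ k < tab.length, Rep g (row tab k) → (Q (row tab k) = true ↔ P g)) :
    Nat.card {g : P24 // g ∈ K ∧ P g} = (List.range tab.length).countP fun k => Q (row tab k) := by
  have hrows : ∀ k : Fin tab.length, ∃ g ∈ K, Rep g (row tab k) := fun k => slp_sound hok hgen k k.2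
  choose f hf hr using hrows
  classical
  have hb : Function.Bijective fun k : {k : Fin tab.length // Q (row tab k) = true} =>
      (⟨f k.1, hf k.1, (hPQ _ (hf k.1) k.1 k.1.2 (hr k.1)).1 k.2⟩ : {g : P24 // g ∈ K ∧ P g}) := by
    have hnd' : (tab.map Prod.fst).Nodup := by simpa [rowsDistinct] using hnd
    refine ⟨fun a b e => ?_, fun ⟨g, hg, hP⟩ => ?_⟩
    · have e' : f a.1 = f b.1 := congrArg Subtype.val e
      refine Subtype.ext (Fin.ext ?_)
      have hl : ∀ k : Fin tab.length, (row tab k).length = 24 := fun k => by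
        have := List.all_eq_true.1 hok k (List.mem_range.2 k.2)
        simp only [Bool.and_eq_true, Nat.beq_eq] at this
        exact this.1
      have er : row tab a.1 = row tab b.1 := by
        refine List.ext_getElem (by rw [hl, hl]) fun i h1 h2 => ?_
        have hi : i < 24 := hl a.1 ▸ h1
        have ea := hr a.1 (pt i)
        have eb := hr b.1 (pt i)
        rw [ix_pt hi, List.getD_eq_getElem _ _ h1] at ea
        rw [ix_pt hi, List.getD_eq_getElem _ _ h2] at eb
        rw [← ea, ← eb, e']
      rw [row_eq_getElem a.1.2, row_eq_getElem b.1.2] at er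
      exact (List.Nodup.getElem_inj_iff hnd').1 er
    · obtain ⟨k, hk, hk'⟩ := exists_row hok hgen hnd hcard g hg
      exact ⟨⟨⟨k, hk⟩, (hPQ g hg k hk hk').2 hP⟩, Subtype.ext ((hr ⟨k, hk⟩).ext hk')⟩
  rw [← Nat.card_congr (Equiv.ofBijective _ hb), Nat.card_eq_fintype_card, Fintype.card_subtype,
    List.countP_eq_length_filter, ← List.toFinset_card_of_nodup (List.nodup_range.filter _)]
  refine Finset.card_bij (fun k _ => (k : ℕ)) (fun k hk => ?_) (fun a _ b _ e => Fin.ext e) (fun k hk => ?_)
  · simpa using hk
  · simp at hk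
    exact ⟨⟨k, hk.1⟩, by simp [hk.2], rfl⟩

/-- The elements of a finite group with a multiplicative property form a subgroup. -/
def subgroupOfProp {G : Type} [Group G] [Finite G] (P : G → Prop) (h1 : P 1)
    (hmul : ∀ a b, P a → P b → P (a * b)) : Subgroup G where
  carrier := {g | P g}
  one_mem' := h1
  mul_mem' := fun {a b} => hmul a b
  inv_mem' := fun {g} hg => by
    have hp : ∀ n : ℕ, P (g ^ n) := fun n => by
      induction n with
      | zero => simpa using h1
      | succ n ih => rw [pow_succ]; exact hmul _ _ ih hg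
    have : g⁻¹ = g ^ (orderOf g - 1) := by
      rw [inv_eq_of_mul_eq_one_right]
      rw [← pow_succ', Nat.sub_add_cancel (orderOf_pos g), pow_orderOf_eq_one]
    show P g⁻¹
    rw [this]; exact hp _

end CfsgLib.Spor
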