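import Cfsg.Agent.Lib.SporBits

/-!
The length-24 code as a list of 4096 masks, its membership test and its octads.
-/

set_option autoImplicit false

namespace CfsgLib.Spor
open Cfsg
open scoped Pointwise

/-- All exclusive-or sums of sublists. -/
def spanList : List ℕ → List ℕ
  | [] => [0]
  | b :: bs => spanList bs ++ (spanList bs).map (fun x => x ^^^ b)

theorem zero_mem_spanList : ∀ B : List ℕ, 0 ∈ spanList B
  | [] => by simp [spanList]
  | _ :: bs => List.mem_append_left _ (zero_mem_spanList bs)

theorem mem_spanList_self : ∀ {B : List ℕ} {b : ℕ}, b ∈ B → b ∈ spanList B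
  | c :: bs, b, h => by
    rcases List.mem_cons.1 h with rfl | h
    · exact List.mem_append_right _ (List.mem_map.2 ⟨0, zero_mem_spanList bs, Nat.zero_xor _⟩)
    · exact List.mem_append_left _ (mem_spanList_self h)

theorem xor_mem_spanList : ∀ {B : List ℕ} {x y : ℕ}, x ∈ spanList B → y ∈ spanList B → x ^^^ y ∈ spanList B
  | [], x, y, hx, hy => by simp_all [spanList]
  | b :: bs, x, y, hx, hy => by
    simp only [spanList, List.mem_append, List.mem_map] at hx hy ⊢
    rcases hx with hx | ⟨x', hx', rfl⟩ <;> rcases hy with hy | ⟨y', hy', rfl⟩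
    · exact .inl (xor_mem_spanList hx hy)
    · exact .inr ⟨x ^^^ y', xor_mem_spanList hx hy', Nat.xor_assoc _ _ _⟩
    · refine .inr ⟨x' ^^^ y, xor_mem_spanList hx' hy, ?_⟩
      rw [Nat.xor_assoc, Nat.xor_assoc, Nat.xor_comm y b]
    · refine .inl ?_
      have : x' ^^^ b ^^^ (y' ^^^ b) = x' ^^^ y' := by
        rw [Nat.xor_comm y' b, Nat.xor_assoc, ← Nat.xor_assoc b b y', Nat.xor_self, Nat.zero_xor]
      rw [this]; exact xor_mem_spanList hx' hy'

/-- An echelon basis of the code: pivot bit and mask, highest pivot first. -/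
def golayBasis : List (ℕ × ℕ) :=
  [(23, 8391797), (22, 4196943), (21, 2101096), (20, 1050548), (19, 525274), (18, 262637),
   (17, 133817), (16, 69395), (15, 36294), (14, 18147), (13, 10558), (12, 5279)]

/-- The masks of the codewords, in increasing order. -/
def codeMasks : List ℕ := spanList (golayBasis.map Prod.snd)

/-- Elimination of the pivot bits. -/
noncomputable def reduceBy (L : List (ℕ × ℕ)) : ℕ → ℕ :=
  @List.rec (ℕ × ℕ) (fun _ => ℕ → ℕ) (fun m => m)
    (fun pb _ ih m => forceNat m fun v =>
      ih (Nat.xor v (Nat.mul pb.2 (Nat.land 1 (Nat.shiftRight v pb.1))))) L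

theorem land_shiftRight_eq (v p : ℕ) : Nat.land 1 (Nat.shiftRight v p) = (v.testBit p).toNat := by
  change 1 &&& (v >>> p) = _
  rw [Nat.and_comm, Nat.and_one_is_mod, Nat.testBit, Nat.and_comm, Nat.and_one_is_mod]
  rcases Nat.mod_two_eq_zero_or_one (v >>> p) with h | h <;> simp [h]

theorem reduceBy_nil (m : ℕ) : reduceBy [] m = m := rfl

theorem reduceBy_cons (p b : ℕ) (L : List (ℕ × ℕ)) (m : ℕ) :
    reduceBy ((p, b) :: L) m = reduceBy L (cond (m.testBit p) (m ^^^ b) m) := by
  show forceNat m (fun v => reduceBy L (Nat.xor v (Nat.mul b (Nat.land 1 (Nat.shiftRight v p))))) = _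
  rw [forceNat_eq, land_shiftRight_eq]
  cases m.testBit p
  · show reduceBy L (m ^^^ b * 0) = _; simp
  · show reduceBy L (m ^^^ b * 1) = _; simp

theorem xor_reduceBy_mem : ∀ (L : List (ℕ × ℕ)) (m : ℕ), m ^^^ reduceBy L m ∈ spanList (L.map Prod.snd)
  | [], m => by simp [reduceBy_nil, spanList]
  | (p, b) :: L, m => by
    have ih := xor_reduceBy_mem L (cond (m.testBit p) (m ^^^ b) m)
    simp only [reduceBy_cons, List.map_cons, spanList, List.mem_append, List.mem_map]
    cases h : m.testBit p <;> simp only [h, cond_true, cond_false] at ih ⊢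
    · exact .inl ih
    · refine .inr ⟨_, ih, ?_⟩
      apply Nat.eq_of_testBit_eq; intro i; simp only [Nat.testBit_xor]
      generalize m.testBit i = u; generalize b.testBit i = v
      generalize (reduceBy L (m ^^^ b)).testBit i = w
      cases u <;> cases v <;> cases w <;> rfl

/-- The membership test. -/
noncomputable def inCode (m : ℕ) : Bool := Nat.beq (reduceBy golayBasis m) 0

theorem inCode_iff {m : ℕ} : inCode m = true ↔ m ∈ codeMasks := by
  constructor
  · intro h
    have h0 : reduceBy golayBasis m = 0 := Nat.eq_of_beq_eq_true h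
    simpa [h0, codeMasks] using xor_reduceBy_mem golayBasis m
  · intro h
    have : codeMasks.all inCode = true := by decide +kernel
    exact List.all_eq_true.1 this m h

theorem codeMasks_lt : ∀ m ∈ codeMasks, m < 2 ^ 24 := by
  have : (codeMasks.all fun m => Nat.blt m 16777216) = true := by decide +kernel
  intro m hm
  simpa [Nat.blt_eq] using List.all_eq_true.1 this m hm

/-- Strictly increasing, as a linear test. -/
def ascending : List ℕ → Bool
  | [] => true
  | [_] => true
  | a :: b :: l => Nat.blt a b && ascending (b :: l)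

theorem pairwise_of_ascending : ∀ {l : List ℕ}, ascending l = true → l.Pairwise (· < ·)
  | [], _ => List.Pairwise.nil
  | [a], _ => List.pairwise_singleton _ a
  | a :: b :: l, h => by
    simp [ascending, Nat.blt_eq] at h
    have ih := pairwise_of_ascending h.2
    refine List.pairwise_cons.2 ⟨fun c hc => ?_, ih⟩
    rcases List.mem_cons.1 hc with rfl | hc
    · exact h.1
    · exact h.1.trans (List.rel_of_pairwise_cons ih hc)

theorem codeMasks_nodup : codeMasks.Nodup := by
  have h : ascending codeMasks = true := by decide +kernel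
  exact (pairwise_of_ascending h).imp fun h => h.ne

theorem length_codeMasks : codeMasks.length = 4096 := by decide +kernel

/-- The masks of the translates of the set of squares. -/
def qrMasks : List ℕ :=
  [340831, 681662, 1363324, 2726648, 5453296, 2517985, 5035970, 1683333, 3366666, 6733332, 5078057,
   1767507, 3535014, 7070028, 5751449, 3114291, 6228582, 4068557, 8137114, 7885621, 7382635, 6376663,
   4364719]

theorem qrWord_eq : ∀ (t : ZMod 23) (p : GolayPt),
    qrWord t p = wordOf (qrMasks.getD t.val 0) p := by decide +kernel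

theorem wordOf_all : wordOf 16777215 = 1 := by
  funext p; revert p; decide +kernel

theorem qrMasks_mem : ∀ t : ZMod 23, qrMasks.getD t.val 0 ∈ codeMasks := by
  simp only [← inCode_iff]; decide +kernel

theorem all_mem : (16777215 : ℕ) ∈ codeMasks := inCode_iff.1 (by decide +kernel)

/-- The words with masks in the code form a submodule. -/
def maskCode : Submodule (ZMod 2) (GolayPt → ZMod 2) where
  carrier := {w | ∃ m ∈ codeMasks, wordOf m = w}
  zero_mem' := ⟨0, zero_mem_spanList _, wordOf_zero⟩
  add_mem' := by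
    rintro v w ⟨a, ha, rfl⟩ ⟨b, hb, rfl⟩
    exact ⟨a ^^^ b, xor_mem_spanList ha hb, wordOf_xor a b⟩
  smul_mem' := by
    rintro c w ⟨a, ha, rfl⟩
    have hc : c = 0 ∨ c = 1 := by revert c; decide
    rcases hc with rfl | rfl
    · exact ⟨0, zero_mem_spanList _, by simp [wordOf_zero]⟩
    · exact ⟨a, ha, by simp⟩

/-- The generators whose sums give the echelon basis. -/
def genMasks : List ℕ := qrMasks.take 11 ++ [16777215]

/-- How each echelon vector is a sum of generators. -/
def basisCombos : List (List ℕ) :=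
  [[1, 2, 4, 7, 9, 10, 11], [0, 2, 3, 4, 6, 7, 8, 10], [1, 6, 9], [0, 5, 8], [0, 5, 6, 7, 8, 10],
   [0, 7, 8, 9, 10], [2, 3, 5, 6, 8, 9], [0, 1, 3, 5, 6, 10], [0, 3, 4, 7, 9],
   [0, 2, 3, 4, 5, 10], [1, 4, 5, 7, 9], [0, 3, 4, 6, 8]]

/-- Exclusive-or of a list. -/
def xorList : List ℕ → ℕ
  | [] => 0
  | a :: l => a ^^^ xorList l

theorem wordOf_xorList_mem (l : List ℕ) (h : ∀ a ∈ l, wordOf a ∈ golayCode) :
    wordOf (xorList l) ∈ golayCode := by
  induction l with
  | nil => simp [xorList, wordOf_zero]
  | cons a l ih =>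
    rw [xorList, wordOf_xor]
    exact golayCode.add_mem (h a (by simp)) (ih fun b hb => h b (by simp [hb]))

theorem qrWord_eq' (t : ZMod 23) : qrWord t = wordOf (qrMasks.getD t.val 0) := funext (qrWord_eq t)

theorem wordOf_genMasks_mem {a : ℕ} (ha : a ∈ genMasks) : wordOf a ∈ golayCode := by
  have : a = 16777215 ∨ ∃ t : ZMod 23, a = qrMasks.getD t.val 0 := by
    revert a; decide +kernel
  rcases this with rfl | ⟨t, rfl⟩
  · rw [wordOf_all]; exact Submodule.subset_span (Set.mem_union_right _ rfl)
  · rw [← qrWord_eq']; exact Submodule.subset_span (Set.mem_union_left _ ⟨t, rfl⟩)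

theorem wordOf_spanList_mem : ∀ (B : List ℕ), (∀ b ∈ B, wordOf b ∈ golayCode) →
    ∀ m ∈ spanList B, wordOf m ∈ golayCode
  | [], _, m, hm => by simp_all [spanList, wordOf_zero]
  | b :: bs, h, m, hm => by
    have ih := wordOf_spanList_mem bs fun c hc => h c (by simp [hc])
    simp only [spanList, List.mem_append, List.mem_map] at hm
    rcases hm with hm | ⟨x, hx, rfl⟩
    · exact ih m hm
    · rw [wordOf_xor]; exact golayCode.add_mem (ih x hx) (h b (by simp))

theorem golayCode_eq : golayCode = maskCode := by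
  apply le_antisymm
  · refine Submodule.span_le.2 ?_
    rintro w (⟨t, rfl⟩ | hw)
    · exact ⟨_, qrMasks_mem t, (qrWord_eq' t).symm⟩
    · rw [Set.mem_singleton_iff.1 hw]; exact ⟨_, all_mem, wordOf_all⟩
  · rintro w ⟨m, hm, rfl⟩
    have hB : golayBasis.map Prod.snd = basisCombos.map (fun l => xorList (l.map (genMasks.getD · 0))) := by
      decide +kernel
    refine wordOf_spanList_mem (golayBasis.map Prod.snd) ?_ m hm
    rw [hB]
    intro b hb
    obtain ⟨l, hl, rfl⟩ := List.mem_map.1 hb
    refine wordOf_xorList_mem _ fun a ha => ?_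
    obtain ⟨i, hi, rfl⟩ := List.mem_map.1 ha
    apply wordOf_genMasks_mem
    revert i; revert l; decide +kernel

theorem mem_golayCode_iff {w : GolayPt → ZMod 2} :
    w ∈ golayCode ↔ ∃ m ∈ codeMasks, wordOf m = w := by
  rw [golayCode_eq]; rfl

/-- The supports of the code, as a set of subsets. -/
abbrev codeSets : Set (Finset GolayPt) := supports (golayCode : Set (GolayPt → ZMod 2))

theorem mem_codeSets_iff {s : Finset GolayPt} : s ∈ codeSets ↔ maskOf s ∈ codeMasks := by
  constructor
  · rintro ⟨w, hw, rfl⟩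
    obtain ⟨m, hm, rfl⟩ := mem_golayCode_iff.1 hw
    rwa [support₂_wordOf, maskOf_setOfMask (codeMasks_lt m hm)]
  · intro h
    exact ⟨_, mem_golayCode_iff.2 ⟨_, h, rfl⟩, by rw [support₂_wordOf, setOfMask_maskOf]⟩

theorem setOfMask_mem_codeSets {m : ℕ} (h : m ∈ codeMasks) : setOfMask m ∈ codeSets :=
  mem_codeSets_iff.2 (by rwa [maskOf_setOfMask (codeMasks_lt m h)])

/-- The masks of the weight-`k` words. -/
noncomputable def weightMasks (k : ℕ) : List ℕ := codeMasks.filter fun m => Nat.beq (wt m) k

theorem mem_weightMasks {k m : ℕ} : m ∈ weightMasks k ↔ m ∈ codeMasks ∧ wt m = k := by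
  simp [weightMasks]

theorem mem_wordsOfWeight_iff {k : ℕ} {s : Finset GolayPt} :
    s ∈ wordsOfWeight (golayCode : Set (GolayPt → ZMod 2)) k ↔ maskOf s ∈ weightMasks k := by
  rw [mem_weightMasks, ← card_setOfMask, setOfMask_maskOf]
  exact and_congr_left' mem_codeSets_iff

theorem ncard_setOf_eq_countP (l : List ℕ) (hn : l.Nodup) (hb : ∀ m ∈ l, m < 2 ^ 24) (P : Finset GolayPt → Prop)
    (Q : ℕ → Bool) (h : ∀ m ∈ l, (Q m = true ↔ P (setOfMask m))) :
    {s : Finset GolayPt | maskOf s ∈ l ∧ P s}.ncard = l.countP Q := by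
  classical
  have e : {s : Finset GolayPt | maskOf s ∈ l ∧ P s} = ↑(((l.filter Q).toFinset).image setOfMask) := by
    ext s
    simp only [Set.mem_setOf_eq, Finset.coe_image, Set.mem_image, Finset.mem_coe, List.mem_toFinset,
      List.mem_filter]
    constructor
    · rintro ⟨h1, h2⟩
      exact ⟨maskOf s, ⟨h1, (h _ h1).2 (by simpa using h2)⟩, setOfMask_maskOf s⟩
    · rintro ⟨m, ⟨h1, h2⟩, rfl⟩
      exact ⟨by rwa [maskOf_setOfMask (hb m h1)], (h m h1).1 h2⟩
  rw [e, Set.ncard_coe_finset, Finset.card_image_of_injOn, List.toFinset_card_of_nodup (hn.filter _),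
    List.countP_eq_length_filter]
  intro a ha b hb' hab
  simp at ha hb'
  exact setOfMask_inj (hb a ha.1) (hb b hb'.1) hab

theorem weightMasks_nodup (k : ℕ) : (weightMasks k).Nodup := codeMasks_nodup.filter _

theorem weightMasks_lt (k : ℕ) : ∀ m ∈ weightMasks k, m < 2 ^ 24 :=
  fun m hm => codeMasks_lt m (List.mem_filter.1 hm).1

theorem ncard_wordsOfWeight (k : ℕ) :
    (wordsOfWeight (golayCode : Set (GolayPt → ZMod 2)) k).ncard = (weightMasks k).length := by
  have h := ncard_setOf_eq_countP (weightMasks k) (weightMasks_nodup k) (weightMasks_lt k)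
    (fun _ => True) (fun _ => true) (by simp)
  simpa [List.countP_true, ← mem_wordsOfWeight_iff] using h

theorem codeMasks_weights : ∀ m ∈ codeMasks, wt m ∈ [0, 8, 12, 16, 24] := by
  have : (codeMasks.all fun m => [0, 8, 12, 16, 24].contains (wt m)) = true := by decide +kernel
  intro m hm
  simpa using List.all_eq_true.1 this m hm

end CfsgLib.Spor
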