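import Cfsg.Agent.Lib.SporM24Elems
import Cfsg.Agent.Lib.SporM24ClassData
import Cfsg.Agent.Lib.SporElemTab

/-!
Every element of order two or three is conjugate to one of two representatives.
-/

set_option autoImplicit false
set_option maxRecDepth 20000

namespace CfsgLib.Spor
open Cfsg
open scoped Pointwise

/-- The square of the list is the identity. -/
def ordTwo (L : List ℕ) : Bool := mulL L L == List.range 24

/-- The cube of the list is the identity. -/
def ordThree (L : List ℕ) : Bool := mulL L (mulL L L) == List.range 24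

/-- The permutation given by a list, when that list is valid and preserves the code. -/
noncomputable def isElem (L : List ℕ) : Bool := validL L && listInCodeGroup L

/-- All candidates are conjugate to a representative. -/
noncomputable def conjChk (start : List ℕ) (reps conjs : List (List ℕ)) (isOrd : List ℕ → Bool) : Bool :=
  isElem start && reps.all isElem && conjs.all isElem &&
    (((fixL4.map (mulL start)).filter isOrd).all fun L => conjs.any fun C => reps.any fun r => mulL C r == mulL L C)

theorem isElem_spec {L : List ℕ} (h : isElem L = true) : permOf L ∈ M24 ∧ L.length = 24 ∧ Rep (permOf L) L := by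
  simp only [isElem, Bool.and_eq_true] at h
  have hl : L.length = 24 := by
    have := h.1
    simp only [validL, Bool.and_eq_true, Nat.beq_eq] at this
    exact this.1.1
  exact ⟨(rep_permOf h.1).mem_M24 h.2, hl, rep_permOf h.1⟩

theorem length_mulL (a b : List ℕ) : (mulL a b).length = b.length := by simp [mulL]

theorem conjChk_sound {start : List ℕ} {reps conjs : List (List ℕ)} {isOrd : List ℕ → Bool}
    (hc : conjChk start reps conjs isOrd = true) {g : P24} (hg : g ∈ M24)
    (hagree : ∀ j < 4, g (bpt j) = permOf start (bpt j))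
    (hord : ∀ L, Rep g L → L.length = 24 → isOrd L = true) :
    ∃ k ∈ M24, ∃ r ∈ reps, k * permOf r * k⁻¹ = g := by
  simp only [conjChk, Bool.and_eq_true, List.all_eq_true] at hc
  obtain ⟨⟨⟨hs, hr⟩, hk⟩, hall⟩ := hc
  obtain ⟨sM, sl, sr⟩ := isElem_spec hs
  have hmem : (permOf start)⁻¹ * g ∈ fixBase 4 := mem_fixBase.2 ⟨mul_mem (inv_mem sM) hg, fun j hj => by
    rw [Equiv.Perm.mul_apply, Equiv.Perm.inv_eq_iff_eq, hagree j hj]⟩
  have hL := mem_fixL4 hmem
  have hrep := Rep.mul (length_listOf _) sr (rep_listOf ((permOf start)⁻¹ * g))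
  rw [mul_inv_cancel_left] at hrep
  have hlen : (mulL start (listOf ((permOf start)⁻¹ * g))).length = 24 := by rw [length_mulL, length_listOf]
  have := hall _ (List.mem_filter.2 ⟨List.mem_map.2 ⟨_, hL, rfl⟩, hord _ hrep hlen⟩)
  simp only [List.any_eq_true, beq_iff_eq] at this
  obtain ⟨C, hC, r, hr', e⟩ := this
  obtain ⟨cM, cl, cr⟩ := isElem_spec (hk C hC)
  obtain ⟨rM, rl, rr⟩ := isElem_spec (hr r hr')
  refine ⟨permOf C, cM, r, hr', ?_⟩
  have a := Rep.mul rl cr rr
  have b := Rep.mul cl hrep cr
  rw [e] at a
  rw [mul_inv_eq_iff_eq_mul]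
  exact Rep.ext a b

theorem two_chk : conjChk startTwo repsTwo conjTwo ordTwo = true := by decide +kernel

theorem three_chk : conjChk startThree repsThree conjThree ordThree = true := by decide +kernel

theorem startTwo_map : (permOf startTwo) (bpt 0) = bpt 1 ∧ (permOf startTwo) (bpt 1) = bpt 0 ∧
    (permOf startTwo) (bpt 2) = bpt 3 ∧ (permOf startTwo) (bpt 3) = bpt 2 := by
  have hr := rep_permOf (show validL startTwo = true by decide +kernel)
  refine ⟨?_, ?_, ?_, ?_⟩ <;> apply ix_inj <;> rw [hr] <;> decide +kernel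

theorem startThree_map : (permOf startThree) (bpt 0) = bpt 1 ∧ (permOf startThree) (bpt 1) = bpt 2 ∧
    (permOf startThree) (bpt 2) = bpt 0 ∧ (permOf startThree) (bpt 3) = bpt 4 := by
  have hr := rep_permOf (show validL startThree = true by decide +kernel)
  refine ⟨?_, ?_, ?_, ?_⟩ <;> apply ix_inj <;> rw [hr] <;> decide +kernel

theorem bpt_ix : ∀ k ∈ List.range 7, ix (bpt k) = m24Base.getD k 0 := by decide +kernel

theorem conj_listOf_eq {f : P24} {F : ℕ → ℕ} (hF : ∀ p, ix (f p) = F (ix p)) : listOf f = (List.range 24).map F := by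
  refine List.map_congr_left fun i hi => ?_
  rw [hF, ix_pt (List.mem_range.1 hi)]

/-- The transposition of the first two base points is not in the group. -/
theorem swap_not_mem : listInCodeGroup ((List.range 24).map fun i =>
    if i = m24Base.getD 0 0 then m24Base.getD 1 0 else if i = m24Base.getD 1 0 then m24Base.getD 0 0 else i) = false := by
  decide +kernel

/-- The three-cycle of the first three base points is not in the group. -/
theorem cycle_not_mem : listInCodeGroup ((List.range 24).map fun i =>
    if i = m24Base.getD 0 0 then m24Base.getD 1 0 else if i = m24Base.getD 1 0 then m24Base.getD 2 0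
    else if i = m24Base.getD 2 0 then m24Base.getD 0 0 else i) = false := by decide +kernel

theorem classes_two {g : P24} (hg : g ∈ M24) (h2 : orderOf g = 2) :
    ∃ k ∈ M24, ∃ r ∈ repsTwo, k * permOf r * k⁻¹ = g := by
  have hsq : g * g = 1 := by rw [← pow_two, ← h2]; exact pow_orderOf_eq_one g
  have gg : ∀ x, g (g x) = x := fun x => congrArg (fun s : P24 => s x) hsq
  obtain ⟨a, ha⟩ : ∃ a, g a ≠ a := by
    by_contra hh
    push Not at hh
    rw [show g = 1 from Equiv.ext hh] at h2
    simp at h2
  obtain ⟨f, hf, fe⟩ := exists_to_base (fun i => [a, g a].getD i none) 2 (by norm_num) (by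
    intro i hi j hj hij
    interval_cases i <;> interval_cases j <;> simp_all [Ne.symm ha])
  have f0 : f a = bpt 0 := fe 0 (by norm_num)
  have f1 : f (g a) = bpt 1 := fe 1 (by norm_num)
  by_cases hex : ∃ c, c ≠ a ∧ c ≠ g a ∧ g c ≠ c
  · obtain ⟨c, ca, cb, hc⟩ := hex
    have gca : g c ≠ a := fun e => cb (by rw [← e, gg])
    have gcb : g c ≠ g a := fun e => ca (g.injective e)
    obtain ⟨h, hh, he⟩ := exists_to_base (fun i => [a, g a, c, g c].getD i none) 4 (by norm_num) (by
      have := Ne.symm ha; have := Ne.symm hc; have := Ne.symm ca; have := Ne.symm cb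
      have := Ne.symm gca; have := Ne.symm gcb
      intro i hi j hj hij
      interval_cases i <;> interval_cases j <;> simp_all)
    have h0 : h a = bpt 0 := he 0 (by norm_num)
    have h1 : h (g a) = bpt 1 := he 1 (by norm_num)
    have h2' : h c = bpt 2 := he 2 (by norm_num)
    have h3 : h (g c) = bpt 3 := he 3 (by norm_num)
    have hhM := gen24_le hh
    obtain ⟨s0, s1, s2, s3⟩ := startTwo_map
    obtain ⟨k, hk, r, hr, e⟩ := conjChk_sound two_chk (g := h * g * h⁻¹) (mul_mem (mul_mem hhM hg) (inv_mem hhM))
      (fun j hj => by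
        have conj : ∀ x, (h * g * h⁻¹) (h x) = h (g x) := fun x => by simp
        interval_cases j
        · rw [s0, ← h0, conj, h1]
        · rw [s1, ← h1, conj, gg, h0]
        · rw [s2, ← h2', conj, h3]
        · rw [s3, ← h3, conj, gg, h2'])
      (fun L hr hl => by
        rw [ordTwo, beq_iff_eq]
        have := Rep.mul hl hr hr
        rw [show h * g * h⁻¹ * (h * g * h⁻¹) = 1 by
          rw [show h * g * h⁻¹ * (h * g * h⁻¹) = h * (g * g) * h⁻¹ by group, hsq]; group] at this
        exact ((this.listOf_eq (by rw [length_mulL, hl])).symm.trans (rep_one.listOf_eq (by simp))))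
    exact ⟨h⁻¹ * k, mul_mem (inv_mem hhM) hk, r, hr, by
      rw [show g = h⁻¹ * (h * g * h⁻¹) * h by group, ← e]; group⟩
  · exfalso
    push Not at hex
    have hfM := gen24_le hf
    have hl : listOf (f * g * f⁻¹) = (List.range 24).map fun i =>
        if i = m24Base.getD 0 0 then m24Base.getD 1 0 else if i = m24Base.getD 1 0 then m24Base.getD 0 0 else i := by
      refine conj_listOf_eq fun p => ?_
      obtain ⟨x, rfl⟩ : ∃ x, f x = p := ⟨f⁻¹ p, by simp⟩
      rw [show (f * g * f⁻¹) (f x) = f (g x) by simp, ← bpt_ix 0 (by simp), ← bpt_ix 1 (by simp), ← f0, ← f1]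
      simp only [ix_inj.eq_iff, f.injective.eq_iff]
      by_cases e0 : x = a
      · rw [if_pos e0, e0]
      by_cases e1 : x = g a
      · rw [if_neg e0, if_pos e1, e1, gg]
      · rw [if_neg e0, if_neg e1, hex x e0 e1]
    have := listInCodeGroup_listOf (mul_mem (mul_mem hfM hg) (inv_mem hfM))
    rw [hl, swap_not_mem] at this
    exact absurd this (by decide)

theorem classes_three {g : P24} (hg : g ∈ M24) (h3 : orderOf g = 3) :
    ∃ k ∈ M24, ∃ r ∈ repsThree, k * permOf r * k⁻¹ = g := by
  have hcu : g * (g * g) = 1 := by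
    have := pow_orderOf_eq_one g
    rw [h3] at this
    rwa [pow_succ, pow_two, mul_assoc] at this
  have ggg : ∀ x, g (g (g x)) = x := fun x => congrArg (fun s : P24 => s x) hcu
  have no2 : ∀ x, g x ≠ x → g (g x) ≠ x := fun x hx e => hx (by
    have := ggg x
    rw [e] at this; exact this)
  obtain ⟨a, ha⟩ : ∃ a, g a ≠ a := by
    by_contra hh
    push Not at hh
    rw [show g = 1 from Equiv.ext hh] at h3
    simp at h3
  have na := no2 a ha
  have nb : g (g a) ≠ g a := fun e => ha (g.injective e)
  obtain ⟨f, hf, fe⟩ := exists_to_base (fun i => [a, g a, g (g a)].getD i none) 3 (by norm_num) (by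
    have := Ne.symm ha; have := Ne.symm na; have := Ne.symm nb
    intro i hi j hj hij
    interval_cases i <;> interval_cases j <;> simp_all)
  have f0 : f a = bpt 0 := fe 0 (by norm_num)
  have f1 : f (g a) = bpt 1 := fe 1 (by norm_num)
  have f2 : f (g (g a)) = bpt 2 := fe 2 (by norm_num)
  by_cases hex : ∃ c, c ≠ a ∧ c ≠ g a ∧ c ≠ g (g a) ∧ g c ≠ c
  · obtain ⟨c, ca, cb, cc, hc⟩ := hex
    have gca : g c ≠ a := fun e => cc (g.injective (e.trans (ggg a).symm))
    have gcb : g c ≠ g a := fun e => ca (g.injective e)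
    have gcc : g c ≠ g (g a) := fun e => cb (g.injective e)
    obtain ⟨h, hh, he⟩ := exists_to_base (fun i => [a, g a, g (g a), c, g c].getD i none) 5 le_rfl (by
      have := Ne.symm ha; have := Ne.symm na; have := Ne.symm nb; have := Ne.symm hc; have := Ne.symm ca
      have := Ne.symm cb; have := Ne.symm cc; have := Ne.symm gca; have := Ne.symm gcb; have := Ne.symm gcc
      intro i hi j hj hij
      interval_cases i <;> interval_cases j <;> simp_all)
    have h0 : h a = bpt 0 := he 0 (by norm_num)
    have h1 : h (g a) = bpt 1 := he 1 (by norm_num)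
    have h2' : h (g (g a)) = bpt 2 := he 2 (by norm_num)
    have h3' : h c = bpt 3 := he 3 (by norm_num)
    have h4 : h (g c) = bpt 4 := he 4 (by norm_num)
    have hhM := gen24_le hh
    obtain ⟨s0, s1, s2, s3⟩ := startThree_map
    obtain ⟨k, hk, r, hr, e⟩ := conjChk_sound three_chk (g := h * g * h⁻¹) (mul_mem (mul_mem hhM hg) (inv_mem hhM))
      (fun j hj => by
        have conj : ∀ x, (h * g * h⁻¹) (h x) = h (g x) := fun x => by simp
        interval_cases j
        · rw [s0, ← h0, conj, h1]
        · rw [s1, ← h1, conj, h2']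
        · rw [s2, ← h2', conj, ggg, h0]
        · rw [s3, ← h3', conj, h4])
      (fun L hr hl => by
        rw [ordThree, beq_iff_eq]
        have := Rep.mul (by rw [length_mulL, hl]) hr (Rep.mul hl hr hr)
        rw [show h * g * h⁻¹ * (h * g * h⁻¹ * (h * g * h⁻¹)) = 1 by
          rw [show h * g * h⁻¹ * (h * g * h⁻¹ * (h * g * h⁻¹)) = h * (g * (g * g)) * h⁻¹ by group, hcu]; group] at this
        exact ((this.listOf_eq (by rw [length_mulL, length_mulL, hl])).symm.trans (rep_one.listOf_eq (by simp))))
    exact ⟨h⁻¹ * k, mul_mem (inv_mem hhM) hk, r, hr, by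
      rw [show g = h⁻¹ * (h * g * h⁻¹) * h by group, ← e]; group⟩
  · exfalso
    push Not at hex
    have hfM := gen24_le hf
    have hl : listOf (f * g * f⁻¹) = (List.range 24).map fun i =>
        if i = m24Base.getD 0 0 then m24Base.getD 1 0 else if i = m24Base.getD 1 0 then m24Base.getD 2 0
        else if i = m24Base.getD 2 0 then m24Base.getD 0 0 else i := by
      refine conj_listOf_eq fun p => ?_
      obtain ⟨x, rfl⟩ : ∃ x, f x = p := ⟨f⁻¹ p, by simp⟩
      rw [show (f * g * f⁻¹) (f x) = f (g x) by simp, ← bpt_ix 0 (by simp), ← bpt_ix 1 (by simp),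
        ← bpt_ix 2 (by simp), ← f0, ← f1, ← f2]
      simp only [ix_inj.eq_iff, f.injective.eq_iff]
      by_cases e0 : x = a
      · rw [if_pos e0, e0]
      by_cases e1 : x = g a
      · rw [if_neg e0, if_pos e1, e1]
      by_cases e2 : x = g (g a)
      · rw [if_neg e0, if_neg e1, if_pos e2, e2, ggg]
      · rw [if_neg e0, if_neg e1, if_neg e2, hex x e0 e1 e2]
    have := listInCodeGroup_listOf (mul_mem (mul_mem hfM hg) (inv_mem hfM))
    rw [hl, cycle_not_mem] at this
    exact absurd this (by decide)

end CfsgLib.Spor
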