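import Cfsg.Agent.Lib.SporOrbit
import Cfsg.Agent.Lib.SporM24

/-!
Families of subsets of the 24 points given by lists of masks: invariants, certified classes,
orbit counting and maximality of stabilisers.
-/

set_option autoImplicit false

namespace CfsgLib.Spor
open Cfsg
open scoped Pointwise

/-- A finite family of subsets of the 24 points. -/
abbrev Fam : Type := Finset (Finset GolayPt)

/-- The family with the given list of masks. -/
def setSet (X : List ℕ) : Fam := (X.map setOfMask).toFinset

theorem mem_setSet {X : List ℕ} {s : Finset GolayPt} : s ∈ setSet X ↔ ∃ m ∈ X, setOfMask m = s := by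
  simp [setSet]

@[simp] theorem setSet_nil : setSet [] = ∅ := by simp [setSet]

@[simp] theorem setSet_cons (m : ℕ) (X : List ℕ) : setSet (m :: X) = insert (setOfMask m) (setSet X) := by
  simp [setSet]

/-- Membership in a list of numbers. -/
def memL (x : ℕ) (l : List ℕ) : Bool := l.any fun y => Nat.beq x y

theorem memL_iff {x : ℕ} {l : List ℕ} : memL x l = true ↔ x ∈ l := by simp [memL]

/-- Equal sets of members. -/
def sameSet (A B : List ℕ) : Bool := (A.all fun a => memL a B) && B.all fun b => memL b A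

theorem setSet_eq_of_sameSet {A B : List ℕ} (h : sameSet A B = true) : setSet A = setSet B := by
  simp only [sameSet, Bool.and_eq_true, List.all_eq_true, memL_iff] at h
  ext s
  simp only [mem_setSet]
  exact ⟨fun ⟨m, hm, e⟩ => ⟨m, h.1 m hm, e⟩, fun ⟨m, hm, e⟩ => ⟨m, h.2 m hm, e⟩⟩

theorem setSet_map_smul {g : P24} {f : ℕ → ℕ} (h : ∀ m, g • setOfMask m = setOfMask (f m)) (X : List ℕ) :
    g • setSet X = setSet (X.map f) := by
  induction X with
  | nil => simp
  | cons a X ih => simp [Finset.smul_finset_insert, ih, h]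

/-- All masks are below `2 ^ 24`. -/
def smallL (X : List ℕ) : Bool := X.all fun m => Nat.blt m 16777216

theorem smallL_iff {X : List ℕ} : smallL X = true ↔ ∀ m ∈ X, m < 2 ^ 24 := by simp [smallL, Nat.blt_eq]

theorem toFinset_eq_of_setSet_eq {X Y : List ℕ} (hX : smallL X = true) (hY : smallL Y = true)
    (h : setSet X = setSet Y) : X.toFinset = Y.toFinset := by
  rw [smallL_iff] at hX hY
  ext m
  simp only [List.mem_toFinset]
  constructor <;> intro hm
  · obtain ⟨n, hn, e⟩ := mem_setSet.1 (h ▸ mem_setSet.2 ⟨m, hm, rfl⟩)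
    rwa [← setOfMask_inj (hY n hn) (hX m hm) e]
  · obtain ⟨n, hn, e⟩ := mem_setSet.1 (h.symm ▸ mem_setSet.2 ⟨m, hm, rfl⟩)
    rwa [← setOfMask_inj (hX n hn) (hY m hm) e]

theorem card_setSet {X : List ℕ} (hX : smallL X = true) (hn : X.Nodup) : (setSet X).card = X.length := by
  rw [setSet, List.toFinset_card_of_nodup, List.length_map]
  exact (List.nodup_map_iff_inj_on hn).2 fun a ha b hb e =>
    setOfMask_inj (smallL_iff.1 hX a ha) (smallL_iff.1 hX b hb) e

/-- The invariant of two families: their intersection numbers with multiplicity. -/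
def sigF (B X : Fam) : ℕ := ∑ b ∈ B, ∑ x ∈ X, 100 ^ (b ∩ x).card

theorem sigF_smul (g : P24) (B X : Fam) : sigF (g • B) (g • X) = sigF B X := by
  simp only [sigF, Finset.smul_finset_def (s := B), Finset.smul_finset_def (s := X)]
  rw [Finset.sum_image fun a _ b _ e => MulAction.injective g e]
  refine Finset.sum_congr rfl fun b _ => ?_
  rw [Finset.sum_image fun a _ b _ e => MulAction.injective g e]
  refine Finset.sum_congr rfl fun x _ => ?_
  rw [← Finset.smul_finset_inter, Finset.card_smul_finset]

theorem sigF_smul_right (g : P24) (B X : Fam) : sigF B (g • X) = sigF (g⁻¹ • B) X := by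
  rw [← sigF_smul g (g⁻¹ • B) X, smul_inv_smul]

/-- The invariant on lists of masks. -/
noncomputable def sigL (B X : List ℕ) : ℕ :=
  (B.map fun b => (X.map fun x => 100 ^ wt (b &&& x)).sum).sum

theorem sum_setSet {X : List ℕ} (hX : smallL X = true) (hn : X.Nodup) (f : Finset GolayPt → ℕ) :
    ∑ s ∈ setSet X, f s = (X.map fun m => f (setOfMask m)).sum := by
  rw [setSet, List.sum_toFinset, List.map_map]
  · rfl
  · exact (List.nodup_map_iff_inj_on hn).2 fun a ha b hb e =>
      setOfMask_inj (smallL_iff.1 hX a ha) (smallL_iff.1 hX b hb) e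

/-- Small masks without repetition. -/
def niceL (X : List ℕ) : Bool := smallL X && decide X.Nodup

theorem niceL_iff {X : List ℕ} : niceL X = true ↔ smallL X = true ∧ X.Nodup := by simp [niceL]

theorem card_setSet' {X : List ℕ} (hX : niceL X = true) : (setSet X).card = X.length :=
  card_setSet (niceL_iff.1 hX).1 (niceL_iff.1 hX).2

theorem sigF_setSet {B X : List ℕ} (hB : niceL B = true) (hX : niceL X = true) :
    sigF (setSet B) (setSet X) = sigL B X := by
  rw [niceL_iff] at hB hX
  rw [sigF, sum_setSet hB.1 hB.2, sigL]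
  refine congrArg List.sum (List.map_congr_left fun b _ => ?_)
  rw [sum_setSet hX.1 hX.2]
  refine congrArg List.sum (List.map_congr_left fun x _ => ?_)
  rw [← setOfMask_and, card_setOfMask]

theorem applyWord_perm {H : Subgroup P24} {gens : List (List ℕ)}
    (hg : ∀ l ∈ gens, ∃ g ∈ H, l.length = 24 ∧ Rep g l) :
    ∀ fuel w, ∃ g ∈ H, ∀ m, g • setOfMask m = setOfMask (applyWord gens fuel w m)
  | 0, w => ⟨1, H.one_mem, fun m => one_smul _ _⟩
  | fuel + 1, w => by
    cases hw : Nat.beq w 0
    swap
    · exact ⟨1, H.one_mem, fun m => by simp [applyWord, hw]⟩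
    obtain ⟨g, hgH, hl, hr⟩ : ∃ g ∈ H,
        (gens.getD (w % (gens.length + 1) - 1) (List.range 24)).length = 24 ∧
          Rep g (gens.getD (w % (gens.length + 1) - 1) (List.range 24)) := by
      by_cases hi : w % (gens.length + 1) - 1 < gens.length
      · rw [List.getD_eq_getElem _ _ hi]; exact hg _ (List.getElem_mem hi)
      · rw [List.getD_eq_default _ _ (Nat.le_of_not_lt hi)]
        exact ⟨1, H.one_mem, List.length_range, rep_one⟩
    obtain ⟨g', hg', e⟩ := applyWord_perm hg fuel (w / (gens.length + 1))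
    refine ⟨g' * g⁻¹, H.mul_mem hg' (H.inv_mem hgH), fun m => ?_⟩
    simp only [applyWord, forceNat_eq, hw, cond_false]
    rw [mul_smul, hr.smul_setOfMask hl, e]

/-- The elements of the group of the code fixing each of the listed families. -/
def stabL : List (List ℕ) → Subgroup P24
  | [] => M24
  | B :: cs => stabL cs ⊓ MulAction.stabilizer P24 (setSet B)

theorem mem_stabL {cs : List (List ℕ)} {g : P24} :
    g ∈ stabL cs ↔ g ∈ M24 ∧ ∀ B ∈ cs, g • setSet B = setSet B := by
  induction cs with
  | nil => simp [stabL]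
  | cons B cs ih =>
    simp only [stabL, Subgroup.mem_inf, ih, MulAction.mem_stabilizer_iff, List.forall_mem_cons]
    tauto

/-- The lists are permutations of the code fixing each family. -/
noncomputable def stabOK (comps gens : List (List ℕ)) : Bool :=
  gens.all fun L => validL L && listInCodeGroup L && comps.all fun B => sameSet (B.map (pull L)) B

theorem stabOK_spec {comps gens : List (List ℕ)} (h : stabOK comps gens = true) :
    ∀ L ∈ gens, ∃ g ∈ stabL comps, L.length = 24 ∧ Rep g L := by
  intro L hL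
  simp only [stabOK, List.all_eq_true, Bool.and_eq_true] at h
  obtain ⟨⟨hv, hc⟩, hm⟩ := h L hL
  have hl : L.length = 24 := by
    simp only [validL, Bool.and_eq_true, Nat.beq_eq] at hv; exact hv.1.1
  have hr := rep_permOf hv
  refine ⟨permOf L, mem_stabL.2 ⟨hr.mem_M24 hc, fun B hB => ?_⟩, hl, hr⟩
  have e := setSet_map_smul (g := (permOf L)⁻¹) (fun m => hr.smul_setOfMask hl m) B
  rw [setSet_eq_of_sameSet (hm B hB), inv_smul_eq_iff] at e
  exact e.symm

/-- Every target is the image of the root under its word. -/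
noncomputable def wordsOK (gens : List (List ℕ)) (root : List ℕ) : List (List ℕ) → List ℕ → Bool
  | [], [] => true
  | X :: Xs, w :: ws => sameSet (root.map (applyWord gens 32 w)) X && wordsOK gens root Xs ws
  | _, _ => false

theorem wordsOK_sound {H : Subgroup P24} {gens : List (List ℕ)}
    (hg : ∀ l ∈ gens, ∃ g ∈ H, l.length = 24 ∧ Rep g l) {root : List ℕ} :
    ∀ {targets : List (List ℕ)} {words : List ℕ}, wordsOK gens root targets words = true →
      ∀ X ∈ targets, ∃ g ∈ H, g • setSet root = setSet X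
  | [], _, _, X, hX => by simp at hX
  | _ :: _, [], h, _, _ => by simp [wordsOK] at h
  | A :: Xs, w :: ws, h, X, hX => by
    simp only [wordsOK, Bool.and_eq_true] at h
    rcases List.mem_cons.1 hX with rfl | hX
    · obtain ⟨g, hg', e⟩ := applyWord_perm hg 32 w
      exact ⟨g, hg', by rw [setSet_map_smul e, setSet_eq_of_sameSet h.1]⟩
    · exact wordsOK_sound hg h.2 X hX

/-- The members satisfying the test form one orbit of the group generated by the lists. -/
noncomputable def classOK (gens objs : List (List ℕ)) (Q : List ℕ → Bool) (words : List ℕ) : Bool :=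
  wordsOK gens ((objs.filter Q).headD []) (objs.filter Q) words

theorem classOK_sound {comps gens objs : List (List ℕ)} {Q : List ℕ → Bool} {words : List ℕ}
    (hs : stabOK comps gens = true) (h : classOK gens objs Q words = true) {X Y : List ℕ}
    (hX : X ∈ objs) (qX : Q X = true) (hY : Y ∈ objs) (qY : Q Y = true) :
    ∃ g ∈ stabL comps, g • setSet X = setSet Y := by
  obtain ⟨a, ha, ea⟩ := wordsOK_sound (stabOK_spec hs) h X (List.mem_filter.2 ⟨hX, qX⟩)
  obtain ⟨b, hb, eb⟩ := wordsOK_sound (stabOK_spec hs) h Y (List.mem_filter.2 ⟨hY, qY⟩)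
  exact ⟨b * a⁻¹, mul_mem hb (inv_mem ha), by rw [mul_smul, ← ea, inv_smul_smul, eb]⟩

/-- A set of objects of the 24 points coded by lists of masks. -/
structure Coded {α : Type} [MulAction P24 α] (fam : α → Fam) (S : Set α) (objs : List (List ℕ)) : Prop where
  inj : Function.Injective fam
  smul : ∀ (g : P24) (a : α), fam (g • a) = g • fam a
  stable : ∀ g ∈ M24, ∀ a ∈ S, g • a ∈ S
  complete : ∀ a ∈ S, ∃ X ∈ objs, fam a = setSet X
  sound : ∀ X ∈ objs, ∃ a ∈ S, fam a = setSet X
  nice : ∀ X ∈ objs, niceL X = true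
  nodup : (objs.map setSet).Nodup

namespace Coded

variable {α : Type} [MulAction P24 α] {fam : α → Fam} {S : Set α} {objs : List (List ℕ)}

theorem exists_code (hC : Coded fam S objs) {h : P24} (hh : h ∈ M24) {a : α} (ha : a ∈ S) :
    ∃ X ∈ objs, fam a = h • setSet X := by
  obtain ⟨X, hX, e⟩ := hC.complete _ (hC.stable _ (inv_mem hh) a ha)
  refine ⟨X, hX, ?_⟩
  rw [hC.smul, inv_smul_eq_iff] at e
  exact e

theorem exists_obj (hC : Coded fam S objs) {h : P24} (hh : h ∈ M24) {X : List ℕ} (hX : X ∈ objs) :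
    ∃ a ∈ S, fam a = h • setSet X := by
  obtain ⟨a, ha, e⟩ := hC.sound X hX
  exact ⟨h • a, hC.stable h hh a ha, by rw [hC.smul, e]⟩

theorem finite (hC : Coded fam S objs) : S.Finite := by
  refine Set.Finite.of_finite_image (f := fam) ?_ hC.inj.injOn
  exact Set.toFinite _

/-- Counting through a coordinate system. -/
theorem ncard_eq (hC : Coded fam S objs) {h : P24} (hh : h ∈ M24) (P : α → Prop) (Q : List ℕ → Bool)
    (hPQ : ∀ X ∈ objs, ∀ a ∈ S, fam a = h • setSet X → (Q X = true ↔ P a)) :
    {a | a ∈ S ∧ P a}.ncard = objs.countP Q := by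
  classical
  have e : fam '' {a | a ∈ S ∧ P a} = ↑(((objs.filter Q).map fun X => h • setSet X).toFinset) := by
    ext F
    simp only [Set.mem_image, Set.mem_setOf_eq, Finset.mem_coe, List.mem_toFinset, List.mem_map, List.mem_filter]
    constructor
    · rintro ⟨a, ⟨ha, hP⟩, rfl⟩
      obtain ⟨X, hX, e⟩ := hC.exists_code hh ha
      exact ⟨X, ⟨hX, (hPQ X hX a ha e).2 hP⟩, e.symm⟩
    · rintro ⟨X, ⟨hX, hQ⟩, rfl⟩
      obtain ⟨a, ha, e⟩ := hC.exists_obj hh hX
      exact ⟨a, ⟨ha, (hPQ X hX a ha e).1 hQ⟩, e⟩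
  have hnd : ((objs.filter Q).map fun X => h • setSet X).Nodup := by
    have : ((objs.filter Q).map setSet).Nodup := hC.nodup.sublist (List.filter_sublist.map _)
    have := this.map (f := fun F : Fam => h • F) (MulAction.injective h)
    rwa [List.map_map] at this
  rw [← Set.ncard_image_of_injective _ hC.inj, e, Set.ncard_coe_finset,
    List.toFinset_card_of_nodup hnd, List.length_map, List.countP_eq_length_filter]

theorem ncard_univ (hC : Coded fam S objs) : S.ncard = objs.length := by
  have := hC.ncard_eq M24.one_mem (fun _ => True) (fun _ => true) (by simp)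
  simpa using this

/-- Two objects with passing codes are conjugate under the stabiliser of the base families. -/
theorem conj (hC : Coded fam S objs) {comps gens : List (List ℕ)} {Q : List ℕ → Bool} {words : List ℕ}
    (hs : stabOK comps gens = true) (hc : classOK gens objs Q words = true)
    {h : P24} (hh : h ∈ M24) {X Y : List ℕ} (hX : X ∈ objs) (qX : Q X = true) (hY : Y ∈ objs) (qY : Q Y = true)
    {a b : α} (ea : fam a = h • setSet X) (eb : fam b = h • setSet Y) :
    ∃ g ∈ M24, (∀ B ∈ comps, g • (h • setSet B) = h • setSet B) ∧ g • a = b := by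
  obtain ⟨g, hg, e⟩ := classOK_sound hs hc hX qX hY qY
  obtain ⟨hg1, hg2⟩ := mem_stabL.1 hg
  refine ⟨h * g * h⁻¹, mul_mem (mul_mem hh hg1) (inv_mem hh), fun B hB => ?_, hC.inj ?_⟩
  · rw [mul_smul, mul_smul, inv_smul_smul, hg2 B hB]
  · rw [hC.smul, ea, eb, mul_smul, mul_smul, inv_smul_smul, e]

end Coded

/-- The orbit of a stabiliser inside the group of the code. -/
theorem mem_orbit_stab {α β : Type} [MulAction P24 α] [MulAction P24 β] {s : α} {a b : β} :
    b ∈ MulAction.orbit ↥(MulAction.stabilizer (↥M24) s) a ↔ ∃ g ∈ M24, g • s = s ∧ g • a = b := by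
  constructor
  · rintro ⟨⟨⟨g, hg⟩, hs⟩, rfl⟩
    exact ⟨g, hg, hs, rfl⟩
  · rintro ⟨g, hg, hs, rfl⟩
    exact ⟨⟨⟨g, hg⟩, hs⟩, rfl⟩

end CfsgLib.Spor
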