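import Cfsg.Agent.Lib.SporM24Six
import Cfsg.Agent.Lib.SporObj

/-!
The small pointwise stabilisers of base points as explicit lists, and restriction homomorphisms.
-/

set_option autoImplicit false
set_option maxRecDepth 20000

namespace CfsgLib.Spor
open Cfsg
open scoped Pointwise

/-- Products of a transversal level with a list of elements. -/
def levelMul (k : ℕ) (rest : List (List ℕ)) : List (List ℕ) :=
  (m24Trans.getD k []).flatMap fun r => rest.map fun L => mulL (row m24Tab r) L

/-- The elements fixing the first six base points. -/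
def fixL6 : List (List ℕ) := levelMul 6 [List.range 24]

/-- The elements fixing the first five base points. -/
def fixL5 : List (List ℕ) := levelMul 5 fixL6

/-- The elements fixing the first four base points. -/
def fixL4 : List (List ℕ) := levelMul 4 fixL5

theorem Rep.listOf_eq {g : P24} {L : List ℕ} (hr : Rep g L) (hl : L.length = 24) : listOf g = L := by
  refine List.ext_getElem (by rw [length_listOf, hl]) fun i h1 h2 => ?_
  have hi : i < 24 := hl ▸ h2
  have := hr (pt i)
  rw [ix_pt hi, List.getD_eq_getElem _ _ h2] at this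
  simp [listOf, this]

theorem exists_transversal_row {k : ℕ} (hk : k < 7) {y : GolayPt}
    (hy : (m24Allowed.getD k 0).testBit (ix y) = true) :
    ∃ r ∈ m24Trans.getD k [], ∃ u ∈ gen24, Rep u (row m24Tab r) ∧ (row m24Tab r).length = 24 ∧
      (∀ j < k, u (bpt j) = bpt j) ∧ u (bpt k) = y := by
  have h := List.all_eq_true.1 levels_ok k (List.mem_range.2 hk)
  simp only [levelOK, Bool.and_eq_true, List.all_eq_true, Bool.or_eq_true, Bool.not_eq_true',
    List.any_eq_true, Nat.beq_eq, Nat.blt_eq] at h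
  rcases h.2 (ix y) (List.mem_range.2 (ix_lt y)) with h' | ⟨r, hr, e⟩
  · rw [hy] at h'; exact absurd h' (by simp)
  obtain ⟨u, hu, ru⟩ := row_mem_gen24 (h.1 r hr).1
  have hlen : (row m24Tab r).length = 24 := by
    have := List.all_eq_true.1 m24Tab_ok r (List.mem_range.2 (h.1 r hr).1)
    simp only [Bool.and_eq_true, Nat.beq_eq] at this
    exact this.1
  refine ⟨r, hr, u, hu, ru, hlen, fun j hj => ?_, ?_⟩
  · have hb : m24Base.getD j 0 ∈ m24Base.take k := by
      have hl : m24Base.length = 7 := rfl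
      have hj' : j < (m24Base.take k).length := by simp [List.length_take]; omega
      rw [List.getD_eq_getElem _ _ (by omega : j < m24Base.length)]
      have := List.getElem_mem hj'
      rwa [List.getElem_take] at this
    have hj7 := bpt_lt j (List.mem_range.2 (by omega))
    rw [bpt, ru.apply_pt hj7, (h.1 r hr).2 _ hb]
  · rw [bpt, ru.apply_pt (bpt_lt k (List.mem_range.2 hk)), e, pt_ix]

theorem mem_levelMul {k : ℕ} (hk : k < 7) {rest : List (List ℕ)}
    (hrest : ∀ g ∈ fixBase (k + 1), listOf g ∈ rest) {g : P24} (hg : g ∈ fixBase k) :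
    listOf g ∈ levelMul k rest := by
  obtain ⟨hgM, hfix⟩ := mem_fixBase.1 hg
  obtain ⟨r, hr, u, hu, ru, hlen, ufix, uk⟩ :=
    exists_transversal_row hk (allowed_image (M24_le_octAut hgM) hk hfix)
  have hmem : u⁻¹ * g ∈ fixBase (k + 1) := by
    refine mem_fixBase.2 ⟨mul_mem (inv_mem (gen24_le hu)) hgM, fun j hj => ?_⟩
    rw [Equiv.Perm.mul_apply, Equiv.Perm.inv_eq_iff_eq]
    rcases Nat.lt_or_ge j k with h | h
    · rw [hfix j h, ufix j h]
    · rw [show j = k by omega, uk]
  refine List.mem_flatMap.2 ⟨r, hr, List.mem_map.2 ⟨_, hrest _ hmem, ?_⟩⟩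
  have := Rep.mul (length_listOf _) ru (rep_listOf (u⁻¹ * g))
  rw [mul_inv_cancel_left] at this
  exact (this.listOf_eq (by simp [mulL, length_listOf])).symm

theorem mem_fixL6 {g : P24} (hg : g ∈ fixBase 6) : listOf g ∈ fixL6 :=
  mem_levelMul (by norm_num) (fun f hf => by
    obtain ⟨h1, h2⟩ := mem_fixBase.1 hf
    rw [eq_one_of_fix (M24_le_octAut h1) h2, rep_one.listOf_eq (by simp)]
    simp) hg

theorem mem_fixL5 {g : P24} (hg : g ∈ fixBase 5) : listOf g ∈ fixL5 :=
  mem_levelMul (by norm_num) (fun _ hf => mem_fixL6 hf) hg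

theorem mem_fixL4 {g : P24} (hg : g ∈ fixBase 4) : listOf g ∈ fixL4 :=
  mem_levelMul (by norm_num) (fun _ hf => mem_fixL5 hf) hg

/-- The mask of six base points inside their octad. -/
def sixMask : ℕ := fromBits ((List.range 24).map fun i => (m24Base.take 6).elem i)

theorem sixMask_spec : ∀ p : GolayPt, sixMask.testBit (ix p) = true ↔ ∃ k ∈ List.range 6, p = bpt k := by
  decide +kernel

/-- Six points of an octad in standard position. -/
theorem six_oct_align {o E : Finset GolayPt} (ho : o ∈ octads) (hE : E.card = 6) (hEo : E ⊆ o) :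
    ∃ h ∈ M24, h • o = baseOct ∧ h • E = setOfMask sixMask ∧
      ∀ g ∈ M24, (∀ p ∈ E, g p = p) → listOf (h * g * h⁻¹) ∈ fixL6 := by
  obtain ⟨x, h1, h2⟩ := exists_enum_six hE
  obtain ⟨h, hh, e, he⟩ := six_std x
  obtain ⟨-, h5⟩ : (∃ o ∈ octads, ∀ i, x i ∈ o) ∧ h (x 5) = bpt 5 :=
    he.resolve_right fun h' => h'.1 ⟨o, ho, fun i => hEo (h1 i)⟩
  have img : ∀ i : Fin 6, h (x i) = bpt i := fun i => by
    rcases Nat.lt_or_ge (i : ℕ) 5 with hi | hi
    · exact e i hi
    · rw [show i = 5 from Fin.ext (by have := i.2; simp; omega)]; exact h5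
  have hsub : setOfMask sixMask = h • E := by
    ext p
    rw [mem_setOfMask, sixMask_spec, Finset.mem_smul_finset]
    constructor
    · rintro ⟨k, hk, rfl⟩
      exact ⟨x ⟨k, List.mem_range.1 hk⟩, h1 _, img _⟩
    · rintro ⟨q, hq, rfl⟩
      obtain ⟨i, rfl⟩ := h2 q hq
      exact ⟨i, List.mem_range.2 i.2, img i⟩
  refine ⟨h, hh, ?_, hsub.symm, fun g hg hfix => mem_fixL6 (mem_fixBase.2 ⟨mul_mem (mul_mem hh hg) (inv_mem hh),
    fun j hj => ?_⟩)⟩
  · refine octad_unique (smul_mem_octads (M24_le_octAut hh) ho) baseOct_mem (s := h • E)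
      (by rw [Finset.card_smul_finset, hE]; norm_num) (Finset.smul_finset_subset_smul_finset hEo) ?_
    rw [← hsub]
    intro p hp
    obtain ⟨k, hk, rfl⟩ := (sixMask_spec p).1 (mem_setOfMask.1 hp)
    exact bpt_mem_baseOct k hk
  · have := img ⟨j, hj⟩
    simp only at this
    rw [← this]
    simp [hfix _ (h1 _)]

/-- A permutation fixing six points of an octad and a further set is trivial, given a finite check. -/
theorem eq_one_of_six {o E X : Finset GolayPt} (ho : o ∈ octads) (hE : E.card = 6) (hEo : E ⊆ o) {g : P24}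
    (hg : g ∈ M24) (hfix : ∀ p ∈ E, g p = p) (hX : g • X = X) (objs : List ℕ) (C : ℕ → Bool)
    (hsmall : ∀ n ∈ objs, n < 2 ^ 24)
    (hobj : ∀ h ∈ M24, h • o = baseOct → h • E = setOfMask sixMask → maskOf (h • X) ∈ objs ∧ C (maskOf (h • X)) = true)
    (hchk : (fixL6.all fun L => L == List.range 24 || objs.all fun n => !C n || !Nat.beq (pull L n) n) = true) :
    g = 1 := by
  obtain ⟨h, hh, eo, eE, hlist⟩ := six_oct_align ho hE hEo
  have hl := hlist g hg hfix
  have hfixX : (h * g * h⁻¹) • (h • X) = h • X := by rw [mul_smul, mul_smul, inv_smul_smul, hX]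
  obtain ⟨hn, hC⟩ := hobj h hh eo eE
  have := List.all_eq_true.1 hchk _ hl
  simp only [Bool.or_eq_true, List.all_eq_true, beq_iff_eq] at this
  rcases this with e | e
  · have : h * g * h⁻¹ = 1 := listOf_injective (e.trans (rep_one.listOf_eq (by simp)).symm)
    calc g = h⁻¹ * (h * g * h⁻¹) * h := by group
      _ = 1 := by rw [this]; group
  · exfalso
    have hp : pull (listOf (h * g * h⁻¹)) (maskOf (h • X)) = maskOf (h • X) := by
      refine setOfMask_inj ?_ (hsmall _ hn) ?_
      · simpa [pull_eq, length_listOf] using fromBits_lt ((listOf (h * g * h⁻¹)).map (maskOf (h • X)).testBit)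
      · rw [← (rep_listOf _).smul_setOfMask (length_listOf _), setOfMask_maskOf, inv_smul_eq_iff, hfixX]
    rcases e _ hn with e' | e'
    · rw [hC] at e'; exact absurd e' (by decide)
    · rw [Bool.not_eq_true', Bool.eq_false_iff, ne_eq, Nat.beq_eq] at e'
      exact e' hp

/-- Restriction to an invariant finite set. -/
def restrictHom {G : Type} [Group G] (φ : G →* P24) (E : Finset GolayPt) (h : ∀ g, φ g • E = E) :
    G →* Equiv.Perm ↥E where
  toFun g := Equiv.Perm.subtypePerm (φ g) fun p => by
    have := Finset.smul_mem_smul_finset_iff (s := E) (b := p) (φ g)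
    rwa [h g] at this
  map_one' := by ext p; simp
  map_mul' a b := Equiv.ext fun p => Subtype.ext (congrArg (fun s : P24 => s (p : GolayPt)) (map_mul φ a b))

theorem restrictHom_eq_one {G : Type} [Group G] {φ : G →* P24} {E : Finset GolayPt} {h : ∀ g, φ g • E = E} {g : G} :
    restrictHom φ E h g = 1 ↔ ∀ p ∈ E, φ g p = p :=
  ⟨fun e p hp => congrArg (fun s : Equiv.Perm ↥E => (s ⟨p, hp⟩ : GolayPt)) e,
    fun e => Equiv.ext fun p => Subtype.ext (e p p.2)⟩

end CfsgLib.Spor
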