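import Cfsg.Agent.Lib.SporObj
import Cfsg.Agent.Lib.SporObjData

/-!
The lists of coded octads, dodecads, trios, sextets, pairs and triples, with their finite checks.
-/

set_option autoImplicit false
set_option maxRecDepth 20000

namespace CfsgLib.Spor
open Cfsg
open scoped Pointwise
/-- The largest member of a list. -/
def maxL (X : List ℕ) : ℕ := X.foldr max 0

theorem maxL_eq (X : List ℕ) : maxL X = X.toFinset.sup id := by
  induction X with
  | nil => simp [maxL]
  | cons a X ih => simp [maxL] at ih ⊢; rw [ih]

/-- A number determining a coded object. -/
def keyL (X : List ℕ) : ℕ := maxL X * 16777216 + (16777216 - maxL (X.map fun m => 16777216 - m))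

theorem keyL_congr {X Y : List ℕ} (h : X.toFinset = Y.toFinset) : keyL X = keyL Y := by
  have e : (X.map fun m => 16777216 - m).toFinset = (Y.map fun m => 16777216 - m).toFinset := by
    ext n
    simp only [List.mem_toFinset, List.mem_map]
    have : ∀ m, m ∈ X ↔ m ∈ Y := fun m => by simpa using Finset.ext_iff.1 h m
    simp [this]
  simp only [keyL, maxL_eq, h, e]

/-- The keys increase and the lists are nice. -/
def orderedObjs (objs : List (List ℕ)) : Bool := ascending (objs.map keyL) && objs.all niceL

theorem orderedObjs_spec {objs : List (List ℕ)} (h : orderedObjs objs = true) :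
    (∀ X ∈ objs, niceL X = true) ∧ (objs.map setSet).Nodup := by
  simp only [orderedObjs, Bool.and_eq_true, List.all_eq_true] at h
  have hk : (objs.map keyL).Nodup := (pairwise_of_ascending h.1).imp fun h => h.ne
  refine ⟨h.2, (List.nodup_map_iff_inj_on (List.Nodup.of_map _ hk)).2 fun X hX Y hY e => ?_⟩
  exact List.inj_on_of_nodup_map hk hX hY
    (keyL_congr (toFinset_eq_of_setSet_eq (niceL_iff.1 (h.2 X hX)).1 (niceL_iff.1 (h.2 Y hY)).1 e))

theorem octList_eq : weightMasks 8 = octList := by decide +kernel

theorem dodList_eq : weightMasks 12 = dodList := by decide +kernel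

theorem octHigh_eq : (octList.filter fun a => a.testBit 23) = octHigh := by decide +kernel

theorem mem_octList {o : Finset GolayPt} : o ∈ octads ↔ maskOf o ∈ octList := by
  rw [mem_octads_iff, octList_eq]

theorem mem_dodList {d : Finset GolayPt} : d ∈ dodecads ↔ maskOf d ∈ dodList := by
  rw [← dodList_eq]; exact mem_wordsOfWeight_iff

/-- The octads. -/
def octObjs : List (List ℕ) := octList.map fun m => [m]

/-- The dodecads. -/
def dodObjs : List (List ℕ) := dodList.map fun m => [m]

/-- The points. -/
def ptObjs : List (List ℕ) := (List.range 24).map fun i => [2 ^ i]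

/-- The mask of three points. -/
def mask3 (a b c : ℕ) : ℕ := 2 ^ a ||| 2 ^ b ||| 2 ^ c

/-- The pairs of points. -/
def duadObjs : List (List ℕ) :=
  (List.range 24).flatMap fun a => (List.range a).map fun b => [2 ^ a ||| 2 ^ b]

/-- The triples of points. -/
def triadObjs : List (List ℕ) :=
  (List.range 24).flatMap fun a => (List.range a).flatMap fun b => (List.range b).map fun c => [mask3 a b c]

/-- The complementary pairs as lists, first member containing the last point. -/
def dpairObjs : List (List ℕ) :=
  (dodList.filter fun m => m.testBit 23).map fun m => [m, 16777215 ^^^ m]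

/-- The recipe of the trios. -/
def trioGen : List (List ℕ) :=
  (octList.filter fun a => a.testBit 23).flatMap fun a =>
    (octList.filter fun b => Nat.beq (a &&& b) 0 && Nat.blt b (16777215 ^^^ a ^^^ b)).map
      fun b => [a, b, 16777215 ^^^ a ^^^ b]

/-- Is the mask an octad? -/
noncomputable def isOct (m : ℕ) : Bool := inCode m && Nat.beq (wt m) 8

/-- The masks of the trios. -/
def trioObjs : List (List ℕ) := trioList

theorem trioGen_eq : trioGen = trioList := by decide +kernel

theorem trio_ok : (trioObjs.all fun X => Nat.beq X.length 3 && X.all isOct &&
    X.all fun a => X.all fun b => Nat.beq a b || Nat.beq (a &&& b) 0) = true := by decide +kernel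

/-- The tetrads through the last point. -/
def tetMasks : List ℕ :=
  (List.range 23).flatMap fun a => (List.range a).flatMap fun b => (List.range b).map fun c =>
    2 ^ 23 ||| mask3 a b c

/-- The recipe of the sextets. -/
noncomputable def sextetGen : List (List ℕ) :=
  tetMasks.map fun t0 => forceNat t0 fun t =>
    t :: (octHigh.filter fun o => Nat.beq (Nat.land o t) t).map fun o => o ^^^ t

/-- The masks of the sextets. -/
def sextetObjs : List (List ℕ) := sextetList

theorem sextetGen_eq : sextetGen = sextetList := by decide +kernel

theorem sextet_ok : (sextetObjs.all fun X => Nat.beq X.length 6 && (X.all fun t => Nat.beq (wt t) 4) &&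
    X.all fun a => X.all fun b => Nat.beq a b || isOct (a ||| b)) = true := by decide +kernel


theorem octObjs_ordered : orderedObjs octObjs = true := by decide +kernel

theorem dodObjs_ordered : orderedObjs dodObjs = true := by decide +kernel

theorem ptObjs_ordered : orderedObjs ptObjs = true := by decide +kernel

theorem duadObjs_ordered : orderedObjs duadObjs = true := by decide +kernel

theorem triadObjs_ordered : orderedObjs triadObjs = true := by decide +kernel

theorem dpairObjs_ordered : orderedObjs dpairObjs = true := by decide +kernel

theorem trioObjs_ordered : orderedObjs trioObjs = true := by decide +kernel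

theorem sextetObjs_ordered : orderedObjs sextetObjs = true := by decide +kernel

attribute [irreducible] trioObjs sextetObjs

end CfsgLib.Spor
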