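import Cfsg.Prelude.Def_SporadicCombinatorics
import Cfsg.Agent.Lib.SporObjBasic

/-!
The octads, dodecads, dodecad pairs, trios, sextets, points, pairs and triples as coded sets.
-/

set_option autoImplicit false
set_option maxRecDepth 20000

namespace CfsgLib.Spor
open Cfsg
open scoped Pointwise
attribute [local irreducible] octList octHigh dodList trioList sextetList

theorem Coded.of_ordered {α : Type} [MulAction P24 α] {fam : α → Fam} {S : Set α} {objs : List (List ℕ)}
    (inj : Function.Injective fam) (smul : ∀ (g : P24) (a : α), fam (g • a) = g • fam a)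
    (stable : ∀ g ∈ M24, ∀ a ∈ S, g • a ∈ S)
    (complete : ∀ a ∈ S, ∃ X ∈ objs, fam a = setSet X)
    (sound : ∀ X ∈ objs, ∃ a ∈ S, fam a = setSet X)
    (h : orderedObjs objs = true) : Coded fam S objs :=
  ⟨inj, smul, stable, complete, sound, (orderedObjs_spec h).1, (orderedObjs_spec h).2⟩

/-- A single set as a family. -/
def famOne (s : Finset GolayPt) : Fam := {s}

/-- A single point as a family. -/
def famPt (p : GolayPt) : Fam := {{p}}

theorem famOne_injective : Function.Injective famOne := fun _ _ h => Finset.singleton_inj.1 h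

theorem famPt_injective : Function.Injective famPt :=
  fun _ _ h => Finset.singleton_inj.1 (Finset.singleton_inj.1 h)

theorem famOne_smul (g : P24) (s : Finset GolayPt) : famOne (g • s) = g • famOne s :=
  (Finset.smul_finset_singleton ..).symm

theorem famPt_smul (g : P24) (p : GolayPt) : famPt (g • p) = g • famPt p := by
  simp [famPt]

theorem famOne_setSet (m : ℕ) : setSet [m] = famOne (setOfMask m) := by simp [setSet, famOne]

theorem setOfMask_two_pow {i : ℕ} (hi : i < 24) : setOfMask (2 ^ i) = {pt i} := by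
  ext p
  simp only [mem_setOfMask, Nat.testBit_two_pow, decide_eq_true_eq, Finset.mem_singleton]
  exact ⟨fun h => by rw [h, pt_ix], fun h => by rw [h, ix_pt hi]⟩

theorem smul_mem_dodecads {g : P24} (hg : g ∈ M24) {d : Finset GolayPt} (hd : d ∈ dodecads) : g • d ∈ dodecads :=
  ⟨mem_M24_iff_forall.1 hg d hd.1, by rw [Finset.card_smul_finset]; exact hd.2⟩

theorem smul_mem_octads' {g : P24} (hg : g ∈ M24) {o : Finset GolayPt} (ho : o ∈ octads) : g • o ∈ octads :=
  smul_mem_octads (M24_le_octAut hg) ho

theorem smul_mem_trios {g : P24} (hg : g ∈ M24) {T : Fam} (hT : T ∈ trios) : g • T ∈ trios := by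
  obtain ⟨h1, h2, h3⟩ := hT
  refine ⟨by rw [Finset.card_smul_finset]; exact h1, ?_, ?_⟩
  · intro o ho
    obtain ⟨o', ho', rfl⟩ := Finset.mem_smul_finset.1 ho
    exact smul_mem_octads' hg (h2 o' ho')
  · intro o ho o' ho' hne
    obtain ⟨a, ha, rfl⟩ := Finset.mem_smul_finset.1 ho
    obtain ⟨b, hb, rfl⟩ := Finset.mem_smul_finset.1 ho'
    rw [Finset.disjoint_iff_inter_eq_empty, ← Finset.smul_finset_inter,
      Finset.disjoint_iff_inter_eq_empty.1 (h3 a ha b hb fun e => hne (by rw [e])), Finset.smul_finset_empty]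

theorem smul_mem_sextets {g : P24} (hg : g ∈ M24) {S : Fam} (hS : S ∈ sextets) : g • S ∈ sextets := by
  obtain ⟨h1, h2, h3⟩ := hS
  refine ⟨by rw [Finset.card_smul_finset]; exact h1, ?_, ?_⟩
  · intro t ht
    obtain ⟨t', ht', rfl⟩ := Finset.mem_smul_finset.1 ht
    rw [Finset.card_smul_finset]; exact h2 t' ht'
  · intro t ht u hu hne
    obtain ⟨a, ha, rfl⟩ := Finset.mem_smul_finset.1 ht
    obtain ⟨b, hb, rfl⟩ := Finset.mem_smul_finset.1 hu
    rw [← Finset.smul_finset_union]
    exact smul_mem_octads' hg (h3 a ha b hb fun e => hne (by rw [e]))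

/-! ### Single octads, dodecads, points, pairs, triples -/

theorem octCoded : Coded famOne octads octObjs := by
  refine Coded.of_ordered famOne_injective famOne_smul (fun g hg a => smul_mem_octads' hg) ?_ ?_
    octObjs_ordered
  · intro o ho
    exact ⟨[maskOf o], List.mem_map.2 ⟨_, mem_octList.1 ho, rfl⟩, by rw [famOne_setSet, setOfMask_maskOf]⟩
  · intro X hX
    obtain ⟨m, hm, rfl⟩ := List.mem_map.1 hX
    exact ⟨_, setOfMask_mem_octads (octList_eq ▸ hm), (famOne_setSet m).symm⟩

theorem dodCoded : Coded famOne dodecads dodObjs := by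
  refine Coded.of_ordered famOne_injective famOne_smul (fun g hg a => smul_mem_dodecads hg) ?_ ?_
    dodObjs_ordered
  · intro o ho
    exact ⟨[maskOf o], List.mem_map.2 ⟨_, mem_dodList.1 ho, rfl⟩, by rw [famOne_setSet, setOfMask_maskOf]⟩
  · intro X hX
    obtain ⟨m, hm, rfl⟩ := List.mem_map.1 hX
    refine ⟨_, mem_dodList.2 ?_, (famOne_setSet m).symm⟩
    rwa [maskOf_setOfMask (weightMasks_lt 12 m (dodList_eq ▸ hm))]

theorem famPt_setSet {i : ℕ} (hi : i < 24) : setSet [2 ^ i] = famPt (pt i) := by
  rw [famOne_setSet, setOfMask_two_pow hi]; rfl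

theorem ptCoded : Coded famPt Set.univ ptObjs := by
  refine Coded.of_ordered famPt_injective famPt_smul (fun g hg a _ => trivial) ?_ ?_ ptObjs_ordered
  · intro p _
    exact ⟨[2 ^ ix p], List.mem_map.2 ⟨_, List.mem_range.2 (ix_lt p), rfl⟩,
      by rw [famPt_setSet (ix_lt p), pt_ix]⟩
  · intro X hX
    obtain ⟨i, hi, rfl⟩ := List.mem_map.1 hX
    exact ⟨pt i, trivial, (famPt_setSet (List.mem_range.1 hi)).symm⟩

theorem setOfMask_mask3 {a b c : ℕ} (ha : a < 24) (hb : b < 24) (hc : c < 24) :
    setOfMask (mask3 a b c) = {pt a, pt b, pt c} := by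
  rw [mask3, setOfMask_or, setOfMask_or, setOfMask_two_pow ha, setOfMask_two_pow hb, setOfMask_two_pow hc]
  ext p; simp [or_assoc]

theorem exists_triple {s : Finset GolayPt} (hs : s.card = 3) :
    ∃ a b c, c < b ∧ b < a ∧ a < 24 ∧ s = {pt a, pt b, pt c} := by
  obtain ⟨x, y, z, hxy, hxz, hyz, rfl⟩ := Finset.card_eq_three.1 hs
  have h1 := ix_lt x; have h2 := ix_lt y; have h3 := ix_lt z
  have key : ∀ u v w : GolayPt, ix w < ix v → ix v < ix u → ({u, v, w} : Finset GolayPt) = {x, y, z} →
      ∃ a b c, c < b ∧ b < a ∧ a < 24 ∧ ({x, y, z} : Finset GolayPt) = {pt a, pt b, pt c} := by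
    intro u v w e1 e2 e
    exact ⟨ix u, ix v, ix w, e1, e2, ix_lt u, by rw [pt_ix, pt_ix, pt_ix, e]⟩
  rcases Nat.lt_or_gt_of_ne fun e => hxy (ix_inj e) with a | a <;>
    rcases Nat.lt_or_gt_of_ne fun e => hxz (ix_inj e) with b | b <;>
    rcases Nat.lt_or_gt_of_ne fun e => hyz (ix_inj e) with c | c
  · exact key z y x (by omega) (by omega) (by ext p; simp; tauto)
  · exact key y z x (by omega) (by omega) (by ext p; simp; tauto)
  · omega
  · exact key y x z (by omega) (by omega) (by ext p; simp; tauto)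
  · exact key z x y (by omega) (by omega) (by ext p; simp; tauto)
  · omega
  · exact key x z y (by omega) (by omega) (by ext p; simp; tauto)
  · exact key x y z (by omega) (by omega) rfl

theorem duadCoded : Coded famOne {s | s.card = 2} duadObjs := by
  refine Coded.of_ordered famOne_injective famOne_smul (fun g hg a ha => ?_) ?_ ?_ duadObjs_ordered
  · simpa [Finset.card_smul_finset] using ha
  · intro s hs
    obtain ⟨x, y, hxy, rfl⟩ := Finset.card_eq_two.1 hs
    have h1 := ix_lt x; have h2 := ix_lt y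
    rcases Nat.lt_or_gt_of_ne fun e => hxy (ix_inj e) with h | h
    · refine ⟨[2 ^ ix y ||| 2 ^ ix x], List.mem_flatMap.2 ⟨ix y, by simp [h2],
        List.mem_map.2 ⟨ix x, by simpa using h, rfl⟩⟩, ?_⟩
      rw [famOne_setSet, setOfMask_or, setOfMask_two_pow h1, setOfMask_two_pow h2, pt_ix, pt_ix]
      congr 1; ext p; simp [or_comm]
    · refine ⟨[2 ^ ix x ||| 2 ^ ix y], List.mem_flatMap.2 ⟨ix x, by simp [h1],
        List.mem_map.2 ⟨ix y, by simpa using h, rfl⟩⟩, ?_⟩
      rw [famOne_setSet, setOfMask_or, setOfMask_two_pow h1, setOfMask_two_pow h2, pt_ix, pt_ix]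
      congr 1
  · intro X hX
    obtain ⟨a, ha, hX⟩ := List.mem_flatMap.1 hX
    obtain ⟨b, hb, rfl⟩ := List.mem_map.1 hX
    simp only [List.mem_range] at ha hb
    refine ⟨_, ?_, (famOne_setSet _).symm⟩
    show (setOfMask _).card = 2
    rw [setOfMask_or, setOfMask_two_pow ha, setOfMask_two_pow (hb.trans ha)]
    have : pt a ≠ pt b := fun e => by have := congrArg ix e; rw [ix_pt ha, ix_pt (hb.trans ha)] at this; omega
    simp [this]

theorem triadCoded : Coded famOne {s | s.card = 3} triadObjs := by
  refine Coded.of_ordered famOne_injective famOne_smul (fun g hg a ha => ?_) ?_ ?_ triadObjs_ordered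
  · simpa [Finset.card_smul_finset] using ha
  · intro s hs
    obtain ⟨a, b, c, hcb, hba, ha, rfl⟩ := exists_triple hs
    refine ⟨[mask3 a b c], List.mem_flatMap.2 ⟨a, by simpa using ha, List.mem_flatMap.2 ⟨b, by simpa using hba,
      List.mem_map.2 ⟨c, by simpa using hcb, rfl⟩⟩⟩, ?_⟩
    rw [famOne_setSet, setOfMask_mask3 ha (by omega) (by omega)]
  · intro X hX
    obtain ⟨a, ha, hX⟩ := List.mem_flatMap.1 hX
    obtain ⟨b, hb, hX⟩ := List.mem_flatMap.1 hX
    obtain ⟨c, hc, rfl⟩ := List.mem_map.1 hX
    simp only [List.mem_range] at ha hb hc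
    refine ⟨_, ?_, (famOne_setSet _).symm⟩
    show (setOfMask _).card = 3
    rw [setOfMask_mask3 ha (by omega) (by omega), Finset.card_eq_three]
    have key : ∀ i j, i < 24 → j < 24 → i ≠ j → pt i ≠ pt j := fun i j hi hj hne e => by
      have := congrArg ix e; rw [ix_pt hi, ix_pt hj] at this; exact hne this
    exact ⟨_, _, _, key a b ha (by omega) (by omega), key a c ha (by omega) (by omega),
      key b c (by omega) (by omega) (by omega), rfl⟩

/-! ### Pairs of complementary dodecads -/

/-- The complementary pair of a dodecad. -/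
def dpairOf (d : Finset GolayPt) : Fam := {d, dᶜ}

/-- The complementary pairs of dodecads. -/
def dpairs : Set Fam := dpairOf '' dodecads

theorem compl_mem_codeSets {s : Finset GolayPt} (hs : s ∈ codeSets) : sᶜ ∈ codeSets := by
  have h : (Finset.univ : Finset GolayPt) ∈ codeSets := by
    have := setOfMask_mem_codeSets all_mem
    rwa [show setOfMask 16777215 = Finset.univ from by decide +kernel] at this
  have := codeSets_symmDiff h hs
  rwa [show symmDiff (Finset.univ : Finset GolayPt) s = sᶜ from by ext p; simp [Finset.mem_symmDiff]] at this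

theorem compl_mem_dodecads {d : Finset GolayPt} (hd : d ∈ dodecads) : dᶜ ∈ dodecads :=
  ⟨compl_mem_codeSets hd.1, by rw [Finset.card_compl, hd.2]; simp⟩

theorem smul_dpairOf (g : P24) (d : Finset GolayPt) : g • dpairOf d = dpairOf (g • d) := by
  rw [dpairOf, dpairOf, Finset.smul_finset_insert, Finset.smul_finset_singleton]
  congr 2
  ext p
  obtain ⟨q, rfl⟩ : ∃ q, g • q = p := ⟨g⁻¹ • p, smul_inv_smul g p⟩
  simp only [Finset.smul_mem_smul_finset_iff, Finset.mem_compl]

theorem setSet_pair (m : ℕ) : setSet [m, 16777215 ^^^ m] = dpairOf (setOfMask m) := by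
  simp [dpairOf, setOfMask_compl]

theorem dpairOf_compl (d : Finset GolayPt) : dpairOf dᶜ = dpairOf d := by
  rw [dpairOf, dpairOf, compl_compl, Finset.pair_comm]

theorem dpairCoded : Coded id dpairs dpairObjs := by
  refine Coded.of_ordered Function.injective_id (fun _ _ => rfl) ?_ ?_ ?_ dpairObjs_ordered
  · rintro g hg _ ⟨d, hd, rfl⟩
    exact ⟨g • d, smul_mem_dodecads hg hd, (smul_dpairOf g d).symm⟩
  · rintro _ ⟨d, hd, rfl⟩
    have key : ∀ e ∈ dodecads, none ∈ e → ∃ X ∈ dpairObjs, dpairOf e = setSet X := by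
      intro e he hn
      refine ⟨_, List.mem_map.2 ⟨maskOf e, List.mem_filter.2 ⟨mem_dodList.1 he, ?_⟩, rfl⟩, ?_⟩
      · rw [← setOfMask_maskOf e, mem_setOfMask] at hn
        exact hn
      · rw [setSet_pair, setOfMask_maskOf]
    by_cases hn : none ∈ d
    · exact key d hd hn
    · obtain ⟨X, hX, e⟩ := key dᶜ (compl_mem_dodecads hd) (Finset.mem_compl.2 hn)
      exact ⟨X, hX, by rw [id, ← dpairOf_compl, e]⟩
  · intro X hX
    obtain ⟨m, hm, rfl⟩ := List.mem_map.1 hX
    have hm' := (List.mem_filter.1 hm).1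
    refine ⟨_, ⟨setOfMask m, mem_dodList.2 ?_, rfl⟩, (setSet_pair m).symm⟩
    rwa [maskOf_setOfMask (weightMasks_lt 12 m (dodList_eq ▸ hm'))]

/-! ### Trios -/

theorem setOfMask_mem_octads_of_isOct {m : ℕ} (h : isOct m = true) : setOfMask m ∈ octads := by
  simp only [isOct, Bool.and_eq_true, Nat.beq_eq, inCode_iff] at h
  exact setOfMask_mem_octads (mem_weightMasks.2 h)

theorem disjoint_of_and {a b : ℕ} (h : a &&& b = 0) : Disjoint (setOfMask a) (setOfMask b) := by
  rw [Finset.disjoint_iff_inter_eq_empty, ← setOfMask_and, h]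
  ext p; simp

theorem and_of_disjoint {s t : Finset GolayPt} (h : Disjoint s t) : maskOf s &&& maskOf t = 0 := by
  refine setOfMask_inj (lt_of_le_of_lt Nat.and_le_left (maskOf_lt s)) (by norm_num) ?_
  rw [setOfMask_and, setOfMask_maskOf, setOfMask_maskOf, Finset.disjoint_iff_inter_eq_empty.1 h]
  ext p; simp

theorem triple_perm {α : Type} [DecidableEq α] (a b c : α) :
    ({a, b, c} : Finset α) = {a, c, b} ∧ ({a, b, c} : Finset α) = {b, a, c} ∧ ({a, b, c} : Finset α) = {b, c, a} ∧
      ({a, b, c} : Finset α) = {c, a, b} ∧ ({a, b, c} : Finset α) = {c, b, a} := by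
  refine ⟨?_, ?_, ?_, ?_, ?_⟩ <;> ext x <;> simp <;> tauto

theorem trioCoded : Coded id trios trioObjs := by
  refine Coded.of_ordered Function.injective_id (fun _ _ => rfl) (fun g hg a => smul_mem_trios hg) ?_ ?_
    trioObjs_ordered
  · rintro T ⟨hc, ho, hd⟩
    have key : ∀ o p q, T = {o, p, q} → o ∈ octads → p ∈ octads → q ∈ octads → Disjoint o p → Disjoint o q →
        Disjoint p q → none ∈ o → maskOf p < maskOf q → ∃ X ∈ trioObjs, T = setSet X := by
      intro o p q e ho hp hq hop hoq hpq hn hlt
      have hu : o ∪ p ∪ q = Finset.univ := by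
        refine Finset.eq_univ_of_card _ ?_
        rw [Finset.card_union_of_disjoint (Finset.disjoint_union_left.2 ⟨hoq, hpq⟩),
          Finset.card_union_of_disjoint hop, ho.2, hp.2, hq.2]
        simp
      have hqe : maskOf q = 16777215 ^^^ maskOf o ^^^ maskOf p := by
        refine setOfMask_inj (maskOf_lt q)
          (Nat.xor_lt_two_pow (Nat.xor_lt_two_pow (by norm_num) (maskOf_lt o)) (maskOf_lt p)) ?_
        rw [setOfMask_maskOf]
        ext x
        have h1 := Finset.mem_univ x
        rw [← hu] at h1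
        have ho' : (maskOf o).testBit (ix x) = decide (x ∈ o) := by
          exact Bool.eq_iff_iff.2 ((mem_setOfMask.symm.trans (Finset.ext_iff.1 (setOfMask_maskOf o) x)).trans (decide_eq_true_iff).symm)
        have hp' : (maskOf p).testBit (ix x) = decide (x ∈ p) := by
          exact Bool.eq_iff_iff.2 ((mem_setOfMask.symm.trans (Finset.ext_iff.1 (setOfMask_maskOf p) x)).trans (decide_eq_true_iff).symm)
        have hall : (16777215 : ℕ).testBit (ix x) = true := by
          rw [(by norm_num : (16777215 : ℕ) = 2 ^ 24 - 1), Nat.testBit_two_pow_sub_one]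
          simpa using ix_lt x
        simp only [mem_setOfMask, Nat.testBit_xor, hall, ho', hp']
        have d1 : x ∈ o → x ∉ p := fun h => Finset.disjoint_left.1 hop h
        have d2 : x ∈ o → x ∉ q := fun h => Finset.disjoint_left.1 hoq h
        have d3 : x ∈ p → x ∉ q := fun h => Finset.disjoint_left.1 hpq h
        simp only [Finset.mem_union] at h1
        by_cases a1 : x ∈ o <;> by_cases a2 : x ∈ p <;> simp_all
      refine ⟨[maskOf o, maskOf p, 16777215 ^^^ maskOf o ^^^ maskOf p], ?_, ?_⟩
      · unfold trioObjs; rw [← trioGen_eq]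
        refine List.mem_flatMap.2 ⟨maskOf o, List.mem_filter.2 ⟨mem_octList.1 ho, ?_⟩,
          List.mem_map.2 ⟨maskOf p, List.mem_filter.2 ⟨mem_octList.1 hp, ?_⟩, rfl⟩⟩
        · rw [← setOfMask_maskOf o, mem_setOfMask] at hn; exact hn
        · simp only [Bool.and_eq_true, Nat.beq_eq, Nat.blt_eq]
          exact ⟨and_of_disjoint hop, hqe ▸ hlt⟩
      · rw [← hqe, e, setSet_cons, setSet_cons, setSet_cons, setSet_nil, setOfMask_maskOf,
          setOfMask_maskOf, setOfMask_maskOf, insert_empty_eq]
    obtain ⟨o, p, q, hop, hoq, hpq, rfl⟩ := Finset.card_eq_three.1 hc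
    have o1 := ho o (by simp); have o2 := ho p (by simp); have o3 := ho q (by simp)
    have d1 := hd o (by simp) p (by simp) hop
    have d2 := hd o (by simp) q (by simp) hoq
    have d3 := hd p (by simp) q (by simp) hpq
    have hn : none ∈ o ∪ p ∪ q := by
      rw [Finset.eq_univ_of_card (o ∪ p ∪ q) ?_]
      · exact Finset.mem_univ _
      rw [Finset.card_union_of_disjoint (Finset.disjoint_union_left.2 ⟨d2, d3⟩),
        Finset.card_union_of_disjoint d1, o1.2, o2.2, o3.2]
      simp
    have hne : ∀ {a b : Finset GolayPt}, a ≠ b → maskOf a < maskOf b ∨ maskOf b < maskOf a := fun {a b} h =>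
      Nat.lt_or_gt_of_ne fun e => h (by rw [← setOfMask_maskOf a, e, setOfMask_maskOf])
    simp only [id, Finset.mem_union] at hn ⊢
    rcases hn with (hn | hn) | hn
    · rcases hne hpq with h | h
      · exact key o p q rfl o1 o2 o3 d1 d2 d3 hn h
      · exact key o q p (triple_perm o p q).1 o1 o3 o2 d2 d1 d3.symm hn h
    · rcases hne hoq with h | h
      · exact key p o q (triple_perm o p q).2.1 o2 o1 o3 d1.symm d3 d2 hn h
      · exact key p q o (triple_perm o p q).2.2.1 o2 o3 o1 d3 d1.symm d2.symm hn h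
    · rcases hne hop with h | h
      · exact key q o p (triple_perm o p q).2.2.2.1 o3 o1 o2 d2.symm d3.symm d1 hn h
      · exact key q p o (triple_perm o p q).2.2.2.2 o3 o2 o1 d3.symm d2.symm d1.symm hn h
  · intro X hX
    have h := List.all_eq_true.1 trio_ok X hX
    simp only [Bool.and_eq_true, Nat.beq_eq, List.all_eq_true, Bool.or_eq_true] at h
    refine ⟨setSet X, ⟨?_, ?_, ?_⟩, rfl⟩
    · rw [card_setSet' ((orderedObjs_spec trioObjs_ordered).1 X hX), h.1.1]
    · intro o ho
      obtain ⟨m, hm, rfl⟩ := mem_setSet.1 ho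
      exact setOfMask_mem_octads_of_isOct (h.1.2 m hm)
    · intro o ho o' ho' hne
      obtain ⟨m, hm, rfl⟩ := mem_setSet.1 ho
      obtain ⟨n, hn, rfl⟩ := mem_setSet.1 ho'
      rcases h.2 m hm n hn with e | e
      · exact absurd (by rw [e]) hne
      · exact disjoint_of_and e

/-! ### Sextets -/

theorem sextet_nice : ∀ X ∈ sextetObjs, niceL X = true :=
  (orderedObjs_spec sextetObjs_ordered).1

theorem sextCoded : Coded id sextets sextetObjs := by
  refine Coded.of_ordered Function.injective_id (fun _ _ => rfl) (fun g hg a => smul_mem_sextets hg) ?_ ?_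
    sextetObjs_ordered
  · rintro S ⟨hc, h4, hu⟩
    have hdis : ∀ t ∈ S, ∀ u ∈ S, t ≠ u → Disjoint t u := by
      intro t ht u hu' hne
      have e := Finset.card_union_add_card_inter t u
      rw [(hu t ht u hu' hne).2, h4 t ht, h4 u hu'] at e
      exact Finset.disjoint_iff_inter_eq_empty.2 (Finset.card_eq_zero.1 (by omega))
    obtain ⟨T, hT, hn⟩ : ∃ T ∈ S, none ∈ T := by
      have : S.biUnion id = Finset.univ := by
        refine Finset.eq_univ_of_card _ ?_
        rw [show S.biUnion id = S.biUnion (fun t => t) from rfl, Finset.card_biUnion fun t ht u hu' hne => hdis t ht u hu' hne]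
        rw [Finset.sum_congr rfl h4, Finset.sum_const, hc]
        simp
      simpa using Finset.ext_iff.1 this none
    obtain ⟨a, b, c, hcb, hba, ha, he⟩ := exists_triple (s := T.erase none)
      (by rw [Finset.card_erase_of_mem hn, h4 T hT])
    have ha23 : a < 23 := by
      by_contra hh
      have : a = 23 := by omega
      subst this
      have : (none : GolayPt) ∈ T.erase none := by
        rw [he]; simp [pt]
      simp at this
    have hTm : T = setOfMask (2 ^ 23 ||| mask3 a b c) := by
      rw [setOfMask_or, setOfMask_two_pow (by norm_num), setOfMask_mask3 ha (by omega) (by omega), ← he,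
        show pt 23 = none from rfl, ← Finset.insert_eq, Finset.insert_erase hn]
    set t := 2 ^ 23 ||| mask3 a b c with ht
    set X := t :: (octHigh.filter fun o => Nat.beq (Nat.land o t) t).map fun o => o ^^^ t with hX
    have hmem : X ∈ sextetObjs := by
      unfold sextetObjs; rw [← sextetGen_eq]
      refine List.mem_map.2 ⟨t, List.mem_flatMap.2 ⟨a, by simpa using ha23,
        List.mem_flatMap.2 ⟨b, by simpa using hba, List.mem_map.2 ⟨c, by simpa using hcb, rfl⟩⟩⟩, ?_⟩
      rw [forceNat_eq]
    refine ⟨X, hmem, ?_⟩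
    have hlen : X.length = 6 := by
      have h := List.all_eq_true.1 sextet_ok X hmem
      simp only [Bool.and_eq_true, Nat.beq_eq] at h
      exact h.1.1
    refine Finset.eq_of_subset_of_card_le ?_ ?_
    · intro u hu'
      rw [mem_setSet]
      by_cases e : u = T
      · exact ⟨t, List.mem_cons_self, by rw [e, hTm]⟩
      refine ⟨maskOf (T ∪ u) ^^^ t, List.mem_cons_of_mem _ (List.mem_map.2 ⟨maskOf (T ∪ u),
        List.mem_filter.2 ⟨?_, ?_⟩, rfl⟩), ?_⟩
      · rw [← octHigh_eq]
        refine List.mem_filter.2 ⟨mem_octList.1 (hu T hT u hu' (Ne.symm e)), ?_⟩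
        have hm : none ∈ setOfMask (maskOf (T ∪ u)) := by
          rw [setOfMask_maskOf]; exact Finset.mem_union_left _ hn
        rw [mem_setOfMask] at hm
        exact hm
      · have htl : t < 2 ^ 24 := by
          refine Nat.or_lt_two_pow (by norm_num) (Nat.or_lt_two_pow (Nat.or_lt_two_pow ?_ ?_) ?_) <;>
            exact Nat.pow_lt_pow_right (by norm_num) (by omega)
        rw [Nat.beq_eq]
        show maskOf (T ∪ u) &&& t = t
        refine setOfMask_inj (lt_of_le_of_lt Nat.and_le_right htl) htl ?_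
        rw [setOfMask_and, setOfMask_maskOf, ← hTm, Finset.inter_eq_right]
        exact Finset.subset_union_left
      · ext x
        have hx : t.testBit (ix x) = decide (x ∈ T) := by rw [hTm]; simp
        have hy : (maskOf (T ∪ u)).testBit (ix x) = decide (x ∈ T ∨ x ∈ u) := by
          have := Finset.ext_iff.1 (setOfMask_maskOf (T ∪ u)) x
          simp only [mem_setOfMask, Finset.mem_union] at this
          exact Bool.eq_iff_iff.2 (by simpa using this)
        have d : x ∈ T → x ∉ u := fun h => Finset.disjoint_left.1 (hdis T hT u hu' (Ne.symm e)) h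
        simp only [mem_setOfMask, Nat.testBit_xor, hx, hy]
        by_cases a1 : x ∈ T <;> simp_all
    · rw [card_setSet' (sextet_nice X hmem), hlen, id, hc]
  · intro X hX
    have h := List.all_eq_true.1 sextet_ok X hX
    simp only [Bool.and_eq_true, Nat.beq_eq, List.all_eq_true, Bool.or_eq_true] at h
    refine ⟨setSet X, ⟨?_, ?_, ?_⟩, rfl⟩
    · rw [card_setSet' (sextet_nice X hX), h.1.1]
    · intro t ht
      obtain ⟨m, hm, rfl⟩ := mem_setSet.1 ht
      rw [card_setOfMask]; exact h.1.2 m hm
    · intro t ht u hu hne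
      obtain ⟨m, hm, rfl⟩ := mem_setSet.1 ht
      obtain ⟨n, hn, rfl⟩ := mem_setSet.1 hu
      rcases h.2 m hm n hn with e | e
      · exact absurd (by rw [e]) hne
      · rw [← setOfMask_or]; exact setOfMask_mem_octads_of_isOct e

end CfsgLib.Spor
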