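import Cfsg.Agent.Lib.SporM24Classes
import Cfsg.Agent.Lib.SporObjSets

/-!
Fixed points and fixed objects of the elements of order two and three.
-/

set_option autoImplicit false
set_option maxRecDepth 20000

namespace CfsgLib.Spor
open Cfsg
open scoped Pointwise

/-- The mask of the fixed points of a list. -/
def fixMask (L : List ℕ) : ℕ := fromBits ((List.range 24).map fun i => Nat.beq (L.getD i 0) i)

theorem fix_filter {r : List ℕ} (hr : validL r = true) (k : P24) :
    (Finset.univ.filter fun p => (k * permOf r * k⁻¹) p = p) = k • setOfMask (fixMask r) := by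
  ext p
  obtain ⟨x, rfl⟩ : ∃ x, k x = p := ⟨k⁻¹ p, by simp⟩
  rw [← Equiv.Perm.smul_def, Finset.smul_mem_smul_finset_iff, Equiv.Perm.smul_def, Finset.mem_filter]
  simp only [Finset.mem_univ, true_and, Equiv.Perm.mul_apply, Equiv.Perm.coe_inv, Equiv.symm_apply_apply,
    k.injective.eq_iff, mem_setOfMask, fixMask, testBit_fromBits]
  rw [List.getD_eq_getElem _ _ (by simpa using ix_lt x), List.getElem_map, List.getElem_range, Nat.beq_eq,
    ← rep_permOf hr x, ix_inj.eq_iff]

theorem fix_card {r : List ℕ} (hr : validL r = true) (k : P24) :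
    (Finset.univ.filter fun p => (k * permOf r * k⁻¹) p = p).card = wt (fixMask r) := by
  rw [fix_filter hr, Finset.card_smul_finset, card_setOfMask]

theorem two_of_fix {g : P24} (hg : g ∈ M24) (h2 : orderOf g = 2) :
    ∃ k ∈ M24, (g = k * permOf (repsTwo.getD 0 []) * k⁻¹ ∧ (Finset.univ.filter fun p => g p = p).card = 8) ∨
      (g = k * permOf (repsTwo.getD 1 []) * k⁻¹ ∧ (Finset.univ.filter fun p => g p = p).card = 0) := by
  obtain ⟨k, hk, r, hr, rfl⟩ := classes_two hg h2
  have h : ∀ r ∈ repsTwo, validL r = true ∧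
      ((r = repsTwo.getD 0 [] ∧ wt (fixMask r) = 8) ∨ (r = repsTwo.getD 1 [] ∧ wt (fixMask r) = 0)) := by
    decide +kernel
  obtain ⟨hv, ⟨e, w⟩ | ⟨e, w⟩⟩ := h r hr
  · exact ⟨k, hk, Or.inl ⟨by rw [← e], (fix_card hv k).trans w⟩⟩
  · exact ⟨k, hk, Or.inr ⟨by rw [← e], (fix_card hv k).trans w⟩⟩

theorem three_of_fix {g : P24} (hg : g ∈ M24) (h3 : orderOf g = 3) :
    ∃ k ∈ M24, (g = k * permOf (repsThree.getD 0 []) * k⁻¹ ∧ (Finset.univ.filter fun p => g p = p).card = 6) ∨
      (g = k * permOf (repsThree.getD 1 []) * k⁻¹ ∧ (Finset.univ.filter fun p => g p = p).card = 0) := by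
  obtain ⟨k, hk, r, hr, rfl⟩ := classes_three hg h3
  have h : ∀ r ∈ repsThree, validL r = true ∧
      ((r = repsThree.getD 0 [] ∧ wt (fixMask r) = 6) ∨ (r = repsThree.getD 1 [] ∧ wt (fixMask r) = 0)) := by
    decide +kernel
  obtain ⟨hv, ⟨e, w⟩ | ⟨e, w⟩⟩ := h r hr
  · exact ⟨k, hk, Or.inl ⟨by rw [← e], (fix_card hv k).trans w⟩⟩
  · exact ⟨k, hk, Or.inr ⟨by rw [← e], (fix_card hv k).trans w⟩⟩

theorem card_fix_zero {g : P24} : (Finset.univ.filter fun p => g p = p).card = 0 ↔ ∀ p, g p ≠ p := by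
  simp [Finset.filter_eq_empty_iff]

theorem sameSet_of_eq {A B : List ℕ} (hA : smallL A = true) (hB : smallL B = true) (h : setSet A = setSet B) :
    sameSet A B = true := by
  have e := toFinset_eq_of_setSet_eq hA hB h
  simp only [sameSet, Bool.and_eq_true, List.all_eq_true, memL_iff]
  exact ⟨fun a ha => List.mem_toFinset.1 (e ▸ List.mem_toFinset.2 ha),
    fun b hb => List.mem_toFinset.1 (e.symm ▸ List.mem_toFinset.2 hb)⟩

/-- The objects fixed by a conjugate of a listed permutation. -/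
theorem Coded.fixed_ncard {α : Type} [MulAction P24 α] {fam : α → Fam} {S : Set α} {objs : List (List ℕ)}
    (hC : Coded fam S objs) {k : P24} (hk : k ∈ M24) {r : List ℕ} (hr : validL r = true) :
    {a | a ∈ S ∧ (k * permOf r * k⁻¹) • a = a}.ncard = objs.countP fun X => sameSet (X.map (pull r)) X := by
  refine hC.ncard_eq hk _ _ fun X hX a _ ea => ?_
  have hl : r.length = 24 := by
    simp only [validL, Bool.and_eq_true, Nat.beq_eq] at hr
    exact hr.1.1
  have e1 := setSet_map_smul (g := (permOf r)⁻¹) (fun m => (rep_permOf hr).smul_setOfMask hl m) X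
  rw [← hC.inj.eq_iff, hC.smul, ea, mul_smul, mul_smul, inv_smul_smul, (MulAction.injective k).eq_iff]
  constructor
  · intro h
    rw [← setSet_eq_of_sameSet h] at *
    rw [smul_eq_iff_eq_inv_smul, e1]
  · intro h
    refine sameSet_of_eq (smallL_iff.2 fun m hm => ?_) (niceL_iff.1 (hC.nice X hX)).1 ?_
    · obtain ⟨b, -, rfl⟩ := List.mem_map.1 hm
      simpa [pull_eq, hl] using fromBits_lt (r.map b.testBit)
    · rw [← e1, inv_smul_eq_iff, h]

end CfsgLib.Spor
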