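import Cfsg.Agent.Lib.SporM24

/-!
Sets of six points: standard positions and pointwise stabilisers.
-/

set_option autoImplicit false
set_option maxRecDepth 20000

namespace CfsgLib.Spor
open Cfsg
open scoped Pointwise

theorem baseOct_card : baseOct.card = 8 := baseOct_mem.2

/-- Six points can be carried to six base points, the last inside or outside the base octad. -/
theorem six_std (x : Fin 6 ↪ GolayPt) : ∃ h ∈ M24, (∀ i : Fin 6, (i : ℕ) < 5 → h (x i) = bpt i) ∧
    (((∃ o ∈ octads, ∀ i, x i ∈ o) ∧ h (x 5) = bpt 5) ∨ ((¬ ∃ o ∈ octads, ∀ i, x i ∈ o) ∧ h (x 5) = bpt 6)) := by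
  obtain ⟨a, ha, ea⟩ := exists_to_base (fun i => if h : i < 6 then x ⟨i, h⟩ else none) 5 le_rfl (by
    intro i hi j hj hij
    simp only [(by omega : i < 6), (by omega : j < 6), dif_pos]
    exact fun e => hij (by simpa using x.injective e))
  have ea' : ∀ i : Fin 6, (i : ℕ) < 5 → a (x i) = bpt i := fun i hi => by
    have := ea i hi
    simpa [i.2] using this
  have haM := gen24_le ha
  have key : (∃ o ∈ octads, ∀ i, x i ∈ o) ↔ a (x 5) ∈ baseOct := by
    constructor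
    · rintro ⟨o, ho, hsub⟩
      have hao : a • o = baseOct := by
        refine octad_unique (smul_mem_octads (M24_le_octAut haM) ho) baseOct_mem
          (s := (Finset.range 5).image bpt) five_bpt_card.ge ?_ ?_
        · intro p hp
          obtain ⟨j, hj, rfl⟩ := Finset.mem_image.1 hp
          have hj5 := Finset.mem_range.1 hj
          rw [← ea' ⟨j, by omega⟩ hj5]
          exact Finset.smul_mem_smul_finset (hsub _)
        · intro p hp
          obtain ⟨j, hj, rfl⟩ := Finset.mem_image.1 hp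
          exact bpt_mem_baseOct j (List.mem_range.2 (by have := Finset.mem_range.1 hj; omega))
      rw [← hao]
      exact Finset.smul_mem_smul_finset (hsub 5)
    · intro h5
      refine ⟨a⁻¹ • baseOct, smul_mem_octads (M24_le_octAut (inv_mem haM)) baseOct_mem, fun i => ?_⟩
      rw [Finset.mem_inv_smul_finset_iff, Equiv.Perm.smul_def]
      rcases Nat.lt_or_ge (i : ℕ) 5 with hi | hi
      · rw [ea' i hi]; exact bpt_mem_baseOct _ (List.mem_range.2 (by omega))
      · rwa [show i = 5 from Fin.ext (by have := i.2; simp; omega)]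
  have hne : ∀ j ∈ List.range 5, a (x 5) ≠ bpt j := fun j hj e => by
    have hj5 := List.mem_range.1 hj
    rw [← ea' ⟨j, by omega⟩ hj5] at e
    have := congrArg Fin.val (x.injective (a.injective e))
    simp at this; omega
  by_cases h5 : a (x 5) ∈ baseOct
  · obtain ⟨u, hu, hfix, huy⟩ := exists_transversal (k := 5) (by norm_num) (allowed_five _ h5 hne)
    refine ⟨u⁻¹ * a, mul_mem (inv_mem (gen24_le hu)) haM, fun i hi => ?_, Or.inl ⟨key.2 h5, ?_⟩⟩
    · rw [Equiv.Perm.mul_apply, ea' i hi, Equiv.Perm.inv_eq_iff_eq, hfix i hi]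
    · rw [Equiv.Perm.mul_apply, Equiv.Perm.inv_eq_iff_eq, huy]
  · obtain ⟨u, hu, hfix, huy⟩ := exists_transversal (k := 6) (by norm_num) (allowed_six _ h5)
    refine ⟨u⁻¹ * a, mul_mem (inv_mem (gen24_le hu)) haM, fun i hi => ?_, Or.inr ⟨mt key.1 h5, ?_⟩⟩
    · rw [Equiv.Perm.mul_apply, ea' i hi, Equiv.Perm.inv_eq_iff_eq, hfix i (by omega)]
    · rw [Equiv.Perm.mul_apply, Equiv.Perm.inv_eq_iff_eq, huy]

/-- The stabiliser of five base points and one point outside their octad. -/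
theorem card_fix_out : Nat.card ↥(fixBase 5 ⊓ MulAction.stabilizer P24 (bpt 6)) = 3 := by
  have h := card_eq_ncard_mul (fixBase 5) (bpt 6) (↑baseOctᶜ : Set GolayPt) (fun g hg => by
    obtain ⟨hgM, hg'⟩ := mem_fixBase.1 hg
    rw [Finset.mem_coe, Finset.mem_compl]
    intro hh
    refine bpt_six_not_mem ?_
    rw [← baseOct_fixed (M24_le_octAut hgM) hg'] at hh
    exact (Finset.smul_mem_smul_finset_iff g).1 hh) (fun y hy => by
    rw [Finset.mem_coe, Finset.mem_compl] at hy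
    obtain ⟨u, hu, hfix, huy⟩ := exists_transversal (k := 6) (by norm_num) (allowed_six _ hy)
    exact ⟨u, mem_fixBase.2 ⟨gen24_le hu, fun j hj => hfix j (by omega)⟩, huy⟩)
  rw [Set.ncard_coe_finset, Finset.card_compl, baseOct_card, card_fixBase 5 (by decide)] at h
  rw [show Fintype.card GolayPt = 24 by simp] at h
  simp only [List.getD_cons_succ, List.getD_cons_zero] at h
  omega

/-- Pointwise stabiliser of six points in the group. -/
theorem card_fix_six (x : Fin 6 ↪ GolayPt) :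
    ((∃ o ∈ octads, ∀ i, x i ∈ o) → Nat.card {g : P24 // g ∈ M24 ∧ ∀ i, g (x i) = x i} = 16) ∧
    ((¬ ∃ o ∈ octads, ∀ i, x i ∈ o) → Nat.card {g : P24 // g ∈ M24 ∧ ∀ i, g (x i) = x i} = 3) := by
  obtain ⟨h, hh, e, he⟩ := six_std x
  have conj : ∀ H : Subgroup P24,
      (∀ g, g ∈ H ↔ g ∈ M24 ∧ (∀ i : Fin 6, g (h (x i)) = h (x i))) →
      Nat.card {g : P24 // g ∈ M24 ∧ ∀ i, g (x i) = x i} = Nat.card H := by
    intro H hH
    refine Nat.card_congr ((MulAut.conj h).toEquiv.subtypeEquiv fun g => ?_)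
    show _ ↔ h * g * h⁻¹ ∈ H
    rw [hH]
    constructor
    · rintro ⟨hg, hfix⟩
      exact ⟨mul_mem (mul_mem hh hg) (inv_mem hh), fun i => by simp [hfix i]⟩
    · rintro ⟨hg, hfix⟩
      refine ⟨by simpa [mul_assoc] using mul_mem (mul_mem (inv_mem hh) hg) hh, fun i => h.injective ?_⟩
      simpa using hfix i
  have split : ∀ (k : ℕ), h (x 5) = bpt k → ∀ g : P24,
      (∀ i : Fin 6, g (h (x i)) = h (x i)) ↔ (∀ j < 5, g (bpt j) = bpt j) ∧ g (bpt k) = bpt k := by
    intro k hk g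
    constructor
    · intro hg
      refine ⟨fun j hj => ?_, hk ▸ hg 5⟩
      have := hg ⟨j, by omega⟩
      rwa [e ⟨j, by omega⟩ hj] at this
    · rintro ⟨h1, h2⟩ i
      rcases Nat.lt_or_ge (i : ℕ) 5 with hi | hi
      · rw [e i hi]; exact h1 i hi
      · rw [show i = 5 from Fin.ext (by have := i.2; simp; omega), hk]; exact h2
  constructor
  · intro hin
    obtain ⟨-, h5⟩ : (∃ o ∈ octads, ∀ i, x i ∈ o) ∧ h (x 5) = bpt 5 :=
      he.resolve_right fun h' => h'.1 hin
    rw [conj (fixBase 6) fun g => by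
      rw [mem_fixBase, split 5 h5, Nat.forall_lt_succ_right], card_fixBase 6 (by decide)]
    rfl
  · intro hout
    obtain ⟨-, h6⟩ : (¬ ∃ o ∈ octads, ∀ i, x i ∈ o) ∧ h (x 5) = bpt 6 :=
      he.resolve_left fun h' => hout h'.1
    rw [conj (fixBase 5 ⊓ MulAction.stabilizer P24 (bpt 6)) fun g => by
      rw [Subgroup.mem_inf, mem_fixBase, split 6 h6, MulAction.mem_stabilizer_iff (a := bpt 6), Equiv.Perm.smul_def, and_assoc],
      card_fix_out]

/-- An enumeration of a set of six points. -/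
theorem exists_enum_six {E : Finset GolayPt} (hE : E.card = 6) :
    ∃ x : Fin 6 ↪ GolayPt, (∀ i, x i ∈ E) ∧ ∀ p ∈ E, ∃ i, x i = p :=
  ⟨⟨fun i => (E.equivFinOfCardEq hE).symm i,
      Subtype.val_injective.comp (E.equivFinOfCardEq hE).symm.injective⟩,
    fun i => ((E.equivFinOfCardEq hE).symm i).2,
    fun p hp => ⟨E.equivFinOfCardEq hE ⟨p, hp⟩, by simp⟩⟩

theorem card_fix_set {E : Finset GolayPt} (hE : E.card = 6) :
    ((∃ o ∈ octads, E ⊆ o) → Nat.card {g : P24 // g ∈ M24 ∧ ∀ p ∈ E, g p = p} = 16) ∧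
    ((¬ ∃ o ∈ octads, E ⊆ o) → Nat.card {g : P24 // g ∈ M24 ∧ ∀ p ∈ E, g p = p} = 3) := by
  obtain ⟨x, h1, h2⟩ := exists_enum_six hE
  have e : (∃ o ∈ octads, E ⊆ o) ↔ ∃ o ∈ octads, ∀ i, x i ∈ o :=
    exists_congr fun o => and_congr_right fun _ => ⟨fun h i => h (h1 i), fun h p hp => by
      obtain ⟨i, rfl⟩ := h2 p hp; exact h i⟩
  have eq : Nat.card {g : P24 // g ∈ M24 ∧ ∀ p ∈ E, g p = p} = Nat.card {g : P24 // g ∈ M24 ∧ ∀ i, g (x i) = x i} :=
    Nat.card_congr (Equiv.subtypeEquivRight fun g => and_congr_right fun _ =>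
      ⟨fun h i => h _ (h1 i), fun h p hp => by obtain ⟨i, rfl⟩ := h2 p hp; exact h i⟩)
  rw [e, eq]
  exact card_fix_six x

/-- The group induces every permutation on six points. -/
theorem exists_induced {E : Finset GolayPt} (hE : E.card = 6) (σ : Equiv.Perm ↥E) :
    ∃ g ∈ M24, ∀ p : ↥E, g p = σ p := by
  obtain ⟨x, h1, h2⟩ := exists_enum_six hE
  let y : Fin 6 ↪ GolayPt := ⟨fun i => σ ⟨x i, h1 i⟩, fun i j h => x.injective
    (congrArg Subtype.val (σ.injective (Subtype.ext h)))⟩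
  have e : (∃ o ∈ octads, ∀ i, x i ∈ o) ↔ ∃ o ∈ octads, ∀ i, y i ∈ o := by
    refine exists_congr fun o => and_congr_right fun _ => ⟨fun h i => ?_, fun h i => ?_⟩
    · obtain ⟨j, hj⟩ := h2 _ (σ ⟨x i, h1 i⟩).2
      show ((σ ⟨x i, h1 i⟩ : ↥E) : GolayPt) ∈ o
      rw [← hj]; exact h j
    · obtain ⟨j, hj⟩ := h2 _ (σ.symm ⟨x i, h1 i⟩).2
      have hy : y j = x i := by
        show ((σ ⟨x j, h1 j⟩ : ↥E) : GolayPt) = x i
        rw [show (⟨x j, h1 j⟩ : ↥E) = σ.symm ⟨x i, h1 i⟩ from Subtype.ext hj, Equiv.apply_symm_apply]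
      rw [← hy]; exact h j
  obtain ⟨a, ha, ea, ca⟩ := six_std x
  obtain ⟨b, hb, eb, cb⟩ := six_std y
  refine ⟨b⁻¹ * a, mul_mem (inv_mem hb) ha, fun p => ?_⟩
  obtain ⟨i, hi⟩ := h2 p p.2
  have hp : (⟨x i, h1 i⟩ : ↥E) = p := Subtype.ext hi
  have key : a (x i) = b (y i) := by
    rcases Nat.lt_or_ge (i : ℕ) 5 with h | h
    · rw [ea i h, eb i h]
    · rw [show i = 5 from Fin.ext (by have := i.2; simp; omega)]
      rcases ca with ⟨c1, c2⟩ | ⟨c1, c2⟩ <;> rcases cb with ⟨d1, d2⟩ | ⟨d1, d2⟩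
      · rw [c2, d2]
      · exact absurd (e.1 c1) d1
      · exact absurd (e.2 d1) c1
      · rw [c2, d2]
  rw [Equiv.Perm.mul_apply, Equiv.Perm.inv_eq_iff_eq, ← hi, key, ← hp]
  rfl

end CfsgLib.Spor
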