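import Cfsg.Agent.Lib.SporMathieu

/-!
Transport of the Mathieu groups to arbitrary points, octads and dodecads.
-/

set_option autoImplicit false
set_option maxRecDepth 20000

namespace CfsgLib.Spor
open Cfsg
open scoped Pointwise

/-- A subgroup of a subgroup, seen in the big group. -/
noncomputable def equivOfMem {G : Type*} [Group G] {H : Subgroup G} (S : Subgroup H) (K : Subgroup G)
    (h : ∀ g, g ∈ K ↔ ∃ hg : g ∈ H, (⟨g, hg⟩ : H) ∈ S) : S ≃* K :=
  (S.equivMapOfInjective H.subtype H.subtype_injective).trans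
    (MulEquiv.subgroupCongr (by
      ext g
      rw [h, Subgroup.mem_map]
      constructor
      · rintro ⟨⟨x, hx⟩, hS, rfl⟩; exact ⟨hx, hS⟩
      · rintro ⟨hx, hS⟩; exact ⟨⟨g, hx⟩, hS, rfl⟩))

/-- Subgroups conjugate by `g` are isomorphic. -/
noncomputable def equivConjBy {G : Type*} [Group G] {K L : Subgroup G} (g : G)
    (h : ∀ x, x ∈ L ↔ g⁻¹ * x * g ∈ K) : K ≃* L :=
  (K.equivMapOfInjective (MulAut.conj g).toMonoidHom (MulAut.conj g).injective).trans
    (MulEquiv.subgroupCongr (by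
      ext x
      rw [h, Subgroup.mem_map]
      constructor
      · rintro ⟨y, hy, rfl⟩
        simpa [mul_assoc] using hy
      · intro hx; exact ⟨_, hx, by simp [mul_assoc]⟩))

theorem conj_mem_M24 {g x : P24} (hg : g ∈ M24) : g⁻¹ * x * g ∈ M24 ↔ x ∈ M24 := by
  refine ⟨fun h => ?_, fun h => M24.mul_mem (M24.mul_mem (M24.inv_mem hg) h) hg⟩
  have := M24.mul_mem (M24.mul_mem hg h) (M24.inv_mem hg)
  simpa [mul_assoc] using this

theorem conj_smul_eq_iff {G X : Type*} [Group G] [MulAction G X] (g x : G) (a : X) :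
    (g⁻¹ * x * g) • a = a ↔ x • (g • a) = g • a := by
  rw [mul_smul, mul_smul, inv_smul_eq_iff]

theorem mem_M23_iff {g : P24} : g ∈ Spor.M23 ↔ g ∈ M24 ∧ g none = none := Iff.rfl

theorem mem_M22_iff {g : P24} : g ∈ Spor.M22 ↔ (g ∈ M24 ∧ g none = none) ∧ g (some 0) = some 0 := Iff.rfl

theorem mem_M12_iff' {g : P24} : g ∈ Spor.M12 ↔ g ∈ M24 ∧ g • Spor.squareDodecad = Spor.squareDodecad :=
  Iff.rfl

theorem mem_M11_iff {g : P24} :
    g ∈ Spor.M11 ↔ (g ∈ M24 ∧ g • Spor.squareDodecad = Spor.squareDodecad) ∧ g (some 0) = some 0 :=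
  Iff.rfl

theorem exists_M24_point (p : GolayPt) : ∃ g ∈ M24, g none = p := by
  let x (a : GolayPt) : Fin 1 ↪ GolayPt := ⟨fun _ => a, fun a b _ => Subsingleton.elim a b⟩
  obtain ⟨g, hg, e⟩ := exists_M24_map (n := 1) (by norm_num) (x none) (x p)
  exact ⟨g, hg, e 0⟩

theorem exists_M24_pair {p q : GolayPt} (h : p ≠ q) : ∃ g ∈ M24, g none = p ∧ g (some 0) = q := by
  let x (a b : GolayPt) (hab : a ≠ b) : Fin 2 ↪ GolayPt :=
    ⟨![a, b], fun i j e => by fin_cases i <;> fin_cases j <;> simp_all [Ne.symm hab]⟩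
  obtain ⟨g, hg, e⟩ := exists_M24_map (n := 2) (by norm_num) (x none (some 0) (by simp)) (x p q h)
  exact ⟨g, hg, e 0, e 1⟩

/-- The point stabiliser is a copy of `M23`. -/
noncomputable def pointStabEquiv (p : GolayPt) : Spor.M23 ≃* MulAction.stabilizer M24 p :=
  let g := (exists_M24_point p).choose
  have hg := (exists_M24_point p).choose_spec
  (equivConjBy (L := M24 ⊓ MulAction.stabilizer P24 p) g fun x => by
    rw [mem_M23_iff, conj_mem_M24 hg.1, Subgroup.mem_inf, MulAction.mem_stabilizer_iff,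
      ← Equiv.Perm.smul_def, conj_smul_eq_iff, Equiv.Perm.smul_def g, hg.2]
    exact Iff.rfl).trans
    (equivOfMem (MulAction.stabilizer M24 p) (M24 ⊓ MulAction.stabilizer P24 p) fun x => ⟨fun hx => ⟨hx.1, hx.2⟩, fun ⟨h1, h2⟩ => ⟨h1, h2⟩⟩).symm

/-- The two-point stabiliser is a copy of `M22`. -/
noncomputable def pairStabEquiv {p q : GolayPt} (h : p ≠ q) :
    Spor.M22 ≃* ↥(MulAction.stabilizer M24 p ⊓ MulAction.stabilizer M24 q) :=
  let g := (exists_M24_pair h).choose
  have hg := (exists_M24_pair h).choose_spec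
  (equivConjBy (L := M24 ⊓ MulAction.stabilizer P24 p ⊓ MulAction.stabilizer P24 q) g fun x => by
    rw [mem_M22_iff, conj_mem_M24 hg.1, Subgroup.mem_inf, Subgroup.mem_inf, MulAction.mem_stabilizer_iff,
      MulAction.mem_stabilizer_iff, ← Equiv.Perm.smul_def, conj_smul_eq_iff, Equiv.Perm.smul_def g,
      hg.2.1, ← Equiv.Perm.smul_def (g⁻¹ * x * g), conj_smul_eq_iff, Equiv.Perm.smul_def g, hg.2.2]
    exact Iff.rfl).trans
    (equivOfMem (MulAction.stabilizer M24 p ⊓ MulAction.stabilizer M24 q)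
      (M24 ⊓ MulAction.stabilizer P24 p ⊓ MulAction.stabilizer P24 q)
      fun x => ⟨fun hx => ⟨hx.1.1, hx.1.2, hx.2⟩, fun ⟨h1, h2⟩ => ⟨⟨h1, h2.1⟩, h2.2⟩⟩).symm

theorem exists_M24_squareDodecad {d : Finset GolayPt} (hd : d ∈ dodecads) :
    ∃ g ∈ M24, g • Spor.squareDodecad = d := exists_M24_dodecad squareDodecad_mem hd

/-- The dodecad stabiliser is a copy of `M12`. -/
noncomputable def dodecadStabEquiv {d : Finset GolayPt} (hd : d ∈ dodecads) :
    Spor.M12 ≃* MulAction.stabilizer M24 d :=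
  let g := (exists_M24_squareDodecad hd).choose
  have hg := (exists_M24_squareDodecad hd).choose_spec
  (equivConjBy (L := M24 ⊓ MulAction.stabilizer P24 d) g fun x => by
    rw [mem_M12_iff', conj_mem_M24 hg.1, Subgroup.mem_inf, MulAction.mem_stabilizer_iff,
      conj_smul_eq_iff, hg.2]
    exact Iff.rfl).trans
    (equivOfMem (MulAction.stabilizer M24 d) (M24 ⊓ MulAction.stabilizer P24 d) fun x => ⟨fun hx => ⟨hx.1, hx.2⟩, fun ⟨h1, h2⟩ => ⟨h1, h2⟩⟩).symm

theorem rest12_zero : rest12 0 = Spor.squareDodecad := by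
  rw [rest12, Finset.range_zero, Finset.image_empty, Finset.sdiff_empty, squareDodecad_eq]

theorem mem_rest12_iff {k : ℕ} {p : GolayPt} :
    p ∈ rest12 k ↔ p ∈ Spor.squareDodecad ∧ ∀ j < k, p ≠ dpt j := by
  simp only [rest12, squareDodecad_eq, Finset.mem_sdiff, Finset.mem_image, Finset.mem_range, not_exists, not_and]
  exact and_congr_right' ⟨fun h j hj e => h j hj e.symm, fun h j hj e => h j hj e.symm⟩

theorem exists_M24_dodecad_point {d : Finset GolayPt} (hd : d ∈ dodecads) {p : GolayPt} (hp : p ∈ d) :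
    ∃ g ∈ M24, g • Spor.squareDodecad = d ∧ g (some 0) = p := by
  obtain ⟨g, hg, e⟩ := exists_M24_squareDodecad hd
  have : g⁻¹ p ∈ rest12 0 := by
    rw [rest12_zero, ← Finset.smul_mem_smul_finset_iff (a := g), e, Equiv.Perm.smul_def,
      Equiv.Perm.coe_inv, Equiv.apply_symm_apply]
    exact hp
  obtain ⟨u, hu, eu⟩ := fix12_trans (k := 0) (by norm_num) this
  obtain ⟨hu1, hu2⟩ := mem_M12_iff'.1 (hu : u ∈ Spor.M12)
  refine ⟨g * u, M24.mul_mem hg hu1, by rw [mul_smul, hu2, e], ?_⟩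
  rw [Equiv.Perm.mul_apply, ← dpt_zero, eu, Equiv.Perm.coe_inv, Equiv.apply_symm_apply]

/-- The stabiliser of a dodecad and one of its points is a copy of `M11`. -/
noncomputable def dodecadPointStabEquiv {d : Finset GolayPt} (hd : d ∈ dodecads) {p : GolayPt} (hp : p ∈ d) :
    Spor.M11 ≃* ↥(MulAction.stabilizer M24 d ⊓ MulAction.stabilizer M24 p) :=
  let g := (exists_M24_dodecad_point hd hp).choose
  have hg := (exists_M24_dodecad_point hd hp).choose_spec
  (equivConjBy (L := M24 ⊓ MulAction.stabilizer P24 d ⊓ MulAction.stabilizer P24 p) g fun x => by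
    rw [mem_M11_iff, conj_mem_M24 hg.1, Subgroup.mem_inf, Subgroup.mem_inf, MulAction.mem_stabilizer_iff,
      MulAction.mem_stabilizer_iff, conj_smul_eq_iff, hg.2.1, ← Equiv.Perm.smul_def (g⁻¹ * x * g),
      conj_smul_eq_iff, Equiv.Perm.smul_def g, hg.2.2]
    exact Iff.rfl).trans
    (equivOfMem (MulAction.stabilizer M24 d ⊓ MulAction.stabilizer M24 p)
      (M24 ⊓ MulAction.stabilizer P24 d ⊓ MulAction.stabilizer P24 p) fun x => ⟨fun hx => ⟨hx.1.1, hx.1.2, hx.2⟩, fun ⟨h1, h2⟩ => ⟨⟨h1, h2.1⟩, h2.2⟩⟩).symm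

/-- Five-transitivity of the dodecad stabiliser on the dodecad of squares. -/
theorem exists_M12_to_base (x : ℕ → GolayPt) (n : ℕ) (hn : n ≤ 5)
    (hmem : ∀ i < n, x i ∈ Spor.squareDodecad) (hx : ∀ i < n, ∀ j < n, i ≠ j → x i ≠ x j) :
    ∃ h ∈ Spor.M12, ∀ j < n, h (x j) = dpt j := by
  induction n with
  | zero => exact ⟨1, Spor.M12.one_mem, fun j hj => absurd hj (Nat.not_lt_zero j)⟩
  | succ n ih =>
    obtain ⟨h, hh, e⟩ := ih (by omega) (fun i hi => hmem i (by omega))
      fun i hi j hj => hx i (by omega) j (by omega)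
    have hy : h (x n) ∈ rest12 n := by
      refine mem_rest12_iff.2 ⟨?_, fun j hj he => ?_⟩
      · rw [← (mem_M12_iff'.1 hh).2]
        exact Finset.smul_mem_smul_finset (hmem n (by omega))
      · rw [← e j hj] at he
        exact hx n (by omega) j (by omega) (by omega) (h.injective he)
    obtain ⟨u, hu, huy⟩ := fix12_trans (by omega : n < 5) hy
    obtain ⟨hu1, hufix⟩ := mem_fix12.1 hu
    refine ⟨u⁻¹ * h, Spor.M12.mul_mem (Spor.M12.inv_mem hu1) hh, fun j hj => ?_⟩
    rw [Equiv.Perm.mul_apply, Equiv.Perm.inv_eq_iff_eq]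
    rcases Nat.lt_or_ge j n with hjn | hjn
    · rw [e j hjn, hufix j hjn]
    · have : j = n := by omega
      subst this; rw [huy]

theorem octBase_pointwise : (m24Trans.getD 6 []).all (fun r =>
    ((List.range 24).all fun i => !(m24Oct.testBit i) || Nat.beq ((row m24Tab r).getD i 0) i) &&
      (mulL (row m24Tab r) (row m24Tab r) == List.range 24) && Nat.beq (row m24Tab r).length 24) = true := by
  decide +kernel

theorem octBase_range : ∀ p : GolayPt, p ∈ baseOct → m24Oct.testBit (ix p) = true := fun p hp =>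
  mem_setOfMask.1 hp

/-- Elements fixing six points of the standard octad fix all of it and square to one. -/
theorem fixBase_six {g : P24} (hg : g ∈ fixBase 6) : (∀ p ∈ baseOct, g p = p) ∧ g * g = 1 := by
  obtain ⟨hgM, hfix⟩ := mem_fixBase.1 hg
  have hy := allowed_image (M24_le_octAut hgM) (by norm_num : 6 < 7) hfix
  have h := List.all_eq_true.1 levels_ok 6 (by decide)
  simp only [levelOK, Bool.and_eq_true, List.all_eq_true, Bool.or_eq_true, Bool.not_eq_true',
    List.any_eq_true, Nat.beq_eq, Nat.blt_eq] at h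
  rcases h.2 (ix (g (bpt 6))) (List.mem_range.2 (ix_lt _)) with h' | ⟨r, hr, e⟩
  · rw [hy] at h'; exact absurd h' (by simp)
  obtain ⟨u, hu, ru⟩ := row_mem_gen24 (h.1 r hr).1
  have hsame : g = u := by
    have : u⁻¹ * g = 1 := by
      refine eq_one_of_fix (octAut.mul_mem (octAut.inv_mem (M24_le_octAut (gen24_le hu)))
        (M24_le_octAut hgM)) fun k hk => ?_
      rw [Equiv.Perm.mul_apply, Equiv.Perm.inv_eq_iff_eq]
      rcases Nat.lt_or_ge k 6 with hk6 | hk6
      · rw [hfix k hk6, bpt, ru.apply_pt (bpt_lt k (List.mem_range.2 hk)), (h.1 r hr).2 _ ?_]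
        have hl : m24Base.length = 7 := rfl
        have hk' : k < (m24Base.take 6).length := by simp [List.length_take]; omega
        rw [List.getD_eq_getElem _ _ (by omega : k < m24Base.length)]
        have := List.getElem_mem hk'
        rwa [List.getElem_take] at this
      · have : k = 6 := by omega
        subst this
        show g (bpt 6) = u (pt (m24Base.getD 6 0))
        rw [ru.apply_pt (bpt_lt 6 (by decide)), e, pt_ix]
    exact (inv_mul_eq_one.1 this).symm
  subst hsame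
  have hc := List.all_eq_true.1 octBase_pointwise r hr
  simp only [Bool.and_eq_true, List.all_eq_true, Bool.or_eq_true, Bool.not_eq_true', Nat.beq_eq,
    beq_iff_eq] at hc
  refine ⟨fun p hp => ?_, Rep.eq_of_eq (hc.1.2 ▸ Rep.mul hc.2 ru ru) rep_one⟩
  rcases hc.1.1 (ix p) (List.mem_range.2 (ix_lt p)) with h' | h'
  · rw [octBase_range p hp] at h'; exact absurd h' (by simp)
  · exact ix_inj ((ru p).trans h')

end CfsgLib.Spor
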