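import Cfsg.Agent.Lib.SporGolay

/-!
Permutations of the 24 points as lists, straight-line programs, and an orbit-counting lemma.
-/

set_option autoImplicit false

namespace CfsgLib.Spor
open Cfsg
open scoped Pointwise

abbrev P24 : Type := Equiv.Perm GolayPt

/-- `L` lists the images of the numbers `0, ..., 23` under `g`. -/
def Rep (g : P24) (L : List ℕ) : Prop := ∀ p, ix (g p) = L.getD (ix p) 0

/-- Composition of lists of images. -/
def mulL (a b : List ℕ) : List ℕ := b.map fun i => a.getD i 0

/-- The mask of the preimage of the set with mask `m`. -/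
noncomputable def pull (L : List ℕ) (m : ℕ) : ℕ :=
  forceNat m fun v => @List.rec ℕ (fun _ => ℕ) 0
    (fun a _ ih => Nat.add (Nat.mul 2 ih) (Nat.land 1 (Nat.shiftRight v a))) L

theorem pull_eq (L : List ℕ) (m : ℕ) : pull L m = fromBits (L.map m.testBit) := by
  rw [pull, forceNat_eq]
  induction L with
  | nil => rfl
  | cons a L ih =>
    simp only [List.map_cons, fromBits]
    rw [← ih, Nat.bit_val, land_shiftRight_eq]
    rfl

theorem Rep.lt_length {g : P24} {L : List ℕ} (h : L.length = 24) (p : GolayPt) : ix p < L.length := by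
  have := ix_lt p; omega

theorem Rep.mul {g g' : P24} {a b : List ℕ} (hb : b.length = 24) (hg : Rep g a) (hg' : Rep g' b) :
    Rep (g * g') (mulL a b) := by
  intro p
  have hp : ix p < b.length := by have := ix_lt p; omega
  rw [Equiv.Perm.mul_apply, hg, hg']
  simp [mulL, List.getD, List.getElem?_map, List.getElem?_eq_getElem hp]

theorem Rep.apply_pt {g : P24} {L : List ℕ} (h : Rep g L) {i : ℕ} (hi : i < 24) :
    g (pt i) = pt (L.getD i 0) := by
  have := h (pt i)
  rw [ix_pt hi] at this
  rw [← this, pt_ix]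

theorem Rep.smul_setOfMask {g : P24} {L : List ℕ} (hg : Rep g L) (hL : L.length = 24) (m : ℕ) :
    g⁻¹ • setOfMask m = setOfMask (pull L m) := by
  ext p
  have hp : ix p < L.length := by have := ix_lt p; omega
  rw [← inv_smul_smul g p, Finset.smul_mem_smul_finset_iff, inv_smul_smul]
  simp only [mem_setOfMask, pull_eq, testBit_fromBits, Equiv.Perm.smul_def, hg p]
  simp [List.getD, List.getElem?_map, List.getElem?_eq_getElem hp]

theorem pull_xor {L : List ℕ} (a b : ℕ) : pull L (a ^^^ b) = pull L a ^^^ pull L b := by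
  apply Nat.eq_of_testBit_eq
  intro i
  simp only [pull_eq, Nat.testBit_xor, testBit_fromBits, List.getD, List.getElem?_map]
  cases L[i]? <;> simp

theorem pull_zero (L : List ℕ) : pull L 0 = 0 := by
  apply Nat.eq_of_testBit_eq
  intro i
  simp only [pull_eq, testBit_fromBits, List.getD, List.getElem?_map, Nat.zero_testBit]
  cases L[i]? <;> simp

theorem pull_spanList_mem {L : List ℕ} : ∀ (B : List ℕ), (∀ b ∈ B, pull L b ∈ codeMasks) →
    ∀ m ∈ spanList B, pull L m ∈ codeMasks
  | [], _, m, hm => by
    simp [spanList] at hm; subst hm; rw [pull_zero]; exact zero_mem_spanList _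
  | b :: bs, h, m, hm => by
    have ih := pull_spanList_mem bs fun c hc => h c (by simp [hc])
    simp only [spanList, List.mem_append, List.mem_map] at hm
    rcases hm with hm | ⟨x, hx, rfl⟩
    · exact ih m hm
    · rw [pull_xor]; exact xor_mem_spanList (ih x hx) (h b (by simp))

/-- Does the list map each basis word into the code? -/
noncomputable def listInCodeGroup (L : List ℕ) : Bool :=
  Nat.beq L.length 24 && golayBasis.all fun b => inCode (pull L b.2)

theorem mem_M24_iff_forall {g : P24} : g ∈ M24 ↔ ∀ s ∈ codeSets, g • s ∈ codeSets := by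
  rw [MulAction.mem_stabilizer_iff]
  constructor
  · intro h s hs
    have : g • s ∈ g • codeSets := Set.smul_mem_smul_set hs
    rwa [h] at this
  · intro h
    refine Set.eq_of_subset_of_ncard_le ?_ ?_ (Set.toFinite _)
    · rintro _ ⟨s, hs, rfl⟩; exact h s hs
    · rw [Set.ncard_smul_set]

theorem Rep.mem_M24 {g : P24} {L : List ℕ} (hg : Rep g L) (h : listInCodeGroup L = true) : g ∈ M24 := by
  simp [listInCodeGroup, List.all_eq_true] at h
  rw [← inv_mem_iff (H := M24), mem_M24_iff_forall]
  intro s hs
  have hm := mem_codeSets_iff.1 hs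
  rw [← setOfMask_maskOf s, hg.smul_setOfMask h.1]
  refine setOfMask_mem_codeSets (pull_spanList_mem _ ?_ _ hm)
  intro b hb
  obtain ⟨⟨p, c⟩, hc, rfl⟩ := List.mem_map.1 hb
  exact inCode_iff.1 (h.2 p c hc)

/-- The check of a straight-line program whose first `n` rows are given. -/
def slpOK (n : ℕ) (tab : List (List ℕ × ℕ × ℕ)) : Bool :=
  (List.range tab.length).all fun k =>
    let r := tab.getD k ([], 0, 0)
    Nat.beq r.1.length 24 && (Nat.blt k n ||
      (Nat.blt r.2.1 k && Nat.blt r.2.2 k &&
        (r.1 == mulL (tab.getD r.2.1 ([], 0, 0)).1 (tab.getD r.2.2 ([], 0, 0)).1)))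

/-- The list in a row. -/
def row (tab : List (List ℕ × ℕ × ℕ)) (k : ℕ) : List ℕ := (tab.getD k ([], 0, 0)).1

theorem slp_sound {H : Subgroup P24} {n : ℕ} {tab : List (List ℕ × ℕ × ℕ)} (hok : slpOK n tab = true)
    (hgen : ∀ k < n, ∃ g ∈ H, Rep g (row tab k)) :
    ∀ k < tab.length, ∃ g ∈ H, Rep g (row tab k) := by
  intro k
  induction k using Nat.strong_induction_on with
  | _ k ih =>
    intro hk
    have hrow := List.all_eq_true.1 hok
    have h := hrow k (List.mem_range.2 hk)
    simp only [Bool.and_eq_true, Bool.or_eq_true, Nat.blt_eq, beq_iff_eq, Nat.beq_eq] at h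
    rcases h.2 with hn | ⟨⟨hi, hj⟩, e⟩
    · exact hgen k hn
    · obtain ⟨a, ha, ra⟩ := ih _ hi (by omega)
      obtain ⟨b, hb, rb⟩ := ih _ hj (by omega)
      refine ⟨a * b, H.mul_mem ha hb, ?_⟩
      have hlen := hrow _ (List.mem_range.2 (hj.trans hk))
      simp only [Bool.and_eq_true, Nat.beq_eq] at hlen
      rw [row, e]
      exact Rep.mul hlen.1 ra rb

/-- Orbit-stabiliser for a subgroup with a known orbit. -/
theorem card_eq_ncard_mul {G α : Type*} [Group G] [MulAction G α] (K : Subgroup G) (x : α) (T : Set α)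
    (h1 : ∀ g ∈ K, g • x ∈ T) (h2 : ∀ y ∈ T, ∃ g ∈ K, g • x = y) :
    Nat.card K = T.ncard * Nat.card ↥(K ⊓ MulAction.stabilizer G x) := by
  have horb : MulAction.orbit K x = T := by
    ext y
    constructor
    · rintro ⟨⟨g, hg⟩, rfl⟩; exact h1 g hg
    · intro hy; obtain ⟨g, hg, rfl⟩ := h2 y hy; exact ⟨⟨g, hg⟩, rfl⟩
  have e : MulAction.stabilizer K x = (K ⊓ MulAction.stabilizer G x).subgroupOf K := by
    ext ⟨g, hg⟩
    simp [Subgroup.mem_subgroupOf, hg, Subgroup.smul_def]
  rw [← Subgroup.card_mul_index (MulAction.stabilizer K x), MulAction.index_stabilizer, horb,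
    mul_comm, e, Nat.card_congr (Subgroup.subgroupOfEquivOfLe inf_le_left).toEquiv]

/-- The list of first-seen images covers the test. -/
def coversAll (imgs : List ℕ) (bad : ℕ → Bool) : Bool :=
  (List.range 24).all fun i => bad i || imgs.elem i

end CfsgLib.Spor
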