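/-!
Data for the ternary code of length 12.
-/

set_option autoImplicit false

namespace CfsgLib.Spor.Ternary

/-- A systematic generator matrix. -/
def genT : List (List Nat) := [[1, 0, 0, 0, 0, 1, 0, 0, 1, 1, 1, 2],
  [0, 1, 0, 0, 0, 1, 0, 2, 2, 2, 0, 2],
  [0, 0, 1, 0, 0, 1, 0, 1, 0, 2, 1, 1],
  [0, 0, 0, 1, 0, 2, 0, 2, 1, 2, 1, 0],
  [0, 0, 0, 0, 1, 2, 0, 1, 2, 0, 1, 2],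
  [0, 0, 0, 0, 0, 0, 1, 1, 1, 2, 2, 2]]

/-- The weight-six supports as masks, each with coefficients of a word having it. -/
def hexWit : List (Nat × List Nat) := [(63, [1, 1, 1, 2, 2, 0]),
  (222, [0, 1, 2, 1, 2, 2]),
  (237, [1, 0, 2, 1, 0, 1]),
  (243, [1, 2, 0, 0, 1, 2]),
  (347, [1, 2, 0, 1, 2, 1]),
  (366, [0, 1, 2, 2, 0, 1]),
  (373, [1, 0, 2, 0, 2, 2]),
  (413, [1, 0, 2, 2, 1, 0]),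
  (427, [1, 2, 0, 2, 0, 0]),
  (438, [0, 1, 2, 0, 1, 0]),
  (455, [1, 1, 1, 0, 0, 2]),
  (504, [0, 0, 0, 1, 1, 2]),
  (591, [1, 2, 2, 2, 0, 2]),
  (630, [0, 1, 1, 0, 1, 2]),
  (633, [1, 0, 0, 2, 1, 1]),
  (667, [1, 1, 0, 1, 1, 0]),
  (679, [1, 1, 2, 0, 0, 0]),
  (700, [0, 0, 1, 1, 1, 0]),
  (725, [1, 0, 1, 0, 2, 1]),
  (746, [0, 1, 0, 2, 0, 2]),
  (791, [1, 2, 1, 0, 1, 0]),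
  (813, [1, 0, 1, 1, 0, 0]),
  (826, [0, 1, 0, 1, 2, 0]),
  (860, [0, 0, 1, 2, 2, 2]),
  (867, [1, 1, 0, 0, 0, 1]),
  (910, [0, 1, 1, 2, 0, 0]),
  (945, [1, 0, 0, 0, 2, 0]),
  (969, [1, 0, 0, 1, 0, 2]),
  (978, [0, 1, 0, 0, 1, 1]),
  (996, [0, 0, 1, 0, 0, 1]),
  (1117, [1, 0, 1, 1, 1, 2]),
  (1127, [1, 2, 1, 0, 0, 1]),
  (1146, [0, 1, 0, 1, 1, 1]),
  (1175, [1, 2, 2, 0, 2, 0]),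
  (1198, [0, 1, 1, 1, 0, 0]),
  (1209, [1, 0, 0, 1, 2, 0]),
  (1227, [1, 1, 0, 2, 0, 1]),
  (1268, [0, 0, 1, 0, 2, 2]),
  (1295, [1, 1, 2, 1, 0, 0]),
  (1331, [1, 1, 0, 0, 1, 0]),
  (1340, [0, 0, 1, 2, 1, 0]),
  (1366, [0, 1, 1, 0, 2, 1]),
  (1385, [1, 0, 0, 2, 0, 2]),
  (1434, [0, 1, 0, 2, 2, 0]),
  (1445, [1, 0, 1, 0, 0, 0]),
  (1484, [0, 0, 1, 1, 0, 1]),
  (1489, [1, 0, 0, 0, 1, 1]),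
  (1506, [0, 1, 0, 0, 0, 2]),
  (1566, [0, 1, 2, 2, 1, 0]),
  (1579, [1, 2, 0, 1, 0, 0]),
  (1589, [1, 0, 2, 0, 1, 0]),
  (1619, [1, 1, 0, 0, 2, 2]),
  (1644, [0, 0, 1, 2, 0, 1]),
  (1677, [1, 0, 1, 2, 0, 0]),
  (1714, [0, 1, 0, 0, 2, 0]),
  (1734, [0, 1, 2, 0, 0, 1]),
  (1752, [0, 0, 0, 1, 2, 1]),
  (1761, [1, 0, 0, 0, 0, 2]),
  (1817, [1, 0, 0, 2, 2, 0]),
  (1830, [0, 1, 1, 0, 0, 0]),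
  (1861, [1, 0, 2, 0, 0, 1]),
  (1866, [0, 1, 0, 1, 0, 2]),
  (1904, [0, 0, 0, 0, 1, 2]),
  (1923, [1, 2, 0, 0, 0, 0]),
  (1940, [0, 0, 1, 0, 1, 0]),
  (1960, [0, 0, 0, 1, 0, 0]),
  (2135, [1, 1, 2, 0, 1, 1]),
  (2155, [1, 1, 0, 1, 0, 2]),
  (2172, [0, 0, 1, 1, 2, 1]),
  (2191, [1, 2, 1, 1, 0, 0]),
  (2229, [1, 0, 1, 0, 1, 0]),
  (2234, [0, 1, 0, 2, 1, 0]),
  (2265, [1, 0, 0, 2, 2, 2]),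
  (2278, [0, 1, 1, 0, 0, 1]),
  (2334, [0, 1, 1, 1, 1, 0]),
  (2343, [1, 2, 2, 0, 0, 0]),
  (2361, [1, 0, 0, 1, 1, 0]),
  (2381, [1, 0, 1, 2, 0, 1]),
  (2418, [0, 1, 0, 0, 2, 2]),
  (2451, [1, 1, 0, 0, 2, 0]),
  (2476, [0, 0, 1, 2, 0, 0]),
  (2506, [0, 1, 0, 1, 0, 1]),
  (2516, [0, 0, 1, 0, 1, 2]),
  (2529, [1, 0, 0, 0, 0, 1]),
  (2589, [1, 0, 2, 1, 2, 0]),
  (2606, [0, 1, 2, 1, 0, 0]),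
  (2611, [1, 2, 0, 0, 2, 0]),
  (2650, [0, 1, 0, 2, 2, 1]),
  (2661, [1, 0, 1, 0, 0, 2]),
  (2710, [0, 1, 1, 0, 2, 0]),
  (2729, [1, 0, 0, 2, 0, 0]),
  (2755, [1, 2, 0, 0, 0, 1]),
  (2764, [0, 0, 1, 1, 0, 2]),
  (2800, [0, 0, 0, 0, 1, 1]),
  (2827, [1, 1, 0, 2, 0, 0]),
  (2868, [0, 0, 1, 0, 2, 0]),
  (2886, [0, 1, 2, 0, 0, 2]),
  (2897, [1, 0, 0, 0, 1, 2]),
  (2920, [0, 0, 0, 1, 0, 1]),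
  (2949, [1, 0, 2, 0, 0, 0]),
  (2968, [0, 0, 0, 1, 2, 0]),
  (2978, [0, 1, 0, 0, 0, 0]),
  (3099, [1, 2, 0, 2, 1, 0]),
  (3117, [1, 0, 2, 2, 0, 0]),
  (3126, [0, 1, 2, 0, 2, 0]),
  (3150, [0, 1, 1, 2, 0, 2]),
  (3185, [1, 0, 0, 0, 2, 1]),
  (3228, [0, 0, 1, 2, 2, 0]),
  (3235, [1, 1, 0, 0, 0, 0]),
  (3269, [1, 0, 2, 0, 0, 2]),
  (3282, [0, 1, 0, 0, 1, 2]),
  (3304, [0, 0, 0, 1, 0, 2]),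
  (3349, [1, 0, 1, 0, 2, 0]),
  (3370, [0, 1, 0, 2, 0, 0]),
  (3395, [1, 2, 0, 0, 0, 2]),
  (3416, [0, 0, 0, 1, 2, 2]),
  (3428, [0, 0, 1, 0, 0, 2]),
  (3462, [0, 1, 2, 0, 0, 0]),
  (3465, [1, 0, 0, 1, 0, 0]),
  (3504, [0, 0, 0, 0, 1, 0]),
  (3591, [1, 1, 1, 0, 0, 0]),
  (3640, [0, 0, 0, 1, 1, 0]),
  (3657, [1, 0, 0, 1, 0, 1]),
  (3668, [0, 0, 1, 0, 1, 1]),
  (3682, [0, 1, 0, 0, 0, 1]),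
  (3722, [0, 1, 0, 1, 0, 0]),
  (3729, [1, 0, 0, 0, 1, 0]),
  (3748, [0, 0, 1, 0, 0, 0]),
  (3852, [0, 0, 1, 1, 0, 0]),
  (3858, [0, 1, 0, 0, 1, 0]),
  (3873, [1, 0, 0, 0, 0, 0]),
  (4032, [0, 0, 0, 0, 0, 1])]

end CfsgLib.Spor.Ternary
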