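import Cfsg.Agent.S1961
import Cfsg.Agent.S1967
import Cfsg.Agent.Lib.StableFunctor
import Cfsg.Agent.Lib.StableBridge

/-!
# From normality in constrained sections to control of strong fusion
-/

set_option autoImplicit false
set_option linter.style.haveILetI false

universe u

namespace CfsgLib.Stable

/-- Fusion in `P` is realised in the normalizer of `Z`. -/
def Ctrl {G : Type u} [Group G] (P Z : Subgroup G) : Prop :=
  ∀ T : Subgroup G, T ≤ P → ∀ g : G, (∀ t ∈ T, g * t * g⁻¹ ∈ P) →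
    ∃ n ∈ Subgroup.normalizer (Z : Set G), ∀ t ∈ T, n * t * n⁻¹ = g * t * g⁻¹

/-- A functor with values that are normal in the constrained sections of `G₀`. -/
structure LocalData (p : ℕ) (G₀ : Type u) [Group G₀]
    (V : ∀ (G : Type u) [Group G], Subgroup G → Subgroup G) (full : Prop) : Prop where
  le : ∀ {G : Type u} [Group G] [Finite G] {D : Subgroup G}, IsPGroup p D → V G D ≤ D
  ne_bot : ∀ {G : Type u} [Group G] [Finite G] {D : Subgroup G}, IsPGroup p D → D ≠ ⊥ → V G D ≠ ⊥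
  map : ∀ {G X : Type u} [Group G] [Group X] [Finite G] [Finite X] (f : G →* X) {D : Subgroup G},
    IsPGroup p D → Set.InjOn f (D : Set G) → (V G D).map f = V X (D.map f)
  normal : ∀ {X : Type u} [Group X] [Finite X], IsSec X G₀ →
    Subgroup.centralizer (Cfsg.pCore p X : Set X) ≤ Cfsg.pCore p X →
    ∀ (P : Sylow p X) (D : Subgroup X), SClosed D (P : Subgroup X) →
      (full → D = (P : Subgroup X)) → (V X D).Normal

variable {p : ℕ} [hp : Fact p.Prime] {G₀ : Type u} [Group G₀]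
  {V : ∀ (G : Type u) [Group G], Subgroup G → Subgroup G} {full : Prop}

/-- The statement proved by induction. -/
def Goal (p : ℕ) (V : ∀ (G : Type u) [Group G], Subgroup G → Subgroup G) (full : Prop)
    (G : Type u) [Group G] : Prop :=
  ∀ (P : Sylow p G) (D : Subgroup G), SClosed D (P : Subgroup G) →
    (full → D = (P : Subgroup G)) → Ctrl (P : Subgroup G) (V G D)

theorem LocalData.normalizer_le (hV : LocalData p G₀ V full) {G : Type u} [Group G] [Finite G]
    {D : Subgroup G} (hD : IsPGroup p D) :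
    Subgroup.normalizer (D : Set G) ≤ Subgroup.normalizer (V G D : Set G) := by
  intro g hg
  refine mem_normalizer_of_map_eq fun x hx => ?_
  have e : D.map (MulAut.conj g).toMonoidHom = D := by
    refine Subgroup.eq_of_le_of_card_ge ?_ (card_conj D g).ge
    rintro _ ⟨y, hy, rfl⟩
    exact (Subgroup.mem_normalizer_iff.1 hg y).1 hy
  rw [← e, ← hV.map (G := G) (X := G) _ hD (Set.injOn_of_injective (MulAut.conj g).injective)]
  exact ⟨x, hx, rfl⟩

/-- Two `p`-subgroups with equal images modulo a `p'`-kernel are conjugate by the kernel. -/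
theorem exists_ker_conj {G : Type u} [Group G] [Finite G] {X : Type u} [Group X] (f : G →* X)
    (hker : (Nat.card f.ker).Coprime p) {A B : Subgroup G} (hA : IsPGroup p A) (hB : IsPGroup p B)
    (hAB : A.map f = B.map f) :
    ∃ k ∈ f.ker, ∀ a ∈ A, k * a * k⁻¹ ∈ B := by
  set M := B ⊔ f.ker with hM
  have hAM : A ≤ M := by
    intro a ha
    obtain ⟨b, hb, he⟩ := (hAB ▸ ⟨a, ha, rfl⟩ : f a ∈ B.map f)
    have h1 : b⁻¹ * a ∈ f.ker := MonoidHom.mem_ker.2 (by rw [map_mul, map_inv, he, inv_mul_cancel])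
    have h2 := mul_mem (Subgroup.mem_sup_left (T := f.ker) hb) (Subgroup.mem_sup_right h1)
    rwa [mul_inv_cancel_left] at h2
  have hidx : ¬ p ∣ (B.subgroupOf M).index := by
    have h1 : Nat.card B * B.relIndex M = Nat.card B * Nat.card f.ker := by
      rw [CfsgLib.Core.card_mul_relIndex (le_sup_left : B ≤ M)]
      refine CfsgLib.Core.card_sup_of_disjoint ?_ ?_
      · rw [Subgroup.normalizer_eq_top]; exact le_top
      · rw [inf_comm]; exact CfsgLib.Core.sylow_inf_bot_of_coprime hB hker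
    rw [show (B.subgroupOf M).index = B.relIndex M from rfl, mul_left_cancel₀ Nat.card_pos.ne' h1]
    exact hp.out.coprime_iff_not_dvd.1 hker.symm
  set PB : Sylow p M := (hB.comap_of_injective M.subtype M.subtype_injective).toSylow hidx
  obtain ⟨PA, hPA⟩ := (hA.comap_of_injective M.subtype M.subtype_injective).exists_le_sylow
  obtain ⟨m, hm⟩ := MulAction.exists_smul_eq M PA PB
  have hconj : ∀ a ∈ A, (m : G) * a * (m : G)⁻¹ ∈ B := by
    intro a ha
    have h1 : m * ⟨a, hAM ha⟩ * m⁻¹ ∈ (PB : Subgroup M) := by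
      rw [← hm, Sylow.coe_subgroup_smul]
      exact ⟨⟨a, hAM ha⟩, hPA ha, rfl⟩
    exact h1
  obtain ⟨b, hb, hbm⟩ : ∃ b ∈ B, b⁻¹ * (m : G) ∈ f.ker := by
    have h1 : f (m : G) ∈ (B ⊔ f.ker).map f := ⟨_, m.2, rfl⟩
    rw [Subgroup.map_sup, (Subgroup.map_eq_bot_iff f.ker).2 le_rfl, sup_bot_eq] at h1
    obtain ⟨b, hb, he⟩ := h1
    exact ⟨b, hb, MonoidHom.mem_ker.2 (by rw [map_mul, map_inv, he, inv_mul_cancel])⟩
  refine ⟨_, hbm, fun a ha => ?_⟩
  have h1 := mul_mem (mul_mem (inv_mem hb) (hconj a ha)) hb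
  simpa [mul_assoc] using h1

/-- Control in a proper subgroup containing `P`. -/
theorem ctrl_of_subgroup (hV : LocalData p G₀ V full) {G : Type u} [Group G] [Finite G]
    (P : Sylow p G) {D : Subgroup G} (hD : SClosed D (P : Subgroup G))
    (hfull : full → D = (P : Subgroup G)) {H : Subgroup G} (hPH : (P : Subgroup G) ≤ H)
    (hH : Goal p V full H) {T : Subgroup G} (hT : T ≤ (P : Subgroup G)) {g : G} (hg : g ∈ H)
    (hgT : ∀ t ∈ T, g * t * g⁻¹ ∈ (P : Subgroup G)) :
    ∃ n ∈ Subgroup.normalizer (V G D : Set G), ∀ t ∈ T, n * t * n⁻¹ = g * t * g⁻¹ := by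
  have hDH : D ≤ H := hD.1.trans hPH
  have hsc : SClosed (D.subgroupOf H) (P.subtype hPH : Subgroup H) :=
    ⟨fun x hx => by rw [Sylow.coe_subtype]; exact hD.1 hx, fun x hx h hh => by
      rw [Sylow.coe_subtype] at hh
      exact hD.2 _ hx (h : G) hh⟩
  obtain ⟨n, hn, hnt⟩ := hH (P.subtype hPH) (D.subgroupOf H) hsc
    (fun hf => by rw [Sylow.coe_subtype, hfull hf]) (T.subgroupOf H)
    (fun x hx => by rw [Sylow.coe_subtype]; exact hT hx) ⟨g, hg⟩
    (fun t ht => by rw [Sylow.coe_subtype]; exact hgT _ ht)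
  refine ⟨(n : G), ?_, fun t ht => congrArg Subtype.val (hnt ⟨t, hPH (hT ht)⟩ ht)⟩
  have h1 := Subgroup.le_normalizer_map H.subtype ⟨n, hn, rfl⟩
  rw [hV.map H.subtype (D := D.subgroupOf H) ((P.2.to_le hD.1).comap_of_injective H.subtype H.subtype_injective)
    (Set.injOn_of_injective H.subtype_injective), Subgroup.map_subgroupOf_eq_of_le hDH] at h1
  exact h1

/-- The step modulo `O_{p'}`. -/
theorem ctrl_of_pPrimeCore (hV : LocalData p G₀ V full) {G : Type u} [Group G] [Finite G]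
    (P : Sylow p G) {D : Subgroup G} (hD : SClosed D (P : Subgroup G))
    (hfull : full → D = (P : Subgroup G)) {N : Subgroup G} [N.Normal]
    (hN : (Nat.card N).Coprime p) (hQ : Goal p V full (G ⧸ N)) :
    Ctrl (P : Subgroup G) (V G D) := by
  intro T hT g hgT
  set f := QuotientGroup.mk' N with hf
  have hfs : Function.Surjective f := QuotientGroup.mk'_surjective N
  have hker : (Nat.card f.ker).Coprime p := by rw [hf, QuotientGroup.ker_mk']; exact hN
  have hsc : SClosed (D.map f) ((P.mapSurjective hfs : Sylow p (G ⧸ N)) : Subgroup (G ⧸ N)) := by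
    rw [Sylow.coe_mapSurjective]
    refine ⟨Subgroup.map_mono hD.1, ?_⟩
    rintro _ ⟨x, hx, rfl⟩ gq hmem
    obtain ⟨h, rfl⟩ := hfs gq
    obtain ⟨y, hy, hye⟩ := hmem
    obtain ⟨k, hk, hkc⟩ := exists_ker_conj (p := p) f hker
      (A := Subgroup.zpowers (h * x * h⁻¹)) (B := Subgroup.zpowers y)
      (((P.2.to_le hD.1).to_le (Subgroup.zpowers_le.2 hx)).map (MulAut.conj h).toMonoidHom |>.to_le
        (by rw [MonoidHom.map_zpowers]; exact le_rfl))
      (P.2.to_le (Subgroup.zpowers_le.2 hy))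
      (by rw [MonoidHom.map_zpowers, MonoidHom.map_zpowers, hye, map_mul, map_mul, map_inv])
    have h1 := Subgroup.zpowers_le.2 hy (hkc _ (Subgroup.mem_zpowers _))
    have h2 : k * h * x * (k * h)⁻¹ = k * (h * x * h⁻¹) * k⁻¹ := by group
    have h3 := hD.2 x hx (k * h) (h2 ▸ h1)
    refine ⟨_, h3, ?_⟩
    rw [map_mul, map_mul, map_inv, map_mul, MonoidHom.mem_ker.1 hk, one_mul]
  obtain ⟨nq, hnq, hnt⟩ := hQ (P.mapSurjective hfs) (D.map f) hsc
    (fun h => by rw [Sylow.coe_mapSurjective, hfull h]) (T.map f)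
    (by rw [Sylow.coe_mapSurjective]; exact Subgroup.map_mono hT) (f g)
    (by
      rintro _ ⟨t, ht, rfl⟩
      rw [Sylow.coe_mapSurjective]
      exact ⟨_, hgT t ht, by rw [map_mul, map_mul, map_inv]⟩)
  have hDp : IsPGroup p D := P.2.to_le hD.1
  rw [← hV.map f hDp (injOn_of_coprime_ker f hker hDp),
    normalizer_map_eq f hfs hker (hDp.to_le (hV.le hDp))] at hnq
  obtain ⟨n, hn, rfl⟩ := hnq
  set M := Subgroup.normalizer (V G D : Set G) with hM
  have hPM : (P : Subgroup G) ≤ M := (le_normalizer_D hD).trans (hV.normalizer_le hDp)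
  let A : Subgroup M := (T.map (MulAut.conj n).toMonoidHom).subgroupOf M
  let B : Subgroup M := (T.map (MulAut.conj g).toMonoidHom).subgroupOf M
  have hTn : ∀ t ∈ T, n * t * n⁻¹ ∈ M := fun t ht => mul_mem (mul_mem hn (hPM (hT ht))) (inv_mem hn)
  have hTg : ∀ t ∈ T, g * t * g⁻¹ ∈ M := fun t ht => hPM (hgT t ht)
  have hkerM : (Nat.card (f.comp M.subtype).ker).Coprime p := by
    refine Nat.Coprime.coprime_dvd_left ?_ hker
    have h1 : (f.comp M.subtype).ker = f.ker.subgroupOf M := rfl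
    rw [h1, ← Subgroup.card_subtype, Subgroup.subgroupOf_map_subtype]
    exact Subgroup.card_dvd_of_le inf_le_left
  have hmapA : A.map (f.comp M.subtype) = T.map (f.comp (MulAut.conj n).toMonoidHom) := by
    rw [← Subgroup.map_map, Subgroup.map_subgroupOf_eq_of_le (by
      rintro _ ⟨t, ht, rfl⟩; exact hTn t ht), Subgroup.map_map]
  have hmapB : B.map (f.comp M.subtype) = T.map (f.comp (MulAut.conj g).toMonoidHom) := by
    rw [← Subgroup.map_map, Subgroup.map_subgroupOf_eq_of_le (by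
      rintro _ ⟨t, ht, rfl⟩; exact hTg t ht), Subgroup.map_map]
  have hTp : IsPGroup p T := P.2.to_le hT
  have hfe : ∀ t ∈ T, f (n * t * n⁻¹) = f (g * t * g⁻¹) := fun t ht => by
    rw [map_mul, map_mul, map_inv, hnt _ ⟨t, ht, rfl⟩, ← map_inv, ← map_mul, ← map_mul]
  obtain ⟨k, hk, hkc⟩ := exists_ker_conj (p := p) (f.comp M.subtype) hkerM (A := A) (B := B)
    ((hTp.map _).comap_of_injective M.subtype M.subtype_injective)
    ((hTp.map _).comap_of_injective M.subtype M.subtype_injective) (by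
      rw [hmapA, hmapB]
      ext y
      constructor
      · rintro ⟨t, ht, rfl⟩; exact ⟨t, ht, (hfe t ht).symm⟩
      · rintro ⟨t, ht, rfl⟩; exact ⟨t, ht, hfe t ht⟩)
  refine ⟨(k : G) * n, mul_mem k.2 hn, fun t ht => ?_⟩
  have h1 := hkc ⟨_, hTn t ht⟩ ⟨t, ht, rfl⟩
  refine injOn_of_coprime_ker f hker (hTp.map (MulAut.conj g).toMonoidHom)
    (show (k : G) * n * t * ((k : G) * n)⁻¹ ∈ _ by
      rw [show (k : G) * n * t * ((k : G) * n)⁻¹ = (k : G) * (n * t * n⁻¹) * (k : G)⁻¹ by group]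
      exact h1) ⟨t, ht, rfl⟩ ?_
  rw [show (k : G) * n * t * ((k : G) * n)⁻¹ = (k : G) * (n * t * n⁻¹) * (k : G)⁻¹ by group,
    map_mul, map_mul, map_inv, show f (k : G) = 1 from hk, one_mul, inv_one, mul_one]
  exact hfe t ht

/-- When `O_{p'} = 1` and `C(Q) ⊄ Q`, the Sylow subgroup of `Q C(Q)` is not normal. -/
theorem centralizer_le_of_normal_sylow {G : Type u} [Group G] [Finite G] (P : Sylow p G)
    (hcore : Cfsg.pPrimeCore p G = ⊥) {Q : Subgroup G} [Q.Normal] (hQ : Q = Cfsg.pCore p G)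
    (hR : (P : Subgroup G) ⊓ (Q ⊔ Subgroup.centralizer (Q : Set G)) ≤ Q) :
    Subgroup.centralizer (Q : Set G) ≤ Q := by
  set C := Subgroup.centralizer (Q : Set G) with hC
  set Z : Subgroup C := Q.subgroupOf C with hZ
  have hQp : IsPGroup p Q := hQ ▸ CfsgLib.Core.isPGroup_pCore p
  have hPC : (P : Subgroup G) ⊓ C = Q ⊓ C := by
    refine le_antisymm (le_inf ((inf_le_inf_left _ le_sup_right).trans hR) inf_le_right) ?_
    exact le_inf (inf_le_left.trans (hQ ▸ CfsgLib.Core.pCore_le_sylow P)) inf_le_right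
  have hidx : ¬ p ∣ Z.index := by
    have h1 := not_dvd_relIndex P C
    rw [hPC, Subgroup.inf_relIndex_right] at h1
    exact h1
  have hZp : IsPGroup p Z := hQp.comap_of_injective C.subtype C.subtype_injective
  obtain ⟨e, he⟩ := IsPGroup.iff_card.1 hZp
  obtain ⟨K, hK⟩ := Subgroup.exists_right_complement'_of_coprime (N := Z)
    (he ▸ ((hp.out.coprime_iff_not_dvd).2 hidx).pow_left e)
  have hZc : ∀ z ∈ Z, ∀ x : C, z * x = x * z := fun z hz x =>
    Subtype.ext (Subgroup.mem_centralizer_iff.1 x.2 (z : G) hz)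
  have hKn : K.Normal := by
    refine ⟨fun k hk x => ?_⟩
    obtain ⟨⟨z, k'⟩, rfl⟩ := hK.2 x
    have : (z : C) * k' * k * ((z : C) * k')⁻¹ = (k' : C) * k * (k' : C)⁻¹ := by
      rw [show (z : C) * k' * k * ((z : C) * k')⁻¹ = (z : C) * ((k' : C) * k * (k' : C)⁻¹) * (z : C)⁻¹
        by group, hZc z z.2, mul_inv_cancel_right]
    show (z : C) * k' * k * ((z : C) * k')⁻¹ ∈ K
    rw [this]
    exact K.mul_mem (K.mul_mem k'.2 hk) (K.inv_mem k'.2)
  have hKp : (Nat.card K).Coprime p := by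
    rw [hK.symm.index_eq_card.symm]
    exact ((hp.out.coprime_iff_not_dvd).2 hidx).symm
  have hK1 : K = ⊥ := by
    have h1 := (CfsgLib.Core.le_pPrimeCore hKn hKp)
    have h2 : (Cfsg.pPrimeCore p C).map C.subtype ≤ Cfsg.pPrimeCore p G :=
      CfsgLib.Core.pPrimeCore_map_subtype_le inferInstance
    rw [hcore, le_bot_iff, Subgroup.map_eq_bot_iff_of_injective _ C.subtype_injective] at h2
    exact le_bot_iff.1 (h2 ▸ h1)
  intro x hx
  obtain ⟨⟨z, k⟩, hzk⟩ := hK.2 ⟨x, hx⟩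
  have hk1 : (k : C) = 1 := Subgroup.mem_bot.1 (hK1 ▸ k.2)
  have : (z : C) = ⟨x, hx⟩ := by rw [← hzk]; simp [hk1]
  have h3 : ((z : C) : G) ∈ Q := z.2
  rw [this] at h3
  exact h3

/-- The step in which the centralizer of `Q = O_p(G)` covers `G` modulo `P`. -/
theorem ctrl_of_cover (hV : LocalData p G₀ V full) {G : Type u} [Group G] [Finite G]
    (P : Sylow p G) {D : Subgroup G} (hD : SClosed D (P : Subgroup G))
    (hfull : full → D = (P : Subgroup G)) {Q : Subgroup G} [Q.Normal] (hQ : Q = Cfsg.pCore p G)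
    (hPQ : ¬ (P : Subgroup G) ≤ Q) (htop : (P : Subgroup G) ⊔ Subgroup.centralizer (Q : Set G) = ⊤)
    (hquot : Goal p V full (G ⧸ Q))
    (hsub : ∀ H : Subgroup G, H ≠ ⊤ → Goal p V full H) {T : Subgroup G} (hQT : Q ≤ T)
    (hT : T ≤ (P : Subgroup G)) {g : G} (hgT : ∀ t ∈ T, g * t * g⁻¹ ∈ (P : Subgroup G)) :
    ∃ n ∈ Subgroup.normalizer (V G D : Set G), ∀ t ∈ T, n * t * n⁻¹ = g * t * g⁻¹ := by
  set f := QuotientGroup.mk' Q with hf
  have hfs : Function.Surjective f := QuotientGroup.mk'_surjective Q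
  have hQp : IsPGroup p Q := hQ ▸ CfsgLib.Core.isPGroup_pCore p
  set PQ := P.mapSurjective hfs with hPQdef
  set Zq := V (G ⧸ Q) (PQ : Subgroup (G ⧸ Q)) with hZq
  set H := (Subgroup.normalizer (Zq : Set (G ⧸ Q))).comap f with hH
  have hPH : (P : Subgroup G) ≤ H := by
    rw [hH, ← Subgroup.map_le_iff_le_comap, ← Sylow.coe_mapSurjective hfs P]
    exact Subgroup.le_normalizer.trans (hV.normalizer_le PQ.2)
  have hHne : H ≠ ⊤ := by
    intro e
    have hN : Subgroup.normalizer (Zq : Set (G ⧸ Q)) = ⊤ := by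
      rw [← Subgroup.map_comap_eq_self_of_surjective hfs (Subgroup.normalizer (Zq : Set (G ⧸ Q))),
        ← hH, e, Subgroup.map_top_of_surjective f hfs]
    haveI hZn : Zq.Normal := Subgroup.normalizer_eq_top_iff.1 hN
    have hle : Zq.comap f ≤ Q := by
      refine (CfsgLib.Core.le_pCore (hZn.comap f)
        (((PQ.2.to_le (hV.le PQ.2))).comap_of_ker_isPGroup f ?_)).trans hQ.ge
      rw [hf, QuotientGroup.ker_mk']
      exact hQp
    refine hV.ne_bot PQ.2 ?_ ?_
    · intro e1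
      apply hPQ
      intro x hx
      have : f x ∈ (PQ : Subgroup (G ⧸ Q)) := by
        rw [hPQdef, Sylow.coe_mapSurjective]; exact ⟨x, hx, rfl⟩
      rw [e1, Subgroup.mem_bot] at this
      exact (QuotientGroup.eq_one_iff x).1 this
    · show Zq = ⊥
      rw [eq_bot_iff, ← Subgroup.map_comap_eq_self_of_surjective hfs Zq]
      rintro _ ⟨x, hx, rfl⟩
      exact (QuotientGroup.eq_one_iff x).2 (hle hx)
  -- every map out of a well placed subgroup is realised in `H`
  have key : ∀ T₁ : Subgroup G, Q ≤ T₁ → T₁ ≤ (P : Subgroup G) →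
      ∀ Δ₀ : Subgroup G,
      Δ₀ = (Subgroup.centralizer ((T₁.map f : Subgroup (G ⧸ Q)) : Set (G ⧸ Q))).comap f →
      ∀ S₁ : Sylow p Δ₀, (S₁ : Subgroup Δ₀).map Δ₀.subtype ≤ (P : Subgroup G) →
      ∀ z : G, (∀ t ∈ T₁, z * t * z⁻¹ ∈ (P : Subgroup G)) →
        ∃ n ∈ H, ∀ t ∈ T₁, n * t * n⁻¹ = z * t * z⁻¹ := by
    intro T₁ hQT₁ hT₁ Δ₀ hΔ₀
    subst hΔ₀
    set Δ := (Subgroup.centralizer ((T₁.map f : Subgroup (G ⧸ Q)) : Set (G ⧸ Q))).comap f with hΔ
    intro S₁ hS₁ z hz
    obtain ⟨nq, hnq, hnt⟩ := hquot PQ (PQ : Subgroup (G ⧸ Q)) (sclosed_self _) (fun _ => rfl)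
      (T₁.map f) (by rw [hPQdef, Sylow.coe_mapSurjective]; exact Subgroup.map_mono hT₁) (f z)
      (by
        rintro _ ⟨t, ht, rfl⟩
        rw [hPQdef, Sylow.coe_mapSurjective]
        exact ⟨_, hz t ht, by rw [map_mul, map_mul, map_inv]⟩)
    obtain ⟨n, rfl⟩ := hfs nq
    have hcomm : ∀ d ∈ Δ, ∀ t ∈ T₁, d * t * d⁻¹ * t⁻¹ ∈ Q := by
      intro d hd t ht
      rw [← QuotientGroup.eq_one_iff]
      show f (d * t * d⁻¹ * t⁻¹) = 1
      rw [map_mul, map_mul, map_mul, map_inv, map_inv,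
        ← Subgroup.mem_centralizer_iff.1 hd (f t) ⟨t, ht, rfl⟩, mul_inv_cancel_right,
        mul_inv_cancel]
    have hΔN : ∀ d ∈ Δ, d ∈ Subgroup.normalizer (T₁ : Set G) := by
      intro d hd
      refine mem_normalizer_of_map_eq fun t ht => ?_
      have := mul_mem (hQT₁ (hcomm d hd t ht)) ht
      rwa [inv_mul_cancel_right] at this
    have hp' : ∀ d : Δ, (orderOf d).Coprime p → (d : G) ∈ Subgroup.centralizer (T₁ : Set G) := by
      intro d hd
      have hdo : (orderOf (d : G)).Coprime p := by rwa [Subgroup.orderOf_coe]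
      have hdC : (d : G) ∈ Subgroup.centralizer (Q : Set G) := by
        set C := Subgroup.centralizer (Q : Set G)
        have h1 : (QuotientGroup.mk (d : G) : G ⧸ C) = 1 := by
          refine orderOf_eq_one_iff.1 (Nat.eq_one_of_dvd_coprimes (k := orderOf (QuotientGroup.mk (d : G) : G ⧸ C))
            ?_ (orderOf_map_dvd (QuotientGroup.mk' C) (d : G)) (dvd_refl _))
          obtain ⟨k, hk⟩ := (P.2.map (QuotientGroup.mk' C)) ⟨QuotientGroup.mk (d : G), by
            rw [← QuotientGroup.mk'_apply,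
              show (P : Subgroup G).map (QuotientGroup.mk' C) = ⊤ by
                rw [← Subgroup.map_top_of_surjective _ (QuotientGroup.mk'_surjective C), ← htop,
                  Subgroup.map_sup, QuotientGroup.map_mk'_self, sup_bot_eq]]
            exact Subgroup.mem_top _⟩
          exact Nat.Coprime.coprime_dvd_right
            (orderOf_dvd_of_pow_eq_one (congrArg Subtype.val hk)) (hdo.pow_right k)
        exact (QuotientGroup.eq_one_iff _).1 h1
      rw [Subgroup.mem_centralizer_iff]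
      intro t ht
      set q := (d : G) * t * (d : G)⁻¹ * t⁻¹ with hq
      have hqQ : q ∈ Q := hcomm _ d.2 t ht
      have hqd : Commute q (d : G) := Subgroup.mem_centralizer_iff.1 hdC q hqQ
      have hpow : ∀ k : ℕ, (d : G) ^ k * t * ((d : G) ^ k)⁻¹ = q ^ k * t := by
        intro k
        induction k with
        | zero => simp
        | succ k ih =>
          calc (d : G) ^ (k + 1) * t * ((d : G) ^ (k + 1))⁻¹
              = (d : G) * ((d : G) ^ k * t * ((d : G) ^ k)⁻¹) * (d : G)⁻¹ := by rw [pow_succ']; group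
            _ = ((d : G) * q ^ k) * t * (d : G)⁻¹ := by rw [ih, ← mul_assoc]
            _ = (q ^ k * (d : G)) * t * (d : G)⁻¹ := by rw [(hqd.pow_left k).eq]
            _ = q ^ (k + 1) * t := by rw [pow_succ, hq]; group
      have hq1 : q = 1 := by
        have h1 := hpow (orderOf (d : G))
        rw [pow_orderOf_eq_one, one_mul, inv_one, mul_one, right_eq_mul] at h1
        obtain ⟨k, hk⟩ := hQp ⟨q, hqQ⟩
        exact orderOf_eq_one_iff.1 (Nat.eq_one_of_dvd_coprimes (hdo.pow_right k)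
          (orderOf_dvd_of_pow_eq_one h1) (orderOf_dvd_of_pow_eq_one (congrArg Subtype.val hk)))
      rw [hq, mul_inv_eq_one, mul_inv_eq_iff_eq_mul] at hq1
      exact hq1.symm
    have hnC : n⁻¹ * z ∈ Δ := by
      show f (n⁻¹ * z) ∈ Subgroup.centralizer _
      rw [Subgroup.mem_centralizer_iff]
      intro y hy
      have h1 := hnt y hy
      rw [map_mul, map_inv]
      calc y * ((f n)⁻¹ * f z) = (f n)⁻¹ * (f n * y * (f n)⁻¹) * f z := by group
        _ = (f n)⁻¹ * (f z * y * (f z)⁻¹) * f z := by rw [h1]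
        _ = _ := by group
    set CΔ := (Subgroup.centralizer (T₁ : Set G)).subgroupOf Δ with hCΔ
    haveI : CΔ.Normal := ⟨fun c hc x => by
      show (x : G) * c * (x : G)⁻¹ ∈ Subgroup.centralizer (T₁ : Set G)
      rw [Subgroup.mem_centralizer_iff]
      intro t ht
      have ht' := (Subgroup.mem_normalizer_iff.1 (inv_mem (hΔN _ x.2)) t).1 ht
      have h1 : ((x : G)⁻¹ * t * ((x : G)⁻¹)⁻¹) * (c : G) =
          (c : G) * ((x : G)⁻¹ * t * ((x : G)⁻¹)⁻¹) := Subgroup.mem_centralizer_iff.1 hc _ ht'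
      calc t * ((x : G) * c * (x : G)⁻¹)
          = (x : G) * (((x : G)⁻¹ * t * ((x : G)⁻¹)⁻¹) * c) * (x : G)⁻¹ := by group
        _ = (x : G) * (c * ((x : G)⁻¹ * t * ((x : G)⁻¹)⁻¹)) * (x : G)⁻¹ := by rw [h1]
        _ = _ := by group⟩
    have hmem : (⟨_, hnC⟩ : Δ) ∈ (S₁ : Subgroup Δ) ⊔ CΔ := by
      refine (sup_le_sup_left ?_ _ : _ ≤ (S₁ : Subgroup Δ) ⊔ CΔ)
        ((CfsgLib.Local.sylow_sup_pResidual S₁).ge (Subgroup.mem_top _))
      exact (Subgroup.closure_le _).2 hp'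
    rw [← SetLike.mem_coe, Subgroup.mul_normal] at hmem
    obtain ⟨s, hs, c, hc, hsc⟩ := hmem
    refine ⟨n * (s : G), mul_mem hnq (hPH (hS₁ ⟨s, hs, rfl⟩)), fun t ht => ?_⟩
    have hz' : z = n * (s : G) * (c : G) := by
      have h2 : (s : G) * (c : G) = n⁻¹ * z := congrArg Subtype.val hsc
      rw [mul_assoc, h2, mul_inv_cancel_left]
    rw [hz']
    have h1 : t * (c : G) = (c : G) * t := Subgroup.mem_centralizer_iff.1 hc t ht
    calc n * (s : G) * t * (n * (s : G))⁻¹ = n * (s : G) * (t * c) * (c : G)⁻¹ * (n * (s : G))⁻¹ := by group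
      _ = n * (s : G) * ((c : G) * t) * (c : G)⁻¹ * (n * (s : G))⁻¹ := by rw [h1]
      _ = _ := by group
  -- a conjugate of `T` that is well placed
  set Δ := (Subgroup.centralizer ((T.map f : Subgroup (G ⧸ Q)) : Set (G ⧸ Q))).comap f with hΔ
  obtain ⟨S⟩ := (inferInstance : Nonempty (Sylow p Δ))
  set SG := (S : Subgroup Δ).map Δ.subtype with hSG
  have hSN : SG ≤ Subgroup.normalizer (T : Set G) := by
    rintro _ ⟨d, -, rfl⟩
    refine mem_normalizer_of_map_eq fun t ht => ?_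
    have h1 : (d : G) * t * (d : G)⁻¹ * t⁻¹ ∈ Q := by
      rw [← QuotientGroup.eq_one_iff]
      show f ((d : G) * t * (d : G)⁻¹ * t⁻¹) = 1
      rw [map_mul, map_mul, map_mul, map_inv, map_inv,
        ← Subgroup.mem_centralizer_iff.1 d.2 (f t) ⟨t, ht, rfl⟩, mul_inv_cancel_right,
        mul_inv_cancel]
    have := mul_mem (hQT h1) ht
    rwa [inv_mul_cancel_right] at this
  have hSTp : IsPGroup p (SG ⊔ T : Subgroup G) :=
    IsPGroup.to_sup_of_normal_right' (S.2.map _) (P.2.to_le hT) hSN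
  obtain ⟨R, hR⟩ := hSTp.exists_le_sylow
  obtain ⟨y, hy⟩ := MulAction.exists_smul_eq G R P
  have hyP : ∀ x ∈ SG ⊔ T, y * x * y⁻¹ ∈ (P : Subgroup G) := fun x hx => by
    rw [← hy, Sylow.coe_subgroup_smul]
    exact ⟨x, hR hx, rfl⟩
  set T₁ := T.map (MulAut.conj y).toMonoidHom with hT₁
  have hQT₁ : Q ≤ T₁ := fun q hq => ⟨y⁻¹ * q * y, hQT (by
    simpa using (inferInstance : Q.Normal).conj_mem q hq y⁻¹), by simp [mul_assoc]⟩
  have hT₁P : T₁ ≤ (P : Subgroup G) := by
    rintro _ ⟨t, ht, rfl⟩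
    exact hyP t (Subgroup.mem_sup_right ht)
  set Δ₁ := (Subgroup.centralizer ((T₁.map f : Subgroup (G ⧸ Q)) : Set (G ⧸ Q))).comap f with hΔ₁
  have hΔmap : Δ.map (MulAut.conj y).toMonoidHom = Δ₁ := by
    ext d
    rw [Subgroup.mem_map_equiv]
    simp only [hΔ, hΔ₁, Subgroup.mem_comap, Subgroup.mem_centralizer_iff, MulAut.conj_symm_apply]
    have e : f (y⁻¹ * d * y) = (f y)⁻¹ * f d * f y := by rw [map_mul, map_mul, map_inv]
    constructor
    · rintro h _ ⟨_, ⟨t, ht, rfl⟩, rfl⟩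
      have h1 := h (f t) ⟨t, ht, rfl⟩
      rw [e] at h1
      show f (y * t * y⁻¹) * f d = f d * f (y * t * y⁻¹)
      rw [map_mul, map_mul, map_inv]
      calc f y * f t * (f y)⁻¹ * f d = f y * (f t * ((f y)⁻¹ * f d * f y)) * (f y)⁻¹ := by group
        _ = f y * (((f y)⁻¹ * f d * f y) * f t) * (f y)⁻¹ := by rw [h1]
        _ = _ := by group
    · rintro h _ ⟨t, ht, rfl⟩
      have h1 := h (f (y * t * y⁻¹)) ⟨_, ⟨t, ht, rfl⟩, rfl⟩
      rw [map_mul, map_mul, map_inv] at h1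
      rw [e]
      calc f t * ((f y)⁻¹ * f d * f y) = (f y)⁻¹ * ((f y * f t * (f y)⁻¹) * f d) * f y := by group
        _ = (f y)⁻¹ * (f d * (f y * f t * (f y)⁻¹)) * f y := by rw [h1]
        _ = _ := by group
  have hle : SG.map (MulAut.conj y).toMonoidHom ≤ Δ₁ :=
    hΔmap ▸ Subgroup.map_mono (Subgroup.map_subtype_le _)
  have hidx : ¬ p ∣ ((SG.map (MulAut.conj y).toMonoidHom).subgroupOf Δ₁).index := by
    show ¬ p ∣ (SG.map (MulAut.conj y).toMonoidHom).relIndex Δ₁
    rw [← hΔmap, Subgroup.relIndex_map_map_of_injective _ _ (MulAut.conj y).injective,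
      show SG.relIndex Δ = (SG.subgroupOf Δ).index from rfl, hSG, ← Subgroup.comap_subtype,
      Subgroup.comap_map_eq_self_of_injective Δ.subtype_injective]
    exact S.not_dvd_index
  let S₁ : Sylow p Δ₁ :=
    (((S.2.map _).map _).comap_of_injective Δ₁.subtype Δ₁.subtype_injective).toSylow hidx
  have hS₁P : (S₁ : Subgroup Δ₁).map Δ₁.subtype ≤ (P : Subgroup G) := by
    show ((SG.map (MulAut.conj y).toMonoidHom).subgroupOf Δ₁).map Δ₁.subtype ≤ _
    rw [Subgroup.map_subgroupOf_eq_of_le hle]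
    rintro _ ⟨x, hx, rfl⟩
    exact hyP x (Subgroup.mem_sup_left hx)
  obtain ⟨a, ha, hat⟩ := key T₁ hQT₁ hT₁P Δ₁ rfl S₁ hS₁P y⁻¹ (by
    rintro _ ⟨t, ht, rfl⟩
    simpa [mul_assoc] using hT ht)
  obtain ⟨b, hb, hbt⟩ := key T₁ hQT₁ hT₁P Δ₁ rfl S₁ hS₁P (g * y⁻¹) (by
    rintro _ ⟨t, ht, rfl⟩
    simpa [mul_assoc] using hgT t ht)
  have hH' : ∀ t ∈ T, b * a⁻¹ * t * (b * a⁻¹)⁻¹ = g * t * g⁻¹ := by
    intro t ht
    have h1 := hat _ ⟨t, ht, rfl⟩
    have h2 := hbt _ ⟨t, ht, rfl⟩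
    simp only [MulEquiv.coe_toMonoidHom, MulAut.conj_apply] at h1 h2
    have h3 : a * (y * t * y⁻¹) * a⁻¹ = t := by rw [h1]; group
    calc b * a⁻¹ * t * (b * a⁻¹)⁻¹ = b * (a⁻¹ * (a * (y * t * y⁻¹) * a⁻¹) * a) * b⁻¹ := by
          rw [h3]; group
      _ = b * (y * t * y⁻¹) * b⁻¹ := by group
      _ = g * t * g⁻¹ := by rw [h2]; group
  obtain ⟨n, hn, hnt⟩ := ctrl_of_subgroup hV P hD hfull hPH (hsub H hHne) hT
    (mul_mem hb (inv_mem ha)) (fun t ht => by rw [hH' t ht]; exact hgT t ht)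
  exact ⟨n, hn, fun t ht => (hnt t ht).trans (hH' t ht)⟩

theorem isConjugacyFunctor_of_localData (hV : LocalData p G₀ V full) (G : Type u) [Group G]
    [Finite G] : Cfsg.IsConjugacyFunctor p (V G) :=
  fun D hD => ⟨hV.le hD, hV.ne_bot hD,
    fun g => (hV.map (MulAut.conj g).toMonoidHom hD
      (Set.injOn_of_injective (MulAut.conj g).injective)).symm⟩

/-- Normality in constrained sections gives control of strong fusion. -/
theorem goal_of_localData (hV : LocalData p G₀ V full) (G : Type u) [Group G] [Finite G]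
    (hsec : IsSec G G₀) : Goal p V full G := by
  obtain ⟨n, hn⟩ : ∃ n, Nat.card G = n := ⟨_, rfl⟩
  induction n using Nat.strong_induction_on generalizing G with
  | h n ih =>
  have hsub : ∀ H : Subgroup G, H ≠ ⊤ → Goal p V full H := fun H hH =>
    ih _ (hn ▸ lt_of_le_of_ne (Subgroup.card_le_card_group H)
      (fun e => hH ((Subgroup.card_eq_iff_eq_top H).1 e))) H (hsec.subgroup H) rfl
  have hquot : ∀ (N : Subgroup G) [N.Normal], N ≠ ⊥ → Goal p V full (G ⧸ N) := by
    intro N _ hN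
    refine ih _ ?_ (G ⧸ N) (hsec.quotient (QuotientGroup.mk' N) (QuotientGroup.mk'_surjective N)) rfl
    rw [← hn, Subgroup.card_eq_card_quotient_mul_card_subgroup N]
    haveI : Nontrivial N := (Subgroup.nontrivial_iff_ne_bot N).2 hN
    exact lt_mul_of_one_lt_right Nat.card_pos Finite.one_lt_card
  intro P D hD hfull
  haveI hOn := CfsgLib.Core.normal_pPrimeCore (G := G) p
  by_cases hO : Cfsg.pPrimeCore p G ≠ ⊥
  · exact ctrl_of_pPrimeCore hV P hD hfull (CfsgLib.Core.coprime_card_pPrimeCore p) (hquot _ hO)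
  push Not at hO
  haveI hQn := CfsgLib.Core.normal_pCore (G := G) p
  intro T hT g hgT
  by_cases hQ1 : Cfsg.pCore p G = ⊥
  · -- no normal `p`-subgroup
    by_cases hP1 : (P : Subgroup G) = ⊥
    · refine ⟨1, one_mem _, fun t ht => ?_⟩
      have : t = 1 := Subgroup.mem_bot.1 (hP1 ▸ hT ht)
      simp [this]
    have hloc : ∀ U : Subgroup G, U ≠ ⊥ → Cfsg.IsWellPlaced p (V G) (P : Subgroup G) U →
        Cfsg.ControlsStrongFusionIn p (V G) (Subgroup.normalizer ((U : Subgroup G) : Set G)) := by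
      intro U hU hwp
      set N := Subgroup.normalizer ((U : Subgroup G) : Set G) with hN
      have hUp : IsPGroup p U := P.2.to_le hwp.1
      have hNne : N ≠ ⊤ := fun e => hU (le_bot_iff.1 (hQ1 ▸
        CfsgLib.Core.le_pCore (Subgroup.normalizer_eq_top_iff.1 e) hUp))
      obtain ⟨T₀⟩ := (inferInstance : Nonempty (Sylow p N))
      refine ⟨(T₀ : Subgroup N).map N.subtype, Subgroup.map_subtype_le _, T₀.2.map _, ?_, ?_⟩
      · rw [Subgroup.relIndex, ← Subgroup.comap_subtype,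
          Subgroup.comap_map_eq_self_of_injective N.subtype_injective]
        exact T₀.not_dvd_index
      · intro A h hh hA hhA
        obtain ⟨x, hx, hxe⟩ := hsub N hNne T₀ (T₀ : Subgroup N) (sclosed_self _) (fun _ => rfl)
          (Subgroup.closure ((↑) ⁻¹' A : Set N)) ((Subgroup.closure_le _).2 fun a ha => by
            obtain ⟨b, hb, e⟩ := hA ha
            have e' : b = a := N.subtype_injective e
            subst e'
            exact hb) ⟨h, hh⟩ (fun t ht => by
            have hle : Subgroup.closure ((↑) ⁻¹' A : Set N) ≤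
                (T₀ : Subgroup N).comap (MulAut.conj (⟨h, hh⟩ : N)).toMonoidHom := by
              rw [Subgroup.closure_le]
              intro a ha
              obtain ⟨b, hb, e⟩ := hhA ⟨(a : G), ha, rfl⟩
              have e' : b = MulAut.conj (⟨h, hh⟩ : N) a := Subtype.ext e
              subst e'
              exact hb
            exact hle ht)
        refine ⟨(x : G), ⟨x.2, ?_⟩, fun a ha => ?_⟩
        · have h1 := Subgroup.le_normalizer_map N.subtype ⟨x, hx, rfl⟩
          rw [hV.map N.subtype T₀.2 (Set.injOn_of_injective N.subtype_injective)] at h1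
          exact h1
        · obtain ⟨b, hb, e⟩ := hA ha
          have hb' : b ∈ ((↑) ⁻¹' A : Set N) := by
            show (b : G) ∈ A
            rw [show (b : G) = a from e]
            exact ha
          have h2 := congrArg Subtype.val (hxe b (Subgroup.subset_closure hb'))
          rw [← e]
          exact h2
    obtain ⟨m, hm, c, hc, hmc⟩ := ((Cfsg.Agent.S1967.result P (V G)
      (isConjugacyFunctor_of_localData hV G)).1
      (Cfsg.Agent.S1961.result P (V G) (isConjugacyFunctor_of_localData hV G) hloc)) T g hT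
      (by rintro _ ⟨t, ht, rfl⟩; exact hgT t ht)
    have hmt : ∀ t ∈ T, m * t * m⁻¹ = g * t * g⁻¹ := fun t ht => by
      have h1 := Subgroup.mem_centralizer_iff.1 hc t ht
      rw [hmc]
      calc m * t * m⁻¹ = m * (t * c) * c⁻¹ * m⁻¹ := by group
        _ = m * (c * t) * c⁻¹ * m⁻¹ := by rw [h1]
        _ = _ := by group
    set M := Subgroup.normalizer (V G (P : Subgroup G) : Set G) with hM
    have hMne : M ≠ ⊤ := fun e => hV.ne_bot P.2 hP1 (le_bot_iff.1 (hQ1 ▸
      CfsgLib.Core.le_pCore (Subgroup.normalizer_eq_top_iff.1 e) (P.2.to_le (hV.le P.2))))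
    obtain ⟨n', hn', hnt⟩ := ctrl_of_subgroup hV P hD hfull
      (Subgroup.le_normalizer.trans (hV.normalizer_le P.2)) (hsub M hMne) hT hm
      (fun t ht => by rw [hmt t ht]; exact hgT t ht)
    exact ⟨n', hn', fun t ht => (hnt t ht).trans (hmt t ht)⟩
  set Q := Cfsg.pCore p G with hQ
  by_cases hc : Subgroup.centralizer (Q : Set G) ≤ Q
  · refine ⟨g, ?_, fun t _ => rfl⟩
    haveI := hV.normal hsec hc P D hD hfull
    rw [Subgroup.normalizer_eq_top]
    exact Subgroup.mem_top g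
  -- enlarge `T` by `Q`
  have hQP : Q ≤ (P : Subgroup G) := CfsgLib.Core.pCore_le_sylow P
  suffices h : ∀ T : Subgroup G, Q ≤ T → T ≤ (P : Subgroup G) → ∀ g : G,
      (∀ t ∈ T, g * t * g⁻¹ ∈ (P : Subgroup G)) →
      ∃ n ∈ Subgroup.normalizer (V G D : Set G), ∀ t ∈ T, n * t * n⁻¹ = g * t * g⁻¹ by
    obtain ⟨n', hn', hnt⟩ := h (T ⊔ Q) le_sup_right (sup_le hT hQP) g (fun t ht => by
      have hle : T ⊔ Q ≤ (P : Subgroup G).comap (MulAut.conj g).toMonoidHom :=
        sup_le (fun t ht => hgT t ht) (fun q hq => hQP (hQn.conj_mem q hq g))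
      exact hle ht)
    exact ⟨n', hn', fun t ht => hnt t (Subgroup.mem_sup_left ht)⟩
  clear hgT hT g T
  intro T hQT hT g hgT
  set C := Q ⊔ Subgroup.centralizer (Q : Set G) with hC
  haveI : C.Normal := inferInstance
  set R := (P : Subgroup G) ⊓ C with hR
  have hRQ : ¬ R ≤ Q := fun h => hc (centralizer_le_of_normal_sylow P hO hQ h)
  have hPQ : ¬ (P : Subgroup G) ≤ Q := fun h => hRQ (inf_le_left.trans h)
  have hRp : IsPGroup p R := P.2.to_le inf_le_left
  set L := Subgroup.normalizer (R : Set G) with hL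
  have hPL : (P : Subgroup G) ≤ L := fun x hx => mem_normalizer_of_map_eq fun r hr =>
    Subgroup.mem_inf.2
      ⟨mul_mem (mul_mem hx hr.1) (inv_mem hx), (inferInstance : C.Normal).conj_mem r hr.2 x⟩
  have hLne : L ≠ ⊤ := fun e => hRQ (CfsgLib.Core.le_pCore (Subgroup.normalizer_eq_top_iff.1 e) hRp)
  have hidxC : ¬ p ∣ R.relIndex C := not_dvd_relIndex P C
  -- decomposition of `g`
  have hfrat : L ⊔ C = ⊤ := by
    have hidx : ¬ p ∣ (R.subgroupOf C).index := hidxC
    let RS : Sylow p C := (hRp.comap_of_injective C.subtype C.subtype_injective).toSylow hidx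
    have h1 := Sylow.normalizer_sup_eq_top RS
    have h2 : (RS : Subgroup C).map C.subtype = R := Subgroup.map_subgroupOf_eq_of_le inf_le_right
    rwa [h2] at h1
  obtain ⟨m, hm, c, hcC, rfl⟩ : ∃ m ∈ L, ∃ c ∈ C, g = m * c := by
    have h1 : g ∈ ((L ⊔ C : Subgroup G) : Set G) := by rw [hfrat]; trivial
    rw [Subgroup.mul_normal] at h1
    obtain ⟨m, hm, c, hc', e⟩ := h1
    exact ⟨m, hm, c, hc', e.symm⟩
  -- move `c T c⁻¹` into `P` inside `L ∩ T C`
  set X := T ⊔ R with hX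
  have hXP : X ≤ (P : Subgroup G) := sup_le hT inf_le_left
  set M := (T ⊔ C) ⊓ L with hM
  have hXM : X ≤ M := le_inf (sup_le_sup_left inf_le_right _) (hXP.trans hPL)
  have hXidx : ¬ p ∣ X.relIndex M := by
    intro hdvd
    refine hidxC ?_
    have h1 : p ∣ X.relIndex (T ⊔ C) :=
      hdvd.trans (Dvd.intro _ (Subgroup.relIndex_mul_relIndex X M (T ⊔ C) hXM inf_le_left))
    have hXC : X ⊔ C = T ⊔ C := by
      rw [hX, sup_assoc, sup_eq_right.2 (inf_le_right : R ≤ C)]
    have hXi : X ⊓ C = R := le_antisymm (le_inf (inf_le_left.trans hXP) inf_le_right)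
      (le_inf le_sup_right inf_le_right)
    have h2 := CfsgLib.Core.card_sup_mul_card_inf (A := X) (K := C)
      (by rw [Subgroup.normalizer_eq_top]; exact le_top)
    rw [hXC, hXi] at h2
    have h3 := CfsgLib.Core.card_mul_relIndex (hXM.trans inf_le_left : X ≤ T ⊔ C)
    have h4 := CfsgLib.Core.card_mul_relIndex (inf_le_right : R ≤ C)
    rw [← h3, ← h4] at h2
    have h5 : X.relIndex (T ⊔ C) = R.relIndex C := by
      refine Nat.eq_of_mul_eq_mul_left (Nat.mul_pos (Nat.card_pos (α := X)) (Nat.card_pos (α := R))) ?_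
      linarith
    rwa [h5] at h1
  have hT1 : ∀ t ∈ T, c * t * c⁻¹ ∈ M := by
    intro t ht
    refine Subgroup.mem_inf.2 ⟨?_, ?_⟩
    · exact mul_mem (mul_mem (Subgroup.mem_sup_right hcC) (Subgroup.mem_sup_left ht))
        (inv_mem (Subgroup.mem_sup_right hcC))
    · have h1 := mul_mem (mul_mem (inv_mem hm) (hPL (hgT t ht))) hm
      simpa [mul_assoc] using h1
  obtain ⟨RX, hRX⟩ := (((P.2.to_le hT).map (MulAut.conj c).toMonoidHom).comap_of_injective M.subtype
    M.subtype_injective).exists_le_sylow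
  let XS : Sylow p M := ((P.2.to_le hXP).comap_of_injective M.subtype M.subtype_injective).toSylow hXidx
  obtain ⟨d, hd⟩ := MulAction.exists_smul_eq M RX XS
  have hdX : ∀ t ∈ T, (d : G) * (c * t * c⁻¹) * (d : G)⁻¹ ∈ X := by
    intro t ht
    have h1 : d * ⟨_, hT1 t ht⟩ * d⁻¹ ∈ (XS : Subgroup M) := by
      rw [← hd, Sylow.coe_subgroup_smul]
      exact ⟨⟨_, hT1 t ht⟩, hRX ⟨t, ht, rfl⟩, rfl⟩
    exact h1
  obtain ⟨t₀, ht₀, c', hc', hde⟩ : ∃ t₀ ∈ T, ∃ c' ∈ C, (d : G) = t₀ * c' := by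
    have h1 : (d : G) ∈ ((T ⊔ C : Subgroup G) : Set G) := d.2.1
    rw [Subgroup.mul_normal] at h1
    obtain ⟨t₀, h₀, c', hc', e⟩ := h1
    exact ⟨t₀, h₀, c', hc', e.symm⟩
  have hc'L : c' ∈ L := by
    have h1 := mul_mem (inv_mem (hPL (hT ht₀))) d.2.2
    rwa [hde, inv_mul_cancel_left] at h1
  have hcX : ∀ t ∈ T, (c' * c) * t * (c' * c)⁻¹ ∈ X := by
    intro t ht
    have h1 := mul_mem (mul_mem (inv_mem (Subgroup.mem_sup_left (T := R) ht₀)) (hdX t ht))
      (Subgroup.mem_sup_left (T := R) ht₀)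
    rw [hde] at h1
    simpa [mul_assoc] using h1
  -- the part inside `C`
  obtain ⟨n₂, hn₂, hnt₂⟩ : ∃ n ∈ Subgroup.normalizer (V G D : Set G),
      ∀ t ∈ T, n * t * n⁻¹ = (c' * c) * t * (c' * c)⁻¹ := by
    by_cases htop : (P : Subgroup G) ⊔ C = ⊤
    · refine ctrl_of_cover hV P hD hfull hQ hPQ ?_ (hquot Q hQ1) hsub hQT hT
        (fun t ht => hXP (hcX t ht))
      rw [← htop, hC, ← sup_assoc, sup_eq_left.2 hQP]
    · exact ctrl_of_subgroup hV P hD hfull le_sup_left (hsub _ htop) hT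
        (Subgroup.mem_sup_right (mul_mem hc' hcC)) (fun t ht => hXP (hcX t ht))
  -- the part inside `L`
  obtain ⟨n₁, hn₁, hnt₁⟩ := ctrl_of_subgroup hV P hD hfull hPL (hsub L hLne)
    (T := T.map (MulAut.conj (c' * c)).toMonoidHom)
    (by rintro _ ⟨t, ht, rfl⟩; exact hXP (hcX t ht))
    (mul_mem hm (inv_mem hc'L)) (by
      rintro _ ⟨t, ht, rfl⟩
      simpa [mul_assoc] using hgT t ht)
  refine ⟨n₁ * n₂, mul_mem hn₁ hn₂, fun t ht => ?_⟩
  have h1 := hnt₁ _ ⟨t, ht, rfl⟩
  simp only [MulEquiv.coe_toMonoidHom, MulAut.conj_apply] at h1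
  calc n₁ * n₂ * t * (n₁ * n₂)⁻¹ = n₁ * (n₂ * t * n₂⁻¹) * n₁⁻¹ := by group
    _ = n₁ * (c' * c * t * (c' * c)⁻¹) * n₁⁻¹ := by rw [hnt₂ t ht]
    _ = _ := by rw [h1]; group

end CfsgLib.Stable
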