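import Cfsg.Agent.Lib.TransferExtraspecialIso

/-!
# Counting involutions in extraspecial 2-groups
-/

set_option autoImplicit false

universe u v

namespace CfsgLib.ExtraspecialCount

open scoped commutatorElement
open Subgroup

open CfsgLib.Extraspecial

/-- The number of elements squaring to one. -/
noncomputable def sqOne (P : Type u) [Group P] : ℕ := Nat.card {x : P // x ^ 2 = 1}

theorem sqOne_zero {P : Type u} [Group P] [Finite P] {z : P} (h : Ex 2 z 0) : sqOne P = 2 := by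
  have hall : ∀ x : P, x ^ 2 = 1 := fun x => by
    have := pow_card_eq_one' (x := x)
    rwa [h.card, show (2 : ℕ) ^ (2 * 0 + 1) = 2 from rfl] at this
  rw [sqOne, Nat.card_congr (Equiv.subtypeUnivEquiv hall), h.card]
  rfl

theorem sqOne_step {P : Type u} [Group P] [Finite P] {z : P} {n : ℕ} (h : Ex 2 z (n + 1))
    {a b : P} (hab : ⁅a, b⁆ = z) (ha2 : a ^ 2 = 1) (hb2 : b ^ 2 = 1) {C : Subgroup P}
    (hCc : ∀ c ∈ C, Commute c a ∧ Commute c b) {hz : z ∈ C} (hC : Ex 2 (⟨z, hz⟩ : C) n)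
    (hdec : ∀ g : P, ∃ i j : ℕ, ∃ c ∈ C, g = a ^ i * b ^ j * c) :
    sqOne P = 2 * sqOne C + 2 ^ (2 * n + 1) := by
  classical
  haveI : Fact (Nat.Prime 2) := ⟨Nat.prime_two⟩
  let f : Fin 2 × Fin 2 × C → P := fun q => a ^ (q.1 : ℕ) * b ^ (q.2.1 : ℕ) * (q.2.2 : P)
  have hf : Function.Bijective f := by
    rw [Nat.bijective_iff_surjective_and_card]
    refine ⟨fun g => ?_, ?_⟩
    · obtain ⟨i, j, c, hc, rfl⟩ := hdec g
      refine ⟨(⟨i % 2, Nat.mod_lt _ two_pos⟩, ⟨j % 2, Nat.mod_lt _ two_pos⟩, ⟨c, hc⟩), ?_⟩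
      show a ^ (i % 2) * b ^ (j % 2) * c = _
      rw [← pow_eq_pow_mod _ ha2, ← pow_eq_pow_mod _ hb2]
    · rw [Nat.card_prod, Nat.card_prod, Nat.card_fin, hC.card, h.card]
      ring
  have hzz : z * z = 1 := by rw [← sq, h.zp]
  have hsq : ∀ (x : P) (c : C), Commute x (c : P) → (x * c) ^ 2 = x ^ 2 * ((c : P)) ^ 2 := fun x c hc => hc.mul_pow 2
  have hab2 : (a * b) ^ 2 = z := by
    have e : a * b = z * (b * a) := by rw [← hab, commutatorElement_def]; group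
    calc (a * b) ^ 2 = a * b * (a * b) := sq _
      _ = z * (b * a) * (a * b) := by rw [← e]
      _ = z * (b * (a * a) * b) := by group
      _ = z := by rw [← sq, ha2, mul_one, ← sq, hb2, mul_one]
  have hne : ∀ c : C, (z * (c : P) ^ 2 = 1) ↔ ¬ (c ^ 2 = 1) := by
    intro c
    rcases hC.sq_cases c with hc | hc
    · simp only [hc, not_true, iff_false]
      rw [show (c : P) ^ 2 = 1 from congrArg Subtype.val hc, mul_one]
      exact h.zne
    · have hc' : (c : P) ^ 2 = z := congrArg Subtype.val hc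
      rw [hc', hzz]
      exact iff_of_true rfl fun e => hC.zne (hc.symm.trans e)
  have hone : ∀ c : C, ((c : P) ^ 2 = 1) ↔ c ^ 2 = 1 := fun c =>
    ⟨fun e => Subtype.ext e, fun e => congrArg Subtype.val e⟩
  haveI := Fintype.ofFinite C
  rw [sqOne, ← Nat.card_congr (Equiv.subtypeEquiv (Equiv.ofBijective f hf)
    (fun q => Iff.rfl) : {q // (f q) ^ 2 = 1} ≃ {x : P // x ^ 2 = 1})]
  rw [Nat.card_eq_fintype_card, Fintype.card_subtype, Finset.card_filter, Fintype.sum_prod_type,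
    Fin.sum_univ_two, Fintype.sum_prod_type, Fintype.sum_prod_type, Fin.sum_univ_two, Fin.sum_univ_two]
  have e00 : ∀ c : C, (f (0, 0, c) ^ 2 = 1) ↔ c ^ 2 = 1 := fun c => by
    simp [f, ← hone c]
  have e01 : ∀ c : C, (f (0, 1, c) ^ 2 = 1) ↔ c ^ 2 = 1 := fun c => by
    simp [f, hsq b c (hCc c c.2).2.symm, hb2, ← hone c]
  have e10 : ∀ c : C, (f (1, 0, c) ^ 2 = 1) ↔ c ^ 2 = 1 := fun c => by
    simp [f, hsq a c (hCc c c.2).1.symm, ha2, ← hone c]
  have e11 : ∀ c : C, (f (1, 1, c) ^ 2 = 1) ↔ ¬ c ^ 2 = 1 := fun c => by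
    simp [f, hsq (a * b) c ((hCc c c.2).1.mul_right (hCc c c.2).2).symm, hab2, hne c]
  simp only [e00, e01, e10, e11]
  rw [← Finset.card_filter, ← Finset.card_filter, ← hC.card, Nat.card_eq_fintype_card (α := C),
    sqOne, Nat.card_eq_fintype_card, Fintype.card_subtype, ← Finset.card_univ,
    ← Finset.card_filter_add_card_filter_not (s := (Finset.univ : Finset C)) (p := fun c => c ^ 2 = 1)]
  ring

theorem sqOne_quaternion {P : Type u} [Group P] [Finite P] {z : P} (h : Ex 2 z 1)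
    (hno : ¬ ∃ a, a ∉ zpowers z ∧ a ^ 2 = 1) : sqOne P = 2 := by
  haveI : Fact (Nat.Prime 2) := ⟨Nat.prime_two⟩
  have hset : ∀ x : P, x ^ 2 = 1 ↔ x ∈ zpowers z := fun x =>
    ⟨fun hx => by_contra fun hn => hno ⟨x, hn, hx⟩, fun hx => by
      obtain ⟨i, rfl⟩ := mem_zpowers_iff.mp hx
      rw [← zpow_natCast, ← zpow_mul, mul_comm, zpow_mul, zpow_natCast, h.zp, one_zpow]⟩
  rw [sqOne, Nat.card_congr (Equiv.subtypeEquivRight hset)]
  exact (Nat.card_zpowers z).trans (orderOf_eq_prime h.zp h.zne)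

theorem sqOne_dihedral {P : Type u} [Group P] [Finite P] {z : P} (h : Ex 2 z 1)
    (hinv : ∃ a, a ∉ zpowers z ∧ a ^ 2 = 1) : sqOne P = 6 := by
  haveI : Fact (Nat.Prime 2) := ⟨Nat.prime_two⟩
  obtain ⟨a, ha, ha2⟩ := hinv
  obtain ⟨b, hab, hb2⟩ := h.dihedral_pair ha ha2
  obtain ⟨C, hCc, ⟨hz, hC⟩, hdec, -⟩ := two_split (n := 0) h hab
  rw [sqOne_step h hab ha2 hb2 hCc hC hdec, sqOne_zero hC]
  rfl

theorem sqOne_values : ∀ (n : ℕ) {P : Type u} [Group P] [Finite P] {z : P}, Ex 2 z (n + 1) →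
    sqOne P = 2 ^ (2 * (n + 1)) + 2 ^ (n + 1) ∨ sqOne P = 2 ^ (2 * (n + 1)) - 2 ^ (n + 1) := by
  haveI : Fact (Nat.Prime 2) := ⟨Nat.prime_two⟩
  intro n
  induction n with
  | zero =>
    intro P _ _ z h
    by_cases hinv : ∃ a, a ∉ zpowers z ∧ a ^ 2 = 1
    · exact Or.inl (sqOne_dihedral h hinv)
    · exact Or.inr (sqOne_quaternion h hinv)
  | succ n ih =>
    intro P _ _ z h
    obtain ⟨a, ha, ha2⟩ := h.exists_involution (by omega)
    obtain ⟨b, hab, hb2⟩ := h.dihedral_pair ha ha2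
    obtain ⟨C, hCc, ⟨hz, hC⟩, hdec, -⟩ := two_split h hab
    have hs := sqOne_step h hab ha2 hb2 hCc hC hdec
    have h1 : 2 ^ (2 * (n + 1 + 1)) = 4 * 2 ^ (2 * (n + 1)) := by
      rw [show 2 * (n + 1 + 1) = 2 * (n + 1) + 2 by ring, pow_add]; ring
    have h2 : 2 ^ (2 * (n + 1) + 1) = 2 * 2 ^ (2 * (n + 1)) := by rw [pow_succ]; ring
    have h3 : 2 ^ (n + 1 + 1) = 2 * 2 ^ (n + 1) := by rw [pow_succ]; ring
    have h4 : 2 ^ (n + 1) ≤ 2 ^ (2 * (n + 1)) := Nat.pow_le_pow_right two_pos (by omega)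
    rcases ih hC with e | e
    · left; rw [hs, e, h1, h2, h3]; omega
    · right; rw [hs, e, h1, h2, h3]; omega

theorem iso_of_sqOne : ∀ (n : ℕ) {P : Type u} [Group P] [Finite P] {z : P}
    {P' : Type v} [Group P'] [Finite P'] {z' : P'}, Ex 2 z n → Ex 2 z' n → sqOne P = sqOne P' →
    ∃ φ : P ≃* P', φ z = z' := by
  haveI : Fact (Nat.Prime 2) := ⟨Nat.prime_two⟩
  intro n
  induction n with
  | zero => intro P _ _ z P' _ _ z' h h' _; exact h.zero_iso h'
  | succ n ih =>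
    intro P _ _ z P' _ _ z' h h' hs
    rcases Nat.eq_zero_or_pos n with rfl | hn
    · refine two_iso_one h h' ⟨fun hi => ?_, fun hi => ?_⟩
      · by_contra hc
        rw [sqOne_dihedral h hi, sqOne_quaternion h' hc] at hs
        omega
      · by_contra hc
        rw [sqOne_dihedral h' hi, sqOne_quaternion h hc] at hs
        omega
    obtain ⟨a, ha, ha2⟩ := h.exists_involution (by omega)
    obtain ⟨b, hab, hb2⟩ := h.dihedral_pair ha ha2
    obtain ⟨a', ha', ha2'⟩ := h'.exists_involution (by omega)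
    obtain ⟨b', hab', hb2'⟩ := h'.dihedral_pair ha' ha2'
    obtain ⟨C, hCc, ⟨hz, hC⟩, hdec, hu⟩ := two_split h hab
    obtain ⟨C', hCc', ⟨hz', hC'⟩, hdec', hu'⟩ := two_split h' hab'
    rw [sqOne_step h hab ha2 hb2 hCc hC hdec, sqOne_step h' hab' ha2' hb2' hCc' hC' hdec'] at hs
    obtain ⟨σ, hσ⟩ := ih hC hC' (by omega)
    exact glue h h' hab hab' C C' hCc hCc' hdec hdec' hu hu' hz hz' σ
        (congrArg Subtype.val hσ) ⟨0, by rw [ha2, pow_zero], by rw [ha2', pow_zero]⟩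
        ⟨0, by rw [hb2, pow_zero], by rw [hb2', pow_zero]⟩

end CfsgLib.ExtraspecialCount
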