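import Cfsg.Agent.Lib.CoreBasic
import Cfsg.Agent.Lib.CorePGroup
import Cfsg.Agent.Lib.CoreOmega
import Cfsg.Prelude.Def_Transfer

/-!
# Isomorphism types of extraspecial groups
-/

set_option autoImplicit false

universe u v w

namespace CfsgLib.Extraspecial

open Subgroup
open scoped commutatorElement

set_option linter.unusedSectionVars false

/-- The working form of an extraspecial group with distinguished central element. -/
structure Ex (p : ℕ) {P : Type u} [Group P] (z : P) (n : ℕ) : Prop where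
  card : Nat.card P = p ^ (2 * n + 1)
  zp : z ^ p = 1
  zne : z ≠ 1
  center_eq : center P = zpowers z
  comm : ∀ a b : P, ⁅a, b⁆ ∈ zpowers z

variable {p : ℕ} [hp : Fact p.Prime]

section one

variable {P : Type u} [Group P] [Finite P] {z : P} {n : ℕ} (h : Ex p z n)
include h

theorem Ex.central (g : P) : Commute z g :=
  (Subgroup.mem_center_iff.mp (h.center_eq.ge (mem_zpowers z)) g).symm

theorem Ex.comm_center (a b : P) : ∀ g, Commute ⁅a, b⁆ g := fun g =>
  (Subgroup.mem_center_iff.mp (h.center_eq.ge (h.comm a b)) g).symm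

theorem Ex.commutator_mul_left (a b c : P) : ⁅a * b, c⁆ = ⁅a, c⁆ * ⁅b, c⁆ := by
  have e : ⁅a * b, c⁆ = a * ⁅b, c⁆ * a⁻¹ * ⁅a, c⁆ := by simp [commutatorElement_def]; group
  rw [e, ← (h.comm_center b c a).eq, mul_inv_cancel_right, (h.comm_center b c _).eq]

theorem Ex.commutator_pow_left (a b : P) (k : ℕ) : ⁅a ^ k, b⁆ = ⁅a, b⁆ ^ k := by
  induction k with
  | zero => simp
  | succ k ih => rw [pow_succ, h.commutator_mul_left, ih, pow_succ]

theorem Ex.comm_pow_p (a b : P) : ⁅a, b⁆ ^ p = 1 := by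
  obtain ⟨i, hi⟩ := mem_zpowers_iff.mp (h.comm a b)
  rw [← hi, ← zpow_natCast, ← zpow_mul, mul_comm, zpow_mul, zpow_natCast, h.zp, one_zpow]

theorem Ex.pow_mem (x : P) : x ^ p ∈ zpowers z := by
  rw [← h.center_eq, Subgroup.mem_center_iff]
  intro g
  have := h.commutator_pow_left x g p
  rw [h.comm_pow_p, commutatorElement_eq_one_iff_mul_comm] at this
  exact this.symm

theorem Ex.exists_partner {a : P} (ha : a ∉ zpowers z) : ∃ b, ⁅a, b⁆ = z := by
  obtain ⟨b, hb⟩ : ∃ b : P, ⁅a, b⁆ ≠ (1 : P) := by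
    by_contra hcon
    push Not at hcon
    exact ha (h.center_eq.le (Subgroup.mem_center_iff.mpr fun g =>
      (commutatorElement_eq_one_iff_mul_comm.mp (hcon g)).symm))
  have hcard : Nat.card (zpowers z) = p := by
    rw [Nat.card_zpowers, orderOf_eq_prime h.zp h.zne]
  have hgen : zpowers ⁅a, b⁆ = zpowers z := by
    refine CfsgLib.Core.eq_of_le_of_card_le (zpowers_le.mpr (h.comm a b)) ?_
    rw [hcard, Nat.card_zpowers, orderOf_eq_prime (h.comm_pow_p a b) hb]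
  have hz : z ∈ zpowers ⁅a, b⁆ := hgen.ge (mem_zpowers z)
  rw [← mem_powers_iff_mem_zpowers] at hz
  obtain ⟨k, hk⟩ := hz
  refine ⟨b ^ k, ?_⟩
  have hinv : ∀ x y : P, ⁅x, y⁆ = ⁅y, x⁆⁻¹ := fun x y => (commutatorElement_inv y x).symm
  rw [hinv, h.commutator_pow_left, ← inv_pow, ← hinv]
  exact hk

theorem Ex.split {a b : P} (hab : ⁅a, b⁆ = z) :
    ∃ C : Subgroup P, (∀ c ∈ C, Commute c a ∧ Commute c b) ∧ (∃ hz : z ∈ C, 1 ≤ n ∧
      Ex p (⟨z, hz⟩ : C) (n - 1)) ∧
      (∀ g : P, ∃ i j : ℕ, ∃ c ∈ C, g = a ^ i * b ^ j * c) ∧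
      ∀ i j : ℕ, a ^ i * b ^ j ∈ C → p ∣ i ∧ p ∣ j := by
  set C : Subgroup P := centralizer {a, b} with hC
  have hCc : ∀ c ∈ C, Commute c a ∧ Commute c b := fun c hc =>
    ⟨(mem_centralizer_iff.mp hc a (by simp)).symm, (mem_centralizer_iff.mp hc b (by simp)).symm⟩
  have hba : ⁅b, a⁆ = z⁻¹ := by rw [← commutatorElement_inv a b, hab]
  have hord : orderOf z = p := orderOf_eq_prime h.zp h.zne
  have hzp : ∀ k : ℕ, z ^ k = 1 → p ∣ k := fun k hk => hord ▸ orderOf_dvd_of_pow_eq_one hk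
  have hai : ∀ i j : ℕ, ⁅a ^ i * b ^ j, b⁆ = z ^ i := fun i j => by
    rw [h.commutator_mul_left, h.commutator_pow_left, h.commutator_pow_left, hab,
      commutatorElement_self, one_pow, mul_one]
  have hbj : ∀ i j : ℕ, ⁅a ^ i * b ^ j, a⁆ = (z⁻¹) ^ j := fun i j => by
    rw [h.commutator_mul_left, h.commutator_pow_left, h.commutator_pow_left, hba,
      commutatorElement_self, one_pow, one_mul]
  have hmemC : ∀ g : P, ⁅g, a⁆ = 1 → ⁅g, b⁆ = 1 → g ∈ C := by
    intro g h1 h2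
    refine mem_centralizer_iff.mpr ?_
    rintro x (rfl | rfl)
    · exact (commutatorElement_eq_one_iff_mul_comm.mp h1).symm
    · exact (commutatorElement_eq_one_iff_mul_comm.mp h2).symm
  have hdec : ∀ g : P, ∃ i j : ℕ, ∃ c ∈ C, g = a ^ i * b ^ j * c := by
    intro g
    obtain ⟨i, hi⟩ := mem_powers_iff_mem_zpowers.mpr (h.comm g b)
    obtain ⟨j, hj⟩ := mem_powers_iff_mem_zpowers.mpr (h.comm a g)
    refine ⟨i, j, (a ^ i * b ^ j)⁻¹ * g, hmemC _ ?_ ?_, by group⟩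
    · have e := h.commutator_mul_left (a ^ i * b ^ j) ((a ^ i * b ^ j)⁻¹ * g) a
      rw [mul_inv_cancel_left, hbj, ← commutatorElement_inv a g, ← hj, ← inv_pow] at e
      exact mul_eq_left.mp e.symm
    · have e := h.commutator_mul_left (a ^ i * b ^ j) ((a ^ i * b ^ j)⁻¹ * g) b
      rw [mul_inv_cancel_left, hai, ← hi] at e
      exact mul_eq_left.mp e.symm
  have huniq : ∀ i j : ℕ, a ^ i * b ^ j ∈ C → p ∣ i ∧ p ∣ j := by
    intro i j hij
    refine ⟨hzp i ?_, hzp j (inv_eq_one.mp ?_)⟩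
    · rw [← hai i j, commutatorElement_eq_one_iff_mul_comm]
      exact (hCc _ hij).2.eq
    · rw [← inv_pow, ← hbj i j, commutatorElement_eq_one_iff_mul_comm]
      exact (hCc _ hij).1.eq
  have hzC : z ∈ C := mem_centralizer_iff.mpr fun x _ => (h.central x).symm.eq
  -- the map to commutators
  let f : (Fin p × Fin p) × C → P := fun t => a ^ (t.1.1 : ℕ) * b ^ (t.1.2 : ℕ) * t.2
  have hfb : Function.Bijective f := by
    constructor
    · rintro ⟨⟨i, j⟩, c⟩ ⟨⟨k, l⟩, d⟩ he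
      have he' : a ^ (i : ℕ) * b ^ (j : ℕ) * c = a ^ (k : ℕ) * b ^ (l : ℕ) * d := he
      have h1 := congrArg (fun g => ⁅g, b⁆) he'
      have h2 := congrArg (fun g => ⁅g, a⁆) he'
      beta_reduce at h1 h2
      rw [h.commutator_mul_left, h.commutator_mul_left _ (d : P), hai, hai,
        commutatorElement_eq_one_iff_mul_comm.mpr (hCc c c.2).2.eq,
        commutatorElement_eq_one_iff_mul_comm.mpr (hCc d d.2).2.eq, mul_one, mul_one,
        pow_eq_pow_iff_modEq, hord] at h1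
      rw [h.commutator_mul_left, h.commutator_mul_left _ (d : P), hbj, hbj,
        commutatorElement_eq_one_iff_mul_comm.mpr (hCc c c.2).1.eq,
        commutatorElement_eq_one_iff_mul_comm.mpr (hCc d d.2).1.eq, mul_one, mul_one,
        pow_eq_pow_iff_modEq, orderOf_inv, hord] at h2
      obtain rfl : i = k := Fin.ext (Nat.ModEq.eq_of_lt_of_lt h1 i.2 k.2)
      obtain rfl : j = l := Fin.ext (Nat.ModEq.eq_of_lt_of_lt h2 j.2 l.2)
      rw [mul_left_cancel_iff] at he'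
      exact Prod.ext rfl (Subtype.ext he')
    · intro g
      obtain ⟨i, j, c, hc, rfl⟩ := hdec g
      have hkey : ∀ (x : P), ∀ k : ℕ, ∃ e ∈ zpowers z, x ^ k = x ^ (k % p) * e := fun x k =>
        ⟨(x ^ p) ^ (k / p), Subgroup.pow_mem _ (h.pow_mem x) _,
          by rw [← pow_mul, ← pow_add, Nat.mod_add_div]⟩
      obtain ⟨e₁, he₁, hi⟩ := hkey a i
      obtain ⟨e₂, he₂, hj⟩ := hkey b j
      have hcent : ∀ e ∈ zpowers z, ∀ x, Commute e x := fun e he x =>
        (Subgroup.mem_center_iff.mp (h.center_eq.ge he) x).symm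
      refine ⟨((⟨i % p, Nat.mod_lt _ hp.out.pos⟩, ⟨j % p, Nat.mod_lt _ hp.out.pos⟩),
        ⟨e₁ * e₂ * c, mul_mem (mul_mem ?_ ?_) hc⟩), ?_⟩
      · exact mem_centralizer_iff.mpr fun x _ => ((hcent e₁ he₁) x).symm.eq
      · exact mem_centralizer_iff.mpr fun x _ => ((hcent e₂ he₂) x).symm.eq
      · show a ^ (i % p) * b ^ (j % p) * (e₁ * e₂ * c) = _
        rw [hi, hj]
        calc a ^ (i % p) * b ^ (j % p) * (e₁ * e₂ * c)
            = a ^ (i % p) * (b ^ (j % p) * e₁) * e₂ * c := by simp only [mul_assoc]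
          _ = _ := by rw [← (hcent e₁ he₁ _).eq]; simp only [mul_assoc]
  have hcard := Nat.card_eq_of_bijective f hfb
  rw [Nat.card_prod, Nat.card_prod, Nat.card_fin, h.card] at hcard
  have hn : 1 ≤ n := by
    by_contra h0
    rw [show n = 0 by omega] at hcard
    have h2 : p * p ≤ p ^ (2 * 0 + 1) := by
      rw [← hcard]; exact Nat.le_mul_of_pos_right _ Nat.card_pos
    rw [pow_one] at h2
    exact absurd (Nat.le_of_mul_le_mul_left (h2.trans (mul_one p).ge) hp.out.pos)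
      (by have := hp.out.one_lt; omega)
  refine ⟨C, hCc, ⟨hzC, hn, ?_, Subtype.ext h.zp, fun e => h.zne (congrArg Subtype.val e), ?_, ?_⟩,
    hdec, huniq⟩
  · refine Nat.eq_of_mul_eq_mul_left (Nat.mul_pos hp.out.pos hp.out.pos) ?_
    rw [hcard, ← sq, ← pow_add]
    congr 1
    omega
  · refine le_antisymm (fun c hc => ?_) (zpowers_le.mpr (Subgroup.mem_center_iff.mpr fun d =>
      Subtype.ext (h.central d).symm.eq))
    have hcZ : (c : P) ∈ zpowers z := by
      rw [← h.center_eq, Subgroup.mem_center_iff]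
      intro g
      obtain ⟨i, j, d, hd, rfl⟩ := hdec g
      have h3 : Commute (c : P) d :=
        (congrArg Subtype.val (Subgroup.mem_center_iff.mp hc ⟨d, hd⟩)).symm
      exact ((((hCc c c.2).1.pow_right i).mul_right ((hCc c c.2).2.pow_right j)).mul_right h3).eq.symm
    obtain ⟨k, hk⟩ := mem_zpowers_iff.mp hcZ
    exact mem_zpowers_iff.mpr ⟨k, Subtype.ext (by rw [SubgroupClass.coe_zpow]; exact hk)⟩
  · intro c d
    obtain ⟨k, hk⟩ := mem_zpowers_iff.mp (h.comm c d)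
    refine mem_zpowers_iff.mpr ⟨k, Subtype.ext ?_⟩
    rw [SubgroupClass.coe_zpow, hk]
    simp [commutatorElement_def]

end one

/-- Gluing isomorphisms along a splitting. -/
theorem glue {P : Type u} [Group P] [Finite P] {P' : Type v} [Group P'] [Finite P']
    {z : P} {z' : P'} {n n' : ℕ} (h : Ex p z n) (h' : Ex p z' n')
    {a b : P} {a' b' : P'} (hab : ⁅a, b⁆ = z) (hab' : ⁅a', b'⁆ = z')
    (C : Subgroup P) (C' : Subgroup P') (hCc : ∀ c ∈ C, Commute c a ∧ Commute c b)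
    (hCc' : ∀ c ∈ C', Commute c a' ∧ Commute c b')
    (hdec : ∀ g : P, ∃ i j : ℕ, ∃ c ∈ C, g = a ^ i * b ^ j * c)
    (hdec' : ∀ g : P', ∃ i j : ℕ, ∃ c ∈ C', g = a' ^ i * b' ^ j * c)
    (hu : ∀ i j : ℕ, a ^ i * b ^ j ∈ C → p ∣ i ∧ p ∣ j)
    (hu' : ∀ i j : ℕ, a' ^ i * b' ^ j ∈ C' → p ∣ i ∧ p ∣ j)
    (hz : z ∈ C) (hz' : z' ∈ C') (σ : C ≃* C') (hσ : (σ ⟨z, hz⟩ : P') = z')
    (hap : ∃ s : ℕ, a ^ p = z ^ s ∧ a' ^ p = z' ^ s)
    (hbp : ∃ s : ℕ, b ^ p = z ^ s ∧ b' ^ p = z' ^ s) :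
    ∃ φ : P ≃* P', φ z = z' := by
  classical
  have hcross : ∀ {Q : Type u} [Group Q] {x y w : Q}, ⁅x, y⁆ = w → (∀ g, Commute w g) →
      ∀ j k : ℕ, y ^ j * x ^ k = x ^ k * y ^ j * (w⁻¹) ^ (j * k) := by
    intro Q _ x y w hxy hw j k
    have h1 : ∀ k : ℕ, y * x ^ k = x ^ k * y * (w⁻¹) ^ k := by
      intro k
      induction k with
      | zero => simp
      | succ k ih =>
        have h0 : y * x = x * y * w⁻¹ := by
          rw [← ((hw (x * y)).inv_left).eq, ← hxy, commutatorElement_def]; group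
        calc y * x ^ (k + 1) = y * x ^ k * x := by rw [pow_succ]; group
          _ = x ^ k * (y * x) * (w⁻¹) ^ k := by
              rw [ih, mul_assoc (x ^ k * y), (((hw x).inv_left).pow_left k).eq]; group
          _ = _ := by
              rw [h0, pow_succ x, pow_succ' (w⁻¹)]; simp only [mul_assoc]
    induction j with
    | zero => simp
    | succ j ih =>
      calc y ^ (j + 1) * x ^ k = y * (y ^ j * x ^ k) := by rw [pow_succ']; group
        _ = (y * x ^ k) * y ^ j * (w⁻¹) ^ (j * k) := by rw [ih]; group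
        _ = x ^ k * y * y ^ j * (w⁻¹) ^ k * (w⁻¹) ^ (j * k) := by
            rw [h1, mul_assoc (x ^ k * y), (((hw (y ^ j)).inv_left).pow_left k).eq]; group
        _ = _ := by
            rw [mul_assoc _ ((w⁻¹) ^ k), ← pow_add, pow_succ', Nat.succ_mul, add_comm k]
            simp only [mul_assoc]
  have hcross' : ∀ j k : ℕ, b' ^ j * a' ^ k = a' ^ k * b' ^ j * (z'⁻¹) ^ (j * k) := by
    intro j k
    have h1 : ∀ k : ℕ, b' * a' ^ k = a' ^ k * b' * (z'⁻¹) ^ k := by
      intro k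
      induction k with
      | zero => simp
      | succ k ih =>
        have h0 : b' * a' = a' * b' * z'⁻¹ := by
          rw [← ((h'.central (a' * b')).inv_left).eq, ← hab', commutatorElement_def]; group
        calc b' * a' ^ (k + 1) = b' * a' ^ k * a' := by rw [pow_succ]; group
          _ = a' ^ k * (b' * a') * (z'⁻¹) ^ k := by
              rw [ih, mul_assoc (a' ^ k * b'), (((h'.central a').inv_left).pow_left k).eq]; group
          _ = _ := by
              rw [h0, pow_succ a', pow_succ' (z'⁻¹)]; simp only [mul_assoc]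
    induction j with
    | zero => simp
    | succ j ih =>
      calc b' ^ (j + 1) * a' ^ k = b' * (b' ^ j * a' ^ k) := by rw [pow_succ']; group
        _ = (b' * a' ^ k) * b' ^ j * (z'⁻¹) ^ (j * k) := by rw [ih]; group
        _ = a' ^ k * b' * b' ^ j * (z'⁻¹) ^ k * (z'⁻¹) ^ (j * k) := by
            rw [h1, mul_assoc (a' ^ k * b'), (((h'.central (b' ^ j)).inv_left).pow_left k).eq]; group
        _ = _ := by
            rw [mul_assoc _ ((z'⁻¹) ^ k), ← pow_add, pow_succ', Nat.succ_mul, add_comm k]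
            simp only [mul_assoc]
  let s : Set (P × P') := {t | ∃ i j : ℕ, ∃ c : C,
    t = (a ^ i * b ^ j * c, a' ^ i * b' ^ j * σ c)}
  have hmul : ∀ t ∈ s, ∀ t' ∈ s, t * t' ∈ s := by
    rintro _ ⟨i, j, c, rfl⟩ _ ⟨k, l, d, rfl⟩
    refine ⟨i + k, j + l, (⟨z, hz⟩⁻¹) ^ (j * k) * c * d, Prod.ext ?_ ?_⟩
    · show a ^ i * b ^ j * c * (a ^ k * b ^ l * d) = a ^ (i + k) * b ^ (j + l) * _
      rw [Subgroup.coe_mul, Subgroup.coe_mul, Subgroup.coe_pow, Subgroup.coe_inv]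
      calc a ^ i * b ^ j * c * (a ^ k * b ^ l * d)
          = a ^ i * b ^ j * ((c : P) * (a ^ k * b ^ l)) * d := by group
        _ = a ^ i * (b ^ j * a ^ k) * b ^ l * c * d := by
            rw [(((hCc c c.2).1.pow_right k).mul_right ((hCc c c.2).2.pow_right l)).eq]; group
        _ = a ^ i * a ^ k * b ^ j * ((z⁻¹) ^ (j * k) * b ^ l) * c * d := by
            rw [hcross hab h.central]; group
        _ = _ := by
            rw [(((h.central (b ^ l)).inv_left).pow_left (j * k)).eq, pow_add, pow_add]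
            simp only [mul_assoc]
    · show a' ^ i * b' ^ j * σ c * (a' ^ k * b' ^ l * σ d) = a' ^ (i + k) * b' ^ (j + l) * _
      rw [map_mul, map_mul, map_pow, map_inv, Subgroup.coe_mul, Subgroup.coe_mul, Subgroup.coe_pow,
        Subgroup.coe_inv, hσ]
      calc a' ^ i * b' ^ j * (σ c : P') * (a' ^ k * b' ^ l * σ d)
          = a' ^ i * b' ^ j * ((σ c : P') * (a' ^ k * b' ^ l)) * σ d := by group
        _ = a' ^ i * (b' ^ j * a' ^ k) * b' ^ l * σ c * σ d := by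
            rw [(((hCc' _ (σ c).2).1.pow_right k).mul_right ((hCc' _ (σ c).2).2.pow_right l)).eq]
            group
        _ = a' ^ i * a' ^ k * b' ^ j * ((z'⁻¹) ^ (j * k) * b' ^ l) * σ c * σ d := by
            rw [hcross']; group
        _ = _ := by
            rw [(((h'.central (b' ^ l)).inv_left).pow_left (j * k)).eq, pow_add, pow_add]
            simp only [mul_assoc]
  have h1s : (1 : P × P') ∈ s := ⟨0, 0, 1, Prod.ext (by simp) (by simp)⟩
  have hpow : ∀ x ∈ s, ∀ m : ℕ, x ^ m ∈ s := fun x hx m => by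
    induction m with
    | zero => simpa using h1s
    | succ m ih => rw [pow_succ]; exact hmul _ ih _ hx
  let Γ : Subgroup (P × P') :=
    { carrier := s, one_mem' := h1s, mul_mem' := fun {x y} hx hy => hmul x hx y hy
      inv_mem' := fun {x} hx => by
        have : x⁻¹ = x ^ (orderOf x - 1) := by
          refine inv_eq_of_mul_eq_one_right ?_
          rw [← pow_succ', Nat.sub_add_cancel (orderOf_pos x), pow_orderOf_eq_one]
        exact this ▸ hpow x hx _ }
  obtain ⟨sa, hsa, hsa'⟩ := hap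
  obtain ⟨sb, hsb, hsb'⟩ := hbp
  have hker : ∀ t ∈ Γ, (t.1 = 1 ↔ t.2 = 1) := by
    rintro _ ⟨i, j, c, rfl⟩
    have hdiv : (a ^ i * b ^ j * (c : P) = 1 ∨ a' ^ i * b' ^ j * (σ c : P') = 1) →
        p ∣ i ∧ p ∣ j := by
      rintro (e | e)
      · exact hu i j (eq_inv_of_mul_eq_one_left e ▸ inv_mem c.2)
      · exact hu' i j (eq_inv_of_mul_eq_one_left e ▸ inv_mem (σ c).2)
    have key : ∀ i' j' : ℕ, ((a ^ (p * i') * b ^ (p * j') * (c : P) = 1) ↔
        (a' ^ (p * i') * b' ^ (p * j') * (σ c : P') = 1)) := by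
      intro i' j'
      have e1 : a ^ (p * i') * b ^ (p * j') * (c : P) =
          (((⟨z, hz⟩ : C) ^ (sa * i' + sb * j') * c : C) : P) := by
        rw [pow_mul, pow_mul, hsa, hsb, ← pow_mul, ← pow_mul, ← pow_add]
        rfl
      have e2 : a' ^ (p * i') * b' ^ (p * j') * (σ c : P') =
          ((σ ((⟨z, hz⟩ : C) ^ (sa * i' + sb * j') * c) : C') : P') := by
        rw [pow_mul, pow_mul, hsa', hsb', ← pow_mul, ← pow_mul, ← pow_add, map_mul, map_pow,
          Subgroup.coe_mul, Subgroup.coe_pow, hσ]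
      rw [e1, e2, OneMemClass.coe_eq_one, OneMemClass.coe_eq_one, MulEquiv.map_eq_one_iff]
    constructor
    · intro e
      obtain ⟨⟨i', rfl⟩, ⟨j', rfl⟩⟩ := hdiv (Or.inl e)
      exact (key i' j').mp e
    · intro e
      obtain ⟨⟨i', rfl⟩, ⟨j', rfl⟩⟩ := hdiv (Or.inr e)
      exact (key i' j').mpr e
  let f₁ : Γ →* P := (MonoidHom.fst P P').comp Γ.subtype
  let f₂ : Γ →* P' := (MonoidHom.snd P P').comp Γ.subtype
  have hf₁ : Function.Bijective f₁ := ⟨(injective_iff_map_eq_one f₁).mpr fun t ht =>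
      Subtype.ext (Prod.ext ht ((hker t t.2).mp ht)), fun g => by
    obtain ⟨i, j, c, hc, rfl⟩ := hdec g
    exact ⟨⟨_, i, j, ⟨c, hc⟩, rfl⟩, rfl⟩⟩
  have hf₂ : Function.Bijective f₂ := ⟨(injective_iff_map_eq_one f₂).mpr fun t ht =>
      Subtype.ext (Prod.ext ((hker t t.2).mpr ht) ht), fun g => by
    obtain ⟨i, j, c, hc, rfl⟩ := hdec' g
    exact ⟨⟨_, i, j, σ.symm ⟨c, hc⟩, rfl⟩, by simp [f₂]⟩⟩
  refine ⟨(MulEquiv.ofBijective f₁ hf₁).symm.trans (MulEquiv.ofBijective f₂ hf₂), ?_⟩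
  have hmem : (z, z') ∈ Γ := ⟨0, 0, ⟨z, hz⟩, by simp [hσ]⟩
  have e : (MulEquiv.ofBijective f₁ hf₁).symm z = ⟨(z, z'), hmem⟩ := by
    rw [MulEquiv.symm_apply_eq]; rfl
  rw [MulEquiv.trans_apply, e]
  rfl

theorem Ex.zero_iso {P : Type u} [Group P] [Finite P] {z : P} (h : Ex p z 0)
    {P' : Type v} [Group P'] [Finite P'] {z' : P'} (h' : Ex p z' 0) : ∃ φ : P ≃* P', φ z = z' := by
  have hgen : ∀ {Q : Type u} [Group Q] [Finite Q] {w : Q}, Ex p w 0 → ∀ x, x ∈ zpowers w := by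
    intro Q _ _ w hw x
    have : zpowers w = ⊤ := Subgroup.eq_top_of_card_eq _ (by
      rw [Nat.card_zpowers, orderOf_eq_prime hw.zp hw.zne, hw.card]; simp)
    exact this ▸ mem_top x
  have hgen' : ∀ x, x ∈ zpowers z' := by
    intro x
    have : zpowers z' = ⊤ := Subgroup.eq_top_of_card_eq _ (by
      rw [Nat.card_zpowers, orderOf_eq_prime h'.zp h'.zne, h'.card]; simp)
    exact this ▸ mem_top x
  exact ⟨mulEquivOfOrderOfEq (hgen h) hgen'
    (by rw [orderOf_eq_prime h.zp h.zne, orderOf_eq_prime h'.zp h'.zne]),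
    mulEquivOfOrderOfEq_apply_gen ..⟩

theorem Ex.exists_not_mem {P : Type u} [Group P] [Finite P] {z : P} {n : ℕ} (h : Ex p z n)
    (hn : 1 ≤ n) : ∃ a, a ∉ zpowers z := by
  by_contra hcon
  push Not at hcon
  have he : zpowers z = ⊤ := eq_top_iff.mpr fun x _ => hcon x
  have h1 := congrArg (fun K : Subgroup P => Nat.card K) he
  rw [Nat.card_zpowers, orderOf_eq_prime h.zp h.zne, card_top, h.card] at h1
  have h2 : p ^ 2 ≤ p ^ (2 * n + 1) := Nat.pow_le_pow_right hp.out.pos (by omega)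
  rw [← h1, sq] at h2
  exact absurd (Nat.le_of_mul_le_mul_left (h2.trans (mul_one p).ge) hp.out.pos)
    (by have := hp.out.one_lt; omega)

theorem odd_unique : ∀ (n : ℕ) {P : Type u} [Group P] [Finite P] {z : P}
    {P' : Type v} [Group P'] [Finite P'] {z' : P'}, Ex p z n → Ex p z' n →
    (∀ x : P, x ^ p = 1) → (∀ x : P', x ^ p = 1) → ∃ φ : P ≃* P', φ z = z' := by
  intro n
  induction n with
  | zero => intro _ _ _ _ _ _ _ _ h h' _ _; exact h.zero_iso h'
  | succ n ih =>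
    intro P _ _ z P' _ _ z' h h' he he'
    obtain ⟨a, ha⟩ := h.exists_not_mem (Nat.succ_pos n)
    obtain ⟨b, hab⟩ := h.exists_partner ha
    obtain ⟨a', ha'⟩ := h'.exists_not_mem (Nat.succ_pos n)
    obtain ⟨b', hab'⟩ := h'.exists_partner ha'
    obtain ⟨C, hCc, ⟨hz, -, hC⟩, hdec, hu⟩ := h.split hab
    obtain ⟨C', hCc', ⟨hz', -, hC'⟩, hdec', hu'⟩ := h'.split hab'
    rw [Nat.add_sub_cancel] at hC hC'
    obtain ⟨σ, hσ⟩ := ih hC hC' (fun x => Subtype.ext (he x)) (fun x => Subtype.ext (he' x))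
    exact glue h h' hab hab' C C' hCc hCc' hdec hdec' hu hu' hz hz' σ (congrArg Subtype.val hσ)
      ⟨0, by rw [he a, pow_zero], by rw [he' a', pow_zero]⟩
      ⟨0, by rw [he b, pow_zero], by rw [he' b', pow_zero]⟩

section two

variable {P : Type u} [Group P] [Finite P] {z : P} {n : ℕ} (h : Ex 2 z n)
include h

theorem Ex.sq_cases (x : P) : x ^ 2 = 1 ∨ x ^ 2 = z := by
  obtain ⟨k, hk⟩ := mem_zpowers_iff.mp (h.pow_mem x)
  rcases Int.even_or_odd k with ⟨j, rfl⟩ | ⟨j, rfl⟩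
  · left
    rw [← hk, ← two_mul, zpow_mul, show (z : P) ^ (2 : ℤ) = 1 by exact_mod_cast h.zp, one_zpow]
  · right
    rw [← hk, zpow_add_one, zpow_mul, show (z : P) ^ (2 : ℤ) = 1 by exact_mod_cast h.zp, one_zpow,
      one_mul]

theorem Ex.dihedral_pair {a : P} (ha : a ∉ zpowers z) (ha2 : a ^ 2 = 1) :
    ∃ b, ⁅a, b⁆ = z ∧ b ^ 2 = 1 := by
  obtain ⟨b, hab⟩ := h.exists_partner ha
  rcases h.sq_cases b with hb | hb
  · exact ⟨b, hab, hb⟩
  refine ⟨a * b, ?_, ?_⟩
  · rw [show ⁅a, a * b⁆ = a * ⁅a, b⁆ * a⁻¹ by simp [commutatorElement_def]; group, hab,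
      ← (h.central a).eq, mul_inv_cancel_right]
  · have hzz : z * z = 1 := by rw [← sq, h.zp]
    have hba : b * a = z * (a * b) := by
      have h1 : a * b = z * (b * a) := by rw [← hab, commutatorElement_def]; group
      rw [h1, ← mul_assoc, hzz, one_mul]
    calc (a * b) ^ 2 = a * (b * a) * b := by rw [sq]; group
      _ = z * (a ^ 2 * b ^ 2) := by rw [hba, ← mul_assoc a, ← (h.central a).eq, sq, sq]; group
      _ = 1 := by rw [ha2, hb, one_mul, hzz]

theorem Ex.exists_involution (hn : 2 ≤ n) : ∃ a, a ∉ zpowers z ∧ a ^ 2 = 1 := by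
  by_contra hcon
  push Not at hcon
  have hsq : ∀ x, x ∉ zpowers z → x ^ 2 = z := fun x hx =>
    (h.sq_cases x).resolve_left (hcon x hx)
  obtain ⟨x, hx⟩ := h.exists_not_mem (by omega)
  obtain ⟨y, hxy⟩ := h.exists_partner hx
  obtain ⟨C, hCc, ⟨hz, -, hC⟩, -, -⟩ := h.split hxy
  obtain ⟨u, hu⟩ := hC.exists_not_mem (by omega)
  have hu' : (u : P) ∉ zpowers z := by
    rintro hmem
    obtain ⟨k, hk⟩ := mem_zpowers_iff.mp hmem
    exact hu (mem_zpowers_iff.mpr ⟨k, Subtype.ext (by rw [SubgroupClass.coe_zpow]; exact hk)⟩)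
  have hxu : x * (u : P) ∉ zpowers z := by
    intro hmem
    have h1 : ⁅x * (u : P), y⁆ = 1 := commutatorElement_eq_one_iff_mul_comm.mpr
      ((Subgroup.mem_center_iff.mp (h.center_eq.ge hmem) y).symm)
    rw [h.commutator_mul_left, hxy, commutatorElement_eq_one_iff_mul_comm.mpr (hCc u u.2).2.eq,
      mul_one] at h1
    exact h.zne h1
  refine hcon (x * u) hxu ?_
  rw [(hCc u u.2).1.symm.mul_pow, hsq x hx, hsq u hu', ← sq, h.zp]

end two

theorem two_split {P : Type u} [Group P] [Finite P] {z : P} {n : ℕ} (h : Ex 2 z (n + 1))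
    {a b : P} (hab : ⁅a, b⁆ = z) :
    ∃ C : Subgroup P, (∀ c ∈ C, Commute c a ∧ Commute c b) ∧ (∃ hz : z ∈ C,
      Ex 2 (⟨z, hz⟩ : C) n) ∧
      (∀ g : P, ∃ i j : ℕ, ∃ c ∈ C, g = a ^ i * b ^ j * c) ∧
      ∀ i j : ℕ, a ^ i * b ^ j ∈ C → 2 ∣ i ∧ 2 ∣ j := by
  haveI : Fact (Nat.Prime 2) := ⟨Nat.prime_two⟩
  obtain ⟨C, h1, ⟨hz, -, hC⟩, h3, h4⟩ := h.split hab
  exact ⟨C, h1, ⟨hz, by rwa [Nat.add_sub_cancel] at hC⟩, h3, h4⟩

theorem glue_pairs {P : Type u} [Group P] [Finite P] {P' : Type v} [Group P'] [Finite P']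
    {z : P} {z' : P'} {n : ℕ} (h : Ex 2 z (n + 1)) (h' : Ex 2 z' (n + 1))
    {a b : P} {a' b' : P'} (hab : ⁅a, b⁆ = z) (hab' : ⁅a', b'⁆ = z')
    (hap : ∃ s : ℕ, a ^ 2 = z ^ s ∧ a' ^ 2 = z' ^ s)
    (hbp : ∃ s : ℕ, b ^ 2 = z ^ s ∧ b' ^ 2 = z' ^ s)
    (hrec : ∀ (C : Subgroup P) (C' : Subgroup P') (w : C) (w' : C'), Ex 2 w n → Ex 2 w' n →
      ∃ σ : C ≃* C', σ w = w') :
    ∃ φ : P ≃* P', φ z = z' := by
  haveI : Fact (Nat.Prime 2) := ⟨Nat.prime_two⟩
  obtain ⟨C, hCc, ⟨hz, hC⟩, hdec, hu⟩ := two_split h hab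
  obtain ⟨C', hCc', ⟨hz', hC'⟩, hdec', hu'⟩ := two_split h' hab'
  obtain ⟨σ, hσ⟩ := hrec C C' _ _ hC hC'
  exact glue h h' hab hab' C C' hCc hCc' hdec hdec' hu hu' hz hz' σ (congrArg Subtype.val hσ) hap hbp

theorem two_iso_one {P : Type u} [Group P] [Finite P] {P' : Type v} [Group P'] [Finite P']
    {z : P} {z' : P'} (h : Ex 2 z 1) (h' : Ex 2 z' 1)
    (hiff : (∃ a, a ∉ zpowers z ∧ a ^ 2 = 1) ↔ (∃ a, a ∉ zpowers z' ∧ a ^ 2 = 1)) :
    ∃ φ : P ≃* P', φ z = z' := by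
  haveI : Fact (Nat.Prime 2) := ⟨Nat.prime_two⟩
  by_cases hinv : ∃ a, a ∉ zpowers z ∧ a ^ 2 = 1
  · obtain ⟨a, ha, ha2⟩ := hinv
    obtain ⟨b, hab, hb2⟩ := h.dihedral_pair ha ha2
    obtain ⟨a', ha', ha2'⟩ := hiff.mp ⟨a, ha, ha2⟩
    obtain ⟨b', hab', hb2'⟩ := h'.dihedral_pair ha' ha2'
    exact glue_pairs h h' hab hab' ⟨0, by rw [ha2, pow_zero], by rw [ha2', pow_zero]⟩
      ⟨0, by rw [hb2, pow_zero], by rw [hb2', pow_zero]⟩ fun _ _ _ _ hC hC' => hC.zero_iso hC'
  · have hinv' := mt hiff.mpr hinv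
    push Not at hinv hinv'
    obtain ⟨a, ha⟩ := h.exists_not_mem le_rfl
    obtain ⟨b, hab⟩ := h.exists_partner ha
    obtain ⟨a', ha'⟩ := h'.exists_not_mem le_rfl
    obtain ⟨b', hab'⟩ := h'.exists_partner ha'
    have hb : b ∉ zpowers z := fun hmem => h.zne (by
      rw [← hab, commutatorElement_eq_one_iff_mul_comm]
      exact Subgroup.mem_center_iff.mp (h.center_eq.ge hmem) a)
    have hb' : b' ∉ zpowers z' := fun hmem => h'.zne (by
      rw [← hab', commutatorElement_eq_one_iff_mul_comm]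
      exact Subgroup.mem_center_iff.mp (h'.center_eq.ge hmem) a')
    exact glue_pairs h h' hab hab'
      ⟨1, by rw [pow_one]; exact (h.sq_cases a).resolve_left (hinv a ha),
        by rw [pow_one]; exact (h'.sq_cases a').resolve_left (hinv' a' ha')⟩
      ⟨1, by rw [pow_one]; exact (h.sq_cases b).resolve_left (hinv b hb),
        by rw [pow_one]; exact (h'.sq_cases b').resolve_left (hinv' b' hb')⟩
      fun _ _ _ _ hC hC' => hC.zero_iso hC'

theorem two_among_three : ∀ (n : ℕ) {P : Type u} [Group P] [Finite P] {z : P}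
    {P' : Type v} [Group P'] [Finite P'] {z' : P'}
    {P'' : Type w} [Group P''] [Finite P''] {z'' : P''},
    Ex 2 z n → Ex 2 z' n → Ex 2 z'' n →
    (∃ φ : P ≃* P', φ z = z') ∨ (∃ φ : P' ≃* P'', φ z' = z'') ∨ (∃ φ : P ≃* P'', φ z = z'') := by
  haveI : Fact (Nat.Prime 2) := ⟨Nat.prime_two⟩
  intro n
  induction n with
  | zero => intro _ _ _ _ _ _ _ _ _ _ _ _ h h' _; exact Or.inl (h.zero_iso h')
  | succ n ih =>
    intro P _ _ z P' _ _ z' P'' _ _ z'' h h' h''
    rcases Nat.eq_zero_or_pos n with rfl | hn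
    · by_cases e₁ : (∃ a, a ∉ zpowers z ∧ a ^ 2 = 1) ↔ (∃ a, a ∉ zpowers z' ∧ a ^ 2 = 1)
      · exact Or.inl (two_iso_one h h' e₁)
      by_cases e₂ : (∃ a, a ∉ zpowers z' ∧ a ^ 2 = 1) ↔ (∃ a, a ∉ zpowers z'' ∧ a ^ 2 = 1)
      · exact Or.inr (Or.inl (two_iso_one h' h'' e₂))
      have hprop : ∀ A B C : Prop, ¬(A ↔ B) → ¬(B ↔ C) → (A ↔ C) := fun A B C h1 h2 => by
        by_cases hA : A <;> by_cases hB : B <;> by_cases hC : C <;> simp_all
      exact Or.inr (Or.inr (two_iso_one h h'' (hprop _ _ _ e₁ e₂)))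
    obtain ⟨a, ha, ha2⟩ := h.exists_involution (by omega)
    obtain ⟨b, hab, hb2⟩ := h.dihedral_pair ha ha2
    obtain ⟨a', ha', ha2'⟩ := h'.exists_involution (by omega)
    obtain ⟨b', hab', hb2'⟩ := h'.dihedral_pair ha' ha2'
    obtain ⟨a'', ha'', ha2''⟩ := h''.exists_involution (by omega)
    obtain ⟨b'', hab'', hb2''⟩ := h''.dihedral_pair ha'' ha2''
    obtain ⟨C, hCc, ⟨hz, hC⟩, hdec, hu⟩ := two_split h hab
    obtain ⟨C', hCc', ⟨hz', hC'⟩, hdec', hu'⟩ := two_split h' hab'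
    obtain ⟨C'', hCc'', ⟨hz'', hC''⟩, hdec'', hu''⟩ := two_split h'' hab''
    rcases ih hC hC' hC'' with ⟨σ, hσ⟩ | ⟨σ, hσ⟩ | ⟨σ, hσ⟩
    · exact Or.inl (glue h h' hab hab' C C' hCc hCc' hdec hdec' hu hu' hz hz' σ
        (congrArg Subtype.val hσ) ⟨0, by rw [ha2, pow_zero], by rw [ha2', pow_zero]⟩
        ⟨0, by rw [hb2, pow_zero], by rw [hb2', pow_zero]⟩)
    · exact Or.inr (Or.inl (glue h' h'' hab' hab'' C' C'' hCc' hCc'' hdec' hdec'' hu' hu'' hz' hz'' σ
        (congrArg Subtype.val hσ) ⟨0, by rw [ha2', pow_zero], by rw [ha2'', pow_zero]⟩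
        ⟨0, by rw [hb2', pow_zero], by rw [hb2'', pow_zero]⟩))
    · exact Or.inr (Or.inr (glue h h'' hab hab'' C C'' hCc hCc'' hdec hdec'' hu hu'' hz hz'' σ
        (congrArg Subtype.val hσ) ⟨0, by rw [ha2, pow_zero], by rw [ha2'', pow_zero]⟩
        ⟨0, by rw [hb2, pow_zero], by rw [hb2'', pow_zero]⟩))

theorem exists_ex {P : Type u} [Group P] [Finite P] (h : Cfsg.IsExtraspecial p P) :
    ∃ (z : P) (n : ℕ), Ex p z n := by
  classical
  suffices key : ∀ (N : ℕ) {Q : Type u} [Group Q] [Finite Q] (z : Q), Nat.card Q = N →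
      IsPGroup p Q → z ^ p = 1 → z ≠ 1 → center Q = zpowers z → (∀ a b : Q, ⁅a, b⁆ ∈ zpowers z) →
      ∃ n, Ex p z n by
    obtain ⟨⟨hP, -, hC⟩, hZ⟩ := h
    haveI : IsCyclic (center P) := isCyclic_of_prime_card hZ
    obtain ⟨g, hg⟩ := IsCyclic.exists_generator (α := center P)
    have hgp : g ^ p = 1 := by rw [← hZ]; exact pow_card_eq_one'
    have hgne : g ≠ 1 := fun e => by
      have h1 : Nat.card (center P) = orderOf g := (orderOf_eq_card_of_forall_mem_zpowers hg).symm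
      rw [hZ, e, orderOf_one] at h1
      exact hp.out.ne_one h1
    have hc : center P = zpowers (g : P) := by
      refine le_antisymm (fun x hx => ?_) (zpowers_le.mpr g.2)
      obtain ⟨i, hi⟩ := mem_zpowers_iff.mp (hg ⟨x, hx⟩)
      exact mem_zpowers_iff.mpr ⟨i, by rw [← SubgroupClass.coe_zpow, hi]⟩
    obtain ⟨n, hn⟩ := key _ (g : P) rfl hP (congrArg Subtype.val hgp)
      (fun e => hgne (Subtype.ext e)) hc fun a b => by
        rw [← hc, ← hC]; exact commutator_mem_commutator (mem_top a) (mem_top b)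
    exact ⟨_, n, hn⟩
  intro N
  induction N using Nat.strong_induction_on with
  | _ N ih =>
  intro Q _ _ z hN hQ hzp hz1 hcen hcomm
  obtain ⟨k, hk⟩ := IsPGroup.iff_card.mp hQ
  by_cases htop : ∀ x, x ∈ zpowers z
  · refine ⟨0, ?_, hzp, hz1, hcen, hcomm⟩
    rw [show 2 * 0 + 1 = 1 from rfl, pow_one, ← card_top (G := Q),
      show (⊤ : Subgroup Q) = zpowers z from eq_comm.mp (eq_top_iff.mpr fun x _ => htop x),
      Nat.card_zpowers, orderOf_eq_prime hzp hz1]
  push Not at htop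
  obtain ⟨a, ha⟩ := htop
  -- a partner and the centralizer of the pair
  obtain ⟨b, hb⟩ : ∃ b : Q, ⁅a, b⁆ ≠ (1 : Q) := by
    by_contra hcon
    push Not at hcon
    exact ha (hcen.le (Subgroup.mem_center_iff.mpr fun g =>
      (commutatorElement_eq_one_iff_mul_comm.mp (hcon g)).symm))
  have hcentral : ∀ x y g : Q, Commute ⁅x, y⁆ g := fun x y g =>
    (Subgroup.mem_center_iff.mp (hcen.ge (hcomm x y)) g).symm
  have hmull : ∀ x y w : Q, ⁅x * y, w⁆ = ⁅x, w⁆ * ⁅y, w⁆ := by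
    intro x y w
    have e : ⁅x * y, w⁆ = x * ⁅y, w⁆ * x⁻¹ * ⁅x, w⁆ := by simp [commutatorElement_def]; group
    rw [e, ← (hcentral y w x).eq, mul_inv_cancel_right, (hcentral y w _).eq]
  have hzc : ∀ g, Commute z g := fun g =>
    (Subgroup.mem_center_iff.mp (hcen.ge (mem_zpowers z)) g).symm
  let ψ : Q →* zpowers z × zpowers z :=
    { toFun := fun g => (⟨⁅g, b⁆, hcomm g b⟩, ⟨⁅g, a⁆, hcomm g a⟩)
      map_one' := Prod.ext (Subtype.ext (by simp)) (Subtype.ext (by simp))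
      map_mul' := fun x y => Prod.ext (Subtype.ext (hmull x y b)) (Subtype.ext (hmull x y a)) }
  have hcz : Nat.card (zpowers z) = p := by rw [Nat.card_zpowers, orderOf_eq_prime hzp hz1]
  haveI : Fact (Nat.card (zpowers z)).Prime := ⟨hcz.symm ▸ hp.out⟩
  have hsurj : Function.Surjective ψ := by
    have hne : ∀ {w : zpowers z}, w ≠ 1 → ∀ t : zpowers z, t ∈ zpowers w := fun hw t =>
      ((zpowers_eq_bot.not.mpr hw |> (eq_bot_or_eq_top_of_prime_card _).resolve_left)).ge (mem_top t)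
    have hab' : ⁅b, a⁆ ≠ 1 := fun e => hb (by rw [← commutatorElement_inv b a, e, inv_one])
    intro t
    obtain ⟨i, hi⟩ := mem_zpowers_iff.mp (hne (w := ⟨⁅a, b⁆, hcomm a b⟩)
      (fun e => hb (congrArg Subtype.val e)) t.1)
    obtain ⟨j, hj⟩ := mem_zpowers_iff.mp (hne (w := ⟨⁅b, a⁆, hcomm b a⟩)
      (fun e => hab' (congrArg Subtype.val e)) t.2)
    refine ⟨a ^ i * b ^ j, ?_⟩
    rw [map_mul, map_zpow, map_zpow]
    refine Prod.ext ?_ ?_
    · rw [Prod.fst_mul, Prod.pow_fst, Prod.pow_fst, show (ψ b).1 = 1 from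
        Subtype.ext (commutatorElement_self b), one_zpow, mul_one]
      exact hi
    · rw [Prod.snd_mul, Prod.pow_snd, Prod.pow_snd, show (ψ a).2 = 1 from
        Subtype.ext (commutatorElement_self a), one_zpow, one_mul]
      exact hj
  have hcard := ψ.ker.card_mul_index
  rw [index_ker, MonoidHom.range_eq_top.mpr hsurj, card_top, Nat.card_prod, hcz] at hcard
  set C := ψ.ker with hC
  have hzC : z ∈ C := by
    rw [hC, MonoidHom.mem_ker]
    exact Prod.ext (Subtype.ext (commutatorElement_eq_one_iff_mul_comm.mpr (hzc b).eq))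
      (Subtype.ext (commutatorElement_eq_one_iff_mul_comm.mpr (hzc a).eq))
  have hlt : Nat.card C < N := by
    rw [← hN, ← hcard]
    exact lt_mul_of_one_lt_right Nat.card_pos (one_lt_mul'' hp.out.one_lt hp.out.one_lt)
  have hCc : center C = zpowers (⟨z, hzC⟩ : C) := by
    refine le_antisymm (fun c hc => ?_) (zpowers_le.mpr (Subgroup.mem_center_iff.mpr fun d =>
      Subtype.ext (hzc d).symm.eq))
    have hca : ⁅(c : Q), a⁆ = 1 := congrArg (fun t => ((t.2 : zpowers z) : Q)) c.2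
    have hcb : ⁅(c : Q), b⁆ = 1 := congrArg (fun t => ((t.1 : zpowers z) : Q)) c.2
    have hcz' : (c : Q) ∈ zpowers z := by
      rw [← hcen, Subgroup.mem_center_iff]
      intro g
      obtain ⟨i, hi⟩ := mem_zpowers_iff.mp (hcomm g b)
      obtain ⟨x, hx⟩ : ∃ x ∈ zpowers a ⊔ zpowers b, ψ x = ψ g := by
        have htop : (zpowers a ⊔ zpowers b).map ψ = ⊤ := by
          rw [Subgroup.map_sup, MonoidHom.map_zpowers, MonoidHom.map_zpowers, eq_top_iff]
          intro t _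
          have hne : ∀ {w : zpowers z}, w ≠ 1 → ∀ t : zpowers z, t ∈ zpowers w := fun hw t =>
            ((zpowers_eq_bot.not.mpr hw |> (eq_bot_or_eq_top_of_prime_card _).resolve_left)).ge
              (mem_top t)
          have hab' : ⁅b, a⁆ ≠ 1 := fun e => hb (by rw [← commutatorElement_inv b a, e, inv_one])
          obtain ⟨i, hi⟩ := mem_zpowers_iff.mp (hne (w := ⟨⁅a, b⁆, hcomm a b⟩)
            (fun e => hb (congrArg Subtype.val e)) t.1)
          obtain ⟨j, hj⟩ := mem_zpowers_iff.mp (hne (w := ⟨⁅b, a⁆, hcomm b a⟩)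
            (fun e => hab' (congrArg Subtype.val e)) t.2)
          have ht : t = ψ a ^ i * ψ b ^ j := by
            refine Prod.ext ?_ ?_
            · rw [Prod.fst_mul, Prod.pow_fst, Prod.pow_fst, show (ψ b).1 = 1 from
                Subtype.ext (commutatorElement_self b), one_zpow, mul_one]
              exact hi.symm
            · rw [Prod.snd_mul, Prod.pow_snd, Prod.pow_snd, show (ψ a).2 = 1 from
                Subtype.ext (commutatorElement_self a), one_zpow, one_mul]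
              exact hj.symm
          rw [ht]
          exact mul_mem_sup (zpow_mem (mem_zpowers _) i) (zpow_mem (mem_zpowers _) j)
        exact htop.ge (mem_top (ψ g))
      have hgx : x⁻¹ * g ∈ C := by rw [hC, MonoidHom.mem_ker, map_mul, map_inv, hx.2, inv_mul_cancel]
      have h1 : Commute (c : Q) x := by
        have hle : zpowers a ⊔ zpowers b ≤ centralizer ({(c : Q)} : Set Q) := sup_le
          (zpowers_le.mpr (mem_centralizer_singleton_iff.mpr
            (commutatorElement_eq_one_iff_mul_comm.mp hca).symm))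
          (zpowers_le.mpr (mem_centralizer_singleton_iff.mpr
            (commutatorElement_eq_one_iff_mul_comm.mp hcb).symm))
        exact (show Commute x (c : Q) from mem_centralizer_singleton_iff.mp (hle hx.1)).symm
      have h2 : Commute (c : Q) (x⁻¹ * g) :=
        (congrArg Subtype.val (Subgroup.mem_center_iff.mp hc ⟨_, hgx⟩)).symm
      have h3 := h1.mul_right h2
      rw [mul_inv_cancel_left] at h3
      exact h3.eq.symm
    obtain ⟨k, hk⟩ := mem_zpowers_iff.mp hcz'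
    exact mem_zpowers_iff.mpr ⟨k, Subtype.ext (by rw [SubgroupClass.coe_zpow]; exact hk)⟩
  obtain ⟨m, hm⟩ := ih _ hlt (⟨z, hzC⟩ : C) rfl (hQ.to_subgroup C) (Subtype.ext hzp)
    (fun e => hz1 (congrArg Subtype.val e)) hCc fun c d => by
      obtain ⟨k, hk⟩ := mem_zpowers_iff.mp (hcomm c d)
      refine mem_zpowers_iff.mpr ⟨k, Subtype.ext ?_⟩
      rw [SubgroupClass.coe_zpow, hk]
      simp [commutatorElement_def]
  refine ⟨m + 1, ?_, hzp, hz1, hcen, hcomm⟩
  rw [← hcard, hm.card]; ring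

theorem odd_extraspecial_unique {E₁ : Type u} [Group E₁] [Finite E₁] {E₂ : Type v} [Group E₂]
    [Finite E₂] (h₁ : Cfsg.IsExtraspecial p E₁) (h₂ : Cfsg.IsExtraspecial p E₂)
    (he₁ : Monoid.exponent E₁ = p) (he₂ : Monoid.exponent E₂ = p)
    (hc : Nat.card E₁ = Nat.card E₂) : Nonempty (E₁ ≃* E₂) := by
  obtain ⟨z, n, h⟩ := exists_ex h₁
  obtain ⟨z', n', h'⟩ := exists_ex h₂
  obtain rfl : n = n' := by
    have := Nat.pow_right_injective hp.out.two_le (h.card.symm.trans (hc.trans h'.card))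
    omega
  obtain ⟨φ, -⟩ := odd_unique n h h' (fun x => by rw [← he₁]; exact Monoid.pow_exponent_eq_one x)
    (fun x => by rw [← he₂]; exact Monoid.pow_exponent_eq_one x)
  exact ⟨φ⟩

theorem two_extraspecial_three {E₁ : Type u} [Group E₁] [Finite E₁] {E₂ : Type v} [Group E₂]
    [Finite E₂] {E₃ : Type w} [Group E₃] [Finite E₃] (h₁ : Cfsg.IsExtraspecial 2 E₁)
    (h₂ : Cfsg.IsExtraspecial 2 E₂) (h₃ : Cfsg.IsExtraspecial 2 E₃)
    (h12 : Nat.card E₁ = Nat.card E₂) (h23 : Nat.card E₂ = Nat.card E₃) :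
    Nonempty (E₁ ≃* E₂) ∨ Nonempty (E₂ ≃* E₃) ∨ Nonempty (E₁ ≃* E₃) := by
  haveI : Fact (Nat.Prime 2) := ⟨Nat.prime_two⟩
  obtain ⟨z, n, h⟩ := exists_ex h₁
  obtain ⟨z', n', h'⟩ := exists_ex h₂
  obtain ⟨z'', n'', h''⟩ := exists_ex h₃
  obtain rfl : n = n' := by
    have := Nat.pow_right_injective le_rfl (h.card.symm.trans (h12.trans h'.card))
    omega
  obtain rfl : n = n'' := by
    have := Nat.pow_right_injective le_rfl (h'.card.symm.trans (h23.trans h''.card))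
    omega
  rcases two_among_three n h h' h'' with ⟨φ, -⟩ | ⟨φ, -⟩ | ⟨φ, -⟩
  · exact Or.inl ⟨φ⟩
  · exact Or.inr (Or.inl ⟨φ⟩)
  · exact Or.inr (Or.inr ⟨φ⟩)

end CfsgLib.Extraspecial
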