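import Cfsg.Agent.Lib.InvolQuatAut
import Cfsg.Agent.Lib.ZStarQ8Int
import Cfsg.Agent.Lib.ZStarTwoGroup
import Cfsg.Agent.Lib.TwoFusionAut
import Cfsg.Agent.Lib.CoreTransfer
import Mathlib.GroupTheory.SemidirectProduct

/-!
# Quaternion Sylow subgroups: a normal complement or a section `SL(2,3)`
-/

set_option autoImplicit false
set_option linter.style.haveILetI false

universe u v

namespace CfsgLib.QuatSection

open QuaternionGroup

/-- The standard automorphism of order three. -/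
def phi0 : MulAut (QuaternionGroup 2) where
  toFun := CfsgLib.ZStar.qMap (.xa 0) (.a 1 * .xa 0)
  invFun := fun q => CfsgLib.ZStar.qMap (.xa 0) (.a 1 * .xa 0) (CfsgLib.ZStar.qMap (.xa 0) (.a 1 * .xa 0) q)
  left_inv := by unfold Function.LeftInverse; decide +kernel
  right_inv := by unfold Function.RightInverse Function.LeftInverse; decide +kernel
  map_mul' := by decide +kernel

theorem phi0_cube : phi0 ^ 3 = 1 := by
  ext q
  exact (show ∀ q, phi0 (phi0 (phi0 q)) = q by decide +kernel) q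

/-- The action of the cyclic group of order three. -/
def action : Multiplicative (ZMod 3) →* MulAut (QuaternionGroup 2) where
  toFun m := phi0 ^ (Multiplicative.toAdd m).val
  map_one' := pow_zero _
  map_mul' m m' := by
    rw [toAdd_mul, ZMod.val_add, ← pow_add]
    exact (pow_eq_pow_mod _ phi0_cube).symm

abbrev S24 := QuaternionGroup 2 ⋊[action] Multiplicative (ZMod 3)

theorem exists_lift {H : Type u} [Group H] (ψ : QuaternionGroup 2 →* H)
    (hψ : Function.Injective ψ) (y : H) (hy3 : y ^ 3 = 1) (hy : y ∉ ψ.range)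
    (ha : y * ψ (.a 1) * y⁻¹ = ψ (.xa 0)) (hb : y * ψ (.xa 0) * y⁻¹ = ψ (.a 1 * .xa 0)) :
    ∃ F : S24 →* H, Function.Injective F ∧ ψ.range ≤ F.range ∧ y ∈ F.range := by
  have hbase : ∀ q, y * ψ q * y⁻¹ = ψ (phi0 q) := by
    intro q
    have e := CfsgLib.TwoFusion.quat_generated ((MulAut.conj y).toMonoidHom.comp ψ)
      (ψ.comp phi0.toMonoidHom) (ha.trans (congrArg ψ (by decide +kernel)))
      (hb.trans (congrArg ψ (by decide +kernel)))
    exact DFunLike.congr_fun e q
  have hk : ∀ (k : ℕ) q, y ^ k * ψ q * (y ^ k)⁻¹ = ψ ((phi0 ^ k) q) := by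
    intro k
    induction k with
    | zero => intro q; simp
    | succ k ih =>
      intro q
      rw [pow_succ' phi0, MulAut.mul_apply, ← hbase, ← ih, pow_succ']
      group
  let τ : Multiplicative (ZMod 3) →* H :=
    { toFun := fun m => y ^ (Multiplicative.toAdd m).val
      map_one' := pow_zero _
      map_mul' := fun m m' => by
        rw [toAdd_mul, ZMod.val_add, ← pow_add]
        exact (pow_eq_pow_mod _ hy3).symm }
  let F : S24 →* H := SemidirectProduct.lift ψ τ fun m => MonoidHom.ext fun q =>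
    (hk (Multiplicative.toAdd m).val q).symm
  refine ⟨F, (injective_iff_map_eq_one F).2 ?_, ?_, ?_⟩
  · rintro ⟨q, m⟩ h
    change ψ q * y ^ (Multiplicative.toAdd m).val = 1 at h
    have hm : y ^ (Multiplicative.toAdd m).val ∈ ψ.range := by
      rw [eq_inv_of_mul_eq_one_right h]
      exact inv_mem ⟨q, rfl⟩
    have hlt := ZMod.val_lt (Multiplicative.toAdd m)
    have h0 : (Multiplicative.toAdd m).val = 0 := by
      generalize (Multiplicative.toAdd m).val = k at hm hlt
      interval_cases k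
      · rfl
      · exact absurd (by simpa using hm) hy
      · refine absurd ?_ hy
        have e : y = (y ^ 2)⁻¹ := eq_inv_of_mul_eq_one_left (by rw [← pow_succ', hy3])
        rw [e]; exact inv_mem hm
    rw [h0, pow_zero, mul_one] at h
    have hm1 : m = 1 := Multiplicative.toAdd.injective ((ZMod.val_eq_zero _).1 h0)
    have hq1 : q = 1 := hψ (h.trans (map_one ψ).symm)
    subst hm1 hq1
    rfl
  · rintro x ⟨q, rfl⟩
    exact ⟨SemidirectProduct.inl q, SemidirectProduct.lift_inl ..⟩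
  · refine ⟨SemidirectProduct.inr (Multiplicative.ofAdd 1), ?_⟩
    rw [SemidirectProduct.lift_inr]
    exact pow_one y

def slI : Matrix.SpecialLinearGroup (Fin 2) (ZMod 3) := ⟨!![0, -1; 1, 0], by decide⟩
def slJ : Matrix.SpecialLinearGroup (Fin 2) (ZMod 3) := ⟨!![1, 1; 1, -1], by decide⟩
def slY : Matrix.SpecialLinearGroup (Fin 2) (ZMod 3) := ⟨!![1, 1; 0, 1], by decide⟩

def slFun : QuaternionGroup 2 → Matrix.SpecialLinearGroup (Fin 2) (ZMod 3)
  | .a i => slI ^ i.val
  | .xa i => slJ * slI ^ i.val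

def slHom : QuaternionGroup 2 →* Matrix.SpecialLinearGroup (Fin 2) (ZMod 3) :=
  MonoidHom.mk' slFun (by decide +kernel)

theorem nonempty_sl : Nonempty (S24 ≃* Matrix.SpecialLinearGroup (Fin 2) (ZMod 3)) := by
  obtain ⟨F, hF, -, -⟩ := exists_lift slHom
    (show ∀ x y, slFun x = slFun y → x = y by decide +kernel) slY (by decide +kernel)
    (fun ⟨q, hq⟩ => (show ∀ q, slFun q ≠ slY by decide +kernel) q hq)
    (by decide +kernel) (by decide +kernel)
  refine ⟨MulEquiv.ofBijective F ((Nat.bijective_iff_injective_and_card F).2 ⟨hF, ?_⟩)⟩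
  rw [SemidirectProduct.card, Nat.card_eq_fintype_card, QuaternionGroup.card,
    Nat.card_eq_fintype_card (α := Multiplicative (ZMod 3)), Nat.card_eq_fintype_card]
  decide +kernel

theorem q8_pair_hom : ∀ u v : QuaternionGroup 2, u * u ≠ 1 → v * v ≠ 1 → v ≠ u → v ≠ u⁻¹ →
    ∀ x y, CfsgLib.ZStar.qMap u v (x * y) = CfsgLib.ZStar.qMap u v x * CfsgLib.ZStar.qMap u v y := by
  decide +kernel

theorem q8_pair_inj : ∀ u v : QuaternionGroup 2, u * u ≠ 1 → v * v ≠ 1 → v ≠ u → v ≠ u⁻¹ →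
    ∀ x y, CfsgLib.ZStar.qMap u v x = CfsgLib.ZStar.qMap u v y → x = y := by
  decide +kernel

theorem q8_pair_third : ∀ u v w : QuaternionGroup 2, u * u ≠ 1 → v * v ≠ 1 → v ≠ u → v ≠ u⁻¹ →
    w * w ≠ 1 → w ≠ u → w ≠ u⁻¹ → w ≠ v → w ≠ v⁻¹ → w = u * v ∨ u * w = v := by
  decide +kernel

variable {G : Type u} [Group G] [Finite G]

/-- An element of odd order acting nontrivially on a quaternion subgroup gives the section. -/
theorem section_of_action {Q : Subgroup G} (e : Q ≃* QuaternionGroup 2) {g : G}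
    (hg : g ∈ Subgroup.normalizer (Q : Set G)) (hodd : Odd (orderOf g))
    (hnc : g ∉ Subgroup.centralizer (Q : Set G)) :
    ∃ (H K : Subgroup G) (hK : (K.subgroupOf H).Normal),
      Nonempty ((H ⧸ K.subgroupOf H) ≃* Matrix.SpecialLinearGroup (Fin 2) (ZMod 3)) := by
  classical
  have hconj : ∀ q ∈ Q, g * q * g⁻¹ ∈ Q := fun q hq => (Subgroup.mem_normalizer_iff.1 hg q).1 hq
  let φ : QuaternionGroup 2 → QuaternionGroup 2 := fun q => e ⟨g * (e.symm q : G) * g⁻¹, hconj _ (e.symm q).2⟩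
  have hφ : ∀ x y, φ (x * y) = φ x * φ y := fun x y => by
    simp only [φ, ← map_mul e]
    refine congrArg e (Subtype.ext ?_)
    push_cast [map_mul]
    group
  have hφi : ∀ x y, φ x = φ y → x = y := fun x y h => by
    have h2 := congrArg Subtype.val (e.injective h)
    exact e.symm.injective (Subtype.ext (mul_left_cancel (mul_right_cancel h2)))
  let ψ₀ : QuaternionGroup 2 →* QuaternionGroup 2 := MonoidHom.mk' φ hφ
  have hq : φ = CfsgLib.ZStar.qMap (φ (.a 1)) (φ (.xa 0)) := by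
    funext q
    rcases q with i | i
    · show φ (.a i) = φ (.a 1) ^ i.val
      rw [show φ (.a 1) ^ i.val = φ ((QuaternionGroup.a 1 : QuaternionGroup 2) ^ i.val) from
        (map_pow ψ₀ _ _).symm, QuaternionGroup.a_one_pow, ZMod.natCast_zmod_val]
    · show φ (.xa i) = φ (.xa 0) * φ (.a 1) ^ i.val
      rw [show φ (.a 1) ^ i.val = φ ((QuaternionGroup.a 1 : QuaternionGroup 2) ^ i.val) from
        (map_pow ψ₀ _ _).symm, QuaternionGroup.a_one_pow, ZMod.natCast_zmod_val, ← hφ,
        QuaternionGroup.xa_mul_a, zero_add]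
  have hit : ∀ (k : ℕ) (q : QuaternionGroup 2),
      ((e.symm (φ^[k] q) : Q) : G) = g ^ k * (e.symm q : G) * (g ^ k)⁻¹ := by
    intro k q
    induction k with
    | zero => simp
    | succ k ih =>
      rw [Function.iterate_succ_apply']
      simp only [φ, MulEquiv.symm_apply_apply]
      rw [ih, pow_succ']
      group
  have h12 := (CfsgLib.ZStar.q8_aut (φ (.a 1)) (φ (.xa 0)) (hq ▸ hφ) (hq ▸ hφi)).1
  rw [← hq] at h12
  have hp3 : ∀ q, φ^[3] q = q := by
    intro q
    have ho : Function.IsPeriodicPt φ (orderOf g) q := by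
      show φ^[orderOf g] q = q
      apply e.symm.injective
      apply Subtype.ext
      rw [hit, pow_orderOf_eq_one, one_mul, inv_one, mul_one]
    have hp := (show Function.IsPeriodicPt φ 12 q from h12 q).gcd ho
    refine Function.IsPeriodicPt.trans_dvd hp ?_
    have h1 : Nat.gcd 12 (orderOf g) ∣ 12 := Nat.gcd_dvd_left _ _
    have h2 : Odd (Nat.gcd 12 (orderOf g)) := hodd.of_dvd_nat (Nat.gcd_dvd_right 12 (orderOf g))
    have h4 := Nat.le_of_dvd (by norm_num) h1
    obtain ⟨j, hj⟩ := h2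
    rw [hj] at h1 h4 ⊢
    have : j ≤ 5 := by omega
    interval_cases j <;> omega
  obtain ⟨u, huv⟩ : ∃ u, φ u ≠ u := by
    by_contra h
    push Not at h
    refine hnc (Subgroup.mem_centralizer_iff.2 fun q hq' => ?_)
    have h5 := hit 1 (e ⟨q, hq'⟩)
    rw [Function.iterate_one, h, MulEquiv.symm_apply_apply, pow_one] at h5
    exact eq_mul_inv_iff_mul_eq.1 h5
  have hsq : ∀ x, x * x = 1 → φ x = x := by
    intro x hx
    have h4 : ∀ v : QuaternionGroup 2, v * v = 1 → v = 1 ∨ v = QuaternionGroup.a 2 := by decide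
    have hx' : φ x * φ x = 1 := by rw [← hφ, hx]; exact map_one ψ₀
    rcases h4 x hx with rfl | rfl
    · exact map_one ψ₀
    · rcases h4 _ hx' with h | h
      · exact absurd (hφi _ 1 (h.trans (map_one ψ₀).symm)) (by decide)
      · exact h
  have hu : u * u ≠ 1 := fun h => huv (hsq u h)
  have hne : ∀ x, x * x ≠ 1 → φ x * φ x ≠ 1 := fun x hx h => hx (hφi _ 1 (by
    rw [hφ, h]; exact (map_one ψ₀).symm))
  have h3' : ∀ x, φ (φ (φ x)) = x := hp3
  have hinv : ∀ x, φ x⁻¹ = (φ x)⁻¹ := map_inv ψ₀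
  have hvu : φ u ≠ u⁻¹ := fun h => huv (by
    have h2 : φ (φ u) = u := by rw [h, hinv, h, inv_inv]
    have := h3' u
    rwa [h2] at this)
  have hwu : φ (φ u) ≠ u := fun h => huv (by have := h3' u; rwa [h] at this)
  have hwu' : φ (φ u) ≠ u⁻¹ := fun h => hvu (by
    have := h3' u
    rw [h, hinv] at this
    rw [eq_comm, inv_eq_iff_eq_inv]
    exact this.symm)
  have hwv : φ (φ u) ≠ φ u := fun h => huv (hφi _ _ h)
  have hwv' : φ (φ u) ≠ (φ u)⁻¹ := fun h => hvu (hφi _ _ (by rw [h, hinv]))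
  have hw := q8_pair_third u (φ u) (φ (φ u)) hu (hne u hu) huv hvu (hne _ (hne u hu)) hwu hwu' hwv hwv'
  -- choose the orientation
  obtain ⟨v, w, γ, hγ, hγn, hγc, hv2, hvu1, hvu2, hgv, hgw, hwuv⟩ : ∃ (v w : QuaternionGroup 2) (γ : G),
      Subgroup.zpowers γ = Subgroup.zpowers g ∧ (∀ q ∈ Q, γ * q * γ⁻¹ ∈ Q) ∧
      (∀ q ∈ Q, γ ^ 3 * q * (γ ^ 3)⁻¹ = q) ∧ v * v ≠ 1 ∧ v ≠ u ∧ v ≠ u⁻¹ ∧
      γ * (e.symm u : G) * γ⁻¹ = e.symm v ∧ γ * (e.symm v : G) * γ⁻¹ = e.symm w ∧ w = u * v := by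
    have hg3 : ∀ q ∈ Q, g ^ 3 * q * (g ^ 3)⁻¹ = q := by
      intro q hq'
      have := hit 3 (e ⟨q, hq'⟩)
      rw [hp3, MulEquiv.symm_apply_apply] at this
      exact this.symm
    have hstep : ∀ x, g * (e.symm x : G) * g⁻¹ = e.symm (φ x) := fun x => by
      simpa using (hit 1 x).symm
    rcases hw with hw | hw
    · exact ⟨φ u, φ (φ u), g, rfl, hconj, hg3, hne u hu, huv, hvu, hstep u, hstep _, hw⟩
    · refine ⟨φ (φ u), φ u, g⁻¹, Subgroup.zpowers_inv, fun q hq' => ?_, fun q hq' => ?_,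
        hne _ (hne u hu), hwu, hwu', ?_, ?_, hw.symm⟩
      · rw [inv_inv]; exact (Subgroup.mem_normalizer_iff''.1 hg q).1 hq'
      · have := hg3 q hq'
        conv_lhs => rw [← this]
        group
      · have := hstep (φ (φ u))
        rw [h3'] at this
        rw [← this]
        group
      · rw [← hstep (φ u)]
        group
  have hm := q8_pair_hom u v hu hv2 hvu1 hvu2
  have hi := q8_pair_inj u v hu hv2 hvu1 hvu2
  set H := Q ⊔ Subgroup.zpowers γ with hH
  set K := Subgroup.zpowers (γ ^ 3) with hK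
  have hγH : γ ∈ H := Subgroup.mem_sup_right (Subgroup.mem_zpowers γ)
  have hKn : (K.subgroupOf H).Normal := by
    constructor
    intro k hk x
    have hcent : H ≤ Subgroup.centralizer (K : Set G) := by
      refine sup_le (fun q hq' => ?_) (Subgroup.zpowers_le.2 ?_) <;>
        rw [Subgroup.mem_centralizer_iff] <;> rintro _ ⟨i, rfl⟩
      · exact ((show Commute (γ ^ 3) q from mul_inv_eq_iff_eq_mul.1 (hγc q hq')).zpow_left i).eq
      · exact ((Commute.pow_self γ 3).zpow_left i).eq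
    have h := Subgroup.mem_centralizer_iff.1 (hcent x.2) _ hk
    rw [Subgroup.mem_subgroupOf]
    push_cast
    rw [show (x : G) * k = k * x from h.symm, mul_inv_cancel_right]
    exact hk
  refine ⟨H, K, hKn, ?_⟩
  let π := QuotientGroup.mk' (K.subgroupOf H)
  let ψ : QuaternionGroup 2 →* ↥H ⧸ K.subgroupOf H :=
    (π.comp (Subgroup.inclusion (le_sup_left : Q ≤ H))).comp
      (e.symm.toMonoidHom.comp (MonoidHom.mk' (CfsgLib.ZStar.qMap u v) hm))
  have hQ8 : Nat.card Q = 8 := by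
    rw [Nat.card_congr e.toEquiv, Nat.card_eq_fintype_card, QuaternionGroup.card]
  have hdisj : ∀ q ∈ Q, q ∈ Subgroup.zpowers γ → q = 1 := by
    intro q hq' hq''
    have h1 : orderOf q ∣ 8 := hQ8 ▸ Subgroup.orderOf_dvd_natCard Q hq'
    have h2 : orderOf q ∣ orderOf g := by
      rw [← Nat.card_zpowers g, ← hγ]; exact Subgroup.orderOf_dvd_natCard _ hq''
    have h3 := Nat.dvd_gcd h1 h2
    have h4 : Nat.gcd 8 (orderOf g) = 1 :=
      Nat.Coprime.pow_left 3 (Nat.coprime_two_left.2 hodd)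
    rw [h4, Nat.dvd_one, orderOf_eq_one_iff] at h3
    exact h3
  have hψ : Function.Injective ψ := by
    refine (injective_iff_map_eq_one ψ).2 fun x hx => ?_
    have h1 := (QuotientGroup.eq_one_iff _).1 hx
    rw [Subgroup.mem_subgroupOf] at h1
    have h2 := hdisj _ (e.symm (CfsgLib.ZStar.qMap u v x)).2
      (Subgroup.zpowers_le.2 (Subgroup.pow_mem _ (Subgroup.mem_zpowers γ) 3) h1)
    apply hi
    rw [e.symm.map_eq_one_iff.1 (Subtype.ext h2)]
    exact (map_one (MonoidHom.mk' (CfsgLib.ZStar.qMap u v) hm)).symm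
  have ea : CfsgLib.ZStar.qMap u v (.a 1) = u := pow_one u
  have eb : CfsgLib.ZStar.qMap u v (.xa 0) = v := mul_one v
  have hy : π ⟨γ, hγH⟩ ∉ ψ.range := by
    rintro ⟨x, hx⟩
    have h1 := QuotientGroup.eq.1 hx
    rw [Subgroup.mem_subgroupOf] at h1
    push_cast at h1
    set q := (e.symm (CfsgLib.ZStar.qMap u v x) : G)
    change q⁻¹ * γ ∈ K at h1
    have hKγ : K ≤ Subgroup.zpowers γ :=
      Subgroup.zpowers_le.2 (Subgroup.pow_mem _ (Subgroup.mem_zpowers γ) 3)
    have h2 : q = 1 := hdisj q (e.symm _).2 (by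
      have := mul_mem (Subgroup.mem_zpowers γ) (inv_mem (hKγ h1))
      rwa [mul_inv_rev, inv_inv, mul_inv_cancel_left] at this)
    rw [h2, inv_one, one_mul] at h1
    refine hnc (Subgroup.mem_centralizer_iff.2 fun a ha => ?_)
    obtain ⟨i, hi⟩ : g ∈ K := by
      have h3 : Subgroup.zpowers γ ≤ K := Subgroup.zpowers_le.2 h1
      exact h3 (hγ ▸ Subgroup.mem_zpowers g)
    rw [← hi]
    exact ((show Commute (γ ^ 3) a from mul_inv_eq_iff_eq_mul.1 (hγc a ha)).zpow_left i).eq.symm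
  obtain ⟨F, hF, hF1, hF2⟩ := exists_lift ψ hψ (π ⟨γ, hγH⟩)
    (by
      rw [← map_pow]
      exact (QuotientGroup.eq_one_iff _).2 (Subgroup.mem_zpowers (γ ^ 3)))
    hy
    (congrArg π (Subtype.ext (show γ * (e.symm (CfsgLib.ZStar.qMap u v (.a 1)) : G) * γ⁻¹ =
      e.symm (CfsgLib.ZStar.qMap u v (.xa 0)) by rw [ea, eb]; exact hgv)))
    (congrArg π (Subtype.ext (show γ * (e.symm (CfsgLib.ZStar.qMap u v (.xa 0)) : G) * γ⁻¹ =
      e.symm (CfsgLib.ZStar.qMap u v (.a 1 * .xa 0)) by rw [hm, ea, eb, ← hwuv]; exact hgw)))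
  have hsurj : Function.Surjective F := by
    have hall : H ≤ (F.range.comap π).map H.subtype := by
      refine sup_le (fun q hq' => ?_) (Subgroup.zpowers_le.2 ⟨⟨γ, hγH⟩, hF2, rfl⟩)
      obtain ⟨x, hx⟩ := ((Finite.injective_iff_bijective).1
        (show Function.Injective (CfsgLib.ZStar.qMap u v) from hi)).2 (e ⟨q, hq'⟩)
      refine ⟨Subgroup.inclusion le_sup_left ⟨q, hq'⟩, hF1 ⟨x, ?_⟩, rfl⟩
      show π (Subgroup.inclusion _ (e.symm (CfsgLib.ZStar.qMap u v x))) = _
      rw [hx, e.symm_apply_apply]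
    intro z
    obtain ⟨z, rfl⟩ := QuotientGroup.mk'_surjective _ z
    obtain ⟨w, hw1, hw2⟩ := hall z.2
    obtain rfl : w = z := Subtype.ext hw2
    exact hw1
  obtain ⟨E⟩ := nonempty_sl
  exact ⟨(MulEquiv.ofBijective F ⟨hF, hsurj⟩).symm.trans E⟩

/-- A quaternion Sylow subgroup gives a normal `2`-complement or the section `SL(2,3)`. -/
theorem npc_or_section (T : Sylow 2 G) {n : ℕ}
    (hT : Nonempty ((T : Subgroup G) ≃* QuaternionGroup (2 ^ n))) :
    Cfsg.HasNormalPComplement 2 G ∨ ∃ (H K : Subgroup G) (hK : (K.subgroupOf H).Normal),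
      Nonempty ((H ⧸ K.subgroupOf H) ≃* Matrix.SpecialLinearGroup (Fin 2) (ZMod 3)) := by
  classical
  haveI : Fact (Nat.Prime 2) := ⟨Nat.prime_two⟩
  obtain ⟨eT⟩ := hT
  refine or_iff_not_imp_left.2 fun hno => ?_
  by_contra hcon
  refine hno (CfsgLib.Core.hasNormalPComplement_of_local_le T fun Q hQ g hg hgo => ?_)
  by_contra hnc
  have hodd : Odd (orderOf g) := Nat.coprime_two_right.1 hgo
  have hQ2 : IsPGroup 2 Q := T.2.to_le hQ
  let ι : Q →* QuaternionGroup (2 ^ n) := eT.toMonoidHom.comp (Subgroup.inclusion hQ)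
  have hι : Function.Injective ι := eT.injective.comp (Subgroup.inclusion_injective hQ)
  let R := ι.range
  let eR : Q ≃* R := MonoidHom.ofInjective hι
  haveI : Finite (MulAut Q) := Finite.of_injective (fun e : MulAut Q => (e : Q → Q)) DFunLike.coe_injective
  rcases CfsgLib.QuatAut.subgroup_cases ⟨n, rfl⟩ R with htop | ⟨-, hcen, hle⟩
  · have h2 : IsPGroup 2 (MulAut R) := CfsgLib.QuatAut.isPGroup_mulAut (hQ2.of_equiv eR) htop
    have h3 : IsPGroup 2 (MulAut Q) := h2.of_equiv (MulAut.congr eR.symm)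
    set φ := Q.normalizerMonoidHom ⟨g, hg⟩
    obtain ⟨m, hm⟩ := (IsPGroup.iff_orderOf (p := 2)).1 h3 φ
    have hd : orderOf φ ∣ orderOf g := by
      refine (orderOf_map_dvd Q.normalizerMonoidHom _).trans ?_
      rw [← Subgroup.orderOf_coe]
    have h1 : orderOf φ = 1 := by
      rw [hm] at hd ⊢
      rcases Nat.eq_zero_or_pos m with rfl | hm0
      · rfl
      · exact absurd ((dvd_pow_self 2 hm0.ne').trans hd)
          (fun h => Nat.not_even_iff_odd.2 hodd (even_iff_two_dvd.2 h))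
    have hker : (⟨g, hg⟩ : Subgroup.normalizer (Q : Set G)) ∈ Q.normalizerMonoidHom.ker :=
      orderOf_eq_one_iff.1 h1
    rw [Subgroup.normalizerMonoidHom_ker, Subgroup.mem_subgroupOf] at hker
    exact hnc hker
  have hQ8 : Nat.card Q ≤ 8 := by rw [Nat.card_congr eR.toEquiv]; exact hle
  have hconj : ∀ q ∈ Q, g * q * g⁻¹ ∈ Q := fun q hq => (Subgroup.mem_normalizer_iff.1 hg q).1 hq
  have hinvol : ∀ a b : Q, orderOf a = 2 → orderOf b = 2 → a = b := fun a b ha hb => hι (by
    rw [CfsgLib.ZStar.quat_unique_involution (ι a) (by rw [orderOf_injective ι hι]; exact ha),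
      CfsgLib.ZStar.quat_unique_involution (ι b) (by rw [orderOf_injective ι hι]; exact hb)])
  obtain ⟨c, hc⟩ : ∃ c : Q, ∀ t : Q, orderOf t = 2 → t = c := by
    by_cases h : ∃ t : Q, orderOf t = 2
    · obtain ⟨c, hc⟩ := h
      exact ⟨c, fun t ht => hinvol t c ht hc⟩
    · exact ⟨1, fun t ht => absurd ⟨t, ht⟩ h⟩
  rcases CfsgLib.TwoGroup.cyclic_or_quaternion hQ2 hc with hcyc | ⟨m, ⟨eQ⟩⟩
  · -- a cyclic group of order at most two
    have h2 : Nat.card Q ≤ 2 := by
      rw [Nat.card_congr eR.toEquiv]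
      refine le_trans (le_of_eq ?_) hcen
      haveI : IsCyclic R := isCyclic_of_surjective eR eR.surjective
      letI : CommGroup R := IsCyclic.commGroup
      rw [CommGroup.center_eq_top, Subgroup.card_top]
    refine hnc (Subgroup.mem_centralizer_iff.2 fun q hq => ?_)
    refine (mul_inv_eq_iff_eq_mul.1 ?_).symm
    by_cases hq1 : q = 1
    · subst hq1; group
    by_contra hne
    have h3 : ({1, ⟨q, hq⟩, ⟨g * q * g⁻¹, hconj q hq⟩} : Set Q).ncard = 3 := by
      refine Set.ncard_eq_three.2 ⟨_, _, _, ?_, ?_, ?_, rfl⟩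
      · exact fun h => hq1 (congrArg Subtype.val h).symm
      · intro h
        have := congrArg Subtype.val h
        exact hq1 (conj_eq_one_iff.1 this.symm)
      · exact fun h => hne (congrArg Subtype.val h).symm
    have := Set.ncard_le_card (α := Q) {1, ⟨q, hq⟩, ⟨g * q * g⁻¹, hconj q hq⟩}
    omega
  · have hm : m = 0 := by
      rw [Nat.card_congr eQ.toEquiv, Nat.card_eq_fintype_card, QuaternionGroup.card] at hQ8
      by_contra hm
      have : 2 ^ 2 ≤ 2 ^ (m + 1) := Nat.pow_le_pow_right (by norm_num) (by omega)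
      omega
    subst hm
    exact hcon (section_of_action eQ hg hodd hnc)

end CfsgLib.QuatSection
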