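import Cfsg.Agent.Lib.FusionEssential
import Cfsg.Agent.Lib.LocalFFPair

/-!
# Essential subgroups of order `p²`
-/

set_option autoImplicit false

universe u

namespace CfsgLib.TwoFusion.EssentialSmall

open CfsgLib.Fusion Cfsg Cfsg.FusionSystem

variable {p : ℕ} [Fact p.Prime]

/-- An automorphism of order `p` of a group of order `p²` of exponent `p` is a transvection. -/
theorem transvection {H : Type u} [Group H] [Finite H] (hc : Nat.card H = p ^ 2)
    {α : MulAut H} (hα : orderOf α = p) :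
    ∃ x : H, orderOf x = p ∧ α x = x ∧ (∀ y, α y = y → y ∈ Subgroup.zpowers x) ∧
      ∀ y, α y * y⁻¹ ∈ Subgroup.zpowers x := by
  have hp : p.Prime := Fact.out
  have hA : IsPGroup p (Subgroup.zpowers α) := IsPGroup.of_card (n := 1) (by rw [Nat.card_zpowers, hα, pow_one])
  have hcomm := IsPGroup.isMulCommutative_of_card_eq_prime_sq hc
  let d : H →* H := MonoidHom.mk' (fun y => α y * y⁻¹) fun a b => by
    simp only [map_mul, mul_inv_rev]
    calc α a * α b * (b⁻¹ * a⁻¹) = α a * (α b * b⁻¹ * a⁻¹) := by group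
      _ = α a * (a⁻¹ * (α b * b⁻¹)) := by rw [hcomm.is_comm.comm (α b * b⁻¹) a⁻¹]
      _ = _ := by group
  have hker : ∀ y, y ∈ d.ker ↔ α y = y := fun y => by
    rw [MonoidHom.mem_ker]; exact mul_inv_eq_one
  have hpH : p ∣ Nat.card H := hc ▸ dvd_pow_self p two_ne_zero
  obtain ⟨z, hz, hz1⟩ := hA.exists_fixed_point_of_prime_dvd_card_of_fixed_point H hpH (a := (1 : H))
    (fun g => map_one (g : MulAut H))
  have hzα : α z = z := hz ⟨α, Subgroup.mem_zpowers α⟩
  have hk1 : d.ker ≠ ⊥ := fun h => hz1 ((Subgroup.mem_bot).1 (h ▸ (hker z).2 hzα)).symm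
  have hkt : d.ker ≠ ⊤ := fun h => by
    have : α = 1 := MulEquiv.ext fun y => (hker y).1 (h ▸ Subgroup.mem_top y)
    rw [this, orderOf_one] at hα
    exact hp.one_lt.ne hα
  have hkc : Nat.card d.ker = p := by
    have hd := Subgroup.card_subgroup_dvd_card d.ker
    rw [hc] at hd
    obtain ⟨i, hi, hi'⟩ := (Nat.dvd_prime_pow hp).1 hd
    interval_cases i
    · exact absurd (Subgroup.card_eq_one.1 (by simpa using hi')) hk1
    · simpa using hi'
    · exact absurd (Subgroup.eq_top_of_card_eq _ (by rw [hi', hc])) hkt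
  have hrc : Nat.card d.range = p := by
    have h := Subgroup.card_mul_index d.ker
    rw [Subgroup.index_ker, hkc, hc, sq] at h
    exact mul_left_cancel₀ hp.ne_zero h
  have hgen : ∀ (K : Subgroup H), Nat.card K = p → ∀ x ∈ K, x ≠ 1 → Subgroup.zpowers x = K ∧ orderOf x = p := by
    intro K hK x hx hx1
    have h : orderOf x = p := by
      refine (hp.eq_one_or_self_of_dvd _ ?_).resolve_left fun e => hx1 (orderOf_eq_one_iff.1 e)
      rw [← hK, ← Subgroup.orderOf_mk x hx]; exact orderOf_dvd_natCard _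
    exact ⟨Subgroup.eq_of_le_of_card_ge (Subgroup.zpowers_le.2 hx) (by rw [hK, Nat.card_zpowers, h]), h⟩
  obtain ⟨x, hx, hx1⟩ : ∃ x ∈ d.range, x ≠ 1 := by
    by_contra h
    push Not at h
    have hb : d.range = ⊥ := (Subgroup.eq_bot_iff_forall _).2 h
    rw [hb, Subgroup.card_bot] at hrc
    exact hp.one_lt.ne hrc
  obtain ⟨hxr, hxo⟩ := hgen _ hrc x hx hx1
  have hxα : α x = x := by
    obtain ⟨y, rfl⟩ := id hx
    have hmem : α (d y) ∈ d.range := ⟨α y, by
      show α (α y) * (α y)⁻¹ = α (α y * y⁻¹)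
      rw [map_mul, map_inv]⟩
    rw [← hxr] at hmem
    obtain ⟨r, hr⟩ := Subgroup.mem_zpowers_iff.1 hmem
    have hit : ∀ n : ℕ, (α ^ n) (d y) = d y ^ (r ^ n) := by
      intro n
      induction n with
      | zero => simp
      | succ n ih => rw [pow_succ', MulAut.mul_apply, ih, map_zpow, ← hr, ← zpow_mul, pow_succ']
    have h1 := hit p
    have hp1 : α ^ p = 1 := by rw [← hα, pow_orderOf_eq_one]
    rw [hp1, MulAut.one_apply] at h1
    have h2 : ((r ^ p - r : ℤ) : ZMod p) = 0 := by push_cast; rw [ZMod.pow_card, sub_self]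
    rw [ZMod.intCast_zmod_eq_zero_iff_dvd] at h2
    rw [← hr]
    conv_rhs => rw [h1]
    refine (zpow_eq_zpow_iff_modEq.2 ?_)
    rw [hxo]
    exact (Int.modEq_iff_dvd.2 h2)
  refine ⟨x, hxo, hxα, fun y hy => ?_, fun y => hxr.ge ⟨y, rfl⟩⟩
  rw [(hgen _ hkc x ((hker x).2 hxα) hx1).1]
  exact (hker y).2 hy

theorem main {Ω : Type u} [Group Ω] {S : Subgroup Ω} [Finite S] (hS : IsPGroup p S)
    (F : FusionSystem S) (hF : F.IsSaturated p) (H : Subgroup Ω) (hH : F.IsEssential p H) (hcard : Nat.card H = p ^ 2) :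
    Cfsg.IsElementaryAbelian p H ∧
      ∃ K : Subgroup ↥(F.autGroup H), Nonempty (↥K ≃* Matrix.SpecialLinearGroup (Fin 2) (ZMod p)) := by
  have hp : p.Prime := Fact.out
  have hHS : H ≤ S := hH.1.1
  haveI := finite_of_le hHS
  haveI := finite_mulAut H
  haveI := finite_autGroup F hHS
  have hcomm := IsPGroup.isMulCommutative_of_card_eq_prime_sq hcard
  obtain ⟨-, -, hn, E, hE⟩ := id hH
  have hInn : (Inn H).subgroupOf (F.autGroup H) = ⊥ := by
    rw [Subgroup.eq_bot_iff_forall]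
    rintro ⟨α, hα⟩ h
    obtain ⟨g, hg, he⟩ := mem_inn_iff.mp (Subgroup.mem_subgroupOf.1 h)
    refine Subtype.ext (autFun_inj fun y hy => ?_)
    have : (⟨g, hg⟩ : H) * ⟨y, hy⟩ = ⟨y, hy⟩ * ⟨g, hg⟩ := hcomm.is_comm.comm _ _
    rw [he y hy, show g * y = y * g from congrArg Subtype.val this, mul_inv_cancel_right, Subgroup.coe_one,
      autFun_one hy]
  have hno : ∀ N : Subgroup (F.autGroup H), N.Normal → IsPGroup p N → N = ⊥ := by
    intro N hN hNp
    haveI := hN.map (QuotientGroup.mk' ((Inn H).subgroupOf (F.autGroup H))) (QuotientGroup.mk'_surjective _)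
    have h := eq_bot_of_normal_pGroup hE (N.map (QuotientGroup.mk' ((Inn H).subgroupOf (F.autGroup H)))) (hNp.map _)
    rwa [Subgroup.map_eq_bot_iff, QuotientGroup.ker_mk', hInn, le_bot_iff] at h
  have hdvd : p ∣ Nat.card (F.autGroup H) := hE.1.trans (Subgroup.card_quotient_dvd_card _)
  obtain ⟨α, hα⟩ := exists_prime_orderOf_dvd_card' p hdvd
  obtain ⟨β, hβ, hβα⟩ : ∃ β : F.autGroup H, orderOf β = p ∧ β ∉ Subgroup.zpowers α := by
    by_contra hcon
    push Not at hcon
    have hn' : (Subgroup.zpowers α).Normal := ⟨fun v hv w => by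
      obtain ⟨k, rfl⟩ := Subgroup.mem_zpowers_iff.1 hv
      rw [← conj_zpow]
      exact Subgroup.zpow_mem _ (hcon _ (by
        rw [show w * α * w⁻¹ = MulAut.conj w α from rfl, MulEquiv.orderOf_eq, hα])) k⟩
    have h := hno _ hn' (IsPGroup.of_card (n := 1) (by rw [Nat.card_zpowers, hα, pow_one]))
    rw [Subgroup.zpowers_eq_bot] at h
    rw [h, orderOf_one] at hα
    exact hp.one_lt.ne hα
  have hαo : orderOf (α : MulAut H) = p := by rw [Subgroup.orderOf_coe, hα]
  have hβo : orderOf (β : MulAut H) = p := by rw [Subgroup.orderOf_coe, hβ]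
  obtain ⟨x, hxo, hxα, hαfix, hαd⟩ := transvection hcard hαo
  obtain ⟨y, hyo, hyβ, hβfix, hβd⟩ := transvection hcard hβo
  have hαy : (α : MulAut H) y ≠ y := by
    intro hy
    have hyx : Subgroup.zpowers y = Subgroup.zpowers x := Subgroup.eq_of_le_of_card_ge
      (Subgroup.zpowers_le.2 (hαfix y hy)) (by rw [Nat.card_zpowers, Nat.card_zpowers, hxo, hyo])
    obtain ⟨w, -, hw⟩ := SetLike.exists_of_lt (lt_top_iff_ne_top.2 (show Subgroup.zpowers x ≠ ⊤ from fun h => by
      have h' := congrArg (fun K : Subgroup H => Nat.card K) h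
      simp only [Nat.card_zpowers, hxo, Subgroup.card_top, hcard] at h'
      have := hp.one_lt; rw [sq] at h'; nlinarith))
    obtain ⟨i, hi⟩ := Subgroup.mem_zpowers_iff.1 (hαd w)
    obtain ⟨j, hj⟩ := Subgroup.mem_zpowers_iff.1 (hyx ▸ hβd w : (β : MulAut H) w * w⁻¹ ∈ Subgroup.zpowers x)
    have hi0 : ((i : ℤ) : ZMod p) ≠ 0 := by
      intro h0
      rw [ZMod.intCast_zmod_eq_zero_iff_dvd, ← hxo, orderOf_dvd_iff_zpow_eq_one, hi, mul_inv_eq_one] at h0
      exact hw (hαfix w h0)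
    obtain ⟨m, hm⟩ : ∃ m : ℕ, ((i : ℤ) : ZMod p) * m = (j : ℤ) :=
      ⟨(((i : ℤ) : ZMod p)⁻¹ * (j : ℤ)).val, by rw [ZMod.natCast_zmod_val, ← mul_assoc, mul_inv_cancel₀ hi0, one_mul]⟩
    have hpow : ∀ n : ℕ, ((α : MulAut H) ^ n) x = x ∧ ((α : MulAut H) ^ n) w = x ^ (i * n) * w := by
      intro n
      induction n with
      | zero => simp
      | succ n ih =>
        refine ⟨by rw [pow_succ, MulAut.mul_apply, hxα, ih.1], ?_⟩
        rw [pow_succ', MulAut.mul_apply, ih.2, map_mul, map_zpow, hxα,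
          show (α : MulAut H) w = x ^ i * w by rw [hi]; group, ← mul_assoc, ← zpow_add]
        congr 2; push_cast; ring
    have hβx : (β : MulAut H) x = x := by
      obtain ⟨l, hl⟩ := Subgroup.mem_zpowers_iff.1 (hyx.ge (Subgroup.mem_zpowers x))
      rw [← hl, map_zpow, hyβ]
    refine hβα ⟨m, Subtype.ext ?_⟩
    simp only [zpow_natCast, SubmonoidClass.coe_pow]
    have hgen : Subgroup.closure ({x, w} : Set H) = ⊤ := by
      refine Subgroup.eq_top_of_card_eq _ ?_
      have h1 := Subgroup.card_subgroup_dvd_card (Subgroup.closure ({x, w} : Set H))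
      rw [hcard] at h1 ⊢
      obtain ⟨k, hk, hk'⟩ := (Nat.dvd_prime_pow hp).1 h1
      have hlt : Subgroup.zpowers x < Subgroup.closure ({x, w} : Set H) :=
        lt_of_le_of_ne (Subgroup.zpowers_le.2 (Subgroup.subset_closure (by simp))) fun h =>
          hw (h ▸ Subgroup.subset_closure (by simp))
      have h2 : p < Nat.card (Subgroup.closure ({x, w} : Set H)) := by
        rw [← hxo, ← Nat.card_zpowers]
        refine lt_of_le_of_ne (Subgroup.card_le_of_le hlt.le) fun h => hlt.ne ?_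
        exact Subgroup.eq_of_le_of_card_ge hlt.le h.ge
      interval_cases k <;> simp_all
    refine DFunLike.ext _ _ fun v => ?_
    refine DFunLike.congr_fun (MonoidHom.eq_of_eqOn_dense hgen (f := ((α : MulAut H) ^ m).toMonoidHom)
      (g := (β : MulAut H).toMonoidHom) ?_) v
    rintro v (rfl | rfl)
    · exact (hpow m).1.trans hβx.symm
    · refine (hpow m).2.trans ?_
      show x ^ (i * (m : ℤ)) * v = (β : MulAut H) v
      rw [show (β : MulAut H) v = x ^ j * v by rw [hj]; group]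
      congr 1
      rw [zpow_eq_zpow_iff_modEq, hxo, ← ZMod.intCast_eq_intCast_iff]
      push_cast
      exact hm
  have hxpow : ∀ v : H, v ^ p = 1 := by
    have hxy : Subgroup.zpowers x ⊓ Subgroup.zpowers y = ⊥ := by
      rw [Subgroup.eq_bot_iff_forall]
      intro v hv
      by_contra hv1
      have h : ∀ z : H, orderOf z = p → v ∈ Subgroup.zpowers z → Subgroup.zpowers v = Subgroup.zpowers z := fun z hz hvz =>
        Subgroup.eq_of_le_of_card_ge (Subgroup.zpowers_le.2 hvz) (by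
          rw [Nat.card_zpowers, Nat.card_zpowers, hz]
          refine ((hp.eq_one_or_self_of_dvd _ (hz ▸ orderOf_dvd_of_mem_zpowers hvz)).resolve_left
            fun e => hv1 (orderOf_eq_one_iff.1 e)).ge)
      obtain ⟨k, hk⟩ := Subgroup.mem_zpowers_iff.1 (((h x hxo hv.1).symm.trans (h y hyo hv.2)).ge (Subgroup.mem_zpowers y))
      exact hαy (by rw [← hk, map_zpow, hxα])
    intro v
    letI : CommGroup H := { (inferInstance : Group H) with mul_comm := hcomm.is_comm.comm }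
    have hc2 : Nat.card (Subgroup.zpowers x ⊔ Subgroup.zpowers y : Subgroup H) = p ^ 2 := by
      have hsub : (Subgroup.zpowers x : Subgroup H).relIndex (Subgroup.zpowers y) = p := by
        rw [← Subgroup.inf_relIndex_right, hxy, Subgroup.relIndex_bot_left, Nat.card_zpowers, hyo]
      have h1 := Subgroup.card_mul_index ((Subgroup.zpowers x).subgroupOf (Subgroup.zpowers x ⊔ Subgroup.zpowers y))
      rw [← Subgroup.relIndex, Subgroup.relIndex_sup_left, hsub,
        Nat.card_congr (Subgroup.subgroupOfEquivOfLe le_sup_left).toEquiv, Nat.card_zpowers, hxo] at h1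
      rw [← h1, sq]
    have ht := Subgroup.eq_top_of_card_eq _ (hc2.trans hcard.symm)
    obtain ⟨a, ha, b, hb, rfl⟩ := Subgroup.mem_sup.1 (ht ▸ Subgroup.mem_top v)
    rw [mul_pow, orderOf_dvd_iff_pow_eq_one.1 (hxo ▸ orderOf_dvd_of_mem_zpowers ha),
      orderOf_dvd_iff_pow_eq_one.1 (hyo ▸ orderOf_dvd_of_mem_zpowers hb), one_mul]
  refine ⟨⟨hcomm, fun v hv => congrArg Subtype.val (hxpow ⟨v, hv⟩)⟩, Subgroup.closure {α, β}, ?_⟩
  -- pass to the holomorph
  set Γ := ↥H ⋊[MonoidHom.id (MulAut H)] MulAut H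
  haveI : Finite Γ := Finite.of_equiv _ SemidirectProduct.equivProd.symm
  set ι : H →* Γ := SemidirectProduct.inl
  set κ : MulAut H →* Γ := SemidirectProduct.inr
  have hικ : ∀ (g : MulAut H) (v : H), κ g * ι v * (κ g)⁻¹ = ι (g v) := fun g v => by
    rw [← map_inv]
    exact (SemidirectProduct.inl_aut (φ := MonoidHom.id (MulAut H)) g v).symm
  set e₁ := (α : MulAut H) y * y⁻¹
  have he₁ : e₁ ∈ Subgroup.zpowers x := hαd y
  have he₁0 : e₁ ≠ 1 := fun h => hαy (mul_inv_eq_one.1 h)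
  have hα1 : (α : MulAut H) e₁ = e₁ := by
    obtain ⟨k, hk⟩ := Subgroup.mem_zpowers_iff.1 he₁; rw [← hk, map_zpow, hxα]
  have hdisj : Subgroup.zpowers e₁ ⊓ Subgroup.zpowers y = ⊥ := by
    rw [Subgroup.eq_bot_iff_forall]
    intro v hv
    by_contra hv1
    obtain ⟨k, hk⟩ := Subgroup.mem_zpowers_iff.1 hv.1
    have hvy : Subgroup.zpowers v = Subgroup.zpowers y := Subgroup.eq_of_le_of_card_ge (Subgroup.zpowers_le.2 hv.2) (by
      rw [Nat.card_zpowers, Nat.card_zpowers, hyo]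
      exact ((hp.eq_one_or_self_of_dvd _ (hyo ▸ orderOf_dvd_of_mem_zpowers hv.2)).resolve_left
        fun e => hv1 (orderOf_eq_one_iff.1 e)).ge)
    obtain ⟨l, hl⟩ := Subgroup.mem_zpowers_iff.1 (hvy.ge (Subgroup.mem_zpowers y))
    exact hαy (by rw [← hl, ← hk, map_zpow, map_zpow, hα1])
  have hβe : (β : MulAut H) e₁ * e₁⁻¹ ∈ Subgroup.zpowers y := hβd e₁
  obtain ⟨k, hk⟩ := Subgroup.mem_zpowers_iff.1 hβe
  have hc0 : (k : ZMod p) ≠ 0 := by
    intro h0
    rw [ZMod.intCast_zmod_eq_zero_iff_dvd, ← hyo, orderOf_dvd_iff_zpow_eq_one, hk, mul_inv_eq_one] at h0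
    exact he₁0 ((Subgroup.eq_bot_iff_forall _).1 hdisj _ ⟨Subgroup.mem_zpowers e₁, hβfix e₁ h0⟩)
  have hb1 : (β : MulAut H) e₁ = e₁ * y ^ (k : ZMod p).val := by
    have hyk : y ^ (k : ZMod p).val = y ^ k := by
      rw [← zpow_natCast, zpow_eq_zpow_iff_modEq, hyo, ← ZMod.intCast_eq_intCast_iff]
      push_cast; rw [ZMod.natCast_zmod_val]
    rw [hyk, hk, ← mul_assoc, hcomm.is_comm.comm e₁ ((β : MulAut H) e₁), mul_inv_cancel_right]
  set W := ι.range
  set X := Subgroup.closure ({κ α, κ β} : Set Γ)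
  have hW : Cfsg.IsElementaryAbelian p W := ⟨⟨⟨by
      rintro ⟨_, a, rfl⟩ ⟨_, b, rfl⟩
      exact Subtype.ext (by show ι a * ι b = ι b * ι a; rw [← map_mul, ← map_mul, hcomm.is_comm.comm])⟩⟩,
    by rintro _ ⟨a, rfl⟩; rw [← map_pow, hxpow, map_one]⟩
  have hXκ : X ≤ κ.range := (Subgroup.closure_le _).2 (by rintro _ (rfl | rfl) <;> exact ⟨_, rfl⟩)
  have hXW : X ≤ Subgroup.normalizer (W : Set Γ) := fun g hg => by
    obtain ⟨u, rfl⟩ := hXκ hg
    refine mem_normalizer_of_conj_mem ?_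
    rintro _ ⟨v, rfl⟩
    exact ⟨u v, (hικ u v).symm⟩
  have hXC : X ⊓ Subgroup.centralizer (W : Set Γ) = ⊥ := by
    rw [Subgroup.eq_bot_iff_forall]
    rintro g ⟨hg, hgC⟩
    obtain ⟨u, rfl⟩ := hXκ hg
    have : u = 1 := MulEquiv.ext fun v => SemidirectProduct.inl_injective (φ := MonoidHom.id (MulAut H)) (by
      show ι (u v) = ι ((1 : MulAut H) v)
      rw [← hικ, ← Subgroup.mem_centralizer_iff.1 hgC (ι v) ⟨v, rfl⟩, mul_inv_cancel_right]; rfl)
    rw [this, map_one]
  obtain ⟨⟨f⟩, -⟩ := CfsgLib.LocalFF.plane_iso W hW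
    (by rw [← Nat.card_congr (MonoidHom.ofInjective SemidirectProduct.inl_injective).toEquiv, hcard])
    (ι e₁) (ι y) (κ α) (κ β) ⟨_, rfl⟩ ⟨_, rfl⟩
    (fun h => he₁0 (SemidirectProduct.inl_injective (h.trans (map_one ι).symm)))
    (fun h => by rw [SemidirectProduct.inl_injective (h.trans (map_one ι).symm), orderOf_one] at hyo; exact hp.one_lt.ne hyo)
    (by rw [← MonoidHom.map_zpowers, ← MonoidHom.map_zpowers, ← Subgroup.map_inf _ _ _ SemidirectProduct.inl_injective,
      hdisj, Subgroup.map_bot])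
    X rfl hXW hXC
    (by rw [hικ, hα1]) (by rw [hικ, ← map_mul]; congr 1; simp [e₁])
    (k : ZMod p) hc0 (by rw [hικ, hyβ]) (by rw [hικ, hb1, map_mul, map_pow])
  have hKX : (Subgroup.closure ({α, β} : Set (F.autGroup H))).map (κ.comp (F.autGroup H).subtype) = X := by
    rw [MonoidHom.map_closure, Set.image_pair]; rfl
  exact ⟨((Subgroup.closure ({α, β} : Set (F.autGroup H))).equivMapOfInjective (κ.comp (F.autGroup H).subtype)
    (SemidirectProduct.inr_injective.comp Subtype.val_injective)).trans ((MulEquiv.subgroupCongr hKX).trans f)⟩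

end CfsgLib.TwoFusion.EssentialSmall
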