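import Cfsg.Agent.Lib.TwoFusionEssentialCube
import Cfsg.Agent.Lib.TwoFusionEssentialSmall

/-!
# Abelian two-generated essential subgroups
-/

set_option autoImplicit false

universe u

namespace CfsgLib.TwoFusion.EssentialAbelian

open CfsgLib.Fusion Cfsg Cfsg.FusionSystem

variable {p : ℕ} [Fact p.Prime] {H : Type u} [CommGroup H]

/-- The subgroup of `p ^ j`-th powers. -/
abbrev Pw (p : ℕ) (H : Type u) [CommGroup H] (j : ℕ) : Subgroup H := (powMonoidHom (α := H) (p ^ j)).range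

theorem mem_pw {j : ℕ} {x : H} : x ∈ Pw p H j ↔ ∃ z, z ^ p ^ j = x := Iff.rfl

theorem map_pw (β : MulAut H) {j : ℕ} {x : H} (hx : x ∈ Pw p H j) : β x ∈ Pw p H j := by
  obtain ⟨z, rfl⟩ := hx
  exact ⟨β z, (map_pow β z _).symm⟩

theorem pw_le {i j : ℕ} (h : i ≤ j) : Pw p H j ≤ Pw p H i := by
  rintro _ ⟨z, rfl⟩
  refine ⟨z ^ p ^ (j - i), ?_⟩
  show (z ^ p ^ (j - i)) ^ p ^ i = z ^ p ^ j
  rw [← pow_mul, ← pow_add, Nat.sub_add_cancel h]

theorem pow_mem_pw {j : ℕ} {x : H} (hx : x ∈ Pw p H j) : x ^ p ∈ Pw p H (j + 1) := by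
  obtain ⟨z, rfl⟩ := hx
  exact ⟨z, by show z ^ p ^ (j + 1) = (z ^ p ^ j) ^ p; rw [← pow_mul, pow_succ]⟩

/-- The displacement of an automorphism. -/
def dlt (β : MulAut H) : H →* H :=
  MonoidHom.mk' (fun x => β x * x⁻¹) fun a b => by rw [map_mul, mul_inv, mul_mul_mul_comm]

theorem dlt_spec (β : MulAut H) (x : H) : β x = x * dlt β x := by
  show β x = x * (β x * x⁻¹); rw [mul_comm, inv_mul_cancel_right]

theorem pow_apply_mod (β : MulAut H) (M : Subgroup H) (hM : ∀ v ∈ M, β v ∈ M) (x : H)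
    (h : dlt β (dlt β x) ∈ M) (n : ℕ) : (β ^ n) x * (x * dlt β x ^ n)⁻¹ ∈ M := by
  induction n with
  | zero => simp
  | succ n ih =>
    set y := dlt β x
    rw [pow_succ', MulAut.mul_apply]
    have h1 := mul_mem (hM _ ih) (pow_mem h n)
    rw [map_mul, map_inv, map_mul, map_pow, dlt_spec β x, dlt_spec β y] at h1
    have e : β ((β ^ n) x) * (x * y * (y * dlt β y) ^ n)⁻¹ * dlt β y ^ n = β ((β ^ n) x) * (x * y ^ (n + 1))⁻¹ := by
      have e2 : x * y * (y * dlt β y) ^ n = x * y ^ (n + 1) * dlt β y ^ n := by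
        rw [mul_pow, pow_succ']; simp only [mul_assoc]
      rw [e2, mul_inv, mul_assoc, mul_assoc, inv_mul_cancel, mul_one]
    exact e ▸ h1

theorem step (β : MulAut H) {j : ℕ} (h1 : ∀ x, dlt β x ∈ Pw p H 1) (hj : ∀ x, dlt β x ∈ Pw p H (j + 1)) (x : H) :
    dlt (β ^ p) x ∈ Pw p H (j + 2) := by
  have hy : dlt β (dlt β x) ∈ Pw p H (j + 2) := by
    obtain ⟨z, hz⟩ := hj x
    rw [← hz, powMonoidHom_apply, map_pow]
    obtain ⟨w, hw⟩ := h1 z
    rw [← hw, powMonoidHom_apply, ← pow_mul, pow_one, ← pow_succ']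
    exact ⟨w, rfl⟩
  have h := pow_apply_mod β _ (fun v hv => map_pw β hv) x hy p
  have hp : dlt β x ^ p ∈ Pw p H (j + 2) := pow_mem_pw (hj x)
  have := mul_mem h hp
  rw [mul_inv, ← mul_assoc, inv_mul_cancel_right] at this
  exact this

theorem kernel_pow_eq_one (β : MulAut H) {a : ℕ} (ha : ∀ x : H, x ^ p ^ a = 1) (h1 : ∀ x, dlt β x ∈ Pw p H 1) :
    β ^ p ^ a = 1 := by
  have hall : ∀ n : ℕ, ∀ x, dlt (β ^ p ^ n) x ∈ Pw p H (n + 1) := by
    intro n
    induction n with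
    | zero => intro x; rw [pow_zero, pow_one]; exact h1 x
    | succ n ih =>
      intro x
      rw [pow_succ, pow_mul]
      exact step _ (fun y => pw_le (by omega) (ih y)) ih x
  refine MulEquiv.ext fun x => ?_
  obtain ⟨z, hz⟩ := hall a x
  rw [powMonoidHom_apply, pow_succ, pow_mul, ha, one_pow] at hz
  rw [dlt_spec (β ^ p ^ a) x, ← hz, mul_one]; rfl

/-- The action on the Frattini quotient. -/
noncomputable def rho (p : ℕ) [Fact p.Prime] (H : Type u) [CommGroup H] : MulAut H →* MulAut (H ⧸ Pw p H 1) where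
  toFun β := QuotientGroup.congr (Pw p H 1) (Pw p H 1) β (le_antisymm
    (by rintro _ ⟨v, hv, rfl⟩; exact map_pw β hv)
    (fun v hv => ⟨β⁻¹ v, map_pw β⁻¹ hv, MulAut.apply_inv_self H β v⟩))
  map_one' := MulEquiv.ext fun v => by induction v using QuotientGroup.induction_on; rfl
  map_mul' β γ := MulEquiv.ext fun v => by induction v using QuotientGroup.induction_on; rfl

theorem rho_mk (β : MulAut H) (x : H) : rho p H β (QuotientGroup.mk x) = QuotientGroup.mk (β x) := rfl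

theorem dlt_mem_iff (β : MulAut H) (x : H) :
    dlt β x ∈ Pw p H 1 ↔ rho p H β (QuotientGroup.mk x) = QuotientGroup.mk x := by
  rw [rho_mk, QuotientGroup.eq]
  constructor
  · intro h
    have := inv_mem h
    rwa [show (dlt β x)⁻¹ = (β x * x⁻¹)⁻¹ from rfl, mul_inv, inv_inv] at this
  · intro h
    have := inv_mem h
    rwa [mul_inv, inv_inv] at this

theorem ker_rho [Finite H] {a : ℕ} (ha : ∀ x : H, x ^ p ^ a = 1) : IsPGroup p (rho p H).ker := by
  rintro ⟨β, hβ⟩
  exact ⟨a, Subtype.ext (kernel_pow_eq_one β ha fun x => (dlt_mem_iff β x).2 (by rw [MonoidHom.mem_ker.1 hβ]; rfl))⟩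

theorem no_transvection (hp5 : 5 ≤ p) (α : MulAut H) (hα : α ^ p = 1)
    (hd2 : ∀ x, dlt α (dlt α x) ∈ Pw p H 1) (hsmall : ∀ x : H, x ^ p = 1 → x ∈ Pw p H 1) (x : H) :
    dlt α x ∈ Pw p H 1 := by
  have hp : p.Prime := Fact.out
  set y₁ := dlt α x
  set y₂ := dlt α y₁
  set y₃ := dlt α y₂
  have hy₃ : y₃ ∈ Pw p H 1 := hd2 y₁
  have hy₄ : dlt α y₃ ∈ Pw p H 2 := by
    obtain ⟨z, hz⟩ := hd2 x
    show dlt α (dlt α y₂) ∈ _
    rw [show y₂ = z ^ p ^ 1 from hz.symm, map_pow, map_pow, pow_one]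
    exact pow_mem_pw (hd2 z)
  have hit : ∀ n : ℕ, (α ^ n) x * (x * y₁ ^ n * y₂ ^ n.choose 2 * y₃ ^ n.choose 3)⁻¹ ∈ Pw p H 2 := by
    intro n
    induction n with
    | zero => simp
    | succ n ih =>
      rw [pow_succ', MulAut.mul_apply]
      have h1 := mul_mem (map_pw α ih) (pow_mem hy₄ (n.choose 3))
      rw [map_mul, map_inv, map_mul, map_mul, map_mul, map_pow, map_pow, map_pow, dlt_spec α x, dlt_spec α y₁,
        dlt_spec α y₂, dlt_spec α y₃] at h1
      have e : α ((α ^ n) x) * (x * y₁ * (y₁ * y₂) ^ n * (y₂ * y₃) ^ n.choose 2 * (y₃ * dlt α y₃) ^ n.choose 3)⁻¹ *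
          dlt α y₃ ^ n.choose 3 =
          α ((α ^ n) x) * (x * y₁ ^ (n + 1) * y₂ ^ (n + 1).choose 2 * y₃ ^ (n + 1).choose 3)⁻¹ := by
        rw [Nat.choose_succ_succ' n 2, Nat.choose_succ_succ' n 1, Nat.choose_one_right]
        have : x * y₁ * (y₁ * y₂) ^ n * (y₂ * y₃) ^ n.choose 2 * (y₃ * dlt α y₃) ^ n.choose 3 =
            x * y₁ ^ (n + 1) * y₂ ^ (n + n.choose 2) * y₃ ^ (n.choose 2 + n.choose 3) * dlt α y₃ ^ n.choose 3 := by
          simp only [mul_pow, pow_add, pow_one]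
          ac_rfl
        rw [this, mul_inv, mul_assoc, mul_assoc, inv_mul_cancel, mul_one]
      exact e ▸ h1
  have h := hit p
  rw [hα, MulAut.one_apply] at h
  obtain ⟨c₂, hc₂⟩ := hp.dvd_choose_self (k := 2) (by norm_num) (by omega)
  obtain ⟨c₃, hc₃⟩ := hp.dvd_choose_self (k := 3) (by norm_num) (by omega)
  have h2 : y₂ ^ p.choose 2 ∈ Pw p H 2 := by rw [hc₂, pow_mul]; exact pow_mem (pow_mem_pw (hd2 x)) _
  have h3 : y₃ ^ p.choose 3 ∈ Pw p H 2 := by rw [hc₃, pow_mul]; exact pow_mem (pow_mem_pw hy₃) _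
  have h4 := inv_mem (mul_mem (mul_mem h h2) h3)
  rw [show (x * (x * y₁ ^ p * y₂ ^ p.choose 2 * y₃ ^ p.choose 3)⁻¹ * y₂ ^ p.choose 2 * y₃ ^ p.choose 3)⁻¹ = y₁ ^ p by
    simp only [mul_inv_rev, inv_inv]
    have : ∀ a b c d : H, d⁻¹ * (c⁻¹ * (a * b * c * d * a⁻¹)) = b := fun a b c d => by
      calc d⁻¹ * (c⁻¹ * (a * b * c * d * a⁻¹)) = b * (a * a⁻¹) * (c * c⁻¹) * (d * d⁻¹) := by ac_rfl
        _ = b := by simp
    exact this x _ _ _] at h4
  obtain ⟨w, hw⟩ := h4
  have h5 := hsmall (y₁ * (w ^ p)⁻¹) (by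
    rw [mul_pow, inv_pow, ← pow_mul, ← sq, show w ^ p ^ 2 = y₁ ^ p from hw, mul_inv_cancel])
  have := mul_mem h5 (show w ^ p ∈ Pw p H 1 from ⟨w, by simp⟩)
  rwa [inv_mul_cancel_right] at this

theorem homocyclic [Finite H] {a : ℕ} (ha : ∀ x : H, x ^ p ^ a = 1)
    (hL : ∀ x : H, x ^ p ^ (a - 1) = 1 → x ∈ Pw p H 1) (hi : (Pw p H 1).index = p ^ 2)
    (hfr : frattini H = Pw p H 1) :
    Nonempty (H ≃* Multiplicative (ZMod (p ^ a) × ZMod (p ^ a))) := by
  have hp : p.Prime := Fact.out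
  haveI : NeZero (p ^ a) := ⟨(pow_pos hp.pos _).ne'⟩
  obtain ⟨g, hg⟩ : ∃ g, g ∉ Pw p H 1 := by
    by_contra h
    push Not at h
    rw [(Subgroup.eq_top_iff' _).2 h, Subgroup.index_top] at hi
    exact (Nat.one_lt_pow two_ne_zero hp.one_lt).ne hi
  obtain ⟨k, hk⟩ : ∃ k, k ∉ Pw p H 1 ⊔ Subgroup.zpowers g := by
    by_contra h
    push Not at h
    have htop : Pw p H 1 ⊔ Subgroup.zpowers g = ⊤ := (Subgroup.eq_top_iff' _).2 h
    rw [← hfr, sup_comm] at htop
    have hz := frattini_nongenerating htop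
    have hmap : (Subgroup.zpowers g).map (QuotientGroup.mk' (Pw p H 1)) = ⊤ := by
      rw [hz, Subgroup.map_top_of_surjective _ (QuotientGroup.mk'_surjective _)]
    rw [MonoidHom.map_zpowers] at hmap
    have hc : orderOf (QuotientGroup.mk' (Pw p H 1) g) = p ^ 2 := by
      rw [← Nat.card_zpowers, hmap, Subgroup.card_top, ← Subgroup.index_eq_card, hi]
    have hp1 : (QuotientGroup.mk' (Pw p H 1) g) ^ p = 1 := by
      rw [← map_pow]; exact (QuotientGroup.eq_one_iff _).2 ⟨g, by simp⟩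
    have := Nat.le_of_dvd hp.pos (hc ▸ orderOf_dvd_of_pow_eq_one hp1)
    have := hp.one_lt
    rw [sq] at *
    nlinarith
  have hgen : Subgroup.closure ({g, k} : Set H) = ⊤ := by
    refine frattini_nongenerating ?_
    rw [hfr, sup_comm]
    set M := Pw p H 1 ⊔ Subgroup.closure ({g, k} : Set H)
    by_contra hne
    have hd := Subgroup.index_dvd_of_le (le_sup_left : Pw p H 1 ≤ M)
    rw [hi] at hd
    obtain ⟨i, hi2, hiM⟩ := (Nat.dvd_prime_pow hp).1 hd
    have hrel := Subgroup.relIndex_mul_index (le_sup_left : Pw p H 1 ≤ M)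
    rw [hi, hiM] at hrel
    set M₁ := Pw p H 1 ⊔ Subgroup.zpowers g
    have hM₁ : M₁ ≤ M := sup_le le_sup_left
      (Subgroup.zpowers_le.2 (le_sup_right (a := Pw p H 1) (Subgroup.subset_closure (by simp))))
    have hkM : k ∈ M := le_sup_right (a := Pw p H 1) (Subgroup.subset_closure (by simp))
    have h1 : (Pw p H 1).relIndex M₁ ≠ 1 := by
      rw [Ne, Subgroup.relIndex_eq_one]
      exact fun h => hg (h (le_sup_right (a := Pw p H 1) (Subgroup.mem_zpowers g)))
    have h2 : M₁.relIndex M ≠ 1 := by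
      rw [Ne, Subgroup.relIndex_eq_one]
      exact fun h => hk (h hkM)
    have h3 := Subgroup.relIndex_mul_relIndex (Pw p H 1) M₁ M le_sup_left hM₁
    have h4 : M.index ≠ 1 := fun h => hne (Subgroup.index_eq_one.1 h)
    rw [hiM] at h4
    obtain ⟨s, -, hs⟩ := (Nat.dvd_prime_pow hp).1 (Dvd.intro _ hrel : (Pw p H 1).relIndex M ∣ p ^ 2)
    rw [hs] at hrel h3
    obtain ⟨u, -, hu⟩ := (Nat.dvd_prime_pow hp).1 (Dvd.intro _ h3 : (Pw p H 1).relIndex M₁ ∣ p ^ s)
    obtain ⟨v, -, hv⟩ := (Nat.dvd_prime_pow hp).1 (Dvd.intro_left _ h3 : M₁.relIndex M ∣ p ^ s)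
    rw [hu] at h1 h3
    rw [hv] at h2 h3
    rw [← pow_add] at hrel h3
    have e1 := Nat.pow_right_injective hp.two_le hrel
    have e2 := Nat.pow_right_injective hp.two_le h3
    have : u ≠ 0 := fun h => h1 (by rw [h, pow_zero])
    have : v ≠ 0 := fun h => h2 (by rw [h, pow_zero])
    have : i ≠ 0 := fun h => h4 (by rw [h, pow_zero])
    omega
  have hadd : ∀ (b : H) (i j : ZMod (p ^ a)), b ^ (i + j).val = b ^ i.val * b ^ j.val := fun b i j => by
    rw [← pow_add, ZMod.val_add]; exact (pow_eq_pow_mod _ (ha b)).symm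
  let f : Multiplicative (ZMod (p ^ a) × ZMod (p ^ a)) →* H :=
    MonoidHom.mk' (fun v => g ^ (Multiplicative.toAdd v).1.val * k ^ (Multiplicative.toAdd v).2.val) fun v w => by
      simp only [toAdd_mul, Prod.fst_add, Prod.snd_add, hadd]; ac_rfl
  have hsurj : Function.Surjective f := by
    rw [← MonoidHom.range_eq_top, eq_top_iff, ← hgen, Subgroup.closure_le]
    have h1a : (1 : ℕ) % p ^ a = (1 : ZMod (p ^ a)).val := by rw [← ZMod.val_natCast, Nat.cast_one]
    rintro _ (rfl | rfl)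
    · exact ⟨Multiplicative.ofAdd (1, 0), by
        show _ ^ (1 : ZMod (p ^ a)).val * k ^ (0 : ZMod (p ^ a)).val = _
        rw [ZMod.val_zero, pow_zero, mul_one, ← h1a, ← pow_eq_pow_mod 1 (ha _), pow_one]⟩
    · exact ⟨Multiplicative.ofAdd (0, 1), by
        show g ^ (0 : ZMod (p ^ a)).val * _ ^ (1 : ZMod (p ^ a)).val = _
        rw [ZMod.val_zero, pow_zero, one_mul, ← h1a, ← pow_eq_pow_mod 1 (ha _), pow_one]⟩
  have key : ∀ m : ℕ, ∀ i j : ℕ, g ^ i * k ^ j = 1 → m ≤ a → p ^ m ∣ i ∧ p ^ m ∣ j := by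
    intro m
    induction m with
    | zero => intro i j _ _; simp
    | succ m ih =>
      intro i j h hm
      obtain ⟨⟨i', rfl⟩, ⟨j', rfl⟩⟩ := ih i j h (by omega)
      rw [mul_comm (p ^ m), mul_comm (p ^ m), pow_mul, pow_mul, ← mul_pow] at h
      have hmem : g ^ i' * k ^ j' ∈ Pw p H 1 := hL _ (by
        obtain ⟨r, hr⟩ : ∃ r, a - 1 = m + r := ⟨a - 1 - m, by omega⟩
        rw [hr, pow_add, pow_mul, h, one_pow])
      have hj : p ∣ j' := by
        by_contra hj
        refine hk ?_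
        have hkj : k ^ j' ∈ Pw p H 1 ⊔ Subgroup.zpowers g := by
          have := mul_mem (Subgroup.mem_sup_left (T := Subgroup.zpowers g) hmem)
            (inv_mem (Subgroup.mem_sup_right (S := Pw p H 1) (pow_mem (Subgroup.mem_zpowers g) i')))
          rwa [mul_comm (g ^ i'), mul_inv_cancel_right] at this
        have hkp : k ^ p ∈ Pw p H 1 ⊔ Subgroup.zpowers g := Subgroup.mem_sup_left ⟨k, by simp⟩
        have hb := Nat.Coprime.gcd_eq_one ((hp.coprime_iff_not_dvd.2 hj).symm)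
        have := Nat.gcd_eq_gcd_ab j' p
        rw [hb] at this
        rw [← zpow_one k, show (1 : ℤ) = _ from this, zpow_add, zpow_mul, zpow_mul, zpow_natCast, zpow_natCast]
        exact mul_mem (zpow_mem hkj _) (zpow_mem hkp _)
      have hi' : p ∣ i' := by
        by_contra hi'
        refine hg ?_
        have hgi : g ^ i' ∈ Pw p H 1 := by
          obtain ⟨c, rfl⟩ := hj
          have := mul_mem hmem (inv_mem (show k ^ (p * c) ∈ Pw p H 1 from ⟨k ^ c, by simp [← pow_mul, mul_comm]⟩))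
          rwa [mul_inv_cancel_right] at this
        have hgp : g ^ p ∈ Pw p H 1 := ⟨g, by simp⟩
        have hb := Nat.Coprime.gcd_eq_one ((hp.coprime_iff_not_dvd.2 hi').symm)
        have := Nat.gcd_eq_gcd_ab i' p
        rw [hb] at this
        rw [← zpow_one g, show (1 : ℤ) = _ from this, zpow_add, zpow_mul, zpow_mul, zpow_natCast, zpow_natCast]
        exact mul_mem (zpow_mem hgi _) (zpow_mem hgp _)
      rw [pow_succ]
      exact ⟨Nat.mul_dvd_mul_left _ hi', Nat.mul_dvd_mul_left _ hj⟩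
  have hinj : Function.Injective f := (injective_iff_map_eq_one f).2 fun v hv => by
    obtain ⟨h1, h2⟩ := key a _ _ hv le_rfl
    have e1 := Nat.eq_zero_of_dvd_of_lt h1 (ZMod.val_lt _)
    have e2 := Nat.eq_zero_of_dvd_of_lt h2 (ZMod.val_lt _)
    exact Multiplicative.toAdd.injective (Prod.ext ((ZMod.val_eq_zero _).1 e1) ((ZMod.val_eq_zero _).1 e2))
  exact ⟨(MulEquiv.ofBijective f ⟨hinj, hsurj⟩).symm⟩

theorem layer_bot {Q : Type u} [Group Q] [Finite Q] {L' : Subgroup Q} (hc : Nat.card L' = p) (γ : MulAut Q)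
    (hγ : ∀ v ∈ L', γ v ∈ L') (ho : orderOf γ = p) : ∀ v ∈ L', γ v = v := by
  intro v hv
  let e : Equiv.Perm L' := Equiv.ofBijective (fun w => ⟨γ w, hγ w w.2⟩)
    (Finite.injective_iff_bijective.1 fun a b h => Subtype.ext (γ.injective (congrArg Subtype.val h)))
  have hp' : ∀ n : ℕ, ∀ w : L', ((e ^ n) w : Q) = (γ ^ n) w := by
    intro n
    induction n with
    | zero => intro w; rfl
    | succ n ih => intro w; rw [pow_succ, pow_succ, Equiv.Perm.mul_apply, MulAut.mul_apply, ih]; rfl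
  exact congrArg Subtype.val (EssentialCube.perm_eq_one hc e (x₀ := 1) (Subtype.ext (map_one γ)) 1
    (Equiv.ext fun w => Subtype.ext (by rw [hp', pow_one, orderOf_dvd_iff_pow_eq_one.1 ho.dvd]; rfl)) ⟨v, hv⟩)

theorem layer_top {Q : Type u} [Group Q] [Finite Q] {L' : Subgroup Q} (hi : L'.relIndex ⊤ = p) (γ : MulAut Q)
    (hγ : ∀ v ∈ L', γ v ∈ L') (ho : orderOf γ = p) : ∀ v, v⁻¹ * γ v ∈ L' := by
  rw [Subgroup.relIndex_top_right] at hi
  let g : Q ⧸ L' → Q ⧸ L' := Quotient.map' γ fun a b hab => by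
    rw [QuotientGroup.leftRel_apply] at hab ⊢
    rw [← map_inv, ← map_mul]; exact hγ _ hab
  have hit : ∀ n : ℕ, ∀ w : Q, g^[n] (QuotientGroup.mk w) = QuotientGroup.mk ((γ ^ n) w) := by
    intro n
    induction n with
    | zero => intro w; rfl
    | succ n ih => intro w; rw [Function.iterate_succ_apply', ih, pow_succ']; rfl
  have hgp : g^[p] = id := funext fun x => by
    induction x using QuotientGroup.induction_on with
    | _ w => rw [hit, orderOf_dvd_iff_pow_eq_one.1 ho.dvd]; rfl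
  have hp0 : 0 < p := (Fact.out : p.Prime).pos
  let e : Equiv.Perm (Q ⧸ L') := ⟨g, g^[p - 1],
    fun x => by rw [← Function.iterate_succ_apply, Nat.succ_eq_add_one, Nat.sub_add_cancel hp0, hgp]; rfl,
    fun x => by rw [← Function.iterate_succ_apply' (f := g), Nat.succ_eq_add_one, Nat.sub_add_cancel hp0, hgp]; rfl⟩
  intro v
  have he : ∀ x, e x = g x := fun x => rfl
  have h := EssentialCube.perm_eq_one (p := p) ((Subgroup.index_eq_card L').symm.trans hi) e
    (x₀ := QuotientGroup.mk 1) (by rw [he, ← Function.iterate_one g, hit, pow_one, map_one]) 1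
    (Equiv.ext fun x => by rw [pow_one, ← Equiv.Perm.iterate_eq_pow]; exact congrFun hgp x) (QuotientGroup.mk v)
  exact QuotientGroup.eq.1 h.symm

theorem core_facts [Finite H] {a : ℕ} (ha : ∀ x : H, x ^ p ^ a = 1) {A : Subgroup (MulAut H)}
    (hno : ∀ N : Subgroup A, N.Normal → IsPGroup p N → N = ⊥) (hdvd : p ∣ Nat.card A)
    (hrk : (Pw p H 1).index ≤ p ^ 2) :
    (Pw p H 1).index = p ^ 2 ∧ (∀ x : H, x ^ p ^ (a - 1) = 1 → a ≠ 0 → (∃ y : H, y ^ p ^ (a - 1) ≠ 1) → x ∈ Pw p H 1) ∧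
      (5 ≤ p → (∀ x : H, x ^ p = 1 → x ∈ Pw p H 1) → False) := by
  have hp : p.Prime := Fact.out
  haveI := finite_mulAut H
  haveI : Finite (MulAut (H ⧸ Pw p H 1)) := finite_mulAut _
  obtain ⟨α, hα⟩ := exists_prime_orderOf_dvd_card' p hdvd
  set ρ : A →* MulAut (H ⧸ Pw p H 1) := (rho p H).comp A.subtype
  have hρ : Function.Injective ρ := by
    rw [← MonoidHom.ker_eq_bot_iff]
    refine hno _ inferInstance ?_
    rw [← MonoidHom.comap_ker]
    exact (ker_rho ha).comap_of_injective _ Subtype.val_injective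
  have hρα : orderOf (ρ α) = p := by rw [orderOf_injective ρ hρ, hα]
  have hex : (p : ℕ) ∣ p ^ 2 := dvd_pow_self p two_ne_zero
  have hq : Nat.card (H ⧸ Pw p H 1) = (Pw p H 1).index := (Subgroup.index_eq_card _).symm
  have hexp : ∀ v : H ⧸ Pw p H 1, v ^ p = 1 := by
    rintro ⟨x⟩
    exact (QuotientGroup.eq_one_iff (x ^ p)).2 ⟨x, by simp⟩
  have hpg : IsPGroup p (H ⧸ Pw p H 1) := fun v => ⟨1, by rw [pow_one]; exact hexp v⟩
  obtain ⟨i, hi⟩ := hpg.exists_card_eq
  have hi2 : i = 2 := by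
    have hle : p ^ i ≤ p ^ 2 := by rw [← hi, hq]; exact hrk
    have := (Nat.pow_le_pow_iff_right hp.one_lt).1 hle
    by_contra hne
    have h1 : ρ α = 1 := by
      interval_cases i
      · haveI : Subsingleton (H ⧸ Pw p H 1) := (Nat.card_eq_one_iff_unique.1 (hi.trans (pow_zero p))).1
        exact MulEquiv.ext fun v => Subsingleton.elim _ _
      · refine MulEquiv.ext fun v => ?_
        have := EssentialCube.layer_fixed (p := p) (K := (⊥ : Subgroup (H ⧸ Pw p H 1))) (L := ⊤) bot_le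
          (by rw [Subgroup.relIndex_top_right, Subgroup.index_bot, hi, pow_one]) (ρ α)
          (fun β w hw => by rw [Subgroup.mem_bot] at hw ⊢; rw [hw, map_one]) (fun _ _ _ => Subgroup.mem_top _) 1
          (by rw [pow_one]; exact orderOf_dvd_iff_pow_eq_one.1 hρα.dvd) v (Subgroup.mem_top v)
        rw [Subgroup.mem_bot, inv_mul_eq_one] at this
        exact this.symm
      · omega
    rw [h1, orderOf_one] at hρα
    exact hp.one_lt.ne hρα
  subst hi2
  refine ⟨hq.symm.trans hi, fun x hx ha0 hy => ?_, fun hp5 hsmall => ?_⟩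
  · by_contra hxP
    set L := (powMonoidHom (α := H) (p ^ (a - 1))).ker
    set L' := L.map (QuotientGroup.mk' (Pw p H 1))
    have hPL : Pw p H 1 ≤ L := by
      rintro _ ⟨z, rfl⟩
      show (z ^ p ^ 1) ^ p ^ (a - 1) = 1
      rw [← pow_mul, ← pow_add, show 1 + (a - 1) = a by omega, ha]
    have hL'i : ∀ β : A, ∀ v ∈ L', ρ β v ∈ L' := by
      rintro β _ ⟨z, hz, rfl⟩
      refine ⟨(β : MulAut H) z, ?_, rfl⟩
      show ((β : MulAut H) z) ^ p ^ (a - 1) = 1
      rw [← map_pow, show z ^ p ^ (a - 1) = 1 from hz, map_one]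
    have hL'c : Nat.card L' = p := by
      obtain ⟨j, hj, hj'⟩ := (Nat.dvd_prime_pow hp).1 (hi ▸ Subgroup.card_subgroup_dvd_card L')
      interval_cases j
      · exfalso
        have hb := Subgroup.card_eq_one.1 (hj'.trans (pow_zero p))
        have : (QuotientGroup.mk x : H ⧸ Pw p H 1) ∈ L' := ⟨x, hx, rfl⟩
        rw [hb, Subgroup.mem_bot, QuotientGroup.eq_one_iff] at this
        exact hxP this
      · simpa using hj'
      · exfalso
        obtain ⟨y, hy⟩ := hy
        have ht : L' = ⊤ := Subgroup.eq_top_of_card_eq _ (hj'.trans hi.symm)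
        obtain ⟨z, hz, hze⟩ := ht.ge (Subgroup.mem_top (QuotientGroup.mk' (Pw p H 1) y))
        rw [QuotientGroup.mk'_eq_mk'] at hze
        obtain ⟨w, hw, rfl⟩ := hze
        exact hy (by rw [mul_pow, show z ^ p ^ (a - 1) = 1 from hz, show w ^ p ^ (a - 1) = 1 from hPL hw, mul_one])
    have hidx : L'.relIndex ⊤ = p := by
      rw [Subgroup.relIndex_top_right]
      have h := Subgroup.card_mul_index L'
      rw [hL'c, hi, sq] at h
      exact mul_left_cancel₀ hp.ne_zero h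
    let N : Subgroup A :=
      { carrier := {β | (∀ v ∈ L', ρ β v = v) ∧ ∀ v, v⁻¹ * ρ β v ∈ L'}
        one_mem' := ⟨fun v _ => by simp, fun v => by simp⟩
        mul_mem' := by
          rintro β γ ⟨b1, b2⟩ ⟨c1, c2⟩
          refine ⟨fun v hv => by rw [map_mul, MulAut.mul_apply, c1 v hv, b1 v hv], fun v => ?_⟩
          rw [map_mul, MulAut.mul_apply, show v⁻¹ * ρ β (ρ γ v) = (v⁻¹ * ρ γ v) * ((ρ γ v)⁻¹ * ρ β (ρ γ v)) by group]
          exact mul_mem (c2 v) (b2 _)
        inv_mem' := by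
          rintro β ⟨b1, b2⟩
          refine ⟨fun v hv => ?_, fun v => ?_⟩
          · conv_lhs => rw [← b1 v hv]
            rw [← MulAut.mul_apply, ← map_mul, inv_mul_cancel, map_one, MulAut.one_apply]
          · have := b2 (ρ β⁻¹ v)
            rw [← MulAut.mul_apply, ← map_mul, mul_inv_cancel, map_one, MulAut.one_apply] at this
            simpa using inv_mem this }
    have hNn : N.Normal := ⟨fun β ⟨b1, b2⟩ γ => by
      refine ⟨fun v hv => ?_, fun v => ?_⟩
      · rw [map_mul, map_mul, MulAut.mul_apply, MulAut.mul_apply, b1 _ (hL'i γ⁻¹ v hv), ← MulAut.mul_apply,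
          ← map_mul, mul_inv_cancel, map_one, MulAut.one_apply]
      · have := hL'i γ _ (b2 (ρ γ⁻¹ v))
        rw [map_mul, map_inv, ← MulAut.mul_apply, ← map_mul, mul_inv_cancel, map_one, MulAut.one_apply] at this
        rw [map_mul, map_mul, MulAut.mul_apply, MulAut.mul_apply]
        exact this⟩
    have hNp : IsPGroup p N := fun ⟨β, b1, b2⟩ => ⟨2, Subtype.ext (hρ (by
      show ρ (β ^ p ^ 2) = ρ 1
      rw [map_one, map_pow, ← hi]
      exact MulEquiv.ext fun v => EssentialCube.lift_fixed (K := L') (L := ⊤) (ρ β) b1 (fun w _ => b2 w) v (Subgroup.mem_top v)))⟩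
    have hαN : α ∈ N := by
      refine ⟨fun v hv => ?_, fun v => ?_⟩
      · exact layer_bot hL'c (ρ α) (hL'i α) hρα v hv
      · exact layer_top hidx (ρ α) (hL'i α) hρα v
    have := hno N hNn hNp
    rw [this, Subgroup.mem_bot] at hαN
    rw [hαN, orderOf_one] at hα
    exact hp.one_lt.ne hα
  · obtain ⟨z, -, hz, hzfix, hzd⟩ := EssentialSmall.transvection hi hρα
    have hd2 : ∀ x, dlt (α : MulAut H) (dlt (α : MulAut H) x) ∈ Pw p H 1 := fun x => by
      rw [dlt_mem_iff]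
      obtain ⟨j, hj⟩ := Subgroup.mem_zpowers_iff.1 (hzd (QuotientGroup.mk x))
      have he : (QuotientGroup.mk (dlt (α : MulAut H) x) : H ⧸ Pw p H 1) = z ^ j := by
        rw [hj]; rfl
      rw [he, map_zpow]
      exact congrArg (· ^ j) hz
    have hall := no_transvection hp5 (α : MulAut H)
      (by rw [← SubmonoidClass.coe_pow, orderOf_dvd_iff_pow_eq_one.1 hα.dvd]; rfl) hd2 hsmall
    have : ρ α = 1 := MulEquiv.ext fun v => by
      induction v using QuotientGroup.induction_on with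
      | _ x => exact (dlt_mem_iff _ x).1 (hall x)
    rw [this, orderOf_one] at hρα
    exact hp.one_lt.ne hρα

theorem main {Ω : Type u} [Group Ω] {S : Subgroup Ω} [Finite S] (hS : IsPGroup p S)
    (F : FusionSystem S) (P : Subgroup Ω) (hP : F.IsEssential p P) (hab : IsMulCommutative ↥P)
    (hrk : (frattini ↥P).index ≤ p ^ 2) :
    (Cfsg.IsElementaryAbelian p P ∧ Nat.card P = p ^ 2) ∨
      (p ≤ 3 ∧ ∃ k : ℕ, Nonempty (↥P ≃* Multiplicative (ZMod (p ^ k) × ZMod (p ^ k)))) := by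
  have hp : p.Prime := Fact.out
  obtain ⟨hc, -, hn, E, hE⟩ := hP
  have hPS := hc.1
  haveI := finite_of_le hPS
  haveI := finite_autGroup F hPS
  letI : CommGroup P := { (inferInstance : Group P) with mul_comm := hab.is_comm.comm }
  have hPp : IsPGroup p P := hS.to_le hPS
  have hfr : frattini P = Pw p P 1 := by
    refine le_antisymm (CfsgLib.Core.frattini_le_of_elementary ?_ fun x => ⟨x, by show x ^ p ^ 1 = x ^ p; rw [pow_one]⟩) ?_
    · rw [commutator_def, Subgroup.commutator_le]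
      intro x _ y _
      rw [commutatorElement_eq_one_iff_mul_comm.2 (mul_comm x y)]
      exact one_mem _
    · rintro _ ⟨z, rfl⟩
      show z ^ p ^ 1 ∈ frattini P
      rw [pow_one]
      exact CfsgLib.Core.pgroup_pow_mem_frattini hPp z
  rw [hfr] at hrk
  have hInn : (Inn P).subgroupOf (F.autGroup P) = ⊥ := by
    rw [Subgroup.eq_bot_iff_forall]
    rintro ⟨α, hα⟩ h
    obtain ⟨g, hg, he⟩ := mem_inn_iff.mp (Subgroup.mem_subgroupOf.1 h)
    refine Subtype.ext (autFun_inj fun y hy => ?_)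
    have : (⟨g, hg⟩ : P) * ⟨y, hy⟩ = ⟨y, hy⟩ * ⟨g, hg⟩ := hab.is_comm.comm _ _
    rw [he y hy, show g * y = y * g from congrArg Subtype.val this, mul_inv_cancel_right, Subgroup.coe_one,
      autFun_one hy]
  have hno : ∀ N : Subgroup (F.autGroup P), N.Normal → IsPGroup p N → N = ⊥ := by
    intro N hN hNp
    haveI := hN.map (QuotientGroup.mk' ((Inn P).subgroupOf (F.autGroup P))) (QuotientGroup.mk'_surjective _)
    have h := eq_bot_of_normal_pGroup hE (N.map (QuotientGroup.mk' ((Inn P).subgroupOf (F.autGroup P)))) (hNp.map _)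
    rwa [Subgroup.map_eq_bot_iff, QuotientGroup.ker_mk', hInn, le_bot_iff] at h
  have hdvd : p ∣ Nat.card (F.autGroup P) := hE.1.trans (Subgroup.card_quotient_dvd_card _)
  -- the exponent
  obtain ⟨g, hg⟩ := Finite.exists_max (fun x : P => orderOf x)
  obtain ⟨a, ha⟩ := IsPGroup.iff_orderOf.1 hPp g
  have hexp : ∀ x : P, x ^ p ^ a = 1 := fun x => by
    obtain ⟨b, hb⟩ := IsPGroup.iff_orderOf.1 hPp x
    refine orderOf_dvd_iff_pow_eq_one.1 (hb ▸ pow_dvd_pow p ?_)
    have := hg x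
    simp only [ha, hb] at this
    exact (Nat.pow_le_pow_iff_right hp.one_lt).1 this
  obtain ⟨hi, hL, h5⟩ := core_facts hexp hno hdvd hrk
  have ha0 : a ≠ 0 := fun h => by
    subst h
    have hall : ∀ x : P, x = 1 := fun x => by simpa using hexp x
    have : Pw p P 1 = ⊤ := (Subgroup.eq_top_iff' _).2 fun x => by rw [hall x]; exact one_mem _
    rw [this, Subgroup.index_top] at hi
    exact (Nat.one_lt_pow two_ne_zero hp.one_lt).ne hi
  have hgne : g ^ p ^ (a - 1) ≠ 1 := fun h => by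
    have := orderOf_dvd_of_pow_eq_one h
    rw [ha, Nat.pow_dvd_pow_iff_le_right hp.one_lt] at this
    omega
  have hL' : ∀ x : P, x ^ p ^ (a - 1) = 1 → x ∈ Pw p P 1 := fun x hx => hL x hx ha0 ⟨g, hgne⟩
  by_cases ha1 : a = 1
  · subst ha1
    have hb : Pw p P 1 = ⊥ := (Subgroup.eq_bot_iff_forall _).2 (by rintro _ ⟨z, rfl⟩; exact hexp z)
    refine Or.inl ⟨⟨hab, fun x hx => ?_⟩, ?_⟩
    · have := congrArg Subtype.val (hexp ⟨x, hx⟩)
      simpa using this
    · rw [← hi, hb, Subgroup.index_bot]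
  · refine Or.inr ⟨?_, a, homocyclic hexp hL' hi hfr⟩
    by_contra h3
    have h4 : p ≠ 4 := fun h => by rw [h] at hp; norm_num at hp
    refine h5 (by omega) fun x hx => hL' x ?_
    obtain ⟨r, hr⟩ : ∃ r, a - 1 = 1 + r := ⟨a - 2, by omega⟩
    rw [hr, pow_add, pow_one, pow_mul, hx, one_pow]

end CfsgLib.TwoFusion.EssentialAbelian
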