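import Cfsg.Agent.Lib.FusionNormal
import Cfsg.Agent.Lib.CoreBasic

/-!
# Stability passes to and comes from normalizer systems
-/

set_option autoImplicit false

namespace CfsgLib.TwoFusion.PStableNormalizer

open CfsgLib.Fusion Cfsg Cfsg.FusionSystem

variable {Ω : Type*} [Group Ω] {S : Subgroup Ω} [Finite S] {p : ℕ} [Fact p.Prime] {F : FusionSystem S}

/-- The stability condition of a system. -/
def Stable {T : Subgroup Ω} (p : ℕ) (E : FusionSystem T) : Prop :=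
  ∀ Q : Subgroup Ω, E.IsFullyNormalized Q → ∀ χ : MulAut ↥Q, χ ∈ E.autGroup Q →
    (∀ a : ↥Q, (χ a⁻¹) * a * (χ a⁻¹) * (χ (χ a)) = 1) →
    χ ∈ ((Cfsg.pCore p ↥(E.autGroup Q)).map (E.autGroup Q).subtype : Subgroup (MulAut ↥Q))

theorem stable_all (hS : IsPGroup p S) (hF : F.IsSaturated p) (h : Stable p F) {Q : Subgroup Ω} (hQ : Q ≤ S)
    {χ : MulAut ↥Q} (hχ : χ ∈ F.autGroup Q) (hq : ∀ a : ↥Q, (χ a⁻¹) * a * (χ a⁻¹) * (χ (χ a)) = 1) :
    χ ∈ ((Cfsg.pCore p ↥(F.autGroup Q)).map (F.autGroup Q).subtype : Subgroup (MulAut ↥Q)) := by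
  obtain ⟨Q', k, hfn, hk, himg⟩ := exists_fullyNormalized_map hS hF hQ
  have hk' := hk.restrict (le_normalizerIn hQ)
  obtain ⟨e, he⟩ := hk'.exists_equiv himg
  obtain ⟨g, hg, hgk, hkg, himg'⟩ := hk'.exists_inv
  rw [himg] at hg himg'
  have he' : ∀ y : Q', ((e.symm y : Q) : Ω) = g y := fun y => by
    conv_rhs => rw [← e.apply_symm_apply y, he]
    exact (hgk _ (e.symm y).2).symm
  have hmap : (F.autGroup Q).map (MulAut.congr e).toMonoidHom = F.autGroup Q' := by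
    refine le_antisymm ?_ fun β hβ => ⟨MulAut.congr e.symm β, congr_mem_autGroup hg himg' he' hβ, ?_⟩
    · rintro _ ⟨α, hα, rfl⟩
      exact congr_mem_autGroup hk' himg he hα
    · ext y
      simp [MulAut.congr]
  let f : ↥(F.autGroup Q) ≃* ↥(F.autGroup Q') :=
    ((F.autGroup Q).equivMapOfInjective _ (MulAut.congr e).injective).trans (MulEquiv.subgroupCongr hmap)
  have hq' : ∀ a : ↥Q', (MulAut.congr e χ a⁻¹) * a * (MulAut.congr e χ a⁻¹) * (MulAut.congr e χ (MulAut.congr e χ a)) = 1 := by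
    intro a
    obtain ⟨b, rfl⟩ := e.surjective a
    have hc : ∀ c : Q, MulAut.congr e χ (e c) = e (χ c) := fun c => by simp [MulAut.congr]
    rw [← map_inv, hc, hc, hc, ← map_mul, ← map_mul, ← map_mul, hq b, map_one]
  obtain ⟨w, hw, hwe⟩ := h Q' hfn _ (congr_mem_autGroup hk' himg he hχ) hq'
  refine ⟨⟨χ, hχ⟩, ?_, rfl⟩
  rw [← CfsgLib.Core.map_pCore_of_mulEquiv p f] at hw
  obtain ⟨v, hv, rfl⟩ := hw
  have : v = ⟨χ, hχ⟩ := Subtype.ext ((MulAut.congr e).injective hwe)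
  exact this ▸ hv

theorem mem_pCore_of_cyclic {Q : Subgroup Ω} [Finite Q] (hQp : IsPGroup p Q) [IsCyclic Q] (A : Subgroup (MulAut Q))
    {χ : MulAut Q} (hχ : χ ∈ A) (hq : ∀ a : ↥Q, (χ a⁻¹) * a * (χ a⁻¹) * (χ (χ a)) = 1) :
    χ ∈ ((Cfsg.pCore p A).map A.subtype : Subgroup (MulAut ↥Q)) := by
  letI : CommGroup Q := IsCyclic.commGroup
  have hcomm : ∀ u v : MulAut Q, u * v = v * u := by
    obtain ⟨g, hg⟩ := IsCyclic.exists_generator (α := Q)
    intro u v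
    obtain ⟨i, hi⟩ := Subgroup.mem_zpowers_iff.1 (hg (u g))
    obtain ⟨j, hj⟩ := Subgroup.mem_zpowers_iff.1 (hg (v g))
    refine MulEquiv.ext fun a => ?_
    obtain ⟨l, rfl⟩ := Subgroup.mem_zpowers_iff.1 (hg a)
    simp only [MulAut.mul_apply, map_zpow, ← hi, ← hj, ← zpow_mul, mul_comm i j]
  have hd : ∀ a : Q, χ (a⁻¹ * χ a) = a⁻¹ * χ a := fun a => by
    have h := hq a
    rw [map_inv] at h
    rw [map_mul, map_inv]
    rw [show (χ a)⁻¹ * a * (χ a)⁻¹ * χ (χ a) = ((a⁻¹ * χ a))⁻¹ * ((χ a)⁻¹ * χ (χ a)) by group] at h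
    exact (inv_mul_eq_one.1 h).symm
  have hit : ∀ (n : ℕ) (a : Q), (χ ^ n) a = a * (a⁻¹ * χ a) ^ n := by
    intro n
    induction n with
    | zero => intro a; simp
    | succ n ih =>
      intro a
      rw [pow_succ', MulAut.mul_apply, ih, map_mul, map_pow, hd, pow_succ', ← mul_assoc, mul_inv_cancel_left]
  obtain ⟨N, hN⟩ := IsPGroup.iff_card.1 hQp
  have hχp : χ ^ p ^ N = 1 := MulEquiv.ext fun a => by
    rw [hit, MulAut.one_apply, ← hN, pow_card_eq_one', mul_one]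
  let K : Subgroup A := Subgroup.zpowers ⟨χ, hχ⟩
  have hK : IsPGroup p K := fun ⟨v, hv⟩ => ⟨N, Subtype.ext (by
    obtain ⟨i, rfl⟩ := Subgroup.mem_zpowers_iff.1 hv
    show ((⟨χ, hχ⟩ : A) ^ i) ^ p ^ N = 1
    rw [← zpow_natCast, ← zpow_mul, mul_comm, zpow_mul, zpow_natCast,
      show (⟨χ, hχ⟩ : A) ^ p ^ N = 1 from Subtype.ext hχp, one_zpow])⟩
  have hKn : K.Normal := ⟨fun v hv w => by
    rw [show w * v * w⁻¹ = v from Subtype.ext (by
      push_cast; rw [hcomm (w : MulAut Q) v, mul_inv_cancel_right])]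
    exact hv⟩
  exact ⟨_, CfsgLib.Core.le_pCore hKn hK (Subgroup.mem_zpowers _), rfl⟩

theorem fwd (hS : IsPGroup p S) (hF : F.IsSaturated p) (h : Stable p F) {R : Subgroup Ω} (hR : R ≤ S)
    (N : FusionSystem (normalizerIn S R)) (hN : F.IsNormalizerSystem R N) : Stable p N := by
  intro Q hQ χ hχ hq
  have hQS : Q ≤ S := hQ.1.trans (normalizerIn_le S R)
  have hle : N.autGroup Q ≤ F.autGroup Q := fun α hα =>
    (mem_autGroup_iff hQS).2 ((map_of_isNormalizerSystem hN).1 ((mem_autGroup_iff hQ.1).1 hα)).1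
  obtain ⟨w, hw, hwe⟩ := stable_all hS hF h hQS (hle hχ) hq
  let ι : ↥(N.autGroup Q) →* ↥(F.autGroup Q) := Subgroup.inclusion hle
  haveI := CfsgLib.Core.normal_pCore p (G := ↥(F.autGroup Q))
  haveI := finite_autGroup F hQS
  have hp : IsPGroup p ((Cfsg.pCore p ↥(F.autGroup Q)).comap ι) :=
    (CfsgLib.Core.isPGroup_pCore p).comap_of_injective ι (Subgroup.inclusion_injective hle)
  refine ⟨⟨χ, hχ⟩, CfsgLib.Core.le_pCore (inferInstance : ((Cfsg.pCore p ↥(F.autGroup Q)).comap ι).Normal) hp ?_, rfl⟩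
  rw [Subgroup.mem_comap]
  have : w = ι ⟨χ, hχ⟩ := Subtype.ext hwe
  exact this ▸ hw

theorem bwd (hS : IsPGroup p S)
    (h : ∀ R : Subgroup Ω, F.IsFullyNormalized R → ¬ IsCyclic ↥R →
      ∀ N : FusionSystem (normalizerIn S R), F.IsNormalizerSystem R N → Stable p N) : Stable p F := by
  intro Q hQ χ hχ hq
  by_cases hc : IsCyclic ↥Q
  · haveI := finite_of_le hQ.1
    exact mem_pCore_of_cyclic (hS.to_le hQ.1) _ hχ hq
  obtain ⟨N, hN⟩ := exists_normalizerSystem F hQ.1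
  have hQN : Q ≤ normalizerIn S Q := le_normalizerIn hQ.1
  have hfn : N.IsFullyNormalized Q := by
    refine ⟨hQN, fun Q' hc' => ?_⟩
    obtain ⟨f, hf, rfl⟩ := isConj_iff.1 hc'
    obtain ⟨-, -, -, k, -, hkf, hkQ⟩ := (map_of_isNormalizerSystem hN).1 hf
    rw [show img f Q = Q from (img_congr fun x hx => (hkf x hx).symm).trans hkQ]
  have heq : N.autGroup Q = F.autGroup Q := by
    ext α
    rw [mem_autGroup_iff hQN, mem_autGroup_iff hQ.1, map_of_isNormalizerSystem hN]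
    refine ⟨And.left, fun hf => ⟨hf, hQN, fun x hx => hQN (autFun_mem α hx), autFun α, ?_, fun _ _ => rfl, img_autFun α⟩⟩
    rw [sup_idem]; exact hf
  have := h Q hQ hc N hN Q hfn χ (heq.ge hχ) hq
  rwa [heq] at this

end CfsgLib.TwoFusion.PStableNormalizer
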