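import Cfsg.Agent.Lib.FusionSeries
import Cfsg.Agent.Lib.FusionEssential
import Cfsg.Agent.Lib.FusionHyperfocal
import Cfsg.Agent.Lib.FusionFocal
import Cfsg.Agent.Lib.TransferPGroups

/-!
# Control by elements of order `p` or `4`
-/

set_option autoImplicit false

universe u

namespace CfsgLib.TwoFusion.SmallOrder

open CfsgLib.Fusion Cfsg Cfsg.FusionSystem
open scoped commutatorElement

variable {p : ℕ} [hp : Fact p.Prime]

/-- Elements of order dividing `p`, or `4` if `p = 2`. -/
def Small {G : Type u} [Group G] (p : ℕ) (x : G) : Prop := x ^ p = 1 ∨ (p = 2 ∧ x ^ 4 = 1)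

theorem small_map {G H : Type u} [Group G] [Group H] (f : G →* H) {x : G} (h : Small p x) : Small p (f x) := by
  rcases h with h | ⟨e, h⟩
  · exact Or.inl (by rw [← map_pow, h, map_one])
  · exact Or.inr ⟨e, by rw [← map_pow, h, map_one]⟩

theorem aut_eq_one_of_small {G : Type u} [Group G] [Finite G] (hG : IsPGroup p G) (a : MulAut G)
    {m : ℕ} (hm : ¬ p ∣ m) (ham : a ^ m = 1) (h : ∀ x : G, Small p x → a x = x) : a = 1 := by
  let L := SemidirectProduct G (Subgroup.zpowers a) (Subgroup.zpowers a).subtype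
  haveI : Finite (MulAut G) := Finite.of_injective _ DFunLike.coe_injective
  haveI : Finite L := Finite.of_equiv _ SemidirectProduct.equivProd.symm
  let inl : G →* L := SemidirectProduct.inl
  let g : L := SemidirectProduct.inr ⟨a, Subgroup.mem_zpowers a⟩
  have hconj : ∀ x, g * inl x * g⁻¹ = inl (a x) := fun x =>
    ((SemidirectProduct.inl_aut (φ := (Subgroup.zpowers a).subtype) ⟨a, Subgroup.mem_zpowers a⟩ x).trans
      (by rw [map_inv])).symm
  have hord : orderOf g = orderOf a := by
    rw [orderOf_injective _ SemidirectProduct.inr_injective, ← Subgroup.orderOf_coe]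
  have hinj : Function.Injective inl := SemidirectProduct.inl_injective
  haveI : inl.range.Normal := SemidirectProduct.range_inl_eq_ker_rightHom (φ := (Subgroup.zpowers a).subtype) ▸ MonoidHom.normal_ker _
  have hgN : g ∈ Subgroup.normalizer (inl.range : Set L) :=
    (Subgroup.normalizer_eq_top (H := inl.range)).ge (Subgroup.mem_top _)
  have hcop : (orderOf g).Coprime p := hord ▸
    ((hp.out.coprime_iff_not_dvd.2 hm).symm.coprime_dvd_left (orderOf_dvd_of_pow_eq_one ham))
  have hC := CfsgLib.Core.mem_centralizer_of_fixes_omega (Q := inl.range)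
    (hG.of_surjective inl.rangeRestrict inl.rangeRestrict_surjective) hgN hcop (by
      rintro _ ⟨x, rfl⟩ hx
      rw [hconj]
      refine congrArg inl (h x ?_)
      rcases hx with hx | ⟨e, hx⟩
      · exact Or.inl (hinj (by rw [map_pow, map_one, hx]))
      · exact Or.inr ⟨e, hinj (by rw [map_pow, map_one, hx])⟩)
  refine MulEquiv.ext fun x => hinj ?_
  show inl (a x) = inl x
  rw [← hconj, ← Subgroup.mem_centralizer_iff.mp hC (inl x) ⟨x, rfl⟩, mul_inv_cancel_right]

/-- A characteristic subgroup consisting of small elements that detects coprime automorphisms. -/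
theorem exists_detecting {G : Type u} [Group G] [Finite G] (hG : IsPGroup p G) :
    ∃ U : Subgroup G, U.Characteristic ∧ (∀ u ∈ U, Small p u) ∧
      ∀ (a : MulAut G) (m : ℕ), ¬ p ∣ m → a ^ m = 1 → (∀ u ∈ U, a u = u) → a = 1 := by
  obtain ⟨C, hC, hfr, hcomm, hcent⟩ := CfsgLib.Transfer.exists_critical (p := p) hG
  have hpow : ∀ x ∈ C, ∀ y ∈ C, x ^ p * y = y * x ^ p := fun x hx y hy => by
    have h1 : x ^ p ∈ Subgroup.centralizer (C : Set G) :=
      hfr ⟨(⟨x, hx⟩ : C) ^ p, CfsgLib.Core.pgroup_pow_mem_frattini (hG.to_subgroup C) _, rfl⟩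
    exact (Subgroup.mem_centralizer_iff.1 h1 y hy).symm
  have hclass : ∀ x ∈ C, ∀ y, ∀ z ∈ C, ⁅x, y⁆ * z = z * ⁅x, y⁆ := fun x hx y z hz =>
    (Subgroup.mem_centralizer_iff.1
      (hcomm (Subgroup.commutator_mem_commutator hx (Subgroup.mem_top y))).2 z hz).symm
  let U : Subgroup G :=
    { carrier := {x | x ∈ C ∧ Small p x}
      one_mem' := ⟨one_mem _, Or.inl (one_pow p)⟩
      inv_mem' := fun {x} ⟨h1, h2⟩ => ⟨inv_mem h1, h2.imp (fun e => by rw [inv_pow, e, inv_one])
        fun e => ⟨e.1, by rw [inv_pow, e.2, inv_one]⟩⟩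
      mul_mem' := fun {x z} ⟨hx, sx⟩ ⟨hz, sz⟩ => by
        refine ⟨mul_mem hx hz, ?_⟩
        set c := ⁅z, x⁆ with hcdef
        have hcx : c * x = x * c := hclass z hz x x hx
        have hcz : c * z = z * c := hclass z hz x z hz
        have hmul := CfsgLib.Core.mul_pow_of_central hcx hcz
        have hcn : ∀ n : ℕ, z ^ n * x * (z ^ n)⁻¹ = c ^ n * x := by
          intro n
          induction n with
          | zero => simp
          | succ n ih =>
            have hzc : z * c ^ n = c ^ n * z := ((show Commute c z from hcz).pow_left n).eq.symm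
            calc z ^ (n + 1) * x * (z ^ (n + 1))⁻¹ = z * (z ^ n * x * (z ^ n)⁻¹) * z⁻¹ := by
                  rw [pow_succ']; group
              _ = c ^ n * (z * x * z⁻¹) := by rw [ih, ← mul_assoc, hzc]; group
              _ = c ^ (n + 1) * x := by
                  rw [show z * x * z⁻¹ = c * x by rw [hcdef, commutatorElement_def]; group, pow_succ, mul_assoc]
        have hcp : c ^ p = 1 := by
          have h := hcn p
          rw [hpow z hz x hx, mul_inv_cancel_right] at h
          exact mul_eq_right.1 h.symm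
        rcases eq_or_ne p 2 with rfl | hp2
        · have h4 : ∀ w : G, Small 2 w → w ^ 4 = 1 := fun w hw => by
            rcases hw with e | e
            · rw [show 4 = 2 * 2 from rfl, pow_mul, e, one_pow]
            · exact e.2
          refine Or.inr ⟨rfl, ?_⟩
          rw [hmul 4, h4 x sx, h4 z sz, one_mul, one_mul, show Nat.choose 4 2 = 2 * 3 from rfl, pow_mul, hcp, one_pow]
        · refine Or.inl ?_
          obtain ⟨d, hd⟩ := hp.out.dvd_choose_self (k := 2) two_ne_zero (lt_of_le_of_ne hp.out.two_le (Ne.symm hp2))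
          rcases sx with ex | ex
          · rcases sz with ez | ez
            · rw [hmul p, ex, ez, one_mul, one_mul, hd, pow_mul, hcp, one_pow]
            · exact absurd ez.1 hp2
          · exact absurd ex.1 hp2 }
  refine ⟨U, ?_, fun u hu => hu.2, fun a m hm ham hfix => ?_⟩
  · rw [Subgroup.characteristic_iff_le_comap]
    rintro φ x ⟨hx, sx⟩
    exact ⟨Subgroup.characteristic_iff_le_comap.1 hC φ hx, small_map φ.toMonoidHom sx⟩
  · have hinv : ∀ x, x ∈ C → a x ∈ C := fun x hx => Subgroup.characteristic_iff_le_comap.1 hC a hx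
    have hmap : C.map a.toMonoidHom = C := Subgroup.characteristic_iff_map_eq.1 hC a
    let e : MulAut C := (a.subgroupMap C).trans (MulEquiv.subgroupCongr hmap)
    have he : ∀ (n : ℕ) (x : C), (((e ^ n) x : C) : G) = (a ^ n) x := by
      intro n
      induction n with
      | zero => intro x; rfl
      | succ n ih =>
        intro x
        rw [pow_succ', pow_succ', MulAut.mul_apply, MulAut.mul_apply, ← ih]
        rfl
    have hem : e ^ m = 1 := MulEquiv.ext fun x => Subtype.ext (by rw [he, ham]; rfl)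
    have he1 : e = 1 := aut_eq_one_of_small (hG.to_subgroup C) e hm hem fun x sx => Subtype.ext (by
      have := he 1 x
      rw [pow_one, pow_one] at this
      rw [this, hfix x ⟨x.2, small_map C.subtype sx⟩])
    refine CfsgLib.Transfer.aut_eq_one_of_self_centralizing C inferInstance (hG.to_subgroup C) hcent a
      ((hp.out.coprime_iff_not_dvd.2 hm).symm.coprime_dvd_left (orderOf_dvd_of_pow_eq_one ham)) fun x hx => ?_
    have := he 1 ⟨x, hx⟩
    rw [pow_one, pow_one, he1] at this
    exact this.symm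

variable {Ω : Type u} [Group Ω] {S : Subgroup Ω} [Finite S] {F : FusionSystem S} {P : Subgroup Ω}

theorem exists_restrict (hP : P ≤ S) {α : MulAut P} (hα : α ∈ F.autGroup P) {D : Subgroup Ω}
    (hDP : D ≤ P) (hinv : ∀ x ∈ D, autFun α x ∈ D) :
    ∃ β ∈ F.autGroup D, (∀ n : ℕ, ∀ x ∈ D, autFun (β ^ n) x = autFun (α ^ n) x) := by
  haveI := finite_of_le (hDP.trans hP)
  have hm := ((mem_autGroup_iff hP).1 hα).restrict hDP
  have himg : img (autFun α) D = D :=
    eq_of_le_of_card_le (hDP.trans hP) (img_le_iff.mpr hinv) hm.card_img.ge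
  obtain ⟨β, hβ, he⟩ := hm.exists_aut himg
  exact ⟨β, hβ, fun n x hx => (autFun_pow_agree hDP (fun y hy => (he y hy).symm) n x hx).symm⟩

theorem fix_of_small (hS : IsPGroup p S) (hP : P ≤ S) {α : MulAut P} (hα : α ∈ F.autGroup P) {m : ℕ}
    (hm : ¬ p ∣ m) (hαm : α ^ m = 1) (D : Subgroup Ω) (hinv : ∀ x ∈ P, x ∈ D → autFun α x ∈ D)
    (h : ∀ x ∈ P, x ∈ D → Small p x → autFun α x = x) : ∀ x ∈ P, x ∈ D → autFun α x = x := by
  obtain ⟨β, -, he⟩ := exists_restrict hP hα (D := P ⊓ D) inf_le_left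
    fun x hx => ⟨autFun_mem α hx.1, hinv x hx.1 hx.2⟩
  haveI := finite_of_le ((inf_le_left : P ⊓ D ≤ P).trans hP)
  have hβm : β ^ m = 1 := autFun_inj fun x hx => by
    rw [he m x hx, hαm, autFun_one hx.1, autFun_one hx]
  have h1 : ∀ x ∈ P ⊓ D, autFun β x = autFun α x := fun x hx => by
    have := he 1 x hx
    rwa [pow_one, pow_one] at this
  have hβ1 : β = 1 := aut_eq_one_of_small (hS.to_le (inf_le_left.trans hP)) β hm hβm fun x sx =>
    Subtype.ext (by rw [← autFun_coe, h1 x x.2, h x x.2.1 x.2.2 (small_map (P ⊓ D).subtype sx)])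
  intro x hx hxD
  rw [← h1 x ⟨hx, hxD⟩, hβ1, autFun_one (show x ∈ P ⊓ D from ⟨hx, hxD⟩)]

theorem sub_hyperfocal (hP : P ≤ S) {α : MulAut P} (hα : α ∈ F.autGroup P) {m : ℕ}
    (hm : ¬ p ∣ m) (hαm : α ^ m = 1) : Stab α P (F.hyperfocalSubgroup p) := by
  intro x hx _
  refine mem_hyperfocal (α := ⟨α, hα⟩) hP (Subgroup.subset_closure ?_) hx
  show Nat.Coprime (orderOf (⟨α, hα⟩ : F.autGroup P)) p
  rw [← Subgroup.orderOf_coe]
  exact (hp.out.coprime_iff_not_dvd.2 hm).symm.coprime_dvd_left (orderOf_dvd_of_pow_eq_one hαm)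

theorem invariant_of_stab {α : MulAut P} {D : Subgroup Ω} (h : Stab α P D) {x : Ω} (hx : x ∈ P) (hxD : x ∈ D) :
    autFun α x ∈ D := by
  have := mul_mem hxD (h x hx hx)
  rwa [mul_inv_cancel_left] at this

theorem fix_all (hS : IsPGroup p S) (hP : P ≤ S) {α : MulAut P} (hα : α ∈ F.autGroup P) {m : ℕ}
    (hm : ¬ p ∣ m) (hαm : α ^ m = 1) {D : Subgroup Ω} (hD : Stab α P D)
    (h : ∀ x ∈ P, x ∈ D → Small p x → autFun α x = x) : α = 1 :=
  autFun_inj fun x hx => by
    rw [autFun_one hx]
    exact fixed_of_series hS hP hm hαm hD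
      (fix_of_small hS hP hα hm hαm D (fun y hy hyD => invariant_of_stab hD hy hyD) h) x hx hx

theorem lcs_le (i : ℕ) : S.lowerCentralSeries i ≤ S :=
  (S.lowerCentralSeries_antitone (Nat.zero_le i)).trans (Subgroup.lowerCentralSeries_zero S).le

theorem lcs_conj {i : ℕ} {x s : Ω} (hs : s ∈ S) (hx : x ∈ S.lowerCentralSeries i) :
    x⁻¹ * (s * x * s⁻¹) ∈ S.lowerCentralSeries (i + 1) := by
  rw [Subgroup.lowerCentralSeries_succ]
  have := Subgroup.commutator_mem_commutator (inv_mem hx) hs
  rwa [commutatorElement_def, inv_inv, show x⁻¹ * s * x * s⁻¹ = x⁻¹ * (s * x * s⁻¹) by group] at this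

theorem exists_lcs_bot (hS : IsPGroup p S) : ∃ n, S.lowerCentralSeries n = ⊥ := by
  obtain ⟨n, hn⟩ := Subgroup.nilpotent_iff_lowerCentralSeries.mp hS.isNilpotent
  exact ⟨n, by rw [← lowerCentralSeries_map, hn, Subgroup.map_bot]⟩

theorem small_card {x : Ω} (hx : Small p x) (h1 : x ≠ 1) :
    IsCyclic (Subgroup.zpowers x) ∧ (Nat.card (Subgroup.zpowers x) = p ∨ Nat.card (Subgroup.zpowers x) = 4) := by
  refine ⟨inferInstance, ?_⟩
  rw [Nat.card_zpowers]
  rcases hx with e | ⟨rfl, e⟩
  · exact Or.inl (((Nat.dvd_prime hp.out).1 (orderOf_dvd_of_pow_eq_one e)).resolve_left (mt orderOf_eq_one_iff.1 h1))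
  · obtain ⟨i, hi, he⟩ := (Nat.dvd_prime_pow Nat.prime_two).1
      (show orderOf x ∣ 2 ^ 2 from orderOf_dvd_of_pow_eq_one e)
    interval_cases i
    · exact absurd (orderOf_eq_one_iff.1 (he.trans (pow_zero 2))) h1
    · exact Or.inl (he.trans (pow_one 2))
    · exact Or.inr he

theorem small_autFun (α : MulAut P) {x : Ω} (hx : x ∈ P) (h : Small p x) : Small p (autFun α x) := by
  have h' : Small p (⟨x, hx⟩ : P) := h.imp (fun e => Subtype.ext e) fun e => ⟨e.1, Subtype.ext e.2⟩
  rw [autFun_apply α hx]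
  exact small_map P.subtype (small_map α.toMonoidHom h')

/-- The consequence used for inner systems. -/
theorem eq_inner (hS : IsPGroup p S) (hF : F.IsSaturated p)
    (h : ∀ A B : Subgroup Ω, A ≤ (F.hyperfocalSubgroup p) → B ≤ (F.hyperfocalSubgroup p) → IsCyclic ↥A →
      (Nat.card ↥A = p ∨ Nat.card ↥A = 4) → IsCyclic ↥B → (Nat.card ↥B = p ∨ Nat.card ↥B = 4) →
      F.homSet A B ⊆ (Cfsg.innerFusionSystem S).Hom A) :
    F = innerFusionSystem S := by
  refine eq_inner_of_pGroup_autGroups hS hF fun P hP => ?_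
  haveI := finite_of_le hP
  set H := F.hyperfocalSubgroup p
  rintro ⟨α₀, hα₀⟩
  obtain ⟨k, hk⟩ := pPower_of_all_powers (p := p) F hP (α := α₀) fun j m hm hjm => by
    set α := α₀ ^ j
    have hα : α ∈ F.autGroup P := pow_mem hα₀ j
    have hst := sub_hyperfocal hP hα hm hjm
    obtain ⟨n, hn⟩ := exists_lcs_bot hS
    refine fix_all hS hP hα hm hjm hst ?_
    suffices key : ∀ d i : ℕ, i + d = n → ∀ x ∈ P, x ∈ H → x ∈ S.lowerCentralSeries i → Small p x →
        autFun α x = x from fun x hx hxH sx => key n 0 (zero_add n) x hx hxH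
          (by rw [Subgroup.lowerCentralSeries_zero]; exact hP hx) sx
    intro d
    induction d with
    | zero =>
      intro i hi x hx _ hxK _
      rw [show i = n by omega, hn, Subgroup.mem_bot] at hxK
      subst hxK
      exact ((mem_autGroup_iff hP).1 hα).map_one
    | succ d ih =>
      intro i hi x hx hxH hxK sx
      rcases eq_or_ne x 1 with rfl | hx1
      · exact ((mem_autGroup_iff hP).1 hα).map_one
      let X : ℕ → Ω := fun j => autFun (α ^ j) x
      have hsucc : ∀ j, X (j + 1) = autFun α (X j) := fun j => by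
        show autFun (α ^ (j + 1)) x = _
        rw [pow_succ', autFun_mul _ _ hx]
      have hX : ∀ j, X j ∈ P ∧ X j ∈ H ∧ X j ∈ S.lowerCentralSeries i ∧ Small p (X j) ∧ X j ≠ 1 ∧
          (X j)⁻¹ * X (j + 1) ∈ S.lowerCentralSeries (i + 1) := by
        have step : ∀ y, y ∈ P → y ∈ H → y ∈ S.lowerCentralSeries i → Small p y → y ≠ 1 →
            y⁻¹ * autFun α y ∈ S.lowerCentralSeries (i + 1) := by
          intro y hy hyH hyK sy hy1
          have hy' : autFun α y ∈ H := invariant_of_stab hst hy hyH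
          have hy1' : autFun α y ≠ 1 := fun e => hy1 (by
            rw [← autFun_inv_apply α hy, e, ((mem_autGroup_iff hP).1 (inv_mem hα)).map_one])
          obtain ⟨φ, hφ, he⟩ := ((mem_autGroup_iff hP).1 hα).restrict (Subgroup.zpowers_le.2 hy)
          obtain ⟨hA1, hA2⟩ := small_card sy hy1
          obtain ⟨hB1, hB2⟩ := small_card (small_autFun α hy sy) hy1'
          have hmem : φ ∈ F.homSet (Subgroup.zpowers y) (Subgroup.zpowers (autFun α y)) := by
            refine ⟨hφ, ?_⟩
            rintro ⟨w, l, rfl⟩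
            have : (⟨y ^ l, ⟨l, rfl⟩⟩ : Subgroup.zpowers y) = ⟨y, Subgroup.mem_zpowers y⟩ ^ l := Subtype.ext (by simp)
            rw [this, map_zpow, he]
            exact ⟨l, rfl⟩
          obtain ⟨-, s, hs, hse⟩ := h _ _ (Subgroup.zpowers_le.2 hyH) (Subgroup.zpowers_le.2 hy') hA1 hA2 hB1 hB2 hmem
          have e1 : autFun α y = s * y * s⁻¹ := (he ⟨y, Subgroup.mem_zpowers y⟩).symm.trans (hse _)
          rw [e1]
          exact lcs_conj hs hyK
        intro j
        induction j with
        | zero =>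
          have e0 : X 0 = x := by show autFun (α ^ 0) x = x; rw [pow_zero, autFun_one hx]
          rw [hsucc, e0]
          exact ⟨hx, hxH, hxK, sx, hx1, step x hx hxH hxK sx hx1⟩
        | succ j ihj =>
          obtain ⟨a1, a2, a3, a4, a5, a6⟩ := ihj
          have b3 : X (j + 1) ∈ S.lowerCentralSeries i := by
            have := mul_mem a3 (S.lowerCentralSeries_antitone (Nat.le_succ i) a6)
            rwa [mul_inv_cancel_left] at this
          have b5 : X (j + 1) ≠ 1 := fun e => a5 (by
            rw [hsucc] at e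
            rw [← autFun_inv_apply α a1, e, ((mem_autGroup_iff hP).1 (inv_mem hα)).map_one])
          have b1 : X (j + 1) ∈ P := hsucc j ▸ autFun_mem α a1
          have b2 : X (j + 1) ∈ H := hsucc j ▸ invariant_of_stab hst a1 a2
          have b4 : Small p (X (j + 1)) := hsucc j ▸ small_autFun α a1 a4
          exact ⟨b1, b2, b3, b4, b5, by rw [hsucc (j + 1)]; exact step _ b1 b2 b3 b4 b5⟩
      let Y : Subgroup Ω := Subgroup.closure (Set.range fun j => (X j)⁻¹ * X (j + 1))
      have hYP : Y ≤ P := (Subgroup.closure_le _).2 (by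
        rintro _ ⟨j, rfl⟩; exact mul_mem (inv_mem (hX j).1) (hX (j + 1)).1)
      have hYK : Y ≤ S.lowerCentralSeries (i + 1) := (Subgroup.closure_le _).2 (by
        rintro _ ⟨j, rfl⟩; exact (hX j).2.2.2.2.2)
      have hYH : Y ≤ H := (Subgroup.closure_le _).2 (by
        rintro _ ⟨j, rfl⟩; exact mul_mem (inv_mem (hX j).2.1) (hX (j + 1)).2.1)
      have hm' := (mem_autGroup_iff hP).1 hα
      have hYinv₀ : ∀ y ∈ Y, autFun α y ∈ Y := by
        intro y hy
        induction hy using Subgroup.closure_induction with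
        | mem z hz =>
          obtain ⟨j, rfl⟩ := hz
          rw [hm'.map_mul (inv_mem (hX j).1) (hX (j + 1)).1, hm'.map_inv (hX j).1, ← hsucc, ← hsucc]
          exact Subgroup.subset_closure ⟨j + 1, rfl⟩
        | one => rw [hm'.map_one]; exact one_mem _
        | mul a b ha hb iha ihb => rw [hm'.map_mul (hYP ha) (hYP hb)]; exact mul_mem iha ihb
        | inv a ha iha => rw [hm'.map_inv (hYP ha)]; exact inv_mem iha
      have hYinv : ∀ y ∈ P, y ∈ Y → autFun α y ∈ Y := fun y _ hy => hYinv₀ y hy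
      have hfix := fix_of_small hS hP hα hm hjm Y hYinv fun y hy hyY sy =>
        ih (i + 1) (by omega) y hy (hYH hyY) (hYK hyY) sy
      have hd : (X 0)⁻¹ * X 1 ∈ Y := Subgroup.subset_closure ⟨0, rfl⟩
      have e0 : X 0 = x := by show autFun (α ^ 0) x = x; rw [pow_zero, autFun_one hx]
      rw [hsucc, e0] at hd
      obtain ⟨k, hk⟩ := hS ⟨_, hP (hYP hd)⟩
      exact (inv_mul_eq_one.mp (autFun_eq_of_fixed (p := p) α hx (hYP hd) (by rw [mul_inv_cancel_left])
        (hfix _ (hYP hd) hd) hm hjm ⟨k, by simpa using congrArg Subtype.val hk⟩)).symm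
  exact ⟨k, Subtype.ext (by simpa using hk)⟩

theorem focal_invariant (hP : P ≤ S) {α : MulAut P} (hα : α ∈ F.autGroup P) : Stab α P F.focalSubgroup :=
  fun _ hx _ => mem_focalSubgroup ((mem_autGroup_iff hP).1 hα) hx

/-- Small elements of the focal subgroup generating normal subgroups force normality. -/
theorem normal_of_small_normal (hS : IsPGroup p S) (hF : F.IsSaturated p)
    (hnorm : ∀ x ∈ F.focalSubgroup, (x ^ p = 1 ∨ (p = 2 ∧ x ^ 4 = 1)) →
      ∀ s ∈ S, s * x * s⁻¹ ∈ Subgroup.zpowers x) : F.IsNormal S := by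
  refine isNormal_of_le_centric_radical hS hF
    (stronglyClosed_iff.mpr ⟨le_rfl, fun R f _ hf x hx => hf.apply_mem hx⟩) fun R hRc hRr => ?_
  have hRS := hRc.1
  haveI := finite_of_le hRS
  haveI := finite_autGroup F hRS
  set D := F.focalSubgroup
  let Good : MulAut R → Prop := fun α => ∀ x ∈ R, x ∈ D → Small p x →
    autFun α x ∈ Subgroup.zpowers x ∧ (x ^ p = 1 → autFun α x = x)
  have hzp : ∀ (α : MulAut R), α ∈ F.autGroup R → ∀ x ∈ R, ∀ y ∈ Subgroup.zpowers x,
      autFun α y ∈ Subgroup.zpowers (autFun α x) := by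
    intro α hα x hx y hy
    obtain ⟨φ, -, he⟩ := (mem_autGroup_iff hRS).1 hα
    obtain ⟨l, rfl⟩ := hy
    have hval : ((⟨x, hx⟩ : R) ^ l : R) = (⟨x ^ l, zpow_mem hx l⟩ : R) := Subtype.ext (by simp)
    refine ⟨l, ?_⟩
    show (autFun α x) ^ l = autFun α (x ^ l)
    rw [← he ⟨x, hx⟩, ← map_zpow, hval, he]
  have hGmul : ∀ α β, α ∈ F.autGroup R → Good α → Good β → Good (α * β) := by
    intro α β hα ga gb x hx hxD sx
    obtain ⟨b1, b2⟩ := gb x hx hxD sx
    refine ⟨?_, fun e => ?_⟩
    · rw [autFun_mul _ _ hx]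
      exact (Subgroup.zpowers_le.2 (ga x hx hxD sx).1) (hzp α hα x hx _ b1)
    · rw [autFun_mul _ _ hx, b2 e]
      exact (ga x hx hxD sx).2 e
  have hGone : Good 1 := fun x hx _ _ => by
    rw [autFun_one hx]; exact ⟨Subgroup.mem_zpowers x, fun _ => rfl⟩
  let Y : Subgroup (F.autGroup R) :=
    { carrier := {α | Good (α : MulAut R)}
      one_mem' := by exact hGone
      mul_mem' := fun {a b} ha hb => hGmul a b a.2 ha hb
      inv_mem' := fun {a} ha => by
        have key : ∀ n : ℕ, Good ((a : MulAut R) ^ n) := by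
          intro n
          induction n with
          | zero => rw [pow_zero]; exact hGone
          | succ n ih => rw [pow_succ']; exact hGmul _ _ a.2 ha ih
        show Good (((a⁻¹ : F.autGroup R)) : MulAut R)
        rw [show a⁻¹ = a ^ (orderOf a - 1) from inv_eq_of_mul_eq_one_right (by
          rw [← pow_succ', Nat.sub_add_cancel (orderOf_pos a), pow_orderOf_eq_one]), Subgroup.coe_pow]
        exact key _ }
  have : Y.Normal := by
    constructor
    rintro a ha ⟨g, hg⟩ x hx hxD sx
    have hy : autFun g⁻¹ x ∈ R := autFun_mem _ hx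
    have hyD : autFun g⁻¹ x ∈ D := invariant_of_stab (focal_invariant hRS (inv_mem hg)) hx hxD
    obtain ⟨a1, a2⟩ := ha _ hy hyD (small_autFun _ hx sx)
    show autFun (g * (a : MulAut R) * g⁻¹) x ∈ Subgroup.zpowers x ∧ (x ^ p = 1 → autFun (g * (a : MulAut R) * g⁻¹) x = x)
    rw [autFun_mul _ _ hx, autFun_mul _ _ hy]
    refine ⟨?_, fun e => ?_⟩
    · have := hzp g hg _ hy _ a1
      rwa [autFun_apply_inv g hx] at this
    · rw [a2 ?_, autFun_apply_inv g hx]
      rw [autFun_apply g⁻¹ hx, ← Subgroup.coe_pow, ← map_pow,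
        show (⟨x, hx⟩ : R) ^ p = 1 from Subtype.ext e, map_one, Subgroup.coe_one]
  refine le_of_centric_radical hRc hRr le_rfl (hRS.trans Subgroup.le_normalizer) hS Y ?_ ?_
  · intro y
    have hy : Good ((y : F.autGroup R) : MulAut R) := y.2
    obtain ⟨k, hk⟩ := pPower_of_all_powers (p := p) F hRS (α := ((y : F.autGroup R) : MulAut R))
      fun j m hm hjm => by
        set β := (((y : F.autGroup R) : MulAut R)) ^ j
        have hβ : β ∈ F.autGroup R := pow_mem (y : F.autGroup R).2 j
        have hβY : Good β := (pow_mem (show (y : F.autGroup R) ∈ Y from y.2) j : (y : F.autGroup R) ^ j ∈ Y)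
        refine fix_all hS hRS hβ hm hjm (focal_invariant hRS hβ) fun x hx hxD sx => ?_
        obtain ⟨b1, b2⟩ := hβY x hx hxD sx
        by_cases e : x ^ p = 1
        · exact b2 e
        obtain ⟨rfl, e4⟩ := sx.resolve_left e
        have ho : orderOf x = 4 := orderOf_eq_prime_pow (p := 2) (n := 1) (by simpa using e) (by simpa using e4)
        rw [← (isOfFinOrder_iff_pow_eq_one.2 ⟨4, by norm_num, e4⟩ : IsOfFinOrder x).mem_powers_iff_mem_zpowers] at b1
        obtain ⟨l, hl⟩ := b1
        have hl' : x ^ (l % 4) = autFun β x := by rw [← ho, pow_mod_orderOf]; exact hl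
        have hinj : autFun β x ^ 2 ≠ 1 := fun h2 => e (by
          rw [autFun_apply β hx, ← Subgroup.coe_pow, ← map_pow] at h2
          have h3 : ((⟨x, hx⟩ : R) ^ 2) = 1 := β.injective (by rw [map_one]; exact Subtype.ext h2)
          simpa using congrArg Subtype.val h3)
        have h24 : Nat.Prime 2 := Nat.prime_two
        have hodd : l % 4 = 1 ∨ l % 4 = 3 := by
          have : l % 4 < 4 := Nat.mod_lt _ (by norm_num)
          interval_cases hl4 : l % 4
          · exact absurd (by rw [← hl', pow_zero, one_pow]) hinj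
          · exact Or.inl rfl
          · exact absurd (by rw [← hl', ← pow_mul]; exact e4) hinj
          · exact Or.inr rfl
        have hsq : autFun (β ^ 2) x = x := by
          rw [sq, autFun_mul _ _ hx]
          rcases hodd with h1 | h1
          · rw [h1, pow_one] at hl'; rw [← hl', ← hl']
          · rw [h1] at hl'
            rw [← hl', autFun_apply β (pow_mem hx 3), show (⟨x ^ 3, pow_mem hx 3⟩ : R) = (⟨x, hx⟩ : R) ^ 3 from
              Subtype.ext (by simp), map_pow, Subgroup.coe_pow, ← autFun_apply β hx, ← hl', ← pow_mul]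
            calc x ^ (3 * 3) = (x ^ 4) ^ 2 * x := by rw [← pow_mul, ← pow_succ]
              _ = x := by rw [e4, one_pow, one_mul]
        obtain ⟨q, hq⟩ : ∃ q, m = 2 * q + 1 := ⟨m / 2, by omega⟩
        have hev : ∀ q : ℕ, autFun (β ^ (2 * q)) x = x := by
          intro q
          induction q with
          | zero => rw [mul_zero, pow_zero, autFun_one hx]
          | succ q ih => rw [mul_add, mul_one, pow_add, autFun_mul _ _ hx, hsq, ih]
        have := autFun_one (P := R) hx
        rw [← hjm, hq, pow_succ', autFun_mul _ _ hx, hev] at this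
        exact this
    exact ⟨k, Subtype.ext (Subtype.ext (by simpa using hk))⟩
  · intro α hα s hs _ he x hx hxD sx
    rw [he x hx]
    refine ⟨hnorm x hxD sx s hs, fun e => ?_⟩
    rcases eq_or_ne x 1 with rfl | hx1
    · group
    have hcard : Nat.card (Subgroup.zpowers (⟨x, hRS hx⟩ : S)) = p := by
      rw [Nat.card_zpowers]
      exact orderOf_eq_prime (Subtype.ext e) fun h => hx1 (congrArg Subtype.val h)
    haveI : (Subgroup.zpowers (⟨x, hRS hx⟩ : S)).Normal := ⟨by
      rintro _ ⟨l, rfl⟩ ⟨t, ht⟩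
      obtain ⟨l', hl'⟩ := hnorm x hxD sx t ht
      refine ⟨l' * l, Subtype.ext ?_⟩
      simp only at hl' ⊢
      simp [zpow_mul, hl', conj_zpow]⟩
    have hc := CfsgLib.Transfer.le_center_of_card_prime hS _ hcard (Subgroup.mem_zpowers _)
    have := congrArg Subtype.val (Subgroup.mem_center_iff.1 hc ⟨s, hs⟩)
    simp only [Subgroup.coe_mul] at this
    rw [this, mul_inv_cancel_right]

theorem lcs_invariant {θ : MulAut S} {i : ℕ} {x : Ω} (hx : x ∈ S.lowerCentralSeries i) :
    autFun θ x ∈ S.lowerCentralSeries i := by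
  rw [← lowerCentralSeries_map] at hx ⊢
  obtain ⟨y, hy, rfl⟩ := hx
  rw [Subgroup.coe_subtype, autFun_coe]
  exact ⟨θ y, Subgroup.characteristic_iff_le_comap.1 inferInstance θ hy, rfl⟩

/-- Small elements moved within the layers of the lower central series force normality. -/
theorem normal_of_small_maps (hS : IsPGroup p S) (hF : F.IsSaturated p)
    (h : ∀ A B : Subgroup Ω, A ≤ (F.hyperfocalSubgroup p) → B ≤ (F.hyperfocalSubgroup p) → IsCyclic ↥A →
      (Nat.card ↥A = p ∨ Nat.card ↥A = 4) → IsCyclic ↥B → (Nat.card ↥B = p ∨ Nat.card ↥B = 4) →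
      F.homSet A B ⊆ F.normalizerHom S A) : F.IsNormal S := by
  refine isNormal_of_le_centric_radical hS hF
    (stronglyClosed_iff.mpr ⟨le_rfl, fun R f _ hf x hx => hf.apply_mem hx⟩) fun R hRc hRr => ?_
  have hRS := hRc.1
  haveI := finite_of_le hRS
  set H := F.hyperfocalSubgroup p
  have hHsc := hyperfocal_stronglyClosed (F := F) hS hF
  haveI := finite_of_le ((inf_le_left : R ⊓ H ≤ R).trans hRS)
  obtain ⟨U, hU, hUs, hdet⟩ := exists_detecting (p := p) (hS.to_le ((inf_le_left : R ⊓ H ≤ R).trans hRS))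
  let U' : Subgroup Ω := U.map (R ⊓ H).subtype
  have hU'le : U' ≤ R ⊓ H := Subgroup.map_subtype_le U
  have hU'inv : ∀ α ∈ F.autGroup R, ∀ x ∈ U', autFun α x ∈ U' := by
    intro α hα x hx
    obtain ⟨β, -, he⟩ := exists_restrict hRS hα (D := R ⊓ H) inf_le_left fun y hy =>
      ⟨autFun_mem α hy.1, stronglyClosed_apply hHsc ((mem_autGroup_iff hRS).1 hα) hy.1 hy.2⟩
    obtain ⟨u, hu, rfl⟩ := hx
    have := he 1 u u.2
    rw [pow_one, pow_one] at this
    rw [Subgroup.coe_subtype, ← this, autFun_coe]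
    exact ⟨β u, Subgroup.characteristic_iff_le_comap.1 hU β hu, rfl⟩
  have hlayer : ∀ α ∈ F.autGroup R, ∀ i, ∀ x ∈ R, x ∈ U' ⊓ S.lowerCentralSeries i →
      autFun α x ∈ U' ⊓ S.lowerCentralSeries i := by
    intro α hα i x hx hxA
    refine ⟨hU'inv α hα x hxA.1, ?_⟩
    rcases eq_or_ne x 1 with rfl | hx1
    · rw [((mem_autGroup_iff hRS).1 hα).map_one]; exact one_mem _
    have hxH : x ∈ H := (hU'le hxA.1).2
    have hyH : autFun α x ∈ H := stronglyClosed_apply hHsc ((mem_autGroup_iff hRS).1 hα) hx hxH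
    have hy1 : autFun α x ≠ 1 := fun e => hx1 (by
      rw [← autFun_inv_apply α hx, e, ((mem_autGroup_iff hRS).1 (inv_mem hα)).map_one])
    have sx : Small p x := by
      obtain ⟨u, hu, rfl⟩ := hxA.1
      exact small_map _ (hUs u hu)
    obtain ⟨φ, hφ, he⟩ := ((mem_autGroup_iff hRS).1 hα).restrict (Subgroup.zpowers_le.2 hx)
    obtain ⟨hA1, hA2⟩ := small_card sx hx1
    obtain ⟨hB1, hB2⟩ := small_card (small_autFun α hx sx) hy1
    have hmem : φ ∈ F.homSet (Subgroup.zpowers x) (Subgroup.zpowers (autFun α x)) := by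
      refine ⟨hφ, ?_⟩
      rintro ⟨w, l, rfl⟩
      have : (⟨x ^ l, ⟨l, rfl⟩⟩ : Subgroup.zpowers x) = ⟨x, Subgroup.mem_zpowers x⟩ ^ l := Subtype.ext (by simp)
      rw [this, map_zpow, he]
      exact ⟨l, rfl⟩
    obtain ⟨-, -, -, k, hk, hkf, hkS⟩ := mem_normalizerHom_iff.1
      (h _ _ (Subgroup.zpowers_le.2 hxH) (Subgroup.zpowers_le.2 hyH) hA1 hA2 hB1 hB2 hmem)
    obtain ⟨θ, -, hθ⟩ := (hk.restrict (le_sup_right : S ≤ Subgroup.zpowers x ⊔ S)).exists_aut hkS
    rw [show autFun α x = autFun θ x by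
      rw [hθ x (hRS hx), hkf x (Subgroup.mem_zpowers x), ← he ⟨x, Subgroup.mem_zpowers x⟩]
      exact (ext_coe φ _).symm]
    exact lcs_invariant hxA.2
  refine le_of_layers hS hRc hRr le_rfl (hRS.trans Subgroup.le_normalizer)
    (fun i : ℕ => U' ⊓ S.lowerCentralSeries i) (fun i : ℕ => U' ⊓ S.lowerCentralSeries (i + 1))
    (fun α hα i => hlayer α hα i) (fun α hα i => hlayer α hα (i + 1)) (fun α₀ hα₀ hY => ?_) ?_
  · refine pPower_of_all_powers (p := p) F hRS fun j m hm hjm => ?_
    have hα := pow_mem hα₀ j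
    have hst := sub_hyperfocal hRS hα hm hjm
    obtain ⟨n, hn⟩ := exists_lcs_bot hS
    have hfix : ∀ d i : ℕ, i + d = n → ∀ x ∈ R, x ∈ U' ⊓ S.lowerCentralSeries i → autFun (α₀ ^ j) x = x := by
      intro d
      induction d with
      | zero =>
        intro i hi x hx hxK
        have hb : S.lowerCentralSeries i = ⊥ := by rw [show i = n by omega, hn]
        obtain rfl : x = 1 := Subgroup.mem_bot.1 (hb.le hxK.2)
        exact ((mem_autGroup_iff hRS).1 hα).map_one
      | succ d ih =>
        intro i hi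
        exact fixed_of_series hS hRS hm hjm
          ((hY i).pow' (fun x hx hxA => hlayer α₀ hα₀ i x hx hxA) j) (ih (i + 1) (by omega))
    refine autFun_inj fun x hx => ?_
    rw [autFun_one hx]
    refine fixed_of_series hS hRS hm hjm hst (fun y hy hyH => ?_) x hx hx
    obtain ⟨β, -, he⟩ := exists_restrict hRS hα (D := R ⊓ H) inf_le_left fun z hz =>
      ⟨autFun_mem _ hz.1, invariant_of_stab hst hz.1 hz.2⟩
    have h1 : ∀ z ∈ R ⊓ H, autFun β z = autFun (α₀ ^ j) z := fun z hz => by
      have := he 1 z hz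
      rwa [pow_one, pow_one] at this
    have hβm : β ^ m = 1 := autFun_inj fun z hz => by rw [he m z hz, hjm, autFun_one hz.1, autFun_one hz]
    have hβ1 : β = 1 := hdet β m hm hβm fun u hu => Subtype.ext (by
      rw [← autFun_coe, h1 u u.2]
      exact hfix n 0 (zero_add n) u u.2.1
        ⟨⟨u, hu, rfl⟩, by rw [Subgroup.lowerCentralSeries_zero]; exact hRS u.2.1⟩)
    rw [← h1 y ⟨hy, hyH⟩, hβ1, autFun_one (show y ∈ R ⊓ H from ⟨hy, hyH⟩)]
  · intro s hs hsn i x hx hxA
    refine ⟨U'.mul_mem (U'.inv_mem hxA.1) ?_, lcs_conj hs hxA.2⟩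
    have := hU'inv _ (autInducedBy_le_autGroup (F := F) hRS (by
      rw [← range_normalizerInToAut]; exact ⟨⟨s, hs, hsn⟩, rfl⟩)) x hxA.1
    rwa [autFun_normalizerInToAut (⟨s, hs, hsn⟩ : normalizerIn S R) hx] at this

theorem omega_le (Q : Subgroup Ω) : omegaOne p Q ≤ Q := (Subgroup.closure_le _).2 fun _ hx => hx.1

theorem omega_stronglyClosed (hP : F.IsNormal P) : F.StronglyClosed (omegaOne p P) := by
  refine stronglyClosed_iff.mpr ⟨(omega_le P).trans hP.1, fun R f hR hf x hx => ?_⟩
  obtain ⟨k, hk, hkf, hkP⟩ := (isNormal_iff.mp hP).2 R f hf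
  rw [← hkf x hx]
  have hle : omegaOne p P ≤ R ⊔ P := (omega_le P).trans le_sup_right
  refine img_le_iff.mp ?_ x (hR hx)
  refine le_trans (le_of_eq rfl) (img_le_iff.mpr fun y hy => ?_)
  induction hy using Subgroup.closure_induction with
  | mem z hz =>
    have hz' : z ∈ R ⊔ P := Subgroup.mem_sup_right hz.1
    refine Subgroup.subset_closure ⟨hkP.le (mem_img_of_mem k hz.1), ?_⟩
    obtain ⟨φ, -, he⟩ := hk
    rw [← he ⟨z, hz'⟩, ← map_pow, show (⟨z, hz'⟩ : ↥(R ⊔ P)) ^ p = 1 from Subtype.ext hz.2, map_one]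
  | one => rw [hk.map_one]; exact one_mem _
  | mul a b ha hb iha ihb => rw [hk.map_mul (hle ha) (hle hb)]; exact mul_mem iha ihb
  | inv a ha iha => rw [hk.map_inv (hle ha)]; exact inv_mem iha

/-- The criterion for normality of a strongly closed subgroup, `p` odd. -/
theorem normal_iff_chain (hS : IsPGroup p S) (hF : F.IsSaturated p) (hp2 : p ≠ 2) (hP : F.StronglyClosed P) :
    F.IsNormal P ↔ ∃ (n : ℕ) (Q : Fin (n + 1) → Subgroup Ω), Q 0 = ⊥ ∧ Q (Fin.last n) = omegaOne p P ∧
      Monotone Q ∧ (∀ i : Fin (n + 1), F.StronglyClosed (Q i)) ∧ ∀ i : Fin n, ⁅Q i.succ, P⁆ ≤ Q i.castSucc := by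
  constructor
  · intro hn
    obtain ⟨n, C, h0, hl, hmono, hsc, hcomm⟩ := exists_series hS hP.1 fun R f hR hf => IsNormal.exists_aut hn R f hR hf
    have hO := omega_stronglyClosed (p := p) hn
    refine ⟨n, fun i => C i ⊓ omegaOne p P, ?_, ?_, fun i j hij => inf_le_inf_right _ (hmono hij), fun i => ?_,
      fun i => le_inf ?_ ?_⟩
    · show C 0 ⊓ omegaOne p P = ⊥
      rw [h0, bot_inf_eq]
    · show C (Fin.last n) ⊓ omegaOne p P = omegaOne p P
      rw [hl, inf_eq_right]; exact omega_le P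
    · exact stronglyClosed_iff.mpr ⟨inf_le_right.trans hO.1, fun R f hR hf x hx =>
        ⟨stronglyClosed_apply (hsc i) hf hx (hR hx).1, stronglyClosed_apply hO hf hx (hR hx).2⟩⟩
    · exact (Subgroup.commutator_mono inf_le_left le_rfl).trans ((Subgroup.commutator_comm _ _).le.trans (hcomm i))
    · refine (Subgroup.commutator_mono inf_le_right le_rfl).trans ?_
      rw [Subgroup.commutator_le]
      intro a ha b hb
      rw [commutatorElement_def, show a * b * a⁻¹ * b⁻¹ = a * (b * a⁻¹ * b⁻¹) by group]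
      refine mul_mem ha (conj_mem_of_mem_normalizer ?_ (inv_mem ha))
      exact stronglyClosed_normalized hO (hP.1 hb)
  · rintro ⟨n, Q, h0, hl, hmono, hsc, hcomm⟩
    refine isNormal_of_le_centric_radical hS hF hP fun R hRc hRr => ?_
    have hRS := hRc.1
    haveI := finite_of_le hRS
    have hQinv : ∀ α ∈ F.autGroup R, ∀ i, ∀ x ∈ R, x ∈ Q i → autFun α x ∈ Q i := fun α hα i x hx hxQ =>
      stronglyClosed_apply (hsc i) ((mem_autGroup_iff hRS).1 hα) hx hxQ
    have hPinv : ∀ α ∈ F.autGroup R, ∀ x ∈ R, x ∈ P → autFun α x ∈ P := fun α hα x hx hxP =>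
      stronglyClosed_apply hP ((mem_autGroup_iff hRS).1 hα) hx hxP
    refine le_of_layers hS hRc hRr hP.1 (hRS.trans (stronglyClosed_normalized hP))
      (fun i : Option (Fin n) => i.elim R fun j => Q j.succ) (fun i : Option (Fin n) => i.elim P fun j => Q j.castSucc)
      ?_ ?_ (fun α₀ hα₀ hY => ?_) ?_
    · intro α hα i
      cases i with
      | none => exact fun x hx _ => autFun_mem α hx
      | some i => exact hQinv α hα i.succ
    · intro α hα i
      cases i with
      | none => exact hPinv α hα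
      | some i => exact hQinv α hα i.castSucc
    · refine pPower_of_all_powers (p := p) F hRS fun j m hm hjm => ?_
      have hα := pow_mem hα₀ j
      have hfix : ∀ i : Fin (n + 1), ∀ x ∈ R, x ∈ Q i → autFun (α₀ ^ j) x = x := by
        intro i
        induction i using Fin.induction with
        | zero =>
          intro x hx hx0
          rw [h0, Subgroup.mem_bot] at hx0
          subst hx0
          exact ((mem_autGroup_iff hRS).1 hα).map_one
        | succ i ih =>
          exact fixed_of_series hS hRS hm hjm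
            ((hY (some i)).pow' (fun x hx hxA => hQinv α₀ hα₀ i.succ x hx hxA) j) ih
      refine fix_all hS hRS hα hm hjm ((hY none).pow' (fun x hx _ => autFun_mem α₀ hx) j) fun x hx hxP sx => ?_
      refine hfix (Fin.last n) x hx ?_
      rw [hl]
      exact Subgroup.subset_closure ⟨hxP, sx.resolve_right fun e => hp2 e.1⟩
    · intro s hs hsn i x hx hxA
      cases i with
      | none =>
        show x⁻¹ * (s * x * s⁻¹) ∈ P
        rw [show x⁻¹ * (s * x * s⁻¹) = (x⁻¹ * s * x) * s⁻¹ by group]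
        exact mul_mem (conj_inv_mem_of_mem_normalizer (stronglyClosed_normalized hP (hRS hx)) hs) (inv_mem hs)
      | some i =>
        have := hcomm i (Subgroup.commutator_mem_commutator (inv_mem (show x ∈ Q i.succ from hxA)) hs)
        rw [commutatorElement_def, inv_inv, show x⁻¹ * s * x * s⁻¹ = x⁻¹ * (s * x * s⁻¹) by group] at this
        exact this

end CfsgLib.TwoFusion.SmallOrder
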