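import Cfsg.Agent.Lib.TwoFusionControl

/-!
# Involutions of abelian Sylow subgroups and strongly closed subgroups
-/

set_option autoImplicit false

universe u

namespace CfsgLib.TwoFusion

open Subgroup
open scoped commutatorElement

set_option linter.unusedSectionVars false

variable {G : Type u} [Group G] [Finite G]

theorem pResidual_two_eq_top (hG : ∀ H : Subgroup G, H.index ≠ 2) : Cfsg.pResidual 2 G = ⊤ := by
  haveI : Fact (Nat.Prime 2) := ⟨Nat.prime_two⟩
  haveI := CfsgLib.Local.pResidual_normal' 2 G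
  by_contra hne
  set K := Cfsg.pResidual 2 G with hK
  have hp : IsPGroup 2 (G ⧸ K) := by
    rintro ⟨g⟩
    obtain ⟨a, b, hb, hab⟩ := Nat.exists_eq_two_pow_mul_odd (isOfFinOrder_of_finite g).orderOf_pos.ne'
    refine ⟨a, (QuotientGroup.eq_one_iff (g ^ 2 ^ a)).mpr (Subgroup.subset_closure ?_)⟩
    show Nat.Coprime (orderOf (g ^ 2 ^ a)) 2
    exact Nat.coprime_two_right.mpr (hb.of_dvd_nat
      (orderOf_dvd_of_pow_eq_one (by rw [← pow_mul, ← hab, pow_orderOf_eq_one])))
  obtain ⟨n, hn⟩ := IsPGroup.iff_card.mp hp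
  have h1 : Nat.card (G ⧸ K) ≠ 1 := fun h => hne (index_eq_one.mp (by rw [index_eq_card]; exact h))
  obtain ⟨m, rfl⟩ : ∃ m, n = m + 1 := ⟨n - 1, by
    rcases n with _ | n
    · exact absurd hn (by simpa using h1)
    · rfl⟩
  obtain ⟨L, hL⟩ := Sylow.exists_subgroup_card_pow_prime (G := G ⧸ K) 2 (n := m)
    (by rw [hn, pow_succ]; exact dvd_mul_right _ _)
  refine hG (L.comap (QuotientGroup.mk' K)) ?_
  rw [index_comap_of_surjective _ (QuotientGroup.mk'_surjective K)]
  have h2 := L.card_mul_index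
  rw [hL, hn, pow_succ] at h2
  exact Nat.eq_of_mul_eq_mul_left (by positivity) h2

theorem exists_conj_mem_of_abelian (hG : ∀ H : Subgroup G, H.index ≠ 2) (S : Sylow 2 G)
    (hS : IsMulCommutative (S : Subgroup G)) (V W : Subgroup G) (hWV : W ≤ V)
    (hW2 : W.relIndex V = 2) (hVS : V ≤ (S : Subgroup G))
    (hVn : ∀ n ∈ normalizer ((S : Subgroup G) : Set G), ∀ v ∈ V, n * v * n⁻¹ ∈ V)
    (t : G) (ht : t ∈ V) :
    ∃ n ∈ normalizer ((S : Subgroup G) : Set G), n * t * n⁻¹ ∈ W := by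
  classical
  haveI : Fact (Nat.Prime 2) := ⟨Nat.prime_two⟩
  have hSG : (S : Subgroup G) ≤ _root_.commutator G := by
    intro x hx
    have h := CfsgLib.Transfer.inf_pResidual_abelian S hS
    rw [pResidual_two_eq_top hG, inf_top_eq] at h
    rw [commutator_def]
    exact commutator_mono le_top le_top (h.le hx)
  set N := normalizer ((S : Subgroup G) : Set G) with hN
  have hfix : ∀ x ∈ (S : Subgroup G), (∀ n ∈ N, n * x * n⁻¹ = x) → x = 1 := by
    intro x hx hc
    have h1 : x ∈ ⁅N, N⁆ := ((CfsgLib.Transfer.commutator_inf_abelian S hS).le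
      (mem_inf.mpr ⟨hSG hx, hx⟩)).1
    set SN := (S : Subgroup G).subgroupOf N with hSN
    have hcomm : (_root_.commutator N).map N.subtype = ⁅N, N⁆ := by
      rw [commutator_def, map_commutator, ← MonoidHom.range_eq_map, range_subtype]
    obtain ⟨x', hx', rfl⟩ := hcomm.ge h1
    haveI : IsMulCommutative SN := inferInstance
    refine congrArg Subtype.val (CfsgLib.Transfer.eq_one_of_central_commutator SN ?_ hx' hx ?_)
    · refine mem_center_iff.mpr fun n => Subtype.ext ?_
      exact mul_inv_eq_iff_eq_mul.mp (hc n n.2)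
    · obtain ⟨k, hk⟩ := S.2 ⟨(x' : G), hx⟩
      refine Nat.Coprime.coprime_dvd_left (orderOf_dvd_of_pow_eq_one (x := x') (n := 2 ^ k)
        (Subtype.ext (show (x' : G) ^ 2 ^ k = 1 from congrArg Subtype.val hk))) ((Nat.prime_two.coprime_iff_not_dvd.mpr ?_).pow_left k)
      exact (S.subtype le_normalizer).not_dvd_index
  by_contra hne
  push Not at hne
  set St := (centralizer ({t} : Set G)).subgroupOf N with hSt
  have hodd : Odd St.index := by
    have hle : (S : Subgroup G).subgroupOf N ≤ St := fun s hs => by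
      rw [hSt, mem_subgroupOf, mem_centralizer_singleton_iff]
      exact congrArg Subtype.val (hS.is_comm.comm ⟨_, hs⟩ ⟨t, hVS ht⟩)
    rcases Nat.even_or_odd St.index with he | ho
    · exact absurd ((even_iff_two_dvd.mp he).trans (index_dvd_of_le hle))
        (S.subtype le_normalizer).not_dvd_index
    · exact ho
  letI : CommGroup V := { (inferInstance : Group V) with
    mul_comm := fun a b => Subtype.ext (show (a : G) * b = b * a from congrArg Subtype.val
      (hS.is_comm.comm (⟨_, hVS a.2⟩ : (S : Subgroup G)) ⟨_, hVS b.2⟩)) }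
  let f : N ⧸ St → V := Quotient.lift (fun n : N => (⟨(n : G) * t * (n : G)⁻¹, hVn n n.2 t ht⟩ : V))
    (fun a b hab => Subtype.ext (by
      have h1 : a⁻¹ * b ∈ St := QuotientGroup.leftRel_apply.mp hab
      rw [hSt, mem_subgroupOf, mem_centralizer_singleton_iff] at h1
      simp only [Subgroup.coe_mul, InvMemClass.coe_inv] at h1
      show (a : G) * t * (a : G)⁻¹ = (b : G) * t * (b : G)⁻¹
      calc (a : G) * t * (a : G)⁻¹
          = (a : G) * ((a : G)⁻¹ * b * t * ((a : G)⁻¹ * b)⁻¹) * (a : G)⁻¹ := by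
            rw [h1, mul_inv_cancel_right]
        _ = _ := by group))
  haveI : Fintype (N ⧸ St) := Fintype.ofFinite _
  set P := ∏ q, f q with hP
  -- the product lies outside `W`
  set W' := W.subgroupOf V with hW'
  have hW'2 : W'.index = 2 := hW2
  have hout : ∀ q, f q ∉ W' := by
    rintro ⟨n⟩
    exact fun h => hne n n.2 h
  have key : ∀ s : Finset (N ⧸ St), ((∏ q ∈ s, f q) ∈ W' ↔ Even s.card) := by
    intro s
    induction s using Finset.induction_on with
    | empty => simp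
    | insert a s ha ih =>
      rw [Finset.prod_insert ha, Finset.card_insert_of_notMem ha,
        Subgroup.mul_mem_iff_of_index_two hW'2, ih, Nat.even_add_one]
      simp [hout a]
  have hPW : P ∉ W' := by
    rw [hP, key Finset.univ, Finset.card_univ, ← Nat.card_eq_fintype_card, ← index_eq_card,
      Nat.not_even_iff_odd]
    exact hodd
  -- but it is fixed by the normalizer
  have hP1 : (P : G) = 1 := by
    refine hfix _ (hVS P.2) fun n hn => ?_
    let c : V →* V :=
      { toFun := fun v => ⟨n * v * n⁻¹, hVn n hn v v.2⟩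
        map_one' := Subtype.ext (by simp)
        map_mul' := fun a b => Subtype.ext (by simp [mul_assoc]) }
    show ((c P : V) : G) = P
    rw [hP, map_prod]
    refine congrArg Subtype.val
      (Fintype.prod_equiv (MulAction.toPerm (⟨n, hn⟩ : N)) (fun q => c (f q)) f ?_)
    rintro ⟨m⟩
    refine Subtype.ext ?_
    show n * ((m : G) * t * (m : G)⁻¹) * n⁻¹ = (n * (m : G)) * t * (n * (m : G))⁻¹
    group
  exact hPW (by rw [show P = 1 from Subtype.ext hP1]; exact one_mem _)

theorem stronglyClosed_centralizes (S : Sylow 2 G) (A : Subgroup G)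
    (hA : Cfsg.IsStronglyClosed A (S : Subgroup G)) (H : Subgroup G)
    (hAH : A ≤ normalizer (H : Set G)) (hO : Cfsg.pPrimeCore 2 H = ⊥) (hdisj : A ⊓ H = ⊥) :
    A ≤ centralizer (H : Set G) := by
  haveI : Fact (Nat.Prime 2) := ⟨Nat.prime_two⟩
  suffices h : ∀ k : ℕ, ∀ a ∈ A, a ^ 2 ^ k = 1 → a ∈ centralizer (H : Set G) by
    intro a ha
    obtain ⟨k, hk⟩ := S.2 ⟨a, hA.1 ha⟩
    exact h k a ha (congrArg Subtype.val hk)
  intro k
  induction k with
  | zero => intro a _ h; rw [pow_zero, pow_one] at h; rw [h]; exact one_mem _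
  | succ k ih =>
  intro a ha hak
  set b := a ^ 2 with hb
  have hbC : b ∈ centralizer (H : Set G) :=
    ih b (pow_mem ha 2) (by rw [hb, ← pow_mul, ← pow_succ']; exact hak)
  by_cases hab : a ∈ zpowers b
  · obtain ⟨i, hi⟩ := hab
    rw [← hi]; exact zpow_mem hbC i
  set X := H ⊔ A with hX
  set X₁ := H ⊔ zpowers a with hX₁
  have haX₁ : a ∈ X₁ := mem_sup_right (mem_zpowers a)
  have hX₁X : X₁ ≤ X := sup_le_sup_left (zpowers_le.mpr ha) _
  haveI hHn : (H.subgroupOf X).Normal := normal_subgroupOf_of_le_normalizer (sup_le le_normalizer hAH)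
  obtain ⟨S₁', hS₁'⟩ := ((S.2.to_le hA.1).comap_of_injective X.subtype
    X.subtype_injective).exists_le_sylow
  set S₁ := (S₁' : Subgroup X).map X.subtype with hS₁
  have hAS₁ : A ≤ S₁ := fun x hx => ⟨⟨x, mem_sup_right hx⟩, hS₁' hx, rfl⟩
  obtain ⟨Q, hQ⟩ := ((S₁'.2.map _) : IsPGroup 2 S₁).exists_le_sylow
  have hAQ : Cfsg.IsStronglyClosed A (Q : Subgroup G) := stronglyClosed_sylow S Q A (hAS₁.trans hQ) hA
  set T := S₁ ⊓ H with hT
  have hTn : zpowers a ≤ normalizer (T : Set G) := zpowers_le.mpr <| by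
    refine CfsgLib.Core.le_normalizer_inf (A := A) (fun x hx => le_normalizer (hAS₁ hx)) hAH ha
  -- the quotient by `b`
  have hbA : b ∈ A := pow_mem ha 2
  set B := (zpowers b).subgroupOf X₁ with hB
  have hbcen : ∀ x ∈ X₁, b * x = x * b := fun x hx => by
    have : X₁ ≤ centralizer ({b} : Set G) := sup_le
      (fun h hh => mem_centralizer_singleton_iff.mpr (mem_centralizer_iff.mp hbC h hh))
      (zpowers_le.mpr (mem_centralizer_singleton_iff.mpr (by rw [hb]; exact ((Commute.refl a).pow_right 2).eq)))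
    exact (mem_centralizer_singleton_iff.mp (this hx)).symm
  haveI hBn : B.Normal := ⟨fun x hx g => by
    have e : (g : G) * x * (g : G)⁻¹ = x := by
      obtain ⟨i, hi⟩ := mem_subgroupOf.mp hx
      rw [← hi, show (g : G) * b ^ i = b ^ i * g from
        ((show Commute b (g : G) from hbcen g g.2).zpow_left i).eq.symm, mul_inv_cancel_right]
    rw [hB, mem_subgroupOf]
    simpa [e] using mem_subgroupOf.mp hx⟩
  set q := QuotientGroup.mk' B with hq
  have hdiff : ∀ g ∈ X₁, g * a * g⁻¹ * a⁻¹ ∈ H := by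
    intro g hg
    rw [hX₁, sup_comm, ← SetLike.mem_coe,
      coe_mul_of_left_le_normalizer_right (zpowers a) H (zpowers_le.mpr (hAH ha))] at hg
    obtain ⟨_, ⟨i, rfl⟩, h, hh, rfl⟩ := hg
    have h1 : a ^ i * (h * (a * h⁻¹ * a⁻¹)) * (a ^ i)⁻¹ ∈ H :=
      (mem_normalizer_iff.mp (zpow_mem (hAH ha) i) _).mp
        (mul_mem hh ((mem_normalizer_iff.mp (hAH ha) _).mp (inv_mem hh)))
    have h2 : a * (a ^ i)⁻¹ = (a ^ i)⁻¹ * a := ((Commute.refl a).zpow_right i).inv_right.eq
    convert h1 using 1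
    calc a ^ i * h * a * (a ^ i * h)⁻¹ * a⁻¹ = a ^ i * h * a * h⁻¹ * ((a * (a ^ i)⁻¹⁻¹)⁻¹ * 1) := by
          group
      _ = _ := by
          rw [show a * (a ^ i)⁻¹⁻¹ = a ^ i * a by
            rw [inv_inv]; exact ((Commute.refl a).zpow_right i).eq]
          group
  set S₂ := T ⊔ zpowers a with hS₂
  have hS₂Q : S₂ ≤ (Q : Subgroup G) := sup_le (inf_le_left.trans hQ)
    (zpowers_le.mpr (hQ (hAS₁ ha)))
  have hS₂X : S₂ ≤ X₁ := sup_le_sup_right inf_le_right _
  have hS₂idx : ¬ 2 ∣ S₂.relIndex X₁ := by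
    have h1 := CfsgLib.Core.card_sup_mul_card_inf (A := zpowers a) (K := T) hTn
    have h2 := CfsgLib.Core.card_sup_mul_card_inf (A := zpowers a) (K := H)
      (zpowers_le.mpr (hAH ha))
    have hbot : ∀ K : Subgroup G, K ≤ H → zpowers a ⊓ K = ⊥ := fun K hK => eq_bot_iff.mpr
      ((inf_le_inf (zpowers_le.mpr ha) hK).trans hdisj.le)
    rw [hbot T inf_le_right, Subgroup.card_bot, mul_one, sup_comm, ← hS₂] at h1
    rw [hbot H le_rfl, Subgroup.card_bot, mul_one, sup_comm, ← hX₁] at h2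
    have h3 := CfsgLib.Core.card_mul_relIndex hS₂X
    rw [h1, h2, mul_assoc, ← CfsgLib.Core.card_mul_relIndex (inf_le_right : T ≤ H)] at h3
    have h4 : S₂.relIndex X₁ = T.relIndex H :=
      mul_left_cancel₀ (Nat.card_pos.ne') (mul_left_cancel₀ (Nat.card_pos.ne') h3)
    rw [h4, hT, inf_relIndex_right]
    have h5 : S₁.relIndex H ∣ (S₁' : Subgroup X).index := by
      have : (S₁' : Subgroup X).relIndex (H.subgroupOf X) ∣ (S₁' : Subgroup X).index := by
        set K := H.subgroupOf X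
        set U := (S₁' : Subgroup X)
        have e1 := CfsgLib.Core.card_sup_mul_card_inf (A := U) (K := K)
          (le_top.trans (normalizer_eq_top K).ge)
        have e2 := CfsgLib.Core.card_inf_mul_relIndex U K
        have e3 := (U ⊔ K).card_mul_index
        have e4 := U.card_mul_index
        refine ⟨(U ⊔ K).index, mul_left_cancel₀ (mul_ne_zero (Nat.card_pos (α := U)).ne'
          (Nat.card_pos (α := (U ⊓ K : Subgroup X))).ne') ?_⟩
        calc Nat.card U * Nat.card ↥(U ⊓ K) * U.index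
            = Nat.card X * Nat.card ↥(U ⊓ K) := by rw [← e4]; ring
          _ = (Nat.card ↥(U ⊔ K) * Nat.card ↥(U ⊓ K)) * (U ⊔ K).index := by rw [← e3]; ring
          _ = _ := by rw [e1, ← e2]; ring
      rw [← relIndex_map_map_of_injective _ _ X.subtype_injective,
        map_subgroupOf_eq_of_le (le_sup_left : H ≤ X)] at this
      exact this
    exact fun hd => S₁'.not_dvd_index (hd.trans h5)
  have hBq : ∀ x : X₁, q x = 1 ↔ (x : G) ∈ zpowers b := fun x => by
    rw [hq, QuotientGroup.mk'_apply, QuotientGroup.eq_one_iff]; exact Iff.rfl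
  set a₁ : X₁ := ⟨a, haX₁⟩
  have hao : orderOf (q a₁) = 2 := orderOf_eq_prime
    (by rw [← map_pow, hBq]; exact mem_zpowers b)
    (fun h => hab ((hBq a₁).mp h))
  let P₂ : Sylow 2 X₁ := IsPGroup.toSylow
    ((Q.2.to_le hS₂Q).comap_of_injective X₁.subtype X₁.subtype_injective) hS₂idx
  have hiso : CfsgLib.ZStar.Iso (q a₁) := by
    refine CfsgLib.ZStar.iso_of_sylow (P₂.mapSurjective (QuotientGroup.mk'_surjective B)) hao
      ⟨a₁, mem_sup_right (mem_zpowers a), rfl⟩ ?_
    intro w hw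
    obtain ⟨g, rfl⟩ := QuotientGroup.mk'_surjective B w
    rw [← map_inv, ← map_mul, ← map_mul] at hw ⊢
    obtain ⟨s, hs, hse⟩ := hw
    set y := g * a₁ * g⁻¹ with hy
    have h1 : ((s⁻¹ * y : X₁) : G) ∈ zpowers b := by
      rw [← hBq, map_mul, map_inv, hse, inv_mul_cancel]
    have hyQ : (y : G) ∈ (Q : Subgroup G) := by
      rw [← mul_inv_cancel_left (s : G) y]
      exact mul_mem (hS₂Q hs) ((zpowers_le.mpr (hQ (hAS₁ hbA))) h1)
    have hyA : (g : G) * a * (g : G)⁻¹ ∈ A := hAQ.2 a ha g hyQ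
    have h2 : (g : G) * a * (g : G)⁻¹ * a⁻¹ ∈ A ⊓ H :=
      mem_inf.mpr ⟨mul_mem hyA (inv_mem ha), hdiff g g.2⟩
    rw [hdisj, mem_bot, mul_inv_eq_one] at h2
    exact congrArg q (Subtype.ext h2)
  have hz := CfsgLib.ZStar.inZStar_of_iso hiso
  haveI := CfsgLib.Core.normal_pPrimeCore (G := X₁ ⧸ B) 2
  set L : Subgroup X₁ := H.subgroupOf X₁ ⊓ (Cfsg.pPrimeCore 2 (X₁ ⧸ B)).comap q with hL
  haveI hLn : (H.subgroupOf X₁).Normal :=
    normal_subgroupOf_of_le_normalizer (sup_le le_normalizer (zpowers_le.mpr (hAH ha)))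
  have hLodd : Odd (Nat.card L) := by
    have hinj : Function.Injective (q.comp L.subtype) := by
      rw [← MonoidHom.ker_eq_bot_iff, eq_bot_iff]
      rintro ⟨x, hx⟩ hx1
      have h1 : (x : G) ∈ zpowers b := (hBq x).mp hx1
      have h2 : (x : G) ∈ A ⊓ H := mem_inf.mpr ⟨zpowers_le.mpr hbA h1, (mem_inf.mp hx).1⟩
      rw [hdisj, mem_bot] at h2
      exact mem_bot.mpr (Subtype.ext (Subtype.ext h2))
    rw [Nat.card_congr (MonoidHom.ofInjective hinj).toEquiv]
    refine CfsgLib.ZStar.odd_card_of_le_pPrimeCore ?_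
    rintro _ ⟨⟨x, hx⟩, rfl⟩
    exact (mem_inf.mp hx).2
  set L' := (L.map X₁.subtype).subgroupOf H with hL'
  have hLH : L.map X₁.subtype ≤ H := (map_mono inf_le_left).trans
    (map_subgroupOf_eq_of_le (le_sup_left : H ≤ X₁)).le
  haveI : L'.Normal := normal_subgroupOf_of_le_normalizer (le_trans (le_sup_left : H ≤ X₁) (by
    intro x hx
    refine le_normalizer_map X₁.subtype ⟨⟨x, hx⟩, ?_, rfl⟩
    rw [normalizer_eq_top]; trivial))
  have hL'bot : L' ≤ Cfsg.pPrimeCore 2 H := by
    refine CfsgLib.Core.le_pPrimeCore inferInstance ?_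
    rw [hL', Nat.card_congr (subgroupOfEquivOfLe hLH).toEquiv,
      card_map_of_injective X₁.subtype_injective]
    exact Nat.coprime_two_right.mpr hLodd
  refine mem_centralizer_iff.mpr fun h hh => ?_
  set h₁ : X₁ := ⟨h, mem_sup_left hh⟩
  have hc : h₁ * a₁ * h₁⁻¹ * a₁⁻¹ ∈ L := mem_inf.mpr ⟨hdiff h (mem_sup_left hh), by
    rw [mem_comap, map_mul, map_mul, map_mul, map_inv, map_inv]
    exact hz (q h₁)⟩
  have hcH : h * a * h⁻¹ * a⁻¹ ∈ H := hdiff h (mem_sup_left hh)
  have h3 : (⟨_, hcH⟩ : H) ∈ L' := ⟨_, hc, rfl⟩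
  rw [hO, le_bot_iff] at hL'bot
  rw [hL'bot, mem_bot] at h3
  exact mul_inv_eq_iff_eq_mul.mp (mul_inv_eq_one.mp (congrArg Subtype.val h3))

end CfsgLib.TwoFusion
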