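import Cfsg.Agent.Lib.FusionTransfer
import Cfsg.Agent.Lib.FusionHyperfocal
import Cfsg.Agent.Lib.FusionFactor
import Cfsg.Agent.Lib.FusionEssential
import Cfsg.Agent.Lib.TransferPGroups
import Cfsg.Agent.Lib.FusionRelative

/-!
# A hyperfocal subgroup inside the Frattini subgroup is trivial
-/

set_option autoImplicit false

universe u

namespace CfsgLib.TwoFusion.Tate

open CfsgLib.Fusion Cfsg Cfsg.FusionSystem
open scoped Classical commutatorElement

variable {Ω : Type u} [Group Ω] {S : Subgroup Ω} [Finite S] {F : FusionSystem S} {p : ℕ} [hp : Fact p.Prime]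

theorem exists_conj_mod (hS : IsPGroup p S) (hF : F.IsSaturated p) {P : Subgroup Ω} {f : Ω → Ω}
    (hf : Map F P f) :
    ∃ z ∈ S, ∀ x ∈ P, (z * x * z⁻¹)⁻¹ * f x ∈ F.hyperfocalSubgroup p := by
  set H := F.hyperfocalSubgroup p
  refine alperin hS hF (Pr := fun P f => ∃ z ∈ S, ∀ x ∈ P, (z * x * z⁻¹)⁻¹ * f x ∈ H)
    { congr := fun {P f g} ⟨z, hz, h⟩ he => ⟨z, hz, fun x hx => he x hx ▸ h x hx⟩
      comp := fun {P Q f g} hf _ ⟨z, hz, h⟩ ⟨w, hw, h'⟩ hm => ⟨w * z, mul_mem hw hz, fun x hx => by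
        have h1 := hyperfocal_conj (F := F) hw (h x hx)
        have h2 := h' _ (hm x hx)
        have := mul_mem h1 h2
        rwa [show w * ((z * x * z⁻¹)⁻¹ * f x) * w⁻¹ * ((w * f x * w⁻¹)⁻¹ * g (f x)) =
          (w * z * x * (w * z)⁻¹)⁻¹ * g (f x) by group] at this⟩
      inv := fun {P f g} hf _ hgf ⟨z, hz, h⟩ => ⟨z⁻¹, inv_mem hz, fun y hy => by
        obtain ⟨x, hx, rfl⟩ := hf.mem_img.mp hy
        rw [hgf x hx]
        have := hyperfocal_conj (F := F) (inv_mem hz) (inv_mem (h x hx))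
        rwa [show z⁻¹ * ((z * x * z⁻¹)⁻¹ * f x)⁻¹ * z⁻¹⁻¹ = (z⁻¹ * f x * z⁻¹⁻¹)⁻¹ * x by group] at this⟩
      id := fun {P} _ => ⟨1, one_mem _, fun x _ => by simp⟩ }
    (fun Q hQ α hα => ?_) hf
  have hfn : F.IsFullyNormalized Q := hQ.elim (fun e => e ▸ isFullyNormalized_top F) fun e => e.2.1
  obtain ⟨s, hs, β, hβ, he⟩ := exists_factor_autGroup hS hF hfn hα
  refine ⟨s, hs.1, fun x hx => ?_⟩
  rw [he x hx]
  have := hyperfocal_conj (F := F) hs.1 (mem_hyperfocal (F := F) hfn.1 hβ hx)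
  rwa [show s * (x⁻¹ * autFun (β : MulAut Q) x) * s⁻¹ =
    (s * x * s⁻¹)⁻¹ * (s * autFun (β : MulAut Q) x * s⁻¹) by group] at this

variable {a : Subgroup (↥S × ↥S) → ℕ}

/-- A right equivariant function on a biset. -/
def Frame (c : BSet a → S) : Prop := ∀ (t : S) (x : BSet a), c (((1, t) : ↥S × ↥S) • x) = c x * t⁻¹

theorem exists_frame (hS : IsPGroup p S) (hF : F.IsSaturated p) (ha : Supported F a) :
    ∃ c : BSet a → S, Frame c ∧ ∀ (s : S) (x : BSet a),
      (((c x)⁻¹ * (s⁻¹ * c (((s, 1) : ↥S × ↥S) • x)) : S) : Ω) ∈ F.hyperfocalSubgroup p := by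
  set H := F.hyperfocalSubgroup p
  let o : BSet a → BSet a := fun x =>
    (Quotient.mk (MulAction.orbitRel (↥S × ↥S) (BSet a)) x).out
  have hrel : ∀ x, ∃ γ : ↥S × ↥S, γ • o x = x := fun x => by
    obtain ⟨γ, hγ⟩ := Quotient.mk_out (s := MulAction.orbitRel (↥S × ↥S) (BSet a)) x
    exact ⟨γ⁻¹, by show γ⁻¹ • o x = x; rw [inv_smul_eq_iff]; exact hγ.symm⟩
  have hpt : ∀ w : BSet a, ∃ z : S, ∀ d ∈ MulAction.stabilizer (↥S × ↥S) w,
      (((z * d.1 * z⁻¹)⁻¹ * d.2 : S) : Ω) ∈ H := fun w => by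
    obtain ⟨f, hf, he⟩ := good_stabilizer ha w
    obtain ⟨z, hz, h⟩ := exists_conj_mod hS hF hf
    exact ⟨⟨z, hz⟩, fun d hd => by
      rw [Subgroup.coe_mul, he d hd]
      exact h _ (fst_mem_pr1 hd)⟩
  choose z hz using hpt
  choose γ hγ using hrel
  let π : BSet a → S := fun x => (γ x).1 * (z (o x))⁻¹ * (γ x).2⁻¹
  -- `π` is equivariant modulo `H`
  have hπ : ∀ (δ : ↥S × ↥S) (x : BSet a),
      (((δ.1 * π x * δ.2⁻¹)⁻¹ * π (δ • x) : S) : Ω) ∈ H := by
    intro δ x
    have ho : o (δ • x) = o x := by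
      show Quotient.out _ = Quotient.out _
      congr 1
      exact Quotient.sound ⟨δ, rfl⟩
    set e := (γ (δ • x))⁻¹ * (δ * γ x) with hedef
    have he : e ∈ MulAction.stabilizer (↥S × ↥S) (o x) := by
      show ((γ (δ • x))⁻¹ * (δ * γ x)) • o x = o x
      rw [mul_smul, mul_smul, hγ x, inv_smul_eq_iff]
      exact ((congrArg (γ (δ • x) • ·) ho).symm.trans (hγ (δ • x))).symm
    have h1 := hz (o x) e he
    have hmul : δ * γ x = γ (δ • x) * e := by rw [hedef, mul_inv_cancel_left]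
    have e1 : δ.1 * (γ x).1 = (γ (δ • x)).1 * e.1 := congrArg Prod.fst hmul
    have e2 : δ.2 * (γ x).2 = (γ (δ • x)).2 * e.2 := congrArg Prod.snd hmul
    rw [show (δ.1 * π x * δ.2⁻¹)⁻¹ * π (δ • x) =
        ((γ (δ • x)).2 * e.2) * ((z (o x) * e.1 * (z (o x))⁻¹)⁻¹ * e.2) * ((γ (δ • x)).2 * e.2)⁻¹ by
      have p1 : δ.1 = (γ (δ • x)).1 * e.1 * (γ x).1⁻¹ := by rw [← e1, mul_inv_cancel_right]
      have p2 : δ.2 = (γ (δ • x)).2 * e.2 * (γ x).2⁻¹ := by rw [← e2, mul_inv_cancel_right]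
      show (δ.1 * ((γ x).1 * (z (o x))⁻¹ * (γ x).2⁻¹) * δ.2⁻¹)⁻¹ *
        ((γ (δ • x)).1 * (z (o (δ • x)))⁻¹ * (γ (δ • x)).2⁻¹) = _
      rw [ho, p1, p2]
      group]
    simpa only [Subgroup.coe_mul, Subgroup.coe_inv] using
      hyperfocal_conj (F := F) ((γ (δ • x)).2 * e.2).2 h1
  let c : BSet a → S := fun x => π (Quotient.mk (rightSetoid a) x).out * (coord x)⁻¹
  have hc : Frame c := by
    intro t x
    have h := coord_spec x
    obtain ⟨h1, h2⟩ := coord_eq (a := a) ha (q := Quotient.mk (rightSetoid a) x)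
      (t := t * coord x) (x := ((1, t) : ↥S × ↥S) • x) (by
        conv_rhs => rw [← h, ← mul_smul, Prod.mk_mul_mk, mul_one])
    show π (Quotient.mk (rightSetoid a) _).out * (coord _)⁻¹ =
      π (Quotient.mk (rightSetoid a) x).out * (coord x)⁻¹ * t⁻¹
    rw [h1, h2, mul_inv_rev]
    exact (mul_assoc _ _ _).symm
  refine ⟨c, hc, fun s x => ?_⟩
  -- `c` and `π` agree modulo `H`
  have hcπ : ∀ x, (((c x)⁻¹ * π x : S) : Ω) ∈ H := fun x => by
    have := hπ (1, coord x) (Quotient.mk (rightSetoid a) x).out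
    rw [coord_spec, one_mul] at this
    exact this
  have h1 := hcπ x
  have h2 := inv_mem (hcπ (((s, 1) : ↥S × ↥S) • x))
  have h3 := hπ (s, 1) x
  rw [inv_one, mul_one] at h3
  have h4 := mul_mem (mul_mem h1 h3) h2
  simpa [mul_assoc] using h4

/-- The right orbit of a point. -/
def orb (x : BSet a) : RightOrbits a := Quotient.mk (rightSetoid a) x

section Transfer

variable {A : Type u} [CommGroup A] (lt : S → A) (c : BSet a → S)

/-- The representative of an orbit with frame value one. -/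
noncomputable def rep (q : RightOrbits a) : BSet a :=
  ((1, c (Quotient.out q)) : ↥S × ↥S) • Quotient.out q

omit [Finite S] in
theorem mk_rep (q : RightOrbits a) : orb (rep c q) = q := by
  conv_rhs => rw [← Quotient.out_eq q]
  exact Quotient.sound ⟨(c (Quotient.out q))⁻¹, by
    show ((1, (c (Quotient.out q))⁻¹) : ↥S × ↥S) • ((1, c (Quotient.out q)) : ↥S × ↥S) • Quotient.out q = _
    rw [← mul_smul, Prod.mk_mul_mk, mul_one, inv_mul_cancel]
    exact one_smul _ _⟩

omit [Finite S] in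
theorem frame_rep (hc : Frame c) (q : RightOrbits a) : c (rep c q) = 1 := by
  rw [rep, hc, mul_inv_cancel]

omit [Finite S] in
theorem eq_rep {c} (hc : Frame c) (ha : Supported F a) (x : BSet a) :
    x = ((1, (c x)⁻¹) : ↥S × ↥S) • rep c (orb x) := by
  have hs : ((1, coord x) : ↥S × ↥S) • (orb x).out = x := coord_spec x
  have h : c x = c (orb x).out * (coord x)⁻¹ := by
    conv_lhs => rw [← hs]
    exact hc _ _
  show x = ((1, (c x)⁻¹) : ↥S × ↥S) • ((1, c (orb x).out) : ↥S × ↥S) • (orb x).out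
  rw [← mul_smul, Prod.mk_mul_mk, mul_one, h, mul_inv_rev, inv_inv, inv_mul_cancel_right, hs]

omit [Finite S] in
theorem smul_mk (g : parkGroup a) (x : BSet a) :
    g • orb x =
      orb ((g : Equiv.Perm (BSet a)) x) := rfl

/-- The transfer relative to a frame. -/
noncomputable def trans (g : parkGroup a) : A :=
  letI := Fintype.ofFinite (RightOrbits a)
  ∏ q, lt (c ((g : Equiv.Perm (BSet a)) (rep c q)))

variable {lt c}

theorem trans_mul (hc : Frame c) (ha : Supported F a) (e : A) (g h : parkGroup a)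
    (he : ∀ q r, lt (c ((g : Equiv.Perm (BSet a)) (rep c q)) * c ((h : Equiv.Perm (BSet a)) (rep c r))) =
      e * lt (c ((g : Equiv.Perm (BSet a)) (rep c q))) * lt (c ((h : Equiv.Perm (BSet a)) (rep c r)))) :
    trans lt c (g * h) = e ^ Nat.card (RightOrbits a) * trans lt c g * trans lt c h := by
  letI := Fintype.ofFinite (RightOrbits a)
  have hterm : ∀ q, lt (c (((g * h : parkGroup a) : Equiv.Perm (BSet a)) (rep c q))) =
      e * lt (c ((g : Equiv.Perm (BSet a)) (rep c (h • q)))) *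
        lt (c ((h : Equiv.Perm (BSet a)) (rep c q))) := by
    intro q
    set x := (h : Equiv.Perm (BSet a)) (rep c q)
    have hx : orb x = h • q := by rw [← smul_mk, mk_rep]
    rw [Subgroup.coe_mul, Equiv.Perm.mul_apply]
    conv_lhs => rw [show (h : Equiv.Perm (BSet a)) (rep c q) = _ from eq_rep hc ha x,
      ← mem_parkGroup.mp g.2, hc, inv_inv, hx]
    exact he _ _
  show (∏ q, _) = _ * (∏ q, _) * (∏ q, _)
  rw [Finset.prod_congr rfl fun q _ => hterm q, Finset.prod_mul_distrib, Finset.prod_mul_distrib,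
    Finset.prod_const, Finset.card_univ, Nat.card_eq_fintype_card]
  congr 2
  exact Equiv.prod_comp (MulAction.toPerm h) (fun q => lt (c ((g : Equiv.Perm (BSet a)) (rep c q))))

theorem trans_conj (hc : Frame c) (ha : Supported F a) (k h : parkGroup a) :
    trans lt (fun x => c ((k : Equiv.Perm (BSet a)) x)) h = trans lt c (k * h * k⁻¹) := by
  letI := Fintype.ofFinite (RightOrbits a)
  set c' := fun x => c ((k : Equiv.Perm (BSet a)) x)
  have hc' : Frame c' := fun t x => by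
    show c _ = _
    rw [← mem_parkGroup.mp k.2, hc]
  show (∏ q, _) = ∏ q, _
  refine Fintype.prod_equiv (MulAction.toPerm k) _ _ fun q => ?_
  have hr : (k : Equiv.Perm (BSet a)) (rep c' q) = rep c (k • q) := by
    have h1 : c ((k : Equiv.Perm (BSet a)) (rep c' q)) = 1 := frame_rep c' hc' q
    have h2 : orb ((k : Equiv.Perm (BSet a)) (rep c' q)) = k • q := by
      rw [← smul_mk, mk_rep]
    conv_lhs => rw [eq_rep hc ha ((k : Equiv.Perm (BSet a)) (rep c' q)), h1, h2, inv_one]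
    exact one_smul _ _
  show lt (c ((k : Equiv.Perm (BSet a)) ((h : Equiv.Perm (BSet a)) (rep c' q)))) =
    lt (c (((k * h * k⁻¹ : parkGroup a) : Equiv.Perm (BSet a)) (rep c (k • q))))
  rw [← hr]
  simp

theorem trans_frame (hc : Frame c) {c' : BSet a → S} (hc' : Frame c') (ha : Supported F a) (h : parkGroup a)
    (hlt : ∀ u m v : S, lt (u * m * v⁻¹) * lt v = lt u * lt m ∨
      ¬ ((∃ q, m = c ((h : Equiv.Perm (BSet a)) (rep c q)) ∧
        u = c' (Quotient.out (h • q)) * (c (Quotient.out (h • q)))⁻¹ ∧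
        v = c' (Quotient.out q) * (c (Quotient.out q))⁻¹))) :
    trans lt c' h = trans lt c h := by
  letI := Fintype.ofFinite (RightOrbits a)
  let D : RightOrbits a → S := fun q => c' (Quotient.out q) * (c (Quotient.out q))⁻¹
  have hD : ∀ x, c' x = D (orb x) * c x := fun x => by
    conv_lhs => rw [← (coord_spec x : ((1, coord x) : ↥S × ↥S) • (orb x).out = x), hc']
    conv_rhs => arg 2; rw [← (coord_spec x : ((1, coord x) : ↥S × ↥S) • (orb x).out = x), hc]
    simp only [D, orb]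
    group
  have hterm : ∀ q, lt (c' ((h : Equiv.Perm (BSet a)) (rep c' q))) * lt (D q) =
      lt (D (h • q)) * lt (c ((h : Equiv.Perm (BSet a)) (rep c q))) := by
    intro q
    have h1 : c' ((h : Equiv.Perm (BSet a)) (rep c' q)) =
        D (h • q) * c ((h : Equiv.Perm (BSet a)) (rep c q)) * (D q)⁻¹ := by
      have hr : rep c' q = ((1, D q) : ↥S × ↥S) • rep c q := by
        show ((1, c' (Quotient.out q)) : ↥S × ↥S) • Quotient.out q = ((1, D q) : ↥S × ↥S) • ((1, c (Quotient.out q)) : ↥S × ↥S) • Quotient.out q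
        rw [← mul_smul, Prod.mk_mul_mk, mul_one]
        simp only [D, inv_mul_cancel_right]
      rw [hr, ← mem_parkGroup.mp h.2, hc', hD, ← smul_mk, mk_rep]
    rw [h1]
    exact (hlt _ _ _).resolve_right (fun hn => hn ⟨q, rfl, rfl, rfl⟩)
  have := Finset.prod_congr rfl fun q (_ : q ∈ (Finset.univ : Finset (RightOrbits a))) => hterm q
  rw [Finset.prod_mul_distrib, Finset.prod_mul_distrib,
    show (∏ q, lt (D (h • q))) = ∏ q, lt (D q) from Equiv.prod_comp (MulAction.toPerm h) (fun q => lt (D q)),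
    mul_comm (∏ q, lt (D q))] at this
  exact mul_right_cancel this

end Transfer

/-- **Tate**: no normal subgroup below the hyperfocal subgroup supplements it modulo the Frattini subgroup. -/
theorem hyperfocal_eq_of_le_sup (hS : IsPGroup p S) (hF : F.IsSaturated p) {K₀ : Subgroup Ω}
    (hK₀ : K₀ ≤ F.hyperfocalSubgroup p) (hK₀n : ∀ s ∈ S, ∀ x ∈ K₀, s * x * s⁻¹ ∈ K₀)
    (hΦ : F.hyperfocalSubgroup p ≤ (frattini S).map S.subtype ⊔ K₀) : F.hyperfocalSubgroup p = K₀ := by
  set H := F.hyperfocalSubgroup p with hH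
  have hHS : H ≤ S := hyperfocal_le F
  by_contra hne
  set D : Subgroup S := H.subgroupOf S with hD
  haveI hDn : D.Normal := ⟨fun x hx s => by
    show ((s * x * s⁻¹ : S) : Ω) ∈ H
    simpa using hyperfocal_conj (F := F) s.2 hx⟩
  set C : Subgroup S := K₀.subgroupOf S with hC
  haveI hCn : C.Normal := ⟨fun x hx s => by
    show ((s * x * s⁻¹ : S) : Ω) ∈ K₀
    simpa using hK₀n s s.2 x hx⟩
  have hCD : C ≤ D := fun x hx => hK₀ hx
  set qC : S →* S ⧸ C := QuotientGroup.mk' C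
  haveI : (D.map qC).Normal := hDn.map _ (QuotientGroup.mk'_surjective C)
  obtain ⟨k₀, hk₀⟩ := IsPGroup.iff_card.mp ((hS.to_quotient C).to_subgroup (D.map qC))
  obtain ⟨k₀, rfl⟩ : ∃ k', k₀ = k' + 1 := by
    refine Nat.exists_eq_succ_of_ne_zero fun h0 => hne (le_antisymm (fun x hx => ?_) hK₀)
    rw [h0, pow_zero] at hk₀
    have := (Subgroup.card_eq_one.1 hk₀).le (Subgroup.mem_map_of_mem qC (show (⟨x, hHS hx⟩ : S) ∈ D from hx))
    exact ((QuotientGroup.eq_one_iff (⟨x, hHS hx⟩ : S)).1 (Subgroup.mem_bot.1 this) : (⟨x, hHS hx⟩ : S) ∈ C)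
  obtain ⟨N₀, hN₀, hN₀D, hN₀c⟩ := CfsgLib.Transfer.exists_normal_index_prime (hS.to_quotient C) (D.map qC) hk₀
  haveI := hN₀
  set N : Subgroup S := N₀.comap qC with hNdef
  have hN : N.Normal := hN₀.comap qC
  have hCN : C ≤ N := fun x hx => by
    show qC x ∈ N₀
    rw [show qC x = 1 from (QuotientGroup.eq_one_iff x).2 hx]; exact one_mem _
  have hND : N ≤ D := (Subgroup.comap_mono hN₀D).trans (by
    rw [Subgroup.comap_map_eq, QuotientGroup.ker_mk', sup_eq_left.2 hCD])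
  haveI := hN
  set q₀ : S →* S ⧸ N := QuotientGroup.mk' N
  set Z := D.map q₀ with hZ
  haveI : Z.Normal := hDn.map _ (QuotientGroup.mk'_surjective N)
  have hZc : Nat.card Z = p := by
    rw [hZ, ← Subgroup.relIndex_ker, QuotientGroup.ker_mk', hNdef, Subgroup.relIndex_comap]
    have h2 := Subgroup.card_mul_index (N₀.subgroupOf (D.map qC))
    rw [Nat.card_congr (Subgroup.subgroupOfEquivOfLe hN₀D).toEquiv, hN₀c, hk₀, pow_succ] at h2
    exact Nat.eq_of_mul_eq_mul_left (pow_pos hp.out.pos k₀) h2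
  have hcen := CfsgLib.Transfer.le_center_of_card_prime (hS.to_quotient N) Z hZc
  letI : CommGroup Z := { (inferInstance : Group Z) with
    mul_comm := fun u v => Subtype.ext ((Subgroup.mem_center_iff.1 (hcen v.2)) u) }
  -- the quasi-homomorphism
  let L : S ⧸ D → S := fun v => if v = 1 then 1 else v.out
  have hL : ∀ v : S ⧸ D, (QuotientGroup.mk (L v) : S ⧸ D) = v := fun v => by
    by_cases hv : v = 1
    · subst hv; simp [L]
    · simp [L, hv]
  have hmemD : ∀ s : S, (L (QuotientGroup.mk s))⁻¹ * s ∈ D := fun s =>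
    QuotientGroup.eq.1 (hL _)
  let lt : S → Z := fun s => ⟨q₀ ((L (QuotientGroup.mk s))⁻¹ * s), ⟨_, hmemD s, rfl⟩⟩
  have hltD : ∀ h : S, h ∈ D → (lt h : S ⧸ N) = q₀ h := fun h hh => by
    show q₀ ((L (QuotientGroup.mk h))⁻¹ * h) = _
    rw [(QuotientGroup.eq_one_iff h).2 hh]
    simp [L]
  have hquasi : ∀ u v : S, lt (u * v) =
      ⟨q₀ ((L (QuotientGroup.mk (u * v)))⁻¹ * L (QuotientGroup.mk u) * L (QuotientGroup.mk v)),
        ⟨_, by
          show _ ∈ D
          rw [← QuotientGroup.eq_one_iff]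
          simp [hL], rfl⟩⟩ * lt u * lt v := fun u v => Subtype.ext (by
    set cu : Z := lt u
    have hcomm := Subgroup.mem_center_iff.1 (hcen cu.2) (q₀ (L (QuotientGroup.mk v)))
    show q₀ _ = q₀ _ * (cu : S ⧸ N) * q₀ _
    rw [map_mul, map_mul, map_mul, map_mul]
    calc q₀ (L (QuotientGroup.mk (u * v)))⁻¹ * (q₀ u * q₀ v)
        = q₀ (L (QuotientGroup.mk (u * v)))⁻¹ * q₀ (L (QuotientGroup.mk u)) * ((cu : S ⧸ N) * q₀ (L (QuotientGroup.mk v))) *
            q₀ ((L (QuotientGroup.mk v))⁻¹ * v) := by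
          show _ = _ * _ * (q₀ ((L (QuotientGroup.mk u))⁻¹ * u) * _) * _
          simp only [map_mul, map_inv]; group
      _ = _ := by rw [← hcomm]; simp only [mul_assoc])
  have hlt1 : ∀ h v : S, h ∈ D → lt (h * v) = lt h * lt v := fun h v hh => by
    rw [hquasi]
    have hmk : (QuotientGroup.mk h : S ⧸ D) = 1 := (QuotientGroup.eq_one_iff h).2 hh
    have hmk2 : (QuotientGroup.mk (h * v) : S ⧸ D) = QuotientGroup.mk v := by
      rw [QuotientGroup.mk_mul, hmk, one_mul]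
    have : L (1 : S ⧸ D) = 1 := by simp [L]
    simp only [hmk, hmk2, this, mul_one, inv_mul_cancel, map_one]
    exact congrArg (· * lt v) (one_mul _)
  -- the transfer
  obtain ⟨a, ha, hst, -, hn⟩ := exists_park hS hF
  set n := Nat.card (RightOrbits a)
  obtain ⟨c, hc, hcH⟩ := exists_frame hS hF ha
  have hmkc : ∀ (s : S) (x : BSet a), (QuotientGroup.mk (c ((parkι a s : Equiv.Perm (BSet a)) x)) : S ⧸ D) =
      QuotientGroup.mk s * QuotientGroup.mk (c x) := fun s x => by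
    rw [← QuotientGroup.mk_mul, eq_comm, QuotientGroup.eq, parkι_apply]
    show _ ∈ D
    rw [mul_inv_rev, mul_assoc]
    exact hcH s x
  have hmk0 : ∀ (s : S) q, (QuotientGroup.mk (c ((parkι a s : Equiv.Perm (BSet a)) (rep c q))) : S ⧸ D) =
      QuotientGroup.mk s := fun s q => by rw [hmkc, frame_rep c hc, QuotientGroup.mk_one, mul_one]
  let U : S → Z := fun s => trans lt c (parkι a s)
  have hU : ∀ s t : S, ∃ e : Z, lt (s * t) = e * lt s * lt t ∧ U (s * t) = e ^ n * U s * U t := by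
    intro s t
    refine ⟨_, hquasi s t, ?_⟩
    show trans lt c (parkι a (s * t)) = _
    rw [map_mul]
    refine trans_mul hc ha _ _ _ fun q r => ?_
    rw [hquasi]
    simp only [QuotientGroup.mk_mul, hmk0]
  let δ : S →* Z := MonoidHom.mk' (fun s => U s * (lt s ^ n)⁻¹) fun s t => by
    obtain ⟨e, h1, h2⟩ := hU s t
    rw [h1, h2, mul_pow, mul_pow, mul_inv, mul_inv]
    calc e ^ n * U s * U t * ((e ^ n)⁻¹ * (lt s ^ n)⁻¹ * (lt t ^ n)⁻¹)
        = e ^ n * (e ^ n)⁻¹ * (U s * (lt s ^ n)⁻¹ * (U t * (lt t ^ n)⁻¹)) := by ac_rfl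
      _ = _ := by rw [mul_inv_cancel, one_mul]
  have hδΦ : ∀ h, h ∈ frattini S → δ h = 1 := fun h hh =>
    MonoidHom.mem_ker.mp (CfsgLib.Core.coe_frattini_le_of_hom_prime hZc δ hh)
  -- stability
  have hstab : ∀ (P : Subgroup Ω) (f : Ω → Ω) (hf : Map F P f) (x : S) (hx : (x : Ω) ∈ P), x ∈ D →
      (⟨f x, hf.apply_mem hx⟩ : S) ∈ D → U ⟨f x, hf.apply_mem hx⟩ = U x := by
    intro P f hf x hx hxD hfD
    obtain ⟨g, hg⟩ := exists_park_conj ha hst hf
    show trans lt c (parkι a _) = trans lt c (parkι a x)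
    rw [hg x hx, ← trans_conj hc ha g (parkι a x)]
    set c' := fun y => c ((g : Equiv.Perm (BSet a)) y)
    have hc' : Frame c' := fun t y => by show c _ = _; rw [← mem_parkGroup.mp g.2, hc]
    refine trans_frame hc hc' ha _ fun u m v => ?_
    by_cases hq : ∃ q, m = c ((parkι a x : Equiv.Perm (BSet a)) (rep c q)) ∧
        u = c' (Quotient.out (parkι a x • q)) * (c (Quotient.out (parkι a x • q)))⁻¹ ∧
        v = c' (Quotient.out q) * (c (Quotient.out q))⁻¹
    swap
    · exact Or.inr hq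
    refine Or.inl ?_
    obtain ⟨q, rfl, rfl, rfl⟩ := hq
    set h := parkι a x
    set y := Quotient.out q
    have hx1 : (QuotientGroup.mk x : S ⧸ D) = 1 := (QuotientGroup.eq_one_iff x).2 hxD
    have e1 : ∀ y, (QuotientGroup.mk (c ((h : Equiv.Perm (BSet a)) y)) : S ⧸ D) = QuotientGroup.mk (c y) := fun y => by
      rw [hmkc, hx1, one_mul]
    have e2 : ∀ y, (QuotientGroup.mk (c' ((h : Equiv.Perm (BSet a)) y)) : S ⧸ D) = QuotientGroup.mk (c' y) := fun y => by
      have h1 : (g : Equiv.Perm (BSet a)) ((h : Equiv.Perm (BSet a)) y) =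
          (parkι a ⟨f x, hf.apply_mem hx⟩ : Equiv.Perm (BSet a)) ((g : Equiv.Perm (BSet a)) y) := by
        rw [hg x hx]; simp [h]
      show (QuotientGroup.mk (c _) : S ⧸ D) = QuotientGroup.mk (c _)
      rw [h1, hmkc, (QuotientGroup.eq_one_iff _).2 hfD, one_mul]
    have e3 : (QuotientGroup.mk (c' (Quotient.out (h • q)) * (c (Quotient.out (h • q)))⁻¹) : S ⧸ D) =
        QuotientGroup.mk (c' y * (c y)⁻¹) := by
      set o := Quotient.out (h • q)
      have ho : Quotient.mk (rightSetoid a) ((h : Equiv.Perm (BSet a)) y) = h • q := by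
        show orb _ = _
        rw [← smul_mk]
        exact congrArg (h • ·) (Quotient.out_eq q)
      have hy := coord_spec ((h : Equiv.Perm (BSet a)) y)
      rw [ho] at hy
      set t := coord ((h : Equiv.Perm (BSet a)) y)
      have h1 := e1 y
      have h2 := e2 y
      rw [← hy, hc] at h1
      rw [← hy, hc'] at h2
      rw [QuotientGroup.mk_mul, QuotientGroup.mk_inv] at h1 h2
      rw [QuotientGroup.mk_mul, QuotientGroup.mk_inv, QuotientGroup.mk_mul, QuotientGroup.mk_inv, ← h1, ← h2]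
      simp only [o]
      group
    set u := c' (Quotient.out (h • q)) * (c (Quotient.out (h • q)))⁻¹
    set v := c' y * (c y)⁻¹
    set m := c ((h : Equiv.Perm (BSet a)) (rep c q))
    have hm : m ∈ D := by
      rw [← QuotientGroup.eq_one_iff]
      exact (hmk0 x q).trans hx1
    have humv : u * m * v⁻¹ ∈ D := by
      rw [← QuotientGroup.eq_one_iff, QuotientGroup.mk_mul, QuotientGroup.mk_mul, QuotientGroup.mk_inv, e3,
        (QuotientGroup.eq_one_iff m).2 hm, mul_one, mul_inv_cancel]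
    rw [← hlt1 _ v humv, inv_mul_cancel_right, show u * m = (u * m * u⁻¹) * u by group,
      hlt1 _ u (hDn.conj_mem m hm u), mul_comm (lt u)]
    congr 1
    refine Subtype.ext ?_
    rw [hltD _ (hDn.conj_mem m hm u), hltD _ hm, map_mul, map_mul, map_inv,
      Subgroup.mem_center_iff.1 (hcen (show q₀ m ∈ Z from ⟨m, hm, rfl⟩)) (q₀ u), mul_inv_cancel_right]
  -- the transfer vanishes
  have hpZ : ∀ w : Z, w ^ p = 1 := fun w => hZc ▸ pow_card_eq_one'
  have hinj : ∀ w : Z, w ^ n = 1 → w = 1 := fun w hw => eq_one_of_pow_eq_one hn hw (k := 1) (by rw [pow_one]; exact hpZ w)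
  have hUmul : ∀ h v : S, h ∈ D → U (h * v) = U h * U v := fun h v hh => by
    have e : ∀ w, U w = δ w * lt w ^ n := fun w => (inv_mul_cancel_right (U w) (lt w ^ n)).symm
    rw [e, e h, e v, map_mul, hlt1 h v hh, mul_pow]
    ac_rfl
  have hU1 : U 1 = 1 := by
    have h := hUmul 1 1 (one_mem D)
    rw [mul_one] at h
    exact mul_eq_left.mp h.symm
  let K : Subgroup Ω :=
    { carrier := {y | ∃ hy : y ∈ H, U ⟨y, hHS hy⟩ = 1}
      one_mem' := ⟨one_mem _, hU1⟩
      mul_mem' := fun {u v} ⟨hu, eu⟩ ⟨hv, ev⟩ => ⟨mul_mem hu hv, by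
        rw [show (⟨u * v, hHS (mul_mem hu hv)⟩ : S) = ⟨u, hHS hu⟩ * ⟨v, hHS hv⟩ from rfl,
          hUmul _ _ (show (⟨u, hHS hu⟩ : S) ∈ D from hu), eu, ev, one_mul]⟩
      inv_mem' := fun {u} ⟨hu, eu⟩ => ⟨inv_mem hu, by
        have h := hUmul ⟨u⁻¹, hHS (inv_mem hu)⟩ ⟨u, hHS hu⟩ (show (⟨u⁻¹, hHS (inv_mem hu)⟩ : S) ∈ D from inv_mem hu)
        rw [eu, mul_one, show (⟨u⁻¹, hHS (inv_mem hu)⟩ : S) * ⟨u, hHS hu⟩ = 1 from Subtype.ext (inv_mul_cancel u), hU1] at h
        exact h.symm⟩ }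
  have hle : H ≤ K := by
    show F.hyperfocalSubgroup p ≤ K
    rw [FusionSystem.hyperfocalSubgroup, Subgroup.closure_le]
    rintro _ ⟨P, α, x, hP, hα, rfl⟩
    suffices ∀ y ∈ P, y⁻¹ * autFun (α : MulAut P) y ∈ K by
      have := this x x.2
      rwa [autFun_coe] at this
    haveI := finite_of_le hP
    haveI := finite_autGroup F hP
    induction hα using Subgroup.closure_induction with
    | mem β hβ =>
      intro y hy
      have hβ' : β ∈ pResidual p (F.autGroup P) := Subgroup.subset_closure hβ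
      have hm := (mem_autGroup_iff hP).1 β.2
      let d : ℕ → Ω := fun j => y⁻¹ * autFun ((β : MulAut P) ^ j) y
      have hdH : ∀ j, d j ∈ H := fun j => by
        have := mem_hyperfocal (F := F) hP (pow_mem hβ' j) hy
        rwa [Subgroup.coe_pow] at this
      have hdP : ∀ j, d j ∈ P := fun j => mul_mem (inv_mem hy) (autFun_mem _ hy)
      have hrec : ∀ j, d (j + 1) = d 1 * autFun (β : MulAut P) (d j) := fun j => by
        show y⁻¹ * autFun ((β : MulAut P) ^ (j + 1)) y = y⁻¹ * autFun ((β : MulAut P) ^ 1) y * _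
        rw [pow_succ', autFun_mul _ _ hy, pow_one, hm.map_mul (inv_mem hy) (autFun_mem _ hy), hm.map_inv hy,
          mul_assoc, mul_inv_cancel_left]
      have hfd : ∀ j, autFun (β : MulAut P) (d j) ∈ H := fun j => by
        have := mul_mem (inv_mem (hdH 1)) (hdH (j + 1))
        rwa [hrec j, inv_mul_cancel_left] at this
      have hpow : ∀ j, U ⟨d j, hHS (hdH j)⟩ = U ⟨d 1, hHS (hdH 1)⟩ ^ j := by
        intro j
        induction j with
        | zero =>
          rw [pow_zero, show (⟨d 0, hHS (hdH 0)⟩ : S) = 1 from Subtype.ext (by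
            show y⁻¹ * autFun ((β : MulAut P) ^ 0) y = 1
            rw [pow_zero, autFun_one hy, inv_mul_cancel])]
          exact hU1
        | succ j ih =>
          rw [show (⟨d (j + 1), hHS (hdH (j + 1))⟩ : S) = ⟨d 1, hHS (hdH 1)⟩ * ⟨_, hHS (hfd j)⟩ from
            Subtype.ext (hrec j), hUmul _ _ (show (⟨d 1, hHS (hdH 1)⟩ : S) ∈ D from hdH 1),
            hstab P _ hm ⟨d j, hHS (hdH j)⟩ (hdP j) (hdH j) (hfd j), ih, pow_succ']
      refine ⟨?_, ?_⟩
      · have := hdH 1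
        simpa [d] using this
      · have h1 := hpow (orderOf β)
        have hd0 : (⟨d (orderOf β), hHS (hdH _)⟩ : S) = 1 := Subtype.ext (by
          show y⁻¹ * autFun ((β : MulAut P) ^ orderOf β) y = 1
          rw [← Subgroup.coe_pow, pow_orderOf_eq_one, Subgroup.coe_one, autFun_one hy, inv_mul_cancel])
        rw [hd0, hU1] at h1
        have h2 : U ⟨d 1, hHS (hdH 1)⟩ = 1 :=
          eq_one_of_pow_eq_one (p := p) (fun hd => (Nat.Coprime.coprime_dvd_left hd hβ).symm |> fun hc =>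
            hp.out.ne_one (Nat.coprime_self p |>.1 hc)) h1.symm (k := 1) (by rw [pow_one]; exact hpZ _)
        simp only [d, pow_one] at h2
        exact h2
    | one =>
      intro y hy
      rw [Subgroup.coe_one, autFun_one hy, inv_mul_cancel]
      exact one_mem _
    | mul u v _ _ iu iv =>
      intro y hy
      rw [Subgroup.coe_mul, autFun_mul _ _ hy]
      have := mul_mem (iv y hy) (iu _ (autFun_mem (v : MulAut P) hy))
      rwa [mul_assoc, mul_inv_cancel_left] at this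
    | inv u _ iu =>
      intro y hy
      have := inv_mem (iu _ (autFun_mem ((u⁻¹ : F.autGroup P) : MulAut P) hy))
      rwa [← autFun_mul _ _ hy, ← Subgroup.coe_mul, mul_inv_cancel, Subgroup.coe_one, autFun_one hy, mul_inv_rev,
        inv_inv] at this
  have hδH : ∀ h ∈ D, δ h = (lt h ^ n)⁻¹ := fun h hh => by
    obtain ⟨_, he⟩ := hle (show (h : Ω) ∈ H from hh)
    exact (congrArg (· * (lt h ^ n)⁻¹) he).trans (one_mul _)
  have hker : frattini S ⊔ C ≤ δ.ker := sup_le (fun h hh => hδΦ h hh) fun h hh => by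
    rw [MonoidHom.mem_ker, hδH h (hCD hh)]
    have : lt h = 1 := Subtype.ext ((hltD h (hCD hh)).trans ((QuotientGroup.eq_one_iff h).2 (hCN hh)))
    rw [this, one_pow, inv_one]
  have hDle : D ≤ frattini S ⊔ C := fun h hh => by
    have h1 : (h : Ω) ∈ (frattini S ⊔ C).map S.subtype := by
      rw [Subgroup.map_sup, hC, Subgroup.subgroupOf_map_subtype, inf_eq_left.2 (hK₀.trans hHS)]
      exact hΦ hh
    obtain ⟨w, hw, he⟩ := h1
    exact Subtype.ext he ▸ hw
  have hbot : Z = ⊥ := by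
    rw [eq_bot_iff]
    rintro _ ⟨h, hh, rfl⟩
    have h1 := MonoidHom.mem_ker.mp (hker (hDle hh))
    rw [hδH h hh, inv_eq_one] at h1
    rw [Subgroup.mem_bot, ← hltD h hh, hinj _ h1]
    rfl
  rw [hbot, Subgroup.card_bot] at hZc
  exact hp.out.ne_one hZc.symm

theorem hyperfocal_eq_bot (hS : IsPGroup p S) (hF : F.IsSaturated p)
    (hΦ : F.hyperfocalSubgroup p ≤ (frattini S).map S.subtype) : F.hyperfocalSubgroup p = ⊥ :=
  hyperfocal_eq_of_le_sup hS hF bot_le
    (fun s _ x hx => by rw [Subgroup.mem_bot] at hx ⊢; rw [hx]; group) (hΦ.trans le_sup_left)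

theorem hyperfocal_mono {E : FusionSystem S} (hE : E.IsSubsystemOf F) :
    E.hyperfocalSubgroup p ≤ F.hyperfocalSubgroup p := by
  rw [FusionSystem.hyperfocalSubgroup, Subgroup.closure_le]
  rintro _ ⟨P, α, x, hP, hα, rfl⟩
  have hle : E.autGroup P ≤ F.autGroup P := fun β hβ =>
    (mem_autGroup_iff hP).2 (subsystem_iff.1 hE _ _ ((mem_autGroup_iff hP).1 hβ))
  have h := mem_hyperfocal (F := F) hP
    (pResidual_map_le (Subgroup.inclusion hle) (Subgroup.mem_map_of_mem _ hα)) x.2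
  rw [Subgroup.coe_inclusion, autFun_coe] at h
  exact h

/-- Tate's theorem for a subsystem over the same group. -/
theorem tate_iff (hS : IsPGroup p S) (hF : F.IsSaturated p) {E : FusionSystem S} (hE : E.IsSaturated p)
    (hEF : E.IsSubsystemOf F) :
    (((frattini ↥S).map S.subtype ⊔ F.focalSubgroup) = ((frattini ↥S).map S.subtype ⊔ E.focalSubgroup) ↔
      F.focalSubgroup = E.focalSubgroup) ∧
    (F.focalSubgroup = E.focalSubgroup ↔ F.hyperfocalSubgroup p = E.hyperfocalSubgroup p) := by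
  set Φ := (frattini ↥S).map S.subtype
  have hcomm : ⁅S, S⁆ ≤ Φ := by
    rw [← Subgroup.map_subtype_commutator]
    exact Subgroup.map_mono (CfsgLib.Core.pgroup_commutator_le_frattini hS)
  have hsup : ∀ G : FusionSystem S, G.IsSaturated p → Φ ⊔ G.focalSubgroup = Φ ⊔ G.hyperfocalSubgroup p := fun G hG => by
    rw [focal_eq_hyperfocal_sup hS hG, sup_comm (G.hyperfocalSubgroup p), ← sup_assoc, sup_eq_left.2 hcomm]
  have h3 : Φ ⊔ F.focalSubgroup = Φ ⊔ E.focalSubgroup → F.hyperfocalSubgroup p = E.hyperfocalSubgroup p := fun h => by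
    rw [hsup F hF, hsup E hE] at h
    exact hyperfocal_eq_of_le_sup hS hF (hyperfocal_mono hEF)
      (fun s hs x hx => hyperfocal_conj hs hx) (le_sup_right.trans h.le)
  have h2 : F.hyperfocalSubgroup p = E.hyperfocalSubgroup p → F.focalSubgroup = E.focalSubgroup := fun h => by
    rw [focal_eq_hyperfocal_sup hS hF, focal_eq_hyperfocal_sup hS hE, h]
  exact ⟨⟨fun h => h2 (h3 h), fun h => by rw [h]⟩, ⟨fun h => h3 (by rw [h]), h2⟩⟩

theorem eq_inner_of_hyperfocal_eq_bot (hS : IsPGroup p S) (hF : F.IsSaturated p)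
    (h : F.hyperfocalSubgroup p = ⊥) : F = innerFusionSystem S := by
  refine eq_inner_of_pGroup_autGroups hS hF fun P hP => ?_
  rintro ⟨α₀, hα₀⟩
  obtain ⟨k, hk⟩ := pPower_of_all_powers (p := p) F hP (α := α₀) fun j m hm hjm => by
    haveI := finite_of_le hP
    refine autFun_inj fun x hx => ?_
    have hmem : x⁻¹ * autFun (α₀ ^ j) x ∈ F.hyperfocalSubgroup p := by
      refine mem_hyperfocal (α := ⟨α₀ ^ j, pow_mem hα₀ j⟩) hP (Subgroup.subset_closure ?_) hx
      show Nat.Coprime _ p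
      rw [← Subgroup.orderOf_coe]
      exact (hp.out.coprime_iff_not_dvd.2 hm).symm.coprime_dvd_left (orderOf_dvd_of_pow_eq_one hjm)
    rw [h, Subgroup.mem_bot, inv_mul_eq_one] at hmem
    rw [autFun_one hx]
    exact hmem.symm
  exact ⟨k, Subtype.ext (by simpa using hk)⟩

theorem hyperfocal_le_of_stronglyClosed (hS : IsPGroup p S) (hF : F.IsSaturated p) {Φ : Subgroup Ω}
    (htriv : ∀ s ∈ S, ∀ x ∈ S, x⁻¹ * (s * x * s⁻¹) ∈ Φ) (hsc : F.StronglyClosed Φ)
    (hAutS : ∀ f, Map F S f → ∃ s ∈ S, ∀ x ∈ S, f x = s * x * s⁻¹) : F.hyperfocalSubgroup p ≤ Φ := by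
  have hlarge : ∀ (Q : Subgroup Ω) (f : Ω → Ω), Φ ≤ Q → Map F Q f → ∀ x ∈ Q, x⁻¹ * f x ∈ Φ := by
    intro Q f hΦQ hf
    have hQS := hf.le
    haveI := finite_of_le hQS
    have hnorm : ∀ R : Subgroup Ω, R ≤ S → Φ ≤ R → normalizerIn S R = S := fun R hR hΦR =>
      le_antisymm (normalizerIn_le S R) fun s hs => ⟨hs, by
        haveI := finite_of_le hR
        refine mem_normalizer_of_conj_mem fun x hx => ?_
        have := mul_mem hx (hΦR (htriv s hs x (hR hx)))
        rwa [mul_inv_cancel_left] at this⟩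
    have hfnQ : F.IsFullyNormalized Q := ⟨hQS, fun R _ => by
      rw [hnorm Q hQS hΦQ]; exact Subgroup.card_le_of_le (normalizerIn_le S R)⟩
    have hΦimg : Φ ≤ img f Q := (img_eq_of_stronglyClosed hsc hΦQ hf).ge.trans (img_mono f hΦQ)
    obtain ⟨k, hk, hkQ⟩ := exists_map_to_fullyNormalized hS hF hfnQ (isConj_symm (isConj_iff.mpr ⟨f, hf, rfl⟩))
    rw [hnorm _ hf.img_le hΦimg] at hk
    obtain ⟨s, hs, hsk⟩ := hAutS k hk
    have hQimg : img f Q = Q := by
      refine eq_of_le_of_card_le hQS ?_ hf.card_img.ge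
      intro y hy
      have h1 : k y ∈ Q := hkQ.le (mem_img_of_mem k hy)
      rw [hsk y (hf.img_le hy)] at h1
      have hs' : s ∈ normalizerIn S Q := (hnorm Q hQS hΦQ).ge hs
      have := conj_inv_mem_of_mem_normalizer hs'.2 h1
      simpa [mul_assoc] using this
    obtain ⟨α, hα, hαe⟩ := hf.exists_aut hQimg
    haveI := finite_autGroup F hQS
    set A := F.autGroup Q
    let A₀ : Subgroup A :=
      { carrier := {β | ∀ x ∈ Q, x⁻¹ * autFun (β : MulAut Q) x ∈ Φ}
        one_mem' := fun x hx => by simp [autFun_one hx]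
        mul_mem' := fun {β γ} hβ hγ x hx => by
          rw [Subgroup.coe_mul, autFun_mul _ _ hx]
          have := mul_mem (hγ x hx) (hβ _ (autFun_mem (γ : MulAut Q) hx))
          rwa [mul_assoc, mul_inv_cancel_left] at this
        inv_mem' := fun {β} hβ x hx => by
          have h1 := inv_mem (hβ _ (autFun_mem (β : MulAut Q)⁻¹ hx))
          rw [autFun_apply_inv _ hx, mul_inv_rev, inv_inv] at h1
          exact h1 }
    have hA₀n : A₀.Normal := ⟨fun β hβ γ x hx => by
      have hm := (mem_autGroup_iff hQS).mp γ.2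
      set y := autFun (γ : MulAut Q)⁻¹ x with hy
      have hyQ : y ∈ Q := autFun_mem _ hx
      have h1 := stronglyClosed_apply hsc hm (mul_mem (inv_mem hyQ) (autFun_mem _ hyQ)) (hβ y hyQ)
      rw [hm.map_mul (inv_mem hyQ) (autFun_mem _ hyQ), hm.map_inv hyQ, hy, autFun_apply_inv _ hx] at h1
      show x⁻¹ * autFun ((γ : MulAut Q) * (β : MulAut Q) * (γ : MulAut Q)⁻¹) x ∈ Φ
      rwa [autFun_mul _ _ hx, autFun_mul _ _ hyQ]⟩
    obtain ⟨T, hT⟩ := (isFullyAutomized_of_fullyNormalized hS hF hfnQ).2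
    have hTA : (T : Subgroup A) ≤ A₀ := fun β hβ x hx => by
      rw [hT, Subgroup.mem_subgroupOf] at hβ
      obtain ⟨t, ht, -, hte⟩ := mem_autInducedBy_iff.mp hβ
      rw [hte x hx]
      exact htriv t ht x (hQS hx)
    have htop := Sylow.normalizer_sup_eq_top' T hTA
    have hNA : Subgroup.normalizer ((T : Subgroup A) : Set A) ≤ A₀ := by
      intro β hβ x hx
      have hm := (mem_autGroup_iff hQS).mp β.2
      obtain ⟨k, hk, hke⟩ := receptive_extend (isReceptive_of_fullyNormalized hS hF hfnQ) hm (img_autFun _)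
        hQS (fun g hg => by
          have hgN : g ∈ normalizerIn S Q := (hnorm Q hQS hΦQ).ge hg
          refine ⟨hg, hgN.2, ?_⟩
          have hcg : normalizerInToAut S Q ⟨g, hgN⟩ ∈ A :=
            autInducedBy_le_autGroup hQS (by rw [← range_normalizerInToAut]; exact ⟨_, rfl⟩)
          have h1 : β * ⟨_, hcg⟩ * β⁻¹ ∈ (T : Subgroup A) := (Subgroup.mem_normalizer_iff.mp hβ _).mp (by
            rw [hT, Subgroup.mem_subgroupOf]
            rw [← range_normalizerInToAut]
            exact ⟨_, rfl⟩)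
          rw [hT, Subgroup.mem_subgroupOf] at h1
          obtain ⟨h, hh, -, he⟩ := mem_autInducedBy_iff.mp h1
          refine ⟨h, hh, fun y hy => ?_⟩
          rw [← he _ (autFun_mem _ hy)]
          show _ = autFun ((β : MulAut Q) * normalizerInToAut S Q ⟨g, hgN⟩ * (β : MulAut Q)⁻¹) _
          rw [autFun_mul _ _ (autFun_mem _ hy), autFun_mul _ _ (autFun_mem _ (autFun_mem _ hy)),
            autFun_inv_apply _ hy, autFun_normalizerInToAut ⟨g, hgN⟩ hy])
      obtain ⟨t, ht, hte⟩ := hAutS k hk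
      rw [← hke x hx, hte x (hQS hx)]
      exact htriv t ht x (hQS hx)
    have hall : A₀ = ⊤ := top_le_iff.mp (htop.ge.trans (sup_le hNA le_rfl))
    intro x hx
    have := (hall.ge (Subgroup.mem_top (⟨α, hα⟩ : A)) : (⟨α, hα⟩ : A) ∈ A₀) x hx
    rwa [hαe x hx] at this
  have hmod : ∀ (Q : Subgroup Ω) (f : Ω → Ω), Map F Q f → ∀ x ∈ Q, x⁻¹ * f x ∈ Φ := by
    intro Q f hf x hx
    obtain ⟨k, hk, hkf⟩ := exists_modExt hS hF hsc hf
    have h1 := hlarge _ k le_sup_right hk x (Subgroup.mem_sup_left hx)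
    have := mul_mem h1 (hkf x hx)
    rwa [mul_assoc, mul_inv_cancel_left] at this
  rw [FusionSystem.hyperfocalSubgroup, Subgroup.closure_le]
  rintro _ ⟨Q, α, x, hQ, -, rfl⟩
  have := hmod Q _ ((mem_autGroup_iff hQ).1 α.2) x x.2
  rwa [autFun_coe] at this

/-- The normalizer system of a subgroup between `[S, S]` and `Φ(S)` is inner. -/
theorem normalizer_inner (hS : IsPGroup p S) (hF : F.IsSaturated p)
    (hAutS : ∀ f, Map F S f → ∃ s ∈ S, ∀ x ∈ S, f x = s * x * s⁻¹) {Q : Subgroup Ω}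
    (h1 : (commutator ↥S).map S.subtype ≤ Q) (h2 : Q ≤ (frattini ↥S).map S.subtype)
    (N : FusionSystem (normalizerIn S Q)) (hN : F.IsNormalizerSystem Q N) :
    N = innerFusionSystem (normalizerIn S Q) := by
  have hQS : Q ≤ S := h2.trans (Subgroup.map_subtype_le _)
  have htriv : ∀ s ∈ S, ∀ x ∈ S, x⁻¹ * (s * x * s⁻¹) ∈ Q := fun s hs x hx => by
    refine h1 ⟨⟨x, hx⟩⁻¹ * (⟨s, hs⟩ * ⟨x, hx⟩ * ⟨s, hs⟩⁻¹), ?_, rfl⟩
    rw [show (⟨x, hx⟩ : S)⁻¹ * (⟨s, hs⟩ * ⟨x, hx⟩ * ⟨s, hs⟩⁻¹) = ⁅(⟨x, hx⟩ : S)⁻¹, (⟨s, hs⟩ : S)⁆ by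
      rw [commutatorElement_def]; group]
    exact Subgroup.commutator_mem_commutator (Subgroup.mem_top _) (Subgroup.mem_top _)
  have hT : normalizerIn S Q = S := le_antisymm (normalizerIn_le S Q) fun s hs => ⟨hs, by
    haveI := finite_of_le hQS
    refine mem_normalizer_of_conj_mem fun x hx => ?_
    have := mul_mem hx (htriv s hs x (hQS hx))
    rwa [mul_inv_cancel_left] at this⟩
  have hfn : F.IsFullyNormalized Q := ⟨hQS, fun R _ => by
    rw [hT]; exact Subgroup.card_le_of_le (normalizerIn_le S R)⟩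
  haveI := finite_of_le (normalizerIn_le S Q)
  have hNs := normalizerSystem_saturated hS hF hfn hN
  have hsc : N.StronglyClosed Q := stronglyClosed_iff.mpr ⟨le_normalizerIn hQS, fun R f hR hf x hx => by
    obtain ⟨-, -, -, k, -, hkf, hkQ⟩ := (map_of_isNormalizerSystem hN).1 hf
    rw [← hkf x hx]
    exact hkQ.le (mem_img_of_mem k (hR hx))⟩
  have key : ∀ (T : Subgroup Ω) (E : FusionSystem T), T = S → E.IsSaturated p → E.StronglyClosed Q →
      (∀ f, Map E T f → Map F T f) → E = innerFusionSystem T := by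
    rintro T E rfl hEs hEsc hEF
    exact eq_inner_of_hyperfocal_eq_bot hS hEs (hyperfocal_eq_bot hS hEs
      ((hyperfocal_le_of_stronglyClosed hS hEs htriv hEsc fun f hf => hAutS f (hEF f hf)).trans h2))
  exact key _ N hT hNs hsc fun f hf => ((map_of_isNormalizerSystem hN).1 hf).1

theorem autS_inner_of_normalizer (hS : IsPGroup p S)
    (hN : ∀ N : FusionSystem (normalizerIn S S), F.IsNormalizerSystem S N →
      ∀ P : Subgroup Ω, N.Hom P = (innerFusionSystem (normalizerIn S S)).Hom P) :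
    ∀ f, Map F S f → ∃ s ∈ S, ∀ x ∈ S, f x = s * x * s⁻¹ := by
  intro f hf
  obtain ⟨N, hN'⟩ := exists_normalizerSystem F (le_refl S)
  have himg : img f S = S := eq_of_le_of_card_le le_rfl hf.img_le hf.card_img.ge
  have hm : Map N S f := (map_of_isNormalizerSystem hN').2 ⟨hf, le_normalizerIn le_rfl,
    fun x hx => le_normalizerIn le_rfl (hf.apply_mem hx), f, by rwa [sup_idem], fun _ _ => rfl, himg⟩
  obtain ⟨ψ, hψ, he⟩ := hm
  rw [hN N hN' S] at hψ
  obtain ⟨-, g, hg, hge⟩ := hψ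
  exact ⟨g, hg.1, fun x hx => by rw [← he ⟨x, hx⟩, hge]⟩

theorem inner_iff (hS : IsPGroup p S) (hF : F.IsSaturated p) :
    (∀ P : Subgroup Ω, F.Hom P = (innerFusionSystem S).Hom P) ↔
      (∀ N : FusionSystem (normalizerIn S S), F.IsNormalizerSystem S N →
        ∀ P : Subgroup Ω, N.Hom P = (innerFusionSystem (normalizerIn S S)).Hom P) ∧
      F.StronglyClosed ((frattini ↥S).map S.subtype) := by
  set Φ := (frattini ↥S).map S.subtype with hΦdef
  have hΦS : Φ ≤ S := Subgroup.map_subtype_le _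
  have hΦn : ∀ s ∈ S, ∀ x ∈ Φ, s * x * s⁻¹ ∈ Φ := fun s hs => by
    rintro _ ⟨y, hy, rfl⟩
    exact ⟨_, (inferInstance : (frattini ↥S).Normal).conj_mem y hy ⟨s, hs⟩, rfl⟩
  constructor
  · intro h
    refine ⟨fun N hN P => ?_, stronglyClosed_iff.mpr ⟨hΦS, fun R f hR hf x hx => ?_⟩⟩
    · ext φ
      constructor
      · intro hφ
        obtain ⟨hm, hP, -, -⟩ := (map_of_isNormalizerSystem hN).1 (map_ext hφ)
        obtain ⟨ψ, hψ, he⟩ := hm
        rw [h P] at hψ
        obtain ⟨-, g, hg, hge⟩ := hψ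
        refine ⟨hP, g, ⟨hg, Subgroup.le_normalizer hg⟩, fun x => ?_⟩
        rw [← hge x, he x, ext_coe]
      · rintro ⟨hP, g, hg, hge⟩
        refine hN P ▸ mem_normalizerHom_iff.mpr ?_
        refine ⟨(map_conj (hP.trans (normalizerIn_le S S)) hg.1).congr fun x hx => ?_, hP, fun x hx => ?_,
          fun x => g * x * g⁻¹, map_conj (sup_le (hP.trans (normalizerIn_le S S)) le_rfl) hg.1,
          fun x hx => ?_, ?_⟩
        · rw [ext_apply φ hx, hge]
        · rw [ext_apply φ hx, hge]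
          exact mul_mem (mul_mem hg (hP hx)) (inv_mem hg)
        · rw [ext_apply φ hx, hge]
        · exact eq_of_le_of_card_le le_rfl (img_le_iff.mpr fun x hx => S.mul_mem (S.mul_mem hg.1 hx) (S.inv_mem hg.1))
            (map_conj (F := F) le_rfl hg.1).card_img.ge
    · obtain ⟨ψ, hψ, he⟩ := hf
      rw [h R] at hψ
      obtain ⟨-, g, hg, hge⟩ := hψ
      rw [← he ⟨x, hx⟩, hge]
      exact hΦn g hg x (hR hx)
  · rintro ⟨hN, hsc⟩ P
    have htriv : ∀ s ∈ S, ∀ x ∈ S, x⁻¹ * (s * x * s⁻¹) ∈ Φ := fun s hs x hx => by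
      refine ⟨⟨x, hx⟩⁻¹ * (⟨s, hs⟩ * ⟨x, hx⟩ * ⟨s, hs⟩⁻¹), ?_, rfl⟩
      haveI := hS.isNilpotent
      have := Subgroup.commutator_le.1 (show commutator ↥S ≤ frattini ↥S from
        CfsgLib.Core.pgroup_commutator_le_frattini hS) (⟨x, hx⟩⁻¹) (Subgroup.mem_top _) ⟨s, hs⟩ (Subgroup.mem_top _)
      rwa [commutatorElement_def, inv_inv, show (⟨x, hx⟩ : S)⁻¹ * ⟨s, hs⟩ * ⟨x, hx⟩ * ⟨s, hs⟩⁻¹ =
        ⟨x, hx⟩⁻¹ * (⟨s, hs⟩ * ⟨x, hx⟩ * ⟨s, hs⟩⁻¹) by group] at this
    have hAutS : ∀ f, Map F S f → ∃ s ∈ S, ∀ x ∈ S, f x = s * x * s⁻¹ := by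
      intro f hf
      obtain ⟨N, hN'⟩ := exists_normalizerSystem F (le_refl S)
      have himg : img f S = S := eq_of_le_of_card_le le_rfl hf.img_le hf.card_img.ge
      have hm : Map N S f := (map_of_isNormalizerSystem hN').2 ⟨hf, le_normalizerIn le_rfl,
        fun x hx => le_normalizerIn le_rfl (hf.apply_mem hx), f, by rwa [sup_idem], fun _ _ => rfl, himg⟩
      obtain ⟨ψ, hψ, he⟩ := hm
      rw [hN N hN' S] at hψ
      obtain ⟨-, g, hg, hge⟩ := hψ
      exact ⟨g, hg.1, fun x hx => by rw [← he ⟨x, hx⟩, hge]⟩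
    have hhyp : F.hyperfocalSubgroup p ≤ Φ := hyperfocal_le_of_stronglyClosed hS hF htriv hsc hAutS
    rw [eq_inner_of_hyperfocal_eq_bot hS hF (hyperfocal_eq_bot hS hF hhyp)]

end CfsgLib.TwoFusion.Tate
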